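import Cfsg.Agent.Lib.Solv.Basic
import Cfsg.Prelude.Def_Solvable
import Mathlib.GroupTheory.Frattini

/-!
The cores `O_p`, `O_{p'}` and the Fitting subgroup of a finite group.
-/

set_option autoImplicit false

open scoped Pointwise

namespace Cfsg.Agent.Solv

variable {G : Type*} [Group G]

theorem normal_le_pCore {p : ℕ} {N : Subgroup G} [N.Normal] (h : IsPGroup p N) :
    N ≤ Cfsg.pCore p G := le_sSup ⟨inferInstance, h⟩

theorem pCore_normal (p : ℕ) : (Cfsg.pCore p G).Normal :=
  Subgroup.sSup_normal _ fun _ h => h.1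

theorem pCore_isPGroup [Finite G] (p : ℕ) [Fact p.Prime] : IsPGroup p (Cfsg.pCore p G) := by
  obtain ⟨M, -, hM⟩ := Finite.exists_le_maximal
    (p := fun N : Subgroup G => N.Normal ∧ IsPGroup p N) (a := ⊥)
    ⟨inferInstance, IsPGroup.of_bot⟩
  have := hM.1.1
  suffices h : Cfsg.pCore p G = M by rw [h]; exact hM.1.2
  refine le_antisymm (sSup_le ?_) (normal_le_pCore hM.1.2)
  rintro N ⟨hN, hNp⟩
  have h2 : M ⊔ N ≤ M := hM.2 ⟨inferInstance, hM.1.2.to_sup_of_normal_right hNp⟩ le_sup_left
  exact le_sup_right.trans h2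

theorem map_subtype_normal_of_characteristic (N : Subgroup G) [N.Normal] (K : Subgroup N)
    [K.Characteristic] : (K.map N.subtype).Normal := inferInstance

theorem normal_le_pPrimeCore {p : ℕ} {N : Subgroup G} [N.Normal]
    (h : (Nat.card N).Coprime p) : N ≤ Cfsg.pPrimeCore p G := le_sSup ⟨inferInstance, h⟩

theorem pPrimeCore_normal (p : ℕ) : (Cfsg.pPrimeCore p G).Normal :=
  Subgroup.sSup_normal _ fun _ h => h.1

theorem card_sup_dvd [Finite G] (N H : Subgroup G) [N.Normal] :
    Nat.card (N ⊔ H : Subgroup G) ∣ Nat.card N * Nat.card H :=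
  Dvd.intro _ (card_sup_mul_card_inf N H)

theorem pPrimeCore_coprime [Finite G] (p : ℕ) :
    (Nat.card (Cfsg.pPrimeCore p G)).Coprime p := by
  obtain ⟨M, -, hM⟩ := Finite.exists_le_maximal
    (p := fun N : Subgroup G => N.Normal ∧ (Nat.card N).Coprime p) (a := ⊥)
    ⟨inferInstance, by simp⟩
  have := hM.1.1
  suffices h : Cfsg.pPrimeCore p G = M by rw [h]; exact hM.1.2
  refine le_antisymm (sSup_le ?_) (normal_le_pPrimeCore hM.1.2)
  rintro N ⟨hN, hNp⟩
  have h2 : M ⊔ N ≤ M := hM.2 ⟨inferInstance,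
    (hM.1.2.mul_left hNp).coprime_dvd_left (card_sup_dvd M N)⟩ le_sup_left
  exact le_sup_right.trans h2

theorem fittingSubgroup_normal : (Cfsg.fittingSubgroup G).Normal :=
  Subgroup.sSup_normal _ fun _ h => h.1

theorem normal_le_fitting {N : Subgroup G} [N.Normal] (h : Group.IsNilpotent N) :
    N ≤ Cfsg.fittingSubgroup G := le_sSup ⟨inferInstance, h⟩

theorem pCore_le_fitting [Finite G] (p : ℕ) [Fact p.Prime] :
    Cfsg.pCore p G ≤ Cfsg.fittingSubgroup G :=
  have := pCore_normal (G := G) p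
  normal_le_fitting (pCore_isPGroup p).isNilpotent

/-- A finite group is generated by the Sylow subgroups chosen one per prime. -/
theorem eq_top_of_forall_sylow_le [Finite G] (H : Subgroup G)
    (h : ∀ p : ℕ, ∀ [Fact p.Prime], ∃ P : Sylow p G, (P : Subgroup G) ≤ H) : H = ⊤ := by
  rw [← Subgroup.index_eq_one]
  by_contra hne
  obtain ⟨p, hp, hdvd⟩ := Nat.exists_prime_and_dvd hne
  have := Fact.mk hp
  obtain ⟨P, hP⟩ := h p
  exact P.not_dvd_index (hdvd.trans (Subgroup.index_dvd_of_le hP))

theorem nilpotent_normal_le_iSup_pCore [Finite G] (N : Subgroup G) [N.Normal]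
    (hN : Group.IsNilpotent N) : N ≤ ⨆ p : Nat.Primes, Cfsg.pCore (p : ℕ) G := by
  rw [← Subgroup.subgroupOf_eq_top]
  refine eq_top_of_forall_sylow_le _ fun p hp => ?_
  obtain ⟨P⟩ : Nonempty (Sylow p N) := inferInstance
  have : (P : Subgroup N).Characteristic :=
    P.characteristic_of_normal inferInstance
  refine ⟨P, ?_⟩
  have h1 : (P : Subgroup N).map N.subtype ≤ Cfsg.pCore p G := normal_le_pCore (P.2.map _)
  exact Subgroup.map_le_iff_le_comap.1
    (h1.trans (le_iSup (fun q : Nat.Primes => Cfsg.pCore (q : ℕ) G) ⟨p, hp.out⟩))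

theorem card_finset_sup_pCore [Finite G] (p : ℕ) [Fact p.Prime] (s : Finset Nat.Primes) :
    (Nat.card (s.sup fun q : Nat.Primes => Cfsg.pCore (q : ℕ) G : Subgroup G)).factorization p
      ≤ (Nat.card (Cfsg.pCore p G)).factorization p * (s.filter fun q : Nat.Primes => (q : ℕ) = p).card := by
  classical
  induction s using Finset.induction with
  | empty => simp
  | insert q s hq ih =>
    have := pCore_normal (G := G) (q : ℕ)
    have hq' := Fact.mk q.2
    rw [Finset.sup_insert]
    set T : Subgroup G := s.sup fun q : Nat.Primes => Cfsg.pCore (q : ℕ) G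
    refine ((Nat.factorization_le_iff_dvd Nat.card_pos.ne'
      (mul_ne_zero Nat.card_pos.ne' Nat.card_pos.ne')).2
      (card_sup_dvd (Cfsg.pCore (q : ℕ) G) T) p).trans ?_
    rw [Nat.factorization_mul Nat.card_pos.ne' Nat.card_pos.ne', Finsupp.add_apply,
      Finset.filter_insert]
    by_cases hqp : (q : ℕ) = p
    · rw [if_pos hqp, Finset.card_insert_of_notMem (by simp [hq]), hqp, mul_add, mul_one, add_comm]
      exact Nat.add_le_add_right ih _
    · rw [if_neg hqp]
      obtain ⟨k, hk⟩ := IsPGroup.iff_card.1 (pCore_isPGroup (G := G) (q : ℕ))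
      rw [hk, q.2.factorization_pow, Finsupp.single_eq_of_ne (Ne.symm hqp), zero_add]
      exact ih

theorem iSup_pCore_factorization_le [Finite G] (p : ℕ) [Fact p.Prime] :
    (Nat.card (⨆ q : Nat.Primes, Cfsg.pCore (q : ℕ) G : Subgroup G)).factorization p
      ≤ (Nat.card (Cfsg.pCore p G)).factorization p := by
  classical
  let L : Set (Subgroup G) := Set.range fun q : Nat.Primes => Cfsg.pCore (q : ℕ) G
  have : ∀ H : L, ∃ q : Nat.Primes, Cfsg.pCore (q : ℕ) G = H := fun H => H.2
  choose f hf using this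
  have : Fintype L := Fintype.ofFinite L
  let s : Finset Nat.Primes := Finset.univ.image f
  have hs : (⨆ q : Nat.Primes, Cfsg.pCore (q : ℕ) G : Subgroup G)
      = s.sup fun q : Nat.Primes => Cfsg.pCore (q : ℕ) G := by
    refine le_antisymm (iSup_le fun q => ?_) (Finset.sup_le fun q _ => le_iSup (fun q : Nat.Primes => Cfsg.pCore (q : ℕ) G) q)
    refine (hf ⟨_, q, rfl⟩).ge.trans ?_
    exact Finset.le_sup (f := fun q : Nat.Primes => Cfsg.pCore (q : ℕ) G)
      (Finset.mem_image_of_mem f (Finset.mem_univ _))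
  rw [hs]
  refine (card_finset_sup_pCore p s).trans ?_
  have hle : (s.filter fun q : Nat.Primes => (q : ℕ) = p).card ≤ 1 :=
    Finset.card_le_one.2 fun a ha b hb =>
      Subtype.ext ((Finset.mem_filter.1 ha).2.trans (Finset.mem_filter.1 hb).2.symm)
  calc _ ≤ (Nat.card (Cfsg.pCore p G)).factorization p * 1 := Nat.mul_le_mul_left _ hle
    _ = _ := mul_one _

theorem iSup_pCore_nilpotent [Finite G] :
    Group.IsNilpotent (⨆ q : Nat.Primes, Cfsg.pCore (q : ℕ) G : Subgroup G) := by
  set F := (⨆ q : Nat.Primes, Cfsg.pCore (q : ℕ) G : Subgroup G)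
  refine (Group.isNilpotent_of_finite_tfae (G := F)).out 0 3 |>.2 ?_
  intro p hp P
  have hle : Cfsg.pCore p G ≤ F :=
    le_iSup (fun q : Nat.Primes => Cfsg.pCore (q : ℕ) G) ⟨p, hp.out⟩
  have hn : ((Cfsg.pCore p G).subgroupOf F).Normal := (pCore_normal p).subgroupOf F
  have hle' : (Cfsg.pCore p G).subgroupOf F ≤ P :=
    IsPGroup.le_sylow_of_normal ((pCore_isPGroup p).of_equiv
      (Subgroup.subgroupOfEquivOfLe hle).symm) P
  have : (P : Subgroup F) = (Cfsg.pCore p G).subgroupOf F := by
    refine (Subgroup.eq_of_le_of_card_ge hle' ?_).symm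
    obtain ⟨k, hk⟩ := IsPGroup.iff_card.1 (pCore_isPGroup (G := G) p)
    rw [card_subgroupOf hle, P.card_eq_multiplicity, hk]
    refine Nat.pow_le_pow_right hp.out.pos ?_
    have := iSup_pCore_factorization_le (G := G) p
    rwa [hk, Nat.factorization_pow_self hp.out] at this
  rw [this]
  exact hn

theorem fitting_eq_iSup_pCore [Finite G] :
    Cfsg.fittingSubgroup G = ⨆ q : Nat.Primes, Cfsg.pCore (q : ℕ) G := by
  refine le_antisymm (sSup_le ?_) (iSup_le fun q => ?_)
  · rintro N ⟨hN, hn⟩
    exact nilpotent_normal_le_iSup_pCore N hn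
  · have := Fact.mk q.2
    exact pCore_le_fitting _

theorem fittingSubgroup_nilpotent [Finite G] : Group.IsNilpotent (Cfsg.fittingSubgroup G) := by
  rw [fitting_eq_iSup_pCore]; exact iSup_pCore_nilpotent

theorem fitting_ne_bot [Finite G] [Nontrivial G] (hG : Group.IsSolvable G) :
    Cfsg.fittingSubgroup G ≠ ⊥ := by
  obtain ⟨N, hN, hNb, hmin⟩ := exists_minimal_normal (G := G)
  obtain ⟨-, p, hp, -, hpg⟩ := minimal_normal_elementaryAbelian N inferInstance hNb hmin
  have := Fact.mk hp
  exact fun h => hNb (eq_bot_iff.2 (h ▸ normal_le_fitting hpg.isNilpotent))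

/-- `C(F(G)) ≤ F(G)` for solvable `G`. -/
theorem centralizer_fitting_le [Finite G] (hG : Group.IsSolvable G) :
    Subgroup.centralizer (Cfsg.fittingSubgroup G : Set G) ≤ Cfsg.fittingSubgroup G := by
  have := fittingSubgroup_normal (G := G)
  set F := Cfsg.fittingSubgroup G with hF
  set C := Subgroup.centralizer (F : Set G) with hC
  have hCn : C.Normal := by rw [hC]; infer_instance
  by_contra hne
  set Z := C ⊓ F with hZ
  set f := QuotientGroup.mk' Z
  have hMn : (C.map f).Normal := hCn.map f (QuotientGroup.mk'_surjective Z)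
  have hMb : C.map f ≠ ⊥ := by
    rw [Ne, Subgroup.map_eq_bot_iff, QuotientGroup.ker_mk']
    exact fun h => hne (h.trans inf_le_right)
  obtain ⟨M, hM, hMb', hMC, hmin⟩ := exists_minimal_normal_le (C.map f) hMb
  have hMs : Group.IsSolvable M :=
    have : Group.IsSolvable (G ⧸ Z) :=
      Group.isSolvable_of_surjective (QuotientGroup.mk'_surjective Z)
    inferInstance
  obtain ⟨hMab, -⟩ := minimal_normal_elementaryAbelian M hMs hMb' hmin
  set N := M.comap f ⊓ C with hN
  have hNn : N.Normal := inferInstance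
  have hNnil : Group.IsNilpotent N := by
    have hker : ((f.comp N.subtype).codRestrict M fun x => x.2.1).ker ≤ Subgroup.center N := by
      intro x hx
      have hx' : (x : G) ∈ Z := (QuotientGroup.eq_one_iff _).1 (congrArg Subtype.val hx)
      rw [Subgroup.mem_center_iff]
      intro y
      have h2 : (y : G) * x = x * y :=
        (Subgroup.mem_centralizer_iff.1 y.2.2 x hx'.2).symm
      exact Subtype.ext h2
    have : Group.IsNilpotent M :=
      @CommGroup.isNilpotent M { (inferInstance : Group M) with mul_comm := hMab.is_comm.comm }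
    exact Subgroup.isNilpotent_of_ker_le_center _ hker
  have hle : N ≤ F := normal_le_fitting hNnil
  refine hMb' (eq_bot_iff.2 fun m hm => ?_)
  obtain ⟨c, hc, rfl⟩ := hMC hm
  exact Subgroup.mem_bot.2 ((QuotientGroup.eq_one_iff c).2 ⟨hc, hle ⟨hm, hc⟩⟩)

end Cfsg.Agent.Solv
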