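import Cfsg.Agent.Lib.Solv.Coprime
import Cfsg.Prelude.Def_Solvable

/-!
Fixed-point-free action on an abelian group: coprimality, norm identity, no nontrivial partition.
-/

set_option autoImplicit false

open scoped Pointwise

namespace Cfsg.Agent.Solv

universe u

variable {G : Type u} [Group G]

/-- Conjugation action of an element of `N(K)` as an endomorphism of `K`. -/
noncomputable def conjHom {K : Subgroup G} (a : G) (ha : a ∈ Subgroup.normalizer (K : Set G)) :
    K →* K :=
  ((MulAut.conj a).toMonoidHom.comp K.subtype).codRestrict K fun k =>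
    conj_mem_of_mem_normalizer ha k.2

theorem conjHom_coe {K : Subgroup G} (a : G) (ha : a ∈ Subgroup.normalizer (K : Set G)) (k : K) :
    ((conjHom a ha k : K) : G) = a * k * a⁻¹ := rfl

/-- A group acting fixed-point-freely has order prime to that of the group acted on. -/
theorem fpf_coprime [Finite G] {A V : Subgroup G} (hAV : A ≤ Subgroup.normalizer (V : Set G))
    (hfpf : ∀ a ∈ A, a ≠ 1 → V ⊓ Subgroup.centralizer {a} = ⊥) :
    (Nat.card A).Coprime (Nat.card V) := by
  classical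
  letI act : MulAction A V :=
    { smul := fun a v => conjHom (a : G) (hAV a.2) v
      one_smul := fun v => Subtype.ext (by show ((1 : A) : G) * v * ((1 : A) : G)⁻¹ = v; simp)
      mul_smul := fun a b v => Subtype.ext (by
        show ((a * b : A) : G) * v * ((a * b : A) : G)⁻¹ = (a : G) * ((b : G) * v * (b : G)⁻¹) * (a : G)⁻¹
        push_cast; group) }
  have := Fintype.ofFinite A
  have := Fintype.ofFinite V
  have := Fintype.ofFinite (MulAction.orbitRel.Quotient A V)
  have hfix : ∀ a : A, a ≠ 1 → Fintype.card (MulAction.fixedBy V a) = 1 := by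
    intro a ha
    rw [Fintype.card_eq_one_iff]
    refine ⟨⟨1, Subtype.ext (by show (a : G) * ((1 : V) : G) * (a : G)⁻¹ = _; simp)⟩,
      fun v => Subtype.ext ?_⟩
    obtain ⟨v, hv⟩ := v
    have hv' : (a : G) * v * (a : G)⁻¹ = v := congrArg Subtype.val hv
    have : (v : G) ∈ V ⊓ Subgroup.centralizer {(a : G)} := ⟨v.2,
      Subgroup.mem_centralizer_singleton_iff.2 (mul_inv_eq_iff_eq_mul.1 hv').symm⟩
    rw [hfpf a a.2 (fun e => ha (Subtype.ext e)), Subgroup.mem_bot] at this
    exact Subtype.ext this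
  have h := MulAction.sum_card_fixedBy_eq_card_orbits_mul_card_group A V
  rw [← Finset.add_sum_erase _ _ (Finset.mem_univ (1 : A)),
    Finset.sum_congr rfl (fun a hm => hfix a (Finset.ne_of_mem_erase hm)), Finset.sum_const,
    Finset.card_erase_of_mem (Finset.mem_univ _), Finset.card_univ, smul_eq_mul, mul_one] at h
  have h1 : Fintype.card (MulAction.fixedBy V (1 : A)) = Nat.card V := by
    rw [← Nat.card_eq_fintype_card]
    exact Nat.card_congr (Equiv.subtypeUnivEquiv fun q => one_smul A q)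
  rw [h1, ← Nat.card_eq_fintype_card (α := A)] at h
  generalize Fintype.card (MulAction.orbitRel.Quotient A V) = o at h
  have hpos : 0 < Nat.card A := Nat.card_pos
  refine Nat.coprime_of_dvd fun q hq hqA hqV => hq.ne_one (Nat.dvd_one.1 ?_)
  have h2 : Nat.card V + Nat.card A = o * Nat.card A + 1 := by omega
  exact (Nat.dvd_add_right (dvd_mul_of_dvd_right hqA o)).1 (h2 ▸ dvd_add hqV hqA)

/-- If the non-identity elements of a fixed-point-free group `A` are partitioned by `r + 1`
nontrivial subgroups, then `v ^ r = 1` on the abelian group acted on. -/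
theorem fpf_partition [Finite G] {A V : Subgroup G} [IsMulCommutative V]
    (hAV : A ≤ Subgroup.normalizer (V : Set G))
    (hfpf : ∀ a ∈ A, a ≠ 1 → V ⊓ Subgroup.centralizer {a} = ⊥)
    {ι : Type*} [Fintype ι] (K : ι → Subgroup G) (hKA : ∀ i, K i ≤ A) (hKb : ∀ i, K i ≠ ⊥)
    (huniq : ∀ a ∈ A, a ≠ 1 → ∃! i, a ∈ K i) (hA : A ≠ ⊥) (r : ℕ)
    (hr : Fintype.card ι = r + 1) : ∀ v ∈ V, v ^ r = 1 := by
  classical
  intro v₀ hv₀
  letI : CommGroup V :=
    { (inferInstance : Group V) with mul_comm := fun x y => IsMulCommutative.is_comm.comm x y }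
  have := Fintype.ofFinite A
  let φ : A → (V →* V) := fun a => conjHom (a : G) (hAV a.2)
  have hφ : ∀ (a : A) (v : V), ((φ a v : V) : G) = a * v * (a : G)⁻¹ := fun a v => rfl
  set v : V := ⟨v₀, hv₀⟩ with hv
  have norm_one : ∀ B : Subgroup G, B ≤ A → B ≠ ⊥ →
      ∏ a ∈ Finset.univ.filter (fun a : A => (a : G) ∈ B), φ a v = 1 := by
    intro B hB hBb
    obtain ⟨⟨b, hb⟩, hb1⟩ := Subgroup.ne_bot_iff_exists_ne_one.1 hBb
    set w := ∏ a ∈ Finset.univ.filter (fun a : A => (a : G) ∈ B), φ a v with hw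
    have hfix : φ ⟨b, hB hb⟩ w = w := by
      rw [hw, map_prod]
      refine Finset.prod_equiv (Equiv.mulLeft (⟨b, hB hb⟩ : A)) (fun a => ?_) (fun a _ => ?_)
      · simp only [Finset.mem_filter, Finset.mem_univ, true_and, Equiv.coe_mulLeft, Subgroup.coe_mul]
        exact (B.mul_mem_cancel_left hb).symm
      · refine Subtype.ext ?_
        simp only [Equiv.coe_mulLeft, hφ, Subgroup.coe_mul]
        group
    have hw' : (w : G) ∈ V ⊓ Subgroup.centralizer {b} := ⟨w.2,
      Subgroup.mem_centralizer_singleton_iff.2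
        (mul_inv_eq_iff_eq_mul.1 (congrArg Subtype.val hfix)).symm⟩
    rw [hfpf b (hB hb) (fun e => hb1 (Subtype.ext e)), Subgroup.mem_bot] at hw'
    exact Subtype.ext hw'
  have hall : ∏ a : A, φ a v = 1 := by
    have h := norm_one A le_rfl hA
    rwa [Finset.filter_true_of_mem (fun a _ => a.2)] at h
  have hone : φ 1 v = v := Subtype.ext (by rw [hφ]; simp)
  have hsplit : ∀ B : Subgroup G, B ≤ A → B ≠ ⊥ →
      v * ∏ a ∈ (Finset.univ.erase (1 : A)).filter (fun a : A => (a : G) ∈ B), φ a v = 1 := by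
    intro B hB hBb
    nth_rw 1 [← hone]
    rw [Finset.filter_erase, Finset.mul_prod_erase _ (fun a => φ a v)
      (by simp : (1 : A) ∈ Finset.univ.filter (fun a : A => (a : G) ∈ B))]
    exact norm_one B hB hBb
  have hb : ∀ a : A, a ≠ 1 → ∃! i, (a : G) ∈ K i := fun a ha =>
    huniq a a.2 (fun e => ha (Subtype.ext e))
  have hprod : ∏ i, ∏ a ∈ (Finset.univ.erase (1 : A)).filter (fun a : A => (a : G) ∈ K i), φ a v =
      ∏ a ∈ Finset.univ.erase (1 : A), φ a v := by
    simp only [Finset.prod_filter]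
    rw [Finset.prod_comm]
    refine Finset.prod_congr rfl fun a ha => ?_
    obtain ⟨i, hi, hiu⟩ := hb a (Finset.ne_of_mem_erase ha)
    rw [Finset.prod_eq_single i (fun j _ hj => if_neg fun h => hj (hiu j h)) (by simp), if_pos hi]
  have h1 : ∏ i, (v * ∏ a ∈ (Finset.univ.erase (1 : A)).filter (fun a : A => (a : G) ∈ K i), φ a v) = 1 :=
    Finset.prod_eq_one fun i _ => hsplit (K i) (hKA i) (hKb i)
  rw [Finset.prod_mul_distrib, Finset.prod_const, Finset.card_univ, hr, hprod, pow_succ,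
    mul_assoc] at h1
  have h2 : v * ∏ a ∈ Finset.univ.erase (1 : A), φ a v = 1 := by
    nth_rw 1 [← hone]
    rw [Finset.mul_prod_erase _ (fun a => φ a v) (Finset.mem_univ _)]
    exact hall
  rw [h2, mul_one] at h1
  exact congrArg Subtype.val h1

theorem fpf_partition_false [Finite G] {A V : Subgroup G} [IsMulCommutative V] (hV : V ≠ ⊥)
    (hAV : A ≤ Subgroup.normalizer (V : Set G))
    (hfpf : ∀ a ∈ A, a ≠ 1 → V ⊓ Subgroup.centralizer {a} = ⊥)
    {ι : Type*} [Fintype ι] (K : ι → Subgroup G) (hKA : ∀ i, K i ≤ A) (hKb : ∀ i, K i ≠ ⊥)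
    (huniq : ∀ a ∈ A, a ≠ 1 → ∃! i, a ∈ K i) (hA : A ≠ ⊥) (r : ℕ)
    (hr : Fintype.card ι = r + 1) (hdvd : ∀ q : ℕ, q.Prime → q ∣ r → q ∣ Nat.card A) : False := by
  obtain ⟨⟨v, hv⟩, hv1⟩ := Subgroup.ne_bot_iff_exists_ne_one.1 hV
  have h := fpf_partition hAV hfpf K hKA hKb huniq hA r hr v hv
  have hco := fpf_coprime hAV hfpf
  refine hv1 (Subtype.ext (orderOf_eq_one_iff.1 ?_))
  by_contra hne
  obtain ⟨q, hq, hqd⟩ := Nat.exists_prime_and_dvd hne
  refine hq.ne_one (Nat.eq_one_of_dvd_coprimes hco (hdvd q hq (hqd.trans (orderOf_dvd_of_pow_eq_one h))) ?_)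
  exact hqd.trans ((Subgroup.orderOf_mk v hv).symm ▸ orderOf_dvd_natCard _)

end Cfsg.Agent.Solv
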