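import Cfsg.Agent.Lib.Solv.Basic
import Cfsg.Agent.Lib.Solv.FPF
import Mathlib.NumberTheory.Multiplicity
import Mathlib.RingTheory.Coprime.Lemmas
import Mathlib.RingTheory.Int.Basic
import Mathlib.FieldTheory.Finite.Basic
import Mathlib.RingTheory.PrincipalIdealDomain
import Mathlib.Tactic.LinearCombination
import Mathlib.GroupTheory.SpecificGroups.Quaternion

/-!
`p`-groups with a unique subgroup of order `p` are cyclic or generalized quaternion.
-/

set_option autoImplicit false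

open scoped Pointwise

namespace Cfsg.Agent.Solv

universe u

variable {G : Type u} [Group G]

/-- Any two elements of order dividing `p` generate comparable cyclic groups. -/
def UniqueOrderP (p : ℕ) (G : Type u) [Group G] : Prop :=
  ∀ x y : G, x ^ p = 1 → y ^ p = 1 → y ≠ 1 → x ∈ Subgroup.zpowers y

theorem uniqueOrderP_of_subgroups [Finite G] {p : ℕ} [Fact p.Prime]
    (h : ∀ H K : Subgroup G, Nat.card H = p → Nat.card K = p → H = K) : UniqueOrderP p G := by
  intro x y hx hy hy1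
  by_cases hx1 : x = 1
  · rw [hx1]; exact Subgroup.one_mem _
  rw [h (Subgroup.zpowers y) (Subgroup.zpowers x) (by rw [Nat.card_zpowers, orderOf_eq_prime hy hy1])
    (by rw [Nat.card_zpowers, orderOf_eq_prime hx hx1])]
  exact Subgroup.mem_zpowers x

theorem abelian_cyclic_of_unique [Finite G] {p : ℕ} [Fact p.Prime] (hG : IsPGroup p G)
    (hu : UniqueOrderP p G) (A : Subgroup G) (hA : ∀ x ∈ A, ∀ y ∈ A, x * y = y * x) :
    ∃ a ∈ A, A = Subgroup.zpowers a := by
  classical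
  have hp : p.Prime := Fact.out
  have := Fintype.ofFinite A
  obtain ⟨⟨a, ha⟩, -, hmax⟩ := Finset.exists_max_image (Finset.univ : Finset A)
    (fun x => orderOf (x : G)) Finset.univ_nonempty
  refine ⟨a, ha, le_antisymm (fun b hb => ?_) (Subgroup.zpowers_le.2 ha)⟩
  obtain ⟨n, hn⟩ := IsPGroup.iff_orderOf.1 hG a
  induction hk : orderOf b using Nat.strong_induction_on generalizing b with
  | _ k ih =>
    subst hk
    by_cases hb1 : b = 1
    · rw [hb1]; exact Subgroup.one_mem _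
    obtain ⟨l, hl⟩ := IsPGroup.iff_orderOf.1 hG b
    have hl0 : l ≠ 0 := by
      rintro rfl
      exact hb1 (orderOf_eq_one_iff.1 (by simpa using hl))
    have hlt : orderOf (b ^ p) < orderOf b := by
      rw [orderOf_pow_of_dvd hp.ne_zero (by rw [hl]; exact dvd_pow_self p hl0)]
      exact Nat.div_lt_self (orderOf_pos b) hp.one_lt
    obtain ⟨j, hj⟩ := ih _ hlt (b ^ p) (A.pow_mem hb p) rfl
    have hj' : a ^ j = b ^ p := hj
    have hln : l ≤ n := by
      have := hmax ⟨b, hb⟩ (Finset.mem_univ _)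
      simp only [hl, hn] at this
      exact (Nat.pow_le_pow_iff_right hp.one_lt).1 this
    have hn0 : n ≠ 0 := by omega
    have hpj : (p : ℤ) ∣ j := by
      have h1 : a ^ (j * (p : ℤ) ^ (n - 1)) = 1 := by
        rw [zpow_mul, hj', ← Nat.cast_pow, zpow_natCast, ← pow_mul, ← pow_succ',
          Nat.sub_add_cancel (Nat.one_le_iff_ne_zero.2 hn0)]
        exact orderOf_dvd_iff_pow_eq_one.1 (hl ▸ pow_dvd_pow p hln)
      have h2 := orderOf_dvd_iff_zpow_eq_one.2 h1
      rw [hn, Nat.cast_pow, ← Nat.sub_add_cancel (Nat.one_le_iff_ne_zero.2 hn0), pow_succ,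
        Nat.add_sub_cancel, mul_comm j] at h2
      exact Int.dvd_of_mul_dvd_mul_left (pow_ne_zero _ (by exact_mod_cast hp.ne_zero)) h2
    obtain ⟨i, rfl⟩ := hpj
    have hbc : Commute b ((a ^ i)⁻¹) := hA b hb _ (A.inv_mem (A.zpow_mem ha i))
    have hord : (b * (a ^ i)⁻¹) ^ p = 1 := by
      rw [hbc.mul_pow, inv_pow, ← zpow_natCast (a ^ i), ← zpow_mul, mul_comm i, hj', mul_inv_cancel]
    have ha1 : a ^ p ^ (n - 1) ≠ 1 := pow_ne_one_of_lt_orderOf (pow_ne_zero _ hp.ne_zero)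
      (hn ▸ Nat.pow_lt_pow_right hp.one_lt (by omega))
    have hap : (a ^ p ^ (n - 1)) ^ p = 1 := by
      rw [← pow_mul, ← pow_succ, Nat.sub_add_cancel (Nat.one_le_iff_ne_zero.2 hn0), ← hn,
        pow_orderOf_eq_one]
    have hmem : b * (a ^ i)⁻¹ ∈ Subgroup.zpowers a :=
      (Subgroup.zpowers_le.2 (Subgroup.pow_mem _ (Subgroup.mem_zpowers a) _) : _ ≤ Subgroup.zpowers a)
        (hu _ _ hord hap ha1)
    have := Subgroup.mul_mem _ hmem (Subgroup.zpow_mem_zpowers a i)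
    rwa [inv_mul_cancel_right] at this

theorem exists_maximal_abelian_normal [Finite G] {p : ℕ} [Fact p.Prime] (hG : IsPGroup p G) :
    ∃ A : Subgroup G, A.Normal ∧ (∀ x ∈ A, ∀ y ∈ A, x * y = y * x) ∧
      Subgroup.centralizer (A : Set G) = A := by
  obtain ⟨A, -, hA⟩ := Finite.exists_le_maximal
    (p := fun A : Subgroup G => A.Normal ∧ ∀ x ∈ A, ∀ y ∈ A, x * y = y * x) (a := ⊥)
    ⟨inferInstance, fun x hx y hy => by rw [Subgroup.mem_bot.1 hx, Subgroup.mem_bot.1 hy]⟩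
  obtain ⟨hAn, hAab⟩ := hA.1
  refine ⟨A, hAn, hAab, le_antisymm ?_ fun x hx => Subgroup.mem_centralizer_iff.2 fun y hy => hAab y hy x hx⟩
  by_contra hne
  set C := Subgroup.centralizer (A : Set G) with hC
  have hCn : C.Normal := by rw [hC]; infer_instance
  set f := QuotientGroup.mk' A
  have hn : (C.map f).Normal := hCn.map f (QuotientGroup.mk'_surjective A)
  have hb : C.map f ≠ ⊥ := by
    rw [Ne, Subgroup.map_eq_bot_iff, QuotientGroup.ker_mk']; exact hne
  have := (Subgroup.nontrivial_iff_ne_bot _).2 hb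
  have hq : IsPGroup p (G ⧸ A) := hG.to_quotient A
  have hq' : IsPGroup p (ConjAct (G ⧸ A)) := hq.of_equiv ConjAct.toConjAct
  have hd : p ∣ Nat.card (C.map f) := by
    obtain ⟨k, hk⟩ := IsPGroup.iff_card.mp (hq.to_subgroup (C.map f))
    rw [hk]
    refine dvd_pow_self p fun h0 => ?_
    rw [h0, pow_zero] at hk
    have := Finite.one_lt_card (α := C.map f)
    omega
  obtain ⟨⟨_, z, hzC, rfl⟩, hz, hz1⟩ :=
    hq'.exists_fixed_point_of_prime_dvd_card_of_fixed_point (C.map f) hd (a := (1 : C.map f))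
      (fun g => smul_one g)
  have hzc : ∀ g : G ⧸ A, g * f z * g⁻¹ = f z := fun g =>
    congrArg Subtype.val (hz (ConjAct.toConjAct g))
  set B := (Subgroup.zpowers (f z)).comap f
  have hBn : B.Normal := by
    refine Subgroup.Normal.comap ⟨fun y hy g => ?_⟩ f
    obtain ⟨i, rfl⟩ := hy
    rw [← conj_zpow, hzc]
    exact Subgroup.zpow_mem_zpowers _ i
  have hBab : ∀ x ∈ B, ∀ y ∈ B, x * y = y * x := by
    have hdec : ∀ x ∈ B, ∃ i : ℤ, ∃ t ∈ A, x = z ^ i * t := by
      intro x hx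
      obtain ⟨i, hi⟩ := hx
      refine ⟨i, (z ^ i)⁻¹ * x, QuotientGroup.eq.1 ?_, by group⟩
      show f (z ^ i) = f x
      rw [map_zpow]; exact hi
    intro x hx y hy
    obtain ⟨i, t, ht, rfl⟩ := hdec x hx
    obtain ⟨j, s, hs, rfl⟩ := hdec y hy
    have hzA : ∀ w ∈ A, ∀ k : ℤ, Commute w (z ^ k) := fun w hw k =>
      Commute.zpow_right (show Commute w z from Subgroup.mem_centralizer_iff.1 hzC w hw) k
    have c1 : Commute (z ^ i * t) (z ^ j) :=
      (Commute.zpow_zpow (Commute.refl z) i j).mul_left (hzA t ht j)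
    have c2 : Commute (z ^ i * t) s := (hzA s hs i).symm.mul_left (hAab t ht s hs)
    exact c1.mul_right c2
  refine hz1 (Subtype.ext ?_)
  show (1 : G ⧸ A) = f z
  refine ((QuotientGroup.eq_one_iff z).2 ?_).symm
  exact hA.2 ⟨hBn, hBab⟩ (fun w hw => by
    show f w ∈ Subgroup.zpowers (f z)
    rw [show f w = 1 from (QuotientGroup.eq_one_iff w).2 hw]; exact Subgroup.one_mem _)
    (Subgroup.mem_zpowers (f z))

theorem twist_pow {a x : G} {m : ℤ} (hm : x * a * x⁻¹ = a ^ m) (i : ℤ) :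
    ∀ k : ℕ, (a ^ i * x) ^ k = a ^ (i * ∑ j ∈ Finset.range k, m ^ j) * x ^ k := by
  have hk : ∀ (k : ℕ) (s : ℤ), x ^ k * a ^ s = a ^ (s * m ^ k) * x ^ k := by
    intro k
    induction k with
    | zero => intro s; simp
    | succ k ih =>
      intro s
      have h1 : x * a ^ s * x⁻¹ = a ^ (m * s) := by rw [← conj_zpow, hm, zpow_mul]
      have h2 : x * a ^ s = a ^ (m * s) * x := by rw [← h1, inv_mul_cancel_right]
      rw [pow_succ, mul_assoc, h2, ← mul_assoc, ih, mul_assoc, ← pow_succ]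
      congr 2
      ring
  intro k
  induction k with
  | zero => simp
  | succ k ih =>
    rw [pow_succ, ih, mul_assoc, ← mul_assoc (x ^ k), hk, mul_assoc, ← pow_succ, ← mul_assoc,
      ← zpow_add, Finset.sum_range_succ]
    congr 2
    ring

/-- The analysis of one element normalising a self-centralising cyclic subgroup. -/
theorem unique_step [Finite G] {p : ℕ} [hp : Fact p.Prime] (hu : UniqueOrderP p G) {a x : G} {n : ℕ}
    (hn : orderOf a = p ^ n) (hn0 : n ≠ 0) (hx : x * a ≠ a * x)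
    (hconj : x * a * x⁻¹ ∈ Subgroup.zpowers a) (hxp : x ^ p ∈ Subgroup.zpowers a) :
    p = 2 ∧ 2 ≤ n ∧ x * a * x⁻¹ = a⁻¹ ∧ x * x = a ^ (2 ^ (n - 1)) := by
  obtain ⟨m, hm⟩ := hconj
  obtain ⟨c, hc⟩ := hxp
  have hm : x * a * x⁻¹ = a ^ m := hm.symm
  have hc : x ^ p = a ^ c := hc.symm
  have hxA : x ∉ Subgroup.zpowers a := by
    rintro ⟨k, rfl⟩
    exact hx ((Commute.refl a).zpow_left k)
  have hdvd : ∀ k : ℤ, a ^ k = 1 ↔ ((p : ℤ) ^ n) ∣ k := fun k => by
    rw [← orderOf_dvd_iff_zpow_eq_one, hn, Nat.cast_pow]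
  have noI : ∀ i : ℤ, ¬ ((p : ℤ) ^ n) ∣ (i * (∑ j ∈ Finset.range p, m ^ j) + c) := by
    intro i hi
    refine hxA ?_
    have h1 : (a ^ i * x) ^ p = 1 := by rw [twist_pow hm, hc, ← zpow_add, (hdvd _).2 hi]
    have h2 : (a ^ p ^ (n - 1)) ^ p = 1 := by
      rw [← pow_mul, ← pow_succ, Nat.sub_add_cancel (Nat.one_le_iff_ne_zero.2 hn0), ← hn,
        pow_orderOf_eq_one]
    have h3 : a ^ p ^ (n - 1) ≠ 1 := pow_ne_one_of_lt_orderOf (pow_ne_zero _ hp.out.ne_zero)
      (hn ▸ Nat.pow_lt_pow_right hp.out.one_lt (by omega))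
    have h4 : a ^ i * x ∈ Subgroup.zpowers a :=
      (Subgroup.zpowers_le.2 (Subgroup.pow_mem _ (Subgroup.mem_zpowers a) _) : _ ≤ Subgroup.zpowers a)
        (hu _ _ h1 h2 h3)
    exact ((Subgroup.zpowers a).mul_mem_cancel_left (Subgroup.zpow_mem_zpowers a i)).1 h4
  have hpc : (p : ℤ) ∣ c := by
    by_contra hpc
    refine hx ?_
    obtain ⟨u, v, huv⟩ : IsCoprime c ((p : ℤ) ^ n) :=
      ((Nat.prime_iff_prime_int.1 hp.out).coprime_iff_not_dvd.2 hpc).symm.pow_right
    have hap : a = (x ^ p) ^ u := by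
      rw [hc, ← zpow_mul]
      conv_lhs => rw [← zpow_one a, ← huv, zpow_add, (hdvd (v * (p : ℤ) ^ n)).2 (dvd_mul_left _ _), mul_one]
      rw [mul_comm]
    rw [hap]
    exact ((Commute.refl x).pow_right p).zpow_right u
  have hmp : ((p : ℤ) ^ n) ∣ m ^ p - 1 := by
    rw [← hdvd, zpow_sub, zpow_one, mul_inv_eq_one]
    have h1 : ∀ k : ℕ, x ^ k * a * (x ^ k)⁻¹ = a ^ (m ^ k) := by
      intro k
      induction k with
      | zero => simp
      | succ k ih =>
        rw [pow_succ' x, mul_inv_rev, show x * x ^ k * a * ((x ^ k)⁻¹ * x⁻¹) =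
          x * (x ^ k * a * (x ^ k)⁻¹) * x⁻¹ by group, ih, ← conj_zpow, hm, ← zpow_mul, pow_succ']
    rw [← h1 p, hc, mul_inv_eq_iff_eq_mul]
    exact ((Commute.refl a).zpow_left c).eq
  have hcm : ((p : ℤ) ^ n) ∣ c * (m - 1) := by
    rw [← hdvd, mul_sub, mul_one, zpow_sub, mul_inv_eq_one, mul_comm, zpow_mul, ← hm, conj_zpow, ← hc,
      mul_inv_eq_iff_eq_mul]
    exact ((Commute.refl x).pow_right p).eq
  have hgood : ∀ u : ℤ, (∑ j ∈ Finset.range p, m ^ j) = p * u → ¬ IsCoprime u (p : ℤ) := by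
    intro u hS hu'
    obtain ⟨w, v, hwv⟩ := hu'.pow_right (n := n)
    obtain ⟨c', hc'⟩ := hpc
    refine noI (-c' * w) ⟨(p : ℤ) * c' * v, ?_⟩
    rw [hS, hc']
    linear_combination (-(p : ℤ) * c') * hwv
  rcases hp.out.eq_two_or_odd' with h2 | hodd
  · subst h2
    refine ⟨rfl, ?_⟩
    have hS : ∑ j ∈ Finset.range 2, m ^ j = 1 + m := by simp [Finset.sum_range_succ]
    rw [hS] at noI hgood
    push_cast at hmp hcm noI hgood hdvd hpc
    have hmodd : m % 2 = 1 := by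
      rcases Int.emod_two_eq_zero_or_one m with h | h
      · exfalso
        have h' : (2 : ℤ) ∣ m ^ 2 - 1 := (dvd_pow_self 2 hn0).trans hmp
        have h'' : (2 : ℤ) ∣ m ^ 2 := dvd_pow (Int.dvd_of_emod_eq_zero h) two_ne_zero
        omega
      · exact h
    have hn2 : 2 ≤ n := by
      by_contra h
      refine hx ?_
      have hn1 : n = 1 := by omega
      subst hn1
      have : a ^ (m - 1) = 1 := by rw [hdvd, pow_one]; omega
      rw [zpow_sub, zpow_one, mul_inv_eq_one, ← hm, mul_inv_eq_iff_eq_mul] at this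
      exact this
    have hm4 : m % 4 = 3 := by
      by_contra h
      refine hgood ((1 + m) / 2) (by omega) ?_
      refine ((Nat.prime_iff_prime_int.1 Nat.prime_two).coprime_iff_not_dvd.2 ?_).symm
      push_cast
      omega
    have hN : (2 : ℤ) ^ n = 2 * 2 ^ (n - 1) := by
      rw [← pow_succ', Nat.sub_add_cancel (Nat.one_le_iff_ne_zero.2 hn0)]
    have hcopr : ∀ t : ℤ, t % 2 = 1 → IsCoprime ((2 : ℤ) ^ (n - 1)) t := fun t ht =>
      (((Nat.prime_iff_prime_int.1 Nat.prime_two).coprime_iff_not_dvd).2 (by push_cast; omega)).pow_left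
    obtain ⟨v, hv⟩ : ∃ v, m - 1 = 2 * v := ⟨(m - 1) / 2, by omega⟩
    have hvo : v % 2 = 1 := by omega
    obtain ⟨e, he⟩ : (2 : ℤ) ^ (n - 1) ∣ c := by
      have := hcm
      rw [hN, hv, mul_left_comm] at this
      exact (hcopr v hvo).dvd_of_dvd_mul_right (Int.dvd_of_mul_dvd_mul_left two_ne_zero this)
    obtain ⟨f, hf⟩ : (2 : ℤ) ^ (n - 1) ∣ m + 1 := by
      have := hmp
      rw [show m ^ 2 - 1 = (m - 1) * (m + 1) by ring, hN, hv, mul_assoc] at this
      exact (hcopr v hvo).dvd_of_dvd_mul_left (Int.dvd_of_mul_dvd_mul_left two_ne_zero this)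
    have he1 : e % 2 = 1 := by
      by_contra h
      obtain ⟨e', rfl⟩ : (2 : ℤ) ∣ e := by omega
      exact noI 0 ⟨e', by rw [he, hN]; ring⟩
    have hf0 : f % 2 = 0 := by
      by_contra h
      obtain ⟨g, hg⟩ : (2 : ℤ) ∣ f + e := by omega
      refine noI 1 ⟨g, ?_⟩
      rw [he, hN, one_mul, show (1 : ℤ) + m = m + 1 by ring, hf]
      linear_combination (2 : ℤ) ^ (n - 1) * hg
    refine ⟨hn2, ?_, ?_⟩
    · rw [hm, ← zpow_neg_one, ← mul_inv_eq_one, ← zpow_sub, hdvd, show m - -1 = m + 1 by ring, hf, hN]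
      obtain ⟨f', rfl⟩ : (2 : ℤ) ∣ f := by omega
      exact ⟨f', by ring⟩
    · rw [← pow_two, hc, ← zpow_natCast, ← mul_inv_eq_one, ← zpow_sub, hdvd, he, hN]
      push_cast
      obtain ⟨e', he'⟩ : (2 : ℤ) ∣ e - 1 := by omega
      exact ⟨e', by linear_combination (2 : ℤ) ^ (n - 1) * he'⟩
  · exfalso
    obtain ⟨b, hb⟩ : (p : ℤ) ∣ m - 1 := by
      have h : (p : ℤ) ∣ m ^ p - 1 := (dvd_pow_self _ hn0).trans hmp
      rw [← ZMod.intCast_zmod_eq_zero_iff_dvd] at h ⊢
      push_cast at h ⊢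
      rwa [ZMod.pow_card] at h
    obtain ⟨t, ht⟩ := odd_sq_dvd_geom_sum₂_sub (R := ℤ) (a := 1) (b := b) hodd
    simp only [one_pow, mul_one] at ht
    rw [show (1 : ℤ) + p * b = m by rw [← hb]; ring] at ht
    exact hgood (1 + p * t) (by linear_combination ht) ⟨1, -t, by ring⟩

/-- The classification. -/
theorem cyclic_or_quaternion [Finite G] {p : ℕ} [Fact p.Prime] (hG : IsPGroup p G)
    (hu : UniqueOrderP p G) :
    IsCyclic G ∨ (p = 2 ∧ ∃ n : ℕ, Nonempty (G ≃* QuaternionGroup (2 ^ n))) := by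
  have hp : p.Prime := Fact.out
  obtain ⟨A, hAn, hAab, hAC⟩ := exists_maximal_abelian_normal hG
  obtain ⟨a, ha, rfl⟩ := abelian_cyclic_of_unique hG hu A hAab
  obtain ⟨n, hn⟩ := IsPGroup.iff_orderOf.1 hG a
  set A := Subgroup.zpowers a with hA
  by_cases htop : A = ⊤
  · exact Or.inl ⟨a, fun g => (htop.ge (Subgroup.mem_top g) : g ∈ A)⟩
  right
  have hcomm : ∀ g : G, g * a = a * g → g ∈ A := by
    intro g hg
    rw [← hAC, Subgroup.mem_centralizer_iff]
    rintro _ ⟨k, rfl⟩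
    exact (Commute.zpow_left (show Commute a g from hg.symm) k)
  have hn0 : n ≠ 0 := by
    rintro rfl
    refine htop (eq_top_iff.2 fun g _ => hcomm g ?_)
    rw [orderOf_eq_one_iff.1 (by simpa using hn : orderOf a = 1)]; simp
  -- every element outside `A` squares into `A` and inverts `a`
  have hstep : ∀ g : G, g ∉ A → g ^ p ∈ A →
      p = 2 ∧ 2 ≤ n ∧ g * a * g⁻¹ = a⁻¹ ∧ g * g = a ^ (2 ^ (n - 1)) := fun g hg hgp =>
    unique_step hu hn hn0 (fun e => hg (hcomm g e)) (hAn.conj_mem a ha g) hgp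
  have hex : ∀ g : G, ∃ k : ℕ, g ^ p ^ k ∈ A := fun g => by
    obtain ⟨k, hk⟩ := hG g; exact ⟨k, hk ▸ Subgroup.one_mem _⟩
  obtain ⟨g₀, -, hg₀⟩ := SetLike.exists_of_lt (lt_top_iff_ne_top.2 htop)
  have hbase : ∀ g : G, g ∉ A → ∃ k : ℕ, g ^ p ^ k ∉ A ∧ (g ^ p ^ k) ^ p ∈ A := by
    intro g hg
    classical
    have h := hex g
    have h0 : Nat.find h ≠ 0 := fun e => hg (by
      have := Nat.find_spec h
      rwa [e, pow_zero, pow_one] at this)
    refine ⟨Nat.find h - 1, Nat.find_min h (by omega), ?_⟩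
    rw [← pow_mul, ← pow_succ, Nat.sub_add_cancel (Nat.one_le_iff_ne_zero.2 h0)]
    exact Nat.find_spec h
  obtain ⟨k₀, hk₀, hk₀'⟩ := hbase g₀ hg₀
  obtain ⟨rfl, hn2, -, -⟩ := hstep _ hk₀ hk₀'
  have hall : ∀ g : G, g ∉ A → g * a * g⁻¹ = a⁻¹ ∧ g * g = a ^ (2 ^ (n - 1)) := by
    intro g hg
    obtain ⟨k, hk, hk'⟩ := hbase g hg
    rcases Nat.eq_zero_or_pos k with rfl | hkp
    · rw [pow_zero, pow_one] at hk'
      exact (hstep g hg hk').2.2
    exfalso
    obtain ⟨-, -, hinv, -⟩ := hstep _ hk hk'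
    set h := g ^ 2 ^ (k - 1)
    have hy : g ^ 2 ^ k = h * h := by
      rw [← pow_two, ← pow_mul, ← pow_succ, Nat.sub_add_cancel hkp]
    obtain ⟨m, hm⟩ := hAn.conj_mem a ha h
    have hm' : h * a * h⁻¹ = a ^ m := hm.symm
    rw [hy, mul_inv_rev, show h * h * a * (h⁻¹ * h⁻¹) = h * (h * a * h⁻¹) * h⁻¹ by group, hm',
      ← conj_zpow, hm', ← zpow_mul, ← zpow_neg_one, ← mul_inv_eq_one, ← zpow_sub,
      ← orderOf_dvd_iff_zpow_eq_one, hn] at hinv
    push_cast at hinv
    have h4 : (4 : ℤ) ∣ m * m - -1 := by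
      refine dvd_trans ?_ hinv
      rw [show (4 : ℤ) = 2 ^ 2 by norm_num]
      exact pow_dvd_pow 2 hn2
    rcases Int.even_or_odd m with ⟨t, rfl⟩ | ⟨t, rfl⟩
    · rw [show (t + t) * (t + t) - -1 = 4 * (t * t) + 1 by ring] at h4; omega
    · rw [show (2 * t + 1) * (2 * t + 1) - -1 = 4 * (t * t + t) + 2 by ring] at h4; omega
  obtain ⟨hxa, hxx⟩ := hall g₀ hg₀
  set x := g₀
  have hprod : ∀ g : G, g ∉ A → x⁻¹ * g ∈ A := by
    intro g hg
    obtain ⟨hga, -⟩ := hall g hg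
    refine hcomm _ ?_
    calc x⁻¹ * g * a = x⁻¹ * (g * a * g⁻¹) * g := by group
      _ = x⁻¹ * (x * a * x⁻¹) * g := by rw [hga, hxa]
      _ = a * (x⁻¹ * g) := by group
  refine ⟨rfl, n - 1, ⟨MulEquiv.symm ?_⟩⟩
  set N := 2 ^ (n - 1) with hN
  have h2N : 2 * N = orderOf a := by
    rw [hn, hN, ← pow_succ', Nat.sub_add_cancel (Nat.one_le_iff_ne_zero.2 hn0)]
  have : NeZero (2 * N) := ⟨by rw [h2N]; exact (orderOf_pos a).ne'⟩
  have : NeZero N := ⟨by rw [hN]; exact pow_ne_zero _ two_ne_zero⟩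
  let e : ZMod (2 * N) → G := fun i => a ^ i.val
  have eadd : ∀ i j, e (i + j) = e i * e j := fun i j => by
    show a ^ (i + j).val = a ^ i.val * a ^ j.val
    rw [← pow_add, pow_eq_pow_iff_modEq, ← h2N, ZMod.val_add]
    exact Nat.mod_modEq _ _
  have e0 : e 0 = 1 := by simp [e]
  have esub : ∀ i j, e (j - i) = e j * (e i)⁻¹ := fun i j =>
    eq_mul_inv_of_mul_eq (by rw [← eadd, sub_add_cancel])
  have eN : e (N : ZMod (2 * N)) = a ^ N := by
    show a ^ (N : ZMod (2 * N)).val = a ^ N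
    rw [pow_eq_pow_iff_modEq, ← h2N, ZMod.val_natCast]
    exact Nat.mod_modEq _ _
  have hxe : ∀ i, e i * x = x * (e i)⁻¹ := by
    intro i
    show a ^ i.val * x = x * (a ^ i.val)⁻¹
    have h1 : x * (a ^ i.val) * x⁻¹ = (a ^ i.val)⁻¹ := by rw [← conj_pow, hxa, inv_pow]
    have h2 := congrArg (·⁻¹) h1
    simp only [mul_inv_rev, inv_inv] at h2
    calc a ^ i.val * x = x * ((a ^ i.val)⁻¹ * x⁻¹) * x := by rw [h2]
      _ = _ := by group
  let f : QuaternionGroup N → G := fun q => match q with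
    | .a i => e i
    | .xa i => x * e i
  have hf : ∀ q r, f (q * r) = f q * f r := by
    rintro (i | i) (j | j)
    · rw [QuaternionGroup.a_mul_a]; exact eadd i j
    · rw [QuaternionGroup.a_mul_xa]
      show x * e (j - i) = e i * (x * e j)
      rw [← mul_assoc, hxe, mul_assoc, esub, (Commute.pow_pow (Commute.refl a) _ _).inv_left.eq]
    · rw [QuaternionGroup.xa_mul_a]
      show x * e (i + j) = x * e i * e j
      rw [eadd, mul_assoc]
    · rw [QuaternionGroup.xa_mul_xa]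
      show e ((N : ZMod (2 * N)) + j - i) = x * e i * (x * e j)
      rw [add_sub_assoc, eadd, eN, esub]
      symm
      calc x * e i * (x * e j) = x * (e i * x) * e j := by group
        _ = x * x * ((e i)⁻¹ * e j) := by rw [hxe]; group
        _ = a ^ N * (e j * (e i)⁻¹) := by
          rw [hxx, (Commute.pow_pow (Commute.refl a) i.val j.val).inv_left.eq]
  refine MulEquiv.ofBijective (MonoidHom.mk' f hf) ⟨?_, ?_⟩
  · have einj : Function.Injective e := fun i j h => by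
      refine ZMod.val_injective _ (pow_injOn_Iio_orderOf ?_ ?_ h) <;>
        (rw [Set.mem_Iio, ← h2N]; exact ZMod.val_lt _)
    have hmem : ∀ i, e i ∈ A := fun i => Subgroup.pow_mem _ (Subgroup.mem_zpowers a) _
    rintro (i | i) (j | j) h
    · exact congrArg _ (einj h)
    · exact absurd ((A.mul_mem_cancel_right (hmem j)).1 ((show e i = x * e j from h) ▸ hmem i)) hg₀
    · exact absurd ((A.mul_mem_cancel_right (hmem i)).1 ((show x * e i = e j from h) ▸ hmem j)) hg₀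
    · exact congrArg _ (einj (mul_left_cancel (show x * e i = x * e j from h)))
  · intro g
    have hmem : ∀ t ∈ A, ∃ i, e i = t := by
      intro t ht
      obtain ⟨k, rfl⟩ := mem_powers_iff_mem_zpowers.2 ht
      refine ⟨(k : ZMod (2 * N)), ?_⟩
      show a ^ (k : ZMod (2 * N)).val = a ^ k
      rw [pow_eq_pow_iff_modEq, ← h2N, ZMod.val_natCast]
      exact Nat.mod_modEq _ _
    by_cases hgA : g ∈ A
    · obtain ⟨i, hi⟩ := hmem g hgA
      exact ⟨.a i, hi⟩
    · obtain ⟨i, hi⟩ := hmem _ (hprod g hgA)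
      exact ⟨.xa i, by show x * e i = g; rw [hi, mul_inv_cancel_left]⟩

end Cfsg.Agent.Solv
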