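import Cfsg.Prelude.Def_Local
import Cfsg.Agent.Lib.Solv.Cores
import Cfsg.Agent.Lib.Fusion.Cores

/-!
The upper `p`-series and `p`-length: characterisation by normal series with alternating factors,
quotients, lifting, and subdirect products.
-/

set_option autoImplicit false
set_option linter.style.haveILetI false

namespace Cfsg.Agent.Solv.PLen

universe u v

/-- The admissible factor orders at position `n` of an alternating series. -/
def OkIndex (p n x : ℕ) : Prop := if Even n then x.Coprime p else ∃ m : ℕ, x = p ^ m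

theorem OkIndex.one {p n : ℕ} : OkIndex p n 1 := by
  unfold OkIndex; split_ifs
  · exact Nat.coprime_one_left p
  · exact ⟨0, (pow_zero p).symm⟩

theorem OkIndex.mul {p n x y : ℕ} (hx : OkIndex p n x) (hy : OkIndex p n y) :
    OkIndex p n (x * y) := by
  unfold OkIndex at *; split_ifs at * with h
  · exact hx.mul_left hy
  · obtain ⟨a, rfl⟩ := hx
    obtain ⟨b, rfl⟩ := hy
    exact ⟨a + b, (pow_add p a b).symm⟩

theorem OkIndex.of_dvd {p n x y : ℕ} [Fact p.Prime] (hx : OkIndex p n x) (h : y ∣ x) :
    OkIndex p n y := by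
  unfold OkIndex at *; split_ifs at * with hn
  · exact hx.coprime_dvd_left h
  · obtain ⟨a, rfl⟩ := hx
    obtain ⟨b, -, hb⟩ := (Nat.dvd_prime_pow Fact.out).1 h
    exact ⟨b, hb⟩

variable {G : Type u} [Group G]

/-- An alternating `p'`, `p` series with `k` steps of `p`-type. -/
def HasPSeries (p k : ℕ) (G : Type u) [Group G] : Prop :=
  ∃ f : ℕ → Subgroup G, f 0 = ⊥ ∧ (∀ n, 2 * k + 1 ≤ n → f n = ⊤) ∧ (∀ n, (f n).Normal) ∧
    (∀ n, f n ≤ f (n + 1)) ∧ ∀ n, OkIndex p n ((f n).relIndex (f (n + 1)))

theorem relIndex_dvd_of_le_right {H A B : Subgroup G} [H.Normal] (h : A ≤ B) :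
    H.relIndex A ∣ H.relIndex B := by
  rw [← QuotientGroup.ker_mk' H, Subgroup.relIndex_ker, Subgroup.relIndex_ker]
  exact Subgroup.card_dvd_of_le (Subgroup.map_mono h)

theorem relIndex_map_dvd {G' : Type v} [Group G'] (φ : G →* G') {H K : Subgroup G} [H.Normal]
    (h : H ≤ K) : (H.map φ).relIndex (K.map φ) ∣ H.relIndex K := by
  rw [Subgroup.relIndex_map_map]
  have h1 : K ⊔ φ.ker = K ⊔ (H ⊔ φ.ker) := by
    rw [← sup_assoc, sup_eq_left.2 h]
  haveI : (H ⊔ φ.ker).Normal := Subgroup.sup_normal _ _
  rw [h1, Subgroup.relIndex_sup_right]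
  exact Subgroup.relIndex_dvd_of_le_left _ le_sup_left

variable {p : ℕ}

theorem upper_succ_even {n : ℕ} (hn : Even n) :
    (Cfsg.upperPSeries p G (n + 1)).1 =
      (Cfsg.pPrimeCore p (G ⧸ (Cfsg.upperPSeries p G n).1)).comap (QuotientGroup.mk' _) := by
  rw [Cfsg.upperPSeries]
  simp only [hn, if_true]

theorem upper_succ_odd {n : ℕ} (hn : ¬ Even n) :
    (Cfsg.upperPSeries p G (n + 1)).1 =
      (Cfsg.pCore p (G ⧸ (Cfsg.upperPSeries p G n).1)).comap (QuotientGroup.mk' _) := by
  rw [Cfsg.upperPSeries]
  simp only [hn, if_false]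

theorem upper_zero : (Cfsg.upperPSeries p G 0).1 = ⊥ := rfl

theorem upper_mono (n : ℕ) :
    (Cfsg.upperPSeries p G n).1 ≤ (Cfsg.upperPSeries p G (n + 1)).1 := by
  intro x hx
  by_cases hn : Even n
  · rw [upper_succ_even hn, Subgroup.mem_comap, QuotientGroup.mk'_apply,
      (QuotientGroup.eq_one_iff x).2 hx]
    exact one_mem _
  · rw [upper_succ_odd hn, Subgroup.mem_comap, QuotientGroup.mk'_apply,
      (QuotientGroup.eq_one_iff x).2 hx]
    exact one_mem _

variable [Finite G] [hp : Fact p.Prime]

/-- A normal subgroup over a term of the upper series with admissible index lies in the next term. -/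
theorem le_upper_succ (n : ℕ) (H K : Subgroup G) [H.Normal] [K.Normal]
    (hH : H ≤ (Cfsg.upperPSeries p G n).1) (hHK : H ≤ K) (hidx : OkIndex p n (H.relIndex K)) :
    K ≤ (Cfsg.upperPSeries p G (n + 1)).1 := by
  obtain ⟨U, hU⟩ : ∃ U, U = (Cfsg.upperPSeries p G n).1 := ⟨_, rfl⟩
  haveI : U.Normal := hU ▸ (Cfsg.upperPSeries p G n).2
  have hdvd : Nat.card (K.map (QuotientGroup.mk' U)) ∣ H.relIndex K := by
    have h1 := relIndex_map_dvd (QuotientGroup.mk' U) hHK
    have h2 : H.map (QuotientGroup.mk' U) = ⊥ := by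
      rw [Subgroup.map_eq_bot_iff, QuotientGroup.ker_mk', hU]; exact hH
    rwa [h2, Subgroup.relIndex_bot_left] at h1
  haveI : (K.map (QuotientGroup.mk' U)).Normal :=
    Subgroup.Normal.map inferInstance _ (QuotientGroup.mk'_surjective U)
  have hok := hidx.of_dvd hdvd
  unfold OkIndex at hok
  subst hU
  by_cases hn : Even n
  · rw [if_pos hn] at hok
    rw [upper_succ_even hn, ← Subgroup.map_le_iff_le_comap]
    exact normal_le_pPrimeCore hok
  · rw [if_neg hn] at hok
    obtain ⟨m, hm⟩ := hok
    rw [upper_succ_odd hn, ← Subgroup.map_le_iff_le_comap]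
    exact normal_le_pCore (IsPGroup.of_card hm)

theorem okIndex_upper (n : ℕ) :
    OkIndex p n ((Cfsg.upperPSeries p G n).1.relIndex (Cfsg.upperPSeries p G (n + 1)).1) := by
  have key : ∀ K : Subgroup (G ⧸ (Cfsg.upperPSeries p G n).1),
      (Cfsg.upperPSeries p G n).1.relIndex (K.comap (QuotientGroup.mk' _)) = Nat.card K := by
    intro K
    have h := Subgroup.relIndex_ker (f := QuotientGroup.mk' (Cfsg.upperPSeries p G n).1)
      (K := K.comap (QuotientGroup.mk' _))
    rw [QuotientGroup.ker_mk', Subgroup.map_comap_eq_self_of_surjective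
      (QuotientGroup.mk'_surjective _)] at h
    exact h
  unfold OkIndex
  split_ifs with hn
  · rw [upper_succ_even hn, key]
    exact pPrimeCore_coprime p
  · rw [upper_succ_odd hn, key]
    exact (pCore_isPGroup p).exists_card_eq

theorem pLengthLE_iff (k : ℕ) : Cfsg.PLengthLE p k G ↔ HasPSeries p k G := by
  constructor
  · intro h
    refine ⟨fun n => (Cfsg.upperPSeries p G n).1, rfl, fun n hn => ?_,
      fun n => (Cfsg.upperPSeries p G n).2, upper_mono, okIndex_upper⟩
    refine eq_top_iff.2 ?_
    rw [← h]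
    exact (monotone_nat_of_le_succ upper_mono) hn
  · rintro ⟨f, h0, htop, hn, hle, hok⟩
    have key : ∀ n, f n ≤ (Cfsg.upperPSeries p G n).1 := by
      intro n
      induction n with
      | zero => rw [h0]; exact bot_le
      | succ n ih =>
        haveI := hn n
        haveI := hn (n + 1)
        exact le_upper_succ n (f n) (f (n + 1)) ih (hle n) (hok n)
    refine eq_top_iff.2 ?_
    rw [← htop _ le_rfl]
    exact key _

omit hp in
theorem HasPSeries.mono {k l : ℕ} (h : HasPSeries p k G) (hkl : k ≤ l) : HasPSeries p l G := by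
  obtain ⟨f, h0, htop, hn, hle, hok⟩ := h
  exact ⟨f, h0, fun n hn' => htop n (by omega), hn, hle, hok⟩

theorem HasPSeries.quotient {k : ℕ} (h : HasPSeries p k G) (N : Subgroup G) [N.Normal] :
    HasPSeries p k (G ⧸ N) := by
  obtain ⟨f, h0, htop, hn, hle, hok⟩ := h
  refine ⟨fun n => (f n).map (QuotientGroup.mk' N), by dsimp only; rw [h0, Subgroup.map_bot], fun n hn' => ?_,
    fun n => (hn n).map _ (QuotientGroup.mk'_surjective N), fun n => Subgroup.map_mono (hle n),
    fun n => ?_⟩
  · dsimp only; rw [htop n hn', Subgroup.map_top_of_surjective _ (QuotientGroup.mk'_surjective N)]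
  · haveI := hn n
    exact (hok n).of_dvd (relIndex_map_dvd _ (hle n))

omit [Finite G] hp in
theorem comap_relIndex_eq {N : Subgroup G} [N.Normal] (A B : Subgroup (G ⧸ N)) :
    (A.comap (QuotientGroup.mk' N)).relIndex (B.comap (QuotientGroup.mk' N)) = A.relIndex B := by
  rw [Subgroup.relIndex_comap,
    Subgroup.map_comap_eq_self_of_surjective (QuotientGroup.mk'_surjective N)]

theorem HasPSeries.lift_pPrime {k : ℕ} (N : Subgroup G) [N.Normal] (hN : (Nat.card N).Coprime p)
    (h : HasPSeries p k (G ⧸ N)) : HasPSeries p k G := by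
  obtain ⟨f, h0, htop, hn, hle, hok⟩ := h
  refine ⟨fun n => if n = 0 then ⊥ else (f n).comap (QuotientGroup.mk' N), if_pos rfl,
    fun n hn' => ?_, fun n => ?_, fun n => ?_, fun n => ?_⟩
  · dsimp only; rw [if_neg (by omega), htop n hn', Subgroup.comap_top]
  · dsimp only; split_ifs
    · infer_instance
    · exact (hn n).comap _
  · dsimp only
    split_ifs
    all_goals first | exact bot_le | exact Subgroup.comap_mono (f := QuotientGroup.mk' N) (hle n) | (exfalso; omega)
  · dsimp only
    rw [if_neg (Nat.succ_ne_zero n)]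
    split_ifs with h1
    · subst h1
      rw [Subgroup.relIndex_bot_left]
      show OkIndex p 0 (Nat.card ↥((f (0 + 1)).comap (QuotientGroup.mk' N)))
      have h2 : Nat.card N * Nat.card (f (0 + 1)) =
          Nat.card ↥((f (0 + 1)).comap (QuotientGroup.mk' N)) := by
        have h3 := Subgroup.relIndex_mul_relIndex ⊥ N ((f (0 + 1)).comap (QuotientGroup.mk' N))
          bot_le (fun x hx => by simp [(QuotientGroup.eq_one_iff x).2 hx])
        have h4 := comap_relIndex_eq (N := N) ⊥ (f (0 + 1))
        rw [MonoidHom.comap_bot, QuotientGroup.ker_mk', Subgroup.relIndex_bot_left] at h4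
        rw [Subgroup.relIndex_bot_left, Subgroup.relIndex_bot_left, h4] at h3
        exact h3
      rw [← h2]
      refine OkIndex.mul ?_ ?_
      · unfold OkIndex; rw [if_pos Even.zero]; exact hN
      · have := hok 0
        rwa [h0, Subgroup.relIndex_bot_left] at this
    · rw [comap_relIndex_eq]; exact hok n

theorem HasPSeries.lift_p {k : ℕ} (N : Subgroup G) [N.Normal] (hN : IsPGroup p N)
    (h : HasPSeries p k (G ⧸ N)) : HasPSeries p (k + 1) G := by
  obtain ⟨f, h0, htop, hn, hle, hok⟩ := h
  refine ⟨fun n => if n ≤ 1 then ⊥ else (f (n - 2)).comap (QuotientGroup.mk' N), if_pos (by omega),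
    fun n hn' => ?_, fun n => ?_, fun n => ?_, fun n => ?_⟩
  · dsimp only; rw [if_neg (by omega), htop _ (by omega), Subgroup.comap_top]
  · dsimp only; split_ifs
    · infer_instance
    · exact (hn _).comap _
  · dsimp only
    split_ifs with h1 h2 h2
    · exact bot_le
    · exact bot_le
    · exact absurd h1 (by omega)
    · exact Subgroup.comap_mono (by rw [show n + 1 - 2 = n - 2 + 1 by omega]; exact hle _)
  · dsimp only
    rcases Nat.lt_or_ge n 1 with h1 | h1
    · rw [if_pos (by omega), if_pos (by omega), Subgroup.relIndex_bot_left, Subgroup.card_bot]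
      exact OkIndex.one
    rcases Nat.lt_or_ge n 2 with h2 | h2
    · obtain rfl : n = 1 := by omega
      rw [if_pos le_rfl, if_neg (by omega), Subgroup.relIndex_bot_left, show 1 + 1 - 2 = 0 by rfl, h0,
        MonoidHom.comap_bot, QuotientGroup.ker_mk']
      unfold OkIndex
      rw [if_neg Nat.not_even_one]
      exact hN.exists_card_eq
    · rw [if_neg (by omega), if_neg (by omega), show n + 1 - 2 = n - 2 + 1 by omega,
        comap_relIndex_eq]
      have hpar : Even (n - 2) ↔ Even n := by
        rw [Nat.even_sub (by omega)]; simp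
      have := hok (n - 2)
      unfold OkIndex at this ⊢
      simpa only [hpar] using this

theorem HasPSeries.zero {G : Type u} [Group G] [Finite G] (h : HasPSeries p 0 G) :
    (Nat.card G).Coprime p := by
  obtain ⟨f, h0, htop, -, -, hok⟩ := h
  have := hok 0
  rw [h0, htop 1 le_rfl, Subgroup.relIndex_bot_left, Subgroup.card_top] at this
  unfold OkIndex at this
  rwa [if_pos Even.zero] at this

theorem hasPSeries_of_coprime {G : Type u} [Group G] [Finite G] (k : ℕ)
    (h : (Nat.card G).Coprime p) : HasPSeries p k G := by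
  refine HasPSeries.mono ?_ (Nat.zero_le k)
  refine ⟨fun n => if n = 0 then ⊥ else ⊤, if_pos rfl, fun n hn => if_neg (by omega),
    fun n => by dsimp only; split_ifs <;> infer_instance, fun n => ?_, fun n => ?_⟩
  · dsimp only
    rw [if_neg (Nat.succ_ne_zero n)]
    exact le_top
  · dsimp only
    rw [if_neg (Nat.succ_ne_zero n)]
    split_ifs with h1
    · subst h1
      rw [Subgroup.relIndex_bot_left, Subgroup.card_top]
      unfold OkIndex
      rw [if_pos Even.zero]; exact h
    · rw [Subgroup.relIndex_self]; exact OkIndex.one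

/-- With trivial `p'`-core, the `p`-length drops by one modulo the `p`-core. -/
theorem HasPSeries.quotient_pCore {k : ℕ} (hbot : Cfsg.pPrimeCore p G = ⊥)
    (h : HasPSeries p (k + 1) G) :
    haveI := pCore_normal (G := G) p
    HasPSeries p k (G ⧸ Cfsg.pCore p G) := by
  haveI := pCore_normal (G := G) p
  obtain ⟨f, h0, htop, hn, hle, hok⟩ := h
  have h1 : f 1 = ⊥ := by
    haveI := hn 1
    refine le_bot_iff.1 (hbot ▸ normal_le_pPrimeCore ?_)
    have := hok 0
    rw [h0, Subgroup.relIndex_bot_left] at this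
    unfold OkIndex at this
    rwa [if_pos Even.zero] at this
  have h2 : f 2 ≤ Cfsg.pCore p G := by
    haveI := hn 2
    have := hok 1
    rw [h1, Subgroup.relIndex_bot_left] at this
    unfold OkIndex at this
    rw [if_neg Nat.not_even_one] at this
    obtain ⟨m, hm⟩ := this
    exact normal_le_pCore (IsPGroup.of_card hm)
  refine ⟨fun n => (f (n + 2)).map (QuotientGroup.mk' _), ?_, fun n hn' => ?_,
    fun n => (hn _).map _ (QuotientGroup.mk'_surjective _), fun n => Subgroup.map_mono (hle _),
    fun n => ?_⟩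
  · dsimp only; rw [Subgroup.map_eq_bot_iff, QuotientGroup.ker_mk']; exact h2
  · dsimp only; rw [htop _ (by omega), Subgroup.map_top_of_surjective _ (QuotientGroup.mk'_surjective _)]
  · haveI := hn (n + 2)
    have := (hok (n + 2)).of_dvd
      (relIndex_map_dvd (QuotientGroup.mk' (Cfsg.pCore p G)) (hle (n + 2)))
    unfold OkIndex at this ⊢
    simpa only [Nat.even_add, even_two, iff_true] using this

/-- Subdirect products. -/
theorem HasPSeries.of_two {k : ℕ} (M N : Subgroup G) [M.Normal] [N.Normal]
    (hM : HasPSeries p k (G ⧸ M)) (hN : HasPSeries p k (G ⧸ N)) :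
    HasPSeries p k (G ⧸ (M ⊓ N)) := by
  obtain ⟨f, f0, ftop, fn, fle, fok⟩ := hM
  obtain ⟨g, g0, gtop, gn, gle, gok⟩ := hN
  obtain ⟨A, hA⟩ : ∃ A : ℕ → Subgroup G, ∀ n,
      A n = (f n).comap (QuotientGroup.mk' M) ⊓ (g n).comap (QuotientGroup.mk' N) :=
    ⟨_, fun _ => rfl⟩
  have hAn : ∀ n, (A n).Normal := fun n => by
    rw [hA]
    haveI := (fn n).comap (QuotientGroup.mk' M)
    haveI := (gn n).comap (QuotientGroup.mk' N)
    exact Subgroup.normal_inf_normal _ _
  have hAle : ∀ n, A n ≤ A (n + 1) := fun n => by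
    rw [hA, hA]; exact inf_le_inf (Subgroup.comap_mono (fle n)) (Subgroup.comap_mono (gle n))
  have hAok : ∀ n, OkIndex p n ((A n).relIndex (A (n + 1))) := by
    intro n
    obtain ⟨P, hP⟩ : ∃ P, P = (f n).comap (QuotientGroup.mk' M) := ⟨_, rfl⟩
    obtain ⟨Q, hQ⟩ : ∃ Q, Q = (g n).comap (QuotientGroup.mk' N) := ⟨_, rfl⟩
    haveI : P.Normal := hP ▸ (fn n).comap _
    haveI : Q.Normal := hQ ▸ (gn n).comap _
    rw [hA n, hA (n + 1), ← hP, ← hQ, ← Subgroup.inf_relIndex_right, inf_assoc,
      ← Subgroup.relIndex_inf_mul_relIndex, Subgroup.inf_relIndex_right]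
    refine OkIndex.mul (OkIndex.of_dvd ?_ (relIndex_dvd_of_le_right (inf_le_right.trans inf_le_left)))
      (OkIndex.of_dvd ?_ (relIndex_dvd_of_le_right inf_le_right))
    · rw [hP, comap_relIndex_eq]; exact fok n
    · rw [hQ, comap_relIndex_eq]; exact gok n
  refine ⟨fun n => (A n).map (QuotientGroup.mk' (M ⊓ N)), ?_, fun n hn' => ?_,
    fun n => (hAn n).map _ (QuotientGroup.mk'_surjective _), fun n => Subgroup.map_mono (hAle n),
    fun n => ?_⟩
  · dsimp only; rw [Subgroup.map_eq_bot_iff, QuotientGroup.ker_mk', hA, f0, g0, MonoidHom.comap_bot,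
      MonoidHom.comap_bot, QuotientGroup.ker_mk', QuotientGroup.ker_mk']
  · dsimp only; rw [hA, ftop n hn', gtop n hn', Subgroup.comap_top, Subgroup.comap_top, inf_top_eq,
      Subgroup.map_top_of_surjective _ (QuotientGroup.mk'_surjective _)]
  · haveI := hAn n
    exact (hAok n).of_dvd (relIndex_map_dvd _ (hAle n))

theorem HasPSeries.of_finset {k : ℕ} {ι : Type*} (K : ι → Subgroup G) (hn : ∀ i, (K i).Normal) :
    ∀ (s : Finset ι),
      (∀ i ∈ s, haveI := hn i; HasPSeries p k (G ⧸ K i)) →
        ∀ (L : Subgroup G) [L.Normal], L = s.inf K → HasPSeries p k (G ⧸ L) := by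
  classical
  intro s
  induction s using Finset.induction_on with
  | empty =>
    intro _ L _ hL
    refine hasPSeries_of_coprime k ?_
    rw [← Subgroup.index_eq_card, hL, Finset.inf_empty, Subgroup.index_top]
    exact Nat.coprime_one_left p
  | insert i s hi ih =>
    intro hall L _ hL
    haveI := hn i
    haveI hsn : (s.inf K).Normal := by
      clear ih hall hi hL
      induction s using Finset.induction_on with
      | empty => rw [Finset.inf_empty]; infer_instance
      | insert j t hj iht =>
        rw [Finset.inf_insert]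
        haveI := hn j
        haveI := iht
        exact Subgroup.normal_inf_normal _ _
    rw [Finset.inf_insert] at hL
    subst hL
    exact HasPSeries.of_two _ _ (hall i (Finset.mem_insert_self i s))
      (ih (fun j hj => hall j (Finset.mem_insert_of_mem hj)) _ rfl)

end Cfsg.Agent.Solv.PLen
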