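import Cfsg.Agent.Lib.Solv.SZ
import Mathlib.GroupTheory.Commutator.Basic

/-!
Coprime action: fixed points in cosets, invariant Sylow subgroups, `[K, A]`.
A group `A` acts on `K` by conjugation inside an ambient finite group.
-/

set_option autoImplicit false

open scoped Pointwise commutatorElement

namespace Cfsg.Agent.Solv

universe u

variable {G : Type u} [Group G]

theorem map_inf_of_subgroupOf {L A B : Subgroup G} (hA : A ≤ L) :
    (A.subgroupOf L ⊓ B.subgroupOf L).map L.subtype = A ⊓ B := by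
  rw [Subgroup.map_inf _ _ _ L.subtype_injective, Subgroup.map_subgroupOf_eq_of_le hA,
    Subgroup.subgroupOf_map_subtype]
  exact le_antisymm (inf_le_inf_left A inf_le_left)
    (le_inf inf_le_left (le_inf inf_le_right (inf_le_left.trans hA)))

/-- Product formula when `H` normalises `N`. -/
theorem card_sup_mul_card_inf' (N H : Subgroup G) (hH : H ≤ Subgroup.normalizer (N : Set G)) :
    Nat.card (N ⊔ H : Subgroup G) * Nat.card (N ⊓ H : Subgroup G)
      = Nat.card N * Nat.card H := by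
  set L := N ⊔ H
  have : (N.subgroupOf L).Normal :=
    Subgroup.normal_subgroupOf_of_le_normalizer (sup_le Subgroup.le_normalizer hH)
  have h := card_sup_mul_card_inf (N.subgroupOf L) (H.subgroupOf L)
  rwa [← Subgroup.subgroupOf_sup le_sup_left le_sup_right, Subgroup.subgroupOf_self,
    Subgroup.card_top, card_subgroupOf le_sup_left, card_subgroupOf le_sup_right,
    ← card_map_subtype (N.subgroupOf L ⊓ H.subgroupOf L),
    map_inf_of_subgroupOf le_sup_left] at h

theorem conj_mem_of_mem_normalizer {g x : G} {H : Subgroup G}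
    (hg : g ∈ Subgroup.normalizer (H : Set G)) (hx : x ∈ H) : g * x * g⁻¹ ∈ H :=
  (Subgroup.mem_normalizer_iff.1 hg x).1 hx

theorem comm_mem_of_mem_normalizer {g x : G} {H : Subgroup G}
    (hg : g ∈ Subgroup.normalizer (H : Set G)) (hx : x ∈ H) : x * g * x⁻¹ * g⁻¹ ∈ H := by
  have h := mul_mem hx (conj_mem_of_mem_normalizer hg (inv_mem hx))
  rwa [show x * (g * x⁻¹ * g⁻¹) = x * g * x⁻¹ * g⁻¹ by group] at h

/-- An element of `K` normalising a coprime `A` which normalises `K` centralises it. -/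
theorem centralizer_of_normalizes {A K : Subgroup G} (hAK : A ≤ Subgroup.normalizer (K : Set G))
    (hinf : K ⊓ A = ⊥) {c : G} (hc : c ∈ K) (hcA : c ∈ Subgroup.normalizer (A : Set G)) :
    c ∈ Subgroup.centralizer (A : Set G) := by
  rw [Subgroup.mem_centralizer_iff]
  intro a ha
  have h1 : c * a * c⁻¹ * a⁻¹ ∈ K := comm_mem_of_mem_normalizer (hAK ha) hc
  have h2 : c * a * c⁻¹ * a⁻¹ ∈ A := mul_mem (conj_mem_of_mem_normalizer hcA ha) (inv_mem ha)
  have h3 : c * a * c⁻¹ * a⁻¹ = 1 := Subgroup.mem_bot.1 (hinf ▸ ⟨h1, h2⟩)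
  have h4 : c * a * c⁻¹ * a⁻¹ * a * c = a * c := by rw [h3, one_mul]
  rw [← h4]; group

/-- An `A`-invariant coset of an `A`-invariant subgroup `D` contains a fixed point. -/
theorem exists_fixed_in_coset [Finite G] (A D : Subgroup G)
    (hAD : A ≤ Subgroup.normalizer (D : Set G)) (hco : (Nat.card A).Coprime (Nat.card D))
    (hsol : Group.IsSolvable A ∨ Group.IsSolvable D)
    {x : G} (hx : ∀ a ∈ A, x⁻¹ * (a * x * a⁻¹) ∈ D) :
    ∃ d ∈ D, x * d ∈ Subgroup.normalizer (A : Set G) := by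
  have hle : MulAut.conj x⁻¹ • A ≤ D ⊔ A := by
    intro y hy
    rw [mem_conj_smul, inv_inv] at hy
    have h := mul_mem (Subgroup.mem_sup_left (hx _ hy) : _ ∈ D ⊔ A) (Subgroup.mem_sup_right hy)
    rwa [show x⁻¹ * (x * y * x⁻¹ * x * (x * y * x⁻¹)⁻¹) * (x * y * x⁻¹) = y by group] at h
  obtain ⟨d, hd, hdA⟩ := sz_conj_rel D A (MulAut.conj x⁻¹ • A) hAD hle hco.symm
    (card_conj_smul _ _) hsol.symm
  refine ⟨d, hd, mem_normalizer_of_conj_smul ?_⟩
  rw [← conj_smul_conj, hdA, conj_smul_conj, mul_inv_cancel, conj_one_smul]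

theorem exists_fixed_in_coset' [Finite G] (A K D : Subgroup G)
    (hAK : A ≤ Subgroup.normalizer (K : Set G)) (hco : (Nat.card A).Coprime (Nat.card K))
    (hsol : Group.IsSolvable A ∨ Group.IsSolvable K) (hDK : D ≤ K)
    (hAD : A ≤ Subgroup.normalizer (D : Set G)) {x : G} (hxK : x ∈ K)
    (hx : ∀ a ∈ A, x⁻¹ * (a * x * a⁻¹) ∈ D) :
    ∃ c ∈ K ⊓ Subgroup.centralizer (A : Set G), x⁻¹ * c ∈ D := by
  obtain ⟨d, hd, hn⟩ := exists_fixed_in_coset A D hAD
    (hco.coprime_dvd_right (Subgroup.card_dvd_of_le hDK))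
    (hsol.imp id (isSolvable_of_le hDK)) hx
  refine ⟨x * d, ⟨mul_mem hxK (hDK hd), ?_⟩, by rwa [inv_mul_cancel_left]⟩
  exact centralizer_of_normalizes hAK (coprime_inf hco.symm) (mul_mem hxK (hDK hd)) hn

/-- `P` is a Sylow `p`-subgroup of `K`. -/
def IsSylIn (p : ℕ) (P K : Subgroup G) : Prop :=
  P ≤ K ∧ Nat.card P = p ^ (Nat.card K).factorization p

theorem IsSylIn.conj {p : ℕ} {P K : Subgroup G} (h : IsSylIn p P K) {g : G}
    (hg : g ∈ Subgroup.normalizer (K : Set G)) : IsSylIn p (MulAut.conj g • P) K :=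
  ⟨(Subgroup.pointwise_smul_le_pointwise_smul_iff.2 h.1).trans
    (conj_smul_of_mem_normalizer hg).le, by rw [card_conj_smul, h.2]⟩

theorem IsSylIn.of_sylow [Finite G] {p : ℕ} [Fact p.Prime] {K : Subgroup G} (P : Sylow p K) :
    IsSylIn p ((P : Subgroup K).map K.subtype) K :=
  ⟨Subgroup.map_subtype_le _, by rw [card_map_subtype]; exact P.card_eq_multiplicity⟩

theorem IsSylIn.exists_sylow [Finite G] {p : ℕ} [Fact p.Prime] {P K : Subgroup G}
    (h : IsSylIn p P K) : ∃ Q : Sylow p K, (Q : Subgroup K).map K.subtype = P := by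
  refine ⟨Sylow.ofCard (P.subgroupOf K) (by rw [card_subgroupOf h.1, h.2]), ?_⟩
  rw [Sylow.coe_ofCard, Subgroup.map_subgroupOf_eq_of_le h.1]

theorem IsSylIn.isPGroup [Finite G] {p : ℕ} [Fact p.Prime] {P K : Subgroup G}
    (h : IsSylIn p P K) : IsPGroup p P := IsPGroup.of_card h.2

theorem IsSylIn.eq_of_le [Finite G] {p : ℕ} [Fact p.Prime] {P Q K : Subgroup G}
    (h : IsSylIn p P K) (hQ : IsPGroup p Q) (hQK : Q ≤ K) (hPQ : P ≤ Q) : P = Q := by
  obtain ⟨k, hk⟩ := IsPGroup.iff_card.1 hQ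
  refine Subgroup.eq_of_le_of_card_ge hPQ (Nat.le_of_dvd Nat.card_pos ?_)
  rw [h.2, hk]
  have hd : p ^ k ∣ Nat.card K := hk ▸ Subgroup.card_dvd_of_le hQK
  exact pow_dvd_pow p ((Nat.Prime.pow_dvd_iff_le_factorization Fact.out Nat.card_pos.ne').1 hd)

theorem IsSylIn.exists_conj [Finite G] {p : ℕ} [Fact p.Prime] {P Q K : Subgroup G}
    (hP : IsSylIn p P K) (hQ : IsSylIn p Q K) : ∃ k ∈ K, MulAut.conj k • P = Q := by
  obtain ⟨P', hP'⟩ := hP.exists_sylow
  obtain ⟨Q', hQ'⟩ := hQ.exists_sylow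
  obtain ⟨k, hk⟩ := MulAction.exists_smul_eq K P' Q'
  refine ⟨k, k.2, ?_⟩
  rw [← hP', ← hQ', ← hk]
  exact (map_conj_smul K.subtype k _).symm

theorem exists_isSylIn [Finite G] (p : ℕ) [Fact p.Prime] (K : Subgroup G) :
    ∃ P : Subgroup G, IsSylIn p P K := by
  obtain ⟨P⟩ : Nonempty (Sylow p K) := inferInstance
  exact ⟨_, IsSylIn.of_sylow P⟩

section Coprime

variable [Finite G] {A K : Subgroup G}
  (hAK : A ≤ Subgroup.normalizer (K : Set G)) (hco : (Nat.card A).Coprime (Nat.card K))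
  (hsol : Group.IsSolvable A ∨ Group.IsSolvable K)

include hAK hco hsol

theorem exists_invariant_sylow (p : ℕ) [Fact p.Prime] :
    ∃ P : Subgroup G, IsSylIn p P K ∧ A ≤ Subgroup.normalizer (P : Set G) := by
  obtain ⟨P, hP⟩ := exists_isSylIn p K
  set R := Subgroup.normalizer (P : Set G) ⊓ (K ⊔ A) with hR
  set M := K ⊓ R with hM
  have hRK : R ≤ Subgroup.normalizer (K : Set G) :=
    inf_le_right.trans (sup_le Subgroup.le_normalizer hAK)
  have hKR : K ⊔ R = K ⊔ A := by
    refine le_antisymm (sup_le le_sup_left inf_le_right) (sup_le le_sup_left fun a ha => ?_)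
    obtain ⟨k, hk, hkeq⟩ := hP.exists_conj (hP.conj (hAK ha))
    have hka : k⁻¹ * a ∈ R := by
      refine ⟨mem_normalizer_of_conj_smul ?_,
        mul_mem (Subgroup.mem_sup_left (inv_mem hk)) (Subgroup.mem_sup_right ha)⟩
      rw [← conj_smul_conj, ← hkeq, conj_smul_conj, inv_mul_cancel, conj_one_smul]
    have := mul_mem (Subgroup.mem_sup_left hk : k ∈ K ⊔ R) (Subgroup.mem_sup_right hka)
    rwa [mul_inv_cancel_left] at this
  have hcard : Nat.card R = Nat.card A * Nat.card M := by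
    have h1 := card_sup_mul_card_inf' K R hRK
    have h2 := card_sup_mul_card_inf' K A hAK
    rw [coprime_inf hco.symm, Subgroup.card_bot, mul_one] at h2
    rw [hKR, h2] at h1
    refine Nat.eq_of_mul_eq_mul_left (Nat.card_pos (α := K)) ?_
    rw [← h1]; ring
  have hMn : (M.subgroupOf R).Normal := by
    refine Subgroup.normal_subgroupOf_of_le_normalizer fun r hr => ?_
    refine mem_normalizer_of_conj_smul ?_
    rw [hM, Subgroup.smul_inf, conj_smul_of_mem_normalizer (hRK hr),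
      Subgroup.conj_smul_eq_self_of_mem hr]
  have hidx : (M.subgroupOf R).index = Nat.card A := by
    have h := (M.subgroupOf R).card_mul_index
    rw [card_subgroupOf inf_le_right, hcard, mul_comm (Nat.card A)] at h
    exact Nat.eq_of_mul_eq_mul_left Nat.card_pos h
  have hcoM : (Nat.card A).Coprime (Nat.card M) :=
    hco.coprime_dvd_right (Subgroup.card_dvd_of_le inf_le_left)
  obtain ⟨C, hC⟩ := Subgroup.exists_right_complement'_of_coprime (N := M.subgroupOf R)
    (by rw [hidx, card_subgroupOf inf_le_right]; exact hcoM.symm)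
  set C' := C.map R.subtype with hC'
  have hC'c : Nat.card C' = Nat.card A := by
    rw [hC', card_map_subtype, ← hidx, ← hC.symm.index_eq_card]
  have hC'R : C' ≤ R := Subgroup.map_subtype_le C
  obtain ⟨g, hg, hgA⟩ := sz_conj_rel K A C' hAK (hC'R.trans inf_le_right) hco.symm hC'c hsol.symm
  refine ⟨MulAut.conj g⁻¹ • P, hP.conj (Subgroup.le_normalizer (H := K) (K.inv_mem hg)), fun a ha => ?_⟩
  have h1 : g * a * g⁻¹ ∈ C' := by
    rw [← hgA, mem_conj_smul, show g⁻¹ * (g * a * g⁻¹) * g = a by group]; exact ha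
  refine mem_normalizer_of_conj_smul ?_
  rw [conj_smul_conj, show a * g⁻¹ = g⁻¹ * (g * a * g⁻¹) by group, ← conj_smul_conj,
    conj_smul_of_mem_normalizer (hC'R h1).1]

theorem conj_of_invariant (P Q : Subgroup G) (hP : A ≤ Subgroup.normalizer (P : Set G))
    (hQ : A ≤ Subgroup.normalizer (Q : Set G)) {k : G} (hk : k ∈ K)
    (hPQ : MulAut.conj k • P = Q) :
    ∃ c ∈ K ⊓ Subgroup.centralizer (A : Set G), MulAut.conj c • P = Q := by
  set N := K ⊓ Subgroup.normalizer (Q : Set G) with hN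
  have hkn : k ∈ Subgroup.normalizer (K : Set G) := Subgroup.le_normalizer hk
  set B := MulAut.conj k • A with hB
  have hBK : B ≤ Subgroup.normalizer (K : Set G) := by
    intro b hb
    rw [hB, mem_conj_smul] at hb
    have := mul_mem (mul_mem hkn (hAK hb)) (inv_mem hkn)
    rwa [show k * (k⁻¹ * b * k) * k⁻¹ = b by group] at this
  have hBQ : B ≤ Subgroup.normalizer (Q : Set G) := by
    intro b hb
    rw [hB, mem_conj_smul] at hb
    refine mem_normalizer_of_conj_smul ?_
    rw [← hPQ, conj_smul_conj, show b * k = k * (k⁻¹ * b * k) by group, ← conj_smul_conj,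
      conj_smul_of_mem_normalizer (hP hb)]
  have hBN : B ≤ Subgroup.normalizer (N : Set G) := fun b hb => by
    refine mem_normalizer_of_conj_smul ?_
    rw [hN, Subgroup.smul_inf, conj_smul_of_mem_normalizer (hBK hb),
      conj_smul_of_mem_normalizer (Subgroup.le_normalizer (hBQ hb))]
  have hAle : A ≤ N ⊔ B := by
    intro a ha
    have hb : k * a * k⁻¹ ∈ B := by
      rw [hB, mem_conj_smul, show k⁻¹ * (k * a * k⁻¹) * k = a by group]; exact ha
    have h1 : k * a * k⁻¹ * a⁻¹ ∈ N :=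
      ⟨comm_mem_of_mem_normalizer (hAK ha) hk, mul_mem (hBQ hb) (Subgroup.inv_mem _ (hQ ha))⟩
    have := mul_mem (Subgroup.mem_sup_left (inv_mem h1) : _ ∈ N ⊔ B) (Subgroup.mem_sup_right hb)
    rwa [show (k * a * k⁻¹ * a⁻¹)⁻¹ * (k * a * k⁻¹) = a by group] at this
  obtain ⟨l, hl, hlA⟩ := sz_conj_rel N B A hBN hAle
    (by rw [hB, card_conj_smul]; exact hco.symm.coprime_dvd_left (Subgroup.card_dvd_of_le inf_le_left))
    (by rw [hB, card_conj_smul])
    (hsol.symm.imp (isSolvable_of_le inf_le_left) fun h => by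
      rw [hB, conj_smul_eq_map]; exact isSolvable_map _ h)
  have hcK : l * k ∈ K := mul_mem hl.1 hk
  refine ⟨l * k, ⟨hcK, centralizer_of_normalizes hAK (coprime_inf hco.symm) hcK
    (mem_normalizer_of_conj_smul ?_)⟩, ?_⟩
  · rw [← conj_smul_conj, ← hB, hlA]
  · rw [← conj_smul_conj, hPQ, conj_smul_of_mem_normalizer hl.2]

theorem invariant_sylow_conj {p : ℕ} [Fact p.Prime] {P Q : Subgroup G} (hP : IsSylIn p P K)
    (hQ : IsSylIn p Q K) (hPA : A ≤ Subgroup.normalizer (P : Set G))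
    (hQA : A ≤ Subgroup.normalizer (Q : Set G)) :
    ∃ c ∈ K ⊓ Subgroup.centralizer (A : Set G), MulAut.conj c • P = Q := by
  obtain ⟨k, hk, hkPQ⟩ := hP.exists_conj hQ
  exact conj_of_invariant hAK hco hsol P Q hPA hQA hk hkPQ

theorem exists_invariant_sylow_ge {p : ℕ} [Fact p.Prime] (U : Subgroup G) (hUK : U ≤ K)
    (hU : IsPGroup p U) (hUA : A ≤ Subgroup.normalizer (U : Set G)) :
    ∃ P : Subgroup G, IsSylIn p P K ∧ U ≤ P ∧ A ≤ Subgroup.normalizer (P : Set G) := by
  obtain ⟨V, hUV, hV⟩ := Finite.exists_le_maximal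
    (p := fun V : Subgroup G => V ≤ K ∧ IsPGroup p V ∧ A ≤ Subgroup.normalizer (V : Set G))
    (a := U) ⟨hUK, hU, hUA⟩
  refine ⟨V, ?_, hUV, hV.1.2.2⟩
  obtain ⟨hVK, hVp, hVA⟩ := hV.1
  set M := K ⊓ Subgroup.normalizer (V : Set G) with hM
  have hAM : A ≤ Subgroup.normalizer (M : Set G) := fun a ha => by
    refine mem_normalizer_of_conj_smul ?_
    rw [hM, Subgroup.smul_inf, conj_smul_of_mem_normalizer (hAK ha),
      conj_smul_of_mem_normalizer (Subgroup.le_normalizer (hVA ha))]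
  have hVM : V ≤ M := le_inf hVK Subgroup.le_normalizer
  obtain ⟨P, hP, hPA⟩ := exists_invariant_sylow hAM
    (hco.coprime_dvd_right (Subgroup.card_dvd_of_le inf_le_left))
    (hsol.imp id (isSolvable_of_le inf_le_left)) p
  have hPV : P ≤ Subgroup.normalizer (V : Set G) := hP.1.trans inf_le_right
  have hPV' : P = P ⊔ V := hP.eq_of_le (hP.isPGroup.to_sup_of_normal_right' hVp hPV)
    (sup_le hP.1 hVM) le_sup_left
  have hle : V ≤ P := hPV' ▸ le_sup_right
  have heq : P = V := le_antisymm (hV.2 ⟨hP.1.trans inf_le_left, hP.isPGroup, hPA⟩ hle) hle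
  obtain ⟨S, hS⟩ := IsPGroup.exists_le_sylow (hVp.comap_subtype (K := K))
  set S' := (S : Subgroup K).map K.subtype with hS'
  have hVS : V ≤ S' := by
    rw [hS', ← Subgroup.map_subgroupOf_eq_of_le hVK]; exact Subgroup.map_mono hS
  by_contra hne
  have hlt : V < S' := lt_of_le_of_ne hVS fun h => hne (h ▸ IsSylIn.of_sylow S)
  have : Group.IsNilpotent S' := (IsSylIn.of_sylow S).isPGroup.isNilpotent
  have hnc := Group.normalizerCondition_of_isNilpotent (G := S') (V.subgroupOf S')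
    (lt_top_iff_ne_top.2 fun h => hlt.not_ge (Subgroup.subgroupOf_eq_top.1 h))
  obtain ⟨x, hxN, hxV⟩ := SetLike.exists_of_lt hnc
  have hx' : (x : G) ∈ Subgroup.normalizer (V : Set G) := by
    have h2 : (V.subgroupOf S').map S'.subtype = V := Subgroup.map_subgroupOf_eq_of_le hVS
    refine mem_normalizer_of_conj_smul ?_
    have := congrArg (Subgroup.map S'.subtype) (conj_smul_of_mem_normalizer hxN)
    rwa [map_conj_smul, h2] at this
  set W := V ⊔ Subgroup.zpowers (x : G) with hW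
  have hWS : W ≤ S' := sup_le hVS (Subgroup.zpowers_le.2 x.2)
  have hWM : W ≤ M := sup_le hVM
    (Subgroup.zpowers_le.2 ⟨Subgroup.map_subtype_le _ x.2, hx'⟩)
  have := hP.eq_of_le ((IsSylIn.of_sylow S).isPGroup.to_le hWS) hWM (heq.le.trans le_sup_left)
  refine hxV ?_
  show (x : G) ∈ V
  rw [← heq, this]
  exact Subgroup.mem_sup_right (Subgroup.mem_zpowers _)

omit [Finite G] hsol hco in
theorem commutator_normal_in : ⁅K, A⁆ ≤ K ∧ K ≤ Subgroup.normalizer ((⁅K, A⁆ : Subgroup G) : Set G) ∧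
    A ≤ Subgroup.normalizer ((⁅K, A⁆ : Subgroup G) : Set G) := by
  refine ⟨Subgroup.commutator_le.2 fun k hk a ha => ?_, fun x hx => ?_, fun x hx => ?_⟩
  · rw [commutatorElement_def]; exact comm_mem_of_mem_normalizer (hAK ha) hk
  · rw [← Subgroup.zpowers_le] at hx
    refine mem_normalizer_of_conj_smul ?_
    have hx' : x ∈ K := hx (Subgroup.mem_zpowers x)
    have key : ∀ y ∈ K, MulAut.conj y • ⁅K, A⁆ ≤ ⁅K, A⁆ := by
      intro y hy
      rw [conj_smul_eq_map, Subgroup.commutator_def, MonoidHom.map_closure, Subgroup.closure_le]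
      rintro _ ⟨_, ⟨k, hk, a, ha, rfl⟩, rfl⟩
      have e : (MulAut.conj y).toMonoidHom ⁅k, a⁆ = ⁅y * k, a⁆ * ⁅y, a⁆⁻¹ := by
        simp only [MulEquiv.coe_toMonoidHom, MulAut.conj_apply, commutatorElement_def]
        group
      rw [e]
      exact mul_mem (Subgroup.commutator_mem_commutator (mul_mem hy hk) ha)
        (inv_mem (Subgroup.commutator_mem_commutator hy ha))
    exact le_antisymm (key x hx') (Subgroup.subset_pointwise_smul_iff.2
      (by rw [← map_inv]; exact key _ (inv_mem hx')))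
  · refine mem_normalizer_of_conj_smul ?_
    rw [conj_smul_eq_map, Subgroup.map_commutator, ← conj_smul_eq_map, ← conj_smul_eq_map,
      conj_smul_of_mem_normalizer (hAK hx), Subgroup.conj_smul_eq_self_of_mem hx]

theorem exists_commutator_mul_fixed {k : G} (hk : k ∈ K) :
    ∃ n ∈ ⁅K, A⁆, ∃ c ∈ K ⊓ Subgroup.centralizer (A : Set G), k = n * c := by
  obtain ⟨h1, h2, h3⟩ := commutator_normal_in hAK
  obtain ⟨c, hc, hcd⟩ := exists_fixed_in_coset' A K ⁅K, A⁆ hAK hco hsol h1 h3 hk (fun a ha => by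
    have := inv_mem (Subgroup.commutator_mem_commutator (inv_mem hk) ha (g₂ := a))
    rw [commutatorElement_def] at this
    have h4 := conj_mem_of_mem_normalizer (h2 (inv_mem hk)) (Subgroup.commutator_mem_commutator hk ha)
    rw [commutatorElement_def] at h4
    have h5 := inv_mem h4
    rwa [show (k⁻¹ * (k * a * k⁻¹ * a⁻¹) * k⁻¹⁻¹)⁻¹ = k⁻¹ * (a * k * a⁻¹) by group] at h5)
  refine ⟨k * c⁻¹, ?_, c, hc, by group⟩
  have := conj_mem_of_mem_normalizer (h2 hk) (inv_mem hcd)
  rwa [show k * (k⁻¹ * c)⁻¹ * k⁻¹ = k * c⁻¹ by group] at this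

theorem commutator_sup_fixed :
    ⁅K, A⁆ ⊔ (K ⊓ Subgroup.centralizer (A : Set G)) = K := by
  refine le_antisymm (sup_le (commutator_normal_in hAK).1 inf_le_left) fun k hk => ?_
  obtain ⟨n, hn, c, hc, rfl⟩ := exists_commutator_mul_fixed hAK hco hsol hk
  exact mul_mem (Subgroup.mem_sup_left hn) (Subgroup.mem_sup_right hc)

theorem commutator_commutator_eq : ⁅⁅K, A⁆, A⁆ = ⁅K, A⁆ := by
  refine le_antisymm (Subgroup.commutator_mono (commutator_normal_in hAK).1 le_rfl)
    (Subgroup.commutator_le.2 fun k hk a ha => ?_)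
  obtain ⟨n, hn, c, hc, rfl⟩ := exists_commutator_mul_fixed hAK hco hsol hk
  have e : ⁅n * c, a⁆ = ⁅n, a⁆ := by
    have hca : c * a = a * c := (Subgroup.mem_centralizer_iff.1 hc.2 a ha).symm
    rw [commutatorElement_def, commutatorElement_def, mul_inv_rev, mul_assoc n c a, hca]
    group
  rw [e]
  exact Subgroup.commutator_mem_commutator hn ha

end Coprime

end Cfsg.Agent.Solv
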