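import Cfsg.Agent.Lib.Solv.SZ
import Mathlib.Data.Nat.Factorization.Basic

/-!
Hall's theorems for finite solvable groups.
-/

set_option autoImplicit false

open scoped Pointwise

namespace Cfsg.Agent.Solv

universe u

variable {G : Type u} [Group G]

theorem hall_aux : ∀ (k : ℕ) {G : Type u} [Group G] [Finite G], Nat.card G = k →
    Group.IsSolvable G → ∀ m n : ℕ, Nat.card G = m * n → m.Coprime n →
      (∃ H : Subgroup G, Nat.card H = m) ∧
      ∀ K : Subgroup G, (Nat.card K).Coprime n → ∀ H : Subgroup G, Nat.card H = m →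
        ∃ g : G, K ≤ MulAut.conj g • H := by
  intro k
  induction k using Nat.strong_induction_on with
  | _ k ih =>
    intro G _ _ hk hG m n hmn hco
    subst hk
    by_cases hm : m = 1
    · subst hm
      refine ⟨⟨⊥, Subgroup.card_bot⟩, fun K hK H hH => ⟨1, ?_⟩⟩
      rw [one_mul] at hmn
      rw [Subgroup.card_eq_one.1 (Nat.eq_one_of_dvd_coprimes hK dvd_rfl
        (hmn ▸ Subgroup.card_subgroup_dvd_card K))]
      exact bot_le
    have : Nontrivial G := by
      rw [← Finite.one_lt_card_iff_nontrivial]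
      have hpos : 0 < Nat.card G := Nat.card_pos
      have : m ∣ Nat.card G := ⟨n, hmn⟩
      have := Nat.le_of_dvd hpos this
      have : m ≠ 0 := fun h => by rw [h, zero_mul] at hmn; omega
      omega
    obtain ⟨N, hNn, hNb, hNmin⟩ := exists_minimal_normal (G := G)
    obtain ⟨-, p, hp, -, hpg⟩ := minimal_normal_elementaryAbelian N inferInstance hNb hNmin
    have := Fact.mk hp
    obtain ⟨a, ha⟩ := IsPGroup.iff_card.1 hpg
    have hlt := card_quotient_lt N hNb
    have hQsol : Group.IsSolvable (G ⧸ N) :=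
      Group.isSolvable_of_surjective (QuotientGroup.mk'_surjective N)
    have hQcard : Nat.card (G ⧸ N) * Nat.card N = Nat.card G := by
      rw [← Subgroup.index_eq_card, mul_comm, N.card_mul_index]
    set f := QuotientGroup.mk' N with hf
    by_cases hpm : p ∣ m
    · have hpn : ¬ p ∣ n := fun h => hp.ne_one (Nat.eq_one_of_dvd_coprimes hco hpm h)
      have hNco : (Nat.card N).Coprime n := by
        rw [ha]; exact Nat.Coprime.pow_left a (hp.coprime_iff_not_dvd.2 hpn)
      have hNm : Nat.card N ∣ m := hNco.dvd_of_dvd_mul_right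
        (hmn ▸ Subgroup.card_subgroup_dvd_card N)
      obtain ⟨m', hm'⟩ := hNm
      have hQ : Nat.card (G ⧸ N) = m' * n := by
        refine Nat.eq_of_mul_eq_mul_right (Nat.card_pos (α := N)) ?_
        rw [hQcard, hmn, hm']; ring
      obtain ⟨⟨H₁, hH₁⟩, hcont⟩ := ih _ hlt rfl hQsol m' n hQ
        (hco.coprime_dvd_left ⟨Nat.card N, by rw [hm']; ring⟩)
      refine ⟨⟨H₁.comap f, by rw [card_comap_mk', hH₁, hm']; ring⟩, fun K hK H hH => ?_⟩
      have hNH : N ≤ H := normal_le_of_coprime_index N H (by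
        have h := H.card_mul_index
        rw [hH, hmn] at h
        have hm0 : 0 < m := hH ▸ Nat.card_pos
        rw [Nat.eq_of_mul_eq_mul_left hm0 h]
        exact hNco)
      have hHmap : Nat.card (H.map f) = m' := by
        have h := card_map_mk'_mul_card_inf N H
        rw [inf_eq_left.2 hNH, hH, hm', mul_comm (Nat.card N)] at h
        exact Nat.eq_of_mul_eq_mul_right Nat.card_pos h
      obtain ⟨x, hx⟩ := hcont (K.map f) (hK.coprime_dvd_left (card_map_mk'_dvd N K)) (H.map f) hHmap
      obtain ⟨g, rfl⟩ := QuotientGroup.mk'_surjective N x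
      rw [← hf, ← map_conj_smul] at hx
      refine ⟨g, (map_mk'_le_imp_le N K _ hx).trans (sup_le ?_ le_rfl)⟩
      conv_lhs => rw [← Subgroup.Normal.conj_smul_eq_self g N]
      exact Subgroup.pointwise_smul_le_pointwise_smul_iff.2 hNH
    · have hNco : (Nat.card N).Coprime m := by
        rw [ha]; exact Nat.Coprime.pow_left a (hp.coprime_iff_not_dvd.2 hpm)
      have hNn' : Nat.card N ∣ n := hNco.dvd_of_dvd_mul_left
        (hmn ▸ Subgroup.card_subgroup_dvd_card N)
      obtain ⟨n', hn'⟩ := hNn'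
      have hQ : Nat.card (G ⧸ N) = m * n' := by
        refine Nat.eq_of_mul_eq_mul_right (Nat.card_pos (α := N)) ?_
        rw [hQcard, hmn, hn']; ring
      obtain ⟨⟨H₁, hH₁⟩, hcont⟩ := ih _ hlt rfl hQsol m n' hQ
        (hco.coprime_dvd_right ⟨Nat.card N, by rw [hn']; ring⟩)
      constructor
      · set L := H₁.comap f with hL
        have hNL : N ≤ L := QuotientGroup.le_comap_mk' N H₁
        have hidx : (N.subgroupOf L).index = m := by
          have h := (N.subgroupOf L).card_mul_index
          rw [card_subgroupOf hNL, card_comap_mk', hH₁, mul_comm m] at h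
          exact Nat.eq_of_mul_eq_mul_left Nat.card_pos h
        obtain ⟨C, hC⟩ := Subgroup.exists_right_complement'_of_coprime (N := N.subgroupOf L)
          (by rw [hidx, card_subgroupOf hNL]; exact hNco)
        refine ⟨C.map L.subtype, ?_⟩
        rw [card_map_subtype, ← hidx, ← hC.symm.index_eq_card]
      · intro K hK H hH
        have hNH : N ⊓ H = ⊥ := coprime_inf (hH ▸ hNco)
        have hHmap : Nat.card (H.map f) = m := by
          have h := card_map_mk'_mul_card_inf N H
          rwa [hNH, Subgroup.card_bot, mul_one, hH] at h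
        obtain ⟨x, hx⟩ := hcont (K.map f) ((hK.coprime_dvd_left (card_map_mk'_dvd N K)).coprime_dvd_right
          ⟨Nat.card N, by rw [hn']; ring⟩) (H.map f) hHmap
        obtain ⟨g, rfl⟩ := QuotientGroup.mk'_surjective N x
        rw [← hf, ← map_conj_smul] at hx
        have hle := map_mk'_le_imp_le N K _ hx
        obtain ⟨l, -, hl⟩ := sz_contain N (MulAut.conj g • H) K
          (by rw [Subgroup.normalizer_eq_top_iff.2 hNn]; exact le_top) hle
          ((hK.coprime_dvd_right ⟨n', hn'⟩).symm) (by rw [card_conj_smul, hH]; exact hNco)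
          (Or.inl inferInstance)
        exact ⟨l * g, by rwa [← conj_smul_conj]⟩

theorem hall_exists [Finite G] (hG : Group.IsSolvable G) {m n : ℕ} (h : Nat.card G = m * n)
    (hco : m.Coprime n) : ∃ H : Subgroup G, Nat.card H = m :=
  (hall_aux _ rfl hG m n h hco).1

theorem hall_contain [Finite G] (hG : Group.IsSolvable G) {m n : ℕ} (h : Nat.card G = m * n)
    (hco : m.Coprime n) (K H : Subgroup G) (hK : (Nat.card K).Coprime n) (hH : Nat.card H = m) :
    ∃ g : G, K ≤ MulAut.conj g • H :=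
  (hall_aux _ rfl hG m n h hco).2 K hK H hH

theorem hall_conj [Finite G] (hG : Group.IsSolvable G) {m n : ℕ} (h : Nat.card G = m * n)
    (hco : m.Coprime n) (H K : Subgroup G) (hH : Nat.card H = m) (hK : Nat.card K = m) :
    ∃ g : G, MulAut.conj g • H = K := by
  obtain ⟨g, hg⟩ := hall_contain hG h hco K H (hK ▸ hco) hH
  exact ⟨g, (Subgroup.eq_of_le_of_card_ge hg (by rw [card_conj_smul, hH, hK])).symm⟩

/-- Split a natural number into its `π`-part and its `π'`-part. -/
theorem exists_pi_split (π : Set ℕ) (k : ℕ) (hk : k ≠ 0) :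
    ∃ m n : ℕ, k = m * n ∧ m.Coprime n ∧ (∀ p : ℕ, p.Prime → p ∣ m → p ∈ π) ∧
      (∀ p : ℕ, p.Prime → p ∣ n → p ∉ π) := by
  induction k using Nat.recOnPosPrimePosCoprime with
  | zero => exact absurd rfl hk
  | one => exact ⟨1, 1, rfl, Nat.coprime_one_left 1,
      fun p hp h => absurd (Nat.dvd_one.1 h) hp.ne_one,
      fun p hp h => absurd (Nat.dvd_one.1 h) hp.ne_one⟩
  | prime_pow p e hp he =>
    by_cases hπ : p ∈ π
    · refine ⟨p ^ e, 1, by ring, Nat.coprime_one_right _, fun q hq h => ?_,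
        fun q hq h => absurd (Nat.dvd_one.1 h) hq.ne_one⟩
      rwa [(Nat.prime_dvd_prime_iff_eq hq hp).1 (hq.dvd_of_dvd_pow h)]
    · refine ⟨1, p ^ e, by ring, Nat.coprime_one_left _,
        fun q hq h => absurd (Nat.dvd_one.1 h) hq.ne_one, fun q hq h => ?_⟩
      rwa [(Nat.prime_dvd_prime_iff_eq hq hp).1 (hq.dvd_of_dvd_pow h)]
  | coprime a b ha hb hab iha ihb =>
    obtain ⟨m₁, n₁, e₁, -, h₁, h₁'⟩ := iha (by omega)
    obtain ⟨m₂, n₂, e₂, -, h₂, h₂'⟩ := ihb (by omega)
    refine ⟨m₁ * m₂, n₁ * n₂, by rw [e₁, e₂]; ring, ?_, ?_, ?_⟩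
    · refine Nat.coprime_of_dvd fun q hq hqm hqn => ?_
      have hm : q ∈ π := by
        rcases hq.dvd_mul.1 hqm with h | h
        exacts [h₁ q hq h, h₂ q hq h]
      rcases hq.dvd_mul.1 hqn with h | h
      exacts [h₁' q hq h hm, h₂' q hq h hm]
    · intro q hq h
      rcases hq.dvd_mul.1 h with h | h
      exacts [h₁ q hq h, h₂ q hq h]
    · intro q hq h
      rcases hq.dvd_mul.1 h with h | h
      exacts [h₁' q hq h, h₂' q hq h]

theorem coprime_of_pi {π : Set ℕ} {a b : ℕ} (ha : ∀ p : ℕ, p.Prime → p ∣ a → p ∈ π)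
    (hb : ∀ p : ℕ, p.Prime → p ∣ b → p ∉ π) : a.Coprime b :=
  Nat.coprime_of_dvd fun q hq hqa hqb => hb q hq hqb (ha q hq hqa)

end Cfsg.Agent.Solv
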