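import Cfsg.Agent.Lib.Solv.Coprime
import Cfsg.Agent.Lib.Solv.Hall

/-!
Coprime action on a solvable group: invariant Hall subgroups.
-/

set_option autoImplicit false

open scoped Pointwise

namespace Cfsg.Agent.Solv

universe u

variable {G : Type u} [Group G]

theorem exists_invariant_of_frattini [Finite G] {A K P : Subgroup G}
    (hAK : A ≤ Subgroup.normalizer (K : Set G)) (hco : (Nat.card A).Coprime (Nat.card K))
    (hsol : Group.IsSolvable A ∨ Group.IsSolvable K)
    (hconj : ∀ a ∈ A, ∃ k ∈ K, MulAut.conj k • P = MulAut.conj a • P) :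
    ∃ k ∈ K, A ≤ Subgroup.normalizer ((MulAut.conj k • P : Subgroup G) : Set G) := by
  set R := Subgroup.normalizer (P : Set G) ⊓ (K ⊔ A) with hR
  set M := K ⊓ R with hM
  have hRK : R ≤ Subgroup.normalizer (K : Set G) :=
    inf_le_right.trans (sup_le Subgroup.le_normalizer hAK)
  have hKR : K ⊔ R = K ⊔ A := by
    refine le_antisymm (sup_le le_sup_left inf_le_right) (sup_le le_sup_left fun a ha => ?_)
    obtain ⟨k, hk, hkeq⟩ := hconj a ha
    have hka : k⁻¹ * a ∈ R := by
      refine ⟨mem_normalizer_of_conj_smul ?_,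
        mul_mem (Subgroup.mem_sup_left (inv_mem hk)) (Subgroup.mem_sup_right ha)⟩
      rw [← conj_smul_conj, ← hkeq, conj_smul_conj, inv_mul_cancel, conj_one_smul]
    have := mul_mem (Subgroup.mem_sup_left hk : k ∈ K ⊔ R) (Subgroup.mem_sup_right hka)
    rwa [mul_inv_cancel_left] at this
  have hcard : Nat.card R = Nat.card A * Nat.card M := by
    have h1 := card_sup_mul_card_inf' K R hRK
    have h2 := card_sup_mul_card_inf' K A hAK
    rw [coprime_inf hco.symm, Subgroup.card_bot, mul_one] at h2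
    rw [hKR, h2] at h1
    refine Nat.eq_of_mul_eq_mul_left (Nat.card_pos (α := K)) ?_
    rw [← h1]; ring
  have hMn : (M.subgroupOf R).Normal := by
    refine Subgroup.normal_subgroupOf_of_le_normalizer fun r hr => ?_
    refine mem_normalizer_of_conj_smul ?_
    rw [hM, Subgroup.smul_inf, conj_smul_of_mem_normalizer (hRK hr),
      Subgroup.conj_smul_eq_self_of_mem hr]
  have hidx : (M.subgroupOf R).index = Nat.card A := by
    have h := (M.subgroupOf R).card_mul_index
    rw [card_subgroupOf inf_le_right, hcard, mul_comm (Nat.card A)] at h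
    exact Nat.eq_of_mul_eq_mul_left Nat.card_pos h
  have hcoM : (Nat.card A).Coprime (Nat.card M) :=
    hco.coprime_dvd_right (Subgroup.card_dvd_of_le inf_le_left)
  obtain ⟨C, hC⟩ := Subgroup.exists_right_complement'_of_coprime (N := M.subgroupOf R)
    (by rw [hidx, card_subgroupOf inf_le_right]; exact hcoM.symm)
  set C' := C.map R.subtype with hC'
  have hC'c : Nat.card C' = Nat.card A := by
    rw [hC', card_map_subtype, ← hidx, ← hC.symm.index_eq_card]
  have hC'R : C' ≤ R := Subgroup.map_subtype_le C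
  obtain ⟨g, hg, hgA⟩ := sz_conj_rel K A C' hAK (hC'R.trans inf_le_right) hco.symm hC'c hsol.symm
  refine ⟨g⁻¹, inv_mem hg, fun a ha => ?_⟩
  have h1 : g * a * g⁻¹ ∈ C' := by
    rw [← hgA, mem_conj_smul, show g⁻¹ * (g * a * g⁻¹) * g = a by group]; exact ha
  refine mem_normalizer_of_conj_smul ?_
  rw [conj_smul_conj, show a * g⁻¹ = g⁻¹ * (g * a * g⁻¹) by group, ← conj_smul_conj,
    conj_smul_of_mem_normalizer (hC'R h1).1]

section

variable [Finite G] {A K : Subgroup G} (hAK : A ≤ Subgroup.normalizer (K : Set G))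
  (hco : (Nat.card A).Coprime (Nat.card K)) (hK : Group.IsSolvable K) {m n : ℕ}
  (hmn : Nat.card K = m * n) (hcmn : m.Coprime n)

include hK hmn hcmn

theorem hall_conj_in {H₁ H₂ : Subgroup G} (h₁ : H₁ ≤ K) (c₁ : Nat.card H₁ = m) (h₂ : H₂ ≤ K)
    (c₂ : Nat.card H₂ = m) : ∃ k ∈ K, MulAut.conj k • H₁ = H₂ := by
  obtain ⟨k, hk⟩ := hall_conj hK hmn hcmn (H₁.subgroupOf K) (H₂.subgroupOf K)
    ((card_subgroupOf h₁).trans c₁) ((card_subgroupOf h₂).trans c₂)
  exact ⟨k, k.2, subgroupOf_conj_eq h₁ h₂ k hk⟩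

include hAK hco

theorem exists_invariant_hall :
    ∃ H : Subgroup G, H ≤ K ∧ Nat.card H = m ∧ A ≤ Subgroup.normalizer (H : Set G) := by
  obtain ⟨H₀, hH₀⟩ := hall_exists hK hmn hcmn
  set P := H₀.map K.subtype
  have hP : P ≤ K := Subgroup.map_subtype_le _
  have hPc : Nat.card P = m := by rw [card_map_subtype, hH₀]
  have hsmul : ∀ x ∈ Subgroup.normalizer (K : Set G), MulAut.conj x • P ≤ K := fun x hx =>
    (Subgroup.pointwise_smul_le_pointwise_smul_iff.2 hP).trans (conj_smul_of_mem_normalizer hx).le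
  obtain ⟨k, hk, hA⟩ := exists_invariant_of_frattini hAK hco (Or.inr hK) (P := P) fun a ha =>
    hall_conj_in hK hmn hcmn hP hPc (hsmul a (hAK ha)) (by rw [card_conj_smul, hPc])
  exact ⟨_, hsmul k (Subgroup.le_normalizer hk), by rw [card_conj_smul, hPc], hA⟩

theorem invariant_hall_conj {H₁ H₂ : Subgroup G} (h₁ : H₁ ≤ K) (c₁ : Nat.card H₁ = m)
    (a₁ : A ≤ Subgroup.normalizer (H₁ : Set G)) (h₂ : H₂ ≤ K) (c₂ : Nat.card H₂ = m)
    (a₂ : A ≤ Subgroup.normalizer (H₂ : Set G)) :
    ∃ c ∈ K ⊓ Subgroup.centralizer (A : Set G), MulAut.conj c • H₁ = H₂ := by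
  obtain ⟨k, hk, e⟩ := hall_conj_in hK hmn hcmn h₁ c₁ h₂ c₂
  exact conj_of_invariant hAK hco (Or.inr hK) H₁ H₂ a₁ a₂ hk e

end

theorem normalizer_smul_inf {A H T : Subgroup G} (hH : A ≤ Subgroup.normalizer (H : Set G))
    (hT : A ≤ Subgroup.normalizer (T : Set G)) :
    A ≤ Subgroup.normalizer ((H ⊓ T : Subgroup G) : Set G) := fun a ha => by
  refine mem_normalizer_of_conj_smul ?_
  rw [Subgroup.smul_inf, conj_smul_of_mem_normalizer (hH ha), conj_smul_of_mem_normalizer (hT ha)]

theorem normalizer_smul_sup {A H T : Subgroup G} (hH : A ≤ Subgroup.normalizer (H : Set G))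
    (hT : A ≤ Subgroup.normalizer (T : Set G)) :
    A ≤ Subgroup.normalizer ((H ⊔ T : Subgroup G) : Set G) := fun a ha => by
  refine mem_normalizer_of_conj_smul ?_
  rw [Subgroup.smul_sup, conj_smul_of_mem_normalizer (hH ha), conj_smul_of_mem_normalizer (hT ha)]

/-- In a split extension `M ⊔ H` with `M` of coprime order, invariant subgroups of order prime to
`|M|` lie in invariant conjugates of the invariant complement `H`. -/
theorem exists_conj_ge_of_split [Finite G] {A M H U : Subgroup G}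
    (hHM : H ≤ Subgroup.normalizer (M : Set G)) (hUM : U ≤ M ⊔ H)
    (hAM : A ≤ Subgroup.normalizer (M : Set G)) (hAH : A ≤ Subgroup.normalizer (H : Set G))
    (hAU : A ≤ Subgroup.normalizer (U : Set G)) (hM : Group.IsSolvable M)
    (hcoH : (Nat.card M).Coprime (Nat.card H)) (hcoU : (Nat.card M).Coprime (Nat.card U))
    (hco : (Nat.card A).Coprime (Nat.card (M ⊔ U : Subgroup G)))
    (hsol : Group.IsSolvable (M ⊔ U : Subgroup G)) :
    ∃ c ∈ (M ⊔ U) ⊓ Subgroup.centralizer (A : Set G), U ≤ MulAut.conj c • H := by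
  have hUn : U ≤ Subgroup.normalizer (M : Set G) := hUM.trans (sup_le Subgroup.le_normalizer hHM)
  set T := (M ⊔ U) ⊓ H with hT
  have hAT : A ≤ Subgroup.normalizer (T : Set G) :=
    normalizer_smul_inf (normalizer_smul_sup hAM hAU) hAH
  have hTn : T ≤ Subgroup.normalizer (M : Set G) := inf_le_right.trans hHM
  have hsup : M ⊔ U = M ⊔ T := by
    refine le_antisymm (sup_le le_sup_left fun x hx => ?_) (sup_le le_sup_left inf_le_left)
    have hx' : x ∈ ((M ⊔ H : Subgroup G) : Set G) := hUM hx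
    rw [Subgroup.coe_mul_of_right_le_normalizer_left M H hHM] at hx'
    obtain ⟨y, hy, h, hh, rfl⟩ := hx'
    refine Subgroup.mul_mem_sup hy ⟨?_, hh⟩
    have := mul_mem (Subgroup.mem_sup_left (inv_mem hy)) (Subgroup.mem_sup_right hx : _ ∈ M ⊔ U)
    rwa [inv_mul_cancel_left] at this
  have hcard : Nat.card T = Nat.card U := by
    have h1 := card_sup_mul_card_inf' M U hUn
    have h2 := card_sup_mul_card_inf' M T hTn
    rw [coprime_inf hcoU, Subgroup.card_bot, mul_one] at h1
    rw [coprime_inf (hcoH.coprime_dvd_right (Subgroup.card_dvd_of_le inf_le_right)),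
      Subgroup.card_bot, mul_one, ← hsup, h1] at h2
    exact (Nat.eq_of_mul_eq_mul_left Nat.card_pos h2).symm
  obtain ⟨g, hg, hgT⟩ := sz_conj_rel M T U hTn (hsup ▸ le_sup_right)
    (hcard ▸ hcoU) hcard.symm (Or.inl hM)
  obtain ⟨c, hc, hcT⟩ := conj_of_invariant (normalizer_smul_sup hAM hAU) hco (Or.inr hsol) T U hAT
    hAU (Subgroup.mem_sup_left hg) hgT
  exact ⟨c, hc, hcT ▸ Subgroup.pointwise_smul_le_pointwise_smul_iff.2 inf_le_right⟩

theorem exists_min_invariant [Finite G] {A K : Subgroup G} (hK : Group.IsSolvable K) (hKb : K ≠ ⊥)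
    (hAK : A ≤ Subgroup.normalizer (K : Set G)) :
    ∃ M : Subgroup G, M ≤ K ∧ M ≠ ⊥ ∧ K ≤ Subgroup.normalizer (M : Set G) ∧
      A ≤ Subgroup.normalizer (M : Set G) ∧ ∃ p : ℕ, p.Prime ∧ IsPGroup p M := by
  set L := K ⊔ A
  have hn : (K.subgroupOf L).Normal :=
    Subgroup.normal_subgroupOf_of_le_normalizer (sup_le Subgroup.le_normalizer hAK)
  obtain ⟨M, hMn, hMb, hMK, hmin⟩ := exists_minimal_normal_le (K.subgroupOf L) (by
    rw [Ne, Subgroup.subgroupOf_eq_bot]
    intro h
    exact hKb (by simpa using (h.mono_right (le_sup_left : K ≤ L)).eq_bot))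
  obtain ⟨-, p, hp, -, hpg⟩ := minimal_normal_elementaryAbelian M
    (isSolvable_of_le hMK (isSolvable_subgroupOf le_sup_left hK)) hMb hmin
  have hN : L ≤ Subgroup.normalizer (M.map L.subtype : Set G) := by
    have h := Subgroup.le_normalizer_map (H := M) L.subtype
    rwa [Subgroup.normalizer_eq_top_iff.2 hMn, ← MonoidHom.range_eq_map,
      Subgroup.range_subtype] at h
  refine ⟨M.map L.subtype, ?_, ?_, le_sup_left.trans hN, le_sup_right.trans hN, p, hp, hpg.map _⟩
  · rw [← Subgroup.map_subgroupOf_eq_of_le (le_sup_left : K ≤ L)]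
    exact Subgroup.map_mono hMK
  · rw [Ne, Subgroup.map_eq_bot_iff_of_injective _ L.subtype_injective]; exact hMb

theorem invariant_hall_contain_aux : ∀ (N : ℕ) (G : Type u) [Group G] [Finite G] (A K : Subgroup G),
    Nat.card K = N → A ≤ Subgroup.normalizer (K : Set G) →
    (Nat.card A).Coprime (Nat.card K) → Group.IsSolvable K →
    ∀ m n : ℕ, Nat.card K = m * n → m.Coprime n →
    ∀ U : Subgroup G, U ≤ K → A ≤ Subgroup.normalizer (U : Set G) → (Nat.card U).Coprime n →
      ∃ H : Subgroup G, H ≤ K ∧ Nat.card H = m ∧ A ≤ Subgroup.normalizer (H : Set G) ∧ U ≤ H := by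
  intro N
  induction N using Nat.strong_induction_on with
  | _ N ih =>
    intro G _ _ A K hN hAK hco hK m n hmn hcmn U hUK hAU hU
    by_cases hKb : K = ⊥
    · subst hKb
      rw [Subgroup.card_bot] at hmn
      refine ⟨⊥, le_rfl, ?_, hAK, hUK⟩
      rw [Subgroup.card_bot, Nat.eq_one_of_mul_eq_one_right hmn.symm]
    obtain ⟨M, hMK, hMb, hKM, hAM, p, hp, hMp⟩ := exists_min_invariant hK hKb hAK
    have := Fact.mk hp
    set L := Subgroup.normalizer (M : Set G) with hL
    set f := QuotientGroup.mk' (M.subgroupOf L) with hf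
    have hML : M ≤ L := Subgroup.le_normalizer
    have hUL : U ≤ L := hUK.trans hKM
    set K' := (K.subgroupOf L).map f
    have hcardK : Nat.card K' * Nat.card M = Nat.card K := by
      have h := card_map_mk'_mul_card_inf (M.subgroupOf L) (K.subgroupOf L)
      have hle : M.subgroupOf L ≤ K.subgroupOf L := Subgroup.comap_mono hMK
      rwa [inf_eq_left.2 hle, card_subgroupOf hKM,
        card_subgroupOf hML] at h
    have hlt : Nat.card K' < N := by
      rw [← hN, ← hcardK]
      exact lt_mul_of_one_lt_right Nat.card_pos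
        (Finite.one_lt_card_iff_nontrivial.2 ((Subgroup.nontrivial_iff_ne_bot M).2 hMb))
    have hnorm : ∀ X : Subgroup G, A ≤ Subgroup.normalizer (X : Set G) → X ≤ L →
        (A.subgroupOf L).map f ≤ Subgroup.normalizer ((X.subgroupOf L).map f : Set (L ⧸ M.subgroupOf L)) := by
      intro X hX hXL
      refine le_trans (Subgroup.map_mono ?_) (Subgroup.le_normalizer_map f)
      exact (Subgroup.comap_mono hX).trans (Subgroup.le_normalizer_comap L.subtype)
    have hcard' : ∀ X : Subgroup G, X ≤ L → Nat.card ((X.subgroupOf L).map f) ∣ Nat.card X :=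
      fun X hX => (card_map_mk'_dvd _ _).trans (by rw [card_subgroupOf hX])
    have hco' : (Nat.card ((A.subgroupOf L).map f)).Coprime (Nat.card K') :=
      (hco.coprime_dvd_left (hcard' A hAM)).coprime_dvd_right (hcard' K hKM)
    obtain ⟨a, ha⟩ := IsPGroup.iff_card.1 hMp
    have hMdvd : Nat.card M ∣ m * n := hmn ▸ Subgroup.card_dvd_of_le hMK
    -- the Hall order in the quotient
    obtain ⟨m', n', hm', hn', hMm, hMn⟩ : ∃ m' n' : ℕ, Nat.card K' = m' * n' ∧ m'.Coprime n' ∧
        (¬ p ∣ m ∧ m' = m ∧ n' * Nat.card M = n ∨ p ∣ m ∧ m' * Nat.card M = m ∧ n' = n) ∧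
        n' ∣ n := by
      by_cases hpm : p ∣ m
      · have hpn : ¬ p ∣ n := fun h => hp.ne_one (Nat.eq_one_of_dvd_coprimes hcmn hpm h)
        obtain ⟨m', hm'⟩ := (ha ▸ Nat.Coprime.pow_left a (hp.coprime_iff_not_dvd.2 hpn) :
          (Nat.card M).Coprime n).dvd_of_dvd_mul_right hMdvd
        refine ⟨m', n, Nat.eq_of_mul_eq_mul_right (Nat.card_pos (α := M)) ?_,
          hcmn.coprime_dvd_left ⟨_, by rw [hm']; ring⟩, Or.inr ⟨hpm, by rw [hm']; ring, rfl⟩, dvd_rfl⟩
        rw [hcardK, hmn, hm']; ring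
      · obtain ⟨n', hn'⟩ := (ha ▸ Nat.Coprime.pow_left a (hp.coprime_iff_not_dvd.2 hpm) :
          (Nat.card M).Coprime m).dvd_of_dvd_mul_left hMdvd
        refine ⟨m, n', Nat.eq_of_mul_eq_mul_right (Nat.card_pos (α := M)) ?_,
          hcmn.coprime_dvd_right ⟨_, by rw [hn']; ring⟩, Or.inl ⟨hpm, rfl, by rw [hn']; ring⟩,
          ⟨_, by rw [hn']; ring⟩⟩
        rw [hcardK, hmn, hn']; ring
    obtain ⟨H', hH'K, hH'c, hH'A, hH'U⟩ := ih _ hlt (L ⧸ M.subgroupOf L) ((A.subgroupOf L).map f)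
      K' rfl (hnorm K hAK hKM) hco' (isSolvable_map f (isSolvable_subgroupOf hKM hK)) m' n' hm' hn'
      ((U.subgroupOf L).map f) (Subgroup.map_mono (Subgroup.comap_mono hUK)) (hnorm U hAU hUL)
      ((hU.coprime_dvd_left (hcard' U hUL)).coprime_dvd_right hMn)
    set R := (H'.comap f).map L.subtype with hR
    have hRc : Nat.card R = m' * Nat.card M := by
      rw [hR, card_map_subtype, card_comap_mk', hH'c, card_subgroupOf hML]
    have hRK : R ≤ K := by
      rw [← Subgroup.map_subgroupOf_eq_of_le hKM]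
      refine Subgroup.map_mono ((Subgroup.comap_mono hH'K).trans ?_)
      rw [Subgroup.comap_map_eq, QuotientGroup.ker_mk']
      exact sup_le le_rfl (Subgroup.comap_mono hMK)
    have hMR : M ≤ R := by
      rw [← Subgroup.map_subgroupOf_eq_of_le hML]
      exact Subgroup.map_mono (QuotientGroup.le_comap_mk' _ H')
    have hUR : U ≤ R := by
      rw [← Subgroup.map_subgroupOf_eq_of_le hUL]
      exact Subgroup.map_mono (Subgroup.map_le_iff_le_comap.1 hH'U)
    have hAR : A ≤ Subgroup.normalizer (R : Set G) := by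
      rw [← Subgroup.map_subgroupOf_eq_of_le (hAM : A ≤ L)]
      refine (Subgroup.map_mono ?_).trans (Subgroup.le_normalizer_map L.subtype)
      refine le_trans ?_ (Subgroup.le_normalizer_comap f)
      exact (Subgroup.le_comap_map f _).trans (Subgroup.comap_mono hH'A)
    rcases hMm with ⟨hpm, hmm, hnn⟩ | ⟨-, hmm, -⟩
    swap
    · exact ⟨R, hRK, hRc.trans hmm, hAR, hUR⟩
    rw [hmm] at hRc
    have hMm : (Nat.card M).Coprime m := ha ▸ Nat.Coprime.pow_left a (hp.coprime_iff_not_dvd.2 hpm)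
    have hcoR : (Nat.card A).Coprime (Nat.card R) :=
      hco.coprime_dvd_right (Subgroup.card_dvd_of_le hRK)
    obtain ⟨H, hHR, hHc, hHA⟩ := exists_invariant_hall hAR hcoR (isSolvable_of_le hRK hK)
      hRc hMm.symm
    have hHN : H ≤ Subgroup.normalizer (M : Set G) := (hHR.trans hRK).trans hKM
    have hMH : M ⊔ H = R := by
      refine Subgroup.eq_of_le_of_card_ge (sup_le hMR hHR) ?_
      have h := card_sup_mul_card_inf' M H hHN
      rw [coprime_inf (hHc ▸ hMm), Subgroup.card_bot, mul_one] at h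
      rw [h, hRc, hHc, mul_comm]
    have hMU : M ⊔ U ≤ K := sup_le hMK hUK
    obtain ⟨c, hc, hcU⟩ := exists_conj_ge_of_split hHN (hMH ▸ hUR) hAM hHA hAU
      (isSolvable_of_le hMK hK) (hHc ▸ hMm) ((hU.coprime_dvd_right ⟨n', by rw [← hnn]; ring⟩).symm)
      (hco.coprime_dvd_right (Subgroup.card_dvd_of_le hMU)) (isSolvable_of_le hMU hK)
    refine ⟨MulAut.conj c • H, ?_, by rw [card_conj_smul, hHc], fun a ha => ?_, hcU⟩
    · rw [← Subgroup.conj_smul_eq_self_of_mem (hMU hc.1)]
      exact Subgroup.pointwise_smul_le_pointwise_smul_iff.2 (hHR.trans hRK)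
    · refine mem_normalizer_of_conj_smul ?_
      rw [conj_smul_conj, (Subgroup.mem_centralizer_iff.1 hc.2 a ha), ← conj_smul_conj,
        conj_smul_of_mem_normalizer (hHA ha)]

theorem invariant_hall_contain [Finite G] {A K : Subgroup G}
    (hAK : A ≤ Subgroup.normalizer (K : Set G)) (hco : (Nat.card A).Coprime (Nat.card K))
    (hK : Group.IsSolvable K) {m n : ℕ} (hmn : Nat.card K = m * n) (hcmn : m.Coprime n)
    (U : Subgroup G) (hUK : U ≤ K) (hAU : A ≤ Subgroup.normalizer (U : Set G))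
    (hU : (Nat.card U).Coprime n) :
    ∃ H : Subgroup G, H ≤ K ∧ Nat.card H = m ∧ A ≤ Subgroup.normalizer (H : Set G) ∧ U ≤ H :=
  invariant_hall_contain_aux _ G A K rfl hAK hco hK m n hmn hcmn U hUK hAU hU

end Cfsg.Agent.Solv
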