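import Mathlib

/-!
Elementary facts on representations `E →* Module.End F V`: simple subrepresentations, averaging
over a normal subgroup, and the orbit of a subrepresentation under an intertwining operator.
-/

set_option autoImplicit false
set_option linter.style.haveILetI false

namespace Cfsg.Agent.Solv.CRep

open scoped commutatorElement

variable {F : Type*} [Field F] {E : Type*} [Group E]
variable {V : Type*} [AddCommGroup V] [Module F V]
variable {W : Type*} [AddCommGroup W] [Module F W]

/-- A representation without proper nonzero invariant subspaces. -/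
def IsSimpleRep (ρ : E →* Module.End F W) : Prop :=
  Nontrivial W ∧ ∀ U : Submodule F W, (∀ g, ∀ w ∈ U, ρ g w ∈ U) → U = ⊥ ∨ U = ⊤

theorem rep_inv_apply (ρ : E →* Module.End F W) (g : E) (w : W) : ρ g⁻¹ (ρ g w) = w := by
  rw [← Module.End.mul_apply, ← map_mul, inv_mul_cancel, map_one, Module.End.one_apply]

theorem rep_apply_inv (ρ : E →* Module.End F W) (g : E) (w : W) : ρ g (ρ g⁻¹ w) = w := by
  rw [← Module.End.mul_apply, ← map_mul, mul_inv_cancel, map_one, Module.End.one_apply]

theorem rep_injective (ρ : E →* Module.End F W) (g : E) : Function.Injective (ρ g) := fun a b h => by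
  rw [← rep_inv_apply ρ g a, h, rep_inv_apply]

theorem schur [IsAlgClosed F] [FiniteDimensional F W] {ρ : E →* Module.End F W}
    (hs : IsSimpleRep ρ) (M : Module.End F W) (hM : ∀ g, M * ρ g = ρ g * M) :
    ∃ c : F, M = c • (1 : Module.End F W) := by
  haveI := hs.1
  obtain ⟨c, hc⟩ := Module.End.exists_eigenvalue M
  refine ⟨c, LinearMap.ext fun w => ?_⟩
  have hinv : ∀ g, ∀ v ∈ M.eigenspace c, ρ g v ∈ M.eigenspace c := by
    intro g v hv
    rw [Module.End.mem_eigenspace_iff] at hv ⊢
    rw [← Module.End.mul_apply, hM g, Module.End.mul_apply, hv, map_smul]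
  rcases hs.2 _ hinv with h | h
  · exact absurd h hc
  · have hw : w ∈ M.eigenspace c := h ▸ Submodule.mem_top
    rw [Module.End.mem_eigenspace_iff] at hw
    simpa using hw

theorem smul_one_injective [Nontrivial W] {a b : F}
    (h : a • (1 : Module.End F W) = b • (1 : Module.End F W)) : a = b := by
  obtain ⟨w, hw⟩ := exists_ne (0 : W)
  have h1 := LinearMap.congr_fun h w
  simp only [LinearMap.smul_apply, Module.End.one_apply] at h1
  exact smul_left_injective F hw h1

theorem intertwiner_injective {ρ : E →* Module.End F W} (hs : IsSimpleRep ρ) (f : W →ₗ[F] V)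
    (hf0 : f ≠ 0) (ψ : E → Module.End F V) (hf : ∀ g w, f (ρ g w) = ψ g (f w)) :
    Function.Injective f := by
  rcases hs.2 (LinearMap.ker f) (fun g w hw => by
    rw [LinearMap.mem_ker] at hw ⊢; rw [hf, hw, map_zero]) with h | h
  · exact LinearMap.ker_eq_bot.1 h
  · exact absurd (LinearMap.ker_eq_top.1 h) hf0

/-- The subrepresentation on an invariant submodule. -/
def subRep (ρ : E →* Module.End F V) (U : Submodule F V) (hU : ∀ g, ∀ w ∈ U, ρ g w ∈ U) :
    E →* Module.End F U where
  toFun g := (ρ g).restrict (hU g)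
  map_one' := LinearMap.ext fun w => Subtype.ext (by
    simp only [LinearMap.restrict_apply, map_one, Module.End.one_apply])
  map_mul' g h := LinearMap.ext fun w => Subtype.ext (by
    simp only [LinearMap.restrict_apply, map_mul, Module.End.mul_apply])

theorem subRep_apply (ρ : E →* Module.End F V) (U : Submodule F V)
    (hU : ∀ g, ∀ w ∈ U, ρ g w ∈ U) (g : E) (w : U) :
    ((subRep ρ U hU g w : U) : V) = ρ g w := rfl

theorem exists_simple_sub [FiniteDimensional F V] (ρ : E →* Module.End F V) (U0 : Submodule F V)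
    (h0 : U0 ≠ ⊥) (hU0 : ∀ g, ∀ w ∈ U0, ρ g w ∈ U0) :
    ∃ (U : Submodule F V) (hU : ∀ g, ∀ w ∈ U, ρ g w ∈ U), U ≤ U0 ∧ IsSimpleRep (subRep ρ U hU) := by
  obtain ⟨U, ⟨hle, hne, hU⟩, hmin⟩ := exists_minimal_of_wellFoundedLT
    (fun U : Submodule F V => U ≤ U0 ∧ U ≠ ⊥ ∧ ∀ g, ∀ w ∈ U, ρ g w ∈ U) ⟨U0, le_rfl, h0, hU0⟩
  refine ⟨U, hU, hle, Submodule.nontrivial_iff_ne_bot.2 hne, fun S hS => ?_⟩
  by_cases hS0 : S = ⊥
  · exact Or.inl hS0
  refine Or.inr ?_
  have hSU : S.map U.subtype ≤ U := Submodule.map_subtype_le U S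
  have h1 := hmin (y := S.map U.subtype) ⟨hSU.trans hle, fun h => hS0 (by
    apply Submodule.map_injective_of_injective U.injective_subtype
    rw [h, Submodule.map_bot]), ?_⟩ hSU
  · apply Submodule.map_injective_of_injective U.injective_subtype
    rw [le_antisymm hSU h1, Submodule.map_top, Submodule.range_subtype]
  rintro g _ ⟨s, hs, rfl⟩
  exact ⟨subRep ρ U hU g s, hS g s hs, rfl⟩

theorem exists_simple [FiniteDimensional F V] [Nontrivial V] (ρ : E →* Module.End F V) :
    ∃ (U : Submodule F V) (hU : ∀ g, ∀ w ∈ U, ρ g w ∈ U), IsSimpleRep (subRep ρ U hU) := by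
  obtain ⟨U, hU, -, hs⟩ := exists_simple_sub ρ ⊤ top_ne_bot (fun _ _ _ => Submodule.mem_top)
  exact ⟨U, hU, hs⟩

/-- A normal subgroup of order prime to the characteristic which acts trivially on every simple
subrepresentation acts trivially. -/
theorem triv_of_simple [Finite E] [FiniteDimensional F V] (ρ : E →* Module.End F V)
    (K : Subgroup E) [K.Normal] (hK : ((Nat.card K : ℕ) : F) ≠ 0)
    (h : ∀ (U : Submodule F V) (hU : ∀ g, ∀ w ∈ U, ρ g w ∈ U), IsSimpleRep (subRep ρ U hU) →
      ∀ k ∈ K, ∀ w ∈ U, ρ k w = w) :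
    ∀ k ∈ K, ρ k = 1 := by
  classical
  haveI := Fintype.ofFinite K
  by_contra hcon
  push Not at hcon
  obtain ⟨k, hk, hne⟩ := hcon
  obtain ⟨v, hv⟩ : ∃ v, ρ k v ≠ v := by
    by_contra h'
    push Not at h'
    exact hne (LinearMap.ext fun v => by rw [h' v, Module.End.one_apply])
  obtain ⟨P, hP⟩ : ∃ P : Module.End F V, P = ∑ a : K, ρ (a : E) := ⟨_, rfl⟩
  have hPg : ∀ g, P * ρ g = ρ g * P := by
    intro g
    rw [hP, Finset.sum_mul, Finset.mul_sum]
    symm
    refine Fintype.sum_equiv (MulAut.conjNormal g : K ≃* K).toEquiv _ _ fun a => ?_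
    rw [← map_mul, ← map_mul]
    congr 1
    show g * a = ((MulAut.conjNormal g a : K) : E) * g
    rw [MulAut.conjNormal_apply]; group
  have hPk : P * ρ k = P := by
    rw [hP, Finset.sum_mul]
    exact Fintype.sum_equiv (Equiv.mulRight (⟨k, hk⟩ : K)) _ _ fun a => (map_mul ρ _ _).symm
  have hw : ρ k v - v ∈ LinearMap.ker P := by
    rw [LinearMap.mem_ker, map_sub, ← Module.End.mul_apply, hPk, sub_self]
  have hinv : ∀ g, ∀ w ∈ LinearMap.ker P, ρ g w ∈ LinearMap.ker P := by
    intro g w hw'
    rw [LinearMap.mem_ker] at hw' ⊢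
    rw [← Module.End.mul_apply, hPg, Module.End.mul_apply, hw', map_zero]
  have hne' : LinearMap.ker P ≠ ⊥ := fun hb => hv (by
    rw [hb, Submodule.mem_bot, sub_eq_zero] at hw; exact hw)
  obtain ⟨U, hU, hUle, hUs⟩ := exists_simple_sub ρ _ hne' hinv
  haveI := hUs.1
  obtain ⟨w, hw0⟩ := exists_ne (0 : U)
  have h1 : P w = (Nat.card K : ℕ) • (w : V) := by
    rw [hP, LinearMap.sum_apply, Finset.sum_congr rfl (fun (a : K) _ => h U hU hUs a a.2 w w.2),
      Finset.sum_const, Finset.card_univ, Nat.card_eq_fintype_card]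
  rw [LinearMap.mem_ker.1 (hUle w.2), ← Nat.cast_smul_eq_nsmul F] at h1
  exact hw0 (Subtype.ext ((smul_eq_zero.1 h1.symm).resolve_left hK))

theorem pow_intertwine (ρ : E →* Module.End F V) (φ : MulAut E) (x : Module.End F V)
    (hx : ∀ g, x * ρ g = ρ (φ g) * x) (i : ℕ) : ∀ g, x ^ i * ρ g = ρ ((φ ^ i) g) * x ^ i := by
  induction i with
  | zero => intro g; simp
  | succ i ih =>
    intro g
    rw [pow_succ, mul_assoc, hx, ← mul_assoc, ih, mul_assoc, ← pow_succ, pow_succ φ,
      MulAut.mul_apply]

/-- The translates of a simple subrepresentation under an intertwining operator of prime order are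
independent unless the subrepresentation is isomorphic to its twist. -/
theorem orbit_independent (ρ : E →* Module.End F V) {r : ℕ} (hr : r.Prime) (φ : MulAut E)
    (hφ : φ ^ r = 1) (x : Module.End F V) (hx : ∀ g, x * ρ g = ρ (φ g) * x) (hxr : x ^ r = 1)
    (U : Submodule F V) (hU : ∀ g, ∀ w ∈ U, ρ g w ∈ U) (hs : IsSimpleRep (subRep ρ U hU))
    (hno : ¬ ∃ t : Module.End F U, t ≠ 0 ∧ ∀ g, t * subRep ρ U hU g = subRep ρ U hU (φ g) * t) :
    ∀ w : U, ((∑ i ∈ Finset.range r, x ^ i : Module.End F V)) w = 0 → w = 0 := by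
  classical
  have hxi := pow_intertwine ρ φ x hx
  suffices key : ∀ S : Finset ℕ, S ⊆ Finset.range r → ∀ w : ℕ → U,
      (∑ i ∈ S, (x ^ i) (w i : V)) = 0 → ∀ i ∈ S, w i = 0 by
    intro w hw
    rw [LinearMap.sum_apply] at hw
    exact key _ subset_rfl (fun _ => w) hw 0 (Finset.mem_range.2 hr.pos)
  intro S
  induction S using Finset.induction_on with
  | empty => intro _ w _ i hi; simp at hi
  | insert k S hkS ih =>
    intro hsub
    have hkr : k < r := Finset.mem_range.1 (hsub (Finset.mem_insert_self k S))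
    have hSr : S ⊆ Finset.range r := fun i hi => hsub (Finset.mem_insert_of_mem hi)
    have huniq : ∀ w w' : ℕ → U, (∑ i ∈ S, (x ^ i) (w i : V)) = ∑ i ∈ S, (x ^ i) (w' i : V) →
        ∀ i ∈ S, w i = w' i := by
      intro w w' h i hi
      refine sub_eq_zero.1 (ih hSr (fun i => w i - w' i) ?_ i hi)
      simp only [AddSubgroupClass.coe_sub, map_sub, Finset.sum_sub_distrib, h, sub_self]
    -- the element moving `x ^ i` past `ρ`
    obtain ⟨tw, htw⟩ : ∃ tw : ℕ → E → E, ∀ i g, tw i g = ((φ ^ i)⁻¹) ((φ ^ k) g) :=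
      ⟨_, fun _ _ => rfl⟩
    have htwk : ∀ g, tw k g = g := fun g => by
      rw [htw, ← MulAut.mul_apply, inv_mul_cancel, MulAut.one_apply]
    have hmove : ∀ i g (v : U), ρ ((φ ^ k) g) ((x ^ i) (v : V)) =
        (x ^ i) ((subRep ρ U hU (tw i g) v : U) : V) := by
      intro i g v
      rw [subRep_apply, ← Module.End.mul_apply, ← Module.End.mul_apply, hxi, htw,
        ← MulAut.mul_apply, mul_inv_cancel, MulAut.one_apply]
    have hKinv : ∀ v : U, (∃ w : ℕ → U, (x ^ k) (v : V) + ∑ i ∈ S, (x ^ i) (w i : V) = 0) →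
        ∀ g, ∃ w : ℕ → U, (x ^ k) ((subRep ρ U hU g v : U) : V) +
          ∑ i ∈ S, (x ^ i) (w i : V) = 0 := by
      rintro v ⟨w, hw⟩ g
      refine ⟨fun i => subRep ρ U hU (tw i g) (w i), ?_⟩
      have h1 := congrArg (ρ ((φ ^ k) g)) hw
      rw [map_add, map_sum, map_zero, hmove, htwk] at h1
      rw [← h1]
      congr 1
      exact Finset.sum_congr rfl fun i _ => (hmove i g (w i)).symm
    let K : Submodule F U :=
      { carrier := {v | ∃ w : ℕ → U, (x ^ k) (v : V) + ∑ i ∈ S, (x ^ i) (w i : V) = 0}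
        add_mem' := by
          rintro a b ⟨w, hw⟩ ⟨w', hw'⟩
          refine ⟨fun i => w i + w' i, ?_⟩
          simp only [Submodule.coe_add, map_add, Finset.sum_add_distrib]
          rw [add_add_add_comm, hw, hw', add_zero]
        zero_mem' := ⟨fun _ => 0, by simp⟩
        smul_mem' := by
          rintro c a ⟨w, hw⟩
          refine ⟨fun i => c • w i, ?_⟩
          simp only [Submodule.coe_smul, map_smul, ← Finset.smul_sum, ← smul_add, hw, smul_zero] }
    rcases hs.2 K (fun g v hv => hKinv v hv g) with hb | ht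
    · intro w hw i hi
      rw [Finset.sum_insert hkS] at hw
      have hk0 : w k = 0 := by
        have : w k ∈ K := ⟨w, hw⟩
        rw [hb, Submodule.mem_bot] at this; exact this
      rcases Finset.mem_insert.1 hi with rfl | hi
      · exact hk0
      · refine ih hSr w ?_ i hi
        rw [hk0, Submodule.coe_zero, map_zero, zero_add] at hw; exact hw
    · exfalso
      have hall : ∀ v : U, ∃ w : ℕ → U, (x ^ k) (v : V) + ∑ i ∈ S, (x ^ i) (w i : V) = 0 := fun v =>
        (show v ∈ K from ht ▸ Submodule.mem_top)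
      choose L hL using hall
      have hLs : ∀ v, ∑ i ∈ S, (x ^ i) (L v i : V) = -(x ^ k) (v : V) := fun v =>
        eq_neg_of_add_eq_zero_right (hL v)
      have hex : ∃ j ∈ S, ∃ v, L v j ≠ 0 := by
        by_contra hno'
        push Not at hno'
        haveI := hs.1
        obtain ⟨v, hv⟩ := exists_ne (0 : U)
        have h1 := hLs v
        rw [Finset.sum_eq_zero (fun i hi => by rw [hno' i hi v, Submodule.coe_zero, map_zero]),
          eq_comm, neg_eq_zero] at h1
        have h2 := congrArg (x ^ (r - k)) h1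
        rw [map_zero, ← Module.End.mul_apply, ← pow_add, Nat.sub_add_cancel hkr.le, hxr,
          Module.End.one_apply] at h2
        exact hv (Subtype.ext h2)
      obtain ⟨j, hj, v₀, hv₀⟩ := hex
      let f : Module.End F U :=
        { toFun := fun v => L v j
          map_add' := fun a b => huniq (fun i => L (a + b) i) (fun i => L a i + L b i) (by
            simp only [Submodule.coe_add, map_add, Finset.sum_add_distrib]
            rw [hLs, hLs, hLs, Submodule.coe_add, map_add, neg_add]) j hj
          map_smul' := fun c a => huniq (fun i => L (c • a) i) (fun i => c • L a i) (by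
            simp only [Submodule.coe_smul, map_smul, ← Finset.smul_sum]
            rw [hLs, hLs, Submodule.coe_smul, map_smul, smul_neg]) j hj }
      have hf : ∀ g v, f (subRep ρ U hU g v) = subRep ρ U hU (tw j g) (f v) := by
        intro g v
        refine huniq (fun i => L (subRep ρ U hU g v) i)
          (fun i => subRep ρ U hU (tw i g) (L v i)) ?_ j hj
        rw [hLs]
        calc -(x ^ k) ((subRep ρ U hU g v : U) : V)
            = ρ ((φ ^ k) g) (-(x ^ k) (v : V)) := by rw [map_neg, hmove, htwk]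
          _ = ρ ((φ ^ k) g) (∑ i ∈ S, (x ^ i) (L v i : V)) := by rw [hLs]
          _ = _ := by rw [map_sum]; exact Finset.sum_congr rfl fun i _ => hmove i g (L v i)
      have hjk : j ≠ k := fun h => hkS (h ▸ hj)
      have hjr : j < r := Finset.mem_range.1 (hSr hj)
      obtain ⟨ψ, hψ⟩ : ∃ ψ : MulAut E, ψ = (φ ^ j)⁻¹ * φ ^ k := ⟨_, rfl⟩
      have hfψ : ∀ g, f * subRep ρ U hU g = subRep ρ U hU (ψ g) * f := fun g =>
        LinearMap.ext fun v => by
          rw [Module.End.mul_apply, Module.End.mul_apply, hf, htw, hψ, MulAut.mul_apply]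
      have hfinj : Function.Injective f :=
        intertwiner_injective hs f (fun h => hv₀ (LinearMap.congr_fun h v₀))
          (fun g => subRep ρ U hU (ψ g)) fun g v => by
            rw [← Module.End.mul_apply, hfψ, Module.End.mul_apply]
      have hψpow : ψ = φ ^ (r - j + k) := by
        rw [hψ, pow_add]
        congr 1
        refine inv_eq_of_mul_eq_one_left ?_
        rw [← pow_add, Nat.sub_add_cancel hjr.le, hφ]
      have hcop : (r - j + k).Coprime (orderOf φ) := by
        refine Nat.Coprime.coprime_dvd_right (orderOf_dvd_of_pow_eq_one hφ) ?_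
        refine (hr.coprime_iff_not_dvd.2 fun hd => ?_).symm
        obtain ⟨c, hc⟩ := hd
        rcases c with _ | _ | c
        · omega
        · omega
        · have : r * 2 ≤ r * (c + 1 + 1) := Nat.mul_le_mul_left r (by omega)
          omega
      obtain ⟨m, hm⟩ := exists_pow_eq_self_of_coprime hcop
      refine hno ⟨f ^ m, fun h0 => ?_, fun g => ?_⟩
      · haveI := hs.1
        obtain ⟨v, hv⟩ := exists_ne (0 : U)
        have hinj : Function.Injective (f ^ m : Module.End F U) := by
          rw [Module.End.coe_pow]; exact hfinj.iterate m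
        exact hv (hinj (by rw [h0, LinearMap.zero_apply, map_zero]))
      · rw [pow_intertwine (subRep ρ U hU) ψ f hfψ m g, hψpow, hm]

/-- If the orbit sum of an intertwining operator vanishes, every simple subrepresentation is
isomorphic to its twist. -/
theorem exists_twist (ρ : E →* Module.End F V) {r : ℕ} (hr : r.Prime) (φ : MulAut E)
    (hφ : φ ^ r = 1) (x : Module.End F V) (hx : ∀ g, x * ρ g = ρ (φ g) * x) (hxr : x ^ r = 1)
    (hsum : (∑ i ∈ Finset.range r, x ^ i : Module.End F V) = 0)
    (U : Submodule F V) (hU : ∀ g, ∀ w ∈ U, ρ g w ∈ U) (hs : IsSimpleRep (subRep ρ U hU)) :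
    ∃ t : Module.End F U, t ≠ 0 ∧ ∀ g, t * subRep ρ U hU g = subRep ρ U hU (φ g) * t := by
  by_contra hno
  haveI := hs.1
  obtain ⟨v, hv⟩ := exists_ne (0 : U)
  exact hv (orbit_independent ρ hr φ hφ x hx hxr U hU hs hno v (by rw [hsum, LinearMap.zero_apply]))

/-- If the orbit sum of an intertwining operator vanishes and a simple subrepresentation has an
intertwiner `t` to its twist, then some root of unity is not an eigenvalue of `t`. -/
theorem exists_missing_eigenvalue [IsAlgClosed F] [FiniteDimensional F V]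
    (ρ : E →* Module.End F V) {r : ℕ} (hr : r.Prime) (hrF : (r : F) ≠ 0) (φ : MulAut E)
    (hφ : φ ^ r = 1) (x : Module.End F V) (hx : ∀ g, x * ρ g = ρ (φ g) * x) (hxr : x ^ r = 1)
    (hsum : (∑ i ∈ Finset.range r, x ^ i : Module.End F V) = 0)
    (U : Submodule F V) (hU : ∀ g, ∀ w ∈ U, ρ g w ∈ U) (hs : IsSimpleRep (subRep ρ U hU))
    (t : Module.End F U) (htr : t ^ r = 1)
    (ht : ∀ g, t * subRep ρ U hU g = subRep ρ U hU (φ g) * t) :
    ∃ η : F, η ^ r = 1 ∧ ∀ w : U, t w = η • w → w = 0 := by
  haveI := hs.1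
  obtain ⟨t', ht'⟩ : ∃ t', t' = t ^ (r - 1) := ⟨_, rfl⟩
  have htt : t' * t = 1 := by rw [ht', ← pow_succ, Nat.sub_add_cancel hr.one_le, htr]
  let H : Submodule F (U →ₗ[F] V) :=
    { carrier := {f | ∀ g w, f (subRep ρ U hU g w) = ρ g (f w)}
      add_mem' := fun ha hb g w => by
        simp only [Set.mem_setOf_eq] at ha hb
        rw [LinearMap.add_apply, LinearMap.add_apply, ha, hb, map_add]
      zero_mem' := fun g w => by simp
      smul_mem' := fun c f hf g w => by
        simp only [Set.mem_setOf_eq] at hf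
        rw [LinearMap.smul_apply, LinearMap.smul_apply, hf, map_smul] }
  have hmem : ∀ f ∈ H, x ∘ₗ f ∘ₗ t' ∈ H := by
    intro f hf g w
    simp only [LinearMap.comp_apply]
    rw [ht', ← Module.End.mul_apply, pow_intertwine _ φ t ht, Module.End.mul_apply,
      hf ((φ ^ (r - 1)) g) _, ← Module.End.mul_apply, hx, ← MulAut.mul_apply, ← pow_succ',
      Nat.sub_add_cancel hr.one_le, hφ, MulAut.one_apply, Module.End.mul_apply]
  let u : Module.End F H :=
    { toFun := fun f => ⟨x ∘ₗ (f : U →ₗ[F] V) ∘ₗ t', hmem f f.2⟩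
      map_add' := fun a b => Subtype.ext (LinearMap.ext fun w => by simp)
      map_smul' := fun c a => Subtype.ext (LinearMap.ext fun w => by simp) }
  have hu : ∀ (n : ℕ) (f : H) (w : U),
      ((u ^ n) f : U →ₗ[F] V) w = (x ^ n) ((f : U →ₗ[F] V) ((t' ^ n) w)) := by
    intro n
    induction n with
    | zero => intro f w; simp
    | succ n ih =>
      intro f w
      rw [pow_succ u, Module.End.mul_apply, ih, pow_succ x, Module.End.mul_apply, pow_succ' t',
        Module.End.mul_apply]
      rfl
  haveI : Nontrivial H := ⟨⟨⟨U.subtype, fun g w => rfl⟩, 0, fun h => by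
    obtain ⟨v, hv⟩ := exists_ne (0 : U)
    exact hv (Subtype.ext (LinearMap.congr_fun (congrArg Subtype.val h) v))⟩⟩
  haveI : FiniteDimensional F H := inferInstance
  obtain ⟨η, hη⟩ := Module.End.exists_eigenvalue u
  obtain ⟨f, hf⟩ := hη.exists_hasEigenvector
  have hfe : u f = η • f := hf.apply_eq_smul
  have hur : u ^ r = 1 := LinearMap.ext fun f => Subtype.ext (LinearMap.ext fun w => by
    rw [hu, hxr, ht', ← pow_mul, mul_comm, pow_mul, htr, one_pow]
    simp)
  have hηr : η ^ r = 1 := by
    have h1 := hf.pow_apply r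
    rw [hur, Module.End.one_apply] at h1
    by_contra hne
    refine hf.2 ?_
    by_contra hf0
    exact hne (smul_left_injective F hf0 (by simpa using h1.symm))
  have hη0 : η ≠ 0 := fun h => by
    rw [h, zero_pow hr.ne_zero] at hηr
    exact zero_ne_one hηr
  refine ⟨η⁻¹, by rw [inv_pow, hηr, inv_one], fun w hw => ?_⟩
  have hfinj : Function.Injective (f : U →ₗ[F] V) :=
    intertwiner_injective hs _ (fun h => hf.2 (Subtype.ext h)) (fun g => ρ g) f.2
  have hfix : x ((f : U →ₗ[F] V) w) = (f : U →ₗ[F] V) w := by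
    have h1 : ∀ v, x ((f : U →ₗ[F] V) (t' v)) = η • (f : U →ₗ[F] V) v := fun v =>
      LinearMap.congr_fun (congrArg Subtype.val hfe) v
    have h2 := h1 (t w)
    rw [← Module.End.mul_apply t', htt, Module.End.one_apply, hw, map_smul, smul_smul,
      mul_inv_cancel₀ hη0, one_smul] at h2
    exact h2
  have hfixi : ∀ i, (x ^ i) ((f : U →ₗ[F] V) w) = (f : U →ₗ[F] V) w := by
    intro i
    induction i with
    | zero => simp
    | succ i ih => rw [pow_succ, Module.End.mul_apply, hfix, ih]
  have h3 : (r : F) • (f : U →ₗ[F] V) w = 0 := by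
    calc (r : F) • (f : U →ₗ[F] V) w = ∑ i ∈ Finset.range r, (x ^ i) ((f : U →ₗ[F] V) w) := by
          rw [Finset.sum_congr rfl (fun i _ => hfixi i), Finset.sum_const, Finset.card_range,
            Nat.cast_smul_eq_nsmul]
      _ = 0 := by rw [← LinearMap.sum_apply, hsum, LinearMap.zero_apply]
  exact hfinj ((smul_eq_zero.1 h3).resolve_left hrF |>.trans (map_zero _).symm)

end Cfsg.Agent.Solv.CRep
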