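import Cfsg.Prelude.Def_Transfer
import Cfsg.Agent.Lib.Solv.CoprimeRep

/-!
The representation on an elementary abelian normal section over an arbitrary field of the same
characteristic, keeping track of fixed points of single elements.
-/

set_option autoImplicit false
set_option linter.style.haveILetI false

namespace Cfsg.Agent.Solv.CRep

universe u v w

theorem exists_baseChange {M : Type v} [AddCommGroup M] [Finite M] {p : ℕ} [Fact p.Prime]
    (hM : ∀ m : M, p • m = 0) (F : Type w) [Field F] [CharP F p] :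
    ∃ (k : ℕ) (Θ : AddMonoid.End M →+* Module.End F (Fin k → F)), Function.Injective Θ ∧
      ∀ (f : AddMonoid.End M) (m₀ : M), (∀ m, ∃ z : ℤ, f m = z • m₀) →
        ∃ v : Fin k → F, ∀ x, Θ f x ∈ Submodule.span F {v} := by
  classical
  letI : Module (ZMod p) M := AddCommGroup.zmodModule (n := p) hM
  haveI : Module.Finite (ZMod p) M := Module.Finite.of_finite
  let b := Module.finBasis (ZMod p) M
  let φ : ZMod p →+* F := ZMod.castHom (dvd_refl p) F
  let L : AddMonoid.End M →+* Module.End (ZMod p) M :=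
    { toFun := fun f => AddMonoidHom.toZModLinearMap p f
      map_one' := LinearMap.ext fun _ => rfl
      map_mul' := fun _ _ => LinearMap.ext fun _ => rfl
      map_zero' := LinearMap.ext fun _ => rfl
      map_add' := fun _ _ => LinearMap.ext fun _ => rfl }
  have hL : ∀ f m, L f m = f m := fun _ _ => rfl
  refine ⟨_, (Matrix.toLinAlgEquiv' : Matrix _ _ F ≃ₐ[F] _).toRingEquiv.toRingHom.comp
      (φ.mapMatrix.comp ((LinearMap.toMatrixAlgEquiv b).toRingEquiv.toRingHom.comp L)),
    fun f g h => ?_, fun f m₀ hf => ?_⟩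
  · have h1 := (LinearMap.toMatrixAlgEquiv b).injective
      (Matrix.map_injective φ.injective (Matrix.toLinAlgEquiv'.injective h))
    exact DFunLike.ext _ _ fun m => LinearMap.congr_fun h1 m
  · choose a ha using hf
    refine ⟨fun i => φ (b.repr m₀ i), fun x => ?_⟩
    refine Submodule.mem_span_singleton.2 ⟨∑ j, φ (a (b j) : ZMod p) * x j, funext fun i => ?_⟩
    show _ = Matrix.toLinAlgEquiv' ((LinearMap.toMatrixAlgEquiv b (L f)).map φ) x i
    rw [Matrix.toLinAlgEquiv'_apply, Pi.smul_apply, smul_eq_mul, Finset.sum_mul]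
    refine Finset.sum_congr rfl fun j _ => ?_
    show _ = φ (LinearMap.toMatrixAlgEquiv b (L f) i j) * x j
    rw [LinearMap.toMatrixAlgEquiv_apply, hL, ha,
      ← Int.cast_smul_eq_zsmul (ZMod p), map_smul, Finsupp.smul_apply, smul_eq_mul, map_mul]
    ring

theorem exists_conjRep_norm {G : Type u} [Group G] [Finite G] {p : ℕ} [Fact p.Prime] (H V : Subgroup G)
    (hV : Cfsg.IsElementaryAbelian p V) (hHV : H ≤ Subgroup.normalizer (V : Set G))
    (F : Type w) [Field F] [CharP F p] :
    ∃ (k : ℕ) (ρ : H →* Module.End F (Fin k → F)),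
      (∀ h : H, ρ h = 1 ↔ (h : G) ∈ Subgroup.centralizer (V : Set G)) ∧
      (∀ (h : H) (n : ℕ), h ^ n = 1 → V ⊓ Subgroup.centralizer {(h : G)} = ⊥ →
        (∑ i ∈ Finset.range n, ρ h ^ i : Module.End F (Fin k → F)) = 0) ∧
      (∀ (h : H) (n : ℕ), h ^ n = 1 → Nat.card ↥(V ⊓ Subgroup.centralizer {(h : G)}) = p →
        ∃ v : Fin k → F, ∀ w, (∑ i ∈ Finset.range n, ρ h ^ i : Module.End F (Fin k → F)) w ∈
          Submodule.span F {v}) ∧
      (∀ (h : H) (n : ℕ), h ^ n = 1 → (∀ v ∈ V, (v * (h : G)) ^ n = 1) →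
        (∑ i ∈ Finset.range n, ρ h ^ i : Module.End F (Fin k → F)) = 0) := by
  classical
  letI : CommGroup V := { (inferInstance : Group V) with mul_comm := hV.1.is_comm.comm }
  let c : H →* MulAut V := (Subgroup.normalizerMonoidHom V).comp (Subgroup.inclusion hHV)
  let α : H →* AddMonoid.End (Additive V) :=
    { toFun := fun h => MonoidHom.toAdditive (c h).toMonoidHom
      map_one' := DFunLike.ext _ _ fun m => by
        show Additive.ofMul (c 1 (Additive.toMul m)) = m
        rw [map_one, MulAut.one_apply]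
        rfl
      map_mul' := fun a b => DFunLike.ext _ _ fun m => by
        show Additive.ofMul (c (a * b) (Additive.toMul m)) =
          Additive.ofMul (c a (c b (Additive.toMul m)))
        rw [map_mul, MulAut.mul_apply] }
  have hα : ∀ (h : H) (m : Additive V),
      ((Additive.toMul (α h m) : V) : G) = (h : G) * (Additive.toMul m : V) * (h : G)⁻¹ :=
    fun h m => rfl
  obtain ⟨k, Θ, hΘ, hspan⟩ := exists_baseChange (M := Additive V) (p := p) (fun m => by
    apply Additive.toMul.injective
    rw [toMul_nsmul, toMul_zero]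
    exact Subtype.ext (by rw [SubmonoidClass.coe_pow]; exact hV.2 _ (Additive.toMul m).2)) F
  have hfix : ∀ (h : H) (n : ℕ), h ^ n = 1 → ∀ m : Additive V,
      ((Additive.toMul ((∑ i ∈ Finset.range n, α h ^ i : AddMonoid.End (Additive V)) m) : V) : G)
        ∈ V ⊓ Subgroup.centralizer {(h : G)} := by
    intro h n hn m
    obtain ⟨S, hS⟩ : ∃ S : AddMonoid.End (Additive V), S = ∑ i ∈ Finset.range n, α h ^ i :=
      ⟨_, rfl⟩
    rw [← hS]
    have hSh : α h * S = S := by
      have h1 := Finset.sum_range_succ' (fun i => α h ^ i) n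
      have h2 := Finset.sum_range_succ (fun i => α h ^ i) n
      rw [h1, pow_zero, ← map_pow, hn, map_one] at h2
      rw [hS, Finset.mul_sum]
      refine Eq.trans (Finset.sum_congr rfl fun i _ => ?_) (add_right_cancel h2)
      rw [← pow_succ']
    refine Subgroup.mem_inf.2 ⟨(Additive.toMul (S m)).2, Subgroup.mem_centralizer_singleton_iff.2 ?_⟩
    have h3 := hα h (S m)
    rw [show α h (S m) = (α h * S) m from rfl, hSh, eq_mul_inv_iff_mul_eq] at h3
    exact h3
  refine ⟨k, Θ.toMonoidHom.comp α, fun h => ?_, fun h n hn hbot => ?_, fun h n hn hcard => ?_,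
    fun h n hn hnorm => ?_⟩
  · show Θ (α h) = 1 ↔ _
    rw [map_eq_one_iff Θ hΘ, Subgroup.mem_centralizer_iff]
    constructor
    · intro h1 v hv
      have h2 := hα h (Additive.ofMul ⟨v, hv⟩)
      rw [h1] at h2
      change v = (h : G) * v * (h : G)⁻¹ at h2
      rw [eq_mul_inv_iff_mul_eq] at h2
      exact h2
    · intro h1
      refine DFunLike.ext _ _ fun m => Additive.toMul.injective (Subtype.ext ?_)
      rw [hα]
      show _ = ((Additive.toMul m : V) : G)
      rw [mul_inv_eq_iff_eq_mul]
      exact (h1 _ (Additive.toMul m).2).symm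
  · show (∑ i ∈ Finset.range n, Θ (α h) ^ i) = 0
    have h1 : (∑ i ∈ Finset.range n, α h ^ i : AddMonoid.End (Additive V)) = 0 :=
      DFunLike.ext _ _ fun m => Additive.toMul.injective (Subtype.ext (by
        have := hfix h n hn m
        rw [hbot, Subgroup.mem_bot] at this
        rw [this]; rfl))
    rw [Finset.sum_congr rfl (fun i _ => (map_pow Θ (α h) i).symm), ← map_sum, h1, map_zero]
  · obtain ⟨g0, hg0⟩ := (isCyclic_of_prime_card hcard).exists_generator
    obtain ⟨m0, hm0⟩ : ∃ m0 : Additive V, ((Additive.toMul m0 : V) : G) = g0 :=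
      ⟨Additive.ofMul ⟨g0, (Subgroup.mem_inf.1 g0.2).1⟩, rfl⟩
    obtain ⟨v, hv⟩ := hspan (∑ i ∈ Finset.range n, α h ^ i) m0 (fun m => by
      obtain ⟨z, hz⟩ := Subgroup.mem_zpowers_iff.1 (hg0 ⟨_, hfix h n hn m⟩)
      refine ⟨z, Additive.toMul.injective (Subtype.ext ?_)⟩
      rw [toMul_zsmul, SubgroupClass.coe_zpow, hm0]
      exact (congrArg Subtype.val hz).symm)
    refine ⟨v, fun w => ?_⟩
    show (∑ i ∈ Finset.range n, Θ (α h) ^ i) w ∈ _
    rw [Finset.sum_congr rfl (fun i _ => (map_pow Θ (α h) i).symm), ← map_sum]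
    exact hv w
  · show (∑ i ∈ Finset.range n, Θ (α h) ^ i) = 0
    have key : ∀ (m : Additive V) (j : ℕ),
        (((Additive.toMul m : V) : G) * (h : G)) ^ j =
          ((Additive.toMul ((∑ i ∈ Finset.range j, α h ^ i : AddMonoid.End (Additive V)) m) : V) : G) *
            (h : G) ^ j := by
      intro m j
      induction j with
      | zero => simp
      | succ j ih =>
        have e : (∑ i ∈ Finset.range (j + 1), α h ^ i : AddMonoid.End (Additive V)) =
            1 + α h * ∑ i ∈ Finset.range j, α h ^ i := by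
          rw [Finset.sum_range_succ', Finset.mul_sum, pow_zero, add_comm]
          exact congrArg _ (Finset.sum_congr rfl fun i _ => pow_succ' _ _)
        rw [e, pow_succ', ih]
        show _ = ((Additive.toMul (m + α h ((∑ i ∈ Finset.range j, α h ^ i :
          AddMonoid.End (Additive V)) m)) : V) : G) * (h : G) ^ (j + 1)
        rw [toMul_add, Subgroup.coe_mul, hα, pow_succ']
        group
    have h1 : (∑ i ∈ Finset.range n, α h ^ i : AddMonoid.End (Additive V)) = 0 :=
      DFunLike.ext _ _ fun m => Additive.toMul.injective (Subtype.ext (by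
        have h2 := key m n
        rw [hnorm _ (Additive.toMul m).2, ← SubmonoidClass.coe_pow, hn, OneMemClass.coe_one,
          mul_one] at h2
        rw [← h2]; rfl))
    rw [Finset.sum_congr rfl (fun i _ => (map_pow Θ (α h) i).symm), ← map_sum, h1, map_zero]

theorem exists_conjRep {G : Type u} [Group G] [Finite G] {p : ℕ} [Fact p.Prime] (H V : Subgroup G)
    (hV : Cfsg.IsElementaryAbelian p V) (hHV : H ≤ Subgroup.normalizer (V : Set G))
    (F : Type w) [Field F] [CharP F p] :
    ∃ (k : ℕ) (ρ : H →* Module.End F (Fin k → F)),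
      (∀ h : H, ρ h = 1 ↔ (h : G) ∈ Subgroup.centralizer (V : Set G)) ∧
      (∀ (h : H) (n : ℕ), h ^ n = 1 → V ⊓ Subgroup.centralizer {(h : G)} = ⊥ →
        (∑ i ∈ Finset.range n, ρ h ^ i : Module.End F (Fin k → F)) = 0) ∧
      (∀ (h : H) (n : ℕ), h ^ n = 1 → Nat.card ↥(V ⊓ Subgroup.centralizer {(h : G)}) = p →
        ∃ v : Fin k → F, ∀ w, (∑ i ∈ Finset.range n, ρ h ^ i : Module.End F (Fin k → F)) w ∈
          Submodule.span F {v}) := by
  obtain ⟨k, ρ, h1, h2, h3, -⟩ := exists_conjRep_norm H V hV hHV F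
  exact ⟨k, ρ, h1, h2, h3⟩

end Cfsg.Agent.Solv.CRep
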