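import Mathlib.GroupTheory.Sylow
import Mathlib.GroupTheory.Nilpotent
import Mathlib.GroupTheory.Solvable
import Mathlib.GroupTheory.Complement
import Mathlib.GroupTheory.Index
import Mathlib.Algebra.Group.Subgroup.Pointwise
import Mathlib.Algebra.GCDMonoid.Nat

/-!
Elementary facts on subgroups of finite groups: orders of joins, conjugates, quotients,
minimal normal subgroups.
-/

set_option autoImplicit false

open scoped Pointwise

namespace Cfsg.Agent.Solv

variable {G : Type*} [Group G]

theorem mem_conj_smul {g x : G} {H : Subgroup G} :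
    x ∈ MulAut.conj g • H ↔ g⁻¹ * x * g ∈ H := by
  rw [Subgroup.mem_pointwise_smul_iff_inv_smul_mem]
  simp [MulAut.smul_def]

theorem conj_smul_eq_map (g : G) (H : Subgroup G) :
    MulAut.conj g • H = H.map (MulAut.conj g).toMonoidHom := rfl

theorem card_conj_smul (g : G) (H : Subgroup G) :
    Nat.card (MulAut.conj g • H : Subgroup G) = Nat.card H := by
  rw [conj_smul_eq_map]
  exact Subgroup.card_map_of_injective (MulAut.conj g).injective

theorem conj_smul_conj (a b : G) (H : Subgroup G) :
    MulAut.conj a • MulAut.conj b • H = MulAut.conj (a * b) • H := by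
  rw [map_mul, mul_smul]

theorem conj_one_smul (H : Subgroup G) : MulAut.conj (1 : G) • H = H := by
  rw [map_one, one_smul]

theorem conj_smul_of_mem_normalizer {g : G} {H : Subgroup G}
    (hg : g ∈ Subgroup.normalizer (H : Set G)) : MulAut.conj g • H = H := by
  ext x
  rw [mem_conj_smul]
  rw [Subgroup.mem_normalizer_iff''.1 hg x]

theorem mem_normalizer_of_conj_smul {g : G} {H : Subgroup G} (h : MulAut.conj g • H = H) :
    g ∈ Subgroup.normalizer (H : Set G) := by
  rw [Subgroup.mem_normalizer_iff'']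
  intro x
  rw [← mem_conj_smul, h]

theorem map_conj_smul {Q : Type*} [Group Q] (f : G →* Q) (g : G) (H : Subgroup G) :
    (MulAut.conj g • H).map f = MulAut.conj (f g) • H.map f := by
  rw [conj_smul_eq_map, conj_smul_eq_map, Subgroup.map_map, Subgroup.map_map]
  congr 1
  ext x
  simp

theorem card_sup_mul_card_inf (N H : Subgroup G) [N.Normal] :
    Nat.card (N ⊔ H : Subgroup G) * Nat.card (N ⊓ H : Subgroup G)
      = Nat.card N * Nat.card H := by
  have h1 := Subgroup.relIndex_mul_relIndex (⊥ : Subgroup G) N (N ⊔ H) bot_le le_sup_left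
  have h2 := Subgroup.relIndex_mul_relIndex (⊥ : Subgroup G) (N ⊓ H) H bot_le inf_le_right
  rw [Subgroup.relIndex_bot_left, Subgroup.relIndex_bot_left, Subgroup.relIndex_sup_left] at h1
  rw [Subgroup.relIndex_bot_left, Subgroup.relIndex_bot_left,
    Subgroup.inf_relIndex_right] at h2
  calc _ = Nat.card N * N.relIndex H * Nat.card (N ⊓ H : Subgroup G) := by rw [h1]
    _ = Nat.card N * (Nat.card (N ⊓ H : Subgroup G) * N.relIndex H) := by ring
    _ = _ := by rw [h2]

theorem card_sup_of_inf_eq_bot (N H : Subgroup G) [N.Normal] (h : N ⊓ H = ⊥) :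
    Nat.card (N ⊔ H : Subgroup G) = Nat.card N * Nat.card H := by
  have := card_sup_mul_card_inf N H
  rwa [h, Subgroup.card_bot, mul_one] at this

theorem card_map_mul_card_inf_ker {Q : Type*} [Group Q] (f : G →* Q) (H : Subgroup G) :
    Nat.card (H.map f) * Nat.card (f.ker ⊓ H : Subgroup G) = Nat.card H := by
  have h2 := Subgroup.relIndex_mul_relIndex (⊥ : Subgroup G) (f.ker ⊓ H) H bot_le inf_le_right
  rw [Subgroup.relIndex_bot_left, Subgroup.relIndex_bot_left,
    Subgroup.inf_relIndex_right, Subgroup.relIndex_ker] at h2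
  rw [mul_comm]; exact h2

theorem card_map_mk'_mul_card_inf (N H : Subgroup G) [N.Normal] :
    Nat.card (H.map (QuotientGroup.mk' N)) * Nat.card (N ⊓ H : Subgroup G) = Nat.card H := by
  have := card_map_mul_card_inf_ker (QuotientGroup.mk' N) H
  rwa [QuotientGroup.ker_mk'] at this

theorem card_map_mk'_dvd (N H : Subgroup G) [N.Normal] :
    Nat.card (H.map (QuotientGroup.mk' N)) ∣ Nat.card H :=
  ⟨_, (card_map_mk'_mul_card_inf N H).symm⟩

theorem card_comap_mk' (N : Subgroup G) [N.Normal] (H : Subgroup (G ⧸ N)) :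
    Nat.card (H.comap (QuotientGroup.mk' N)) = Nat.card H * Nat.card N := by
  have h := card_map_mk'_mul_card_inf N (H.comap (QuotientGroup.mk' N))
  rw [Subgroup.map_comap_eq_self_of_surjective (QuotientGroup.mk'_surjective N),
    inf_eq_left.2 (QuotientGroup.le_comap_mk' N H)] at h
  exact h.symm

theorem card_quotient_lt [Finite G] (N : Subgroup G) (hN : N ≠ ⊥) :
    Nat.card (G ⧸ N) < Nat.card G := by
  rw [← Subgroup.index_eq_card, ← N.card_mul_index]
  have h1 : 1 < Nat.card N := by
    rw [Finite.one_lt_card_iff_nontrivial]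
    exact (Subgroup.nontrivial_iff_ne_bot N).2 hN
  have h2 : 0 < N.index := Nat.pos_of_ne_zero Subgroup.index_ne_zero_of_finite
  nlinarith

theorem card_lt_of_lt [Finite G] {H K : Subgroup G} (h : H < K) : Nat.card H < Nat.card K := by
  refine lt_of_le_of_ne (Subgroup.card_le_of_le h.le) fun he => h.ne ?_
  exact Subgroup.eq_of_le_of_card_ge h.le he.ge

theorem card_lt_of_ne_top [Finite G] {H : Subgroup G} (h : H ≠ ⊤) : Nat.card H < Nat.card G := by
  have := card_lt_of_lt (lt_top_iff_ne_top.2 h)
  rwa [Subgroup.card_top] at this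

theorem card_subgroupOf {H L : Subgroup G} (h : H ≤ L) :
    Nat.card (H.subgroupOf L) = Nat.card H :=
  Nat.card_congr (Subgroup.subgroupOfEquivOfLe h).toEquiv

theorem card_map_subtype {L : Subgroup G} (H : Subgroup L) :
    Nat.card (H.map L.subtype) = Nat.card H :=
  Subgroup.card_map_of_injective L.subtype_injective

/-- A subgroup of order coprime to the index of a normal subgroup lies inside it. -/
theorem le_of_coprime_index [Finite G] (N H : Subgroup G) [N.Normal]
    (h : (Nat.card H).Coprime N.index) : H ≤ N := by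
  rw [← Subgroup.relIndex_eq_one]
  have h1 : N.relIndex H ∣ Nat.card H := Subgroup.relIndex_dvd_card _ _
  have h2 : N.relIndex H ∣ N.index := Subgroup.relIndex_dvd_index_of_normal _ _
  exact Nat.eq_one_of_dvd_coprimes h h1 h2

/-- A normal subgroup of order coprime to the index of a subgroup lies inside it. -/
theorem normal_le_of_coprime_index [Finite G] (N H : Subgroup G) [N.Normal]
    (h : (Nat.card N).Coprime H.index) : N ≤ H := by
  have h1 := card_sup_mul_card_inf N H
  have h2 := Subgroup.card_mul_index H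
  have h3 := Subgroup.card_mul_index (N ⊔ H)
  have h4 : H.relIndex N ∣ Nat.card N := Subgroup.relIndex_dvd_card _ _
  rw [← Subgroup.relIndex_eq_one]
  refine Nat.eq_one_of_dvd_coprimes h h4 ?_
  have h5 : Nat.card (N ⊓ H : Subgroup G) * H.relIndex N = Nat.card N := by
    have := Subgroup.relIndex_mul_relIndex (⊥ : Subgroup G) (N ⊓ H) N bot_le inf_le_left
    rw [Subgroup.relIndex_bot_left, Subgroup.relIndex_bot_left, Subgroup.inf_relIndex_left] at this
    exact this
  have h6 : Nat.card (N ⊔ H : Subgroup G) = Nat.card H * H.relIndex N := by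
    have hpos : 0 < Nat.card (N ⊓ H : Subgroup G) := Nat.card_pos
    rw [← h5] at h1
    nlinarith
  refine ⟨(N ⊔ H).index, ?_⟩
  have hpos : 0 < Nat.card H := Nat.card_pos
  rw [h6] at h3
  nlinarith

theorem exists_minimal_normal_le [Finite G] (M : Subgroup G) [M.Normal] (hM : M ≠ ⊥) :
    ∃ N : Subgroup G, N.Normal ∧ N ≠ ⊥ ∧ N ≤ M ∧
      ∀ K : Subgroup G, K.Normal → K ≤ N → K = ⊥ ∨ K = N := by
  obtain ⟨N, hNM, hN⟩ := Finite.exists_le_minimal
    (p := fun N : Subgroup G => N.Normal ∧ N ≠ ⊥) (a := M) ⟨inferInstance, hM⟩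
  refine ⟨N, hN.1.1, hN.1.2, hNM, fun K hK hKN => ?_⟩
  by_cases hKb : K = ⊥
  · exact Or.inl hKb
  · exact Or.inr (le_antisymm hKN (hN.2 ⟨hK, hKb⟩ hKN))

theorem exists_minimal_normal [Finite G] [Nontrivial G] :
    ∃ N : Subgroup G, N.Normal ∧ N ≠ ⊥ ∧
      ∀ K : Subgroup G, K.Normal → K ≤ N → K = ⊥ ∨ K = N := by
  obtain ⟨N, h1, h2, -, h4⟩ := exists_minimal_normal_le (⊤ : Subgroup G) top_ne_bot
  exact ⟨N, h1, h2, h4⟩

theorem isSolvable_of_le {H K : Subgroup G} (h : H ≤ K) (hK : Group.IsSolvable K) :
    Group.IsSolvable H :=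
  Group.isSolvable_of_isSolvable_injective (Subgroup.inclusion_injective h)

theorem isSolvable_map {Q : Type*} [Group Q] (f : G →* Q) {H : Subgroup G}
    (hH : Group.IsSolvable H) : Group.IsSolvable (H.map f) :=
  Group.isSolvable_of_surjective (f.subgroupMap_surjective H)

theorem isSolvable_subgroupOf {H L : Subgroup G} (h : H ≤ L) (hH : Group.IsSolvable H) :
    Group.IsSolvable (H.subgroupOf L) :=
  Group.isSolvable_of_isSolvable_injective (f := (Subgroup.subgroupOfEquivOfLe h).toMonoidHom)
    (MulEquiv.injective _)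

theorem coprime_inf {H K : Subgroup G} (h : (Nat.card H).Coprime (Nat.card K)) : H ⊓ K = ⊥ :=
  (Subgroup.disjoint_of_coprime_natCard h).eq_bot

theorem isNilpotent_of_le {H K : Subgroup G} (h : H ≤ K) (hK : Group.IsNilpotent K) :
    Group.IsNilpotent H :=
  Group.nilpotent_of_mulEquiv (Subgroup.subgroupOfEquivOfLe h)

/-- A minimal normal solvable subgroup is elementary abelian. -/
theorem minimal_normal_elementaryAbelian [Finite G] (N : Subgroup G) [N.Normal]
    (hsol : Group.IsSolvable N) (hN : N ≠ ⊥)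
    (hmin : ∀ K : Subgroup G, K.Normal → K ≤ N → K = ⊥ ∨ K = N) :
    IsMulCommutative N ∧ ∃ p : ℕ, p.Prime ∧ (∀ x ∈ N, x ^ p = 1) ∧ IsPGroup p N := by
  have : Nontrivial N := (Subgroup.nontrivial_iff_ne_bot N).2 hN
  have hcomm : commutator N = ⊥ := by
    have hlt : commutator N < ⊤ := Group.IsSolvable.commutator_lt_top_of_nontrivial N
    rcases hmin ((commutator N).map N.subtype) inferInstance
      (Subgroup.map_subtype_le _) with h | h
    · exact (Subgroup.map_eq_bot_iff_of_injective _ N.subtype_injective).1 h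
    · exact absurd (Subgroup.map_injective N.subtype_injective
        (h.trans (by rw [← MonoidHom.range_eq_map, Subgroup.range_subtype]))) hlt.ne
  have hab : ∀ a b : N, a * b = b * a := fun a b => by
    rw [← commutatorElement_eq_one_iff_mul_comm, ← Subgroup.mem_bot, ← hcomm,
      commutator_def]
    exact Subgroup.commutator_mem_commutator (Subgroup.mem_top a) (Subgroup.mem_top b)
  refine ⟨⟨⟨hab⟩⟩, ?_⟩
  have hne : Nat.card N ≠ 1 := fun h => hN (Subgroup.card_eq_one.1 h)
  obtain ⟨p, hp, hdvd⟩ := Nat.exists_prime_and_dvd hne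
  refine ⟨p, hp, ?_⟩
  have := Fact.mk hp
  let f : N →* N :=
    { toFun := fun x => x ^ p, map_one' := one_pow p
      map_mul' := fun a b => (Commute.mul_pow (hab a b) p) }
  have hchar : f.ker.Characteristic := by
    rw [Subgroup.characteristic_iff_comap_eq]
    intro φ
    ext x
    show (φ x) ^ p = 1 ↔ x ^ p = 1
    rw [← map_pow]
    exact φ.map_eq_one_iff
  have hfker : f.ker = ⊤ := by
    rcases hmin (f.ker.map N.subtype) inferInstance (Subgroup.map_subtype_le _) with h | h
    · obtain ⟨x, hx⟩ := exists_prime_orderOf_dvd_card' p hdvd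
      have hxk : x ∈ f.ker := show x ^ p = 1 by rw [← hx, pow_orderOf_eq_one]
      rw [(Subgroup.map_eq_bot_iff_of_injective _ N.subtype_injective).1 h,
        Subgroup.mem_bot] at hxk
      rw [hxk, orderOf_one] at hx
      exact absurd hx.symm hp.ne_one
    · exact Subgroup.map_injective N.subtype_injective
        (h.trans (by rw [← MonoidHom.range_eq_map, Subgroup.range_subtype]))
  have hpow : ∀ x : N, x ^ p = 1 := fun x => by
    have : x ∈ f.ker := hfker ▸ Subgroup.mem_top x
    exact this
  exact ⟨fun x hx => congrArg Subtype.val (hpow ⟨x, hx⟩),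
    fun x => ⟨1, by rw [pow_one]; exact hpow x⟩⟩

end Cfsg.Agent.Solv
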