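import Cfsg.Agent.Lib.Perm.NilpFrattini
import Cfsg.Agent.Lib.Fusion.Critical

/-!
The Frattini subgroup of a finite `p`-group: it contains commutators and `p`-th powers and is the
smallest such normal subgroup.
-/

set_option autoImplicit false
set_option linter.style.haveILetI false

open scoped commutatorElement

namespace Cfsg.Agent.Solv

variable {P : Type*} [Group P] [Finite P] {p : ℕ} [hp : Fact p.Prime]

theorem commutator_le_frattini_pgroup (hP : IsPGroup p P) : commutator P ≤ frattini P :=
  haveI := hP.isNilpotent
  Perm.commutator_le_frattini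

theorem coatom_normal (hP : IsPGroup p P) {M : Subgroup P} (hM : IsCoatom M) : M.Normal :=
  haveI := hP.isNilpotent
  Subgroup.NormalizerCondition.normal_of_coatom M Group.normalizerCondition_of_isNilpotent hM

theorem coatom_index (hP : IsPGroup p P) {M : Subgroup P} (hM : IsCoatom M) : M.index = p := by
  haveI := coatom_normal hP hM
  obtain ⟨k, hk⟩ := hP.index M
  have h1 : M.index ≠ 1 := fun h => hM.1 (Subgroup.index_eq_one.1 h)
  have hdvd : p ∣ Nat.card (P ⧸ M) := by
    rw [← Subgroup.index_eq_card, hk]
    exact dvd_pow_self p fun h0 => h1 (by rw [hk, h0, pow_zero])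
  obtain ⟨xb, hxb⟩ := exists_prime_orderOf_dvd_card' p hdvd
  have htop : (Subgroup.zpowers xb).comap (QuotientGroup.mk' M) = ⊤ := by
    refine hM.2 _ (lt_of_le_of_ne ((Subgroup.comap_mono bot_le).trans' ?_) fun h => ?_)
    · intro m hm
      exact (QuotientGroup.eq_one_iff m).2 hm
    · obtain ⟨x, rfl⟩ := QuotientGroup.mk_surjective xb
      have hx : x ∈ M := by
        rw [h]
        exact Subgroup.mem_zpowers _
      rw [(QuotientGroup.eq_one_iff x).2 hx, orderOf_one] at hxb
      exact hp.out.one_lt.ne hxb
  have htop' : Subgroup.zpowers xb = ⊤ := by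
    rw [← Subgroup.map_comap_eq_self_of_surjective (QuotientGroup.mk'_surjective M)
      (Subgroup.zpowers xb), htop, Subgroup.map_top_of_surjective _ (QuotientGroup.mk'_surjective M)]
  rw [Subgroup.index_eq_card, ← Subgroup.card_top, ← htop', Nat.card_zpowers, hxb]

theorem pow_mem_frattini (hP : IsPGroup p P) (x : P) : x ^ p ∈ frattini P := by
  simp only [frattini, Order.radical, Subgroup.mem_iInf]
  intro M hM
  haveI := coatom_normal hP hM
  rw [← coatom_index hP hM]
  exact M.pow_index_mem x

theorem commutatorElement_mem_frattini (hP : IsPGroup p P) (a b : P) : ⁅a, b⁆ ∈ frattini P :=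
  commutator_le_frattini_pgroup hP
    (Subgroup.commutator_mem_commutator (Subgroup.mem_top a) (Subgroup.mem_top b))

theorem frattini_le (A : Subgroup P) [A.Normal] (hc : ∀ a b : P, ⁅a, b⁆ ∈ A)
    (hpow : ∀ a : P, a ^ p ∈ A) : frattini P ≤ A :=
  Fusion.frattini_le_of_elementary_quotient A hc hpow

omit hp in
/-- The quotient of a group by a normal subgroup containing the commutators is commutative. -/
theorem quotient_mul_comm (A : Subgroup P) [A.Normal] (hc : ∀ a b : P, ⁅a, b⁆ ∈ A)
    (a b : P ⧸ A) : a * b = b * a := by
  induction a using QuotientGroup.induction_on with | _ a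
  induction b using QuotientGroup.induction_on with | _ b
  rw [← commutatorElement_eq_one_iff_mul_comm, ← QuotientGroup.mk'_apply, ← QuotientGroup.mk'_apply,
    ← map_commutatorElement, QuotientGroup.mk'_apply, QuotientGroup.eq_one_iff]
  exact hc a b

end Cfsg.Agent.Solv
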