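import Cfsg.Prelude.Def_Transfer
import Cfsg.Agent.Lib.Solv.Basic
import Cfsg.Agent.Lib.Solv.PGroupPhi

/-!
Groups with derived subgroup inside a centre of prime order: the order is an odd power of the
prime, abelian subgroups have order at most `p ^ (m + 1)`; consequences for extraspecial groups.
-/

set_option autoImplicit false
set_option linter.style.haveILetI false

open scoped commutatorElement

namespace Cfsg.Agent.Solv

universe u

theorem commutatorElement_mul_left_of_central {E : Type u} [Group E] {g h x : E}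
    (hc : ⁅h, x⁆ ∈ Subgroup.center E) : ⁅g * h, x⁆ = ⁅g, x⁆ * ⁅h, x⁆ := by
  have h1 : ⁅g * h, x⁆ = g * ⁅h, x⁆ * g⁻¹ * ⁅g, x⁆ := by
    rw [commutatorElement_def, commutatorElement_def, commutatorElement_def]; group
  rw [h1, Subgroup.mem_center_iff.1 hc g, mul_inv_cancel_right, Subgroup.mem_center_iff.1 hc]

/-- Commutation with a fixed element, as a homomorphism into the centre. -/
def commHom {E : Type u} [Group E] (hd : commutator E ≤ Subgroup.center E) (x : E) :
    E →* Subgroup.center E :=
  MonoidHom.mk' (fun g => ⟨⁅g, x⁆,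
      hd (Subgroup.commutator_mem_commutator (Subgroup.mem_top g) (Subgroup.mem_top x))⟩)
    fun _ h => Subtype.ext (commutatorElement_mul_left_of_central
      (hd (Subgroup.commutator_mem_commutator (Subgroup.mem_top h) (Subgroup.mem_top x))))

theorem commHom_apply {E : Type u} [Group E] (hd : commutator E ≤ Subgroup.center E) (x g : E) :
    (commHom hd x g : E) = ⁅g, x⁆ := rfl

theorem mem_ker_commHom {E : Type u} [Group E] (hd : commutator E ≤ Subgroup.center E) (x g : E) :
    g ∈ (commHom hd x).ker ↔ g * x = x * g := by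
  rw [MonoidHom.mem_ker, ← commutatorElement_eq_one_iff_mul_comm]
  exact ⟨fun h => congrArg Subtype.val h, fun h => Subtype.ext h⟩

theorem card_eq_two_mul_aux {n : ℕ} : ∀ {E : Type u} [Group E] [Finite E] {p : ℕ} [Fact p.Prime],
    Nat.card E < n → Nat.card (Subgroup.center E) = p → commutator E ≤ Subgroup.center E →
    ∃ m : ℕ, Nat.card E = p ^ (2 * m + 1) ∧
      ∀ B : Subgroup E, IsMulCommutative B → Nat.card B ∣ p ^ (m + 1) := by
  induction n with
  | zero => intro E _ _ p _ h; exact absurd h (Nat.not_lt_zero _)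
  | succ n ih =>
    intro E _ _ p hp hn hc hd
    by_cases htop : Subgroup.center E = ⊤
    · refine ⟨0, ?_, fun B _ => ?_⟩
      · rw [← Subgroup.card_top, ← htop, hc, Nat.mul_zero, Nat.zero_add, pow_one]
      · rw [Nat.zero_add, pow_one, ← hc, htop]
        exact Subgroup.card_dvd_of_le le_top
    have main : ∀ x : E, x ∉ Subgroup.center E → ∃ C : Subgroup E,
        (∀ c ∈ C, c * x = x * c) ∧ Nat.card C * p ^ 2 = Nat.card E ∧
        ∃ m : ℕ, Nat.card C = p ^ (2 * m + 1) ∧
          (∀ B : Subgroup C, IsMulCommutative B → Nat.card B ∣ p ^ (m + 1)) ∧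
          (∀ B : Subgroup E, IsMulCommutative B → x ∈ B → Nat.card B ∣ Nat.card (B.subgroupOf C) * p) := by
      intro x hx
      obtain ⟨y, hy⟩ : ∃ y, y * x ≠ x * y := by
        by_contra h
        simp only [not_exists, not_not] at h
        exact hx (Subgroup.mem_center_iff.2 h)
      obtain ⟨φ, hφ⟩ : ∃ φ, φ = (commHom hd x).prod (commHom hd y) := ⟨_, rfl⟩
      have hφa : ∀ g, φ g = (commHom hd x g, commHom hd y g) := fun g => by rw [hφ]; rfl
      have hzero : ∀ a : E, commHom hd a a = 1 := fun a => Subtype.ext (commutatorElement_self a)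
      have hgen : ∀ u : Subgroup.center E, u ≠ 1 → ∀ v, v ∈ Subgroup.zpowers u := fun u hu v =>
        mem_zpowers_of_prime_card (p := p) hc hu
      have h1 : commHom hd x y ≠ 1 := fun h => hy ((mem_ker_commHom hd x y).1 h)
      have h2 : commHom hd y x ≠ 1 := fun h => hy ((mem_ker_commHom hd y x).1 h).symm
      have hsurj : Function.Surjective φ := by
        rintro ⟨u, v⟩
        obtain ⟨i, hi⟩ := hgen _ h1 u
        obtain ⟨j, hj⟩ := hgen _ h2 v
        refine ⟨y ^ i * x ^ j, ?_⟩
        rw [hφa, map_mul, map_mul, map_zpow, map_zpow, map_zpow, map_zpow, hzero, hzero, one_zpow,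
          one_zpow, mul_one, one_mul]
        exact Prod.ext hi hj
      have hidx : φ.ker.index = p ^ 2 := by
        rw [Subgroup.index_ker, MonoidHom.range_eq_top.2 hsurj, Subgroup.card_top, Nat.card_prod,
          hc, sq]
      have hmem : ∀ g, g ∈ φ.ker ↔ g * x = x * g ∧ g * y = y * g := fun g => by
        rw [← mem_ker_commHom hd x, ← mem_ker_commHom hd y, MonoidHom.mem_ker, MonoidHom.mem_ker,
          MonoidHom.mem_ker, hφa, Prod.mk_eq_one]
      have hcard : Nat.card φ.ker * p ^ 2 = Nat.card E := hidx ▸ φ.ker.card_mul_index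
      have hlt : Nat.card φ.ker < n := by
        have h3 : 1 < p ^ 2 := Nat.one_lt_pow two_ne_zero hp.out.one_lt
        have h4 : Nat.card φ.ker < Nat.card E := by
          rw [← hcard]; exact lt_mul_of_one_lt_right Nat.card_pos h3
        omega
      have hZle : Subgroup.center E ≤ φ.ker := fun z hz =>
        (hmem z).2 ⟨(Subgroup.mem_center_iff.1 hz x).symm, (Subgroup.mem_center_iff.1 hz y).symm⟩
      have hcent : ∀ z : φ.ker, z ∈ Subgroup.center φ.ker ↔ (z : E) ∈ Subgroup.center E := by
        refine fun z => ⟨fun hz => Subgroup.mem_center_iff.2 fun g => ?_, fun hz =>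
          Subgroup.mem_center_iff.2 fun g => Subtype.ext (Subgroup.mem_center_iff.1 hz g)⟩
        obtain ⟨i, hi⟩ := hgen _ h1 (commHom hd x g)
        obtain ⟨j, hj⟩ := hgen _ h2 (commHom hd y g)
        have hg : g * (y ^ i * x ^ j)⁻¹ ∈ φ.ker := by
          rw [MonoidHom.mem_ker, map_mul, map_inv, mul_inv_eq_one, hφa, hφa, map_mul, map_mul,
            map_zpow, map_zpow, map_zpow, map_zpow, hzero, hzero, one_zpow, one_zpow, mul_one,
            one_mul]
          exact Prod.ext hi.symm hj.symm
        have e1 : Commute (z : E) (g * (y ^ i * x ^ j)⁻¹) :=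
          (congrArg Subtype.val (Subgroup.mem_center_iff.1 hz ⟨_, hg⟩)).symm
        have e2 : Commute (z : E) (y ^ i * x ^ j) :=
          (Commute.zpow_right ((hmem z).1 z.2).2 i).mul_right
            (Commute.zpow_right ((hmem z).1 z.2).1 j)
        simpa [mul_assoc] using ((e1.mul_right e2).eq).symm
      have hc' : Nat.card (Subgroup.center φ.ker) = p := by
        rw [show Subgroup.center φ.ker = (Subgroup.center E).subgroupOf φ.ker from
          Subgroup.ext fun z => by rw [hcent, Subgroup.mem_subgroupOf],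
          Nat.card_congr (Subgroup.subgroupOfEquivOfLe hZle).toEquiv, hc]
      have hd' : commutator φ.ker ≤ Subgroup.center φ.ker := fun c hc1 => by
        rw [hcent]
        refine hd ?_
        have h5 := Subgroup.mem_map_of_mem φ.ker.subtype hc1
        rw [commutator_def, Subgroup.map_commutator] at h5
        exact Subgroup.commutator_mono le_top le_top h5
      obtain ⟨m, hm, hb⟩ := ih hlt hc' hd'
      refine ⟨φ.ker, fun c hcm => ((hmem c).1 hcm).1, hcard, m, hm, hb, fun B hB hxB => ?_⟩
      have h6 : φ.ker.relIndex B ∣ p := by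
        obtain ⟨ψ, hψ⟩ : ∃ ψ, ψ = (commHom hd y).comp B.subtype := ⟨_, rfl⟩
        have h7 : φ.ker.subgroupOf B = ψ.ker := Subgroup.ext fun b => by
          rw [Subgroup.mem_subgroupOf, hmem, hψ, MonoidHom.mem_ker, MonoidHom.comp_apply,
            ← MonoidHom.mem_ker, mem_ker_commHom, Subgroup.coe_subtype]
          refine and_iff_right (congrArg Subtype.val (hB.is_comm.comm b ⟨x, hxB⟩))
        rw [Subgroup.relIndex, h7, Subgroup.index_ker, ← hc]
        exact Subgroup.card_subgroup_dvd_card _
      have h8 : Nat.card (B.subgroupOf φ.ker) = Nat.card (φ.ker.subgroupOf B) := by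
        rw [← card_map_subtype, ← card_map_subtype (φ.ker.subgroupOf B),
          Subgroup.subgroupOf_map_subtype, Subgroup.subgroupOf_map_subtype, inf_comm]
      have h9 := (φ.ker.subgroupOf B).card_mul_index
      rw [← Subgroup.relIndex, ← h8] at h9
      rw [← h9]
      exact Nat.mul_dvd_mul_left _ h6
    obtain ⟨x, hx⟩ : ∃ x, x ∉ Subgroup.center E := by
      by_contra h
      simp only [not_exists, not_not] at h
      exact htop (eq_top_iff.2 fun a _ => h a)
    obtain ⟨C, -, hcard, m, hm, -, -⟩ := main x hx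
    have hE : Nat.card E = p ^ (2 * (m + 1) + 1) := by
      rw [← hcard, hm, ← pow_add]; congr 1
    refine ⟨m + 1, hE, fun B hB => ?_⟩
    by_cases hBZ : B ≤ Subgroup.center E
    · refine dvd_trans (Subgroup.card_dvd_of_le hBZ) ?_
      rw [hc]
      exact dvd_pow_self p (by omega)
    obtain ⟨x', hx'B, hx'⟩ := SetLike.not_le_iff_exists.1 hBZ
    obtain ⟨C', -, hcard', m', hm', hb', hB'⟩ := main x' hx'
    have hmm : m' = m := by
      rw [hm', hE, ← pow_add] at hcard'
      have := Nat.pow_right_injective hp.out.two_le hcard'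
      omega
    haveI : IsMulCommutative (B.subgroupOf C') := ⟨⟨fun a b => Subtype.ext (Subtype.ext
      (congrArg (fun t : B => (t : E)) (hB.is_comm.comm ⟨_, a.2⟩ ⟨_, b.2⟩)))⟩⟩
    refine dvd_trans (hB' B hB hx'B) ?_
    rw [pow_succ p (m + 1)]
    exact Nat.mul_dvd_mul_right (hmm ▸ hb' _ inferInstance) p

/-- A finite group whose centre has prime order and contains the derived subgroup has order an odd
power of that prime, and its abelian subgroups have order dividing `p ^ (m + 1)`. -/
theorem card_eq_odd_pow {E : Type u} [Group E] [Finite E] {p : ℕ} [Fact p.Prime]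
    (hc : Nat.card (Subgroup.center E) = p) (hd : commutator E ≤ Subgroup.center E) :
    ∃ m : ℕ, Nat.card E = p ^ (2 * m + 1) ∧
      ∀ B : Subgroup E, IsMulCommutative B → Nat.card B ∣ p ^ (m + 1) :=
  card_eq_two_mul_aux (Nat.lt_succ_self _) hc hd

/-- An extraspecial `p`-group has order `p ^ (2 * m + 1)` with `m ≥ 1`, and abelian subgroups of
order dividing `p ^ (m + 1)`. -/
theorem extraspecial_card {E : Type u} [Group E] [Finite E] {p : ℕ} [Fact p.Prime]
    (hE : Cfsg.IsExtraspecial p E) : ∃ m : ℕ, 1 ≤ m ∧ Nat.card E = p ^ (2 * m + 1) ∧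
      ∀ B : Subgroup E, IsMulCommutative B → Nat.card B ∣ p ^ (m + 1) := by
  obtain ⟨⟨-, -, hd⟩, hc⟩ := hE
  obtain ⟨m, hm, hb⟩ := card_eq_odd_pow hc hd.le
  refine ⟨m, Nat.one_le_iff_ne_zero.2 fun h0 => ?_, hm, hb⟩
  subst h0
  rw [Nat.mul_zero, Nat.zero_add, pow_one] at hm
  have htop : Subgroup.center E = ⊤ := Subgroup.eq_top_of_card_eq _ (hc.trans hm.symm)
  have hbot : commutator E = ⊥ := by
    rw [commutator_def, Subgroup.commutator_eq_bot_iff_le_centralizer]
    intro a _
    exact Subgroup.mem_centralizer_iff.2 fun b _ => (Subgroup.mem_center_iff.1 (htop ▸ Subgroup.mem_top a) b)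
  rw [hbot] at hd
  rw [← hd, Subgroup.card_bot] at hc
  exact (Fact.out : p.Prime).ne_one hc.symm

theorem extraspecial_not_comm {E : Type u} [Group E] [Finite E] {p : ℕ} [Fact p.Prime]
    (hE : Cfsg.IsExtraspecial p E) : ¬ IsMulCommutative E := by
  intro h
  obtain ⟨m, hm1, hm, -⟩ := extraspecial_card hE
  have htop : Subgroup.center E = ⊤ := eq_top_iff.2 fun a _ =>
    Subgroup.mem_center_iff.2 fun b => h.is_comm.comm b a
  have := hE.2
  rw [htop, Subgroup.card_top, hm] at this
  exact (Nat.pow_eq_self_iff (Fact.out : p.Prime).one_lt).1 this |>.symm |> fun h' => by omega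

theorem extraspecial_pow_mem_center {E : Type u} [Group E] [Finite E] {p : ℕ} [Fact p.Prime]
    (hE : Cfsg.IsExtraspecial p E) (x : E) : x ^ p ∈ Subgroup.center E :=
  hE.1.2.1 ▸ pow_mem_frattini hE.1.1 x

/-- In an extraspecial `p`-group the exponent divides `p ^ 2`. -/
theorem extraspecial_pow_sq {E : Type u} [Group E] [Finite E] {p : ℕ} [Fact p.Prime]
    (hE : Cfsg.IsExtraspecial p E) (x : E) : x ^ p ^ 2 = 1 := by
  have h := pow_card_eq_one' (x := (⟨x ^ p, extraspecial_pow_mem_center hE x⟩ : Subgroup.center E))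
  rw [hE.2] at h
  rw [sq, pow_mul]
  exact congrArg Subtype.val h

/-- The centralizer of a noncentral element of an extraspecial group has index `p`. -/
theorem extraspecial_centralizer_index {E : Type u} [Group E] [Finite E] {p : ℕ} [Fact p.Prime]
    (hE : Cfsg.IsExtraspecial p E) {x : E} (hx : x ∉ Subgroup.center E) :
    (Subgroup.centralizer ({x} : Set E)).index = p := by
  have hd := hE.1.2.2.le
  have h1 : Subgroup.centralizer ({x} : Set E) = (commHom hd x).ker := Subgroup.ext fun g => by
    rw [mem_ker_commHom, Subgroup.mem_centralizer_singleton_iff]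
  rw [h1, Subgroup.index_ker]
  rcases (Nat.dvd_prime (Fact.out : p.Prime)).1
    (hE.2 ▸ Subgroup.card_subgroup_dvd_card (commHom hd x).range) with h | h
  · refine absurd (Subgroup.mem_center_iff.2 fun g => ?_) hx
    haveI := (Nat.card_eq_one_iff_unique.1 h).1
    refine (mem_ker_commHom hd x g).1 (MonoidHom.mem_ker.2 ?_)
    exact congrArg Subtype.val
      (Subsingleton.elim (⟨_, ⟨g, rfl⟩⟩ : (commHom hd x).range) ⟨1, ⟨1, map_one _⟩⟩)
  · exact h

/-- A `p`-group whose centre has order `p`, equals the derived subgroup and contains all `p`-th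
powers is extraspecial. -/
theorem isExtraspecial_of {E : Type u} [Group E] [Finite E] {p : ℕ} [Fact p.Prime]
    (hp : IsPGroup p E) (hc : Nat.card (Subgroup.center E) = p)
    (hd : commutator E = Subgroup.center E) (hpow : ∀ x : E, x ^ p ∈ Subgroup.center E) :
    Cfsg.IsExtraspecial p E := by
  refine ⟨⟨hp, le_antisymm (frattini_le _ (fun a b => hd ▸
    Subgroup.commutator_mem_commutator (Subgroup.mem_top a) (Subgroup.mem_top b)) hpow) ?_, hd⟩, hc⟩
  rw [← hd]
  exact commutator_le_frattini_pgroup hp

theorem normal_of_index_prime {E : Type u} [Group E] [Finite E] {p : ℕ} [hp : Fact p.Prime]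
    (hE : IsPGroup p E) {M : Subgroup E} (hM : M.index = p) : M.Normal := by
  obtain ⟨k, hk⟩ := IsPGroup.iff_card.1 hE
  have hk0 : k ≠ 0 := fun h0 => by
    have h1 := M.index_dvd_card
    rw [hk, hM, h0, pow_zero, Nat.dvd_one] at h1
    exact hp.out.ne_one h1
  refine Subgroup.normal_of_index_eq_minFac_card ?_
  rw [hM, hk, Nat.Prime.pow_minFac hp.out hk0]

theorem commutator_le_of_index_prime {E : Type u} [Group E] [Finite E] {p : ℕ} [hp : Fact p.Prime]
    (hE : IsPGroup p E) {M : Subgroup E} (hM : M.index = p) : commutator E ≤ M := by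
  haveI := normal_of_index_prime hE hM
  haveI : Fact (Nat.card (E ⧸ M)).Prime := ⟨by rw [← Subgroup.index_eq_card, hM]; exact hp.out⟩
  haveI := isCyclic_of_prime_card (α := E ⧸ M) rfl
  rw [commutator_def, Subgroup.commutator_le]
  intro a _ b _
  rw [← QuotientGroup.eq_one_iff (N := M), ← QuotientGroup.mk'_apply, map_commutatorElement,
    commutatorElement_eq_one_iff_mul_comm]
  exact mul_comm' _ _

end Cfsg.Agent.Solv
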