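import Cfsg.Agent.Lib.Solv.Heisenberg
import Cfsg.Agent.S3736

/-!
An element of prime order `r` acting on a `q`-group inside a linear group in coprime characteristic
has non-trivial fixed vectors unless `q = 2`, `r` is a Fermat prime and the group is non-abelian.
-/

set_option autoImplicit false
set_option linter.style.haveILetI false

namespace Cfsg.Agent.Solv.CRep

open scoped commutatorElement

variable {F : Type*} [Field F] [IsAlgClosed F]
variable {V : Type*} [AddCommGroup V] [Module F V] [FiniteDimensional F V]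

omit [IsAlgClosed F] in
theorem cast_prime_pow_ne_zero {q : ℕ} (hqF : (q : F) ≠ 0) {n N : ℕ} (h : N = q ^ n) :
    (N : F) ≠ 0 := by rw [h, Nat.cast_pow]; exact pow_ne_zero _ hqF

/-- The case of a simple constituent with non-degenerate commutator pairing. -/
theorem heisenberg_fpf {E : Type*} [Group E] [Finite E] {q r : ℕ} [Fact q.Prime] (hr : r.Prime)
    (hE : IsPGroup q E) (hqF : (q : F) ≠ 0) (hrF : (r : F) ≠ 0) (ρ : E →* Module.End F V)
    (φ : MulAut E) (hφ : φ ^ r = 1) (x : Module.End F V) (hx : ∀ g, x * ρ g = ρ (φ g) * x)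
    (hxr : x ^ r = 1) (hsum : (∑ i ∈ Finset.range r, x ^ i : Module.End F V) = 0)
    (U : Submodule F V) (hU : ∀ g, ∀ w ∈ U, ρ g w ∈ U) (hs : IsSimpleRep (subRep ρ U hU))
    (Z : Subgroup E) (hZc : Z ≤ Subgroup.center E) (hd : commutator E ≤ Subgroup.center E)
    (hnd : ∀ g : E, (∀ k : E, subRep ρ U hU ⁅g, k⁆ = 1) → g ∈ Z) (hne : Z ≠ ⊤)
    (hφZ : ∀ z ∈ Z, φ z = z) (hfree : ∀ g, g⁻¹ * φ g ∈ Z → g ∈ Z) :
    q = 2 ∧ ∃ n : ℕ, r = 2 ^ n + 1 ∧ Z.index = 2 ^ (2 * n) := by
  have hq : q.Prime := Fact.out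
  obtain ⟨j, hj⟩ := hE.index Z
  have hfree' : ∀ i, 0 < i → i < r → ∀ g, g⁻¹ * (φ ^ i) g ∈ Z → g ∈ Z := by
    intro i hi0 hir g hg
    refine hfree g ?_
    obtain ⟨m, hm⟩ := exists_pow_eq_self_of_coprime (x := φ) (n := i)
      ((Nat.Coprime.coprime_dvd_right (orderOf_dvd_of_pow_eq_one hφ)
        ((hr.coprime_iff_not_dvd.2 fun h => by
          have := Nat.le_of_dvd hi0 h; omega).symm)))
    haveI := normal_of_le_center hZc
    have hpZ : ∀ k : ℕ, ∀ z ∈ Z, ((φ ^ i) ^ k) z = z := by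
      intro k z hz
      rw [← pow_mul]
      induction i * k with
      | zero => rfl
      | succ l ih => rw [pow_succ, MulAut.mul_apply, hφZ z hz, ih]
    have key : ∀ k : ℕ, g⁻¹ * ((φ ^ i) ^ k) g ∈ Z := by
      intro k
      induction k with
      | zero => simp
      | succ k ih =>
        have e : ((φ ^ i) ^ (k + 1)) g = ((φ ^ i) ^ k) g * (g⁻¹ * (φ ^ i) g) := by
          rw [pow_succ, MulAut.mul_apply]
          conv_lhs => rw [show (φ ^ i) g = g * (g⁻¹ * (φ ^ i) g) by group, map_mul, hpZ k _ hg]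
        rw [e, ← mul_assoc]
        exact mul_mem ih hg
    have h1 := key m
    rwa [hm] at h1
  obtain ⟨hdiv, t, htr, hti, hmiss⟩ := heisenberg_main hs hZc hd hnd (cast_prime_pow_ne_zero hqF hj)
    φ hφZ hr.two_le hφ hrF hne hfree'
  obtain ⟨η, hη, hηw⟩ := exists_missing_eigenvalue ρ hr hrF φ hφ x hx hxr hsum U hU hs t htr hti
  have hd2 := finrank_sq hs hZc hd hnd (cast_prime_pow_ne_zero hqF hj)
  have hZ1 : Z.index ≠ 1 := fun h => hne (Subgroup.index_eq_one.1 h)
  have hd1 : Module.finrank F U + 1 = r := by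
    refine (hmiss ⟨η, hη, hηw⟩).resolve_left fun h => hZ1 ?_
    rw [← hd2, h]
  obtain ⟨n, -, hn⟩ := (Nat.dvd_prime_pow hq).1 (Dvd.intro (Module.finrank F U) (hd2.trans hj))
  have hn0 : n ≠ 0 := by
    rintro rfl
    rw [pow_zero] at hn
    rw [hn] at hd2
    exact hZ1 hd2.symm
  have hq2 : q = 2 := by
    rcases hq.eq_two_or_odd' with h | h
    · exact h
    · exfalso
      have hev : Even r := by rw [← hd1, hn]; exact (h.pow).add_one
      have hr2 : r = 2 := hr.eq_two_or_odd'.resolve_right (Nat.not_odd_iff_even.2 hev)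
      have h1 : q ≤ q ^ n := Nat.le_self_pow hn0 q
      have := hq.two_le
      omega
  subst hq2
  refine ⟨rfl, n, by omega, ?_⟩
  rw [← hd2, hn, ← pow_add, two_mul]

/-- A subgroup of a linear group normalized by an element of prime order without fixed vectors. -/
theorem core {G : Type*} [Group G] [Finite G] {q r : ℕ} [Fact q.Prime] (hr : r.Prime)
    (hqr : q ≠ r) (hqF : (q : F) ≠ 0) (hrF : (r : F) ≠ 0) (ρ : G →* Module.End F V)
    (hρ : ∀ g, ρ g = 1 → g = 1) (Q : Subgroup G) (x : G) (hQ : IsPGroup q Q) (hxo : orderOf x = r)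
    (hxQ : x ∈ Subgroup.normalizer (Q : Set G)) (hne : ⁅Q, Subgroup.zpowers x⁆ ≠ ⊥)
    (hsum : (∑ i ∈ Finset.range r, ρ x ^ i : Module.End F V) = 0) :
    q = 2 ∧ (∃ n : ℕ, r = 2 ^ n + 1) ∧ ¬ IsMulCommutative Q := by
  have hq : q.Prime := Fact.out
  obtain ⟨Q0, hQ0Q, ⟨hxQ0, hne0⟩, hmin⟩ := Finite.exists_le_minimal
    (p := fun U : Subgroup G => Subgroup.zpowers x ≤ Subgroup.normalizer (U : Set G) ∧
      ⁅U, Subgroup.zpowers x⁆ ≠ ⊥) (a := Q) ⟨(Subgroup.zpowers_le).2 hxQ, hne⟩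
  have hQ0 : IsPGroup q Q0 := hQ.to_le hQ0Q
  obtain ⟨hcomm, hshape, hirr, -⟩ := Cfsg.Agent.S3736.result (p := q) (Subgroup.zpowers x)
    (Subgroup.zpowers x) Q0 hQ0 hxQ0 le_rfl Subgroup.le_normalizer
    (by rw [Nat.card_zpowers, hxo]; exact (Nat.coprime_primes hr hq).2 hqr.symm) hne0
    (fun U hU hUB => by
      by_contra h
      exact hU.not_ge (hmin ⟨hUB, h⟩ hU.le))
  obtain ⟨δ, hδ⟩ : ∃ δ : MulAut Q0, ∀ z : Q0, ((δ z : Q0) : G) = x * z * x⁻¹ :=
    ⟨Subgroup.normalizerMonoidHom Q0 ⟨x, hxQ0 (Subgroup.mem_zpowers x)⟩, fun z => rfl⟩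
  have hδpow : ∀ (a : ℕ) (z : Q0), (((δ ^ a) z : Q0) : G) = x ^ a * z * (x ^ a)⁻¹ := by
    intro a
    induction a with
    | zero => intro z; simp
    | succ a ih =>
      intro z
      rw [pow_succ, MulAut.mul_apply, ih, hδ, pow_succ]
      group
  have hδ1 : δ ^ r = 1 := MulEquiv.ext fun z => Subtype.ext (by
    rw [hδpow, ← hxo, pow_orderOf_eq_one]; simp)
  obtain ⟨ρ0, hρ0⟩ : ∃ ρ0, ρ0 = ρ.comp Q0.subtype := ⟨_, rfl⟩
  have hxint : ∀ g : Q0, ρ x * ρ0 g = ρ0 (δ g) * ρ x := fun g => by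
    rw [hρ0, MonoidHom.comp_apply, MonoidHom.comp_apply, ← map_mul, ← map_mul]
    congr 1
    show x * g = ((δ g : Q0) : G) * x
    rw [hδ]; group
  have hxr : ρ x ^ r = 1 := by rw [← map_pow, ← hxo, pow_orderOf_eq_one, map_one]
  have htriv : ∀ g : Q0, ρ0 g = 1 → g = 1 := fun g hg => Subtype.ext (hρ g (by
    rw [hρ0] at hg; exact hg))
  have hKF : ∀ K : Subgroup Q0, ((Nat.card K : ℕ) : F) ≠ 0 := fun K => by
    obtain ⟨j, hj⟩ := (hQ0.to_subgroup K).exists_card_eq
    exact cast_prime_pow_ne_zero hqF hj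
  -- a subgroup of `Q0` containing all `[g, x]` is everything
  have hgen : ∀ S : Subgroup Q0, S.Normal → (∀ g, δ g * g⁻¹ ∈ S) → S = ⊤ := by
    intro S hSn hSg
    apply Subgroup.map_injective Q0.subtype_injective
    rw [← MonoidHom.range_eq_map, Subgroup.range_subtype]
    refine le_antisymm (Subgroup.map_subtype_le _) ?_
    conv_lhs => rw [← hcomm]
    refine Subgroup.commutator_le.2 fun y hy a ha => ?_
    obtain ⟨k, rfl⟩ := (IsOfFinOrder.mem_powers_iff_mem_zpowers (isOfFinOrder_of_finite x)).2 ha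
    have hk : ∀ k : ℕ, ∀ g : Q0, (δ ^ k) g * g⁻¹ ∈ S := by
      intro k
      induction k with
      | zero => intro g; simp
      | succ k ih =>
        intro g
        rw [pow_succ', MulAut.mul_apply, show δ ((δ ^ k) g) * g⁻¹ =
          (δ ((δ ^ k) g) * ((δ ^ k) g)⁻¹) * ((δ ^ k) g * g⁻¹) by group]
        exact mul_mem (hSg _) (ih g)
    refine ⟨(⟨y, hy⟩ : Q0) * (δ ^ k) (⟨y, hy⟩ : Q0)⁻¹, ?_, ?_⟩
    · have h1 := hSn.conj_mem _ (hk k (⟨y, hy⟩ : Q0)⁻¹) ⟨y, hy⟩
      rw [inv_inv, show (⟨y, hy⟩ : Q0) * ((δ ^ k) (⟨y, hy⟩ : Q0)⁻¹ * ⟨y, hy⟩) * (⟨y, hy⟩ : Q0)⁻¹ =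
        ⟨y, hy⟩ * (δ ^ k) (⟨y, hy⟩ : Q0)⁻¹ by group] at h1
      exact h1
    · rw [Subgroup.subtype_apply, Subgroup.coe_mul, hδpow, commutatorElement_def]
      simp [mul_assoc]
  have hQne : Q0 ≠ ⊥ := fun h => hne0 (by rw [h, Subgroup.commutator_bot_left])
  by_cases habel : ∀ a b : Q0, a * b = b * a
  · exfalso
    refine hQne ((Subgroup.eq_bot_iff_forall _).2 fun g hg => ?_)
    refine congrArg Subtype.val (htriv ⟨g, hg⟩ ?_)
    refine triv_of_simple ρ0 ⊤ (hKF ⊤) (fun U hU hs k _ w hw => ?_) _ (Subgroup.mem_top _)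
    obtain ⟨t, ht0, hti⟩ := exists_twist ρ0 hr δ hδ1 (ρ x) hxint hxr hsum U hU hs
    haveI := hs.1
    have hker : (subRep ρ0 U hU).ker = ⊤ := by
      refine hgen _ inferInstance fun g => ?_
      obtain ⟨c, hc⟩ := schur hs (subRep ρ0 U hU g) fun v => by
        rw [← map_mul, ← map_mul, habel g v]
      have h1 : subRep ρ0 U hU (δ g) = subRep ρ0 U hU g := by
        have hinj := intertwiner_injective hs t ht0 (fun g => subRep ρ0 U hU (δ g)) fun g w => by
          rw [← Module.End.mul_apply, hti, Module.End.mul_apply]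
        refine LinearMap.ext fun w => ?_
        obtain ⟨v, rfl⟩ := (LinearMap.injective_iff_surjective.1 hinj) w
        rw [← Module.End.mul_apply, ← hti, Module.End.mul_apply, hc, LinearMap.smul_apply,
          LinearMap.smul_apply, Module.End.one_apply, Module.End.one_apply, map_smul]
      rw [MonoidHom.mem_ker, map_mul, h1, ← map_mul, mul_inv_cancel, map_one]
    have h2 : k ∈ (subRep ρ0 U hU).ker := hker ▸ Subgroup.mem_top k
    have h3 := congrArg Subtype.val (LinearMap.congr_fun (MonoidHom.mem_ker.1 h2) ⟨w, hw⟩)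
    simpa [subRep_apply] using h3
  have hnab : ¬ IsMulCommutative Q := fun h => habel fun a b => Subtype.ext (by
    exact congrArg (fun u : Q => (u : G)) (h.is_comm.comm (⟨a, hQ0Q a.2⟩ : Q) ⟨b, hQ0Q b.2⟩))
  obtain hel | hsp := hshape
  · exact absurd (fun a b => hel.1.is_comm.comm a b) habel
  obtain ⟨-, hfr, hco⟩ := hsp
  have hcc : commutator Q0 ≤ Subgroup.center Q0 := hco.le
  have hinvU : ∀ S : Subgroup Q0, (∀ g ∈ S, δ g ∈ S) →
      Subgroup.zpowers x ≤ Subgroup.normalizer (S.map Q0.subtype : Set G) := by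
    intro S hS
    refine (Subgroup.zpowers_le).2 (Subgroup.mem_normalizer_fintype ?_)
    rintro _ ⟨z, hz, rfl⟩
    exact ⟨δ z, hS z hz, hδ z⟩
  have hirr' : ∀ S : Subgroup Q0, Subgroup.center Q0 ≤ S → (∀ g ∈ S, δ g ∈ S) →
      S = Subgroup.center Q0 ∨ S = ⊤ := by
    intro S hZS hS
    rcases hirr (S.map Q0.subtype) (Subgroup.map_mono (hfr.le.trans hZS))
      (Subgroup.map_subtype_le _) (hinvU S hS) with h | h
    · exact Or.inl ((Subgroup.map_injective Q0.subtype_injective h).trans hfr)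
    · refine Or.inr (Subgroup.map_injective Q0.subtype_injective ?_)
      rw [h, ← MonoidHom.range_eq_map, Subgroup.range_subtype]
  have hZne : Subgroup.center Q0 ≠ ⊤ := fun h => habel fun a b =>
    Subgroup.mem_center_iff.1 (h ▸ Subgroup.mem_top b : b ∈ Subgroup.center Q0) a
  have hφZ : ∀ z ∈ Subgroup.center Q0, δ z = z := by
    intro z hz
    have hlt : (Subgroup.center Q0).map Q0.subtype < Q0 := by
      refine lt_of_le_of_ne (Subgroup.map_subtype_le _) fun h => hZne ?_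
      apply Subgroup.map_injective Q0.subtype_injective
      rw [h, ← MonoidHom.range_eq_map, Subgroup.range_subtype]
    have hcz : ⁅(Subgroup.center Q0).map Q0.subtype, Subgroup.zpowers x⁆ = ⊥ := by
      by_contra h
      refine hlt.not_ge (hmin ⟨hinvU _ fun g hg => ?_, h⟩ hlt.le)
      rw [← Subgroup.characteristic_iff_map_eq.1
        (inferInstance : (Subgroup.center Q0).Characteristic) δ]
      exact ⟨g, hg, rfl⟩
    have hzm : (z : G) ∈ (Subgroup.center Q0).map Q0.subtype := ⟨z, hz, rfl⟩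
    have h1 := Subgroup.commutator_mem_commutator hzm (Subgroup.mem_zpowers x)
    rw [hcz, Subgroup.mem_bot, commutatorElement_eq_one_iff_mul_comm] at h1
    refine Subtype.ext ?_
    rw [hδ, ← h1, mul_inv_cancel_right]
  have hfree : ∀ g, g⁻¹ * δ g ∈ Subgroup.center Q0 → g ∈ Subgroup.center Q0 := by
    obtain ⟨S, hS⟩ : ∃ S : Subgroup Q0, ∀ g, g ∈ S ↔ g⁻¹ * δ g ∈ Subgroup.center Q0 :=
      ⟨MonoidHom.eqLocus (QuotientGroup.mk' (Subgroup.center Q0))
        ((QuotientGroup.mk' (Subgroup.center Q0)).comp δ.toMonoidHom), fun g => QuotientGroup.eq⟩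
    have hZS : Subgroup.center Q0 ≤ S := fun z hz => by
      rw [hS, hφZ z hz, inv_mul_cancel]; exact one_mem _
    have hSδ : ∀ g ∈ S, δ g ∈ S := by
      intro g hg
      rw [hS] at hg ⊢
      rw [← map_inv, ← map_mul, hφZ _ hg]; exact hg
    rcases hirr' S hZS hSδ with h | h
    · intro g hg
      rw [← h, hS]; exact hg
    · exfalso
      refine hZne (hgen _ inferInstance fun g => ?_)
      have h1 : g⁻¹ * δ g ∈ Subgroup.center Q0 := (hS g).1 (h ▸ Subgroup.mem_top g)
      rw [show δ g * g⁻¹ = g * (g⁻¹ * δ g) * g⁻¹ by group, Subgroup.mem_center_iff.1 h1 g,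
        mul_inv_cancel_right]
      exact h1
  -- a simple constituent on which the centre acts non-trivially
  obtain ⟨U, hU, hs, z₀, hz₀, hz₀U⟩ : ∃ (U : Submodule F V) (hU : ∀ g, ∀ w ∈ U, ρ0 g w ∈ U),
      IsSimpleRep (subRep ρ0 U hU) ∧
        ∃ z ∈ Subgroup.center Q0, subRep ρ0 U hU z ≠ 1 := by
    by_contra hcon
    push Not at hcon
    refine habel fun a b => ?_
    have h1 := triv_of_simple ρ0 (Subgroup.center Q0) (hKF _) (fun U hU hs k hk w hw => ?_) ⁅a, b⁆
      (hcc (Subgroup.commutator_mem_commutator (Subgroup.mem_top a) (Subgroup.mem_top b)))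
    · exact commutatorElement_eq_one_iff_mul_comm.1 (htriv _ h1)
    have h2 := congrArg Subtype.val (LinearMap.congr_fun (hcon U hU hs k hk) ⟨w, hw⟩)
    simpa [subRep_apply] using h2
  haveI := hs.1
  have hcm : ∀ u v : Q0, ⁅u, v⁆ ∈ Subgroup.center Q0 := fun u v =>
    hcc (Subgroup.commutator_mem_commutator (Subgroup.mem_top u) (Subgroup.mem_top v))
  have hnd : ∀ g, (∀ k, subRep ρ0 U hU ⁅g, k⁆ = 1) → g ∈ Subgroup.center Q0 := by
    let R : Subgroup Q0 :=
      { carrier := {g | ∀ k, subRep ρ0 U hU ⁅g, k⁆ = 1}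
        mul_mem' := fun {a b} ha hb k => by
          rw [Solv.commutatorElement_mul_left_of_central (hcm b k), map_mul, ha k, hb k, mul_one]
        one_mem' := fun k => by rw [commutatorElement_one_left, map_one]
        inv_mem' := fun {a} ha k => by
          have h1 : ⁅a⁻¹, k⁆ * ⁅a, k⁆ = 1 := by
            rw [← Solv.commutatorElement_mul_left_of_central (hcm a k), inv_mul_cancel,
              commutatorElement_one_left]
          rw [eq_inv_of_mul_eq_one_left h1]
          have h2 := map_mul (subRep ρ0 U hU) ⁅a, k⁆⁻¹ ⁅a, k⁆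
          rw [inv_mul_cancel, map_one, ha k, mul_one] at h2
          exact h2.symm }
    obtain ⟨t, ht0, hti⟩ := exists_twist ρ0 hr δ hδ1 (ρ x) hxint hxr hsum U hU hs
    have hinj := intertwiner_injective hs t ht0 (fun g => subRep ρ0 U hU (δ g)) fun g w => by
      rw [← Module.End.mul_apply, hti, Module.End.mul_apply]
    have hRδ : ∀ g ∈ R, δ g ∈ R := by
      intro g hg k
      obtain ⟨k', rfl⟩ := δ.surjective k
      rw [← map_commutatorElement δ]
      refine LinearMap.ext fun w => ?_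
      obtain ⟨v, rfl⟩ := (LinearMap.injective_iff_surjective.1 hinj) w
      rw [← Module.End.mul_apply, ← hti, Module.End.mul_apply, show subRep ρ0 U hU ⁅g, k'⁆ = 1 from
        hg k']
      rfl
    have hZR : Subgroup.center Q0 ≤ R := fun z hz k => by
      rw [commutatorElement_eq_one_iff_mul_comm.2 (Subgroup.mem_center_iff.1 hz k).symm, map_one]
    rcases hirr' R hZR hRδ with h | h
    · exact fun g hg => h ▸ (show g ∈ R from hg)
    · exfalso
      refine hz₀U ?_
      have hle : commutator Q0 ≤ (subRep ρ0 U hU).ker := by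
        refine Subgroup.commutator_le.2 fun a _ b _ => ?_
        exact (show a ∈ R from h ▸ Subgroup.mem_top a) b
      exact hle (hco.ge hz₀)
  obtain ⟨h2, n, hn, -⟩ := heisenberg_fpf hr hQ0 hqF hrF ρ0 δ hδ1 (ρ x) hxint hxr hsum U hU hs
    (Subgroup.center Q0) le_rfl hcc hnd hZne hφZ hfree
  exact ⟨h2, ⟨n, hn⟩, hnab⟩

end Cfsg.Agent.Solv.CRep
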