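import Cfsg.Agent.Lib.Solv.SZ
import Cfsg.Prelude.Def_Local

/-! Hall `p'`-subgroups of `p`-solvable groups. -/

set_option autoImplicit false
set_option linter.style.haveILetI false

open scoped Pointwise

namespace Cfsg.Agent.Solv

universe u
variable {G : Type u} [Group G]

theorem relIndex_map_dvd {Q : Type*} [Group Q] (f : G →* Q) {A B : Subgroup G} :
    (A.map f).relIndex (B.map f) ∣ A.relIndex B := by
  have h : (A.subgroupOf B).map (f.subgroupMap B) ≤ (A.map f).subgroupOf (B.map f) := by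
    rintro _ ⟨a, ha, rfl⟩
    exact ⟨a, ha, rfl⟩
  exact (Subgroup.index_dvd_of_le h).trans (Subgroup.index_map_dvd _ (f.subgroupMap_surjective B))

theorem isPSolvable_map {Q : Type*} [Group Q] [Finite G] {p : ℕ} (hp : p.Prime)
    (h : Cfsg.IsPSolvable p G) (f : G →* Q) (hf : Function.Surjective f) : Cfsg.IsPSolvable p Q := by
  obtain ⟨n, H, h0, hl, hm, hn, hstep⟩ := h
  refine ⟨n, fun i => (H i).map f, by simp [h0], by show (H (Fin.last n)).map f = ⊤; rw [hl]; exact Subgroup.map_top_of_surjective f hf,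
    fun i j hij => Subgroup.map_mono (hm hij), fun i => (hn i).map f hf, fun i => ?_⟩
  rcases hstep i with ⟨m, hm'⟩ | hco
  · obtain ⟨k, -, hk⟩ := (Nat.dvd_prime_pow hp).1 (hm' ▸ relIndex_map_dvd f)
    exact Or.inl ⟨k, hk⟩
  · exact Or.inr (hco.coprime_dvd_left (relIndex_map_dvd f))

/-- A nontrivial `p`-solvable group has a nontrivial normal `p`- or `p'`-subgroup. -/
theorem exists_normal_pgroup_or_coprime [Finite G] [Nontrivial G] {p : ℕ}
    (h : Cfsg.IsPSolvable p G) : ∃ N : Subgroup G, N.Normal ∧ N ≠ ⊥ ∧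
      (IsPGroup p N ∨ (Nat.card N).Coprime p) := by
  obtain ⟨n, H, h0, hl, hm, hn, hstep⟩ := h
  by_contra hno
  push Not at hno
  have key : ∀ i : ℕ, ∀ hi : i < n + 1, H ⟨i, hi⟩ = ⊥ := by
    intro i
    induction i with
    | zero => intro hi; exact h0
    | succ i ih =>
      intro hi
      have hprev : H (Fin.castSucc ⟨i, by omega⟩) = ⊥ := ih (by omega)
      by_contra hne
      obtain ⟨h1, h2⟩ := hno _ (hn ⟨i + 1, hi⟩) hne
      rcases hstep ⟨i, by omega⟩ with ⟨m, hm'⟩ | hco
      · rw [hprev, Subgroup.relIndex_bot_left] at hm'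
        exact h1 (IsPGroup.of_card (n := m) hm')
      · rw [hprev, Subgroup.relIndex_bot_left] at hco
        exact h2 hco
  exact top_ne_bot (hl.symm.trans (key n (by omega)))

/-- Existence and covering property of the Hall `p'`-subgroups of a `p`-solvable group. -/
theorem psolv_hall_aux : ∀ (k : ℕ) {G : Type u} [Group G] [Finite G], Nat.card G = k →
    ∀ {p : ℕ}, p.Prime → Cfsg.IsPSolvable p G →
    (∃ H : Subgroup G, (Nat.card H).Coprime p ∧ ∃ n : ℕ, H.index = p ^ n) ∧
      ∀ U H : Subgroup G, (Nat.card U).Coprime p → (Nat.card H).Coprime p →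
        (∃ n : ℕ, H.index = p ^ n) → ∃ g : G, MulAut.conj g • U ≤ H := by
  intro k
  induction k using Nat.strong_induction_on with
  | _ k ih =>
  intro G _ _ hk p hp hG
  haveI := Fact.mk hp
  rcases subsingleton_or_nontrivial G with hs | hnt
  · refine ⟨⟨⊥, by simp, 0, ?_⟩, fun U H _ _ _ => ⟨1, ?_⟩⟩
    · rw [pow_zero, Subgroup.index_eq_one]; exact Subsingleton.elim _ _
    · exact le_of_eq (Subsingleton.elim _ _)
  obtain ⟨N, hN, hNb, hNc⟩ := exists_normal_pgroup_or_coprime hG
  haveI := hN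
  set f := QuotientGroup.mk' N with hf
  have hsurj : Function.Surjective f := QuotientGroup.mk'_surjective N
  obtain ⟨⟨Hb, hHb, n, hn⟩, hcont⟩ := ih _ (hk ▸ card_quotient_lt N hNb) (G := G ⧸ N) rfl hp
    (isPSolvable_map hp hG f hsurj)
  set L := Hb.comap f with hL
  have hLi : L.index = p ^ n := by rw [hL, Subgroup.index_comap_of_surjective _ hsurj, hn]
  have hLc : Nat.card L = Nat.card Hb * Nat.card N := card_comap_mk' N Hb
  have hNL : N ≤ L := fun x hx => by
    show f x ∈ Hb
    rw [hf, QuotientGroup.mk'_apply, (QuotientGroup.eq_one_iff x).2 hx]; exact one_mem _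
  rcases hNc with hNp | hNco
  · obtain ⟨a, ha⟩ := IsPGroup.iff_card.1 hNp
    have hidxN : (N.subgroupOf L).index = Nat.card Hb := by
      have h2 := (N.subgroupOf L).card_mul_index
      rw [card_subgroupOf hNL, hLc] at h2
      exact Nat.eq_of_mul_eq_mul_left Nat.card_pos (by rw [h2, mul_comm])
    obtain ⟨X₀, hX₀⟩ := Subgroup.exists_right_complement'_of_coprime (N := N.subgroupOf L)
      (by rw [card_subgroupOf hNL, hidxN, ha]; exact hHb.symm.pow_left a)
    set X := X₀.map L.subtype with hX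
    have hXc : Nat.card X = Nat.card Hb := by
      rw [hX, card_map_subtype, ← hidxN, hX₀.symm.index_eq_card]
    refine ⟨⟨X, hXc ▸ hHb, n + a, ?_⟩, fun U H hU hH hHi => ?_⟩
    · have h3 := X.card_mul_index
      rw [← L.card_mul_index, hLc, hLi, hXc, ha, mul_assoc] at h3
      rw [Nat.eq_of_mul_eq_mul_left Nat.card_pos h3, ← pow_add, add_comm]
    · obtain ⟨b, hb⟩ := hHi
      have hHn : ∃ m, (H.map f).index = p ^ m := by
        obtain ⟨m, -, hm⟩ := (Nat.dvd_prime_pow hp).1 (hb ▸ H.index_map_dvd hsurj)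
        exact ⟨m, hm⟩
      obtain ⟨g, hg⟩ := hcont (U.map f) (H.map f)
        (hU.coprime_dvd_left (U.card_map_dvd f)) (hH.coprime_dvd_left (H.card_map_dvd f)) hHn
      obtain ⟨g, rfl⟩ := hsurj g
      rw [← map_conj_smul] at hg
      have hle : MulAut.conj g • U ≤ N ⊔ H := by
        intro u hu
        obtain ⟨h, hh, he⟩ := hg ⟨u, hu, rfl⟩
        rw [show u = (u * h⁻¹) * h by group]
        refine Subgroup.mul_mem_sup ((QuotientGroup.eq_one_iff _).1 ?_) hh
        rw [QuotientGroup.mk_mul, QuotientGroup.mk_inv]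
        show f u * (f h)⁻¹ = 1
        rw [he, mul_inv_cancel]
      have hUc : (Nat.card N).Coprime (Nat.card (MulAut.conj g • U : Subgroup G)) := by
        rw [card_conj_smul, ha]; exact hU.symm.pow_left a
      obtain ⟨m, -, hm⟩ := sz_contain N H (MulAut.conj g • U)
        (le_top.trans (Subgroup.normalizer_eq_top_iff.2 hN).ge) hle hUc (ha ▸ hH.symm.pow_left a)
        (Or.inl (by haveI := hNp.isNilpotent; exact IsNilpotent.to_isSolvable))
      refine ⟨m⁻¹ * g, ?_⟩
      rw [← conj_smul_conj, ← Subgroup.pointwise_smul_le_pointwise_smul_iff (a := MulAut.conj m),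
        conj_smul_conj, mul_inv_cancel, conj_one_smul]
      exact hm
  · refine ⟨⟨L, ?_, n, hLi⟩, fun U H hU hH hHi => ?_⟩
    · rw [hLc]; exact Nat.Coprime.mul_left hHb hNco
    · obtain ⟨b, hb⟩ := hHi
      have hNH : N ≤ H := normal_le_of_coprime_index N H (by
        rw [hb]; exact hNco.pow_right b)
      have hHf : (H.map f).index = p ^ b := by
        rw [Subgroup.index_map_eq H hsurj (by rw [hf, QuotientGroup.ker_mk']; exact hNH), hb]
      obtain ⟨g, hg⟩ := hcont (U.map f) (H.map f)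
        (hU.coprime_dvd_left (U.card_map_dvd f)) (hH.coprime_dvd_left (H.card_map_dvd f)) ⟨b, hHf⟩
      obtain ⟨g, rfl⟩ := hsurj g
      rw [← map_conj_smul, Subgroup.map_le_iff_le_comap,
        Subgroup.comap_map_eq_self (by rw [hf, QuotientGroup.ker_mk']; exact hNH)] at hg
      exact ⟨g, hg⟩

theorem psolv_hall [Finite G] {p : ℕ} (hp : p.Prime) (hG : Cfsg.IsPSolvable p G) :
    (∃ H : Subgroup G, (Nat.card H).Coprime p ∧ ∃ n : ℕ, H.index = p ^ n) ∧
      ∀ U H : Subgroup G, (Nat.card U).Coprime p → (Nat.card H).Coprime p →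
        (∃ n : ℕ, H.index = p ^ n) → ∃ g : G, MulAut.conj g • U ≤ H :=
  psolv_hall_aux _ rfl hp hG

end Cfsg.Agent.Solv
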