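import Cfsg.Agent.Lib.Solv.Coprime
import Cfsg.Agent.Lib.Solv.Cores
import Cfsg.Agent.Lib.Solv.PSolvHall
import Cfsg.Agent.Lib.Solv.PGroupPhi
import Cfsg.Agent.Lib.Fusion.Cores

/-!
Hall–Higman's Lemma 1.2.3 and coprime action on the Frattini quotient.
-/

set_option autoImplicit false
set_option linter.style.haveILetI false

namespace Cfsg.Agent.Solv

open scoped commutatorElement

variable {G : Type*} [Group G] [Finite G] {p : ℕ} [Fact p.Prime]

/-- An element of order prime to `p` which acts trivially on `P / Φ(P)` centralizes `P`. -/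
theorem centralizes_of_frattini (P : Subgroup G) (hP : IsPGroup p P) (g : G)
    (hg : g ∈ Subgroup.normalizer (P : Set G)) (hco : (orderOf g).Coprime p)
    (htriv : ∀ x ∈ P, ⁅x, g⁆ ∈ (frattini ↥P).map P.subtype) :
    g ∈ Subgroup.centralizer (P : Set G) := by
  obtain ⟨n, hn⟩ := hP.exists_card_eq
  have hA : Subgroup.zpowers g ≤ Subgroup.normalizer (P : Set G) := (Subgroup.zpowers_le).2 hg
  have hco' : (Nat.card (Subgroup.zpowers g)).Coprime (Nat.card P) := by
    rw [hn, Nat.card_zpowers]; exact hco.pow_right n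
  haveI : Group.IsNilpotent P := hP.isNilpotent
  have hsol : Group.IsSolvable (Subgroup.zpowers g) ∨ Group.IsSolvable P := Or.inr inferInstance
  obtain ⟨Φ, hΦ⟩ : ∃ Φ, Φ = (frattini ↥P).map P.subtype := ⟨_, rfl⟩
  rw [← hΦ] at htriv
  have hΦn : ∀ y ∈ Subgroup.normalizer (P : Set G), ∀ z ∈ Φ, y * z * y⁻¹ ∈ Φ := by
    intro y hy z hz
    rw [hΦ] at hz ⊢
    obtain ⟨u, hu, rfl⟩ := hz
    refine ⟨Subgroup.normalizerMonoidHom P ⟨y, hy⟩ u, ?_, rfl⟩
    rw [← Subgroup.characteristic_iff_map_eq.1 (inferInstance : (frattini ↥P).Characteristic)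
      (Subgroup.normalizerMonoidHom P ⟨y, hy⟩)]
    exact ⟨u, hu, rfl⟩
  have hcomm : ⁅P, Subgroup.zpowers g⁆ ≤ Φ := by
    refine Subgroup.commutator_le.2 fun x hx a ha => ?_
    obtain ⟨k, rfl⟩ := (IsOfFinOrder.mem_powers_iff_mem_zpowers (isOfFinOrder_of_finite g)).2 ha
    clear ha
    induction k generalizing x with
    | zero => simp
    | succ k ih =>
      have e : ⁅x, g ^ (k + 1)⁆ = ⁅x, g⁆ * (g * ⁅x, g ^ k⁆ * g⁻¹) := by
        simp only [commutatorElement_def, pow_succ']; group
      show ⁅x, g ^ (k + 1)⁆ ∈ Φ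
      rw [e]
      exact mul_mem (htriv x hx) (hΦn g hg _ (ih x hx))
  have hsup := commutator_sup_fixed hA hco' hsol
  have htop : (P ⊓ Subgroup.centralizer (Subgroup.zpowers g : Set G)).subgroupOf P = ⊤ := by
    refine frattini_nongenerating ?_
    apply Subgroup.map_injective P.subtype_injective
    rw [Subgroup.map_sup, Subgroup.subgroupOf_map_subtype, inf_eq_left.2 inf_le_left,
      ← MonoidHom.range_eq_map, Subgroup.range_subtype, ← hΦ]
    refine le_antisymm (sup_le inf_le_left (hΦ ▸ Subgroup.map_subtype_le _)) ?_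
    conv_lhs => rw [← hsup]
    exact sup_le (hcomm.trans le_sup_right) le_sup_left
  refine Subgroup.mem_centralizer_iff.2 fun x hx => ?_
  have h1 : (⟨x, hx⟩ : P) ∈ (P ⊓ Subgroup.centralizer (Subgroup.zpowers g : Set G)).subgroupOf P :=
    htop ▸ Subgroup.mem_top _
  exact (Subgroup.mem_centralizer_iff.1 (Subgroup.mem_inf.1 h1).2 g (Subgroup.mem_zpowers g)).symm

/-- Hall–Higman, the dual form: if `O_p(G) = 1` then `O_{p'}(G)` contains its centralizer. -/
theorem centralizer_pPrimeCore_le (hG : Cfsg.IsPSolvable p G) (h0 : Cfsg.pCore p G = ⊥) :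
    Subgroup.centralizer (Cfsg.pPrimeCore p G : Set G) ≤ Cfsg.pPrimeCore p G := by
  obtain ⟨n, H, hbot, hlast, hmono, hnorm, hstep⟩ := hG
  haveI : (Cfsg.pPrimeCore p G).Normal := pPrimeCore_normal p
  obtain ⟨C, hC⟩ : ∃ C, C = Subgroup.centralizer (Cfsg.pPrimeCore p G : Set G) := ⟨_, rfl⟩
  rw [← hC]
  haveI hCn : C.Normal := hC ▸ Subgroup.normal_centralizer
  suffices key : ∀ i : Fin (n + 1), H i ⊓ C ≤ Cfsg.pPrimeCore p G by
    simpa [hlast] using key (Fin.last n)
  intro i
  induction i using Fin.induction with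
  | zero => rw [hbot, bot_inf_eq]; exact bot_le
  | succ i ih =>
    haveI := hnorm i.succ
    haveI := hnorm i.castSucc
    obtain ⟨K, hK⟩ : ∃ K, K = H i.succ ⊓ C := ⟨_, rfl⟩
    obtain ⟨A, hA⟩ : ∃ A, A = H i.castSucc ⊓ C := ⟨_, rfl⟩
    rw [← hK]
    rw [← hA] at ih
    haveI : K.Normal := hK ▸ Subgroup.normal_inf_normal _ _
    haveI : A.Normal := hA ▸ Subgroup.normal_inf_normal _ _
    have hle : H i.castSucc ≤ H i.succ := hmono (Fin.castSucc_lt_succ (i := i)).le
    have hAK : A ≤ K := by rw [hA, hK]; exact inf_le_inf_right _ hle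
    have hdvd : A.relIndex K ∣ (H i.castSucc).relIndex (H i.succ) := by
      have hAeq : A = H i.castSucc ⊓ K := by rw [hA, hK, ← inf_assoc, inf_eq_left.mpr hle]
      rw [hAeq, Subgroup.inf_relIndex_right, ← Subgroup.relIndex_sup_right]
      exact ⟨_, (Subgroup.relIndex_mul_relIndex _ _ _ le_sup_right
        (sup_le (hK ▸ inf_le_left) hle)).symm⟩
    have hAco : (Nat.card A).Coprime p :=
      (pPrimeCore_coprime p).coprime_dvd_left (Subgroup.card_dvd_of_le ih)
    have hcard : Nat.card A * A.relIndex K = Nat.card K := by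
      rw [← Subgroup.relIndex_bot_left, Subgroup.relIndex_mul_relIndex _ _ _ bot_le hAK,
        Subgroup.relIndex_bot_left]
    refine normal_le_pPrimeCore ?_
    rcases hstep i with ⟨m, hm⟩ | hco
    · have hker : (QuotientGroup.mk' (A.subgroupOf K)).ker ≤ Subgroup.center K := by
        rw [QuotientGroup.ker_mk']
        intro a ha
        refine Subgroup.mem_center_iff.2 fun g => Subtype.ext ?_
        have hgC : (g : G) ∈ C := (hK.le g.2).2
        rw [hC] at hgC
        exact (Subgroup.mem_centralizer_iff.1 hgC (a : G) (ih ha)).symm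
      obtain ⟨k, -, hk⟩ := (Nat.dvd_prime_pow (Fact.out : p.Prime)).1 (hm ▸ hdvd)
      have hq : IsPGroup p (K ⧸ A.subgroupOf K) := IsPGroup.of_card (n := k) (by
        rw [← hk]; rfl)
      haveI : Group.IsNilpotent (K ⧸ A.subgroupOf K) := hq.isNilpotent
      haveI : Group.IsNilpotent K := Subgroup.isNilpotent_of_ker_le_center _ hker
      obtain ⟨P⟩ : Nonempty (Sylow p K) := inferInstance
      haveI : (P : Subgroup K).Normal :=
        Sylow.normal_of_normalizerCondition (Group.normalizerCondition_of_isNilpotent (G := K)) P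
      haveI : (P : Subgroup K).Characteristic := P.characteristic_of_normal inferInstance
      haveI : ((P : Subgroup K).map K.subtype).Normal := inferInstance
      have h1 : (P : Subgroup K).map K.subtype = ⊥ := by
        rw [← le_bot_iff, ← h0]
        exact normal_le_pCore (P.isPGroup'.map K.subtype)
      rw [Subgroup.map_eq_bot_iff_of_injective _ K.subtype_injective] at h1
      have h2 := P.not_dvd_index
      rw [h1, Subgroup.index_bot] at h2
      exact ((Nat.Prime.coprime_iff_not_dvd Fact.out).2 h2).symm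
    · rw [← hcard]
      exact hAco.mul_left (hco.coprime_dvd_left hdvd)

end Cfsg.Agent.Solv
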