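import Mathlib
import Cfsg.Agent.Lib.Solv.ConjRep
import Cfsg.Agent.Lib.Solv.CoprimeCore
import Cfsg.Agent.Lib.Solv.HallHigman
import Cfsg.Agent.Lib.Solv.PGroupPhi
import Cfsg.Agent.Lib.SSF.Cores
import Cfsg.Prelude.Def_OddOrderLocal

/-!
An element of prime order without fixed points on the Fitting subgroup of a group of odd order.
-/

set_option autoImplicit false
set_option linter.style.haveILetI false

namespace Cfsg.Agent.Solv.FPFFit

open Cfsg
open scoped commutatorElement

universe u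

variable {G : Type u} [Group G] [Finite G] {p : ℕ} [hp : Fact p.Prime]

theorem commutator_le_ker {q r : ℕ} [hq : Fact q.Prime] [hr : Fact r.Prime] (hq2 : q ≠ 2) (hqp : q ≠ p)
    (hqr : q ≠ r) (hrp : r ≠ p) (V Q : Subgroup G) [V.Normal] (hV : Cfsg.IsElementaryAbelian r V)
    (hQ : IsPGroup q Q) (x : G) (hxp : x ^ p = 1) (hxQ : x ∈ Subgroup.normalizer (Q : Set G))
    (hfix : V ⊓ Subgroup.centralizer {x} = ⊥) :
    ⁅Q, Subgroup.zpowers x⁆ ≤ Subgroup.centralizer (V : Set G) := by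
  classical
  have hcomm : ⁅Q, Subgroup.zpowers x⁆ ≤ Q := Subgroup.commutator_le.2 fun a ha b hb => by
    rw [commutatorElement_def]
    exact Solv.comm_mem_of_mem_normalizer ((Subgroup.zpowers_le.2 hxQ) hb) ha
  by_contra hne
  have hV1 : V ≠ ⊥ := fun h => hne fun a _ => Subgroup.mem_centralizer_iff.2 fun v hv => by
    rw [h, SetLike.mem_coe, Subgroup.mem_bot] at hv
    rw [hv, one_mul, mul_one]
  let F := AlgebraicClosure (ZMod r)
  haveI : CharP F r := charP_of_injective_algebraMap (algebraMap (ZMod r) F).injective r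
  obtain ⟨k, ρ, hker, hsum, -, -⟩ := CRep.exists_conjRep_norm (⊤ : Subgroup G) V hV
    (fun g _ => by rw [Subgroup.normalizer_eq_top]; exact Subgroup.mem_top g) F
  let ρ' : G →* Module.End F (Fin k → F) := ρ.comp Subgroup.topEquiv.symm.toMonoidHom
  have hker' : ∀ g : G, ρ' g = 1 ↔ g ∈ Subgroup.centralizer (V : Set G) := fun g =>
    hker (Subgroup.topEquiv.symm g)
  have hsum' : (∑ i ∈ Finset.range p, ρ' x ^ i : Module.End F (Fin k → F)) = 0 :=
    hsum (Subgroup.topEquiv.symm x) p (Subtype.ext hxp) hfix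
  have hcast : ∀ s : ℕ, s.Prime → s ≠ r → (s : F) ≠ 0 := fun s hs hsr h => by
    rw [CharP.cast_eq_zero_iff F r] at h
    exact hsr ((Nat.prime_dvd_prime_iff_eq hr.out hs).1 h).symm
  haveI : Nontrivial (Fin k → F) := by
    by_contra h
    rw [not_nontrivial_iff_subsingleton] at h
    obtain ⟨a, ha, haV⟩ := SetLike.not_le_iff_exists.1 hne
    exact haV ((hker' a).1 (Subsingleton.elim _ _))
  let π := QuotientGroup.mk' ρ'.ker
  let ρq : G ⧸ ρ'.ker →* Module.End F (Fin k → F) := QuotientGroup.lift ρ'.ker ρ' le_rfl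
  have hxo : orderOf (π x) = p := by
    refine orderOf_eq_prime (by rw [← map_pow, hxp, map_one]) fun h => ?_
    have h1 : ρ' x = 1 := (QuotientGroup.eq_one_iff x).1 h
    rw [h1] at hsum'
    simp only [one_pow, Finset.sum_const, Finset.card_range] at hsum'
    obtain ⟨v, hv⟩ := exists_ne (0 : Fin k → F)
    have h2 := LinearMap.congr_fun hsum' v
    rw [LinearMap.smul_apply, Module.End.one_apply, LinearMap.zero_apply, ← Nat.cast_smul_eq_nsmul F] at h2
    exact hv ((smul_eq_zero.1 h2).resolve_left (hcast p hp.out hrp.symm))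
  have hfaith : ∀ g : G ⧸ ρ'.ker, ρq g = 1 → g = 1 := fun g hg => by
    obtain ⟨a, rfl⟩ := QuotientGroup.mk_surjective g
    exact (QuotientGroup.eq_one_iff a).2 hg
  have hcore := CRep.core (q := q) hp.out hqp (hcast q hq.out hqr) (hcast p hp.out hrp.symm) ρq hfaith
    (Q.map π) (π x) (hQ.map π) hxo
    (Subgroup.le_normalizer_map π ⟨x, hxQ, rfl⟩) (by
      rw [← MonoidHom.map_zpowers, ← Subgroup.map_commutator]
      intro h
      refine hne fun a ha => (hker' a).1 ?_
      exact (QuotientGroup.eq_one_iff a).1 (Subgroup.mem_bot.1 (h ▸ ⟨a, ha, rfl⟩ : π a ∈ (⊥ : Subgroup _))))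
    hsum'
  exact hq2 hcore.1

theorem commutator_le_ker_pgroup {q r : ℕ} [hq : Fact q.Prime] [hr : Fact r.Prime] (hq2 : q ≠ 2) (hqp : q ≠ p)
    (hqr : q ≠ r) (hrp : r ≠ p) (V Q : Subgroup G) [V.Normal] (hV : IsPGroup r V)
    (hQ : IsPGroup q Q) (x : G) (hxp : x ^ p = 1) (hxQ : x ∈ Subgroup.normalizer (Q : Set G))
    (hfix : V ⊓ Subgroup.centralizer {x} = ⊥) :
    ⁅Q, Subgroup.zpowers x⁆ ≤ Subgroup.centralizer (V : Set G) := by
  classical
  obtain ⟨Φ, hΦ⟩ : ∃ Φ, Φ = (frattini ↥V).map V.subtype := ⟨_, rfl⟩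
  haveI : Φ.Normal := hΦ ▸ ConjAct.normal_of_characteristic_of_normal
  have hΦV : Φ ≤ V := hΦ ▸ Subgroup.map_subtype_le _
  let π := QuotientGroup.mk' Φ
  haveI : (V.map π).Normal := Subgroup.Normal.map inferInstance π (QuotientGroup.mk'_surjective Φ)
  have hel : Cfsg.IsElementaryAbelian r (V.map π) := by
    refine ⟨⟨⟨fun a b => Subtype.ext ?_⟩⟩, ?_⟩
    · obtain ⟨s, hs, ha⟩ := a.2
      obtain ⟨t, ht, hb⟩ := b.2
      rw [Subgroup.coe_mul, Subgroup.coe_mul, ← ha, ← hb, ← commutatorElement_eq_one_iff_mul_comm,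
        ← map_commutatorElement, QuotientGroup.mk'_apply, QuotientGroup.eq_one_iff, hΦ]
      exact ⟨_, commutatorElement_mem_frattini hV ⟨s, hs⟩ ⟨t, ht⟩, by simp [commutatorElement_def]⟩
    · rintro _ ⟨v, hv, rfl⟩
      rw [← map_pow, QuotientGroup.mk'_apply, QuotientGroup.eq_one_iff, hΦ]
      exact ⟨_, pow_mem_frattini hV ⟨v, hv⟩, rfl⟩
  have hcoA : (Nat.card (Subgroup.zpowers x)).Coprime (Nat.card V) := by
    obtain ⟨i, hi⟩ := hV.exists_card_eq
    rw [hi, Nat.card_zpowers]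
    exact ((Nat.coprime_primes hp.out hr.out).2 hrp.symm).coprime_dvd_left (orderOf_dvd_of_pow_eq_one hxp) |>.pow_right i
  have hnorm : ∀ M : Subgroup G, M.Normal → Subgroup.zpowers x ≤ Subgroup.normalizer (M : Set G) := fun M hM y _ => by
    haveI := hM
    rw [Subgroup.normalizer_eq_top]; exact Subgroup.mem_top y
  have hfix' : V.map π ⊓ Subgroup.centralizer {π x} = ⊥ := by
    rw [eq_bot_iff]
    rintro _ ⟨⟨v, hv, rfl⟩, hvc⟩
    have hmove : ∀ a ∈ Subgroup.zpowers x, v⁻¹ * (a * v * a⁻¹) ∈ Φ := by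
      rintro _ ⟨i, rfl⟩
      have hc : Commute (π x ^ i) (π v) :=
        (show Commute (π x) (π v) from (Subgroup.mem_centralizer_singleton_iff.1 hvc).symm).zpow_left i
      rw [← QuotientGroup.eq_one_iff, ← QuotientGroup.mk'_apply, map_mul, map_mul, map_mul, map_inv, map_inv]
      show (π v)⁻¹ * (π (x ^ i) * π v * (π (x ^ i))⁻¹) = 1
      rw [map_zpow, hc.eq]
      group
    obtain ⟨d, hd, hdn⟩ := exists_fixed_in_coset (Subgroup.zpowers x) Φ (hnorm Φ inferInstance)
      (hcoA.coprime_dvd_right (Subgroup.card_dvd_of_le hΦV))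
      (Or.inl (Group.isSolvable_of_comm fun a b => (IsCyclic.isMulCommutative (α := Subgroup.zpowers x)).is_comm.comm a b)) hmove
    have h1 := centralizer_of_normalizes (hnorm V inferInstance) (coprime_inf hcoA.symm) (mul_mem hv (hΦV hd)) hdn
    have h2 : v * d = 1 := Subgroup.mem_bot.1 (hfix ▸ Subgroup.mem_inf.2 ⟨mul_mem hv (hΦV hd),
      Subgroup.mem_centralizer_singleton_iff.2 (Subgroup.mem_centralizer_iff.1 h1 x (Subgroup.mem_zpowers x)).symm⟩)
    rw [Subgroup.mem_bot, QuotientGroup.mk'_apply, QuotientGroup.eq_one_iff, eq_inv_of_mul_eq_one_left h2]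
    exact inv_mem hd
  have key := commutator_le_ker (p := p) hq2 hqp hqr hrp (V.map π) (Q.map π) hel (hQ.map π) (π x)
    (by rw [← map_pow, hxp, map_one]) (Subgroup.le_normalizer_map π ⟨x, hxQ, rfl⟩) hfix'
  rw [← MonoidHom.map_zpowers, ← Subgroup.map_commutator] at key
  intro d hd
  have hcomm : ⁅Q, Subgroup.zpowers x⁆ ≤ Q := Subgroup.commutator_le.2 fun a ha b hb => by
    rw [commutatorElement_def]
    exact Solv.comm_mem_of_mem_normalizer ((Subgroup.zpowers_le.2 hxQ) hb) ha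
  have hdco : (orderOf d).Coprime r := by
    obtain ⟨i, hi⟩ := hQ.exists_card_eq
    exact (((Nat.coprime_primes hq.out hr.out).2 hqr).pow_left i).coprime_dvd_left
      (hi ▸ Subgroup.orderOf_dvd_natCard Q (hcomm hd))
  refine centralizes_of_frattini V hV d (by rw [Subgroup.normalizer_eq_top]; exact Subgroup.mem_top d) hdco
    fun y hy => ?_
  rw [← hΦ, ← QuotientGroup.eq_one_iff, ← QuotientGroup.mk'_apply, map_commutatorElement,
    commutatorElement_eq_one_iff_mul_comm]
  exact Subgroup.mem_centralizer_iff.1 (key ⟨d, hd, rfl⟩) _ ⟨y, hy, rfl⟩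

/-- An element of prime order without fixed points on the Fitting subgroup centralizes the quotient by it. -/
theorem commutator_le_fitting (K : Subgroup G) [K.Normal] (hK : Group.IsSolvable K) (hodd : Odd (Nat.card K))
    (x : G) (hxp : orderOf x = p) (hco : (Nat.card K).Coprime p)
    (hfix : Cfsg.fittingOf K ⊓ Subgroup.centralizer {x} = ⊥) :
    ⁅K, Subgroup.zpowers x⁆ ≤ Cfsg.fittingOf K := by
  classical
  obtain ⟨F, hF⟩ : ∃ F, F = Cfsg.fittingOf K := ⟨_, rfl⟩
  have hFeq : F = ⨆ q : Nat.Primes, SSF.Ox (q : ℕ) K := by rw [hF, Cfsg.fittingOf, SSF.map_fitting_eq]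
  have hOn : ∀ q : ℕ, (SSF.Ox q K).Normal := fun q => by
    rw [← Subgroup.normalizer_eq_top_iff, eq_top_iff, ← Subgroup.normalizer_eq_top (H := K)]
    exact SSF.normalizer_le_normalizer_Ox q K
  haveI hFn : F.Normal := by
    rw [hFeq]
    haveI : ∀ q : Nat.Primes, (SSF.Ox (q : ℕ) K).Normal := fun q => hOn q
    exact Subgroup.iSup_normal fun q : Nat.Primes => SSF.Ox (q : ℕ) K
  have hFK : F ≤ K := by rw [hF]; exact Subgroup.map_subtype_le _
  have hOF : ∀ q : ℕ, q.Prime → SSF.Ox q K ≤ F := fun q hq => by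
    rw [hFeq]; exact le_iSup (fun q : Nat.Primes => SSF.Ox (q : ℕ) K) ⟨q, hq⟩
  rw [← hF] at hfix ⊢
  let π := QuotientGroup.mk' F
  have hxp1 : x ^ p = 1 := hxp ▸ pow_orderOf_eq_one x
  obtain ⟨Kb, hKb⟩ : ∃ Kb, Kb = K.map π := ⟨_, rfl⟩
  haveI : Kb.Normal := hKb ▸ Subgroup.Normal.map inferInstance π (QuotientGroup.mk'_surjective F)
  have hxK : Subgroup.zpowers x ≤ Subgroup.normalizer (K : Set G) := fun y _ => by
    rw [Subgroup.normalizer_eq_top]; exact Subgroup.mem_top y
  have hcoK : (Nat.card (Subgroup.zpowers x)).Coprime (Nat.card K) := by rw [Nat.card_zpowers, hxp]; exact hco.symm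
  have hKsol : Group.IsSolvable Kb := hKb ▸ Solv.isSolvable_map π hK
  -- the images centralize each core of the quotient
  have hO : ∀ q : ℕ, q.Prime → ∀ z ∈ SSF.Ox q Kb, Commute (π x) z := by
    intro q hq
    haveI := Fact.mk hq
    haveI : (SSF.Ox q Kb).Normal := by
      rw [← Subgroup.normalizer_eq_top_iff, eq_top_iff, ← Subgroup.normalizer_eq_top (H := Kb)]
      exact SSF.normalizer_le_normalizer_Ox q Kb
    by_cases hqK : q ∣ Nat.card K
    swap
    · intro z hz
      have hz1 : z = 1 := by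
        obtain ⟨i, hi⟩ := SSF.isPGroup_Ox q Kb ⟨z, hz⟩
        have h1 : orderOf z ∣ q ^ i := orderOf_dvd_of_pow_eq_one (congrArg Subtype.val hi)
        have h2 : orderOf z ∣ Nat.card K := (Subgroup.orderOf_dvd_natCard Kb (SSF.Ox_le q Kb hz)).trans
          (hKb ▸ Subgroup.card_map_dvd _ _)
        exact orderOf_eq_one_iff.1 (Nat.eq_one_of_dvd_coprimes ((hq.coprime_iff_not_dvd.2 hqK).pow_left i) h1 h2)
      rw [hz1]; exact Commute.one_right _
    have hqp : q ≠ p := fun h => hp.out.ne_one (Nat.eq_one_of_dvd_coprimes hco (h ▸ hqK) dvd_rfl)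
    have hq2 : q ≠ 2 := fun h => (Nat.not_even_iff_odd.2 hodd) (even_iff_two_dvd.2 (h ▸ hqK))
    obtain ⟨H, hH⟩ : ∃ H, H = (SSF.Ox q Kb).comap π := ⟨_, rfl⟩
    haveI : H.Normal := hH ▸ Subgroup.Normal.comap inferInstance π
    have hFH : F ≤ H := fun f hf => by
      rw [hH, Subgroup.mem_comap, show π f = 1 from (QuotientGroup.eq_one_iff f).2 hf]
      exact one_mem _
    have hHK : H ≤ K := fun h hh => by
      rw [hH, Subgroup.mem_comap] at hh
      obtain ⟨k, hk, e⟩ := hKb.le (SSF.Ox_le q Kb hh)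
      have h1 : k⁻¹ * h ∈ F := QuotientGroup.eq.1 e
      have := mul_mem hk (hFK h1)
      rwa [mul_inv_cancel_left] at this
    have hxH : Subgroup.zpowers x ≤ Subgroup.normalizer (H : Set G) := fun y _ => by
      rw [Subgroup.normalizer_eq_top]; exact Subgroup.mem_top y
    obtain ⟨Q, hQ, hQx⟩ := Solv.exists_invariant_sylow hxH (hcoK.coprime_dvd_right (Subgroup.card_dvd_of_le hHK))
      (Or.inr (Solv.isSolvable_of_le hHK hK)) q
    have hQp : IsPGroup q Q := hQ.isPGroup
    obtain ⟨N, hN⟩ : ∃ N : Subgroup G, N = H ⊓ ⨅ r : {r : Nat.Primes // (r : ℕ) ≠ q}, Subgroup.centralizer (SSF.Ox (r : Nat.Primes) K : Set G) :=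
      ⟨_, rfl⟩
    obtain ⟨S, hS⟩ : ∃ S, S = Q ⊓ N := ⟨_, rfl⟩
    have hfq : ∀ (r : {r : Nat.Primes // (r : ℕ) ≠ q}), ∀ f ∈ SSF.Ox ((r : Nat.Primes) : ℕ) K, ∀ s ∈ S, f * s = s * f := by
      intro r f hf s hs
      rw [hS, hN] at hs
      exact Subgroup.mem_centralizer_iff.1 ((Subgroup.mem_iInf.1 hs.2.2) r) f hf
    have hqQ : SSF.Ox q K ≤ Q := by
      have hp1 : IsPGroup q ↥(SSF.Ox q K ⊔ Q) := (SSF.isPGroup_Ox q K).to_sup_of_normal_left' hQp fun y _ => by
        haveI := hOn q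
        rw [Subgroup.normalizer_eq_top]; exact Subgroup.mem_top y
      rw [hQ.eq_of_le hp1 (sup_le ((hOF q hq).trans hFH) hQ.1) le_sup_right]
      exact le_sup_left
    have hgen : H ≤ Q ⊔ ⨆ r : {r : Nat.Primes // (r : ℕ) ≠ q}, SSF.Ox ((r : Nat.Primes) : ℕ) K := by
      have hFle : F ≤ Q ⊔ ⨆ r : {r : Nat.Primes // (r : ℕ) ≠ q}, SSF.Ox ((r : Nat.Primes) : ℕ) K := by
        rw [hFeq]
        refine iSup_le fun r => ?_
        by_cases hr : (r : ℕ) = q
        · rw [hr]; exact hqQ.trans le_sup_left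
        · exact le_sup_of_le_right (le_iSup_of_le ⟨r, hr⟩ le_rfl)
      intro h hh
      have hmap : Q.map π = SSF.Ox q Kb := by
        have hle : Q.map π ≤ SSF.Ox q Kb := fun y hy => by
          obtain ⟨a, ha, rfl⟩ := hy
          have := hQ.1 ha
          rwa [hH, Subgroup.mem_comap] at this
        refine Subgroup.eq_of_le_of_card_ge hle ?_
        obtain ⟨j, hj⟩ := (SSF.isPGroup_Ox q Kb).exists_card_eq
        have hHc : Nat.card H = q ^ j * Nat.card F := by
          have h2 := Subgroup.relIndex_mul_relIndex ⊥ F H bot_le hFH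
          rw [Subgroup.relIndex_bot_left, Subgroup.relIndex_bot_left] at h2
          have h3 : Nat.card (H.map π) = F.relIndex H := by
            rw [← Subgroup.relIndex_bot_left, ← Subgroup.relIndex_comap, MonoidHom.comap_bot, QuotientGroup.ker_mk']
          rw [← h2, ← h3, hH, Subgroup.map_comap_eq_self_of_surjective (QuotientGroup.mk'_surjective F), hj, mul_comm]
        have hQF : (Q ⊓ F).relIndex Q = Nat.card (Q.map π) := by
          rw [← Subgroup.relIndex_bot_left, ← Subgroup.relIndex_comap, MonoidHom.comap_bot, QuotientGroup.ker_mk',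
            Subgroup.inf_relIndex_left]
        obtain ⟨i, hi⟩ := (hQp.map π).exists_card_eq
        rw [hj, hi]
        refine Nat.pow_le_pow_right hq.pos ?_
        by_contra hlt
        refine Nat.pow_succ_factorization_not_dvd (Nat.card_pos (α := H)).ne' hq ?_
        have h4 : Nat.card H = Q.relIndex H * Nat.card Q := by
          have h2 := Subgroup.relIndex_mul_relIndex ⊥ Q H bot_le hQ.1
          rw [Subgroup.relIndex_bot_left, Subgroup.relIndex_bot_left] at h2
          rw [← h2, mul_comm]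
        have h5 : Nat.card Q = q ^ i * Nat.card ↥(Q ⊓ F) := by
          have h2 := Subgroup.relIndex_mul_relIndex ⊥ (Q ⊓ F) Q bot_le inf_le_left
          rw [Subgroup.relIndex_bot_left, Subgroup.relIndex_bot_left, hQF, hi] at h2
          rw [← h2, mul_comm]
        obtain ⟨m, hm⟩ := Subgroup.card_dvd_of_le (inf_le_right : Q ⊓ F ≤ F)
        rw [h4, h5, hm, ← Nat.sub_add_cancel (le_of_not_ge hlt), pow_add] at hHc
        have h6 : Q.relIndex H = q ^ (j - i) * m := by
          refine Nat.eq_of_mul_eq_mul_right (Nat.mul_pos (pow_pos hq.pos i) (Nat.card_pos (α := ↥(Q ⊓ F)))) ?_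
          rw [hHc]; ring
        rw [pow_succ', ← hQ.2, h4, h6]
        exact mul_dvd_mul_right (dvd_mul_of_dvd_left (dvd_pow_self q (by omega)) _) _
      have h1 : π h ∈ Q.map π := by rw [hmap]; rw [hH] at hh; exact hh
      obtain ⟨a, ha, e⟩ := h1
      have h2 : a⁻¹ * h ∈ F := QuotientGroup.eq.1 e
      have := mul_mem (Subgroup.mem_sup_left ha : a ∈ Q ⊔ ⨆ r : {r : Nat.Primes // (r : ℕ) ≠ q}, SSF.Ox ((r : Nat.Primes) : ℕ) K) (hFle h2)
      rwa [mul_inv_cancel_left] at this
    have hSn : H ≤ Subgroup.normalizer (S : Set G) := by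
      refine hgen.trans (sup_le (fun a ha => ?_) (iSup_le fun r f hf => ?_))
      · have hNn : N.Normal := by
          rw [hN]
          haveI : ∀ r : {r : Nat.Primes // (r : ℕ) ≠ q}, (Subgroup.centralizer (SSF.Ox ((r : Nat.Primes) : ℕ) K : Set G)).Normal :=
            fun r => by haveI := hOn ((r : Nat.Primes) : ℕ); infer_instance
          haveI := Subgroup.normal_iInf_normal (a := fun r : {r : Nat.Primes // (r : ℕ) ≠ q} => Subgroup.centralizer (SSF.Ox ((r : Nat.Primes) : ℕ) K : Set G)) fun r => inferInstance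
          infer_instance
        rw [hS, Subgroup.mem_normalizer_iff]
        refine fun y => ⟨fun hy => ⟨Q.mul_mem (Q.mul_mem ha hy.1) (Q.inv_mem ha), hNn.conj_mem y hy.2 a⟩, fun hy => ⟨?_, ?_⟩⟩
        · have := Q.mul_mem (Q.mul_mem (Q.inv_mem ha) hy.1) ha
          rwa [show a⁻¹ * (a * y * a⁻¹) * a = y by group] at this
        · have := hNn.conj_mem _ hy.2 a⁻¹
          rwa [show a⁻¹ * (a * y * a⁻¹) * a⁻¹⁻¹ = y by group] at this
      · refine Subgroup.centralizer_le_normalizer _ (Subgroup.mem_centralizer_iff.2 fun s hs => ?_)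
        exact (hfq r f hf s hs).symm
    have hSF : S ≤ F := (SSF.subnormal_le_Ox (S := S) (K := H) (N := K) ((hS ▸ inf_le_left : S ≤ Q).trans hQ.1) hSn hHK
      (fun y _ => by rw [Subgroup.normalizer_eq_top]; exact Subgroup.mem_top y)
      (hQp.to_le (hS ▸ inf_le_left))).trans (hOF q hq)
    have hcQ : ⁅Q, Subgroup.zpowers x⁆ ≤ Q := Subgroup.commutator_le.2 fun a ha b hb => by
      rw [commutatorElement_def]
      exact Solv.comm_mem_of_mem_normalizer (hQx hb) ha
    have hQS : ⁅Q, Subgroup.zpowers x⁆ ≤ F := by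
      refine le_trans ?_ hSF
      rw [hS, hN]
      refine le_inf hcQ (le_inf (hcQ.trans hQ.1) (le_iInf fun r => ?_))
      haveI := Fact.mk (r : Nat.Primes).2
      haveI := hOn ((r : Nat.Primes) : ℕ)
      by_cases hrK : ((r : Nat.Primes) : ℕ) ∣ Nat.card K
      · exact commutator_le_ker_pgroup (p := p) hq2 hqp (Ne.symm r.2)
          (fun h => hp.out.ne_one (Nat.eq_one_of_dvd_coprimes hco (h ▸ hrK) dvd_rfl))
          _ Q (SSF.isPGroup_Ox _ K) hQp x hxp1 (hQx (Subgroup.mem_zpowers x))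
          (le_bot_iff.1 ((inf_le_inf_right _ (hOF _ (r : Nat.Primes).2)).trans hfix.le))
      · intro y _
        refine Subgroup.mem_centralizer_iff.2 fun v hv => ?_
        obtain ⟨i, hi⟩ := SSF.isPGroup_Ox _ K ⟨v, hv⟩
        have h1 : orderOf v ∣ _ ^ i := orderOf_dvd_of_pow_eq_one (congrArg Subtype.val hi)
        rw [orderOf_eq_one_iff.1 (Nat.eq_one_of_dvd_coprimes (((r : Nat.Primes).2.coprime_iff_not_dvd.2 hrK).pow_left i) h1
          (Subgroup.orderOf_dvd_natCard K (SSF.Ox_le _ K hv))), one_mul, mul_one]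
    intro z hz
    obtain ⟨h, rfl⟩ := QuotientGroup.mk'_surjective F z
    have hh : h ∈ H := hH ▸ hz
    have hgen2 : H ≤ Q ⊔ F := hgen.trans (sup_le le_sup_left (iSup_le fun r => (hOF _ (r : Nat.Primes).2).trans le_sup_right))
    obtain ⟨a, ha, f, hf, rfl⟩ := Subgroup.mem_sup_of_normal_right.1 (hgen2 hh)
    rw [map_mul, show QuotientGroup.mk' F f = 1 from (QuotientGroup.eq_one_iff f).2 hf, mul_one,
      ← commutatorElement_eq_one_iff_commute, ← map_commutatorElement, QuotientGroup.mk'_apply,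
      QuotientGroup.eq_one_iff, ← commutatorElement_inv]
    exact inv_mem (hQS (Subgroup.commutator_mem_commutator ha (Subgroup.mem_zpowers x)))
  obtain ⟨A, hA⟩ : ∃ A, A = Subgroup.zpowers (π x) := ⟨_, rfl⟩
  have hAK : A ≤ Subgroup.normalizer (Kb : Set (G ⧸ F)) := fun y _ => by
    rw [Subgroup.normalizer_eq_top]; exact Subgroup.mem_top y
  have hAO : ∀ q : ℕ, q.Prime → A ≤ Subgroup.centralizer (SSF.Ox q Kb : Set (G ⧸ F)) := fun q hq => by
    rw [hA, Subgroup.zpowers_le]
    exact Subgroup.mem_centralizer_iff.2 fun z hz => (hO q hq z hz).symm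
  obtain ⟨U, hU⟩ : ∃ U, U = ⁅Kb, A⁆ := ⟨_, rfl⟩
  have hUK : U ≤ Kb := hU ▸ Subgroup.commutator_le_left _ _
  have hUO : ∀ q : ℕ, q.Prime → U ≤ Subgroup.centralizer (SSF.Ox q Kb : Set (G ⧸ F)) := by
    intro q hq
    rw [← Subgroup.commutator_eq_bot_iff_le_centralizer, hU]
    refine Subgroup.commutator_commutator_eq_bot_of_rotate ?_ ?_
    · rw [Subgroup.commutator_eq_bot_iff_le_centralizer.2 (hAO q hq), Subgroup.commutator_bot_left]
    · refine le_bot_iff.1 ((Subgroup.commutator_mono (K₁ := SSF.Ox q Kb) (Subgroup.commutator_le.2 fun a ha b hb => ?_) le_rfl).trans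
        (Subgroup.commutator_eq_bot_iff_le_centralizer.2 ?_).le)
      · rw [commutatorElement_def]
        exact Solv.comm_mem_of_mem_normalizer (SSF.self_le_normalizer_Ox q Kb hb) ha
      · intro y hy
        exact Subgroup.mem_centralizer_iff.2 fun a ha => ((Subgroup.mem_centralizer_iff.1 (hAO q hq ha) y hy)).symm
  have hUA : U ≤ Subgroup.centralizer (A : Set (G ⧸ F)) := by
    refine (SSF.le_fitting_of_centralizes hKsol hUK hUO).trans ?_
    rw [SSF.map_fitting_eq]
    exact iSup_le fun q y hy => Subgroup.mem_centralizer_iff.2 fun a ha =>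
      (Subgroup.mem_centralizer_iff.1 (hAO q q.2 ha) y hy).symm
  have hcoA : (Nat.card A).Coprime (Nat.card Kb) := by
    rw [hA, hKb, Nat.card_zpowers]
    exact (hco.symm.coprime_dvd_left (hxp ▸ orderOf_map_dvd π x)).coprime_dvd_right (Subgroup.card_map_dvd _ _)
  have hUbot : U = ⊥ := by
    rw [hU, ← Solv.commutator_commutator_eq hAK hcoA (Or.inr hKsol), ← hU,
      Subgroup.commutator_eq_bot_iff_le_centralizer.2 hUA]
  intro d hd
  rw [← QuotientGroup.eq_one_iff, ← QuotientGroup.mk'_apply, ← Subgroup.mem_bot, ← hUbot, hU, hKb, hA,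
    ← MonoidHom.map_zpowers, ← Subgroup.map_commutator]
  exact ⟨d, hd, rfl⟩

end Cfsg.Agent.Solv.FPFFit
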