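import Mathlib.GroupTheory.SchurZassenhaus
import Cfsg.Agent.Lib.Solv.Basic

/-!
Conjugacy half of the Schur–Zassenhaus theorem, with relative versions.
-/

set_option autoImplicit false

open scoped Pointwise

namespace Cfsg.Agent.Solv

universe u

variable {G : Type u} [Group G]

section Abelian

open MulOpposite MulAction Subgroup

/-- Every complement of an abelian normal Hall subgroup is a point stabiliser on `QuotientDiff`. -/
theorem exists_stabilizer_of_isComplement' [Finite G] (A : Subgroup G) [A.Normal]
    [IsMulCommutative A] (hA : (Nat.card A).Coprime A.index) (K : Subgroup G)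
    (hK : IsComplement' A K) :
    ∃ α : A.QuotientDiff, stabilizer G α = K := by
  let S : A.LeftTransversal := ⟨(K : Set G), hK.symm⟩
  let mk : A.LeftTransversal → A.QuotientDiff := fun T => Quotient.mk'' T
  refine ⟨mk S, ?_⟩
  have hle : K ≤ stabilizer G (mk S) := by
    intro k hk
    rw [mem_stabilizer_iff]
    refine congrArg mk (a₁ := op k⁻¹ • S) (a₂ := S) ?_
    exact Subtype.ext (op_smul_coe_set (K.inv_mem hk))
  refine (eq_of_le_of_card_ge hle ?_).symm
  rw [← hK.symm.index_eq_card,
    (isComplement'_stabilizer_of_coprime (α := mk S) hA).symm.index_eq_card]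

theorem sz_conj_abelian [Finite G] (A : Subgroup G) [A.Normal] [IsMulCommutative A]
    (hA : (Nat.card A).Coprime A.index) (H K : Subgroup G) (hH : IsComplement' A H)
    (hK : IsComplement' A K) : ∃ a ∈ A, MulAut.conj a • H = K := by
  obtain ⟨α, hα⟩ := exists_stabilizer_of_isComplement' A hA H hH
  obtain ⟨β, hβ⟩ := exists_stabilizer_of_isComplement' A hA K hK
  obtain ⟨a, ha⟩ := exists_smul_eq hA α β
  refine ⟨a, a.2, ?_⟩
  rw [← hα, ← hβ, ← ha]
  exact (stabilizer_smul_eq_stabilizer_map_conj (a : G) α).symm

end Abelian

theorem isComplement'_of_card_eq_index [Finite G] (N H : Subgroup G) [N.Normal]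
    (hco : (Nat.card N).Coprime N.index) (hH : Nat.card H = N.index) :
    Subgroup.IsComplement' N H :=
  Subgroup.isComplement'_of_coprime (by rw [hH, N.card_mul_index]) (by rw [hH]; exact hco)

theorem sup_eq_top_of_card_eq_index [Finite G] (N H : Subgroup G) [N.Normal]
    (hco : (Nat.card N).Coprime N.index) (hH : Nat.card H = N.index) : N ⊔ H = ⊤ :=
  (isComplement'_of_card_eq_index N H hco hH).sup_eq_top

theorem map_mk'_le_imp_le (M A B : Subgroup G) [M.Normal]
    (h : A.map (QuotientGroup.mk' M) ≤ B.map (QuotientGroup.mk' M)) : A ≤ M ⊔ B := by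
  have := Subgroup.map_le_iff_le_comap.1 h
  rwa [Subgroup.comap_map_eq, QuotientGroup.ker_mk', sup_comm] at this

theorem card_map_mk'_eq_index [Finite G] (N H : Subgroup G) [N.Normal]
    (hco : (Nat.card N).Coprime N.index) (hH : Nat.card H = N.index) (M : Subgroup G) [M.Normal]
    (hM : M ≤ N) : Nat.card (H.map (QuotientGroup.mk' M)) = N.index := by
  have h := card_map_mk'_mul_card_inf M H
  have hinf : M ⊓ H = ⊥ := coprime_inf
    (Nat.Coprime.coprime_dvd_left (Subgroup.card_dvd_of_le hM) (by rw [hH]; exact hco))
  rw [hinf, Subgroup.card_bot, mul_one] at h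
  rw [h, hH]

theorem subgroupOf_conj_eq {L A B : Subgroup G} (hA : A ≤ L) (hB : B ≤ L) (l : L)
    (h : MulAut.conj l • A.subgroupOf L = B.subgroupOf L) :
    MulAut.conj (l : G) • A = B := by
  have := congrArg (Subgroup.map L.subtype) h
  rwa [map_conj_smul, Subgroup.map_subgroupOf_eq_of_le hA,
    Subgroup.map_subgroupOf_eq_of_le hB] at this

theorem sz_conj_aux : ∀ (n : ℕ) {G : Type u} [Group G] [Finite G], Nat.card G = n →
    ∀ (N H K : Subgroup G) [N.Normal], (Nat.card N).Coprime N.index → Nat.card H = N.index →
      Nat.card K = N.index → (Group.IsSolvable N ∨ Group.IsSolvable H) →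
      ∃ g ∈ N, MulAut.conj g • H = K := by
  intro n
  induction n using Nat.strong_induction_on with
  | _ n ih =>
    intro G _ _ hn N H K _ hco hH hK hsol
    subst hn
    by_cases hNb : N = ⊥
    · subst hNb
      rw [Subgroup.index_bot] at hH hK
      exact ⟨1, one_mem _, by
        rw [conj_one_smul, (Subgroup.card_eq_iff_eq_top _).1 hH, (Subgroup.card_eq_iff_eq_top _).1 hK]⟩
    -- conjugate by an element of `N` as soon as conjugate by anything
    have reduce : ∀ g : G, MulAut.conj g • H = K → ∃ m ∈ N, MulAut.conj m • H = K := by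
      intro g hg
      have hmem : g ∈ ((N ⊔ H : Subgroup G) : Set G) := by
        rw [sup_eq_top_of_card_eq_index N H hco hH]; simp
      rw [Subgroup.normal_mul] at hmem
      obtain ⟨m, hm, h, hh, rfl⟩ := hmem
      refine ⟨m, hm, ?_⟩
      rwa [← conj_smul_conj, Subgroup.conj_smul_eq_self_of_mem hh] at hg
    by_cases hNs : Group.IsSolvable N
    · by_cases hab : IsMulCommutative N
      · exact sz_conj_abelian N hco H K (isComplement'_of_card_eq_index N H hco hH)
          (isComplement'_of_card_eq_index N K hco hK)
      · have : Nontrivial N := (Subgroup.nontrivial_iff_ne_bot N).2 hNb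
        set M : Subgroup G := (commutator N).map N.subtype with hMdef
        have hMN : M ≤ N := Subgroup.map_subtype_le _
        have hMne : M ≠ ⊥ := by
          intro h
          refine hab ⟨⟨fun a b => ?_⟩⟩
          rw [← commutatorElement_eq_one_iff_mul_comm, ← Subgroup.mem_bot,
            ← (Subgroup.map_eq_bot_iff_of_injective _ N.subtype_injective).1 h, commutator_def]
          exact Subgroup.commutator_mem_commutator (Subgroup.mem_top a) (Subgroup.mem_top b)
        have hMlt : M < N := by
          refine lt_of_le_of_ne hMN fun h => ?_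
          exact (Group.IsSolvable.commutator_lt_top_of_nontrivial N).ne
            (Subgroup.map_injective N.subtype_injective
              (h.trans (by rw [← MonoidHom.range_eq_map, Subgroup.range_subtype])))
        set f := QuotientGroup.mk' M with hf
        have hidx : (N.map f).index = N.index :=
          Subgroup.index_map_eq _ (QuotientGroup.mk'_surjective M)
            (by rw [hf, QuotientGroup.ker_mk']; exact hMN)
        have hco' : (Nat.card (N.map f)).Coprime (N.map f).index := by
          rw [hidx]; exact hco.coprime_dvd_left (card_map_mk'_dvd M N)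
        obtain ⟨x, -, hx⟩ := ih (Nat.card (G ⧸ M)) (card_quotient_lt M hMne) rfl (N.map f)
          (H.map f) (K.map f) hco' (by rw [hidx, card_map_mk'_eq_index N H hco hH M hMN])
          (by rw [hidx, card_map_mk'_eq_index N K hco hK M hMN]) (Or.inl (isSolvable_map f hNs))
        obtain ⟨g, rfl⟩ := QuotientGroup.mk'_surjective M x
        rw [← hf, ← map_conj_smul] at hx
        set H' := MulAut.conj g • H with hH'
        have hH'card : Nat.card H' = N.index := by rw [hH', card_conj_smul, hH]
        set L := M ⊔ H' with hL
        have hKL : K ≤ L := map_mk'_le_imp_le M K H' hx.ge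
        have hcoM : (Nat.card M).Coprime N.index :=
          hco.coprime_dvd_left (Subgroup.card_dvd_of_le hMN)
        have hLcard : Nat.card L = Nat.card M * N.index := by
          rw [hL, card_sup_of_inf_eq_bot M H'
            (coprime_inf (by rw [hH'card]; exact hcoM)), hH'card]
        have hLlt : Nat.card L < Nat.card G := by
          rw [hLcard, ← N.card_mul_index]
          exact Nat.mul_lt_mul_of_pos_right (card_lt_of_lt hMlt)
            (Nat.pos_of_ne_zero Subgroup.index_ne_zero_of_finite)
        have hMidx : (M.subgroupOf L).index = N.index := by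
          have h := (M.subgroupOf L).card_mul_index
          rw [card_subgroupOf le_sup_left, hLcard] at h
          exact Nat.eq_of_mul_eq_mul_left Nat.card_pos h
        obtain ⟨l, -, hlc⟩ := ih (Nat.card L) hLlt rfl (M.subgroupOf L) (H'.subgroupOf L)
          (K.subgroupOf L) (by rw [hMidx, card_subgroupOf le_sup_left]; exact hcoM)
          (by rw [hMidx, card_subgroupOf le_sup_right, hH'card])
          (by rw [hMidx, card_subgroupOf hKL, hK])
          (Or.inl (isSolvable_subgroupOf le_sup_left (isSolvable_of_le hMN hNs)))
        have hfin := subgroupOf_conj_eq le_sup_right hKL l hlc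
        refine reduce ((l : G) * g) ?_
        rw [← conj_smul_conj, ← hH']
        exact hfin
    · have hHs : Group.IsSolvable H := hsol.resolve_left hNs
      by_cases hHb : H = ⊥
      · subst hHb
        rw [Subgroup.card_bot] at hH
        refine ⟨1, one_mem _, ?_⟩
        rw [conj_one_smul, eq_comm, ← Subgroup.card_eq_one, hK, ← hH]
      have : Nontrivial H := (Subgroup.nontrivial_iff_ne_bot H).2 hHb
      obtain ⟨H₀, hH₀n, hH₀b, hH₀min⟩ := exists_minimal_normal (G := H)
      obtain ⟨-, p, hp, -, hpg⟩ :=
        minimal_normal_elementaryAbelian H₀ inferInstance hH₀b hH₀min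
      have := Fact.mk hp
      set A := H₀.map H.subtype with hA
      have hAH : A ≤ H := Subgroup.map_subtype_le _
      have hAp : IsPGroup p A := hpg.map _
      have hAne : A ≠ ⊥ := fun h =>
        hH₀b ((Subgroup.map_eq_bot_iff_of_injective _ H.subtype_injective).1 h)
      have hHnorm : H ≤ Subgroup.normalizer (A : Set G) := by
        intro h hh
        refine mem_normalizer_of_conj_smul ?_
        have := congrArg (Subgroup.map H.subtype)
          (Subgroup.Normal.conj_smul_eq_self (⟨h, hh⟩ : H) H₀)
        rwa [map_conj_smul] at this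
      -- `L = N A` is normal
      set L := N ⊔ A with hL
      have hLn : L.Normal := by
        rw [← Subgroup.normalizer_eq_top_iff, ← top_le_iff,
          ← sup_eq_top_of_card_eq_index N H hco hH]
        refine sup_le ?_ fun h hh => mem_normalizer_of_conj_smul ?_
        · exact le_sup_left.trans Subgroup.le_normalizer
        · rw [hL, Subgroup.smul_sup, Subgroup.Normal.conj_smul_eq_self,
            conj_smul_of_mem_normalizer (hHnorm hh)]
      obtain ⟨a, ha⟩ := IsPGroup.iff_card.1 hAp
      have hcoA : (Nat.card N).Coprime (Nat.card A) :=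
        hco.coprime_dvd_right (hH ▸ Subgroup.card_dvd_of_le hAH)
      have hLcard : Nat.card L = Nat.card N * Nat.card A :=
        card_sup_of_inf_eq_bot N A (coprime_inf hcoA)
      have hKtop := sup_eq_top_of_card_eq_index N K hco hK
      have hAidx : Nat.card (K ⊓ L : Subgroup G) = Nat.card A := by
        have h1 := card_sup_mul_card_inf L K
        have h2 : L ⊔ K = ⊤ := top_le_iff.1 (hKtop ▸ sup_le_sup_right le_sup_left K)
        rw [h2, Subgroup.card_top, hLcard, hK, inf_comm L K, ← N.card_mul_index] at h1
        refine Nat.eq_of_mul_eq_mul_left (Nat.mul_pos (Nat.card_pos (α := N))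
          (Nat.pos_of_ne_zero (Subgroup.index_ne_zero_of_finite (H := N)))) ?_
        rw [h1]; ring
      have hane : a ≠ 0 := by
        intro h
        rw [h, pow_zero] at ha
        exact hAne (Subgroup.card_eq_one.1 ha)
      have hcopow : (Nat.card N).Coprime p :=
        hcoA.coprime_dvd_right (ha ▸ dvd_pow_self p hane)
      have hsyl : p ^ (Nat.card L).factorization p = Nat.card A := by
        rw [hLcard, Nat.factorization_mul_apply_of_coprime hcoA, ha,
          Nat.factorization_pow_self hp,
          Nat.factorization_eq_zero_of_not_dvd (hp.coprime_iff_not_dvd.1 hcopow.symm), zero_add]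
      let P₁ : Sylow p L := Sylow.ofCard (A.subgroupOf L)
        (by rw [card_subgroupOf le_sup_right, hsyl])
      let P₂ : Sylow p L := Sylow.ofCard ((K ⊓ L).subgroupOf L)
        (by rw [card_subgroupOf inf_le_right, hAidx, hsyl])
      obtain ⟨l, hl⟩ := MulAction.exists_smul_eq L P₁ P₂
      have hl' : MulAut.conj (l : G) • A = K ⊓ L :=
        subgroupOf_conj_eq le_sup_right inf_le_right l (congrArg Sylow.toSubgroup hl)
      set H' := MulAut.conj (l : G) • H with hH'
      have hH'card : Nat.card H' = N.index := by rw [hH', card_conj_smul, hH]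
      set A' := K ⊓ L with hA'
      have hH'A : H' ≤ Subgroup.normalizer (A' : Set G) := by
        intro x hx
        rw [hH', mem_conj_smul] at hx
        refine mem_normalizer_of_conj_smul ?_
        rw [← hl', conj_smul_conj, show x * (l : G) = l * ((l : G)⁻¹ * x * l) by group,
          ← conj_smul_conj, conj_smul_of_mem_normalizer (hHnorm hx)]
      have hKA : K ≤ Subgroup.normalizer (A' : Set G) := fun x hx =>
        mem_normalizer_of_conj_smul (by
          rw [hA', Subgroup.smul_inf, Subgroup.conj_smul_eq_self_of_mem hx,
            Subgroup.Normal.conj_smul_eq_self])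
      have hA'ne : A' ≠ ⊥ := fun h => hAne (Subgroup.card_eq_one.1 (by
        rw [← hAidx, h, Subgroup.card_bot]))
      set R := Subgroup.normalizer (A' : Set G) with hR
      by_cases hRtop : R = ⊤
      · have hA'n : A'.Normal := Subgroup.normalizer_eq_top_iff.1 hRtop
        set f := QuotientGroup.mk' A' with hf
        have hinf : A' ⊓ N = ⊥ := coprime_inf (by
          rw [hAidx]; exact hcoA.symm)
        have hA'H' : A' ≤ H' := by
          rw [hH', ← hl']
          exact Subgroup.pointwise_smul_le_pointwise_smul_iff.2 hAH
        have hNcard : Nat.card (N.map f) = Nat.card N := by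
          have := card_map_mk'_mul_card_inf A' N
          rwa [hinf, Subgroup.card_bot, mul_one] at this
        have hHc := card_map_mk'_mul_card_inf A' H'
        have hKc := card_map_mk'_mul_card_inf A' K
        rw [inf_eq_left.2 hA'H', hH'card] at hHc
        rw [inf_eq_left.2 (inf_le_left : A' ≤ K), hK] at hKc
        have hidx : (N.map f).index * Nat.card A' = N.index := by
          have h1 := (N.map f).card_mul_index
          rw [hNcard, ← Subgroup.index_eq_card] at h1
          have h2 := A'.card_mul_index
          rw [← h1, ← N.card_mul_index] at h2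
          refine Nat.eq_of_mul_eq_mul_left (Nat.card_pos (α := N)) ?_
          rw [← h2]; ring
        have e1 : Nat.card (H'.map f) = (N.map f).index :=
          Nat.eq_of_mul_eq_mul_right Nat.card_pos (hHc.trans hidx.symm)
        have e2 : Nat.card (K.map f) = (N.map f).index :=
          Nat.eq_of_mul_eq_mul_right Nat.card_pos (hKc.trans hidx.symm)
        obtain ⟨x, -, hx⟩ := ih (Nat.card (G ⧸ A')) (card_quotient_lt A' hA'ne) rfl (N.map f)
          (H'.map f) (K.map f) (by rw [hNcard]; exact hco.coprime_dvd_right (hidx ▸ dvd_mul_right _ _))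
          e1 e2 (Or.inr (isSolvable_map f (isSolvable_map _ hHs)))
        obtain ⟨g, rfl⟩ := QuotientGroup.mk'_surjective A' x
        rw [← hf, ← map_conj_smul] at hx
        have hle := map_mk'_le_imp_le A' (MulAut.conj g • H') K hx.le
        rw [sup_eq_right.2 (inf_le_left : A' ≤ K)] at hle
        refine reduce (g * l) ?_
        rw [← conj_smul_conj]
        exact Subgroup.eq_of_le_of_card_ge hle (by rw [card_conj_smul, hK, hH'card])
      · have hRlt := card_lt_of_ne_top hRtop
        have hNR : Nat.card (N.subgroupOf R) = Nat.card (N ⊓ R : Subgroup G) := by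
          rw [← Subgroup.inf_subgroupOf_right, card_subgroupOf inf_le_right]
        have hidx : (N.subgroupOf R).index = N.index := by
          have h1 := card_sup_mul_card_inf N R
          have h2 : N ⊔ R = ⊤ := top_le_iff.1 (hKtop ▸ sup_le_sup_left hKA N)
          rw [h2, Subgroup.card_top, ← N.card_mul_index] at h1
          have h3 := (N.subgroupOf R).card_mul_index
          rw [hNR] at h3
          refine Nat.eq_of_mul_eq_mul_left (Nat.card_pos (α := (N ⊓ R : Subgroup G))) ?_
          rw [h3]
          refine Nat.eq_of_mul_eq_mul_left (Nat.card_pos (α := N)) ?_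
          rw [← h1]; ring
        obtain ⟨r, -, hr⟩ := ih (Nat.card R) hRlt rfl (N.subgroupOf R) (H'.subgroupOf R)
          (K.subgroupOf R)
          (by rw [hidx, hNR]; exact hco.coprime_dvd_left (Subgroup.card_dvd_of_le inf_le_left))
          (by rw [hidx, card_subgroupOf hH'A, hH'card])
          (by rw [hidx, card_subgroupOf hKA, hK])
          (Or.inr (isSolvable_subgroupOf hH'A (isSolvable_map _ hHs)))
        refine reduce ((r : G) * l) ?_
        rw [← conj_smul_conj]
        exact subgroupOf_conj_eq hH'A hKA r hr

/-- Schur–Zassenhaus, conjugacy. -/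
theorem sz_conj [Finite G] (N H K : Subgroup G) [N.Normal] (hco : (Nat.card N).Coprime N.index)
    (hH : Nat.card H = N.index) (hK : Nat.card K = N.index)
    (hsol : Group.IsSolvable N ∨ Group.IsSolvable H) :
    ∃ g ∈ N, MulAut.conj g • H = K :=
  sz_conj_aux _ rfl N H K hco hH hK hsol

/-- Relative Schur–Zassenhaus: subgroups normalising `N` and equal modulo `N`. -/
theorem sz_conj_rel [Finite G] (N H K : Subgroup G) (hH : H ≤ Subgroup.normalizer (N : Set G))
    (hKH : K ≤ N ⊔ H) (hco : (Nat.card N).Coprime (Nat.card H))
    (hcard : Nat.card K = Nat.card H) (hsol : Group.IsSolvable N ∨ Group.IsSolvable H) :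
    ∃ g ∈ N, MulAut.conj g • H = K := by
  set L := N ⊔ H with hL
  have hLN : L ≤ Subgroup.normalizer (N : Set G) := sup_le Subgroup.le_normalizer hH
  have hNn : (N.subgroupOf L).Normal := Subgroup.normal_subgroupOf_of_le_normalizer hLN
  have hinf : N.subgroupOf L ⊓ H.subgroupOf L = ⊥ := coprime_inf
    (by rw [card_subgroupOf le_sup_left, card_subgroupOf le_sup_right]; exact hco)
  have hsup : N.subgroupOf L ⊔ H.subgroupOf L = ⊤ := by
    rw [← Subgroup.subgroupOf_sup le_sup_left le_sup_right]; exact Subgroup.subgroupOf_self _
  have hidx : (N.subgroupOf L).index = Nat.card H := by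
    have h := card_sup_of_inf_eq_bot _ _ hinf
    rw [hsup, Subgroup.card_top, card_subgroupOf le_sup_right] at h
    have h3 := (N.subgroupOf L).card_mul_index
    rw [h] at h3
    exact Nat.eq_of_mul_eq_mul_left Nat.card_pos h3
  obtain ⟨g, hg, hgc⟩ := sz_conj (N.subgroupOf L) (H.subgroupOf L) (K.subgroupOf L)
    (by rw [hidx, card_subgroupOf le_sup_left]; exact hco)
    (by rw [hidx, card_subgroupOf le_sup_right]) (by rw [hidx, card_subgroupOf hKH, hcard])
    (hsol.imp
      (isSolvable_subgroupOf le_sup_left)
      (isSolvable_subgroupOf le_sup_right))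
  exact ⟨g, hg, subgroupOf_conj_eq le_sup_right hKH g hgc⟩

/-- A subgroup of `N H` of order coprime to `N` lies in an `N`-conjugate of `H`. -/
theorem sz_contain [Finite G] (N H K : Subgroup G) (hH : H ≤ Subgroup.normalizer (N : Set G))
    (hKH : K ≤ N ⊔ H) (hco : (Nat.card N).Coprime (Nat.card K))
    (hcoH : (Nat.card N).Coprime (Nat.card H))
    (hsol : Group.IsSolvable N ∨ Group.IsSolvable K) :
    ∃ g ∈ N, K ≤ MulAut.conj g • H := by
  have hLN : N ⊔ H ≤ Subgroup.normalizer (N : Set G) := sup_le Subgroup.le_normalizer hH
  have hKN : K ≤ Subgroup.normalizer (N : Set G) := hKH.trans hLN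
  set M := (N ⊔ K) ⊓ H with hM
  have hMN : M ≤ Subgroup.normalizer (N : Set G) := inf_le_right.trans hH
  have hsup : N ⊔ K = N ⊔ M := by
    refine le_antisymm (sup_le le_sup_left fun k hk => ?_) (sup_le le_sup_left inf_le_left)
    have hk' : k ∈ ((N ⊔ H : Subgroup G) : Set G) := hKH hk
    rw [Subgroup.coe_mul_of_right_le_normalizer_left N H hH] at hk'
    obtain ⟨n, hn, h, hh, rfl⟩ := hk'
    refine mul_mem (Subgroup.mem_sup_left hn) (Subgroup.mem_sup_right ⟨?_, hh⟩)
    have : n⁻¹ * (n * h) ∈ N ⊔ K :=
      mul_mem (Subgroup.mem_sup_left (inv_mem hn)) (Subgroup.mem_sup_right hk)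
    rwa [inv_mul_cancel_left] at this
  have cardeq : ∀ A : Subgroup G, A ≤ Subgroup.normalizer (N : Set G) →
      (Nat.card N).Coprime (Nat.card A) →
      Nat.card (N ⊔ A : Subgroup G) = Nat.card N * Nat.card A := by
    intro A hA hcA
    set L := N ⊔ A
    have : (N.subgroupOf L).Normal :=
      Subgroup.normal_subgroupOf_of_le_normalizer (sup_le Subgroup.le_normalizer hA)
    have h := card_sup_of_inf_eq_bot (N.subgroupOf L) (A.subgroupOf L)
      (coprime_inf
        (by rw [card_subgroupOf le_sup_left, card_subgroupOf le_sup_right]; exact hcA))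
    rwa [← Subgroup.subgroupOf_sup le_sup_left le_sup_right, Subgroup.subgroupOf_self,
      Subgroup.card_top, card_subgroupOf le_sup_left, card_subgroupOf le_sup_right] at h
  have hcoM : (Nat.card N).Coprime (Nat.card M) :=
    hcoH.coprime_dvd_right (Subgroup.card_dvd_of_le inf_le_right)
  have hMc : Nat.card K = Nat.card M := by
    have h1 := cardeq K hKN hco
    rw [hsup, cardeq M hMN hcoM] at h1
    exact (Nat.eq_of_mul_eq_mul_left Nat.card_pos h1).symm
  obtain ⟨g, hg, hgc⟩ := sz_conj_rel N K M hKN inf_le_left hco hMc.symm hsol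
  refine ⟨g⁻¹, inv_mem hg, ?_⟩
  rw [Subgroup.subset_pointwise_smul_iff, ← map_inv, inv_inv, hgc]
  exact inf_le_right

end Cfsg.Agent.Solv
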