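import Cfsg.Agent.Lib.Solv.TheoremBGroup
import Cfsg.Agent.Lib.Solv.HallHigman
import Cfsg.Agent.Lib.Solv.SZ
import Cfsg.Agent.Lib.Solv.Hall
import Cfsg.Agent.Lib.Solv.PLength
import Cfsg.Agent.Lib.Char.OneBlock

/-!
The action of a `p`-soluble group with trivial `p'`-core on the Frattini quotient of its `p`-core,
and Theorem B for it.
-/

set_option autoImplicit false
set_option linter.style.haveILetI false

namespace Cfsg.Agent.Solv.ThmB

open scoped commutatorElement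
open Cfsg.Agent.Solv

universe u

variable {G : Type u} [Group G] [Finite G] {p : ℕ} [Fact p.Prime]

theorem exists_frattini_section (hG : Cfsg.IsPSolvable p G) (hbot : Cfsg.pPrimeCore p G = ⊥) :
    ∃ (Φ : Subgroup G) (_ : Φ.Normal) (V : Subgroup (G ⧸ Φ)) (_ : V.Normal),
      Φ ≤ Cfsg.pCore p G ∧ Cfsg.IsElementaryAbelian p V ∧
      (∀ g, QuotientGroup.mk' Φ g ∈ V ↔ g ∈ Cfsg.pCore p G) ∧
      Subgroup.centralizer (V : Set (G ⧸ Φ)) ≤ V ∧ Cfsg.pCore p ((G ⧸ Φ) ⧸ V) = ⊥ := by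
  classical
  have hp : p.Prime := Fact.out
  obtain ⟨O, hO⟩ : ∃ O, O = Cfsg.pCore p G := ⟨_, rfl⟩
  rw [← hO]
  haveI hOn : O.Normal := hO ▸ Cfsg.pCore_normal p G
  have hOp : IsPGroup p O := hO ▸ pCore_isPGroup p
  have hOmax : ∀ N : Subgroup G, N.Normal → IsPGroup p N → N ≤ O := fun N hN hNp => by
    haveI := hN; exact hO ▸ normal_le_pCore hNp
  obtain ⟨Φ, hΦ⟩ : ∃ Φ, Φ = (frattini ↥O).map O.subtype := ⟨_, rfl⟩
  haveI : Φ.Normal := hΦ ▸ inferInstance
  have hΦO : Φ ≤ O := hΦ ▸ Subgroup.map_subtype_le _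
  obtain ⟨π, hπ⟩ : ∃ π, π = QuotientGroup.mk' Φ := ⟨_, rfl⟩
  have hπs : Function.Surjective π := hπ ▸ QuotientGroup.mk'_surjective Φ
  obtain ⟨V, hV⟩ : ∃ V, V = O.map π := ⟨_, rfl⟩
  haveI : V.Normal := hV ▸ Subgroup.Normal.map inferInstance _ hπs
  have hmemV : ∀ g, π g ∈ V ↔ g ∈ O := by
    intro g
    rw [hV, ← Subgroup.mem_comap, Subgroup.comap_map_eq, hπ, QuotientGroup.ker_mk',
      sup_eq_left.2 hΦO]
  have hab : ∀ v ∈ V, ∀ w ∈ V, v * w = w * v := by
    intro v hv w hw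
    rw [hV] at hv hw
    obtain ⟨v, hv', rfl⟩ := hv
    obtain ⟨w, hw', rfl⟩ := hw
    rw [← commutatorElement_eq_one_iff_mul_comm, ← map_commutatorElement, hπ,
      QuotientGroup.mk'_apply, QuotientGroup.eq_one_iff, hΦ]
    exact ⟨_, commutatorElement_mem_frattini hOp ⟨v, hv'⟩ ⟨w, hw'⟩, by simp [commutatorElement_def]⟩
  have hexp : ∀ v ∈ V, v ^ p = 1 := by
    intro v hv
    rw [hV] at hv
    obtain ⟨v, hv', rfl⟩ := hv
    rw [← map_pow, hπ, QuotientGroup.mk'_apply, QuotientGroup.eq_one_iff, hΦ]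
    exact ⟨_, pow_mem_frattini hOp ⟨v, hv'⟩, rfl⟩
  have hCO : Subgroup.centralizer (O : Set G) ≤ O := by
    rw [hO]; exact Char.centralizer_pCore_le_of_pSolvable hG hbot
  -- the Frattini quotient is self-centralizing
  have hCV : ∀ z, z ∈ Subgroup.centralizer (V : Set (G ⧸ Φ)) ↔ z ∈ V := by
    intro z
    refine ⟨fun hz => ?_, fun hz => Subgroup.mem_centralizer_iff.2 fun v hv => hab v hv z hz⟩
    obtain ⟨g, rfl⟩ := hπs z
    rw [hmemV]
    obtain ⟨C, hC⟩ : ∃ C, C = (Subgroup.centralizer (V : Set (G ⧸ Φ))).comap π := ⟨_, rfl⟩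
    have hCn : C.Normal := hC ▸ Subgroup.Normal.comap inferInstance _
    suffices hCp : IsPGroup p C from hOmax C hCn hCp (hC ▸ hz)
    intro c
    obtain ⟨i, m', hm', hcm⟩ := Nat.exists_eq_pow_mul_and_not_dvd (orderOf_pos (c : G)).ne' p hp.ne_one
    refine ⟨i, Subtype.ext ?_⟩
    rw [SubmonoidClass.coe_pow, OneMemClass.coe_one]
    obtain ⟨d, hd⟩ : ∃ d, d = (c : G) ^ p ^ i := ⟨_, rfl⟩
    rw [← hd]
    have hdC : d ∈ C := hd ▸ pow_mem c.2 _
    have hdco : (orderOf d).Coprime p := by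
      refine Nat.Coprime.coprime_dvd_left ?_ ((hp.coprime_iff_not_dvd.2 hm').symm)
      refine orderOf_dvd_of_pow_eq_one ?_
      rw [hd, ← pow_mul, ← hcm, pow_orderOf_eq_one]
    have hdcent : d ∈ Subgroup.centralizer (O : Set G) := by
      refine centralizes_of_frattini O hOp d (by rw [Subgroup.normalizer_eq_top]; exact Subgroup.mem_top d)
        hdco fun y hy => ?_
      rw [hC, Subgroup.mem_comap, Subgroup.mem_centralizer_iff] at hdC
      have h1 := hdC (π y) ((hmemV y).2 hy)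
      rw [← commutatorElement_eq_one_iff_mul_comm, ← map_commutatorElement, hπ,
        QuotientGroup.mk'_apply, QuotientGroup.eq_one_iff] at h1
      rw [← hΦ]; exact h1
    obtain ⟨j, hj⟩ := hOp ⟨d, hCO hdcent⟩
    rw [← orderOf_eq_one_iff]
    exact Nat.eq_one_of_dvd_coprimes (hdco.pow_right j) dvd_rfl
      (orderOf_dvd_of_pow_eq_one (congrArg (fun z : O => (z : G)) hj))
  haveI hΦn : Φ.Normal := inferInstance
  refine ⟨Φ, hΦn, V, inferInstance, hΦO, ⟨⟨⟨fun a b => Subtype.ext (hab _ a.2 _ b.2)⟩⟩, hexp⟩, ?_,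
    fun z hz => (hCV z).1 hz, ?_⟩
  · intro g
    rw [← hπ]
    exact hmemV g
  refine (Subgroup.eq_bot_iff_forall _).2 fun z hz => ?_
  obtain ⟨y, rfl⟩ := QuotientGroup.mk'_surjective V z
  obtain ⟨g, rfl⟩ := hπs y
  refine (QuotientGroup.eq_one_iff _).2 ((hmemV g).2 ?_)
  haveI := Cfsg.pCore_normal p ((G ⧸ Φ) ⧸ V)
  refine hOmax ((Cfsg.pCore p ((G ⧸ Φ) ⧸ V)).comap ((QuotientGroup.mk' V).comp π))
    (Subgroup.Normal.comap inferInstance _) ((pCore_isPGroup p).comap_of_ker_isPGroup _ ?_) hz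
  have hker : ((QuotientGroup.mk' V).comp π).ker = O := by
    ext y
    rw [MonoidHom.mem_ker, MonoidHom.comp_apply, QuotientGroup.mk'_apply, QuotientGroup.eq_one_iff,
      hmemV]
  rw [hker]; exact hOp

omit [Finite G] in
theorem exists_coordinates (M : Type*) [AddCommGroup M] [Module (ZMod p) M] [Finite M]
    (c : G → M →+ M) (hc1 : ∀ a, c 1 a = a) (hcm : ∀ g h a, c (g * h) a = c g (c h a)) :
    ∃ (k : ℕ) (e : (Fin k → ZMod p) → M) (ρ : G →* Module.End (ZMod p) (Fin k → ZMod p)),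
      Function.Bijective e ∧ (∀ a b, e (a + b) = e a + e b) ∧ ∀ g a, e (ρ g a) = c g (e a) := by
  haveI : Module.Finite (ZMod p) M := Module.Finite.of_finite
  obtain ⟨b, -⟩ : ∃ b : (Fin (Module.finrank (ZMod p) M) → ZMod p) ≃ₗ[ZMod p] M, True :=
    ⟨(Module.finBasis (ZMod p) M).equivFun.symm, trivial⟩
  refine ⟨_, b, { toFun := fun g => b.symm.toLinearMap ∘ₗ (AddMonoidHom.toZModLinearMap p (c g)) ∘ₗ b.toLinearMap,
                  map_one' := ?_, map_mul' := ?_ }, b.bijective, map_add b, fun g a => ?_⟩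
  · refine LinearMap.ext fun a => b.injective ?_
    simp only [LinearMap.comp_apply, LinearEquiv.coe_coe, LinearEquiv.apply_symm_apply, Module.End.one_apply]
    exact hc1 (b a)
  · intro g h
    refine LinearMap.ext fun a => b.injective ?_
    simp only [LinearMap.comp_apply, LinearEquiv.coe_coe, LinearEquiv.apply_symm_apply, Module.End.mul_apply]
    exact hcm g h (b a)
  · simp only [MonoidHom.coe_mk, OneHom.coe_mk, LinearMap.comp_apply, LinearEquiv.coe_coe, LinearEquiv.apply_symm_apply]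
    rfl

/-- An elementary abelian normal subgroup as a module. -/
theorem exists_module (V : Subgroup G) [V.Normal] (hV : Cfsg.IsElementaryAbelian p V) :
    ∃ (k : ℕ) (e : (Fin k → ZMod p) → G) (ρ : G →* Module.End (ZMod p) (Fin k → ZMod p)),
      Function.Injective e ∧ (∀ g, g ∈ V ↔ ∃ a, e a = g) ∧ (∀ a b, e (a + b) = e a * e b) ∧
      ∀ g a, e (ρ g a) = g * e a * g⁻¹ := by
  classical
  letI : CommGroup V := { (inferInstance : Group V) with mul_comm := hV.1.is_comm.comm }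
  letI : Module (ZMod p) (Additive V) := AddCommGroup.zmodModule (n := p) fun m => by
    apply Additive.toMul.injective
    rw [toMul_nsmul, toMul_zero]
    exact Subtype.ext (by rw [SubmonoidClass.coe_pow]; exact hV.2 _ (Additive.toMul m).2)
  have hmem : ∀ (g : G) (v : V), g * (v : G) * g⁻¹ ∈ V := fun g v =>
    Subgroup.Normal.conj_mem inferInstance _ v.2 g
  obtain ⟨c, hc⟩ : ∃ c : G → (Additive V →+ Additive V),
      ∀ g a, ((Additive.toMul (c g a) : V) : G) = g * (Additive.toMul a : V) * g⁻¹ :=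
    ⟨fun g => MonoidHom.toAdditive
      (MonoidHom.mk' (fun v : V => (⟨g * v * g⁻¹, hmem g v⟩ : V)) fun v w => Subtype.ext (by
        simp [mul_assoc])), fun _ _ => rfl⟩
  obtain ⟨k, e, ρ, he, hadd, hρ⟩ := exists_coordinates (p := p) (Additive V) c
    (fun a => Additive.toMul.injective (Subtype.ext (by rw [hc, inv_one, one_mul, mul_one])))
    (fun g h a => Additive.toMul.injective (Subtype.ext (by rw [hc, hc, hc]; group)))
  refine ⟨k, fun a => ((Additive.toMul (e a) : V) : G), ρ,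
    Subtype.val_injective.comp (Additive.toMul.injective.comp he.1), fun g => ⟨fun hg => ?_, ?_⟩,
    fun x y => ?_, fun g a => ?_⟩
  · obtain ⟨a, ha⟩ := he.2 (Additive.ofMul ⟨g, hg⟩)
    exact ⟨a, by simp [ha]⟩
  · rintro ⟨a, rfl⟩
    exact (Additive.toMul (e a)).2
  · simp [hadd]
  · show ((Additive.toMul (e (ρ g a)) : V) : G) = _
    rw [hρ, hc]

/-- `p ^ n₀ - 1` is a power of a prime for an odd `p` only if that prime is two and `p` is a Fermat
prime. -/
theorem fermat_of_exception (hp2 : p ≠ 2) {q : ℕ} (hq : q.Prime) {n₀ b : ℕ} (hn : 1 ≤ n₀)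
    (hb : 1 ≤ b) (h : p ^ n₀ - 1 = q ^ b) : q = 2 ∧ ∃ k : ℕ, p = 2 ^ k + 1 := by
  have hp : p.Prime := Fact.out
  have hodd : Odd p := hp.odd_of_ne_two hp2
  have h2 : 2 ∣ q ^ b := by
    rw [← h]
    exact even_iff_two_dvd.1 (by
      rw [Nat.even_sub (Nat.one_le_pow _ _ hp.pos)]
      simp [hodd.pow, Nat.not_even_iff_odd.2 hodd, show n₀ ≠ 0 by omega, Nat.even_pow])
  obtain rfl : q = 2 := ((Nat.prime_dvd_prime_iff_eq Nat.prime_two hq).1
    (Nat.prime_two.dvd_of_dvd_pow h2)).symm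
  refine ⟨rfl, ?_⟩
  have h3 : p - 1 ∣ 2 ^ b := by
    rw [← h]
    simpa using Nat.sub_one_dvd_pow_sub_one p n₀
  obtain ⟨k, -, hk⟩ := (Nat.dvd_prime_pow Nat.prime_two).1 h3
  exact ⟨k, by have := hp.two_le; omega⟩

/-- Theorem B for the action on an elementary abelian self-centralizing normal subgroup. -/
theorem action_bound (hG : Cfsg.IsPSolvable p G) (V : Subgroup G) [V.Normal]
    (hCV : Subgroup.centralizer (V : Set G) ≤ V) (hcore : Cfsg.pCore p (G ⧸ V) = ⊥) {k : ℕ}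
    (e : (Fin k → ZMod p) → G) (hmem : ∀ g, g ∈ V ↔ ∃ a, e a = g)
    (ρ : G →* Module.End (ZMod p) (Fin k → ZMod p)) (hact : ∀ g a, e (ρ g a) = g * e a * g⁻¹)
    (heinj : Function.Injective e) (hab : ∀ v ∈ V, ∀ w ∈ V, v * w = w * v)
    (g : G) (n : ℕ) (hn : 1 ≤ n) (hgn : g ^ p ^ n ∈ V) (hgn' : g ^ p ^ (n - 1) ∉ V) :
    (ρ g - 1) ^ (p ^ n - 1) ≠ 0 ∨ ∃ n₀ q b : ℕ, 1 ≤ n₀ ∧ n₀ ≤ n ∧ q.Prime ∧ 1 ≤ b ∧
      p ^ n₀ - 1 = q ^ b ∧ ∀ S : Sylow q (G ⧸ V), ¬ IsMulCommutative S := by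
  classical
  by_cases hz : (ρ g - 1) ^ (p ^ n - 1) = 0
  swap
  · exact Or.inl hz
  right
  have hp : p.Prime := Fact.out
  have hVker : V ≤ ρ.ker := fun v hv => MonoidHom.mem_ker.2 (LinearMap.ext fun a => heinj (by
    rw [hact, Module.End.one_apply, hab v hv (e a) ((hmem _).2 ⟨a, rfl⟩), mul_inv_cancel_right]))
  obtain ⟨σ, hσ⟩ : ∃ σ : G ⧸ V →* Module.End (ZMod p) (Fin k → ZMod p),
      ∀ z, σ (QuotientGroup.mk' V z) = ρ z := ⟨QuotientGroup.lift V ρ hVker, fun _ => rfl⟩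
  have hσinj : Function.Injective σ := by
    rw [injective_iff_map_eq_one]
    intro z hz1
    obtain ⟨z, rfl⟩ := QuotientGroup.mk'_surjective V z
    rw [hσ] at hz1
    refine (QuotientGroup.eq_one_iff z).2 (hCV (Subgroup.mem_centralizer_iff.2 fun v hv => ?_))
    obtain ⟨a, rfl⟩ := (hmem v).1 hv
    have h1 := hact z a
    rw [hz1, Module.End.one_apply, eq_mul_inv_iff_mul_eq] at h1
    exact h1
  obtain ⟨x, hx⟩ : ∃ x, x = QuotientGroup.mk' V g := ⟨_, rfl⟩
  have hxn : x ^ p ^ n = 1 := by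
    rw [hx, ← map_pow]; exact (QuotientGroup.eq_one_iff _).2 hgn
  have hx1 : x ^ p ^ (n - 1) ≠ 1 := by
    rw [hx, ← map_pow]; exact fun h => hgn' ((QuotientGroup.eq_one_iff _).1 h)
  have hpsQ : Cfsg.IsPSolvable p (G ⧸ V) := isPSolvable_map hp hG _ (QuotientGroup.mk'_surjective V)
  have hR : (Nat.card (Cfsg.pPrimeCore p (G ⧸ V))).Coprime p := pPrimeCore_coprime p
  have hmove : ∃ r ∈ Cfsg.pPrimeCore p (G ⧸ V), ¬ Commute (x ^ p ^ (n - 1)) r := by
    by_contra hcon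
    push Not at hcon
    have hyR := centralizer_pPrimeCore_le hpsQ hcore
      (Subgroup.mem_centralizer_iff.2 fun z hz => (hcon z hz).eq.symm)
    have hyp : (x ^ p ^ (n - 1)) ^ p = 1 := by
      rw [← pow_mul, ← pow_succ, Nat.sub_add_cancel hn, hxn]
    exact hx1 (orderOf_eq_one_iff.1 (Nat.eq_one_of_dvd_coprimes hR
      (Subgroup.orderOf_dvd_natCard _ hyR) (orderOf_dvd_of_pow_eq_one hyp)))
  haveI : (Cfsg.pPrimeCore p (G ⧸ V)).Normal := pPrimeCore_normal p
  obtain ⟨q, hq, Q, hqp, -, hQ1, hQq, hxQ, hcl, hC, hQY⟩ := exists_min_moved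
    (Cfsg.pPrimeCore p (G ⧸ V)) x (by rw [Subgroup.normalizer_eq_top]; exact Subgroup.mem_top _) hR n hxn hmove
  obtain ⟨z, hz', hz1⟩ := (Subgroup.bot_or_exists_ne_one Q).resolve_left hQ1
  rcases rep_bound hqp Q hQq x hxQ hcl n hxn hC hQY σ
      ⟨z, hz', fun h => hz1 (hσinj (h.trans (map_one σ).symm))⟩ (p ^ n - 1)
      (by rw [hx, hσ]; exact hz) with h | ⟨n₀, b, h1, h2, h3, h4, h5, -⟩
  · have := Nat.one_le_pow n p hp.pos
    omega
  refine ⟨n₀, q, b, h1, h2, hq.out, h3, h4, fun S hS => h5 ⟨⟨fun u v => ?_⟩⟩⟩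
  obtain ⟨P, hQP⟩ := hQq.exists_le_sylow
  obtain ⟨h', rfl⟩ := MulAction.exists_smul_eq (G ⧸ V) S P
  have e' : ∀ w ∈ Q, h'⁻¹ * w * h' ∈ (S : Subgroup (G ⧸ V)) := fun w hw => by
    have h7 := hQP hw
    rw [Sylow.coe_subgroup_smul, Subgroup.mem_pointwise_smul_iff_inv_smul_mem] at h7
    simpa [MulAut.smul_def] using h7
  have h8 : (h'⁻¹ * (u : G ⧸ V) * h') * (h'⁻¹ * v * h') = (h'⁻¹ * v * h') * (h'⁻¹ * u * h') :=
    congrArg Subtype.val (hS.is_comm.comm ⟨_, e' u u.2⟩ ⟨_, e' v v.2⟩)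
  refine Subtype.ext (mul_left_cancel (a := h'⁻¹) (mul_right_cancel (b := h') ?_))
  show h'⁻¹ * ((u : G ⧸ V) * v) * h' = h'⁻¹ * ((v : G ⧸ V) * u) * h'
  simpa [mul_assoc] using h8

/-- The orbit sum is the top power of the difference. -/
theorem sum_pow_eq {A : Type*} [Ring A] [Algebra (ZMod p) A] (T : A) (n : ℕ) :
    ∑ i ∈ Finset.range (p ^ n), T ^ i = (T - 1) ^ (p ^ n - 1) := by
  have hpoly : ∑ i ∈ Finset.range (p ^ n), (Polynomial.X : Polynomial (ZMod p)) ^ i =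
      (Polynomial.X - 1) ^ (p ^ n - 1) := by
    refine mul_right_cancel₀ (by rw [← Polynomial.C_1]; exact Polynomial.X_sub_C_ne_zero 1 :
      (Polynomial.X - 1 : Polynomial (ZMod p)) ≠ 0) ?_
    rw [geom_sum_mul, ← pow_succ, Nat.sub_add_cancel (Nat.one_le_pow _ _ (Fact.out : p.Prime).pos),
      sub_pow_char_pow, one_pow]
  simpa using congrArg (Polynomial.aeval T) hpoly

/-- Powers of a product with an element of an elementary abelian normal subgroup. -/
theorem mul_pow_module {k : ℕ} (e : (Fin k → ZMod p) → G)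
    (ρ : G →* Module.End (ZMod p) (Fin k → ZMod p)) (hadd : ∀ a b, e (a + b) = e a * e b)
    (hact : ∀ g a, e (ρ g a) = g * e a * g⁻¹) (g : G) (a : Fin k → ZMod p) (N : ℕ) :
    (e a * g) ^ N = e ((∑ i ∈ Finset.range N, ρ g ^ i) a) * g ^ N := by
  have he0 : e 0 = 1 := mul_eq_left.1 (by rw [← hadd, add_zero] : e 0 * e 0 = e 0)
  induction N with
  | zero => simp [he0]
  | succ N ih =>
    rw [pow_succ', ih, Finset.sum_range_succ', pow_zero, LinearMap.add_apply, Module.End.one_apply,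
      add_comm, hadd, Finset.sum_congr rfl (fun i _ => pow_succ' (ρ g) i), ← Finset.mul_sum,
      Module.End.mul_apply, hact, pow_succ']
    group

/-- `p`-length one when a Sylow subgroup lies in the `p`-core. -/
theorem hasPSeries_one_of_sylow_le {G : Type u} [Group G] [Finite G] (P : Sylow p G)
    (h : (P : Subgroup G) ≤ Cfsg.pCore p G) : PLen.HasPSeries p 1 G := by
  haveI := Cfsg.pCore_normal p G
  refine PLen.HasPSeries.lift_p (Cfsg.pCore p G) (pCore_isPGroup p) (PLen.hasPSeries_of_coprime 0 ?_)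
  rw [← Subgroup.index_eq_card, Nat.coprime_comm, (Fact.out : p.Prime).coprime_iff_not_dvd]
  exact fun hd => P.not_dvd_index (hd.trans (Subgroup.index_dvd_of_le h))

end Cfsg.Agent.Solv.ThmB
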