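import Mathlib

/-!
Dimensions of fixed spaces for a group with a regularly acting group of operators.
-/

set_option autoImplicit false
set_option linter.style.haveILetI false

namespace Cfsg.Agent.Solv.FrobFix

universe u v w

variable {G : Type u} [Group G] {F : Type v} [Field F] {W : Type w} [AddCommGroup W] [Module F W]

/-- The common fixed space of a set of elements. -/
def fixS (ρ : G →* Module.End F W) (S : Set G) : Submodule F W :=
  ⨅ g ∈ S, LinearMap.ker (ρ g - 1)

theorem mem_fixS {ρ : G →* Module.End F W} {S : Set G} {x : W} : x ∈ fixS ρ S ↔ ∀ g ∈ S, ρ g x = x := by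
  simp only [fixS, Submodule.mem_iInf, LinearMap.mem_ker, LinearMap.sub_apply, Module.End.one_apply, sub_eq_zero]

theorem sum_char {Z : Type*} [CommGroup Z] [Fintype Z] (χ : Z →* Fˣ) (hχ : χ ≠ 1) :
    ∑ z : Z, (χ z : F) = 0 := by
  obtain ⟨a, ha⟩ : ∃ a, χ a ≠ 1 := by
    by_contra h
    push Not at h
    exact hχ (MonoidHom.ext h)
  have h1 : (χ a : F) * ∑ z : Z, (χ z : F) = ∑ z : Z, (χ z : F) := by
    rw [Finset.mul_sum]
    exact Fintype.sum_equiv (Equiv.mulLeft a) _ _ fun z => by simp [Units.val_mul]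
  have h2 : ((χ a : F) - 1) * ∑ z : Z, (χ z : F) = 0 := by rw [sub_mul, h1, one_mul, sub_self]
  exact (mul_eq_zero.1 h2).resolve_left (sub_ne_zero.2 fun h => ha (Units.ext h))

theorem finite_chars [IsAlgClosed F] (Z : Type*) [CommGroup Z] [Finite Z] (hZ : (Nat.card Z : F) ≠ 0) :
    Finite (Z →* Fˣ) ∧ ∀ a : Z, a ≠ 1 → ∃ χ : Z →* Fˣ, χ a ≠ 1 := by
  haveI : NeZero (Nat.card Z : F) := ⟨hZ⟩
  haveI : HasEnoughRootsOfUnity F (Monoid.exponent Z) :=
    haveI : NeZero (Nat.card Z) := ⟨Nat.card_pos.ne'⟩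
    HasEnoughRootsOfUnity.of_dvd F Group.exponent_dvd_nat_card
  refine ⟨Nat.finite_of_card_ne_zero ?_, fun a ha => CommGroup.exists_apply_ne_one_of_hasEnoughRootsOfUnity Z F ha⟩
  rw [CommGroup.card_monoidHom_of_hasEnoughRootsOfUnity Z F]
  exact Nat.card_pos.ne'

theorem sum_over_chars [IsAlgClosed F] {Z : Type*} [CommGroup Z] [Finite Z] (hZ : (Nat.card Z : F) ≠ 0)
    [Fintype (Z →* Fˣ)] {a : Z} (ha : a ≠ 1) : ∑ χ : Z →* Fˣ, (χ a : F) = 0 := by
  obtain ⟨ψ, hψ⟩ := (finite_chars (F := F) Z hZ).2 a ha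
  have h1 : (ψ a : F) * ∑ χ : Z →* Fˣ, (χ a : F) = ∑ χ : Z →* Fˣ, (χ a : F) := by
    rw [Finset.mul_sum]
    exact Fintype.sum_equiv (Equiv.mulLeft ψ) _ _ fun χ => by simp [Units.val_mul]
  have h2 : ((ψ a : F) - 1) * ∑ χ : Z →* Fˣ, (χ a : F) = 0 := by rw [sub_mul, h1, one_mul, sub_self]
  exact (mul_eq_zero.1 h2).resolve_left (sub_ne_zero.2 fun h => hψ (Units.ext h))

variable [Finite G]

/-- The splitting along a normal abelian subgroup on which `E` acts without fixed points. -/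
theorem split_step [IsAlgClosed F] [FiniteDimensional F W] (ρ : G →* Module.End F W) (Z E : Subgroup G) [Z.Normal]
    [IsMulCommutative Z] (hZ : (Nat.card Z : F) ≠ 0)
    (hfpf : ∀ e ∈ E, e ≠ 1 → ∀ z ∈ Z, e * z = z * e → z = 1) :
    ∃ r : ℕ, Module.finrank F W = Module.finrank F (fixS ρ (Z : Set G)) + Nat.card E * r ∧
      Module.finrank F (fixS ρ (E : Set G)) =
        Module.finrank F ↥(fixS ρ (E : Set G) ⊓ fixS ρ (Z : Set G)) + r := by
  classical
  open scoped IsMulCommutative in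
  haveI : Fintype Z := Fintype.ofFinite Z
  haveI : Fintype E := Fintype.ofFinite E
  haveI := (finite_chars (F := F) Z hZ).1
  haveI : Fintype (Z →* Fˣ) := Fintype.ofFinite _
  obtain ⟨N, hN⟩ : ∃ N : F, N = (Nat.card Z : F) := ⟨_, rfl⟩
  have hN0 : N ≠ 0 := hN ▸ hZ
  let e : (Z →* Fˣ) → Module.End F W := fun χ => N⁻¹ • ∑ z : Z, ((χ z)⁻¹ : Fˣ).val • ρ (z : G)
  have hρe : ∀ (χ : Z →* Fˣ) (a : Z), ρ (a : G) * e χ = (χ a : F) • e χ := fun χ a => by
    show ρ (a : G) * (N⁻¹ • ∑ z : Z, ((χ z)⁻¹ : Fˣ).val • ρ (z : G)) =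
      (χ a : F) • (N⁻¹ • ∑ z : Z, ((χ z)⁻¹ : Fˣ).val • ρ (z : G))
    rw [mul_smul_comm, Finset.mul_sum, smul_comm (χ a : F) N⁻¹]
    congr 1
    rw [Finset.smul_sum]
    refine Fintype.sum_equiv (Equiv.mulLeft a) _ _ fun z => ?_
    rw [Equiv.coe_mulLeft, mul_smul_comm, ← map_mul, smul_smul, Subgroup.coe_mul]
    congr 1
    rw [map_mul, mul_inv, Units.val_mul, ← mul_assoc, ← Units.val_mul, mul_inv_cancel, Units.val_one, one_mul]
  have hee : ∀ χ ψ : Z →* Fˣ, e χ * e ψ = if χ = ψ then e χ else 0 := fun χ ψ => by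
    have h1 : e χ * e ψ = (N⁻¹ * ∑ z : Z, ((χ⁻¹ * ψ) z : F)) • e ψ := by
      conv_lhs => rw [show e χ = N⁻¹ • ∑ z : Z, ((χ z)⁻¹ : Fˣ).val • ρ (z : G) from rfl]
      rw [smul_mul_assoc, Finset.sum_mul, mul_smul, Finset.sum_smul]
      refine congrArg _ (Finset.sum_congr rfl fun z _ => ?_)
      rw [smul_mul_assoc, hρe, smul_smul, ← Units.val_mul]
      rfl
    rw [h1]
    split_ifs with h
    · subst h
      have : ∑ z : Z, ((χ⁻¹ * χ) z : F) = N := by
        rw [Finset.sum_congr rfl (fun z _ => show ((χ⁻¹ * χ) z : F) = 1 by simp), hN, Nat.card_eq_fintype_card]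
        simp
      rw [this, inv_mul_cancel₀ hN0, one_smul]
    · rw [sum_char (χ⁻¹ * ψ) (fun h' => h (inv_mul_eq_one.1 h')), mul_zero, zero_smul]
  have hsum : ∑ χ : Z →* Fˣ, e χ = 1 := by
    simp only [e, ← Finset.smul_sum]
    rw [Finset.sum_comm, Finset.sum_eq_single (1 : Z)]
    · haveI : HasEnoughRootsOfUnity F (Monoid.exponent Z) :=
        haveI : NeZero (Nat.card Z : F) := ⟨hZ⟩
        haveI : NeZero (Nat.card Z) := ⟨Nat.card_pos.ne'⟩
        HasEnoughRootsOfUnity.of_dvd F Group.exponent_dvd_nat_card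
      simp only [map_one, inv_one, Units.val_one, one_smul, OneMemClass.coe_one]
      rw [Finset.sum_const, Finset.card_univ, ← Nat.card_eq_fintype_card,
        CommGroup.card_monoidHom_of_hasEnoughRootsOfUnity Z F, ← Nat.cast_smul_eq_nsmul F, smul_smul, ← hN,
        inv_mul_cancel₀ hN0, one_smul]
    · intro z _ hz
      rw [← Finset.sum_smul]
      have : ∑ χ : Z →* Fˣ, (((χ z)⁻¹ : Fˣ) : F) = 0 := by
        refine Eq.trans (Finset.sum_congr rfl fun χ _ => ?_) (sum_over_chars hZ (inv_ne_one.2 hz))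
        rw [map_inv]
      rw [this, zero_smul]
    · exact fun h => absurd (Finset.mem_univ _) h
  let c : G → (Z →* Z) := fun g => (MulAut.conjNormal (H := Z) g).toMonoidHom
  have hc : ∀ (g : G) (z : Z), ((c g z : Z) : G) = g * z * g⁻¹ := fun g z => MulAut.conjNormal_apply g z
  let act : G → (Z →* Fˣ) → (Z →* Fˣ) := fun g χ => χ.comp (c g⁻¹)
  have hact_mul : ∀ g h χ, act g (act h χ) = act (g * h) χ := fun g h χ => by
    refine MonoidHom.ext fun z => ?_
    show χ (c h⁻¹ (c g⁻¹ z)) = χ (c (g * h)⁻¹ z)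
    refine congrArg χ (Subtype.ext ?_)
    rw [hc, hc, hc]; group
  have hact_one : ∀ χ, act 1 χ = χ := fun χ => by
    refine MonoidHom.ext fun z => ?_
    show χ (c 1⁻¹ z) = χ z
    refine congrArg χ (Subtype.ext ?_)
    rw [hc]; group
  have hconj : ∀ (g : G) (χ : Z →* Fˣ), ρ g * e χ * ρ g⁻¹ = e (act g χ) := fun g χ => by
    simp only [e, mul_smul_comm, smul_mul_assoc, Finset.mul_sum, Finset.sum_mul]
    congr 1
    refine Fintype.sum_equiv (MulAut.conjNormal (H := Z) g).toEquiv _ _ fun z => ?_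
    show _ = ((χ (c g⁻¹ (c g z)))⁻¹ : Fˣ).val • ρ ((c g z : Z) : G)
    rw [hc, map_mul, map_mul, show c g⁻¹ (c g z) = z from Subtype.ext (by rw [hc, hc]; group)]
  have hfree : ∀ h ∈ E, h ≠ 1 → ∀ χ : Z →* Fˣ, act h χ = χ → χ = 1 := by
    intro h hh hh1 χ hχ
    have hsurj : Function.Surjective (fun z : Z => c h⁻¹ z * z⁻¹) := by
      refine Finite.injective_iff_surjective.1 fun a b hab => ?_
      have h2 : c h⁻¹ (b⁻¹ * a) = b⁻¹ * a := by
        have h3 : c h⁻¹ a * a⁻¹ = c h⁻¹ b * b⁻¹ := hab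
        rw [map_mul, map_inv, show c h⁻¹ a = c h⁻¹ b * b⁻¹ * a by rw [← h3, inv_mul_cancel_right]]
        group
      have h4 := hfpf h⁻¹ (inv_mem hh) (inv_ne_one.2 hh1) _ (b⁻¹ * a).2 (by
        have h5 := congrArg Subtype.val h2
        rw [hc] at h5
        exact mul_inv_eq_iff_eq_mul.1 h5)
      exact (inv_mul_eq_one.1 (Subtype.ext h4 : b⁻¹ * a = 1)).symm
    refine MonoidHom.ext fun z => ?_
    obtain ⟨y, rfl⟩ := hsurj z
    rw [MonoidHom.one_apply, map_mul, map_inv, mul_inv_eq_one]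
    exact DFunLike.congr_fun hχ y
  have hact1 : ∀ g, act g 1 = 1 := fun g => MonoidHom.ext fun z => rfl
  letI : MulAction E (Z →* Fˣ) :=
    { smul := fun h χ => act (h : G) χ
      one_smul := fun χ => hact_one χ
      mul_smul := fun g h χ => (hact_mul (g : G) (h : G) χ).symm }
  have hsmul : ∀ (h : E) (χ : Z →* Fˣ), h • χ = act (h : G) χ := fun _ _ => rfl
  obtain ⟨T, hT⟩ : ∃ T : Finset (Z →* Fˣ), ∀ χ, χ ∈ T ↔
      χ ≠ 1 ∧ (Quotient.mk (MulAction.orbitRel E (Z →* Fˣ)) χ).out = χ :=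
    ⟨Finset.univ.filter fun χ => χ ≠ 1 ∧ (Quotient.mk (MulAction.orbitRel E (Z →* Fˣ)) χ).out = χ,
      fun χ => by simp⟩
  have hTcover : ∀ χ : Z →* Fˣ, χ ≠ 1 → ∃ h : E, ∃ t ∈ T, h • t = χ := by
    intro χ hχ
    obtain ⟨t, ht⟩ : ∃ t, t = (Quotient.mk (MulAction.orbitRel E (Z →* Fˣ)) χ).out := ⟨_, rfl⟩
    have h1 : t ∈ MulAction.orbit E χ := by
      rw [← MulAction.orbitRel_apply, ht]
      exact Quotient.exact (Quotient.out_eq _)
    obtain ⟨h, hh⟩ := h1
    refine ⟨h⁻¹, t, (hT t).2 ⟨fun h1 => hχ ?_, ?_⟩, by rw [← hh]; exact inv_smul_smul h χ⟩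
    · rw [← inv_smul_smul h χ, show h • χ = t from hh, h1, hsmul]; exact hact1 _
    · rw [ht, Quotient.out_eq]
  have hTuniq : ∀ (h : E) (t : Z →* Fˣ), t ∈ T → ∀ s ∈ T, h • t = s → h = 1 ∧ t = s := by
    intro h t ht s hs hts
    have hq : Quotient.mk (MulAction.orbitRel E (Z →* Fˣ)) s = Quotient.mk (MulAction.orbitRel E (Z →* Fˣ)) t :=
      Quotient.sound (MulAction.orbitRel_apply.2 ⟨h, hts⟩)
    have heq : t = s := by rw [← ((hT t).1 ht).2, ← hq, ((hT s).1 hs).2]
    refine ⟨?_, heq⟩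
    by_contra hne
    exact ((hT t).1 ht).1 (hfree h h.2 (fun h1 => hne (Subtype.ext h1)) t (by rw [← hsmul, hts, heq]))
  obtain ⟨π, hπ⟩ : ∃ π : Module.End F W, π = ∑ t ∈ T, e t := ⟨_, rfl⟩
  have he1π : ∀ h : E, π * ρ (h : G) * e 1 = 0 := fun h => by
    have h1 : ρ (h : G) * e 1 = e 1 * ρ (h : G) := by
      have := hconj (h : G) 1
      rw [hact1] at this
      conv_rhs => rw [← this]
      rw [mul_assoc (ρ (h : G) * e 1), ← map_mul, inv_mul_cancel, map_one, mul_one]
    rw [mul_assoc, h1, ← mul_assoc, hπ, Finset.sum_mul, Finset.sum_eq_zero, zero_mul]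
    intro t ht
    rw [hee, if_neg ((hT t).1 ht).1]
  have hπe1 : e 1 * π = 0 := by
    rw [hπ, Finset.mul_sum, Finset.sum_eq_zero]
    intro t ht
    rw [hee, if_neg (Ne.symm ((hT t).1 ht).1)]
  have hππ : π * π = π := by
    rw [hπ, Finset.sum_mul]
    refine Finset.sum_congr rfl fun t ht => ?_
    rw [Finset.mul_sum, Finset.sum_eq_single t (fun s _ hs => by rw [hee, if_neg (Ne.symm hs)])
      (fun h => absurd ht h), hee, if_pos rfl]
  have hρπ : ∀ h : E, ρ (h : G) * π * ρ (h : G)⁻¹ = ∑ t ∈ T, e (h • t) := fun h => by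
    rw [hπ, Finset.mul_sum, Finset.sum_mul]
    exact Finset.sum_congr rfl fun t _ => hconj _ _
  have hπρπ : ∀ h : E, h ≠ 1 → π * ρ (h : G) * π = 0 := fun h hh => by
    have h1 : ρ (h : G) * π = (∑ t ∈ T, e (h • t)) * ρ (h : G) := by
      rw [← hρπ, mul_assoc (ρ (h : G) * π), ← map_mul, inv_mul_cancel, map_one, mul_one]
    rw [mul_assoc, h1, ← mul_assoc, hπ, Finset.sum_mul, Finset.sum_eq_zero, zero_mul]
    intro t ht
    rw [Finset.mul_sum, Finset.sum_eq_zero]
    intro s hs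
    rw [hee, if_neg]
    intro h2
    exact hh (hTuniq h s hs t ht h2.symm).1
  have hcomplete : e 1 + ∑ h : E, ρ (h : G) * π * ρ (h : G)⁻¹ = 1 := by
    rw [← hsum, Finset.sum_congr rfl fun h _ => hρπ h, ← Finset.sum_product',
      ← Finset.add_sum_erase _ e (Finset.mem_univ (1 : Z →* Fˣ))]
    congr 1
    refine Finset.sum_bij (fun q _ => q.1 • q.2) ?_ ?_ ?_ ?_
    · intro q hq
      rw [Finset.mem_product] at hq
      refine Finset.mem_erase.2 ⟨fun h => ((hT q.2).1 hq.2).1 ?_, Finset.mem_univ _⟩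
      rw [← inv_smul_smul q.1 q.2, h, hsmul]; exact hact1 _
    · intro a ha b hb hab
      rw [Finset.mem_product] at ha hb
      have h2 : (b.1⁻¹ * a.1) • a.2 = b.2 := by rw [mul_smul, hab, inv_smul_smul]
      obtain ⟨h3, h4⟩ := hTuniq _ _ ha.2 _ hb.2 h2
      exact Prod.ext (inv_mul_eq_one.1 h3).symm h4
    · intro χ hχ
      obtain ⟨h, t, ht, e'⟩ := hTcover χ (Finset.mem_erase.1 hχ).1
      exact ⟨(h, t), Finset.mem_product.2 ⟨Finset.mem_univ _, ht⟩, e'⟩
    · intro q _; rfl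
  obtain ⟨R, hR⟩ : ∃ R, R = LinearMap.range π := ⟨_, rfl⟩
  have hπR : ∀ x : R, π (x : W) = x := fun x => by
    obtain ⟨y, hy⟩ : (x : W) ∈ LinearMap.range π := hR ▸ x.2
    rw [← hy, ← Module.End.mul_apply, hππ]
  have hfixZ : ∀ x, x ∈ fixS ρ (Z : Set G) ↔ e 1 x = x := by
    intro x
    rw [mem_fixS]
    constructor
    · intro h
      simp only [e, LinearMap.smul_apply, LinearMap.sum_apply, MonoidHom.one_apply, inv_one, Units.val_one, one_smul]
      rw [Finset.sum_congr rfl fun (z : Z) _ => h (z : G) z.2, Finset.sum_const, Finset.card_univ,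
        ← Nat.card_eq_fintype_card, ← Nat.cast_smul_eq_nsmul F, smul_smul, ← hN, inv_mul_cancel₀ hN0, one_smul]
    · intro h g hg
      rw [← h, ← Module.End.mul_apply, show ρ g * e 1 = e 1 by
        simpa using hρe 1 ⟨g, hg⟩]
  have he1mem : ∀ x, e 1 x ∈ fixS ρ (Z : Set G) := fun x => by
    rw [hfixZ, ← Module.End.mul_apply, hee, if_pos rfl]
  have hinvZ : ∀ (g : G) (x : W), x ∈ fixS ρ (Z : Set G) → ρ g x ∈ fixS ρ (Z : Set G) := by
    intro g x hx
    rw [mem_fixS] at hx ⊢
    intro z hz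
    rw [← Module.End.mul_apply, ← map_mul, show z * g = g * (g⁻¹ * z * g) by group, map_mul, Module.End.mul_apply,
      hx _ (by have := (inferInstance : Z.Normal).conj_mem z hz g⁻¹; rwa [inv_inv] at this)]
  have hπfix : ∀ (h : E) (x : W), x ∈ fixS ρ (Z : Set G) → π (ρ (h : G) x) = 0 := fun h x hx => by
    rw [← (hfixZ x).1 hx, ← Module.End.mul_apply, ← Module.End.mul_apply, he1π, LinearMap.zero_apply]
  have hπρ : ∀ (k h : E) (x : R), π (ρ (k : G)⁻¹ (ρ (h : G) (x : W))) = if h = k then (x : W) else 0 := by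
    intro k h x
    split_ifs with hkh
    · subst hkh
      rw [← Module.End.mul_apply (ρ (h : G)⁻¹), ← map_mul, inv_mul_cancel, map_one, Module.End.one_apply, hπR]
    · rw [← Module.End.mul_apply (ρ (k : G)⁻¹), ← map_mul, ← hπR x,
        show ((k : G)⁻¹ * (h : G)) = ((k⁻¹ * h : E) : G) by simp, ← Module.End.mul_apply, ← Module.End.mul_apply,
        hπρπ _ (fun h' => hkh (inv_mul_eq_one.1 h').symm), LinearMap.zero_apply]
  have hdecomp : ∀ x : W, e 1 x + ∑ h : E, ρ (h : G) (π (ρ (h : G)⁻¹ x)) = x := fun x => by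
    conv_rhs => rw [← Module.End.one_apply (R := F) x, ← hcomplete]
    simp only [LinearMap.add_apply, LinearMap.sum_apply, Module.End.mul_apply]
  refine ⟨Module.finrank F R, ?_, ?_⟩
  · let L : W →ₗ[F] fixS ρ (Z : Set G) × (E → R) :=
      (LinearMap.codRestrict _ (e 1) he1mem).prod (LinearMap.pi fun h => LinearMap.codRestrict R (π.comp (ρ (h : G)⁻¹))
        (fun x => hR ▸ LinearMap.mem_range_self π _))
    have hL : Function.Bijective L := by
      refine ⟨fun a b hab => ?_, fun y => ?_⟩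
      · rw [← hdecomp a, ← hdecomp b]
        have h1 : e 1 a = e 1 b := congrArg Subtype.val (congrArg Prod.fst hab :)
        have h2 : ∀ h : E, π (ρ (h : G)⁻¹ a) = π (ρ (h : G)⁻¹ b) := fun h =>
          congrArg Subtype.val (congrFun (congrArg Prod.snd hab :) h)
        rw [h1, Finset.sum_congr rfl fun h _ => by rw [h2 h]]
      · refine ⟨(y.1 : W) + ∑ h : E, ρ (h : G) (y.2 h : W), Prod.ext (Subtype.ext ?_) (funext fun k => Subtype.ext ?_)⟩
        · show e 1 ((y.1 : W) + ∑ h : E, ρ (h : G) (y.2 h : W)) = (y.1 : W)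
          rw [map_add, (hfixZ _).1 y.1.2, map_sum, Finset.sum_eq_zero, add_zero]
          intro h _
          rw [← hπR (y.2 h), ← Module.End.mul_apply (e 1), ← Module.End.mul_apply]
          have h1 : e 1 * ρ (h : G) = ρ (h : G) * e 1 := by
            have := hconj (h : G) 1
            rw [hact1] at this
            conv_lhs => rw [← this]
            rw [mul_assoc (ρ (h : G) * e 1), ← map_mul, inv_mul_cancel, map_one, mul_one]
          rw [h1, mul_assoc, hπe1, mul_zero, LinearMap.zero_apply]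
        · show π (ρ (k : G)⁻¹ ((y.1 : W) + ∑ h : E, ρ (h : G) (y.2 h : W))) = (y.2 k : W)
          rw [map_add, map_add, map_sum, map_sum]
          have h0 := hπfix k⁻¹ _ y.1.2
          rw [Subgroup.coe_inv] at h0
          rw [h0, zero_add, Finset.sum_eq_single k (fun h _ hne => by rw [hπρ, if_neg hne])
            (fun h => absurd (Finset.mem_univ _) h), hπρ, if_pos rfl]
    rw [(LinearEquiv.ofBijective L hL).finrank_eq, Module.finrank_prod, Module.finrank_pi_fintype]
    simp [Finset.sum_const, Nat.card_eq_fintype_card]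
  · obtain ⟨P, hP⟩ : ∃ P, P = fixS ρ (E : Set G) := ⟨_, rfl⟩
    rw [← hP]
    have he1P : ∀ x ∈ P, e 1 x ∈ P := fun x hx => by
      rw [hP, mem_fixS] at hx ⊢
      intro g hg
      have h1 : ρ g * e 1 = e 1 * ρ g := by
        have := hconj g 1
        rw [hact1] at this
        conv_rhs => rw [← this]
        rw [mul_assoc (ρ g * e 1), ← map_mul, inv_mul_cancel, map_one, mul_one]
      rw [← Module.End.mul_apply, h1, Module.End.mul_apply, hx g hg]
    let L : P →ₗ[F] ↥(P ⊓ fixS ρ (Z : Set G)) × R :=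
      (LinearMap.codRestrict _ ((e 1).comp P.subtype) fun x => Submodule.mem_inf.2 ⟨he1P x x.2, he1mem _⟩).prod
        (LinearMap.codRestrict R (π.comp P.subtype) fun x => hR ▸ LinearMap.mem_range_self π _)
    have hL : Function.Bijective L := by
      refine ⟨fun a b hab => Subtype.ext ?_, fun y => ?_⟩
      · rw [← hdecomp a, ← hdecomp b]
        have h1 : e 1 (a : W) = e 1 (b : W) := congrArg (fun y : ↥(P ⊓ fixS ρ (Z : Set G)) × R => (y.1 : W)) hab
        have h2 : π (a : W) = π (b : W) := congrArg (fun y : ↥(P ⊓ fixS ρ (Z : Set G)) × R => (y.2 : W)) hab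
        rw [h1]
        congr 1
        refine Finset.sum_congr rfl fun h _ => ?_
        have ha := mem_fixS.1 (hP.le a.2); have hb := mem_fixS.1 (hP.le b.2)
        rw [ha _ (inv_mem h.2), hb _ (inv_mem h.2), h2]
      · refine ⟨⟨(y.1 : W) + ∑ h : E, ρ (h : G) (y.2 : W), ?_⟩, Prod.ext (Subtype.ext ?_) (Subtype.ext ?_)⟩
        · refine hP.ge (mem_fixS.2 ?_)
          intro g hg
          rw [map_add, map_sum, mem_fixS.1 (hP ▸ (Submodule.mem_inf.1 y.1.2).1) g hg]
          congr 1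
          refine Fintype.sum_equiv (Equiv.mulLeft (⟨g, hg⟩ : E)) _ _ fun h => ?_
          rw [Equiv.coe_mulLeft, Subgroup.coe_mul, map_mul, Module.End.mul_apply]
        · show e 1 ((y.1 : W) + ∑ h : E, ρ (h : G) (y.2 : W)) = (y.1 : W)
          rw [map_add, (hfixZ _).1 (Submodule.mem_inf.1 y.1.2).2, map_sum, Finset.sum_eq_zero, add_zero]
          intro h _
          rw [← hπR y.2, ← Module.End.mul_apply (e 1), ← Module.End.mul_apply]
          have h1 : e 1 * ρ (h : G) = ρ (h : G) * e 1 := by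
            have := hconj (h : G) 1
            rw [hact1] at this
            conv_lhs => rw [← this]
            rw [mul_assoc (ρ (h : G) * e 1), ← map_mul, inv_mul_cancel, map_one, mul_one]
          rw [h1, mul_assoc, hπe1, mul_zero, LinearMap.zero_apply]
        · show π ((y.1 : W) + ∑ h : E, ρ (h : G) (y.2 : W)) = (y.2 : W)
          have h0 := hπfix 1 _ (Submodule.mem_inf.1 y.1.2).2
          rw [OneMemClass.coe_one, map_one, Module.End.one_apply] at h0
          rw [map_add, map_sum, h0, zero_add, Finset.sum_eq_single (1 : E) (fun h _ hne => by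
            have := hπρ 1 h y.2
            rwa [OneMemClass.coe_one, inv_one, map_one, Module.End.one_apply, if_neg hne] at this)
            (fun h => absurd (Finset.mem_univ _) h), OneMemClass.coe_one, map_one, Module.End.one_apply, hπR]
    rw [(LinearEquiv.ofBijective L hL).finrank_eq, Module.finrank_prod]

/-- The fixed-space formula. -/
theorem fix_formula [IsAlgClosed F] (n : ℕ) : ∀ {G : Type u} [Group G] [Finite G] {W : Type w} [AddCommGroup W]
    [Module F W] [FiniteDimensional F W] (ρ : G →* Module.End F W) (U E : Subgroup G) [U.Normal],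
    Nat.card U = n → (Nat.card U : F) ≠ 0 → Group.IsNilpotent U →
    (∀ e ∈ E, e ≠ 1 → ∀ u ∈ U, e * u = u * e → u = 1) →
    Nat.card E * Module.finrank F (fixS ρ ((U : Set G) ∪ E)) + Module.finrank F W =
      Nat.card E * Module.finrank F (fixS ρ (E : Set G)) + Module.finrank F (fixS ρ (U : Set G)) := by
  induction n using Nat.strong_induction_on with
  | _ n ih =>
    intro G _ _ W _ _ _ ρ U E _ hn hU hnil hfpf
    classical
    by_cases hU1 : U = ⊥
    · subst hU1
      have h1 : fixS ρ ((⊥ : Subgroup G) : Set G) = ⊤ := eq_top_iff.2 fun x _ => mem_fixS.2 fun g hg => by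
        rw [Subgroup.coe_bot, Set.mem_singleton_iff] at hg
        rw [hg, map_one, Module.End.one_apply]
      have h2 : ((⊥ : Subgroup G) : Set G) ∪ (E : Set G) = (E : Set G) :=
        Set.union_eq_right.2 (SetLike.coe_subset_coe.2 bot_le)
      rw [h1, h2, finrank_top]
    obtain ⟨Z, hZ⟩ : ∃ Z, Z = (Subgroup.center U).map U.subtype := ⟨_, rfl⟩
    haveI : Z.Normal := hZ ▸ ConjAct.normal_of_characteristic_of_normal
    have hZU : Z ≤ U := hZ ▸ Subgroup.map_subtype_le _
    haveI : IsMulCommutative Z := ⟨⟨fun a b => Subtype.ext (by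
      obtain ⟨x, hx, hxe⟩ := hZ.le a.2
      obtain ⟨y, hy, hye⟩ := hZ.le b.2
      rw [Subgroup.coe_mul, Subgroup.coe_mul, ← hxe, ← hye, ← map_mul, ← map_mul,
        Subgroup.mem_center_iff.1 hy x])⟩⟩
    have hZ1 : Z ≠ ⊥ := by
      haveI := hnil
      haveI : Nontrivial U := (Subgroup.nontrivial_iff_ne_bot U).2 hU1
      intro h
      rw [hZ] at h
      exact Group.IsNilpotent.center_ne_bot (G := U)
        ((Subgroup.map_eq_bot_iff_of_injective _ U.subtype_injective).1 h)
    have hZc : (Nat.card Z : F) ≠ 0 := fun h => hU (by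
      obtain ⟨k, hk⟩ := Subgroup.card_dvd_of_le hZU
      rw [hk, Nat.cast_mul, h, zero_mul])
    obtain ⟨r, hr1, hr2⟩ := split_step ρ Z E hZc fun e he he1 z hz => hfpf e he he1 z (hZU hz)
    obtain ⟨W₀, hW₀⟩ : ∃ W₀, W₀ = fixS ρ (Z : Set G) := ⟨_, rfl⟩
    have hinv : ∀ g, ∀ x ∈ W₀, ρ g x ∈ W₀ := by
      intro g x hx
      rw [hW₀, mem_fixS] at hx ⊢
      intro z hz
      rw [← Module.End.mul_apply, ← map_mul, show z * g = g * (g⁻¹ * z * g) by group, map_mul,
        Module.End.mul_apply, hx _ (by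
          have := (inferInstance : Z.Normal).conj_mem z hz g⁻¹
          rwa [inv_inv] at this)]
    let ρ₁ : G →* Module.End F W₀ :=
      { toFun := fun g => (ρ g).restrict (hinv g)
        map_one' := LinearMap.ext fun x => Subtype.ext (by simp)
        map_mul' := fun g h => LinearMap.ext fun x => Subtype.ext (by simp) }
    have hker : Z ≤ ρ₁.ker := fun z hz => MonoidHom.mem_ker.2 (LinearMap.ext fun x => Subtype.ext (by
      have := mem_fixS.1 (hW₀.le x.2)
      simpa [ρ₁] using this z hz))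
    let ρ' : (G ⧸ Z) →* Module.End F W₀ := QuotientGroup.lift Z ρ₁ hker
    let q := QuotientGroup.mk' Z
    haveI : (U.map q).Normal := Subgroup.Normal.map inferInstance q (QuotientGroup.mk'_surjective Z)
    have hcU : Nat.card (U.map q) * Nat.card Z = Nat.card U := by
      have h2 := Subgroup.relIndex_mul_relIndex ⊥ Z U bot_le hZU
      rw [Subgroup.relIndex_bot_left, Subgroup.relIndex_bot_left] at h2
      rw [← Subgroup.relIndex_bot_left, ← Subgroup.relIndex_comap, MonoidHom.comap_bot, QuotientGroup.ker_mk',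
        mul_comm, h2]
    have hlt : Nat.card (U.map q) < n := by
      rw [← hn, ← hcU]
      exact lt_mul_of_one_lt_right Nat.card_pos (lt_of_le_of_ne Nat.card_pos fun h => hZ1 (Subgroup.card_eq_one.1 h.symm))
    have hinj : ∀ a ∈ E, q a = 1 → a = 1 := fun a ha h => by
      by_contra hne
      exact hne (hfpf a ha hne a (hZU ((QuotientGroup.eq_one_iff a).1 h)) rfl)
    have hcE : Nat.card (E.map q) = Nat.card E := by
      refine (Nat.card_congr (MulEquiv.ofBijective (q.subgroupMap E)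
        ⟨?_, q.subgroupMap_surjective E⟩).toEquiv).symm
      rw [injective_iff_map_eq_one]
      exact fun a ha => Subtype.ext (hinj a a.2 (congrArg Subtype.val ha))
    have hfpf' : ∀ e ∈ E.map q, e ≠ 1 → ∀ u ∈ U.map q, e * u = u * e → u = 1 := by
      rintro _ ⟨a, ha, rfl⟩ ha1 _ ⟨b, hb, rfl⟩ hab
      have hb2 : a * b * a⁻¹ * b⁻¹ ∈ Z := by
        rw [← QuotientGroup.eq_one_iff, ← QuotientGroup.mk'_apply]
        simp only [map_mul, map_inv]
        rw [show QuotientGroup.mk' Z a * QuotientGroup.mk' Z b = QuotientGroup.mk' Z b * QuotientGroup.mk' Z a from hab]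
        group
      have hsurj : Function.Surjective (fun z : Z => MulAut.conjNormal (H := Z) a z * z⁻¹) := by
        refine Finite.injective_iff_surjective.1 fun s t hst => ?_
        have h1 : a * s * a⁻¹ * (s : G)⁻¹ = a * t * a⁻¹ * (t : G)⁻¹ := by
          simpa [MulAut.conjNormal_apply] using congrArg Subtype.val hst
        have hst' : Commute (t : G) (s : G) := congrArg Subtype.val ((inferInstance : IsMulCommutative Z).is_comm.comm t s)
        have h2 : a * ((t : G)⁻¹ * s) = ((t : G)⁻¹ * s) * a := by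
          have h3 : a * (t : G)⁻¹ * s * a⁻¹ = (t : G)⁻¹ * s := by
            calc a * (t : G)⁻¹ * s * a⁻¹ = (a * t * a⁻¹)⁻¹ * (a * s * a⁻¹) := by group
              _ = (a * t * a⁻¹)⁻¹ * (a * t * a⁻¹ * (t : G)⁻¹ * s) := by rw [← h1]; group
              _ = _ := by group
          calc a * ((t : G)⁻¹ * s) = a * (t : G)⁻¹ * s * a⁻¹ * a := by group
            _ = _ := by rw [h3]
        have h4 := hfpf a ha (fun h => ha1 (by rw [h, map_one])) _ (hZU (mul_mem (inv_mem t.2) s.2)) h2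
        exact (inv_mul_eq_one.1 (Subtype.ext h4 : t⁻¹ * s = 1)).symm
      obtain ⟨z, hz⟩ := hsurj ⟨_, inv_mem hb2⟩
      have hz' : a * z * a⁻¹ * (z : G)⁻¹ = (a * b * a⁻¹ * b⁻¹)⁻¹ := by
        simpa [MulAut.conjNormal_apply] using congrArg Subtype.val hz
      have hfix : a * (z * b) = z * b * a := by
        have hbc : Commute (z : G) b := by
          obtain ⟨x, hx, hxe⟩ := hZ.le z.2
          rw [← hxe]
          exact (congrArg Subtype.val (Subgroup.mem_center_iff.1 hx ⟨b, hb⟩)).symm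
        calc a * (z * b) = (a * z * a⁻¹ * (z : G)⁻¹) * (z : G) * (a * b * a⁻¹ * b⁻¹) * b * a := by group
          _ = (a * b * a⁻¹ * b⁻¹)⁻¹ * ((z : G) * (a * b * a⁻¹ * b⁻¹)) * b * a := by rw [hz']; group
          _ = _ := by
            have hcm : (z : G) * (a * b * a⁻¹ * b⁻¹) = (a * b * a⁻¹ * b⁻¹) * z :=
              congrArg Subtype.val ((inferInstance : IsMulCommutative Z).is_comm.comm z ⟨_, hb2⟩)
            rw [hcm]
            group
      have h5 := hfpf a ha (fun h => ha1 (by rw [h, map_one])) _ (mul_mem (hZU z.2) hb) hfix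
      refine (QuotientGroup.eq_one_iff b).2 ?_
      rw [show b = (z : G)⁻¹ by rw [eq_inv_iff_mul_eq_one]; exact (mul_eq_one_comm).1 h5]
      exact inv_mem z.2
    haveI := hnil
    have hIH := ih _ hlt ρ' (U.map q) (E.map q) rfl (fun h => hU (by rw [← hcU, Nat.cast_mul, h, zero_mul]))
      (Group.nilpotent_of_surjective (q.subgroupMap U) (q.subgroupMap_surjective U)) hfpf'
    have hdim : ∀ S : Set G, Module.finrank F (fixS ρ' (q '' S)) = Module.finrank F ↥(fixS ρ S ⊓ W₀) := by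
      intro S
      refine LinearEquiv.finrank_eq ?_
      refine LinearEquiv.ofBijective
        (LinearMap.codRestrict (fixS ρ S ⊓ W₀) (W₀.subtype.comp (fixS ρ' (q '' S)).subtype) fun x => ⟨?_, (x : W₀).2⟩) ?_
      · have := x.2
        rw [SetLike.mem_coe, mem_fixS]
        intro g hg
        exact congrArg Subtype.val (mem_fixS.1 this (q g) ⟨g, hg, rfl⟩)
      · refine ⟨fun x y h => Subtype.ext (Subtype.ext (congrArg Subtype.val h :)), fun y => ?_⟩
        obtain ⟨y, hy1, hy2⟩ := y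
        refine ⟨⟨⟨y, hy2⟩, mem_fixS.2 ?_⟩, rfl⟩
        rintro _ ⟨g, hg, rfl⟩
        exact Subtype.ext (mem_fixS.1 hy1 g hg)
    have hle : ∀ S : Set G, (Z : Set G) ⊆ S → fixS ρ S ⊓ W₀ = fixS ρ S := fun S hS =>
      inf_eq_left.2 fun x hx => hW₀ ▸ mem_fixS.2 fun g hg => mem_fixS.1 hx g (hS hg)
    rw [hcE, Subgroup.coe_map, Subgroup.coe_map, ← Set.image_union, hdim, hdim, hdim,
      hle _ (SetLike.coe_subset_coe.2 hZU), hle _ ((SetLike.coe_subset_coe.2 hZU).trans Set.subset_union_left)] at hIH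
    rw [hW₀] at hIH
    rw [hr1, hr2, mul_add]
    omega

end Cfsg.Agent.Solv.FrobFix
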