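import Cfsg.Agent.Lib.Solv.Coprime
import Cfsg.Agent.Lib.Solv.FPF
import Cfsg.Agent.S1988
import Cfsg.Agent.Lib.Fusion.AbelianHall
import Cfsg.Agent.Lib.Perm.Schmidt

/-!
Thompson: a group with a fixed-point-free automorphism of prime order is nilpotent.
-/

set_option autoImplicit false

open scoped Pointwise commutatorElement

namespace Cfsg.Agent.Solv

universe u

variable {G : Type u} [Group G]

theorem map_conj_of_mem {H : Subgroup G} {g : G} (h : g ∈ Subgroup.normalizer (H : Set G)) :
    H.map (MulAut.conj g).toMonoidHom = H := by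
  rw [← conj_smul_eq_map]; exact conj_smul_of_mem_normalizer h

theorem mem_normalizer_of_map_conj {H : Subgroup G} {g : G}
    (h : H.map (MulAut.conj g).toMonoidHom = H) : g ∈ Subgroup.normalizer (H : Set G) :=
  mem_normalizer_of_conj_smul ((conj_smul_eq_map g H).trans h)

/-- No nontrivial module for a group with kernel `S` and fixed-point-free complement `⟨x⟩`. -/
theorem fpf_trivial [Finite G] (V S : Subgroup G) [IsMulCommutative V] {x : G} {r : ℕ} (hr : r.Prime)
    (hxr : x ^ r = 1) (hxV : x ∈ Subgroup.normalizer (V : Set G))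
    (hxS : x ∈ Subgroup.normalizer (S : Set G)) (hSV : S ≤ Subgroup.normalizer (V : Set G))
    (hfV : V ⊓ Subgroup.centralizer {x} = ⊥) (hfS : S ⊓ Subgroup.centralizer {x} = ⊥)
    (hCS : V ⊓ Subgroup.centralizer (S : Set G) = ⊥) (hco : (Nat.card V).Coprime (Nat.card S)) :
    V = ⊥ := by
  classical
  rw [eq_bot_iff]
  intro v₀ hv₀
  rw [Subgroup.mem_bot]
  letI : CommGroup V :=
    { (inferInstance : Group V) with mul_comm := fun x y => IsMulCommutative.is_comm.comm x y }
  have := Fintype.ofFinite S
  set N := Subgroup.normalizer (V : Set G) with hN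
  let φ : N → (V →* V) := fun g => conjHom (g : G) g.2
  have hφ : ∀ (g : N) (v : V), ((φ g v : V) : G) = g * v * (g : G)⁻¹ := fun g v => rfl
  have hφmul : ∀ g h : N, ∀ v, φ (g * h) v = φ g (φ h v) := fun g h v => Subtype.ext (by
    rw [hφ, hφ, hφ, Subgroup.coe_mul]; group)
  have hφ1 : ∀ v, φ 1 v = v := fun v => Subtype.ext (by rw [hφ]; simp)
  let sN : S → N := fun s => ⟨s, hSV s.2⟩
  set X : N := ⟨x, hxV⟩
  have hXr : X ^ r = 1 := Subtype.ext hxr
  set v : V := ⟨v₀, hv₀⟩
  have hnS : ∀ w : V, ∏ s : S, φ (sN s) w = 1 := by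
    intro w
    set m := ∏ s : S, φ (sN s) w with hm
    have hmem : (m : G) ∈ V ⊓ Subgroup.centralizer (S : Set G) := by
      refine ⟨m.2, Subgroup.mem_centralizer_iff.2 fun t ht => ?_⟩
      have hfix : φ (sN ⟨t, ht⟩) m = m := by
        rw [hm, map_prod]
        refine Fintype.prod_equiv (Equiv.mulLeft (⟨t, ht⟩ : S)) _ _ fun s => ?_
        rw [← hφmul]; rfl
      exact mul_inv_eq_iff_eq_mul.1 (congrArg Subtype.val hfix)
    rw [hCS, Subgroup.mem_bot] at hmem
    exact Subtype.ext hmem
  have hnX : ∀ w : V, ∏ i ∈ Finset.range r, φ (X ^ i) w = 1 := by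
    intro w
    set m := ∏ i ∈ Finset.range r, φ (X ^ i) w with hm
    have hmem : (m : G) ∈ V ⊓ Subgroup.centralizer ({x} : Set G) := by
      refine ⟨m.2, Subgroup.mem_centralizer_singleton_iff.2 ?_⟩
      have hfix : φ X m = m := by
        rw [hm, map_prod]
        have h1 : ∀ i, φ X (φ (X ^ i) w) = φ (X ^ (i + 1)) w := fun i => by rw [← hφmul, ← pow_succ']
        simp only [h1]
        have h3 := Finset.prod_range_succ' (fun i => φ (X ^ i) w) r
        rw [Finset.prod_range_succ, hXr, pow_zero] at h3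
        exact (mul_right_cancel h3).symm
      exact (mul_inv_eq_iff_eq_mul.1 (congrArg Subtype.val hfix)).symm
    rw [hfV, Subgroup.mem_bot] at hmem
    exact Subtype.ext hmem
  -- conjugated norms
  have hconj : ∀ s : S, ∏ i ∈ Finset.range r, φ (sN s * X ^ i * (sN s)⁻¹) v = 1 := by
    intro s
    calc ∏ i ∈ Finset.range r, φ (sN s * X ^ i * (sN s)⁻¹) v
        = ∏ i ∈ Finset.range r, φ (sN s) (φ (X ^ i) (φ (sN s)⁻¹ v)) :=
          Finset.prod_congr rfl fun i _ => by rw [mul_assoc, hφmul, hφmul]
      _ = φ (sN s) (∏ i ∈ Finset.range r, φ (X ^ i) (φ (sN s)⁻¹ v)) := (map_prod _ _ _).symm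
      _ = 1 := by rw [hnX, map_one]
  have hone : ∏ s : S, ∏ i ∈ Finset.range r, φ (sN s * X ^ i * (sN s)⁻¹) v = 1 :=
    Finset.prod_eq_one fun s _ => hconj s
  rw [Finset.prod_comm, Finset.prod_eq_single 0 ?_ (fun h => absurd (Finset.mem_range.2 hr.pos) h)] at hone
  · have h2 : v ^ Fintype.card S = 1 := by
      rw [← hone]
      simp only [pow_zero, mul_one, mul_inv_cancel, hφ1, Finset.prod_const, Finset.card_univ]
    rw [← Nat.card_eq_fintype_card] at h2
    have h3 : v = 1 := by
      rw [← orderOf_eq_one_iff]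
      exact Nat.eq_one_of_dvd_coprimes hco (orderOf_dvd_natCard v) (orderOf_dvd_of_pow_eq_one h2)
    exact congrArg Subtype.val h3
  intro i hi hi0
  have hir : i < r := Finset.mem_range.1 hi
  obtain ⟨k, hk⟩ : ∃ k : ℕ, (x ^ i) ^ k = x :=
    exists_pow_eq_self_of_coprime (((hr.coprime_iff_not_dvd.2 (Nat.not_dvd_of_pos_of_lt
      (Nat.pos_of_ne_zero hi0) hir)).symm).coprime_dvd_right (orderOf_dvd_of_pow_eq_one hxr))
  have hxiS : x ^ i ∈ Subgroup.normalizer (S : Set G) := Subgroup.pow_mem _ hxS i
  let t : S → S := fun s =>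
    ⟨(s : G) * ((x ^ i) * (s : G)⁻¹ * (x ^ i)⁻¹),
      S.mul_mem s.2 ((Subgroup.mem_normalizer_iff.1 hxiS _).1 (S.inv_mem s.2))⟩
  have ht : Function.Bijective t := by
    refine Finite.injective_iff_bijective.1 fun a b hab => ?_
    have h1 : (a : G) * (x ^ i * (a : G)⁻¹ * (x ^ i)⁻¹) = b * (x ^ i * (b : G)⁻¹ * (x ^ i)⁻¹) :=
      congrArg Subtype.val hab
    have h2 : ((b : G)⁻¹ * a) * x ^ i = x ^ i * ((b : G)⁻¹ * a) := by
      calc (b : G)⁻¹ * a * x ^ i
          = (b : G)⁻¹ * ((a : G) * (x ^ i * (a : G)⁻¹ * (x ^ i)⁻¹)) * (x ^ i * a) := by group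
        _ = (b : G)⁻¹ * ((b : G) * (x ^ i * (b : G)⁻¹ * (x ^ i)⁻¹)) * (x ^ i * a) := by rw [h1]
        _ = _ := by group
    have h3 : (b : G)⁻¹ * a ∈ S ⊓ Subgroup.centralizer ({x} : Set G) := by
      refine ⟨S.mul_mem (S.inv_mem b.2) a.2, Subgroup.mem_centralizer_singleton_iff.2 ?_⟩
      have h4 : Commute ((b : G)⁻¹ * a) ((x ^ i) ^ k) := (show Commute _ (x ^ i) from h2).pow_right k
      rw [hk] at h4
      exact h4.eq
    rw [hfS, Subgroup.mem_bot, inv_mul_eq_one] at h3
    exact Subtype.ext h3.symm
  calc ∏ s : S, φ (sN s * X ^ i * (sN s)⁻¹) v = ∏ s : S, φ (sN (t s)) (φ (X ^ i) v) := by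
        refine Finset.prod_congr rfl fun s _ => ?_
        rw [← hφmul]
        refine Subtype.ext ?_
        rw [hφ, hφ]
        show ((s : G) * x ^ i * (s : G)⁻¹) * (v : G) * ((s : G) * x ^ i * (s : G)⁻¹)⁻¹ =
          ((s : G) * ((x ^ i) * (s : G)⁻¹ * (x ^ i)⁻¹) * x ^ i) * (v : G) *
            ((s : G) * ((x ^ i) * (s : G)⁻¹ * (x ^ i)⁻¹) * x ^ i)⁻¹
        group
    _ = ∏ s : S, φ (sN s) (φ (X ^ i) v) := ht.prod_comp (fun s => φ (sN s) (φ (X ^ i) v))
    _ = 1 := hnS _

theorem fpf_nilpotent_aux : ∀ (n : ℕ) {G : Type u} [Group G] [Finite G] (K : Subgroup G) (x : G) (r : ℕ),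
    Nat.card K = n → r.Prime → x ^ r = 1 → x ∈ Subgroup.normalizer (K : Set G) →
    K ⊓ Subgroup.centralizer {x} = ⊥ → Group.IsNilpotent K := by
  intro n
  induction n using Nat.strong_induction_on with
  | _ n ih =>
    intro G _ _ K x r hn hr hxr hxK hfix
    have := Fact.mk hr
    rcases eq_or_ne x 1 with rfl | hx1
    · have hK : K = ⊥ := by
        rw [← hfix]
        exact (inf_eq_left.2 fun k _ => Subgroup.mem_centralizer_singleton_iff.2 (by simp)).symm
      subst hK
      exact inferInstance
    set A := Subgroup.zpowers x with hA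
    have hxA : x ∈ A := Subgroup.mem_zpowers x
    have hAr : Nat.card A = r := by rw [hA, Nat.card_zpowers, orderOf_eq_prime hxr hx1]
    have hAle : ∀ {H : Subgroup G}, x ∈ Subgroup.normalizer (H : Set G) →
        A ≤ Subgroup.normalizer (H : Set G) := fun h => Subgroup.zpowers_le.2 h
    have hfA : ∀ a ∈ A, a ≠ 1 → K ⊓ Subgroup.centralizer {a} = ⊥ := by
      intro a ha ha1
      rw [eq_bot_iff]
      rintro k ⟨hk, hkc⟩
      rw [← hfix]
      refine ⟨hk, Subgroup.mem_centralizer_singleton_iff.2 ?_⟩
      have heq : Subgroup.zpowers a = A := by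
        refine Subgroup.eq_of_le_of_card_ge (Subgroup.zpowers_le.2 ha) (le_of_eq ?_)
        rw [hAr, Nat.card_zpowers]
        refine (orderOf_eq_prime ?_ ha1).symm
        obtain ⟨i, rfl⟩ := ha
        show (x ^ i) ^ r = 1
        rw [← zpow_natCast, ← zpow_mul, mul_comm, zpow_mul, zpow_natCast, hxr, one_zpow]
      obtain ⟨i, hi⟩ := heq.ge hxA
      rw [← (hi : a ^ i = x)]
      exact ((show Commute k a from Subgroup.mem_centralizer_singleton_iff.1 hkc).zpow_right i).eq
    have hAK := hAle hxK
    have hco : (Nat.card A).Coprime (Nat.card K) := fpf_coprime hAK hfA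
    letI : CommGroup A := IsCyclic.commGroup
    have hsolA : Group.IsSolvable A := inferInstance
    have hsub : ∀ {L : Subgroup G}, L ≤ K → L ⊓ Subgroup.centralizer {x} = ⊥ := fun hL =>
      eq_bot_iff.2 ((inf_le_inf_right _ hL).trans hfix.le)
    have hprop : ∀ L : Subgroup G, L ≤ K → L ≠ K → x ∈ Subgroup.normalizer (L : Set G) →
        Group.IsNilpotent L := fun L hL hne hxL =>
      ih _ (hn ▸ card_lt_of_lt (lt_of_le_of_ne hL hne)) L x r rfl hr hxr hxL (hsub hL)
    by_cases hN : ∃ N : Subgroup G, N ≤ K ∧ K ≤ Subgroup.normalizer (N : Set G) ∧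
        x ∈ Subgroup.normalizer (N : Set G) ∧ N ≠ ⊥ ∧ N ≠ K
    · obtain ⟨N₀, hN₀⟩ := hN
      obtain ⟨N, hNN₀, hmin⟩ := Finite.exists_le_minimal (p := fun N : Subgroup G =>
        N ≤ K ∧ K ≤ Subgroup.normalizer (N : Set G) ∧ x ∈ Subgroup.normalizer (N : Set G) ∧ N ≠ ⊥)
        (a := N₀) ⟨hN₀.1, hN₀.2.1, hN₀.2.2.1, hN₀.2.2.2.1⟩
      obtain ⟨hNK, hKN, hxN, hNb⟩ := hmin.1
      have hNne : N ≠ K := fun e => hN₀.2.2.2.2 (le_antisymm hN₀.1 (e.ge.trans hNN₀))
      have hmin' : ∀ L : Subgroup G, L ≤ N → K ≤ Subgroup.normalizer (L : Set G) →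
          x ∈ Subgroup.normalizer (L : Set G) → L = ⊥ ∨ L = N := by
        intro L hL h1 h2
        by_cases hLb : L = ⊥
        · exact Or.inl hLb
        · exact Or.inr (le_antisymm hL (hmin.2 ⟨hL.trans hNK, h1, h2, hLb⟩ hL))
      have hNnil := hprop N hNK hNne hxN
      have : Nontrivial N := (Subgroup.nontrivial_iff_ne_bot N).2 hNb
      -- `N` is an abelian `q`-group
      have hNcomm : ⁅N, N⁆ = ⊥ := by
        have hcn : ∀ g ∈ Subgroup.normalizer (N : Set G),
            g ∈ Subgroup.normalizer ((⁅N, N⁆ : Subgroup G) : Set G) := fun g hg => mem_normalizer_of_map_conj (by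
          rw [Subgroup.map_commutator, map_conj_of_mem hg])
        refine (hmin' ⁅N, N⁆ (Subgroup.commutator_le_self N) (fun g hg => hcn g (hKN hg))
          (hcn x hxN)).resolve_right fun h => ?_
        have hlt : commutator N < ⊤ := Group.IsSolvable.commutator_lt_top_of_nontrivial N
        have h2 : (commutator N).map N.subtype = N := by
          rw [commutator_def, Subgroup.map_commutator, ← MonoidHom.range_eq_map, Subgroup.range_subtype, h]
        exact hlt.ne (Subgroup.map_injective N.subtype_injective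
          (h2.trans (by rw [← MonoidHom.range_eq_map, Subgroup.range_subtype])))
      have hNab : ∀ a ∈ N, ∀ b ∈ N, a * b = b * a := fun a ha b hb => by
        rw [← commutatorElement_eq_one_iff_mul_comm, ← Subgroup.mem_bot, ← hNcomm]
        exact Subgroup.commutator_mem_commutator ha hb
      have : IsMulCommutative N := ⟨⟨fun a b => Subtype.ext (hNab a a.2 b b.2)⟩⟩
      obtain ⟨q, hq, hqN⟩ := Nat.exists_prime_and_dvd (n := Nat.card N)
        (fun h => hNb (Subgroup.card_eq_one.1 h))
      have := Fact.mk hq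
      obtain ⟨T, hT⟩ := exists_isSylIn q N
      have hTN : T = N := by
        have hTn : ∀ g ∈ Subgroup.normalizer (N : Set G), g ∈ Subgroup.normalizer (T : Set G) := by
          intro g hg
          obtain ⟨k, hk, e⟩ := hT.exists_conj (hT.conj hg)
          refine mem_normalizer_of_conj_smul (e.symm.trans (conj_smul_of_mem_normalizer ?_))
          refine Subgroup.centralizer_le_normalizer _ (Subgroup.mem_centralizer_iff.2 fun t ht => ?_)
          exact hNab t (hT.1 ht) k hk
        refine (hmin' T hT.1 (fun g hg => hTn g (hKN hg)) (hTn x hxN)).resolve_left fun h => ?_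
        have h1 := hT.2
        rw [h, Subgroup.card_bot] at h1
        rcases Nat.pow_eq_one.1 h1.symm with h' | h'
        · exact hq.ne_one h'
        · exact (hq.factorization_pos_of_dvd Nat.card_pos.ne' hqN).ne' h'
      have hNq : IsPGroup q N := hTN ▸ hT.isPGroup
      -- the quotient is nilpotent
      set M := Subgroup.normalizer (N : Set G) with hM
      have hNn : (N.subgroupOf M).Normal := Subgroup.normal_subgroupOf_of_le_normalizer le_rfl
      set π := QuotientGroup.mk' (N.subgroupOf M)
      set K' := (K.subgroupOf M).map π with hK'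
      have hK'lt : Nat.card K' < n := by
        have h := card_map_mk'_mul_card_inf (N.subgroupOf M) (K.subgroupOf M)
        have hinf : N.subgroupOf M ⊓ K.subgroupOf M = N.subgroupOf M :=
          inf_eq_left.2 fun m hm => hNK hm
        rw [hinf, card_subgroupOf (hNK.trans hKN), card_subgroupOf hKN, hn] at h
        rw [← h]
        exact lt_mul_of_one_lt_right Nat.card_pos ((Subgroup.one_lt_card_iff_ne_bot N).2 hNb)
      have hK'nil : Group.IsNilpotent K' := by
        refine ih _ hK'lt K' (π ⟨x, hxN⟩) r rfl hr ?_ ?_ ?_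
        · rw [← map_pow]
          exact (congrArg π (Subtype.ext hxr : (⟨x, hxN⟩ : M) ^ r = 1)).trans (map_one π)
        · refine Subgroup.le_normalizer_map π ⟨⟨x, hxN⟩, ?_, rfl⟩
          exact Subgroup.mem_normalizer_iff.2 fun m => Subgroup.mem_normalizer_iff.1 hxK (m : G)
        · rw [eq_bot_iff]
          rintro _ ⟨⟨k, hk, rfl⟩, hkc⟩
          have hc : π k * π ⟨x, hxN⟩ = π ⟨x, hxN⟩ * π k := Subgroup.mem_centralizer_singleton_iff.1 hkc
          have hx' : ∀ a ∈ A, (k : G)⁻¹ * (a * k * a⁻¹) ∈ N := by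
            rintro a ⟨i, rfl⟩
            have hci : Commute (π ⟨x, hxN⟩ ^ i) (π k) := (show Commute _ _ from hc.symm).zpow_left i
            have h2 : π (k⁻¹ * ((⟨x, hxN⟩ : M) ^ i * k * ((⟨x, hxN⟩ : M) ^ i)⁻¹)) = 1 := by
              rw [map_mul, map_inv, map_mul, map_mul, map_inv, map_zpow, hci.eq, mul_inv_cancel_right,
                inv_mul_cancel]
            have h3 := (QuotientGroup.eq_one_iff
              (k⁻¹ * ((⟨x, hxN⟩ : M) ^ i * k * ((⟨x, hxN⟩ : M) ^ i)⁻¹))).1 h2
            rw [Subgroup.mem_subgroupOf] at h3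
            simpa using h3
          obtain ⟨c, hc1, hc2⟩ := exists_fixed_in_coset' A K N hAK hco (Or.inl hsolA) hNK (hAle hxN)
            (hk : (k : G) ∈ K) hx'
          have hc0 : c = 1 := by
            rw [← Subgroup.mem_bot, ← hfix]
            exact ⟨hc1.1, Subgroup.mem_centralizer_singleton_iff.2
              (Subgroup.mem_centralizer_iff.1 hc1.2 x hxA).symm⟩
          rw [hc0, mul_one] at hc2
          rw [Subgroup.mem_bot]
          exact (QuotientGroup.eq_one_iff k).2 (N.inv_mem_iff.1 hc2)
      let f : K →* K' := (π.comp (Subgroup.inclusion hKN)).codRestrict K'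
        (fun k => ⟨Subgroup.inclusion hKN k, k.2, rfl⟩)
      have hf : Function.Surjective f := by
        rintro ⟨_, m, hm, rfl⟩
        exact ⟨⟨m, hm⟩, rfl⟩
      have hker : f.ker = N.subgroupOf K := by
        ext k
        show f k = 1 ↔ _
        rw [Subtype.ext_iff]
        exact (QuotientGroup.eq_one_iff (Subgroup.inclusion hKN k))
      -- every Sylow subgroup is normal
      refine Cfsg.Agent.Perm.nilpotent_of_sylow_normal fun s hsF P => ?_
      have hs : s.Prime := hsF.out
      obtain ⟨S, hS, hAS⟩ := exists_invariant_sylow hAK hco (Or.inl hsolA) s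
      suffices hKS : K ≤ Subgroup.normalizer (S : Set G) by
        obtain ⟨S', hS'⟩ := hS.exists_sylow
        have hS'n : (S' : Subgroup K).Normal := by
          have h := Subgroup.normal_subgroupOf_of_le_normalizer hKS
          rwa [← hS', Subgroup.subgroupOf, Subgroup.comap_map_eq_self_of_injective K.subtype_injective] at h
        have := Sylow.unique_of_normal S' hS'n
        rw [Subsingleton.elim P S']
        exact hS'n
      set L := N ⊔ S with hL
      have hLK : L ≤ K := sup_le hNK hS.1
      have hKL : K ≤ Subgroup.normalizer (L : Set G) := by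
        obtain ⟨S', hS'⟩ := hS.exists_sylow
        have h1 : ((S'.mapSurjective hf : Sylow s K') : Subgroup K').Normal :=
          Cfsg.Agent.Perm.sylow_normal_of_nilpotent hK'nil _
        rw [Sylow.coe_mapSurjective] at h1
        have h2 := h1.comap f
        rw [Subgroup.comap_map_eq, hker] at h2
        intro k hk
        refine mem_normalizer_of_conj_smul (Subgroup.eq_of_le_of_card_ge ?_ (by rw [card_conj_smul]))
        have hmap : ((S' : Subgroup K) ⊔ N.subgroupOf K).map K.subtype = L := by
          rw [Subgroup.map_sup, hS', Subgroup.map_subgroupOf_eq_of_le hNK, hL, sup_comm]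
        rw [conj_smul_eq_map, ← hmap]
        rintro _ ⟨_, ⟨u, hu, rfl⟩, rfl⟩
        exact ⟨⟨k, hk⟩ * u * ⟨k, hk⟩⁻¹, h2.conj_mem u hu _, rfl⟩
      by_cases hNS : N ≤ S
      · rwa [hL, sup_eq_right.2 hNS] at hKL
      have hxS : x ∈ Subgroup.normalizer (S : Set G) := hAS hxA
      have hxL : x ∈ Subgroup.normalizer (L : Set G) := mem_normalizer_of_map_conj (by
        rw [hL, Subgroup.map_sup, map_conj_of_mem hxN, map_conj_of_mem hxS])
      have hSL : IsSylIn s S L := by
        refine ⟨le_sup_right, ?_⟩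
        have := Fact.mk hs
        refine le_antisymm ?_ ?_
        · rw [hS.2]
          refine Nat.pow_le_pow_right hs.pos ((hs.pow_dvd_iff_le_factorization Nat.card_pos.ne').1 ?_)
          rw [← hS.2]
          exact Subgroup.card_dvd_of_le le_sup_right
        · rw [hS.2]
          exact Nat.pow_le_pow_right hs.pos
            ((Nat.factorization_le_iff_dvd Nat.card_pos.ne' Nat.card_pos.ne').2 (Subgroup.card_dvd_of_le hLK) s)
      have hLS : L ≠ K → L ≤ Subgroup.normalizer (S : Set G) := by
        intro hne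
        obtain ⟨S', hS'⟩ := hSL.exists_sylow
        have hn' := Cfsg.Agent.Perm.sylow_normal_of_nilpotent (hprop L hLK hne hxL) S'
        intro l hl
        refine mem_normalizer_of_conj_smul (Subgroup.eq_of_le_of_card_ge ?_ (by rw [card_conj_smul]))
        rw [conj_smul_eq_map, ← hS']
        rintro _ ⟨_, ⟨u, hu, rfl⟩, rfl⟩
        exact ⟨⟨l, hl⟩ * u * ⟨l, hl⟩⁻¹, hn'.conj_mem u hu _, rfl⟩
      by_cases hLeq : L = K
      · -- `K = N S`
        have hSN : S ≤ Subgroup.normalizer (N : Set G) := hS.1.trans hKN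
        set V := N ⊓ Subgroup.centralizer (S : Set G) with hV
        have hxC : x ∈ Subgroup.normalizer ((Subgroup.centralizer (S : Set G) : Subgroup G) : Set G) := by
          refine mem_normalizer_of_conj_smul (Subgroup.eq_of_le_of_card_ge ?_ (by rw [card_conj_smul]))
          rw [conj_smul_eq_map]
          rintro _ ⟨c, hc, rfl⟩
          refine Subgroup.mem_centralizer_iff.2 fun u hu => ?_
          have hu' : x⁻¹ * u * x ∈ S := by
            rw [Subgroup.mem_normalizer_iff.1 hxS, show x * (x⁻¹ * u * x) * x⁻¹ = u by group]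
            exact hu
          show u * (x * c * x⁻¹) = x * c * x⁻¹ * u
          calc u * (x * c * x⁻¹) = x * ((x⁻¹ * u * x) * c) * x⁻¹ := by group
            _ = x * (c * (x⁻¹ * u * x)) * x⁻¹ := by rw [Subgroup.mem_centralizer_iff.1 hc _ hu']
            _ = _ := by group
        have hxVn : x ∈ Subgroup.normalizer (V : Set G) := mem_normalizer_of_conj_smul (by
          rw [hV, Subgroup.smul_inf, conj_smul_of_mem_normalizer hxN, conj_smul_of_mem_normalizer hxC])
        have hKV : K ≤ Subgroup.normalizer (V : Set G) := by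
          rw [← hLeq, hL]
          refine sup_le (fun t ht => Subgroup.centralizer_le_normalizer _
            (Subgroup.mem_centralizer_iff.2 fun v hv => hNab v hv.1 t ht)) fun t ht => ?_
          refine mem_normalizer_of_conj_smul (Subgroup.eq_of_le_of_card_ge ?_ (by rw [card_conj_smul]))
          rw [conj_smul_eq_map]
          rintro _ ⟨v, hv, rfl⟩
          show t * v * t⁻¹ ∈ V
          rwa [Subgroup.mem_centralizer_iff.1 hv.2 t ht, mul_inv_cancel_right]
        rcases hmin' V inf_le_left hKV hxVn with hV0 | hV0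
        · exfalso
          refine hNb (fpf_trivial N S hr hxr hxN hxS hSN (hsub hNK) (hsub hS.1) hV0 ?_)
          obtain ⟨k, hk⟩ := IsPGroup.iff_card.1 hNq
          have := Fact.mk hs
          obtain ⟨j, hj⟩ := IsPGroup.iff_card.1 hS.isPGroup
          rw [hk, hj]
          refine Nat.Coprime.pow _ _ ((Nat.coprime_primes hq hs).2 ?_)
          rintro rfl
          refine hNS ?_
          have hsup : IsPGroup q (S ⊔ N : Subgroup G) := hS.isPGroup.to_sup_of_normal_right' hNq hSN
          exact (le_sup_right : N ≤ S ⊔ N).trans (hS.eq_of_le hsup (sup_le hS.1 hNK) le_sup_left).ge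
        · rw [← hLeq, hL]
          refine sup_le (fun t ht => Subgroup.centralizer_le_normalizer _ ?_) Subgroup.le_normalizer
          have h1 : N ≤ Subgroup.centralizer (S : Set G) := hV0 ▸ inf_le_right
          exact h1 ht
      · intro k hk
        have hkL := hKL hk
        have := Fact.mk hs
        obtain ⟨l, hl, e⟩ := hSL.exists_conj (hSL.conj hkL)
        exact mem_normalizer_of_conj_smul
          (e.symm.trans (conj_smul_of_mem_normalizer (hLS hLeq hl)))
    -- no proper invariant normal subgroup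
    by_cases hodd : ∃ q, q.Prime ∧ q ≠ 2 ∧ q ∣ Nat.card K
    swap
    · have := Fact.mk Nat.prime_two
      refine IsPGroup.isNilpotent (p := 2) (IsPGroup.of_card (n := (Nat.card K).primeFactorsList.length) ?_)
      exact Nat.eq_prime_pow_of_unique_prime_dvd Nat.card_pos.ne'
        (fun {d} hd hdK => by_contra fun h => hodd ⟨d, hd, h, hdK⟩)
    obtain ⟨q, hq, hq2, hqK⟩ := hodd
    have := Fact.mk hq
    obtain ⟨Q, hQ, hAQ⟩ := exists_invariant_sylow hAK hco (Or.inl hsolA) q
    have hxQ : x ∈ Subgroup.normalizer (Q : Set G) := hAQ hxA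
    obtain ⟨P, hP⟩ := hQ.exists_sylow
    have hW := Fusion.isCharPFunctor_kInfLower.{u} q
    set W := inducedFunctor (G := K) kInfLower (P : Subgroup K) with hWdef
    have hWG : inducedFunctor (G := G) kInfLower Q = W.map K.subtype := by
      rw [← hP, Fusion.inducedFunctor_map_of_injOn hW K.subtype K.subtype_injective.injOn P.isPGroup']
    have hxW : x ∈ Subgroup.normalizer ((W.map K.subtype : Subgroup G) : Set G) := by
      refine mem_normalizer_of_map_conj ?_
      rw [← hWG, ← Fusion.inducedFunctor_map_of_injOn hW (MulAut.conj x).toMonoidHom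
        (MulAut.conj x).injective.injOn hQ.isPGroup, map_conj_of_mem hxQ]
    have hPne : Nontrivial (P : Subgroup K) := by
      apply Finite.one_lt_card_iff_nontrivial.1
      rw [P.card_eq_multiplicity]
      exact Nat.one_lt_pow (hq.factorization_pos_of_dvd Nat.card_pos.ne' hqK).ne' hq.one_lt
    have hWne : W ≠ ⊥ := by
      intro h
      rw [hWdef, inducedFunctor, Subgroup.map_eq_bot_iff_of_injective _ (Subgroup.subtype_injective _)] at h
      exact hW.1 (P : Subgroup K) P.isPGroup' hPne h
    have hWP : W ≤ P := Subgroup.map_subtype_le _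
    set Mk := (Subgroup.normalizer (W : Set K)).map K.subtype with hMk
    have hMkK : Mk ≤ K := Subgroup.map_subtype_le _
    by_cases hMe : Mk = K
    · have hKW : K ≤ Subgroup.normalizer ((W.map K.subtype : Subgroup G) : Set G) := fun k hk => by
        obtain ⟨k', hk', rfl⟩ := hMe.ge hk
        exact Subgroup.le_normalizer_map K.subtype ⟨k', hk', rfl⟩
      have hWeq : W.map K.subtype = K := by
        by_contra hne
        exact hN ⟨_, Subgroup.map_subtype_le W, hKW, hxW,
          fun h => hWne ((Subgroup.map_eq_bot_iff_of_injective W K.subtype_injective).1 h), hne⟩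
      have hKp : IsPGroup q K := (hQ.isPGroup).to_le (by
        rw [← hWeq, ← hP]; exact Subgroup.map_mono hWP)
      exact IsPGroup.isNilpotent (p := q) hKp
    have hxMk : x ∈ Subgroup.normalizer (Mk : Set G) := by
      have hMeq : Mk = K ⊓ Subgroup.normalizer ((W.map K.subtype : Subgroup G) : Set G) := by
        have h := Fusion.map_normalizer_inf K.subtype K.subtype_injective W
        rwa [top_inf_eq, Subgroup.range_subtype] at h
      rw [hMeq]
      refine mem_normalizer_of_conj_smul ?_
      rw [Subgroup.smul_inf, conj_smul_of_mem_normalizer hxK,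
        conj_smul_of_mem_normalizer (Subgroup.le_normalizer hxW)]
    have hnil : Group.IsNilpotent (Subgroup.normalizer (W : Set K)) := by
      have := hprop Mk hMkK hMe hxMk
      exact Group.nilpotent_of_mulEquiv
        (Subgroup.equivMapOfInjective _ K.subtype K.subtype_injective).symm
    have hnpc : HasNormalPComplement q K := S1988.result hq2 P (Or.inl Fusion.hnpc_of_isNilpotent)
    obtain ⟨C, hCn, hC⟩ := Fusion.hnpc_exists_complement hnpc P
    have hCchar : C = pResidual q K := Fusion.eq_pResidual_of_isComplement' hC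
    set R := C.map K.subtype with hR
    have hinv : ∀ g ∈ Subgroup.normalizer (K : Set G), g ∈ Subgroup.normalizer (R : Set G) := by
      intro g hg
      refine mem_normalizer_of_conj_smul (Subgroup.eq_of_le_of_card_ge ?_ (by rw [card_conj_smul]))
      rw [conj_smul_eq_map, hR, hCchar, Subgroup.map_map, pResidual, MonoidHom.map_closure,
        MonoidHom.map_closure]
      refine Subgroup.closure_mono ?_
      rintro _ ⟨k, hk, rfl⟩
      refine ⟨⟨g * k * g⁻¹, (Subgroup.mem_normalizer_iff.1 hg _).1 k.2⟩, ?_, rfl⟩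
      show (orderOf _).Coprime q
      rw [Subgroup.orderOf_mk, ← MulAut.conj_apply, MulEquiv.orderOf_eq, Subgroup.orderOf_coe]
      exact hk
    have hRK : R ≤ K := Subgroup.map_subtype_le C
    by_cases hR0 : R = ⊥
    · rw [hR, Subgroup.map_eq_bot_iff_of_injective _ K.subtype_injective] at hR0
      have hPt : (P : Subgroup K) = ⊤ := by
        have h := hC.sup_eq_top
        rwa [hR0, bot_sup_eq] at h
      have hKp : IsPGroup q K := IsPGroup.of_card (n := (Nat.card K).factorization q) (by
        rw [← P.card_eq_multiplicity, hPt, Subgroup.card_top])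
      exact IsPGroup.isNilpotent (p := q) hKp
    exfalso
    refine hN ⟨R, hRK, fun k hk => hinv k (Subgroup.le_normalizer hk), hinv x hxK, hR0, fun h => ?_⟩
    have h1 : Nat.card C = Nat.card K := by rw [← card_map_subtype C, ← hR, h]
    have h2 := Fusion.coprime_card_of_isComplement' hC
    rw [h1] at h2
    exact hq.ne_one (Nat.eq_one_of_dvd_coprimes h2 hqK dvd_rfl)

theorem fpf_nilpotent [Finite G] (K : Subgroup G) (x : G) {r : ℕ} (hr : r.Prime) (hxr : x ^ r = 1)
    (hxK : x ∈ Subgroup.normalizer (K : Set G)) (hfix : K ⊓ Subgroup.centralizer {x} = ⊥) :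
    Group.IsNilpotent K := fpf_nilpotent_aux _ K x r rfl hr hxr hxK hfix

end Cfsg.Agent.Solv
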