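import Mathlib
import Cfsg.Agent.Lib.Solv.FrobeniusFormulaRep
import Cfsg.Agent.Lib.Solv.ThompsonFPF
import Cfsg.Agent.Lib.Solv.Coprime
import Cfsg.Agent.Lib.Solv.FrattiniModule

/-!
The fixed-point formula for a group with a regular group of operators acting coprimely on a solvable group.
-/

set_option autoImplicit false
set_option linter.style.haveILetI false

namespace Cfsg.Agent.Solv.FrobFix

open scoped TensorProduct

universe u v w

section baseChange

variable {G : Type u} [Group G] [Finite G]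

/-- The average of the operators of a subgroup. -/
noncomputable def avg {K : Type w} [Field K] {M : Type v} [AddCommGroup M] [Module K M]
    (σ : G →* Module.End K M) (S : Subgroup G) : Module.End K M :=
  (Nat.card S : K)⁻¹ • ∑ᶠ s : S, σ (s : G)

theorem range_avg {K : Type w} [Field K] {M : Type v} [AddCommGroup M] [Module K M]
    (σ : G →* Module.End K M) (S : Subgroup G) (hS : (Nat.card S : K) ≠ 0) :
    avg σ S * avg σ S = avg σ S ∧ LinearMap.range (avg σ S) = fixS σ (S : Set G) := by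
  classical
  haveI : Fintype S := Fintype.ofFinite S
  obtain ⟨P, hP⟩ : ∃ P : Module.End K M, P = (Nat.card S : K)⁻¹ • ∑ s : S, σ (s : G) := ⟨_, rfl⟩
  rw [show avg σ S = P by rw [hP, avg, finsum_eq_sum_of_fintype]]
  have hfix : ∀ x ∈ fixS σ (S : Set G), P x = x := fun x hx => by
    rw [mem_fixS] at hx
    rw [hP, LinearMap.smul_apply, LinearMap.sum_apply, Finset.sum_congr rfl fun (s : S) _ => hx (s : G) s.2,
      Finset.sum_const, Finset.card_univ, ← Nat.card_eq_fintype_card, ← Nat.cast_smul_eq_nsmul K, smul_smul,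
      inv_mul_cancel₀ hS, one_smul]
  have hmem : ∀ x, P x ∈ fixS σ (S : Set G) := fun x => mem_fixS.2 fun g hg => by
    rw [hP, LinearMap.smul_apply, LinearMap.sum_apply, map_smul, map_sum]
    congr 1
    refine Fintype.sum_equiv (Equiv.mulLeft (⟨g, hg⟩ : S)) _ _ fun s => ?_
    rw [Equiv.coe_mulLeft, Subgroup.coe_mul, map_mul, Module.End.mul_apply]
  refine ⟨LinearMap.ext fun x => hfix _ (hmem x), le_antisymm ?_ fun x hx => ⟨x, hfix x hx⟩⟩
  rintro _ ⟨x, rfl⟩
  exact hmem x

variable {K : Type} [Field K] {M : Type v} [AddCommGroup M] [Module K M] [FiniteDimensional K M]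
variable (F : Type w) [Field F] [Algebra K F]

/-- Fixed dimensions do not change under extension of the field. -/
theorem fix_baseChange (σ : G →* Module.End K M) (S : Subgroup G) (hS : (Nat.card S : K) ≠ 0) :
    Module.finrank F (fixS ((Module.End.baseChangeHom K F M).toMonoidHom.comp σ) (S : Set G)) =
      Module.finrank K (fixS σ (S : Set G)) := by
  classical
  haveI : Fintype S := Fintype.ofFinite S
  obtain ⟨hPP, hPr⟩ := range_avg σ S hS
  obtain ⟨-, hPr'⟩ := range_avg ((Module.End.baseChangeHom K F M).toMonoidHom.comp σ) S (by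
    rw [← map_natCast (algebraMap K F)]; exact (map_ne_zero _).2 hS)
  obtain ⟨P, hP⟩ : ∃ P, P = avg σ S := ⟨_, rfl⟩
  have havg : avg ((Module.End.baseChangeHom K F M).toMonoidHom.comp σ) S = P.baseChange F := by
    rw [hP, avg, avg, finsum_eq_sum_of_fintype, finsum_eq_sum_of_fintype]
    show _ = Module.End.baseChangeHom K F M _
    rw [map_smul, map_sum, ← algebraMap_smul (A := F) (Nat.card S : K)⁻¹, map_inv₀, map_natCast]
    rfl
  rw [← hP] at hPP hPr
  rw [← hPr, ← hPr', havg]
  have hle : ∀ f : Module.End K M, Module.finrank F (LinearMap.range (f.baseChange F)) ≤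
      Module.finrank K (LinearMap.range f) := fun f => by
    have e : f.baseChange F = ((LinearMap.range f).subtype.baseChange F) ∘ₗ (f.rangeRestrict.baseChange F) := by
      rw [← LinearMap.baseChange_comp, LinearMap.subtype_comp_codRestrict]
    rw [e]
    refine (Submodule.finrank_mono (LinearMap.range_comp_le_range _ _)).trans
      ((LinearMap.finrank_range_le _).trans ?_)
    rw [Module.finrank_baseChange]
  have hsum : Module.finrank K (LinearMap.range P) + Module.finrank K (LinearMap.range (1 - P)) ≤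
      Module.finrank K M := by
    rw [← LinearMap.finrank_range_add_finrank_ker P]
    refine Nat.add_le_add_left (Submodule.finrank_mono ?_) _
    rintro _ ⟨x, rfl⟩
    rw [LinearMap.mem_ker, LinearMap.sub_apply, Module.End.one_apply, map_sub, ← Module.End.mul_apply, hPP, sub_self]
  have hsum' : Module.finrank F (F ⊗[K] M) ≤ Module.finrank F (LinearMap.range (P.baseChange F)) +
      Module.finrank F (LinearMap.range ((1 - P : Module.End K M).baseChange F)) := by
    refine le_trans ?_ (Submodule.finrank_add_le_finrank_add_finrank _ _)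
    rw [← finrank_top F (F ⊗[K] M)]
    refine Submodule.finrank_mono fun x _ => ?_
    rw [show x = P.baseChange F x + ((1 - P : Module.End K M).baseChange F) x by
      rw [LinearMap.baseChange_sub, LinearMap.sub_apply, LinearMap.baseChange_one]; simp]
    exact Submodule.add_mem_sup (LinearMap.mem_range_self _ _) (LinearMap.mem_range_self _ _)
  have h1 := hle P
  have h2 := hle (1 - P)
  rw [Module.finrank_baseChange] at hsum'
  omega

end baseChange

section groups

variable {X : Type u} [Group X] [Finite X]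

/-- The linear form of the action on an elementary abelian subgroup. -/
theorem exists_linear {q : ℕ} [Fact q.Prime] (V : Subgroup X) (hV : IsMulCommutative V)
    (hexp : ∀ v ∈ V, v ^ q = 1) (L : Subgroup X) (hL : L ≤ Subgroup.normalizer (V : Set X)) :
    ∃ (k : ℕ) (σ : L →* Module.End (ZMod q) (Fin k → ZMod q)), q ^ k = Nat.card V ∧
      ∀ S : Set L, q ^ Module.finrank (ZMod q) (fixS σ S) =
        Nat.card ↥(V ⊓ Subgroup.centralizer (Subtype.val '' S : Set X)) := by
  classical
  letI : CommGroup V := { (inferInstance : Group V) with mul_comm := hV.is_comm.comm }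
  letI : Module (ZMod q) (Additive V) := AddCommGroup.zmodModule (n := q) fun m => by
    apply Additive.toMul.injective
    rw [toMul_nsmul, toMul_zero]
    exact Subtype.ext (by rw [SubmonoidClass.coe_pow]; exact hexp _ (Additive.toMul m).2)
  haveI : Finite (Additive V) := inferInstanceAs (Finite V)
  let cj : L →* MulAut V := (Subgroup.normalizerMonoidHom V).comp (Subgroup.inclusion hL)
  obtain ⟨k, ε, σ, hεb, -, hεσ⟩ := ThmB.exists_coordinates (p := q) (Additive V)
    (fun g => MonoidHom.toAdditive (cj g).toMonoidHom)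
    (fun m => by
      show Additive.ofMul (cj 1 (Additive.toMul m)) = m
      rw [map_one, MulAut.one_apply]; rfl)
    (fun g h m => by
      show Additive.ofMul (cj (g * h) (Additive.toMul m)) = Additive.ofMul (cj g (cj h (Additive.toMul m)))
      rw [map_mul, MulAut.mul_apply])
  refine ⟨k, σ, ?_, fun S => ?_⟩
  · rw [← Nat.card_congr (Additive.toMul (α := V)), ← Nat.card_congr (Equiv.ofBijective ε hεb), Nat.card_fun,
      Nat.card_zmod, Nat.card_fin]
  · have hfin : Nat.card (fixS σ S) = q ^ Module.finrank (ZMod q) (fixS σ S) := by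
      rw [Module.natCard_eq_pow_finrank (K := ZMod q), Nat.card_zmod]
    rw [← hfin]
    have hiff : ∀ y : Fin k → ZMod q, y ∈ fixS σ S ↔
        ((Additive.toMul (ε y) : V) : X) ∈ Subgroup.centralizer (Subtype.val '' S : Set X) := fun y => by
      rw [mem_fixS, Subgroup.mem_centralizer_iff]
      constructor
      · rintro h _ ⟨g, hg, rfl⟩
        have h2 := congrArg (fun m : Additive V => ((Additive.toMul m : V) : X))
          ((hεσ g y).symm.trans (congrArg ε (h g hg)))
        change (g : X) * (Additive.toMul (ε y) : V) * (g : X)⁻¹ = (Additive.toMul (ε y) : V) at h2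
        exact mul_inv_eq_iff_eq_mul.1 h2
      · intro h g hg
        refine hεb.1 ?_
        rw [hεσ]
        refine Additive.toMul.injective (Subtype.ext ?_)
        show (g : X) * (Additive.toMul (ε y) : V) * (g : X)⁻¹ = (Additive.toMul (ε y) : V)
        exact mul_inv_eq_iff_eq_mul.2 (h _ ⟨g, hg, rfl⟩)
    refine Nat.card_congr (Equiv.ofBijective (fun y => ⟨((Additive.toMul (ε y.1) : V) : X),
      Subgroup.mem_inf.2 ⟨(Additive.toMul (ε y.1)).2, (hiff y.1).1 y.2⟩⟩) ⟨fun y z h => ?_, fun v => ?_⟩)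
    · exact Subtype.ext (hεb.1 (Additive.toMul.injective (Subtype.ext (congrArg Subtype.val h :))))
    · obtain ⟨v, hv⟩ := v
      obtain ⟨y, hy⟩ := hεb.2 (Additive.ofMul (⟨v, (Subgroup.mem_inf.1 hv).1⟩ : V))
      refine ⟨⟨y, (hiff _).2 ?_⟩, Subtype.ext ?_⟩
      · rw [hy]; exact (Subgroup.mem_inf.1 hv).2
      · show ((Additive.toMul (ε y) : V) : X) = v
        rw [hy]; rfl

theorem isNilpotent_of_fpf {U E : Subgroup X} (hE : E ≠ ⊥) (hUn : E ≤ Subgroup.normalizer (U : Set X))
    (hfpf : ∀ e ∈ E, e ≠ 1 → ∀ u ∈ U, e * u = u * e → u = 1) : Group.IsNilpotent U := by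
  obtain ⟨r, hr, hrd⟩ := Nat.exists_prime_and_dvd (fun h => hE (Subgroup.card_eq_one.1 h) : Nat.card E ≠ 1)
  haveI := Fact.mk hr
  obtain ⟨x, hx⟩ := exists_prime_orderOf_dvd_card' r hrd
  refine fpf_nilpotent U (x : X) hr (by rw [← hx, ← Subgroup.orderOf_coe, pow_orderOf_eq_one]) (hUn x.2) ?_
  rw [eq_bot_iff]
  rintro u ⟨hu, huc⟩
  refine Subgroup.mem_bot.2 (hfpf x x.2 (fun h => hr.ne_one ?_) u hu (Subgroup.mem_centralizer_singleton_iff.1 huc).symm)
  rw [← hx, orderOf_eq_one_iff]
  exact Subtype.ext h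

/-- The formula on an elementary abelian subgroup. -/
theorem formula_elementary {q : ℕ} [Fact q.Prime] (V U E : Subgroup X) (hV : IsMulCommutative V)
    (hexp : ∀ v ∈ V, v ^ q = 1) (hLV : U ⊔ E ≤ Subgroup.normalizer (V : Set X))
    (hUn : E ≤ Subgroup.normalizer (U : Set X)) (hfpf : ∀ e ∈ E, e ≠ 1 → ∀ u ∈ U, e * u = u * e → u = 1)
    (hnil : Group.IsNilpotent U) (hco : (Nat.card ↥(U ⊔ E)).Coprime q) :
    Nat.card ↥(V ⊓ Subgroup.centralizer ((U ⊔ E : Subgroup X) : Set X)) ^ Nat.card E * Nat.card V =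
      Nat.card ↥(V ⊓ Subgroup.centralizer (E : Set X)) ^ Nat.card E *
        Nat.card ↥(V ⊓ Subgroup.centralizer (U : Set X)) := by
  classical
  obtain ⟨k, σ, hk, hσ⟩ := exists_linear V hV hexp (U ⊔ E) hLV
  obtain ⟨L, hL⟩ : ∃ L : Subgroup X, L = U ⊔ E := ⟨_, rfl⟩
  haveI : (U.subgroupOf (U ⊔ E)).Normal :=
    Subgroup.normal_subgroupOf_of_le_normalizer (sup_le Subgroup.le_normalizer hUn)
  let F := AlgebraicClosure (ZMod q)
  let ρ := (Module.End.baseChangeHom (ZMod q) F (Fin k → ZMod q)).toMonoidHom.comp σ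
  have hinv : ∀ S : Subgroup ↥(U ⊔ E), (Nat.card S : ZMod q) ≠ 0 := fun S h => by
    rw [ZMod.natCast_eq_zero_iff] at h
    exact (Fact.out : q.Prime).ne_one (Nat.eq_one_of_dvd_coprimes hco (h.trans (Subgroup.card_subgroup_dvd_card S)) dvd_rfl)
  have hU' : (Nat.card (U.subgroupOf (U ⊔ E)) : F) ≠ 0 := by
    rw [← map_natCast (algebraMap (ZMod q) F)]
    exact (map_ne_zero _).2 (hinv _)
  haveI := hnil
  have key := fix_formula (F := F) _ ρ (U.subgroupOf (U ⊔ E)) (E.subgroupOf (U ⊔ E)) rfl hU'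
    (Group.nilpotent_of_mulEquiv (Subgroup.subgroupOfEquivOfLe le_sup_left).symm)
    (fun e he he1 u hu h => Subtype.ext (hfpf e he (fun h' => he1 (Subtype.ext h')) u hu (congrArg Subtype.val h)))
  have htop : (U.subgroupOf (U ⊔ E) : Set ↥(U ⊔ E)) ∪ (E.subgroupOf (U ⊔ E) : Set ↥(U ⊔ E)) ⊆
      ((⊤ : Subgroup ↥(U ⊔ E)) : Set ↥(U ⊔ E)) := fun _ _ => trivial
  have hfixtop : fixS ρ ((U.subgroupOf (U ⊔ E) : Set ↥(U ⊔ E)) ∪ (E.subgroupOf (U ⊔ E) : Set ↥(U ⊔ E))) =
      fixS ρ ((⊤ : Subgroup ↥(U ⊔ E)) : Set ↥(U ⊔ E)) := by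
    refine le_antisymm (fun x hx => ?_) fun x hx => mem_fixS.2 fun g hg => mem_fixS.1 hx g (htop hg)
    rw [mem_fixS] at hx ⊢
    have hgen : (⊤ : Subgroup ↥(U ⊔ E)) = U.subgroupOf (U ⊔ E) ⊔ E.subgroupOf (U ⊔ E) := by
      rw [← Subgroup.subgroupOf_sup le_sup_left le_sup_right, Subgroup.subgroupOf_self]
    intro g hg
    rw [SetLike.mem_coe, hgen, ← Subgroup.closure_eq (U.subgroupOf (U ⊔ E)),
      ← Subgroup.closure_eq (E.subgroupOf (U ⊔ E)), ← Subgroup.closure_union] at hg
    induction hg using Subgroup.closure_induction with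
    | mem y hy => exact hx y hy
    | one => rw [map_one, Module.End.one_apply]
    | mul a b _ _ ha hb => rw [map_mul, Module.End.mul_apply, hb, ha]
    | inv a _ ha =>
      conv_lhs => rw [← ha]
      rw [← Module.End.mul_apply, ← map_mul, inv_mul_cancel, map_one, Module.End.one_apply]
  rw [hfixtop, fix_baseChange F σ ⊤ (hinv _), fix_baseChange F σ (E.subgroupOf (U ⊔ E)) (hinv _),
    fix_baseChange F σ (U.subgroupOf (U ⊔ E)) (hinv _), Module.finrank_baseChange, Module.finrank_fin_fun,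
    Nat.card_congr (Subgroup.subgroupOfEquivOfLe (le_sup_right : E ≤ U ⊔ E)).toEquiv] at key
  have himg : ∀ S : Subgroup X, S ≤ U ⊔ E → Subtype.val '' ((S.subgroupOf (U ⊔ E) : Subgroup ↥(U ⊔ E)) : Set ↥(U ⊔ E)) = (S : Set X) := by
    intro S hS
    ext x
    exact ⟨fun ⟨y, hy, e⟩ => e ▸ hy, fun hx => ⟨⟨x, hS hx⟩, hx, rfl⟩⟩
  have h1 := hσ ((⊤ : Subgroup ↥(U ⊔ E)) : Set ↥(U ⊔ E))
  have h2 := hσ ((E.subgroupOf (U ⊔ E) : Subgroup ↥(U ⊔ E)) : Set ↥(U ⊔ E))
  have h3 := hσ ((U.subgroupOf (U ⊔ E) : Subgroup ↥(U ⊔ E)) : Set ↥(U ⊔ E))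
  rw [himg E le_sup_right] at h2
  rw [himg U le_sup_left] at h3
  rw [Subgroup.coe_top, Set.image_univ, Subtype.range_coe_subtype] at h1
  change q ^ _ = Nat.card ↥(V ⊓ Subgroup.centralizer ((U ⊔ E : Subgroup X) : Set X)) at h1
  rw [← h1, ← h2, ← h3, ← hk, ← pow_mul, ← pow_mul, ← pow_add, ← pow_add,
    mul_comm (Module.finrank _ _) (Nat.card E), mul_comm (Module.finrank _ _) (Nat.card E)]
  congr 1

theorem card_centralizer_quotient {H N : Subgroup X} [N.Normal] [IsMulCommutative N] (hNH : N ≤ H) (S : Subgroup X)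
    (hS : S ≤ Subgroup.normalizer (H : Set X)) (hco : (Nat.card S).Coprime (Nat.card H)) :
    Nat.card ↥(H.map (QuotientGroup.mk' N) ⊓ Subgroup.centralizer ((S.map (QuotientGroup.mk' N) : Subgroup (X ⧸ N)) : Set (X ⧸ N))) *
      Nat.card ↥(N ⊓ Subgroup.centralizer (S : Set X)) = Nat.card ↥(H ⊓ Subgroup.centralizer (S : Set X)) := by
  obtain ⟨C, hC⟩ : ∃ C, C = H ⊓ Subgroup.centralizer (S : Set X) := ⟨_, rfl⟩
  have hSN : S ≤ Subgroup.normalizer (N : Set X) := fun x _ => by
    rw [Subgroup.normalizer_eq_top]; exact Subgroup.mem_top x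
  have hcoN : (Nat.card S).Coprime (Nat.card N) := hco.coprime_dvd_right (Subgroup.card_dvd_of_le hNH)
  have hmap : C.map (QuotientGroup.mk' N) = H.map (QuotientGroup.mk' N) ⊓
      Subgroup.centralizer ((S.map (QuotientGroup.mk' N) : Subgroup (X ⧸ N)) : Set (X ⧸ N)) := by
    refine le_antisymm ?_ ?_
    · rintro _ ⟨c, hc, rfl⟩
      rw [hC] at hc
      refine Subgroup.mem_inf.2 ⟨⟨c, hc.1, rfl⟩, Subgroup.mem_centralizer_iff.2 ?_⟩
      rintro _ ⟨s, hs, rfl⟩
      rw [← map_mul, ← map_mul, Subgroup.mem_centralizer_iff.1 hc.2 s hs]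
    · rintro _ ⟨⟨x, hx, rfl⟩, hxc⟩
      have hmove : ∀ a ∈ S, x⁻¹ * (a * x * a⁻¹) ∈ N := fun a ha => by
        rw [← QuotientGroup.eq_one_iff, ← QuotientGroup.mk'_apply, map_mul, map_mul, map_mul, map_inv, map_inv,
          Subgroup.mem_centralizer_iff.1 hxc _ ⟨a, ha, rfl⟩]
        group
      obtain ⟨d, hd, hdn⟩ := exists_fixed_in_coset S N hSN hcoN
        (Or.inr (Group.isSolvable_of_comm fun s t => (inferInstance : IsMulCommutative N).is_comm.comm s t)) hmove
      refine ⟨x * d, hC ▸ ⟨mul_mem hx (hNH hd), centralizer_of_normalizes hS (coprime_inf hco.symm)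
        (mul_mem hx (hNH hd)) hdn⟩, ?_⟩
      rw [map_mul, show QuotientGroup.mk' N d = 1 from (QuotientGroup.eq_one_iff d).2 hd, mul_one]
  have hker : N ⊓ Subgroup.centralizer (S : Set X) = N ⊓ C := by
    rw [hC, ← inf_assoc, inf_eq_left.2 hNH]
  rw [← hmap, hker, ← hC, ← Subgroup.relIndex_bot_left, ← Subgroup.relIndex_comap, MonoidHom.comap_bot,
    QuotientGroup.ker_mk', ← Subgroup.inf_relIndex_right N C, ← Subgroup.relIndex_bot_left (N ⊓ C), mul_comm,
    Subgroup.relIndex_mul_relIndex ⊥ (N ⊓ C) C bot_le inf_le_right, Subgroup.relIndex_bot_left]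

theorem formula_aux : ∀ (n : ℕ) {X : Type u} [Group X] [Finite X] (H U E : Subgroup X) [H.Normal],
    Nat.card H = n → Group.IsSolvable H → E ≤ Subgroup.normalizer (U : Set X) →
    (∀ e ∈ E, e ≠ 1 → ∀ u ∈ U, e * u = u * e → u = 1) → Group.IsNilpotent U →
    (Nat.card H).Coprime (Nat.card ↥(U ⊔ E)) →
    Nat.card ↥(H ⊓ Subgroup.centralizer ((U ⊔ E : Subgroup X) : Set X)) ^ Nat.card E * Nat.card H =
      Nat.card ↥(H ⊓ Subgroup.centralizer (E : Set X)) ^ Nat.card E *
        Nat.card ↥(H ⊓ Subgroup.centralizer (U : Set X)) := by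
  intro n
  induction n using Nat.strong_induction_on with
  | _ n ih =>
    intro X _ _ H U E _ hn hsol hUn hfpf hnil hco
    classical
    by_cases hH : H = ⊥
    · subst hH
      simp
    obtain ⟨N, hN, hmin⟩ := Finite.exists_le_minimal (p := fun N : Subgroup X => N.Normal ∧ N ≤ H ∧ N ≠ ⊥)
      (a := H) ⟨inferInstance, le_rfl, hH⟩
    obtain ⟨hNn, hNH, hN1⟩ := hmin.1
    haveI := hNn
    obtain ⟨hNc, q, hq, hNe, -⟩ := minimal_normal_elementaryAbelian N (isSolvable_of_le hNH hsol) hN1 fun K hK hKN => by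
      by_contra hcon
      push Not at hcon
      exact hcon.2 (le_antisymm hKN (hmin.2 ⟨hK, hKN.trans hNH, hcon.1⟩ hKN))
    haveI := hNc
    haveI := Fact.mk hq
    have hqN : q ∣ Nat.card N := by
      obtain ⟨x, hx, hx1⟩ := (Subgroup.bot_or_exists_ne_one N).resolve_left hN1
      rw [← orderOf_eq_prime (hNe x hx) hx1]
      exact Subgroup.orderOf_dvd_natCard N hx
    have hcoN : (Nat.card N).Coprime (Nat.card ↥(U ⊔ E)) := hco.coprime_dvd_left (Subgroup.card_dvd_of_le hNH)
    have hN_formula := formula_elementary N U E hNc hNe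
      (fun x _ => by rw [Subgroup.normalizer_eq_top]; exact Subgroup.mem_top x) hUn hfpf hnil
      (hcoN.coprime_dvd_left hqN).symm
    let π := QuotientGroup.mk' N
    haveI : (H.map π).Normal := Subgroup.Normal.map inferInstance π (QuotientGroup.mk'_surjective N)
    have hcard : Nat.card (H.map π) * Nat.card N = Nat.card H := by
      have h2 := Subgroup.relIndex_mul_relIndex ⊥ N H bot_le hNH
      rw [Subgroup.relIndex_bot_left, Subgroup.relIndex_bot_left] at h2
      rw [← Subgroup.relIndex_bot_left, ← Subgroup.relIndex_comap, MonoidHom.comap_bot, QuotientGroup.ker_mk',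
        mul_comm, h2]
    have hlt : Nat.card (H.map π) < n := by
      rw [← hn, ← hcard]
      exact lt_mul_of_one_lt_right Nat.card_pos (lt_of_le_of_ne Nat.card_pos fun h => hN1 (Subgroup.card_eq_one.1 h.symm))
    have hinj : ∀ a ∈ U ⊔ E, π a = 1 → a = 1 := fun a ha h =>
      Subgroup.mem_bot.1 ((coprime_inf hcoN).le ⟨(QuotientGroup.eq_one_iff a).1 h, ha⟩)
    have hcE : Nat.card (E.map π) = Nat.card E := by
      refine (Nat.card_congr (MulEquiv.ofBijective (π.subgroupMap E) ⟨?_, π.subgroupMap_surjective E⟩).toEquiv).symm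
      rw [injective_iff_map_eq_one]
      exact fun a ha => Subtype.ext (hinj a (Subgroup.mem_sup_right a.2) (congrArg Subtype.val ha))
    haveI := hnil
    have hIH := ih _ hlt (H.map π) (U.map π) (E.map π) rfl (isSolvable_map π hsol)
      ((Subgroup.map_mono hUn).trans (Subgroup.le_normalizer_map π)) (by
        rintro _ ⟨a, ha, rfl⟩ ha1 _ ⟨b, hb, rfl⟩ hab
        have h1 : a * b * a⁻¹ * b⁻¹ = 1 := hinj _ (mul_mem (mul_mem (mul_mem (Subgroup.mem_sup_right ha)
          (Subgroup.mem_sup_left hb)) (inv_mem (Subgroup.mem_sup_right ha))) (inv_mem (Subgroup.mem_sup_left hb))) (by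
            simp only [map_mul, map_inv]
            rw [show π a * π b = π b * π a from hab]
            group)
        rw [hfpf a ha (fun h => ha1 (by rw [h, map_one])) b hb
          (mul_inv_eq_iff_eq_mul.1 (mul_inv_eq_one.1 h1)), map_one])
      (Group.nilpotent_of_surjective (π.subgroupMap U) (π.subgroupMap_surjective U))
      (by
        rw [← Subgroup.map_sup]
        exact (hco.coprime_dvd_left (Subgroup.card_map_dvd _ _)).coprime_dvd_right (Subgroup.card_map_dvd _ _))
    rw [hcE, ← Subgroup.map_sup] at hIH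
    have hnH : ∀ S : Subgroup X, S ≤ Subgroup.normalizer (H : Set X) := fun S x _ => by
      rw [Subgroup.normalizer_eq_top]; exact Subgroup.mem_top x
    rw [← card_centralizer_quotient hNH (U ⊔ E) (hnH _) hco.symm,
      ← card_centralizer_quotient hNH E (hnH _) (hco.symm.coprime_dvd_left (Subgroup.card_dvd_of_le le_sup_right)),
      ← card_centralizer_quotient hNH U (hnH _) (hco.symm.coprime_dvd_left (Subgroup.card_dvd_of_le le_sup_left)),
      ← hcard, mul_pow, mul_pow, mul_mul_mul_comm, hIH, hN_formula]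
    ring

/-- The fixed-point formula. -/
theorem formula (H U E : Subgroup X) (hsol : Group.IsSolvable H) (hH : U ⊔ E ≤ Subgroup.normalizer (H : Set X))
    (hUn : E ≤ Subgroup.normalizer (U : Set X)) (hfpf : ∀ e ∈ E, e ≠ 1 → ∀ u ∈ U, e * u = u * e → u = 1)
    (hco : (Nat.card H).Coprime (Nat.card ↥(U ⊔ E))) :
    Nat.card ↥(H ⊓ Subgroup.centralizer ((U ⊔ E : Subgroup X) : Set X)) ^ Nat.card E * Nat.card H =
      Nat.card ↥(H ⊓ Subgroup.centralizer (E : Set X)) ^ Nat.card E *
        Nat.card ↥(H ⊓ Subgroup.centralizer (U : Set X)) := by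
  by_cases hE : E = ⊥
  · subst hE
    have h1 : H ⊓ Subgroup.centralizer ((⊥ : Subgroup X) : Set X) = H := inf_eq_left.2 fun x _ =>
      Subgroup.mem_centralizer_iff.2 fun y hy => by
        rw [SetLike.mem_coe, Subgroup.mem_bot] at hy; rw [hy, one_mul, mul_one]
    rw [sup_bot_eq, Subgroup.card_bot, pow_one, pow_one, h1, mul_comm]
  obtain ⟨Y, hY⟩ : ∃ Y : Subgroup X, Y = Subgroup.normalizer (H : Set X) := ⟨_, rfl⟩
  have hHY : H ≤ Y := hY ▸ Subgroup.le_normalizer
  have hUY : U ≤ Y := hY ▸ le_sup_left.trans hH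
  have hEY : E ≤ Y := hY ▸ le_sup_right.trans hH
  haveI : (H.subgroupOf Y).Normal := Subgroup.normal_subgroupOf_of_le_normalizer hY.le
  haveI := isNilpotent_of_fpf hE hUn hfpf
  have hcard : ∀ A : Subgroup X, A ≤ Y → Nat.card (A.subgroupOf Y) = Nat.card A := fun A hA =>
    Nat.card_congr (Subgroup.subgroupOfEquivOfLe hA).toEquiv
  have key := formula_aux _ (H.subgroupOf Y) (U.subgroupOf Y) (E.subgroupOf Y) rfl (isSolvable_subgroupOf hHY hsol)
    (fun x hx => by
      rw [Subgroup.mem_normalizer_iff]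
      intro y
      exact Subgroup.mem_normalizer_iff.1 (hUn hx) y)
    (fun e he he1 u hu h => Subtype.ext (hfpf e he (fun h' => he1 (Subtype.ext h')) u hu (congrArg Subtype.val h)))
    (Group.nilpotent_of_mulEquiv (Subgroup.subgroupOfEquivOfLe hUY).symm)
    (by rw [← Subgroup.subgroupOf_sup hUY hEY, hcard H hHY, hcard _ (sup_le hUY hEY)]; exact hco)
  have hcent : ∀ A : Subgroup X, A ≤ Y → Nat.card ↥(H.subgroupOf Y ⊓ Subgroup.centralizer ((A.subgroupOf Y : Subgroup Y) : Set Y)) =
      Nat.card ↥(H ⊓ Subgroup.centralizer (A : Set X)) := fun A hA => by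
    rw [← Subgroup.card_map_of_injective Y.subtype_injective]
    congr 2
    ext x
    constructor
    · rintro ⟨y, ⟨hy, hyc⟩, rfl⟩
      exact ⟨hy, Subgroup.mem_centralizer_iff.2 fun a ha =>
        congrArg Subtype.val (Subgroup.mem_centralizer_iff.1 hyc ⟨a, hA ha⟩ ha)⟩
    · rintro ⟨hxH, hxc⟩
      exact ⟨⟨x, hHY hxH⟩, ⟨hxH, Subgroup.mem_centralizer_iff.2 fun a ha =>
        Subtype.ext (Subgroup.mem_centralizer_iff.1 hxc a ha)⟩, rfl⟩
  rw [← Subgroup.subgroupOf_sup hUY hEY, hcent _ (sup_le hUY hEY), hcent _ hEY, hcent _ hUY, hcard _ hHY,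
    hcard _ hEY] at key
  exact key

end groups

end Cfsg.Agent.Solv.FrobFix
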