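import Cfsg.Prelude.Def_Transfer
import Cfsg.Agent.Lib.Solv.UniqueSub
import Mathlib.GroupTheory.SpecificGroups.Cyclic
import Mathlib.Data.Nat.Choose.Dvd

/-!
Normal elementary abelian subgroups of order `p ^ 2` and Kulakoff's congruence for cyclic subgroups
of non-cyclic `p`-groups, `p` odd.
-/

set_option autoImplicit false
set_option linter.style.haveILetI false

open scoped Pointwise

namespace Cfsg.Agent.Solv

variable {G : Type*} [Group G]

/-- Class two power formula with the commutator commuting with both arguments only. -/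
theorem mul_pow_comm_central {x y c : G} (h : y * x = x * y * c) (hcx : Commute c x)
    (hcy : Commute c y) (n : ℕ) : (x * y) ^ n = x ^ n * y ^ n * c ^ n.choose 2 := by
  have hyx : ∀ k : ℕ, y ^ k * x = x * y ^ k * c ^ k := by
    intro k
    induction k with
    | zero => simp
    | succ k ih =>
      calc y ^ (k + 1) * x = y * (y ^ k * x) := by group
        _ = y * x * (y ^ k * c ^ k) := by rw [ih]; group
        _ = x * y * (c * y ^ k) * c ^ k := by rw [h]; group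
        _ = x * y * (y ^ k * c) * c ^ k := by rw [(hcy.pow_right k).eq]
        _ = _ := by group
  induction n with
  | zero => simp
  | succ n ih =>
    rw [Nat.choose_succ_succ', Nat.choose_one_right, pow_succ, ih]
    calc x ^ n * y ^ n * c ^ n.choose 2 * (x * y)
        = x ^ n * y ^ n * (c ^ n.choose 2 * (x * y)) := by group
      _ = x ^ n * (y ^ n * x) * y * c ^ n.choose 2 := by
          rw [((hcx.mul_right hcy).pow_left (n.choose 2)).eq]; group
      _ = x ^ n * x * y ^ n * (c ^ n * y) * c ^ n.choose 2 := by rw [hyx]; group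
      _ = x ^ n * x * y ^ n * (y * c ^ n) * c ^ n.choose 2 := by rw [(hcy.pow_left n).eq]
      _ = _ := by rw [pow_add]; group

theorem mul_pow_prime_of_comm {p : ℕ} (hp : p.Prime) (hp2 : p ≠ 2) {x y c : G} (h : y * x = x * y * c)
    (hcx : Commute c x) (hcy : Commute c y) (hc : c ^ p = 1) : (x * y) ^ p = x ^ p * y ^ p := by
  rw [mul_pow_comm_central h hcx hcy]
  obtain ⟨j, hj⟩ := hp.dvd_choose_self (by norm_num : (2 : ℕ) ≠ 0) (lt_of_le_of_ne hp.two_le (Ne.symm hp2))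
  rw [hj, pow_mul, hc, one_pow, mul_one]

theorem normal_of_le_center' {Z : Subgroup G} (h : Z ≤ Subgroup.center G) : Z.Normal :=
  ⟨fun x hx g => by rwa [Subgroup.mem_center_iff.1 (h hx) g, mul_inv_cancel_right]⟩

/-- A non-trivial normal subgroup of a `p`-group contains a central element of order `p`. -/
theorem exists_central_order {p : ℕ} [Fact p.Prime] [Finite G] (hG : IsPGroup p G) (N : Subgroup G)
    [N.Normal] (hN : N ≠ ⊥) : ∃ z ∈ N, z ∈ Subgroup.center G ∧ orderOf z = p := by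
  have := (Subgroup.nontrivial_iff_ne_bot _).2 hN
  have hd : p ∣ Nat.card N := by
    obtain ⟨k, hk⟩ := IsPGroup.iff_card.mp (hG.to_subgroup N)
    rw [hk]
    refine dvd_pow_self p fun h0 => ?_
    rw [h0, pow_zero] at hk
    have := Finite.one_lt_card (α := N)
    omega
  obtain ⟨b, hb, hb1⟩ := (hG.of_equiv ConjAct.toConjAct).exists_fixed_point_of_prime_dvd_card_of_fixed_point
    N hd (a := (1 : N)) (fun g => smul_one g)
  have hzc : (b : G) ∈ Subgroup.center G := Subgroup.mem_center_iff.2 fun g => by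
    have h1 : g * (b : G) * g⁻¹ = (b : G) := congrArg Subtype.val (hb (ConjAct.toConjAct g))
    rwa [mul_inv_eq_iff_eq_mul] at h1
  obtain ⟨k, hk⟩ := IsPGroup.iff_orderOf.1 hG (b : G)
  have hk0 : k ≠ 0 := by
    rintro rfl
    rw [pow_zero, orderOf_eq_one_iff] at hk
    exact hb1 (Subtype.ext hk.symm)
  refine ⟨(b : G) ^ p ^ (k - 1), N.pow_mem b.2 _, Subgroup.pow_mem _ hzc _, ?_⟩
  rw [orderOf_pow_of_dvd (pow_ne_zero _ (Fact.out : p.Prime).ne_zero)
    (hk ▸ pow_dvd_pow p (by omega)), hk, Nat.pow_div (by omega) (Fact.out : p.Prime).pos,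
    show k - (k - 1) = 1 by omega, pow_one]

/-- A noncyclic `p`-group, `p` odd, has a normal elementary abelian noncyclic subgroup. -/
theorem exists_normal_elementary_noncyclic {p : ℕ} [Fact p.Prime] [Finite G] (hp2 : p ≠ 2)
    (hG : IsPGroup p G) (hnc : ¬ IsCyclic G) :
    ∃ W : Subgroup G, W.Normal ∧ Cfsg.IsElementaryAbelian p W ∧
      ∃ u ∈ W, ∃ v ∈ W, u ≠ 1 ∧ v ∉ Subgroup.zpowers u := by
  have hp : p.Prime := Fact.out
  obtain ⟨A, hAn, hAab, hAC⟩ := exists_maximal_abelian_normal hG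
  by_cases hu : UniqueOrderP p A
  swap
  · simp only [UniqueOrderP, not_forall] at hu
    obtain ⟨x, y, hx, hy, hy1, hxy⟩ := hu
    let W : Subgroup G :=
      { carrier := {t | t ∈ A ∧ t ^ p = 1}
        one_mem' := ⟨A.one_mem, one_pow _⟩
        mul_mem' := fun {s t} hs ht => ⟨A.mul_mem hs.1 ht.1, by
          rw [Commute.mul_pow (hAab s hs.1 t ht.1), hs.2, ht.2, one_mul]⟩
        inv_mem' := fun {s} hs => ⟨A.inv_mem hs.1, by rw [inv_pow, hs.2, inv_one]⟩ }
    refine ⟨W, ⟨fun t ht g => ⟨hAn.conj_mem t ht.1 g, by rw [conj_pow, ht.2]; group⟩⟩,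
      ⟨⟨⟨fun s t => Subtype.ext (hAab s s.2.1 t t.2.1)⟩⟩, fun t ht => ht.2⟩,
      y, ⟨y.2, congrArg Subtype.val hy⟩, x, ⟨x.2, congrArg Subtype.val hx⟩,
      fun h => hy1 (Subtype.ext h), ?_⟩
    rintro ⟨i, hi⟩
    exact hxy ⟨i, Subtype.ext hi⟩
  obtain ⟨⟨a, ha⟩, -, hgen⟩ := abelian_cyclic_of_unique (hG.to_subgroup A) hu ⊤
    (fun x _ y _ => Subtype.ext (hAab x x.2 y y.2))
  have hA : A = Subgroup.zpowers a := by
    refine le_antisymm (fun x hx => ?_) (Subgroup.zpowers_le.2 ha)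
    obtain ⟨i, hi⟩ := Subgroup.mem_zpowers_iff.1 (hgen.le (Subgroup.mem_top (⟨x, hx⟩ : A)))
    exact ⟨i, congrArg Subtype.val hi⟩
  have hAtop : A ≠ ⊤ := fun h => hnc ⟨a, fun g => by
    have : g ∈ A := h ▸ Subgroup.mem_top g
    rwa [hA] at this⟩
  have hq : IsPGroup p (G ⧸ A) := hG.to_quotient A
  haveI : Nontrivial (G ⧸ A) := QuotientGroup.nontrivial_iff.2 hAtop
  obtain ⟨u, -, huc, huo⟩ := exists_central_order hq (⊤ : Subgroup (G ⧸ A)) (by simp)
  obtain ⟨g, rfl⟩ := QuotientGroup.mk_surjective u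
  have hgA : g ∉ A := fun h => by
    rw [(QuotientGroup.eq_one_iff g).2 h, orderOf_one] at huo
    exact hp.ne_one huo.symm
  have hgp : g ^ p ∈ A := by
    rw [← QuotientGroup.eq_one_iff, QuotientGroup.mk_pow, ← huo, pow_orderOf_eq_one]
  obtain ⟨m, hm⟩ : ∃ m : ℤ, a ^ m = g * a * g⁻¹ := by
    have := hAn.conj_mem a ha g
    rwa [hA, Subgroup.mem_zpowers_iff] at this
  obtain ⟨c, hc⟩ : ∃ c : ℤ, a ^ c = g ^ p := by rwa [hA, Subgroup.mem_zpowers_iff] at hgp
  have hgna : ¬ Commute g a := fun h => hgA <| by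
    rw [← hAC, hA, Subgroup.mem_centralizer_iff]
    rintro _ ⟨i, rfl⟩
    exact (h.zpow_right i).eq.symm
  obtain ⟨n, hn⟩ := IsPGroup.iff_orderOf.1 hG a
  have hn0 : n ≠ 0 := by
    rintro rfl
    rw [pow_zero, orderOf_eq_one_iff] at hn
    subst hn
    exact hgna (Commute.one_right g)
  have hdvd : ∀ k : ℤ, a ^ k = 1 ↔ ((p : ℤ) ^ n) ∣ k := fun k => by
    rw [← orderOf_dvd_iff_zpow_eq_one, hn, Nat.cast_pow]
  have hck : ∀ (k : ℕ) (i : ℤ), g ^ k * a ^ i = a ^ (i * m ^ k) * g ^ k := by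
    intro k
    induction k with
    | zero => intro i; simp
    | succ k ih =>
      intro i
      have h2 : g * a ^ i = a ^ (m * i) * g := by
        rw [zpow_mul, hm, conj_zpow, inv_mul_cancel_right]
      rw [pow_succ, mul_assoc, h2, ← mul_assoc, ih, mul_assoc, ← pow_succ]
      congr 2
      ring
  -- the multiplier is `1` modulo `p ^ (n - 1)`
  have hmp : ((p : ℤ) ^ n) ∣ m ^ p - 1 := by
    rw [← hdvd, zpow_sub, zpow_one, mul_inv_eq_one]
    have h1 := hck p 1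
    rw [zpow_one, one_mul, ← hc] at h1
    have h2 : a ^ c * a = a * a ^ c := ((Commute.refl a).zpow_left c).eq
    rw [h2] at h1
    exact (mul_right_cancel h1).symm
  obtain ⟨b, hb⟩ : (p : ℤ) ∣ m - 1 := by
    have h : (p : ℤ) ∣ m ^ p - 1 := (dvd_pow_self _ hn0).trans hmp
    rw [← ZMod.intCast_zmod_eq_zero_iff_dvd] at h ⊢
    push_cast at h ⊢
    rwa [ZMod.pow_card] at h
  obtain ⟨t, ht⟩ := odd_sq_dvd_geom_sum₂_sub (R := ℤ) (a := 1) (b := b) (hp.odd_of_ne_two hp2)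
  simp only [one_pow, mul_one] at ht
  rw [show (1 : ℤ) + p * b = m by rw [← hb]; ring] at ht
  obtain ⟨w, hw⟩ : ((p : ℤ) ^ (n - 1)) ∣ m - 1 := by
    have h1 : ((p : ℤ) ^ n) ∣ (m - 1) * ((p : ℤ) * (1 + p * t)) := by
      rw [show (p : ℤ) * (1 + p * t) = ∑ j ∈ Finset.range p, m ^ j by linear_combination -ht,
        mul_geom_sum]
      exact hmp
    have hcop : IsCoprime ((p : ℤ) ^ (n - 1)) (1 + p * t) := IsCoprime.pow_left ⟨-t, 1, by ring⟩
    rw [mul_left_comm, show (p : ℤ) ^ n = p * p ^ (n - 1) by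
      rw [← pow_succ', Nat.sub_add_cancel (Nat.one_le_iff_ne_zero.2 hn0)]] at h1
    exact hcop.dvd_of_dvd_mul_right (Int.dvd_of_mul_dvd_mul_left (by exact_mod_cast hp.ne_zero) h1)
  set H := (Subgroup.zpowers (g : G ⧸ A)).comap (QuotientGroup.mk' A) with hH
  haveI hHn : H.Normal := by
    refine Subgroup.Normal.comap ⟨fun y hy k => ?_⟩ _
    obtain ⟨i, rfl⟩ := hy
    rw [← conj_zpow, Subgroup.mem_center_iff.1 huc k, mul_inv_cancel_right]
    exact Subgroup.zpow_mem_zpowers _ i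
  have hHform : ∀ x ∈ H, ∃ (i : ℤ) (j : ℕ), x = a ^ i * g ^ j := by
    intro x hx
    obtain ⟨j, hj⟩ := mem_powers_iff_mem_zpowers.2 hx
    have h1 : x * (g ^ j)⁻¹ ∈ A := by
      rw [← QuotientGroup.eq_one_iff, QuotientGroup.mk_mul, QuotientGroup.mk_inv, QuotientGroup.mk_pow,
        mul_inv_eq_one]
      exact hj.symm
    rw [hA, Subgroup.mem_zpowers_iff] at h1
    obtain ⟨i, hi⟩ := h1
    exact ⟨i, j, by rw [hi, inv_mul_cancel_right]⟩
  -- `z` generates the subgroup of order `p` of `A` and is central in `H`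
  set z := a ^ ((p : ℤ) ^ (n - 1)) with hz
  have hzp : ∀ d : ℤ, (z ^ d) ^ p = 1 := by
    intro d
    rw [hz, ← zpow_natCast, ← zpow_mul, ← zpow_mul, hdvd]
    refine ⟨d, ?_⟩
    nth_rw 2 [← Nat.sub_add_cancel (Nat.one_le_iff_ne_zero.2 hn0)]
    rw [pow_succ]; ring
  have hzg : Commute z g := by
    have h1 := hck 1 ((p : ℤ) ^ (n - 1))
    rw [pow_one, pow_one, ← hz, show a ^ ((p : ℤ) ^ (n - 1) * m) = z by
      rw [hz, ← mul_inv_eq_one, ← zpow_sub, hdvd]
      refine ⟨b, ?_⟩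
      nth_rw 3 [← Nat.sub_add_cancel (Nat.one_le_iff_ne_zero.2 hn0)]
      rw [pow_succ, ← mul_sub_one, hb]; ring] at h1
    exact h1.symm
  have hzH : ∀ x ∈ H, ∀ d : ℤ, Commute (z ^ d) x := by
    intro x hx d
    obtain ⟨i, j, rfl⟩ := hHform x hx
    exact (((Commute.refl a).zpow_zpow _ i).zpow_left d).mul_right ((hzg.pow_right j).zpow_left d)
  have hpowhom : ∀ x ∈ H, ∀ y ∈ H, (x * y) ^ p = x ^ p * y ^ p := by
    intro x hx y hy
    obtain ⟨i, j, rfl⟩ := hHform x hx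
    obtain ⟨k, l, rfl⟩ := hHform y hy
    have h1 : ∀ e : ℕ, ((p : ℤ) ^ (n - 1)) ∣ m ^ e - 1 := fun e =>
      (Dvd.intro w hw.symm).trans (sub_one_dvd_pow_sub_one m e)
    obtain ⟨w1, hw1⟩ := h1 l
    obtain ⟨w2, hw2⟩ := h1 j
    have hxy : a ^ i * g ^ j * (a ^ k * g ^ l) = a ^ (i + k * m ^ j) * g ^ (j + l) := by
      rw [zpow_add, pow_add]
      calc a ^ i * g ^ j * (a ^ k * g ^ l) = a ^ i * (g ^ j * a ^ k) * g ^ l := by group
        _ = _ := by rw [hck]; group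
    have hyx : a ^ k * g ^ l * (a ^ i * g ^ j) = a ^ (k + i * m ^ l) * g ^ (j + l) := by
      rw [zpow_add, add_comm j l, pow_add]
      calc a ^ k * g ^ l * (a ^ i * g ^ j) = a ^ k * (g ^ l * a ^ i) * g ^ j := by group
        _ = _ := by rw [hck]; group
    refine mul_pow_prime_of_comm hp hp2 (c := z ^ (i * w1 - k * w2)) ?_
      (hzH _ hx _) (hzH _ hy _) (hzp _)
    rw [hyx, ← (hzH _ (H.mul_mem hx hy) _).eq, hxy, ← mul_assoc, hz, ← zpow_mul, ← zpow_add]
    congr 2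
    linear_combination i * hw1 - k * hw2
  let W : Subgroup G :=
    { carrier := {x | x ∈ H ∧ x ^ p = 1}
      one_mem' := ⟨H.one_mem, one_pow _⟩
      mul_mem' := fun {x y} hx hy => ⟨H.mul_mem hx.1 hy.1, by rw [hpowhom x hx.1 y hy.1, hx.2, hy.2, one_mul]⟩
      inv_mem' := fun {x} hx => ⟨H.inv_mem hx.1, by rw [inv_pow, hx.2, inv_one]⟩ }
  obtain ⟨c', hc'⟩ : (p : ℤ) ∣ c := by
    by_contra hpc
    refine hgna ?_
    obtain ⟨e, v, hev⟩ : IsCoprime c ((p : ℤ) ^ n) :=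
      ((Nat.prime_iff_prime_int.1 hp).coprime_iff_not_dvd.2 hpc).symm.pow_right
    have hap : a = (g ^ p) ^ e := by
      rw [← hc, ← zpow_mul]
      conv_lhs => rw [← zpow_one a, ← hev, zpow_add, (hdvd (v * (p : ℤ) ^ n)).2 (dvd_mul_left _ _), mul_one]
      rw [mul_comm]
    rw [hap]
    exact ((Commute.refl g).pow_right p).zpow_right e
  have haH : ∀ i : ℤ, a ^ i ∈ H := fun i => by
    show QuotientGroup.mk' A (a ^ i) ∈ Subgroup.zpowers (g : G ⧸ A)
    rw [QuotientGroup.mk'_apply, (QuotientGroup.eq_one_iff _).2 (A.zpow_mem ha i)]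
    exact Subgroup.one_mem _
  have hgH : g ∈ H := Subgroup.mem_zpowers _
  have hx0 : g * a ^ (-c') ∈ W := ⟨H.mul_mem hgH (haH _), by
    rw [hpowhom g hgH _ (haH _), ← hc, ← zpow_natCast, ← zpow_mul, ← zpow_add, hc',
      show (p : ℤ) * c' + -c' * (p : ℤ) = 0 by ring, zpow_zero]⟩
  have hzW : z ∈ W := ⟨haH _, by simpa using hzp 1⟩
  have hz1 : z ≠ 1 := by
    rw [hz, Ne, hdvd]
    intro h
    have h' : p ^ n ∣ p ^ (n - 1) := by exact_mod_cast h
    have := (Nat.pow_dvd_pow_iff_le_right hp.one_lt).1 h'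
    omega
  have hnot : g * a ^ (-c') ∉ Subgroup.zpowers z := fun h => hgA <|
    (A.mul_mem_cancel_right (A.zpow_mem ha (-c'))).1
      ((Subgroup.zpowers_le.2 (A.zpow_mem ha _) : Subgroup.zpowers z ≤ A) h)
  refine ⟨W, ⟨fun x hx k => ⟨hHn.conj_mem x hx.1 k, by rw [conj_pow, hx.2]; group⟩⟩,
    ⟨⟨⟨fun x y => Subtype.ext ?_⟩⟩, fun x hx => hx.2⟩, z, hzW, _, hx0, hz1, hnot⟩
  -- `W` is abelian, being generated by `z` and one further element
  have hform : ∀ x ∈ W, ∃ (d : ℤ) (j : ℕ), x = z ^ d * (g * a ^ (-c')) ^ j := by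
    intro x hx
    obtain ⟨i, j, hij⟩ := hHform x hx.1
    have h1 : x * ((g * a ^ (-c')) ^ j)⁻¹ ∈ A := by
      rw [← QuotientGroup.eq_one_iff, QuotientGroup.mk_mul, QuotientGroup.mk_inv, QuotientGroup.mk_pow,
        QuotientGroup.mk_mul, (QuotientGroup.eq_one_iff _).2 (A.zpow_mem ha (-c')), mul_one, hij,
        QuotientGroup.mk_mul, (QuotientGroup.eq_one_iff _).2 (A.zpow_mem ha i), one_mul,
        QuotientGroup.mk_pow, mul_inv_cancel]
    have h2 : (x * ((g * a ^ (-c')) ^ j)⁻¹) ^ p = 1 :=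
      (W.mul_mem hx (W.inv_mem (W.pow_mem hx0 j))).2
    obtain ⟨e, he⟩ : x * ((g * a ^ (-c')) ^ j)⁻¹ ∈ Subgroup.zpowers a := hA ▸ h1
    simp only at he
    rw [← he, ← zpow_natCast, ← zpow_mul, hdvd] at h2
    obtain ⟨d, hd⟩ : ((p : ℤ) ^ (n - 1)) ∣ e := by
      obtain ⟨d, hd⟩ := h2
      refine ⟨d, mul_left_cancel₀ (show (p : ℤ) ≠ 0 by exact_mod_cast hp.ne_zero) ?_⟩
      rw [mul_comm (p : ℤ) e, hd, ← mul_assoc, ← pow_succ',
        Nat.sub_add_cancel (Nat.one_le_iff_ne_zero.2 hn0)]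
    exact ⟨d, j, by rw [hz, ← zpow_mul, ← hd, he, inv_mul_cancel_right]⟩
  obtain ⟨d, j, hd⟩ := hform x x.2
  obtain ⟨e, l, he⟩ := hform y y.2
  show (x : G) * y = y * x
  rw [hd, he]
  exact (((Commute.refl z).zpow_zpow d e).mul_right ((hzH _ hx0.1 d).pow_right l)).mul_left
    ((((hzH _ hx0.1 e).symm).pow_left j).mul_right ((Commute.refl _).pow_pow j l))

/-- A noncyclic `p`-group, `p` odd, has a normal elementary abelian subgroup of order `p ^ 2`. -/
theorem exists_normal_elementary_sq {p : ℕ} [Fact p.Prime] [Finite G] (hp2 : p ≠ 2)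
    (hG : IsPGroup p G) (hnc : ¬ IsCyclic G) :
    ∃ E : Subgroup G, E.Normal ∧ Cfsg.IsElementaryAbelian p E ∧ Nat.card E = p ^ 2 := by
  obtain ⟨W, hWn, hWe, u, hu, v, hv, hu1, hvu⟩ := exists_normal_elementary_noncyclic hp2 hG hnc
  have hWne : W ≠ ⊥ := fun h => hu1 (Subgroup.mem_bot.1 (h ▸ hu))
  obtain ⟨z, hzW, hzc, hzo⟩ := exists_central_order hG W hWne
  set Z := Subgroup.zpowers z with hZ
  have hZc : Z ≤ Subgroup.center G := Subgroup.zpowers_le.2 hzc
  haveI : Z.Normal := normal_of_le_center' hZc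
  set f := QuotientGroup.mk' Z with hf
  haveI : (W.map f).Normal := hWn.map f (QuotientGroup.mk'_surjective Z)
  have hb : W.map f ≠ ⊥ := by
    rw [Ne, Subgroup.map_eq_bot_iff, hf, QuotientGroup.ker_mk']
    intro hWZ
    have huo : orderOf u = p := orderOf_eq_prime (hWe.2 u hu) hu1
    have heq : Subgroup.zpowers u = Z := Subgroup.eq_of_le_of_card_ge (Subgroup.zpowers_le.2 (hWZ hu))
      (by rw [hZ, Nat.card_zpowers, Nat.card_zpowers, huo, hzo])
    exact hvu (heq ▸ hWZ hv)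
  obtain ⟨-, ⟨w, hwW, rfl⟩, hwc, hwo⟩ := exists_central_order (hG.to_quotient Z) (W.map f) hb
  set B := (Subgroup.zpowers (f w)).comap f with hB
  haveI hBn : B.Normal := by
    haveI : (Subgroup.zpowers (f w)).Normal :=
      normal_of_le_center' (Subgroup.zpowers_le.2 hwc)
    exact Subgroup.Normal.comap inferInstance f
  have hBW : B ≤ W := by
    intro x hx
    obtain ⟨i, hi⟩ := hx
    have h1 : x * (w ^ i)⁻¹ ∈ Z := by
      rw [← QuotientGroup.eq_one_iff, QuotientGroup.mk_mul, QuotientGroup.mk_inv, mul_inv_eq_one]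
      exact hi.symm.trans (map_zpow f w i).symm
    have h2 := W.mul_mem ((Subgroup.zpowers_le.2 hzW : Z ≤ W) h1) (W.zpow_mem hwW i)
    rwa [inv_mul_cancel_right] at h2
  refine ⟨B, hBn, ⟨⟨⟨fun x y => Subtype.ext ?_⟩⟩, fun x hx => hWe.2 x (hBW hx)⟩, ?_⟩
  · have := hWe.1
    show (x : G) * y = y * x
    exact congrArg Subtype.val (mul_comm' (⟨(x : G), hBW x.2⟩ : W) ⟨y, hBW y.2⟩)
  · have h := card_map_mk'_mul_card_inf Z B
    have hZB : Z ≤ B := fun x hx => by
      show f x ∈ Subgroup.zpowers (f w)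
      rw [show f x = 1 from (QuotientGroup.eq_one_iff x).2 hx]
      exact Subgroup.one_mem _
    rw [show B.map (QuotientGroup.mk' Z) = Subgroup.zpowers (f w) from
      Subgroup.map_comap_eq_self_of_surjective (QuotientGroup.mk'_surjective Z) _] at h
    rw [show Z ⊓ B = Z from inf_eq_left.2 hZB, Nat.card_zpowers, hwo, hZ, Nat.card_zpowers, hzo] at h
    rw [pow_two, h]

/-- Conjugation by a `p`-subgroup: only the normalised subgroups count modulo `p`. -/
theorem card_subgroups_modEq_normalised [Finite G] {p : ℕ} [Fact p.Prime] (Q : Subgroup G)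
    (hQ : IsPGroup p Q) (S : Set (Subgroup G))
    (hS : ∀ H ∈ S, ∀ u ∈ Q, MulAut.conj u • H ∈ S) :
    Nat.card S ≡ Nat.card {H : Subgroup G // H ∈ S ∧ Q ≤ Subgroup.normalizer (H : Set G)} [MOD p] := by
  letI : MulAction Q S :=
    { smul := fun u H => ⟨MulAut.conj (u : G) • (H : Subgroup G), hS H H.2 u u.2⟩
      one_smul := fun H => Subtype.ext (conj_one_smul _)
      mul_smul := fun u v H => Subtype.ext (conj_smul_conj (u : G) (v : G) (H : Subgroup G)).symm }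
  refine (IsPGroup.card_modEq_card_fixedPoints hQ S).trans (congrArg (· % p) (Nat.card_congr ?_))
  exact
    { toFun := fun H => ⟨H.1.1, H.1.2, fun u hu =>
        mem_normalizer_of_conj_smul (congrArg Subtype.val (H.2 ⟨u, hu⟩))⟩
      invFun := fun H => ⟨⟨H.1, H.2.1⟩, fun u =>
        Subtype.ext (conj_smul_of_mem_normalizer (H.2.2 u.2))⟩
      left_inv := fun H => rfl
      right_inv := fun H => rfl }

theorem conj_smul_zpowers (u c : G) :
    MulAut.conj u • Subgroup.zpowers c = Subgroup.zpowers (u * c * u⁻¹) := by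
  rw [conj_smul_eq_map, MonoidHom.map_zpowers]
  rfl

theorem orderOf_conj' (u c : G) : orderOf (u * c * u⁻¹) = orderOf c :=
  orderOf_injective (MulAut.conj u).toMonoidHom (MulAut.conj u).injective c

theorem conj_mem_of_le_normalizer {Q H : Subgroup G} (h : Q ≤ Subgroup.normalizer (H : Set G))
    {u x : G} (hu : u ∈ Q) (hx : x ∈ H) : u * x * u⁻¹ ∈ H :=
  ((Subgroup.mem_normalizer_iff.1 (h hu)) x).1 hx

/-- A map all whose nonempty fibres have size divisible by `d`. -/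
theorem dvd_card_of_fibres {α β : Type*} [Finite α] (f : α → β) {d : ℕ}
    (h : ∀ a₀ : α, d ∣ Nat.card {a : α // f a = f a₀}) : d ∣ Nat.card α := by
  classical
  haveI := Fintype.ofFinite (Set.range f)
  rw [← Nat.card_congr (Equiv.sigmaFiberEquiv (Set.rangeFactorization f)), Nat.card_sigma]
  refine Finset.dvd_sum fun b _ => ?_
  obtain ⟨_, a₀, rfl⟩ := b
  refine (h a₀).trans (dvd_of_eq (Nat.card_congr (Equiv.subtypeEquivRight (p := fun a : α => Set.rangeFactorization f a = ⟨f a₀, a₀, rfl⟩)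
    (q := fun a : α => f a = f a₀) fun a => Subtype.ext_iff)).symm)

theorem card_eq_mul_of_fibres {α β : Type*} [Finite α] [Finite β] (f : α → β) {k : ℕ}
    (h : ∀ b : β, Nat.card {a : α // f a = b} = k) : Nat.card α = Nat.card β * k := by
  haveI := Fintype.ofFinite β
  rw [← Nat.card_congr (Equiv.sigmaFiberEquiv f), Nat.card_sigma, Finset.sum_congr rfl (fun b _ => h b),
    Finset.sum_const, smul_eq_mul, Finset.card_univ, ← Nat.card_eq_fintype_card]

/-- Kulakoff: in a noncyclic `p`-group, `p` odd, the number of cyclic subgroups of order `p ^ s`,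
`s ≥ 2`, is divisible by `p`. -/
theorem kulakoff {p : ℕ} [Fact p.Prime] [Finite G] (hp2 : p ≠ 2) (hG : IsPGroup p G)
    (hnc : ¬ IsCyclic G) {s : ℕ} (hs : 2 ≤ s) :
    p ∣ Nat.card {C : Subgroup G // ∃ c, orderOf c = p ^ s ∧ Subgroup.zpowers c = C} := by
  have hp : p.Prime := Fact.out
  obtain ⟨E, hEn, hEe, hEc⟩ := exists_normal_elementary_sq hp2 hG hnc
  have hE := hEe.1
  let S : Set (Subgroup G) := {C | ∃ c, orderOf c = p ^ s ∧ Subgroup.zpowers c = C}
  have hmod := card_subgroups_modEq_normalised E (hG.to_subgroup E) S (by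
    rintro _ ⟨c, hc, rfl⟩ u -
    exact ⟨u * c * u⁻¹, (orderOf_conj' u c).trans hc, (conj_smul_zpowers u c).symm⟩)
  refine (Nat.ModEq.dvd_iff hmod dvd_rfl).2 ?_
  let pw : Subgroup G → Set G := fun C => (fun x => x ^ p) '' (C : Set G)
  refine dvd_card_of_fibres (fun C : {C : Subgroup G // C ∈ S ∧ E ≤ Subgroup.normalizer (C : Set G)} => pw C.1) ?_
  rintro ⟨-, ⟨c0, hc0, rfl⟩, -⟩
  set d := c0 ^ p with hd
  have hdo : ∀ c : G, c ^ p = d → orderOf c = p ^ s := by
    intro c hc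
    obtain ⟨k, hk⟩ := IsPGroup.iff_orderOf.1 hG c
    have hdo' : orderOf d = p ^ (s - 1) := by
      rw [hd, orderOf_pow_of_dvd hp.ne_zero (hc0 ▸ dvd_pow_self p (by omega)), hc0,
        Nat.div_eq_iff_eq_mul_left hp.pos (dvd_pow_self p (by omega)), ← pow_succ,
        Nat.sub_add_cancel (by omega)]
    have hk0 : k ≠ 0 := by
      rintro rfl
      rw [pow_zero, orderOf_eq_one_iff] at hk
      rw [← hc, hk, one_pow, orderOf_one] at hdo'
      have := Nat.one_lt_pow (show s - 1 ≠ 0 by omega) hp.one_lt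
      omega
    rw [← hc, orderOf_pow_of_dvd hp.ne_zero (hk ▸ dvd_pow_self p hk0), hk,
      Nat.div_eq_iff_eq_mul_left hp.pos (dvd_pow_self p hk0), ← pow_succ] at hdo'
    rw [hk, Nat.pow_right_injective hp.two_le hdo', Nat.sub_add_cancel (by omega)]
  let X : Set G := {c | c ^ p = d ∧ ∀ e ∈ E, e * c * e⁻¹ ∈ Subgroup.zpowers c}
  -- `X` is a union of cosets of `E`
  have hsmall : ∀ c : G, c ^ p = d → ∀ x ∈ Subgroup.zpowers c, x ^ p = 1 → x ∈ Subgroup.zpowers d := by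
    intro c hc x hx hxp
    obtain ⟨i, rfl⟩ := hx
    have h1 : ((p ^ s : ℕ) : ℤ) ∣ i * p := by
      rw [← hdo c hc, orderOf_dvd_iff_zpow_eq_one, zpow_mul, zpow_natCast]; exact hxp
    obtain ⟨j, rfl⟩ : (p : ℤ) ∣ i := by
      rw [show s = s - 2 + 1 + 1 by omega, pow_succ, pow_succ] at h1
      push_cast at h1
      obtain ⟨q, hq⟩ := h1
      exact ⟨(p : ℤ) ^ (s - 2) * q, mul_right_cancel₀ (show (p : ℤ) ≠ 0 by exact_mod_cast hp.ne_zero)
        (by linear_combination hq)⟩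
    exact ⟨j, by simp only; rw [← hc, ← zpow_natCast c p, ← zpow_mul]⟩
  have hcomm : ∀ c ∈ X, ∀ e ∈ E, c⁻¹ * (e * c * e⁻¹) ∈ Subgroup.zpowers c ∧ c⁻¹ * (e * c * e⁻¹) ∈ E ∧
      (c⁻¹ * (e * c * e⁻¹)) ^ p = 1 := by
    intro c hc e he
    have h1 : c⁻¹ * (e * c * e⁻¹) ∈ E := by
      have := E.mul_mem (hEn.conj_mem e he c⁻¹) (E.inv_mem he)
      rwa [show c⁻¹ * e * c⁻¹⁻¹ * e⁻¹ = c⁻¹ * (e * c * e⁻¹) by group] at this
    exact ⟨Subgroup.mul_mem _ (Subgroup.inv_mem _ (Subgroup.mem_zpowers c)) (hc.2 e he), h1, hEe.2 _ h1⟩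
  have hce : ∀ c ∈ X, ∀ e ∈ E, (c * e) ^ p = d := by
    intro c hc e he
    obtain ⟨h1, h2, h3⟩ := hcomm c hc e he
    obtain ⟨i, hi⟩ := h1
    rw [mul_pow_prime_of_comm hp hp2 (c := c⁻¹ * (e * c * e⁻¹)) ?_
      (hi ▸ (Commute.refl c).zpow_left i)
      (show Commute (c⁻¹ * (e * c * e⁻¹)) e from congrArg Subtype.val (mul_comm' (⟨_, h2⟩ : E) ⟨e, he⟩)) h3,
      hEe.2 e he, mul_one, hc.1]
    have h4 : (c⁻¹ * (e * c * e⁻¹)) * e = e * (c⁻¹ * (e * c * e⁻¹)) :=
      congrArg Subtype.val (mul_comm' (⟨_, h2⟩ : E) ⟨e, he⟩)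
    rw [mul_assoc c e, ← h4]
    group
  have hXmul : ∀ c ∈ X, ∀ e ∈ E, c * e ∈ X := by
    intro c hc e he
    refine ⟨hce c hc e he, fun e' he' => ?_⟩
    obtain ⟨h1, h2, h3⟩ := hcomm c hc e' he'
    have h4 : c⁻¹ * (e' * c * e'⁻¹) ∈ Subgroup.zpowers (c * e) := by
      refine (Subgroup.zpowers_le.2 ?_ : Subgroup.zpowers d ≤ Subgroup.zpowers (c * e)) (hsmall c hc.1 _ h1 h3)
      rw [← hce c hc e he]
      exact Subgroup.pow_mem _ (Subgroup.mem_zpowers _) _
    have h5 : (c⁻¹ * (e' * c * e'⁻¹)) * e = e * (c⁻¹ * (e' * c * e'⁻¹)) :=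
      congrArg Subtype.val (mul_comm' (⟨_, h2⟩ : E) ⟨e, he⟩)
    have h6 : e' * (c * e) * e'⁻¹ = c * e * (c⁻¹ * (e' * c * e'⁻¹)) := by
      have h7 : e * e'⁻¹ = e'⁻¹ * e := congrArg Subtype.val (mul_comm' (⟨e, he⟩ : E) ⟨_, E.inv_mem he'⟩)
      rw [mul_assoc c e, ← h5]
      calc e' * (c * e) * e'⁻¹ = e' * c * (e * e'⁻¹) := by group
        _ = _ := by rw [h7]; group
    rw [h6]
    exact Subgroup.mul_mem _ (Subgroup.mem_zpowers _) h4
  have hXdvd : p ^ 2 ∣ Nat.card X := by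
    rw [← hEc]
    have hpre : (QuotientGroup.mk : G → G ⧸ E) ⁻¹' ((QuotientGroup.mk : G → G ⧸ E) '' X) = X := by
      refine Set.Subset.antisymm ?_ (Set.subset_preimage_image _ _)
      rintro y ⟨x, hx, hxy⟩
      have h1 := hXmul x hx _ (QuotientGroup.eq.1 hxy)
      rwa [mul_inv_cancel_left] at h1
    have h2 := Nat.card_congr (QuotientGroup.preimageMkEquivSubgroupProdSet E
      ((QuotientGroup.mk : G → G ⧸ E) '' X))
    rw [Nat.card_prod] at h2
    rw [← hpre]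
    exact Dvd.intro _ h2.symm
  -- each subgroup in the fibre contains exactly `p` elements of `X`
  have hfib : ∀ c ∈ X, pw (Subgroup.zpowers c) = pw (Subgroup.zpowers c0) := by
    intro c hc
    have key : ∀ u : G, u ^ p = d → pw (Subgroup.zpowers u) = (Subgroup.zpowers d : Set G) := by
      intro u hu
      ext y
      constructor
      · rintro ⟨_, ⟨i, rfl⟩, rfl⟩
        exact ⟨i, by simp only; rw [← hu, ← zpow_natCast (u ^ i), ← zpow_mul, ← zpow_natCast u p, ← zpow_mul, mul_comm]⟩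
      · rintro ⟨i, rfl⟩
        exact ⟨u ^ i, ⟨i, rfl⟩, by simp only; rw [← hu, ← zpow_natCast (u ^ i), ← zpow_mul, ← zpow_natCast u p, ← zpow_mul, mul_comm]⟩
    rw [key c hc.1, key c0 rfl]
  let F := {C : {C : Subgroup G // C ∈ S ∧ E ≤ Subgroup.normalizer (C : Set G)} //
      pw C.1 = pw (Subgroup.zpowers c0)}
  have hnorm : ∀ c ∈ X, E ≤ Subgroup.normalizer (Subgroup.zpowers c : Set G) := fun c hc e he =>
    mem_normalizer_of_conj_smul (Subgroup.eq_of_le_of_card_ge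
      (by rw [conj_smul_zpowers, Subgroup.zpowers_le]; exact hc.2 e he)
      (by rw [card_conj_smul]))
  let ψ : X → F := fun c => ⟨⟨Subgroup.zpowers (c : G), ⟨c, hdo c c.2.1, rfl⟩, hnorm c c.2⟩, hfib c c.2⟩
  suffices hk : ∀ C : F, Nat.card {c : X // ψ c = C} = p by
    have h := card_eq_mul_of_fibres ψ hk
    rw [h, pow_two] at hXdvd
    exact Nat.dvd_of_mul_dvd_mul_right hp.pos hXdvd
  rintro ⟨⟨C, ⟨c1, hc1o, rfl⟩, hC2⟩, hC3⟩
  have hd' : d ∈ pw (Subgroup.zpowers c1) := by rw [hC3]; exact ⟨c0, Subgroup.mem_zpowers _, rfl⟩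
  obtain ⟨c, hcC, hcd⟩ := hd'
  have hgen : Subgroup.zpowers c = Subgroup.zpowers c1 := Subgroup.eq_of_le_of_card_ge
    (Subgroup.zpowers_le.2 hcC) (by rw [Nat.card_zpowers, Nat.card_zpowers, hdo c hcd, hc1o])
  have hmem : ∀ u : G, u ∈ Subgroup.zpowers c → u ^ p = d → u ∈ X ∧ Subgroup.zpowers u = Subgroup.zpowers c1 := by
    intro u hu hup
    have h1 : Subgroup.zpowers u = Subgroup.zpowers c1 := Subgroup.eq_of_le_of_card_ge
      (Subgroup.zpowers_le.2 (hgen ▸ hu)) (by rw [Nat.card_zpowers, Nat.card_zpowers, hdo u hup, hc1o])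
    exact ⟨⟨hup, fun e he => h1 ▸ conj_mem_of_le_normalizer hC2 he (h1 ▸ Subgroup.mem_zpowers u)⟩, h1⟩
  set z := c ^ p ^ (s - 1) with hz
  have hzo : orderOf z = p := by
    rw [hz, orderOf_pow_of_dvd (pow_ne_zero _ hp.ne_zero) (hdo c hcd ▸ pow_dvd_pow p (by omega)),
      hdo c hcd, Nat.pow_div (by omega) hp.pos, show s - (s - 1) = 1 by omega, pow_one]
  refine Eq.trans ?_ ((Nat.card_zpowers z).trans hzo)
  refine Nat.card_congr
    { toFun := fun u => ⟨c⁻¹ * (u.1 : G), ?_⟩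
      invFun := fun v => ⟨⟨c * v, ?_⟩, ?_⟩
      left_inv := fun u => by simp
      right_inv := fun v => by simp }
  · have hu : Subgroup.zpowers (u.1 : G) = Subgroup.zpowers c1 :=
      congrArg (fun C : F => (C.1.1 : Subgroup G)) u.2
    have h1 : (u.1 : G) ∈ Subgroup.zpowers c := (hu.trans hgen.symm).le (Subgroup.mem_zpowers _)
    obtain ⟨i, hi⟩ := h1
    have hup : (u.1 : G) ^ p = c ^ p := u.1.2.1.trans hcd.symm
    rw [← hi] at hup ⊢
    simp only at hup ⊢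
    have h2 : ((p ^ s : ℕ) : ℤ) ∣ (i - 1) * p := by
      rw [← hdo c hcd, orderOf_dvd_iff_zpow_eq_one, zpow_mul, zpow_natCast, zpow_sub_one,
        ((Commute.refl c).zpow_left i).inv_right.mul_pow, inv_pow, hup, mul_inv_cancel]
    obtain ⟨j, hj⟩ : ((p : ℤ) ^ (s - 1)) ∣ i - 1 := by
      rw [show s = s - 1 + 1 by omega, pow_succ, Nat.cast_mul, Nat.cast_pow] at h2
      exact Int.dvd_of_mul_dvd_mul_right (by exact_mod_cast hp.ne_zero) h2
    refine ⟨j, ?_⟩
    simp only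
    rw [hz, ← zpow_natCast, ← zpow_mul, Nat.cast_pow, ← hj, ← zpow_neg_one, ← zpow_add]
    congr 1
    ring
  · have hv : (v : G) ∈ Subgroup.zpowers c :=
      (Subgroup.zpowers_le.2 (Subgroup.pow_mem _ (Subgroup.mem_zpowers c) _) : _ ≤ Subgroup.zpowers c) v.2
    have hvp : (v : G) ^ p = 1 := by
      obtain ⟨i, hi⟩ := v.2
      rw [← hi, ← zpow_natCast, ← zpow_mul, mul_comm, zpow_mul, zpow_natCast, ← hzo, pow_orderOf_eq_one,
        one_zpow]
    obtain ⟨i, hi⟩ := hv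
    exact (hmem _ (Subgroup.mul_mem _ (Subgroup.mem_zpowers c) ⟨i, hi⟩) (by
      rw [(show Commute c (v : G) from hi ▸ (Commute.refl c).zpow_right i).mul_pow, hvp, mul_one]; exact hcd)).1
  · exact Subtype.ext (Subtype.ext (hmem _ (Subgroup.mul_mem _ (Subgroup.mem_zpowers c)
      ((Subgroup.zpowers_le.2 (Subgroup.pow_mem _ (Subgroup.mem_zpowers c) _) : _ ≤ Subgroup.zpowers c) v.2)) (by
      obtain ⟨i, hi⟩ := v.2
      have hi' : (v : G) = c ^ ((p : ℤ) ^ (s - 1) * i) := by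
        rw [zpow_mul, ← Nat.cast_pow, zpow_natCast]; exact hi.symm
      rw [hi', ((Commute.refl c).zpow_right _).mul_pow, ← zpow_natCast (c ^ _), ← zpow_mul, mul_comm ((p : ℤ) ^ (s - 1)) i,
        mul_assoc, ← pow_succ, Nat.sub_add_cancel (by omega), mul_comm i, zpow_mul,
        show c ^ ((p : ℤ) ^ s) = 1 by rw [← Nat.cast_pow, zpow_natCast, ← hdo c hcd, pow_orderOf_eq_one],
        one_zpow, mul_one]
      exact hcd)).2)

end Cfsg.Agent.Solv
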