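import Mathlib
import Cfsg.Agent.Lib.Solv.ConjRep
import Cfsg.Agent.Lib.Solv.CoprimeRep
import Cfsg.Agent.Lib.Solv.FrobeniusFormula
import Cfsg.Agent.Lib.Solv.Coprime
import Cfsg.Agent.Lib.Solv.Kulakoff
import Cfsg.Agent.Lib.Solv.PGroupPhi

/-!
A `p`-group with a fixed-point-free operator of prime order, inside a linear group in which the
operator has at most a line of fixed vectors.
-/

set_option autoImplicit false
set_option linter.style.haveILetI false

namespace Cfsg.Agent.Solv.SingleFix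

open scoped commutatorElement

universe u v w

/-- A group with a fixed-point-free operator of prime order `r` has order `1` modulo `r`. -/
theorem fpf_modEq {G : Type u} [Group G] [Finite G] {r : ℕ} [Fact r.Prime] (A : Subgroup G) (x : G)
    (hxr : x ^ r = 1) (hxA : x ∈ Subgroup.normalizer (A : Set G))
    (hfpf : ∀ y ∈ A, x * y = y * x → y = 1) : Nat.card A ≡ 1 [MOD r] := by
  have hZ : Subgroup.zpowers x ≤ Subgroup.normalizer (A : Set G) := Subgroup.zpowers_le.2 hxA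
  letI act : MulAction (Subgroup.zpowers x) A :=
    { smul := fun a v => ⟨(a : G) * v * (a : G)⁻¹, (Subgroup.mem_normalizer_iff.1 (hZ a.2) v).1 v.2⟩
      one_smul := fun v => Subtype.ext (by show ((1 : Subgroup.zpowers x) : G) * v * _ = v; simp)
      mul_smul := fun a b v => Subtype.ext (by
        show ((a * b : Subgroup.zpowers x) : G) * v * ((a * b : Subgroup.zpowers x) : G)⁻¹ =
          (a : G) * ((b : G) * v * (b : G)⁻¹) * (a : G)⁻¹
        push_cast; group) }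
  have hr : IsPGroup r (Subgroup.zpowers x) := by
    intro a
    refine ⟨1, ?_⟩
    obtain ⟨i, hi⟩ := Subgroup.mem_zpowers_iff.1 a.2
    refine Subtype.ext ?_
    rw [pow_one, SubmonoidClass.coe_pow, ← hi, ← zpow_natCast, ← zpow_mul, mul_comm, zpow_mul, zpow_natCast, hxr,
      one_zpow, OneMemClass.coe_one]
  refine (hr.card_modEq_card_fixedPoints A).trans ?_
  have h1 : Nat.card (MulAction.fixedPoints (Subgroup.zpowers x) A) = 1 := by
    rw [Nat.card_eq_one_iff_unique]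
    refine ⟨⟨fun a b => ?_⟩, ⟨⟨1, fun a => Subtype.ext (show (a : G) * ((1 : A) : G) * (a : G)⁻¹ = ((1 : A) : G) by simp)⟩⟩⟩
    have h : ∀ c : MulAction.fixedPoints (Subgroup.zpowers x) A, ((c : A) : G) = 1 := fun c => by
      have h2 := congrArg Subtype.val (c.2 ⟨x, Subgroup.mem_zpowers x⟩)
      exact hfpf _ (c : A).2 (mul_inv_eq_iff_eq_mul.1 h2)
    exact Subtype.ext (Subtype.ext ((h a).trans (h b).symm))
  rw [h1]

/-- If all points moved by `x` form one cycle of `x`, then `P` fixes everything. -/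
theorem orbit_fix {N : Type u} [Group N] [Finite N] {Ω : Type v} [MulAction N Ω] {p r : ℕ} [hp : Fact p.Prime]
    [hr : Fact r.Prime] (hp2 : p ≠ 2) (hr2 : r ≠ 2) (P : Subgroup N) (hP : IsPGroup p P) (x : N) (hxr : x ^ r = 1)
    (hxP : x ∈ Subgroup.normalizer (P : Set N)) (hfpf : ∀ y ∈ P, x * y = y * x → y = 1)
    (hM : ∀ χ ψ : Ω, x • χ ≠ χ → x • ψ ≠ ψ → ∃ i, i < r ∧ ψ = x ^ i • χ) :
    ∀ y ∈ P, ∀ ω : Ω, y • ω = ω := by
  classical
  -- two fixed points in an orbit of `P` coincide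
  have hinj : ∀ (S : Subgroup N), S ≤ P → x ∈ Subgroup.normalizer (S : Set N) → ∀ d ∈ S, ∃ u ∈ S, u⁻¹ * (x * u * x⁻¹) = d := by
    intro S hSP hxS d hd
    have hi : Function.Injective (fun u : S => (⟨(u : N)⁻¹ * (x * u * x⁻¹),
        mul_mem (inv_mem u.2) ((Subgroup.mem_normalizer_iff.1 hxS u).1 u.2)⟩ : S)) := by
      intro u v huv
      have h : (u : N)⁻¹ * (x * u * x⁻¹) = (v : N)⁻¹ * (x * v * x⁻¹) := congrArg Subtype.val huv
      have h2 : x * ((v : N) * (u : N)⁻¹) = ((v : N) * (u : N)⁻¹) * x := by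
        calc x * ((v : N) * (u : N)⁻¹) = (x * v * x⁻¹) * ((x * u * x⁻¹)⁻¹ * x) := by group
          _ = (v : N) * ((u : N)⁻¹ * (x * u * x⁻¹)) * ((x * u * x⁻¹)⁻¹ * x) := by rw [h]; group
          _ = _ := by group
      have h3 := hfpf _ (hSP (mul_mem v.2 (inv_mem u.2))) h2
      exact (Subtype.ext (eq_of_mul_inv_eq_one h3)).symm
    obtain ⟨u, hu⟩ := (Finite.injective_iff_surjective.1 hi) ⟨d, hd⟩
    exact ⟨u, u.2, congrArg Subtype.val hu⟩
  intro y0 hy0 ω
  by_contra hne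
  by_cases hfix : ∃ y ∈ P, x • y • ω = y • ω
  · obtain ⟨y1, hy1, hf⟩ := hfix
    obtain ⟨f, hfe⟩ : ∃ f, f = y1 • ω := ⟨_, rfl⟩
    rw [← hfe] at hf
    obtain ⟨S, hS⟩ : ∃ S, S = P ⊓ MulAction.stabilizer N f := ⟨_, rfl⟩
    have hSP : S ≤ P := hS ▸ inf_le_left
    have hxS : x ∈ Subgroup.normalizer (S : Set N) := by
      rw [hS]
      refine Subgroup.inf_normalizer_le_normalizer_inf (Subgroup.mem_inf.2 ⟨hxP, ?_⟩)
      exact Subgroup.le_normalizer (MulAction.mem_stabilizer_iff.2 hf)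
    -- the only fixed point in the orbit is `f`
    have huniq : ∀ y ∈ P, x • y • f = y • f → y • f = f := by
      intro y hy hyf
      have hd : y⁻¹ * (x * y * x⁻¹) ∈ S := by
        rw [hS]
        refine Subgroup.mem_inf.2 ⟨mul_mem (inv_mem hy) ((Subgroup.mem_normalizer_iff.1 hxP y).1 hy), MulAction.mem_stabilizer_iff.2 ?_⟩
        rw [mul_smul, mul_smul, mul_smul, show x⁻¹ • f = f from inv_smul_eq_iff.2 hf.symm, hyf, inv_smul_smul]
      obtain ⟨u, hu, hue⟩ := hinj S hSP hxS _ hd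
      have h2 : x * (y * u⁻¹) = (y * u⁻¹) * x := by
        calc x * (y * u⁻¹) = (x * y * x⁻¹) * ((x * u * x⁻¹)⁻¹ * x) := by group
          _ = y * (u⁻¹ * (x * u * x⁻¹)) * ((x * u * x⁻¹)⁻¹ * x) := by rw [hue]; group
          _ = _ := by group
      rw [eq_of_mul_inv_eq_one (hfpf _ (mul_mem hy (inv_mem (hSP hu))) h2)]
      rw [hS] at hu
      exact hu.2
    have horb : ∃ y ∈ P, y • f ≠ f := by
      by_contra hall
      push Not at hall
      refine hne ?_
      have h1 : ω = f := by rw [← hall _ (inv_mem hy1), hfe, inv_smul_smul]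
      rw [h1]; exact hall y0 hy0
    obtain ⟨y2, hy2, hy2f⟩ := horb
    obtain ⟨n, hn⟩ : ∃ n, n = (MulAction.orbit P f).ncard := ⟨_, rfl⟩
    have hofin : (MulAction.orbit P f).Finite := Set.finite_range fun y : P => y • f
    have hidx : S.relIndex P = n := by
      rw [hn, ← MulAction.index_stabilizer, Subgroup.relIndex]
      congr 1
      ext z
      simp [Subgroup.mem_subgroupOf, hS, MulAction.mem_stabilizer_iff, Subgroup.smul_def]
    have hmod : n ≡ 1 [MOD r] := by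
      have h1 := fpf_modEq P x hxr hxP hfpf
      have h2 := fpf_modEq S x hxr hxS (fun y hy => hfpf y (hSP hy))
      have h3 := Subgroup.relIndex_mul_relIndex ⊥ S P bot_le hSP
      rw [Subgroup.relIndex_bot_left, Subgroup.relIndex_bot_left, hidx] at h3
      rw [← h3] at h1
      have := (h2.mul_right n).symm.trans h1
      rwa [one_mul] at this
    obtain ⟨a, ha⟩ : ∃ a, n = p ^ a := by
      obtain ⟨a, ha⟩ := hP.index (MulAction.stabilizer P f)
      exact ⟨a, by rw [hn, ← MulAction.index_stabilizer, ha]⟩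
    have hn1 : 1 < n := by
      rw [hn, Set.one_lt_ncard hofin]
      exact ⟨y2 • f, ⟨⟨y2, hy2⟩, rfl⟩, f, MulAction.mem_orbit_self f, hy2f⟩
    have hle : n - 1 ≤ r := by
      have hmoved : ∀ ψ ∈ MulAction.orbit P f, ψ ≠ f → x • ψ ≠ ψ := by
        rintro _ ⟨y, rfl⟩ hne' he
        exact hne' (huniq y y.2 he)
      have hsub : MulAction.orbit P f \ {f} ⊆ (fun i => x ^ i • y2 • f) '' (Finset.range r : Set ℕ) := by
        rintro ψ ⟨hψ, hψf⟩
        obtain ⟨i, hi, e⟩ := hM (y2 • f) ψ (hmoved _ ⟨⟨y2, hy2⟩, rfl⟩ hy2f) (hmoved ψ hψ hψf)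
        exact ⟨i, by simpa using hi, e.symm⟩
      have h1 := Set.ncard_le_ncard hsub (Set.toFinite _)
      rw [Set.ncard_diff_singleton_of_mem (MulAction.mem_orbit_self f), ← hn] at h1
      refine h1.trans ((Set.ncard_image_le (Set.toFinite _)).trans ?_)
      rw [Set.ncard_coe_finset, Finset.card_range]
    obtain ⟨c, hc⟩ := (Nat.modEq_iff_dvd' hn1.le).1 hmod.symm
    have hc1 : c = 1 := by
      rcases c with _ | _ | c
      · omega
      · rfl
      · exfalso
        have : r * 2 ≤ r * (c + 1 + 1) := Nat.mul_le_mul_left r (by omega)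
        have := hr.out.two_le
        omega
    subst hc1
    have hodd : Odd n := ha ▸ (hp.out.odd_of_ne_two hp2).pow
    have hev : Even (r + 1) := (hr.out.odd_of_ne_two hr2).add_one
    rw [show n = r + 1 by omega] at hodd
    exact (Nat.not_even_iff_odd.2 hodd) hev
  · push Not at hfix
    have hω : x • ω ≠ ω := by simpa using hfix 1 (one_mem P)
    obtain ⟨i, hi, e⟩ := hM ω (y0 • ω) hω (hfix y0 hy0)
    have hi0 : i ≠ 0 := fun h => hne (by rw [e, h, pow_zero, one_smul])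
    obtain ⟨m, hm⟩ := exists_pow_eq_self_of_coprime (x := x) (n := i)
      (Nat.Coprime.coprime_dvd_right (orderOf_dvd_of_pow_eq_one hxr)
        ((hr.out.coprime_iff_not_dvd.2 fun h => by
          have := Nat.le_of_dvd (Nat.pos_of_ne_zero hi0) h; omega).symm))
    have hgen : ∀ f : Ω, x ^ i • f = f → x • f = f := fun f hf => by
      have hk : ∀ k : ℕ, (x ^ i) ^ k • f = f := by
        intro k
        induction k with
        | zero => simp
        | succ k ih => rw [pow_succ, mul_smul, hf, ih]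
      rw [← hm]; exact hk m
    have hxiP : x ^ i ∈ Subgroup.normalizer (P : Set N) := pow_mem hxP i
    have hi' : Function.Injective (fun u : P => (⟨(u : N)⁻¹ * (x ^ i * u * (x ^ i)⁻¹),
        mul_mem (inv_mem u.2) ((Subgroup.mem_normalizer_iff.1 hxiP u).1 u.2)⟩ : P)) := by
      intro u v huv
      have h : (u : N)⁻¹ * (x ^ i * u * (x ^ i)⁻¹) = (v : N)⁻¹ * (x ^ i * v * (x ^ i)⁻¹) := congrArg Subtype.val huv
      have h2 : Commute (x ^ i) ((v : N) * (u : N)⁻¹) := by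
        calc x ^ i * ((v : N) * (u : N)⁻¹) = (x ^ i * v * (x ^ i)⁻¹) * ((x ^ i * u * (x ^ i)⁻¹)⁻¹ * x ^ i) := by group
          _ = (v : N) * ((u : N)⁻¹ * (x ^ i * u * (x ^ i)⁻¹)) * ((x ^ i * u * (x ^ i)⁻¹)⁻¹ * x ^ i) := by rw [h]; group
          _ = _ := by group
      have h3 := hfpf _ (mul_mem v.2 (inv_mem u.2)) (by
        have := h2.pow_left m
        rw [hm] at this
        exact this.eq)
      exact (Subtype.ext (eq_of_mul_inv_eq_one h3)).symm
    obtain ⟨u, hu⟩ := (Finite.injective_iff_surjective.1 hi') ⟨y0⁻¹, inv_mem hy0⟩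
    have hu' : (u : N)⁻¹ * (x ^ i * u * (x ^ i)⁻¹) = y0⁻¹ := congrArg Subtype.val hu
    refine hfix u u.2 (hgen _ ?_)
    have h4 : x ^ i * u = u * (y0⁻¹ * x ^ i) := by rw [← hu']; group
    rw [← mul_smul, h4, mul_smul, mul_smul, ← e, inv_smul_smul]

section linear

variable {G : Type u} [Group G] [Finite G] {F : Type v} [Field F] [IsAlgClosed F]
  {W : Type w} [AddCommGroup W] [Module F W] [FiniteDimensional F W]

omit [Finite G] [IsAlgClosed F] [FiniteDimensional F W] in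
theorem sum_mem_fix (ρ : G →* Module.End F W) (x : G) {r : ℕ} (hxr : x ^ r = 1) (w : W) :
    (∑ i ∈ Finset.range r, ρ x ^ i : Module.End F W) w ∈ FrobFix.fixS ρ (Subgroup.zpowers x : Set G) := by
  obtain ⟨S, hS⟩ : ∃ S : Module.End F W, S = ∑ i ∈ Finset.range r, ρ x ^ i := ⟨_, rfl⟩
  have h1 : ρ x * S = S := by
    have h1 := Finset.sum_range_succ' (fun i => ρ x ^ i) r
    have h2 := Finset.sum_range_succ (fun i => ρ x ^ i) r
    rw [h1, pow_zero, ← map_pow, hxr, map_one] at h2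
    rw [hS, Finset.mul_sum]
    refine Eq.trans (Finset.sum_congr rfl fun i _ => ?_) (add_right_cancel h2)
    rw [← pow_succ']
  obtain ⟨u, hu⟩ : ∃ u, u = S w := ⟨_, rfl⟩
  have hx : ρ x u = u := by rw [hu, ← Module.End.mul_apply, h1]
  rw [← hS, ← hu, FrobFix.mem_fixS]
  intro g hg
  obtain ⟨k, rfl⟩ := Subgroup.mem_zpowers_iff.1 hg
  induction k using Int.induction_on with
  | zero => simp
  | succ k ih =>
    rw [zpow_add_one, map_mul, Module.End.mul_apply, hx]
    exact ih ⟨k, rfl⟩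
  | pred k ih =>
    have hx' : ρ x⁻¹ u = u := by
      conv_lhs => rw [← hx]
      exact CRep.rep_inv_apply ρ x u
    rw [zpow_sub_one, map_mul, Module.End.mul_apply, hx']
    exact ih ⟨-(k : ℤ), rfl⟩

/-- The abelian case: the `p`-group fixes all weights. -/
theorem abelian_case {p r : ℕ} [Fact p.Prime] [hr : Fact r.Prime] (hp2 : p ≠ 2) (hr2 : r ≠ 2) (ρ : G →* Module.End F W)
    (Q P : Subgroup G) (x : G) (hQc : IsMulCommutative Q) (hQF : (Nat.card Q : F) ≠ 0) (hP : IsPGroup p P)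
    (hPQ : P ≤ Subgroup.normalizer (Q : Set G)) (hxr : x ^ r = 1) (hxQ : x ∈ Subgroup.normalizer (Q : Set G))
    (hxP : x ∈ Subgroup.normalizer (P : Set G)) (hfpf : ∀ y ∈ P, x * y = y * x → y = 1)
    (hdim : Module.finrank F (FrobFix.fixS ρ (Subgroup.zpowers x : Set G)) ≤ 1) (hgen : ⁅Q, P⁆ = Q) :
    ∀ a ∈ Q, ρ a = 1 := by
  classical
  haveI := Fintype.ofFinite Q
  letI cQ : CommGroup Q := { (inferInstance : Group Q) with mul_comm := hQc.is_comm.comm }
  obtain ⟨N, hN⟩ : ∃ N, N = Subgroup.normalizer (Q : Set G) := ⟨_, rfl⟩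
  have hNconj : ∀ (g : N) (a : Q), (g : G)⁻¹ * a * g ∈ Q := fun g a => by
    have h := (Subgroup.mem_normalizer_iff.1 (show (g : G)⁻¹ ∈ Subgroup.normalizer (Q : Set G) from hN ▸ inv_mem g.2) a).1 a.2
    rwa [inv_inv] at h
  obtain ⟨tw, htw⟩ : ∃ tw : N → (Q →* Fˣ) → (Q →* Fˣ), ∀ g χ a, tw g χ a = χ ⟨(g : G)⁻¹ * a * g, hNconj g a⟩ :=
    ⟨fun g χ => χ.comp
      { toFun := fun a => ⟨(g : G)⁻¹ * a * g, hNconj g a⟩
        map_one' := Subtype.ext (by simp)
        map_mul' := fun a b => Subtype.ext (by simp [mul_assoc]) }, fun g χ a => rfl⟩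
  letI act : MulAction N (Q →* Fˣ) :=
    { smul := tw
      one_smul := fun χ => MonoidHom.ext fun a => by
        show tw 1 χ a = χ a
        rw [htw]; exact congrArg χ (Subtype.ext (by simp))
      mul_smul := fun g h χ => MonoidHom.ext fun a => by
        show tw (g * h) χ a = tw g (tw h χ) a
        rw [htw, htw, htw]; exact congrArg χ (Subtype.ext (by simp [mul_assoc])) }
  have hsmul : ∀ (g : N) (χ : Q →* Fˣ) a, (g • χ) a = χ ⟨(g : G)⁻¹ * a * g, hNconj g a⟩ := htw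
  have hmove : ∀ (g : N) (χ : Q →* Fˣ) (v : W), (∀ a : Q, ρ a v = (χ a : F) • v) →
      ∀ a : Q, ρ a (ρ g v) = ((g • χ) a : F) • ρ g v := by
    intro g χ v hv a
    rw [hsmul, ← map_smul, ← hv ⟨(g : G)⁻¹ * a * g, hNconj g a⟩, ← Module.End.mul_apply, ← map_mul,
      ← Module.End.mul_apply, ← map_mul]
    congr 2
    show (a : G) * g = g * ((g : G)⁻¹ * a * g)
    group
  let Ω : SubMulAction N (Q →* Fˣ) :=
    { carrier := {χ | ∃ v : W, v ≠ 0 ∧ ∀ a : Q, ρ a v = (χ a : F) • v}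
      smul_mem' := by
        rintro g χ ⟨v, hv0, hv⟩
        exact ⟨ρ g v, fun h => hv0 (CRep.rep_injective ρ (g : G) (h.trans (map_zero _).symm)), hmove g χ v hv⟩ }
  obtain ⟨xN, hxN⟩ : ∃ xN : N, (xN : G) = x := ⟨⟨x, hN ▸ hxQ⟩, rfl⟩
  have hxNr : xN ^ r = 1 := Subtype.ext (by rw [SubmonoidClass.coe_pow, hxN, hxr]; rfl)
  have hxNP : xN ∈ Subgroup.normalizer ((P.subgroupOf N : Subgroup N) : Set N) := by
    rw [Subgroup.mem_normalizer_iff]
    intro y
    rw [Subgroup.mem_subgroupOf, Subgroup.mem_subgroupOf, Subgroup.coe_mul, Subgroup.coe_mul, Subgroup.coe_inv, hxN]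
    exact Subgroup.mem_normalizer_iff.1 hxP y
  have hPN : IsPGroup p (P.subgroupOf N) := hP.of_equiv (Subgroup.subgroupOfEquivOfLe (hN ▸ hPQ)).symm
  -- the projection onto a weight space
  have hproj : ∀ (χ ψ : Q →* Fˣ) (v : W), (∀ a : Q, ρ a v = (ψ a : F) • v) →
      (∑ a : Q, ((χ a)⁻¹ : Fˣ).val • ρ (a : G)) v = if χ = ψ then (Nat.card Q : F) • v else 0 := by
    intro χ ψ v hv
    rw [LinearMap.sum_apply]
    have h1 : ∀ a : Q, (((χ a)⁻¹ : Fˣ).val • ρ (a : G)) v = ((χ⁻¹ * ψ) a : F) • v := fun a => by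
      rw [LinearMap.smul_apply, hv, smul_smul]; rfl
    rw [Finset.sum_congr rfl fun a _ => h1 a, ← Finset.sum_smul]
    split_ifs with h
    · subst h
      rw [Finset.sum_congr rfl (fun a _ => show ((χ⁻¹ * χ) a : F) = 1 by simp), Finset.sum_const, Finset.card_univ,
        Nat.card_eq_fintype_card, nsmul_eq_mul, mul_one]
    · rw [FrobFix.sum_char (χ⁻¹ * ψ) (fun h' => h (inv_mul_eq_one.1 h')), zero_smul]
  have hM : ∀ χ ψ : Ω, xN • χ ≠ χ → xN • ψ ≠ ψ → ∃ i, i < r ∧ ψ = xN ^ i • χ := by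
    rintro ⟨χ, v, hv0, hv⟩ ⟨ψ, w, hw0, hw⟩ hχ hψ
    have hχ' : xN • χ ≠ χ := fun h => hχ (Subtype.ext h)
    have hterm : ∀ (φ : Q →* Fˣ) (u : W), (∀ a : Q, ρ a u = (φ a : F) • u) → ∀ i : ℕ,
        ∀ a : Q, ρ a ((ρ x ^ i) u) = ((xN ^ i • φ) a : F) • (ρ x ^ i) u := by
      intro φ u hu i a
      have h1 := hmove (xN ^ i) φ u hu a
      rwa [SubmonoidClass.coe_pow, hxN, map_pow] at h1
    have hne : ∀ i, i < r → i ≠ 0 → χ ≠ xN ^ i • χ := by
      intro i hi hi0 h
      obtain ⟨m, hm⟩ := exists_pow_eq_self_of_coprime (x := xN) (n := i)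
        (Nat.Coprime.coprime_dvd_right (orderOf_dvd_of_pow_eq_one hxNr)
          ((hr.out.coprime_iff_not_dvd.2 fun h => by
            have := Nat.le_of_dvd (Nat.pos_of_ne_zero hi0) h; omega).symm))
      have hk : ∀ k : ℕ, (xN ^ i) ^ k • χ = χ := by
        intro k
        induction k with
        | zero => simp
        | succ k ih => rw [pow_succ, mul_smul, ← h, ih]
      exact hχ' (by have := hk m; rwa [hm] at this)
    by_contra hno
    push Not at hno
    obtain ⟨P₀, hP₀⟩ : ∃ P₀ : Module.End F W, P₀ = ∑ a : Q, ((χ a)⁻¹ : Fˣ).val • ρ (a : G) := ⟨_, rfl⟩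
    have h1 : P₀ ((∑ i ∈ Finset.range r, ρ x ^ i : Module.End F W) v) = (Nat.card Q : F) • v := by
      rw [LinearMap.sum_apply, map_sum, Finset.sum_eq_single 0]
      · rw [pow_zero, Module.End.one_apply, hP₀, hproj χ χ v hv, if_pos rfl]
      · intro i hi hi0
        rw [hP₀, hproj χ _ _ (hterm χ v hv i), if_neg (hne i (Finset.mem_range.1 hi) hi0)]
      · intro h; exact absurd (Finset.mem_range.2 hr.out.pos) h
    have h2 : P₀ ((∑ i ∈ Finset.range r, ρ x ^ i : Module.End F W) w) = 0 := by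
      rw [LinearMap.sum_apply, map_sum, Finset.sum_eq_zero]
      intro i hi
      rw [hP₀, hproj χ _ _ (hterm ψ w hw i), if_neg]
      intro h
      have hir := Finset.mem_range.1 hi
      by_cases hi0 : i = 0
      · exact hno 0 hr.out.pos (Subtype.ext (by rw [hi0] at h; simpa using h.symm))
      · refine hno (r - i) (by omega) (Subtype.ext ?_)
        show ψ = xN ^ (r - i) • χ
        rw [h, ← mul_smul, ← pow_add, Nat.sub_add_cancel hir.le, hxNr, one_smul]
    obtain ⟨sv, hsv⟩ : ∃ sv : FrobFix.fixS ρ (Subgroup.zpowers x : Set G), (sv : W) = (∑ i ∈ Finset.range r, ρ x ^ i : Module.End F W) v :=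
      ⟨⟨_, sum_mem_fix ρ x hxr v⟩, rfl⟩
    obtain ⟨sw, hsw⟩ : ∃ sw : FrobFix.fixS ρ (Subgroup.zpowers x : Set G), (sw : W) = (∑ i ∈ Finset.range r, ρ x ^ i : Module.End F W) w :=
      ⟨⟨_, sum_mem_fix ρ x hxr w⟩, rfl⟩
    obtain ⟨b, hb⟩ := finrank_le_one_iff.1 hdim
    obtain ⟨c1, hc1⟩ := hb sv
    obtain ⟨c2, hc2⟩ := hb sw
    have hb1 : c1 • P₀ (b : W) = (Nat.card Q : F) • v := by
      rw [← map_smul, ← h1, ← hsv, ← hc1]; rfl
    have hb2 : c2 • P₀ (b : W) = 0 := by rw [← map_smul, ← h2, ← hsw, ← hc2]; rfl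
    have hb0 : P₀ (b : W) ≠ 0 := fun h => hv0 ((smul_eq_zero.1 (hb1.symm.trans (by rw [h, smul_zero]))).resolve_left hQF)
    have hsw0 : (∑ i ∈ Finset.range r, ρ x ^ i : Module.End F W) w = 0 := by
      rw [← hsw, ← hc2, (smul_eq_zero.1 hb2).resolve_right hb0]; simp
    -- apply the projection onto the weight of `w`
    obtain ⟨P₁, hP₁⟩ : ∃ P₁ : Module.End F W, P₁ = ∑ a : Q, ((ψ a)⁻¹ : Fˣ).val • ρ (a : G) := ⟨_, rfl⟩
    have h3 : P₁ ((∑ i ∈ Finset.range r, ρ x ^ i : Module.End F W) w) = (Nat.card Q : F) • w := by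
      rw [LinearMap.sum_apply, map_sum, Finset.sum_eq_single 0]
      · rw [pow_zero, Module.End.one_apply, hP₁, hproj ψ ψ w hw, if_pos rfl]
      · intro i hi hi0
        rw [hP₁, hproj ψ _ _ (hterm ψ w hw i), if_neg]
        intro h
        obtain ⟨m, hm⟩ := exists_pow_eq_self_of_coprime (x := xN) (n := i)
          (Nat.Coprime.coprime_dvd_right (orderOf_dvd_of_pow_eq_one hxNr)
            ((hr.out.coprime_iff_not_dvd.2 fun h' => by
              have := Nat.le_of_dvd (Nat.pos_of_ne_zero hi0) h'; have := Finset.mem_range.1 hi; omega).symm))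
        have hk : ∀ k : ℕ, (xN ^ i) ^ k • ψ = ψ := by
          intro k
          induction k with
          | zero => simp
          | succ k ih => rw [pow_succ, mul_smul, ← h, ih]
        refine hψ (Subtype.ext ?_)
        show xN • ψ = ψ
        have := hk m; rwa [hm] at this
      · intro h; exact absurd (Finset.mem_range.2 hr.out.pos) h
    rw [hsw0, map_zero, eq_comm, smul_eq_zero] at h3
    exact h3.elim hQF hw0
  have hfix := orbit_fix hp2 hr2 (P.subgroupOf N) hPN xN hxNr hxNP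
    (fun y hy h => Subtype.ext (hfpf y hy (by have := congrArg Subtype.val h; simpa [hxN] using this))) hM
  by_contra hcon
  push Not at hcon
  obtain ⟨a₀, ha₀, ha₀1⟩ := hcon
  obtain ⟨ρ0, hρ0⟩ : ∃ ρ0, ρ0 = ρ.comp Q.subtype := ⟨_, rfl⟩
  refine ha₀1 ?_
  have := CRep.triv_of_simple ρ0 ⊤ (by rwa [Subgroup.card_top]) (fun U hU hs => ?_) ⟨a₀, ha₀⟩ (Subgroup.mem_top _)
  · rw [hρ0] at this; exact this
  haveI := hs.1
  have hsc : ∀ a : Q, ∃ c : F, CRep.subRep ρ0 U hU a = c • (1 : Module.End F U) := fun a =>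
    CRep.schur hs _ fun b => by rw [← map_mul, ← map_mul, mul_comm]
  choose c hc using hsc
  obtain ⟨u, hu⟩ := exists_ne (0 : U)
  let μ : Q →* F :=
    { toFun := c
      map_one' := CRep.smul_one_injective (W := U) (by rw [← hc 1, map_one, one_smul])
      map_mul' := fun a b => CRep.smul_one_injective (W := U) (by
        rw [← hc (a * b), map_mul, hc a, hc b, smul_mul_assoc, one_mul, smul_smul]) }
  have hμ : ∀ (a : Q) (w : W), w ∈ U → ρ a w = (μ.toHomUnits a : F) • w := fun a w hw => by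
    have h1 := congrArg Subtype.val (LinearMap.congr_fun (hc a) (⟨w, hw⟩ : U))
    rw [CRep.subRep_apply, hρ0] at h1
    simpa [μ] using h1
  obtain ⟨χ, hχ⟩ : ∃ χ : Ω, (χ : Q →* Fˣ) = μ.toHomUnits :=
    ⟨⟨μ.toHomUnits, (u : W), fun h => hu (Subtype.ext h), fun a => hμ a u u.2⟩, rfl⟩
  intro k _ w hw
  have hk : μ.toHomUnits k = 1 := by
    have hle : ⁅Q, P⁆ ≤ (μ.toHomUnits.ker).map Q.subtype := by
      refine Subgroup.commutator_le.2 fun a ha y hy => ?_
      have hyN : y ∈ N := hN ▸ hPQ hy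
      have h1 := congrArg (fun f : Q →* Fˣ => f ⟨a, ha⟩)
        (congrArg Subtype.val (hfix ⟨y, hyN⟩⁻¹ (inv_mem (show (⟨y, hyN⟩ : N) ∈ P.subgroupOf N from hy)) χ))
      simp only [SubMulAction.val_smul, hχ] at h1
      rw [hsmul] at h1
      have hmem : y * a⁻¹ * y⁻¹ ∈ Q := (Subgroup.mem_normalizer_iff.1 (hPQ hy) a⁻¹).1 (inv_mem ha)
      refine ⟨(⟨a, ha⟩ : Q) * ⟨y * a⁻¹ * y⁻¹, hmem⟩, ?_, ?_⟩
      · show _ * _ ∈ μ.toHomUnits.ker
        rw [MonoidHom.mem_ker, map_mul, show (⟨y * a⁻¹ * y⁻¹, hmem⟩ : Q) = (⟨_, hNconj (⟨y, hyN⟩⁻¹) ⟨a, ha⟩⟩ : Q)⁻¹ from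
          Subtype.ext (by simp [mul_assoc]), map_inv, h1, mul_inv_cancel]
      · simp [commutatorElement_def, mul_assoc]
    obtain ⟨z, hz, hzk⟩ := hle (show (k : G) ∈ ⁅Q, P⁆ by rw [hgen]; exact k.2)
    rw [← show z = k from Subtype.ext hzk]; exact hz
  rw [hρ0]
  show ρ k w = w
  rw [hμ k w hw, hk, Units.val_one, one_smul]

/-- The derived subgroup acts trivially if it is central and the operator has no fixed points on it. -/
theorem derived_case {r : ℕ} [hr : Fact r.Prime] (ρ : G →* Module.End F W) (Q : Subgroup G) (x : G)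
    (hQF : (Nat.card Q : F) ≠ 0) (hxr : x ^ r = 1) (hxQ : x ∈ Subgroup.normalizer (Q : Set G))
    (hcen : ⁅Q, Q⁆ ≤ Subgroup.centralizer (Q : Set G)) (hfpf : ∀ z ∈ ⁅Q, Q⁆, x * z = z * x → z = 1)
    (hdim : Module.finrank F (FrobFix.fixS ρ (Subgroup.zpowers x : Set G)) ≤ 1) :
    ∀ z ∈ ⁅Q, Q⁆, ρ z = 1 := by
  classical
  obtain ⟨ρ0, hρ0⟩ : ∃ ρ0, ρ0 = ρ.comp Q.subtype := ⟨_, rfl⟩
  obtain ⟨φ, hφ⟩ : ∃ φ : MulAut Q, ∀ z : Q, ((φ z : Q) : G) = x * z * x⁻¹ :=
    ⟨Subgroup.normalizerMonoidHom Q ⟨x, hxQ⟩, fun z => rfl⟩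
  have hφr : φ ^ r = 1 := by
    have hk : ∀ (a : ℕ) (z : Q), (((φ ^ a) z : Q) : G) = x ^ a * z * (x ^ a)⁻¹ := by
      intro a
      induction a with
      | zero => intro z; simp
      | succ a ih => intro z; rw [pow_succ, MulAut.mul_apply, ih, hφ, pow_succ]; group
    exact MulEquiv.ext fun z => Subtype.ext (by rw [hk, hxr]; simp)
  have hxint : ∀ g : Q, ρ x * ρ0 g = ρ0 (φ g) * ρ x := fun g => by
    rw [hρ0, MonoidHom.comp_apply, MonoidHom.comp_apply, ← map_mul, ← map_mul]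
    congr 1
    show x * g = ((φ g : Q) : G) * x
    rw [hφ]; group
  intro z hz
  have hzQ : z ∈ Q := (Subgroup.commutator_le.2 fun a ha b hb => by
    rw [commutatorElement_def]; exact mul_mem (mul_mem (mul_mem ha hb) (inv_mem ha)) (inv_mem hb)) hz
  have key := CRep.triv_of_simple ρ0 (commutator Q) (by
    intro h
    refine hQF ?_
    obtain ⟨m, hm⟩ := Subgroup.card_subgroup_dvd_card (commutator Q)
    rw [hm, Nat.cast_mul, h, zero_mul]) (fun U hU hs => ?_) ⟨z, hzQ⟩ (by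
      rw [commutator_def, ← Subgroup.mem_map_iff_mem (f := Q.subtype) Q.subtype_injective, Subgroup.map_commutator,
        ← MonoidHom.range_eq_map, Subgroup.range_subtype]
      exact hz)
  · rw [hρ0] at key; exact key
  haveI := hs.1
  intro k hk w hw
  by_contra hne
  have hkG : ∀ k ∈ commutator Q, ((k : Q) : G) ∈ ⁅Q, Q⁆ := fun k hk => by
    have h1 : Q.subtype k ∈ (commutator Q).map Q.subtype := ⟨k, hk, rfl⟩
    rwa [commutator_def, Subgroup.map_commutator, ← MonoidHom.range_eq_map, Subgroup.range_subtype] at h1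
  have hsc : ∀ a : commutator Q, ∃ c : F, CRep.subRep ρ0 U hU a = c • (1 : Module.End F U) := fun a =>
    CRep.schur hs _ fun b => by
      rw [← map_mul, ← map_mul]
      congr 1
      exact Subtype.ext (Subgroup.mem_centralizer_iff.1 (hcen (hkG a a.2)) b b.2).symm
  choose c hc using hsc
  have hno : ¬ ∃ t : Module.End F U, t ≠ 0 ∧ ∀ g, t * CRep.subRep ρ0 U hU g = CRep.subRep ρ0 U hU (φ g) * t := by
    rintro ⟨t, ht0, hti⟩
    have hinj := CRep.intertwiner_injective hs t ht0 (fun g => CRep.subRep ρ0 U hU (φ g)) fun g w => by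
      rw [← Module.End.mul_apply, hti, Module.End.mul_apply]
    have hphi : ∀ a ∈ commutator Q, φ a ∈ commutator Q := fun a ha =>
      (Subgroup.characteristic_iff_map_eq.1 (inferInstance : (commutator Q).Characteristic) φ).le ⟨a, ha, rfl⟩
    have hceq : ∀ a : commutator Q, CRep.subRep ρ0 U hU (φ (a : Q)) = CRep.subRep ρ0 U hU (a : Q) := by
      intro a
      refine LinearMap.ext fun y => ?_
      obtain ⟨v, rfl⟩ := (LinearMap.injective_iff_surjective.1 hinj) y
      rw [← Module.End.mul_apply, ← hti, Module.End.mul_apply, hc a, LinearMap.smul_apply, LinearMap.smul_apply,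
        Module.End.one_apply, Module.End.one_apply, map_smul]
    have hsurj : Function.Surjective (fun a : commutator Q =>
        (⟨(a : Q)⁻¹ * φ a, mul_mem (inv_mem a.2) (hphi a a.2)⟩ : commutator Q)) := by
      refine Finite.injective_iff_surjective.1 fun a b hab => ?_
      have h : ((a : Q) : G)⁻¹ * (x * a * x⁻¹) = ((b : Q) : G)⁻¹ * (x * b * x⁻¹) := by
        have h0 := congrArg (fun t : commutator Q => ((t : Q) : G)) hab
        simpa [hφ] using h0
      have h2 : x * (((b : Q) : G) * ((a : Q) : G)⁻¹) = (((b : Q) : G) * ((a : Q) : G)⁻¹) * x := by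
        calc x * (((b : Q) : G) * ((a : Q) : G)⁻¹) =
              (x * b * x⁻¹) * ((x * a * x⁻¹)⁻¹ * x) := by group
          _ = ((b : Q) : G) * (((a : Q) : G)⁻¹ * (x * a * x⁻¹)) * ((x * a * x⁻¹)⁻¹ * x) := by rw [h]; group
          _ = _ := by group
      have h3 := hfpf _ (mul_mem (hkG b b.2) (inv_mem (hkG a a.2))) h2
      exact (Subtype.ext (Subtype.ext (eq_of_mul_inv_eq_one h3))).symm
    obtain ⟨a, ha⟩ := hsurj ⟨k, hk⟩
    have ha' : (a : Q)⁻¹ * φ a = k := congrArg Subtype.val ha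
    refine hne ?_
    have h1 : CRep.subRep ρ0 U hU k = 1 := by
      rw [← ha', map_mul, hceq, ← map_mul, inv_mul_cancel, map_one]
    have h2 := congrArg Subtype.val (LinearMap.congr_fun h1 ⟨w, hw⟩)
    simpa [CRep.subRep_apply] using h2
  have hind := CRep.orbit_independent ρ0 hr.out φ hφr (ρ x) hxint (by rw [← map_pow, hxr, map_one]) U hU hs hno
  have hU1 : Module.finrank F U ≤ 1 := by
    refine le_trans (LinearMap.finrank_le_finrank_of_injective
      (f := LinearMap.codRestrict (FrobFix.fixS ρ (Subgroup.zpowers x : Set G))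
        ((∑ i ∈ Finset.range r, ρ x ^ i : Module.End F W) ∘ₗ U.subtype) fun u => sum_mem_fix ρ x hxr (u : W)) ?_) hdim
    rw [← LinearMap.ker_eq_bot, LinearMap.ker_eq_bot']
    exact fun u hu => hind u (congrArg Subtype.val hu)
  obtain ⟨v, hv⟩ := finrank_le_one_iff.1 hU1
  have hcommQ : ∀ a b : Q, CRep.subRep ρ0 U hU a * CRep.subRep ρ0 U hU b =
      CRep.subRep ρ0 U hU b * CRep.subRep ρ0 U hU a := by
    intro a b
    refine LinearMap.ext fun y => ?_
    obtain ⟨e, rfl⟩ := hv y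
    obtain ⟨ea, hea⟩ := hv (CRep.subRep ρ0 U hU a v)
    obtain ⟨eb, heb⟩ := hv (CRep.subRep ρ0 U hU b v)
    rw [Module.End.mul_apply, Module.End.mul_apply, map_smul, map_smul, map_smul, map_smul, ← heb, map_smul, ← hea,
      map_smul, ← heb]
    simp only [smul_smul]
    congr 1
    ring
  have hker : commutator Q ≤ (CRep.subRep ρ0 U hU).ker := by
    rw [commutator_def]
    refine Subgroup.commutator_le.2 fun a _ b _ => ?_
    rw [MonoidHom.mem_ker, show ⁅a, b⁆ = (a * b) * (b * a)⁻¹ by rw [commutatorElement_def]; group, map_mul, map_mul,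
      hcommQ, ← map_mul, ← map_mul, mul_inv_cancel, map_one]
  have h2 := congrArg Subtype.val (LinearMap.congr_fun (MonoidHom.mem_ker.1 (hker hk)) ⟨w, hw⟩)
  exact hne (by simpa [CRep.subRep_apply] using h2)

omit [Finite G] in
theorem mem_normalizer_commutator {A B : Subgroup G} {g : G} (hA : g ∈ Subgroup.normalizer (A : Set G))
    (hB : g ∈ Subgroup.normalizer (B : Set G)) : g ∈ Subgroup.normalizer ((⁅A, B⁆ : Subgroup G) : Set G) := by
  have hmap : ∀ {C : Subgroup G}, g ∈ Subgroup.normalizer (C : Set G) → C.map (MulAut.conj g).toMonoidHom = C := by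
    intro C hC
    ext y
    constructor
    · rintro ⟨c, hc, rfl⟩
      exact (Subgroup.mem_normalizer_iff.1 hC c).1 hc
    · intro hy
      refine ⟨g⁻¹ * y * g, (Subgroup.mem_normalizer_iff.1 hC _).2 ?_, by simp [mul_assoc]⟩
      rwa [show g * (g⁻¹ * y * g) * g⁻¹ = y by group]
  have h := Subgroup.map_commutator A B (MulAut.conj g).toMonoidHom
  rw [hmap hA, hmap hB] at h
  rw [Subgroup.mem_normalizer_iff]
  intro y
  constructor
  · intro hy
    exact h.le ⟨y, hy, rfl⟩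
  · intro hy
    obtain ⟨c, hc, e⟩ := h.ge hy
    have : c = y := (MulAut.conj g).injective e
    rwa [this] at hc

omit [Finite G] in
theorem mem_normalizer_char {Q : Subgroup G} (K : Subgroup Q) [hK : K.Characteristic] {g : G}
    (hg : g ∈ Subgroup.normalizer (Q : Set G)) : g ∈ Subgroup.normalizer ((K.map Q.subtype : Subgroup G) : Set G) := by
  have hfwd : ∀ g : G, g ∈ Subgroup.normalizer (Q : Set G) → ∀ y ∈ K.map Q.subtype, g * y * g⁻¹ ∈ K.map Q.subtype := by
    rintro g hg _ ⟨z, hz, rfl⟩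
    refine ⟨Subgroup.normalizerMonoidHom Q ⟨g, hg⟩ z, ?_, rfl⟩
    exact (Subgroup.characteristic_iff_map_eq.1 hK _).le ⟨z, hz, rfl⟩
  rw [Subgroup.mem_normalizer_iff]
  refine fun y => ⟨hfwd g hg y, fun hy => ?_⟩
  have := hfwd g⁻¹ (inv_mem hg) _ hy
  rwa [show g⁻¹ * (g * y * g⁻¹) * g⁻¹⁻¹ = y by group] at this

/-- The main statement: `P` centralizes `Q`. -/
theorem commutator_eq_bot {p q r : ℕ} [hp : Fact p.Prime] [hq : Fact q.Prime] [hr : Fact r.Prime] (hp2 : p ≠ 2)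
    (hq2 : q ≠ 2) (hr2 : r ≠ 2) (hqp : q ≠ p) (hqr : q ≠ r) (hqF : (q : F) ≠ 0)
    (ρ : G →* Module.End F W) (Q P : Subgroup G) (x : G) (hQ : IsPGroup q Q) (hP : IsPGroup p P)
    (hρ : ∀ g ∈ Q, ρ g = 1 → g = 1) (hxo : orderOf x = r)
    (hPQ : P ≤ Subgroup.normalizer (Q : Set G)) (hxQ : x ∈ Subgroup.normalizer (Q : Set G))
    (hxP : x ∈ Subgroup.normalizer (P : Set G)) (hfpf : ∀ y ∈ P, x * y = y * x → y = 1)
    (hcyc : IsCyclic ↥(Q ⊓ Subgroup.centralizer {x}))
    (hdim : Module.finrank F (FrobFix.fixS ρ (Subgroup.zpowers x : Set G)) ≤ 1) : ⁅Q, P⁆ = ⊥ := by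
  classical
  by_contra hne
  obtain ⟨Q0, hQ0Q, ⟨hPQ0, hxQ0, hne0⟩, hmin⟩ := Finite.exists_le_minimal
    (p := fun U : Subgroup G => P ≤ Subgroup.normalizer (U : Set G) ∧ x ∈ Subgroup.normalizer (U : Set G) ∧ ⁅U, P⁆ ≠ ⊥)
    (a := Q) ⟨hPQ, hxQ, hne⟩
  have hQ0 : IsPGroup q Q0 := hQ.to_le hQ0Q
  have hxr : x ^ r = 1 := hxo ▸ pow_orderOf_eq_one x
  have hcard0 : ∀ S : Subgroup G, IsPGroup q S → (Nat.card S : F) ≠ 0 := fun S hS => by
    obtain ⟨j, hj⟩ := hS.exists_card_eq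
    rw [hj, Nat.cast_pow]; exact pow_ne_zero _ hqF
  have hsub : ∀ U : Subgroup G, U ≤ Q0 → P ≤ Subgroup.normalizer (U : Set G) → x ∈ Subgroup.normalizer (U : Set G) →
      U ≠ Q0 → ⁅U, P⁆ = ⊥ := fun U hU hPU hxU hne' => by
    by_contra h
    exact hne' (le_antisymm hU (hmin ⟨hPU, hxU, h⟩ hU))
  have hcoP : (Nat.card P).Coprime (Nat.card Q0) := by
    obtain ⟨i, hi⟩ := hP.exists_card_eq
    obtain ⟨j, hj⟩ := hQ0.exists_card_eq
    rw [hi, hj]
    exact ((Nat.coprime_primes hp.out hq.out).2 (Ne.symm hqp)).pow _ _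
  haveI := hQ0.isNilpotent
  have hsol : Group.IsSolvable Q0 := inferInstance
  have hgen : ⁅Q0, P⁆ = Q0 := by
    by_contra h
    have hle : ⁅Q0, P⁆ ≤ Q0 := Subgroup.commutator_le.2 fun a ha b hb => by
      rw [commutatorElement_def]
      exact Solv.comm_mem_of_mem_normalizer (hPQ0 hb) ha
    have h1 := hsub _ hle (fun y hy => mem_normalizer_commutator (hPQ0 hy) (Subgroup.le_normalizer hy))
      (mem_normalizer_commutator hxQ0 hxP) h
    rw [Solv.commutator_commutator_eq hPQ0 hcoP (Or.inr hsol)] at h1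
    exact hne0 h1
  obtain ⟨Φ, hΦ⟩ : ∃ Φ, Φ = (frattini Q0).map Q0.subtype := ⟨_, rfl⟩
  have hΦQ : Φ ≤ Q0 := hΦ ▸ Subgroup.map_subtype_le _
  have hQne : Q0 ≠ ⊥ := fun h => hne0 (by rw [h, Subgroup.commutator_bot_left])
  haveI : Nontrivial Q0 := (Subgroup.nontrivial_iff_ne_bot Q0).2 hQne
  have hΦne : Φ ≠ Q0 := fun h => by
    have h1 : frattini Q0 = ⊤ := by
      apply Subgroup.map_injective Q0.subtype_injective
      rw [← MonoidHom.range_eq_map, Subgroup.range_subtype, ← hΦ, h]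
    haveI : IsCoatomic (Subgroup Q0) := inferInstance
    rcases eq_top_or_exists_le_coatom (⊥ : Subgroup Q0) with h2 | ⟨M, hM, -⟩
    · exact bot_ne_top h2
    · exact hM.1 (top_le_iff.1 (h1.ge.trans (frattini_le_coatom hM)))
  have hΦP : ⁅Φ, P⁆ = ⊥ := hsub Φ hΦQ (fun y hy => hΦ ▸ mem_normalizer_char _ (hPQ0 hy))
    (hΦ ▸ mem_normalizer_char _ hxQ0) hΦne
  have hDΦ : ∀ a ∈ Q0, ∀ b ∈ Q0, ⁅a, b⁆ ∈ Φ := fun a ha b hb => by
    rw [hΦ]
    exact ⟨_, commutatorElement_mem_frattini hQ0 ⟨a, ha⟩ ⟨b, hb⟩, by simp [commutatorElement_def]⟩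
  have hcen : Φ ≤ Subgroup.centralizer (Q0 : Set G) := by
    rw [← Subgroup.commutator_eq_bot_iff_le_centralizer, Subgroup.commutator_comm]
    conv_lhs => rw [← hgen]
    refine Subgroup.commutator_commutator_eq_bot_of_rotate ?_ ?_
    · rw [Subgroup.commutator_comm P Φ, hΦP, Subgroup.commutator_bot_left]
    · refine le_bot_iff.1 ((Subgroup.commutator_mono (K₁ := Φ) (Subgroup.commutator_le.2 fun a ha b hb => ?_) le_rfl).trans
        hΦP.le)
      exact hDΦ a (hΦQ ha) b hb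
  have hPc : ∀ d ∈ Φ, ∀ y ∈ P, d * y = y * d := fun d hd y hy =>
    (Subgroup.mem_centralizer_iff.1 ((Subgroup.commutator_eq_bot_iff_le_centralizer.1 hΦP) hd) y hy).symm
  have hcomm : ∀ a ∈ Q0, ∀ b ∈ Q0, ∀ c ∈ Φ, c * a = a * c := fun a ha _ _ c hc =>
    (Subgroup.mem_centralizer_iff.1 (hcen hc) a ha).symm
  have hpowΦ : ∀ a ∈ Q0, a ^ q ∈ Φ := fun a ha => hΦ ▸ ⟨_, pow_mem_frattini hQ0 ⟨a, ha⟩, rfl⟩
  have hmulpow : ∀ a ∈ Q0, ∀ b ∈ Q0, (a * b) ^ q = a ^ q * b ^ q := by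
    intro a ha b hb
    obtain ⟨c, hc⟩ : ∃ c, c = b⁻¹ * a⁻¹ * b * a := ⟨_, rfl⟩
    have hcΦ : c ∈ Φ := by
      have := hDΦ b⁻¹ (inv_mem hb) a⁻¹ (inv_mem ha)
      rwa [commutatorElement_def, inv_inv, inv_inv, ← hc] at this
    have hca : Commute c a := hcomm a ha a ha c hcΦ
    have hcb : Commute c b := hcomm b hb b hb c hcΦ
    refine Solv.mul_pow_prime_of_comm hq.out hq2 (c := c) (by rw [hc]; group) hca hcb ?_
    have h1 : a⁻¹ * b * a = b * c := by rw [hc]; group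
    have h2 : (a⁻¹ * b * a) ^ q = b ^ q := by
      have h3 : a⁻¹ * b * a = MulAut.conj a⁻¹ b := by simp
      rw [h3, ← map_pow, MulAut.conj_apply, inv_inv, mul_assoc, hcomm a ha a ha _ (hpowΦ b hb), inv_mul_cancel_left]
    rw [h1, hcb.symm.mul_pow] at h2
    exact mul_eq_left.1 h2
  have hexp : ∀ a ∈ Q0, a ^ q = 1 := by
    intro a ha
    rw [← hgen] at ha
    refine (Subgroup.closure_induction (p := fun z _ => z ∈ Q0 ∧ z ^ q = 1) ?_ ⟨one_mem _, one_pow q⟩
      (fun u v _ _ hu hv => ⟨mul_mem hu.1 hv.1, by rw [hmulpow u hu.1 v hv.1, hu.2, hv.2, mul_one]⟩)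
      (fun u _ hu => ⟨inv_mem hu.1, by rw [inv_pow, hu.2, inv_one]⟩) (Subgroup.commutator_def Q0 P ▸ ha)).2
    rintro _ ⟨b, hb, y, hy, rfl⟩
    have hyb : y * b⁻¹ * y⁻¹ ∈ Q0 := (Subgroup.mem_normalizer_iff.1 (hPQ0 hy) b⁻¹).1 (inv_mem hb)
    rw [show ⁅b, y⁆ = b * (y * b⁻¹ * y⁻¹) by rw [commutatorElement_def]; group]
    refine ⟨mul_mem hb hyb, ?_⟩
    rw [hmulpow b hb _ hyb, conj_pow, inv_pow, ← hPc _ (inv_mem (hpowΦ b hb)) y hy, mul_inv_cancel_right, mul_inv_cancel]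
  -- a fixed point of `x` outside the Frattini subgroup
  obtain ⟨c, hc, hcΦ⟩ : ∃ c ∈ Q0 ⊓ Subgroup.centralizer {x}, c ∉ Φ := by
    by_contra h
    push Not at h
    have hCE : Q0 ⊓ Subgroup.centralizer (Subgroup.zpowers x : Set G) ≤
        Subgroup.centralizer (P : Set G) := fun d hd => by
      refine Subgroup.mem_centralizer_iff.2 fun y hy => (hPc d (h d ⟨hd.1, ?_⟩) y hy).symm
      exact Subgroup.mem_centralizer_singleton_iff.2
        (Subgroup.mem_centralizer_iff.1 hd.2 x (Subgroup.mem_zpowers x)).symm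
    have hcoX : (Nat.card Q0).Coprime (Nat.card ↥(P ⊔ Subgroup.zpowers x)) := by
      have h2 : Nat.card ↥(P ⊔ Subgroup.zpowers x) ∣ Nat.card P * Nat.card (Subgroup.zpowers x) := by
        rw [← Solv.card_sup_mul_card_inf' P (Subgroup.zpowers x) (Subgroup.zpowers_le.2 hxP)]
        exact dvd_mul_right _ _
      refine (Nat.Coprime.mul_right hcoP.symm ?_).coprime_dvd_right h2
      obtain ⟨j, hj⟩ := hQ0.exists_card_eq
      rw [hj, Nat.card_zpowers, hxo]
      exact ((Nat.coprime_primes hq.out hr.out).2 hqr).pow_left j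
    have hf : ∀ e ∈ Subgroup.zpowers x, e ≠ 1 → ∀ u ∈ P, e * u = u * e → u = 1 := by
      intro e he he1 u hu h2
      have heo : Subgroup.zpowers e = Subgroup.zpowers x := by
        haveI : Fact (Nat.card (Subgroup.zpowers x)).Prime := ⟨by rw [Nat.card_zpowers, hxo]; exact hr.out⟩
        refine le_antisymm (Subgroup.zpowers_le.2 he) ?_
        have h3 := zpowers_eq_top_of_prime_card (G := Subgroup.zpowers x) (g := ⟨e, he⟩) rfl (fun h4 => he1 (congrArg Subtype.val h4))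
        intro z hz
        obtain ⟨k, hk⟩ := Subgroup.mem_zpowers_iff.1 (h3.ge (Subgroup.mem_top (⟨z, hz⟩ : Subgroup.zpowers x)))
        exact ⟨k, congrArg Subtype.val hk⟩
      obtain ⟨k, hk⟩ := Subgroup.mem_zpowers_iff.1 (heo ▸ Subgroup.mem_zpowers x : x ∈ Subgroup.zpowers e)
      exact hfpf u hu (hk ▸ (show Commute e u from h2).zpow_left k).eq
    have key := FrobFix.formula Q0 P (Subgroup.zpowers x) hsol (sup_le hPQ0 (Subgroup.zpowers_le.2 hxQ0))
      (Subgroup.zpowers_le.2 hxP) hf hcoX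
    have heq : Q0 ⊓ Subgroup.centralizer ((P ⊔ Subgroup.zpowers x : Subgroup G) : Set G) =
        Q0 ⊓ Subgroup.centralizer (Subgroup.zpowers x : Set G) := by
      refine le_antisymm (inf_le_inf_left _ (Subgroup.centralizer_le (SetLike.coe_subset_coe.2 le_sup_right))) ?_
      intro d hd
      refine Subgroup.mem_inf.2 ⟨hd.1, ?_⟩
      have h1 : P ⊔ Subgroup.zpowers x ≤ Subgroup.centralizer {d} := sup_le
        (fun y hy => Subgroup.mem_centralizer_singleton_iff.2 (Subgroup.mem_centralizer_iff.1 (hCE hd) y hy))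
        (fun y hy => Subgroup.mem_centralizer_singleton_iff.2 (Subgroup.mem_centralizer_iff.1 hd.2 y hy))
      exact Subgroup.mem_centralizer_iff.2 fun y hy => Subgroup.mem_centralizer_singleton_iff.1 (h1 hy)
    rw [heq] at key
    have h1 : Q0 ⊓ Subgroup.centralizer (P : Set G) = Q0 :=
      Subgroup.eq_of_le_of_card_ge inf_le_left (Nat.eq_of_mul_eq_mul_left (pow_pos Nat.card_pos _) key).le
    exact hne0 (Subgroup.commutator_eq_bot_iff_le_centralizer.2 (h1 ▸ inf_le_right))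
  obtain ⟨hcQ, hcx⟩ := Subgroup.mem_inf.1 hc
  have hΦfpf : ∀ d ∈ Φ, x * d = d * x → d = 1 := by
    intro d hd hdx
    obtain ⟨C, hC⟩ : ∃ C, C = Q ⊓ Subgroup.centralizer {x} := ⟨_, rfl⟩
    rw [← hC] at hcyc
    haveI := hcyc
    haveI := Fintype.ofFinite C
    have hcC : c ∈ C := hC ▸ Subgroup.mem_inf.2 ⟨hQ0Q hcQ, hcx⟩
    have hdC : d ∈ C := hC ▸ Subgroup.mem_inf.2 ⟨hQ0Q (hΦQ hd), Subgroup.mem_centralizer_singleton_iff.2 hdx.symm⟩
    have hin : ∀ z ∈ C, z ^ q = 1 → z ∈ Subgroup.zpowers c := by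
      intro z hz hzq
      -- in a cyclic group there is one subgroup of order `q`
      have hc1 : c ≠ 1 := fun h => hcΦ (h ▸ one_mem Φ)
      have hco : orderOf c = q := orderOf_eq_prime (hexp c hcQ) hc1
      have hA : ∀ w : C, w ^ q = 1 → w ∈ Subgroup.zpowers (⟨c, hcC⟩ : C) := by
        intro w hw
        have hle := IsCyclic.card_pow_eq_one_le (α := C) (n := q) hq.out.pos
        have hfin : (Subgroup.zpowers (⟨c, hcC⟩ : C) : Set C).toFinset ⊆
            Finset.univ.filter (fun w : C => w ^ q = 1) := fun u hu => by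
          rw [Set.mem_toFinset] at hu
          refine Finset.mem_filter.2 ⟨Finset.mem_univ _, ?_⟩
          obtain ⟨k, rfl⟩ := Subgroup.mem_zpowers_iff.1 hu
          rw [← zpow_natCast, ← zpow_mul, mul_comm, zpow_mul, zpow_natCast,
            show (⟨c, hcC⟩ : C) ^ q = 1 from Subtype.ext (hexp c hcQ), one_zpow]
        have heq := Finset.eq_of_subset_of_card_le hfin (by
          rw [Set.toFinset_card, ← Nat.card_eq_fintype_card]
          refine hle.trans ?_
          show q ≤ Nat.card (Subgroup.zpowers (⟨c, hcC⟩ : C))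
          rw [Nat.card_zpowers, Subgroup.orderOf_mk, hco])
        have h5 : w ∈ Finset.univ.filter (fun w : C => w ^ q = 1) := Finset.mem_filter.2 ⟨Finset.mem_univ _, hw⟩
        rw [← heq, Set.mem_toFinset] at h5
        exact h5
      obtain ⟨k, hk⟩ := Subgroup.mem_zpowers_iff.1 (hA ⟨z, hz⟩ (Subtype.ext hzq))
      exact ⟨k, congrArg Subtype.val hk⟩
    by_contra hd1
    have hco : orderOf c = q := orderOf_eq_prime (hexp c hcQ) (fun h => hcΦ (h ▸ one_mem Φ))
    have heq : Subgroup.zpowers d = Subgroup.zpowers c := Subgroup.eq_of_le_of_card_ge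
      (Subgroup.zpowers_le.2 (hin d hdC (hexp d (hΦQ hd))))
      (by rw [Nat.card_zpowers, Nat.card_zpowers, hco, orderOf_eq_prime (hexp d (hΦQ hd)) hd1])
    exact hcΦ ((Subgroup.zpowers_le.2 hd) (heq ▸ Subgroup.mem_zpowers c))
  have hDle : ⁅Q0, Q0⁆ ≤ Φ := Subgroup.commutator_le.2 hDΦ
  have hD : ∀ z ∈ ⁅Q0, Q0⁆, z = 1 := fun z hz => hρ z (hQ0Q (hΦQ (hDle hz)))
    (derived_case ρ Q0 x (hcard0 _ hQ0) hxr hxQ0 (hDle.trans hcen) (fun d hd => hΦfpf d (hDle hd)) hdim z hz)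
  have hab : IsMulCommutative Q0 := ⟨⟨fun a b => Subtype.ext (commutatorElement_eq_one_iff_mul_comm.1
    (hD _ (Subgroup.commutator_mem_commutator a.2 b.2)))⟩⟩
  refine hQne ((Subgroup.eq_bot_iff_forall _).2 fun a ha => hρ a (hQ0Q ha) ?_)
  exact abelian_case hp2 hr2 ρ Q0 P x hab (hcard0 _ hQ0) hP hPQ0 hxr hxQ0 hxP hfpf hdim hgen a ha

end linear

end Cfsg.Agent.Solv.SingleFix
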