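import Cfsg.Agent.Lib.Solv.CyclicSelfCentral
import Cfsg.Agent.Lib.Solv.Extraspecial
import Cfsg.Agent.Lib.Fusion.Critical
import Cfsg.Agent.Lib.Fusion.RankTwoExponent

/-! p-groups in which every characteristic abelian subgroup is cyclic. -/

set_option autoImplicit false
set_option linter.style.haveILetI false

namespace Cfsg.Agent.Solv.Symp

variable {G : Type*} [Group G] [Finite G] {p : ℕ} [hp : Fact p.Prime]

omit hp in
/-- centraliser index bound in a class two situation -/
theorem centralizer_bound (hG : IsPGroup p G) [Fact p.Prime] {z : G} (hzq : z ^ p = 1) (S Z0 : Subgroup G)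
    (hZ : ∀ s ∈ S, ∀ a ∈ Z0, a * s = s * a) :
    ∀ (d : ℕ) (D : Subgroup G), Nat.card D = d → Z0 ≤ D →
      (∀ x ∈ D, ∀ s ∈ S, (x⁻¹ * (s * x * s⁻¹)) ∈ Subgroup.zpowers z) →
      (S ⊓ Subgroup.centralizer (D : Set G)).relIndex S ≤ Z0.relIndex D := by
  have hp' : p.Prime := Fact.out
  intro d
  induction d using Nat.strong_induction_on with
  | _ d IH =>
  intro D hd hle hcomm
  by_cases heq : Z0 = D
  · subst heq
    rw [Subgroup.relIndex_self, show S ⊓ Subgroup.centralizer (Z0 : Set G) = S from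
      inf_eq_left.2 fun s hs => Subgroup.mem_centralizer_iff.2 fun a ha => hZ s hs a ha, Subgroup.relIndex_self]
  obtain ⟨D0, ⟨hD0l, hD0lt⟩, hmax⟩ := (Set.toFinite {K : Subgroup G | Z0 ≤ K ∧ K < D}).exists_maximal
    ⟨Z0, le_rfl, lt_of_le_of_ne hle heq⟩
  obtain ⟨x, hxD, hx⟩ := SetLike.exists_of_lt hD0lt
  have hgen : D0 ⊔ Subgroup.zpowers x = D := by
    refine eq_of_le_of_not_lt (sup_le hD0lt.le (Subgroup.zpowers_le.2 hxD)) fun h => ?_
    exact hx (hmax ⟨hD0l.trans le_sup_left, h⟩ le_sup_left (Subgroup.mem_sup_right (Subgroup.mem_zpowers x)))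
  have hlt : Nat.card D0 < d := hd ▸ Solv.card_lt_of_lt hD0lt
  have h0 := IH _ hlt D0 rfl hD0l (fun y hy => hcomm y (hD0lt.le hy))
  set C0 := S ⊓ Subgroup.centralizer (D0 : Set G) with hC0
  set C := S ⊓ Subgroup.centralizer (D : Set G) with hC
  have hCeq : C0 ⊓ Subgroup.centralizer ({x} : Set G) ≤ C := fun g hg => ⟨hg.1.1, by
    show g ∈ Subgroup.centralizer (D : Set G)
    rw [Subgroup.mem_centralizer_iff]
    intro y hy
    rw [SetLike.mem_coe, ← hgen] at hy
    have hle' : D0 ⊔ Subgroup.zpowers x ≤ Subgroup.centralizer ({g} : Set G) := by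
      refine sup_le (fun w hw => Subgroup.mem_centralizer_singleton_iff.2 (Subgroup.mem_centralizer_iff.1 hg.1.2 w hw))
        (Subgroup.zpowers_le.2 (Subgroup.mem_centralizer_singleton_iff.2 (Subgroup.mem_centralizer_singleton_iff.1 hg.2).symm))
    exact Subgroup.mem_centralizer_singleton_iff.1 (hle' hy)⟩
  -- index of `C_{C0}(x)` in `C0` is at most `p`
  have hx1 : (C0 ⊓ Subgroup.centralizer ({x} : Set G)).relIndex C0 ≤ p := by
    rw [Subgroup.inf_relIndex_left, Subgroup.relIndex, Subgroup.index_eq_card]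
    have hsurj : Function.Injective (fun q : C0 ⧸ (Subgroup.centralizer ({x} : Set G)).subgroupOf C0 =>
        Quotient.liftOn' q (fun s => (⟨x⁻¹ * ((s : G) * x * (s : G)⁻¹), hcomm x hxD s s.2.1⟩ : Subgroup.zpowers z))
          (fun a b hab => by
            rw [QuotientGroup.leftRel_apply, Subgroup.mem_subgroupOf] at hab
            have h := Subgroup.mem_centralizer_singleton_iff.1 hab
            push_cast at h
            apply Subtype.ext
            show x⁻¹ * ((a : G) * x * (a : G)⁻¹) = x⁻¹ * ((b : G) * x * (b : G)⁻¹)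
            congr 1
            calc (a : G) * x * (a : G)⁻¹ = (a : G) * (x * ((a : G)⁻¹ * b)) * (b : G)⁻¹ := by group
              _ = _ := by rw [← h]; group)) := by
      intro q q'
      induction q using Quotient.inductionOn' with
      | _ a =>
        induction q' using Quotient.inductionOn' with
        | _ b =>
          intro h
          apply Quotient.sound'
          rw [QuotientGroup.leftRel_apply, Subgroup.mem_subgroupOf, Subgroup.mem_centralizer_singleton_iff]
          have h' : (a : G) * x * (a : G)⁻¹ = (b : G) * x * (b : G)⁻¹ := mul_left_cancel (congrArg Subtype.val h)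
          push_cast
          calc (a : G)⁻¹ * (b : G) * x = (a : G)⁻¹ * ((b : G) * x * (b : G)⁻¹) * b := by group
            _ = _ := by rw [← h']; group
    refine (Nat.card_le_card_of_injective _ hsurj).trans ?_
    rw [Nat.card_zpowers]
    exact Nat.le_of_dvd hp'.pos (orderOf_dvd_of_pow_eq_one hzq)
  have h1 : C.relIndex S ≤ C0.relIndex S * p := by
    have hsub : C0 ⊓ Subgroup.centralizer ({x} : Set G) ≤ C0 := inf_le_left
    calc C.relIndex S ≤ (C0 ⊓ Subgroup.centralizer ({x} : Set G)).relIndex S :=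
          Nat.le_of_dvd (Nat.pos_of_ne_zero Subgroup.index_ne_zero_of_finite) (Subgroup.relIndex_dvd_of_le_left S hCeq)
      _ = (C0 ⊓ Subgroup.centralizer ({x} : Set G)).relIndex C0 * C0.relIndex S :=
          (Subgroup.relIndex_mul_relIndex _ _ _ hsub inf_le_left).symm
      _ ≤ p * C0.relIndex S := Nat.mul_le_mul_right _ hx1
      _ = _ := mul_comm _ _
  have h2 : p ≤ D0.relIndex D := by
    obtain ⟨k, hk⟩ := (hG.to_subgroup D).index (D0.subgroupOf D)
    have : D0.relIndex D ≠ 1 := fun h => hx (Subgroup.relIndex_eq_one.1 h hxD)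
    rw [Subgroup.relIndex] at this ⊢
    rw [hk] at this ⊢
    exact Nat.le_self_pow (fun h => this (by rw [h, pow_zero])) p
  refine h1.trans ((Nat.mul_le_mul_right p h0).trans ?_)
  rw [← Subgroup.relIndex_mul_relIndex _ _ _ hD0l hD0lt.le]
  exact Nat.mul_le_mul_left _ h2

omit [Finite G] in
theorem mem_zpowers_of_cyclic [Finite G] {A : Subgroup G} (hA : IsCyclic A) {z b : G} (hz : z ∈ A) (hzo : orderOf z = p)
    (hb : b ∈ A) (hbp : b ^ p = 1) : b ∈ Subgroup.zpowers z := by
  classical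
  haveI := Fintype.ofFinite A
  have hle := IsCyclic.card_pow_eq_one_le (α := A) hp.out.pos
  set S := Finset.univ.filter (fun x : A => x ^ p = 1) with hS
  set T := Finset.univ.filter (fun x : A => x ∈ Subgroup.zpowers (⟨z, hz⟩ : A)) with hT
  have hzq : (⟨z, hz⟩ : A) ^ p = 1 := by
    apply Subtype.ext
    show z ^ p = 1
    rw [← hzo]; exact pow_orderOf_eq_one z
  have hsub : T ⊆ S := fun x hx => by
    rw [hT, Finset.mem_filter] at hx
    obtain ⟨i, rfl⟩ := Subgroup.mem_zpowers_iff.1 hx.2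
    rw [hS, Finset.mem_filter]
    refine ⟨Finset.mem_univ _, ?_⟩
    rw [← zpow_natCast, ← zpow_mul, mul_comm, zpow_mul, zpow_natCast, hzq, one_zpow]
  have hTc : T.card = p := by
    rw [hT, ← Fintype.card_subtype, ← Nat.card_eq_fintype_card]
    exact (Nat.card_zpowers (⟨z, hz⟩ : A)).trans ((Subgroup.orderOf_mk z hz).trans hzo)
  have heq : T = S := Finset.eq_of_subset_of_card_le hsub (by rw [hTc]; exact hle)
  have hbS : (⟨b, hb⟩ : A) ∈ S := by
    rw [hS, Finset.mem_filter]; exact ⟨Finset.mem_univ _, Subtype.ext hbp⟩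
  rw [← heq, hT, Finset.mem_filter] at hbS
  obtain ⟨i, hi⟩ := Subgroup.mem_zpowers_iff.1 hbS.2
  exact Subgroup.mem_zpowers_iff.2 ⟨i, congrArg Subtype.val hi⟩

theorem right_case {n : ℕ} {u : G} (D : CyclicSelf.Data p n u) (h3 : p = 2 → 3 ≤ n)
    (hex : ∃ x, Commute x (u ^ p) ∧ x ∉ Subgroup.zpowers u) :
    ∃ b : G, b ^ p = 1 ∧ b ∉ Subgroup.zpowers u ∧ Commute b (u ^ p) ∧
      ∀ m : G, Commute m (u ^ p) → (m ^ p = 1 ∨ (p = 2 ∧ m ^ p ∈ Subgroup.zpowers (CyclicSelf.z0 p n u))) →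
        Commute m b := by
  obtain ⟨hidx, E, hE, hEa, hEc, -, -⟩ := D.omega h3 hex
  set U := Subgroup.zpowers u with hU
  set M := Subgroup.centralizer (Cfsg.powerClosure p 1 U : Set G) with hM
  have hUM : U ≤ M := fun y hy => by
    obtain ⟨s, rfl⟩ := Subgroup.mem_zpowers_iff.1 hy
    exact D.mem_iff.2 (((Commute.refl u).zpow_left s).pow_right p)
  have hEM : E ≤ M := hE ▸ (Subgroup.closure_le _).2 fun a ha => ha.1
  obtain ⟨b, hbE, hbU⟩ : ∃ b, b ∈ E ∧ b ∉ U := by
    by_contra h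
    push Not at h
    haveI : IsCyclic U := inferInstance
    haveI : IsCyclic E := isCyclic_of_injective (Subgroup.inclusion (fun a ha => h a ha)) (Subgroup.inclusion_injective _)
    obtain ⟨g, hg⟩ := IsCyclic.exists_ofOrder_eq_natCard (α := E)
    have h1 : orderOf g ∣ p := orderOf_dvd_of_pow_eq_one (Subtype.ext (hEa.2 g g.2))
    rw [hg, hEc] at h1
    have := Nat.le_of_dvd hp.out.pos h1
    have := hp.out.one_lt
    nlinarith
  have hbp : b ^ p = 1 := hEa.2 b hbE
  have hbc : Commute b (u ^ p) := D.mem_iff.1 (hEM hbE)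
  refine ⟨b, hbp, hbU, hbc, fun m hm hmp => ?_⟩
  haveI hUn : U.Normal := ⟨fun a ha g => by
    obtain ⟨s, rfl⟩ := Subgroup.mem_zpowers_iff.1 ha
    obtain ⟨m, hm⟩ := D.conj g
    rw [← conj_zpow, hm, ← zpow_mul]
    exact Subgroup.mem_zpowers_iff.2 ⟨_, rfl⟩⟩
  have hsup : U ⊔ Subgroup.zpowers b = M := by
    have hle : U ⊔ Subgroup.zpowers b ≤ M := sup_le hUM (Subgroup.zpowers_le.2 (hEM hbE))
    refine le_antisymm hle (Subgroup.relIndex_eq_one.1 ?_)
    have hmul := Subgroup.relIndex_mul_relIndex U (U ⊔ Subgroup.zpowers b) M le_sup_left hle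
    rw [show U.relIndex M = p from hidx] at hmul
    rcases (Nat.dvd_prime hp.out).1 (Dvd.intro _ hmul) with h | h
    · exact absurd (Subgroup.relIndex_eq_one.1 h (Subgroup.mem_sup_right (Subgroup.mem_zpowers b))) hbU
    · rw [h] at hmul
      exact Nat.eq_of_mul_eq_mul_left hp.out.pos (hmul.trans (mul_one p).symm)
  have hmM : m ∈ U ⊔ Subgroup.zpowers b := hsup.ge (D.mem_iff.2 hm)
  obtain ⟨a, ha, c, hc, rfl⟩ := Subgroup.mem_sup_of_normal_left.1 hmM
  obtain ⟨s, rfl⟩ := Subgroup.mem_zpowers_iff.1 ha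
  obtain ⟨j, rfl⟩ := Subgroup.mem_zpowers_iff.1 hc
  obtain ⟨k, hk⟩ := D.exp_of_mem (show Commute (b ^ j) (u ^ p) from hbc.zpow_left j)
  obtain ⟨w, hww, hw⟩ := D.coset_pow h3 hk
  have hbj : (b ^ j) ^ p = 1 := by rw [← zpow_natCast, ← zpow_mul, mul_comm, zpow_mul, zpow_natCast, hbp, one_zpow]
  rw [hw, hbj, mul_one] at hmp
  have hdiv : (p : ℤ) ∣ s := by
    have hn := D.two_le
    have hcop : ¬ (p : ℤ) ∣ w := by
      intro hd
      have h1 : (p : ℤ) ∣ w * w - 1 := (dvd_pow_self _ (by omega)).trans hww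
      have h2 := dvd_sub (hd.mul_right w) h1
      rw [sub_sub_cancel] at h2
      exact (Nat.prime_iff_prime_int.1 hp.out).not_dvd_one h2
    suffices (p : ℤ) ∣ s * w from ((Nat.prime_iff_prime_int.1 hp.out).dvd_or_dvd this).resolve_right hcop
    rcases hmp with h | ⟨h2, h⟩
    · rw [D.dvd, ← D.pP, show s * ((p : ℤ) * w) = (p : ℤ) * (s * w) by ring,
        mul_dvd_mul_iff_left (Int.natCast_ne_zero.2 hp.out.ne_zero)] at h
      exact (dvd_pow_self _ (by omega)).trans h
    · obtain ⟨i, hi⟩ := Subgroup.mem_zpowers_iff.1 h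
      obtain ⟨r, hr⟩ : ∃ r, n = r + 3 := ⟨n - 3, by have := h3 h2; omega⟩
      rw [CyclicSelf.z0, ← zpow_mul] at hi
      have h4 : u ^ (s * ((p : ℤ) * w) - (p : ℤ) ^ (n - 1) * i) = 1 := by rw [zpow_sub, hi, mul_inv_cancel]
      rw [D.dvd, hr, show r + 3 - 1 = r + 2 by omega] at h4
      obtain ⟨t, ht⟩ := h4
      refine ⟨(p : ℤ) ^ r * i + (p : ℤ) ^ (r + 1) * t, ?_⟩
      have : (p : ℤ) * (s * w) = (p : ℤ) * ((p : ℤ) * ((p : ℤ) ^ r * i + (p : ℤ) ^ (r + 1) * t)) := by
        linear_combination ht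
      exact mul_left_cancel₀ (Int.natCast_ne_zero.2 hp.out.ne_zero) this
  obtain ⟨s', rfl⟩ := hdiv
  refine Commute.mul_left ?_ ((Commute.refl b).zpow_left j)
  rw [zpow_mul, zpow_natCast]
  exact (hbc.symm).zpow_left s'

open scoped commutatorElement

omit hp in
theorem pow_mul_class_two {z k l : G} (hzc : ∀ h : G, h * z = z * h) {i : ℤ} (h : l * k = k * l * z ^ i) :
    ∀ m : ℕ, ∃ j : ℤ, (k * l) ^ m = k ^ m * l ^ m * z ^ (i * j) ∧ 2 * j = (m : ℤ) * (m - 1) := by
  have hz : ∀ (t : ℤ) (g : G), z ^ t * g = g * z ^ t := fun t g => (Commute.zpow_right (hzc g) t).eq.symm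
  have hlk : ∀ m : ℕ, l ^ m * k = k * l ^ m * z ^ ((m : ℤ) * i) := by
    intro m
    induction m with
    | zero => simp
    | succ m ih =>
      calc l ^ (m + 1) * k = l * (l ^ m * k) := by rw [pow_succ']; group
        _ = l * k * l ^ m * z ^ ((m : ℤ) * i) := by rw [ih]; group
        _ = k * l * (z ^ i * l ^ m) * z ^ ((m : ℤ) * i) := by rw [h]; group
        _ = k * l ^ (m + 1) * z ^ (i + (m : ℤ) * i) := by rw [hz, pow_succ', zpow_add]; group
        _ = _ := by congr 2; push_cast; ring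
  intro m
  induction m with
  | zero => exact ⟨0, by simp, by simp⟩
  | succ m ih =>
    obtain ⟨j, hj, hj2⟩ := ih
    refine ⟨m + j, ?_, by push_cast; linarith⟩
    rw [pow_succ (k * l) m, hj, show i * ((m : ℤ) + j) = (m : ℤ) * i + i * j by ring, zpow_add]
    calc k ^ m * l ^ m * z ^ (i * j) * (k * l) = k ^ m * (l ^ m * k) * l * z ^ (i * j) := by
          rw [mul_assoc _ _ (k * l), hz]; group
      _ = k ^ m * (k * l ^ m * (z ^ ((m : ℤ) * i) * l)) * z ^ (i * j) := by rw [hlk]; group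
      _ = _ := by rw [hz ((m : ℤ) * i) l, pow_succ, pow_succ]; group

omit hp in
theorem commutative_of_cyclic {H : Type*} [Group H] [IsCyclic H] : IsMulCommutative H :=
  ⟨⟨fun a b => (IsCyclic.commGroup (α := H)).mul_comm a b⟩⟩

theorem symplectic_type (hG : IsPGroup p G)
    (hsymp : ∀ A : Subgroup G, A.Characteristic → IsMulCommutative A → IsCyclic A) :
    ∃ E R : Subgroup G, (∀ e ∈ E, ∀ r ∈ R, e * r = r * e) ∧ E ⊔ R = ⊤ ∧ (E = ⊥ ∨ Cfsg.IsExtraspecial p ↥E) ∧
      (IsCyclic R ∨ (p = 2 ∧ 16 ≤ Nat.card R ∧ ((∃ m : ℕ, Nonempty (↥R ≃* DihedralGroup m)) ∨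
        (∃ m : ℕ, Nonempty (↥R ≃* QuaternionGroup m)) ∨ Cfsg.IsQuasiDihedral ↥R))) := by
  classical
  by_cases htriv : ∀ g : G, g = 1
  · refine ⟨⊥, ⊥, fun e he r hr => ?_, ?_, Or.inl rfl, Or.inl inferInstance⟩
    · rw [htriv e, htriv r]
    · rw [eq_top_iff]; intro g _; rw [htriv g]; exact one_mem _
  obtain ⟨K, hKc, hKp, hKcomm, hKC⟩ := Fusion.exists_critical hG
  haveI := hKc
  haveI : K.Normal := inferInstance
  set U := Fusion.zOf K with hUdef
  have hUK : U ≤ K := inf_le_left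
  have hUcomm : ∀ a ∈ U, ∀ k ∈ K, k * a = a * k := fun a ha k hk => Subgroup.mem_centralizer_iff.1 ha.2 k hk
  have hzmem : ∀ {a : G}, a ∈ K → (∀ k ∈ K, k * a = a * k) → a ∈ U := fun ha h =>
    ⟨ha, Subgroup.mem_centralizer_iff.2 fun k hk => h k hk⟩
  haveI hUc : U.Characteristic := Subgroup.characteristic_iff_map_le.2 fun φ => by
    rintro _ ⟨a, ha, rfl⟩
    refine hzmem (Subgroup.characteristic_iff_map_le.1 hKc φ ⟨a, ha.1, rfl⟩) fun k hk => ?_
    have hk' := Subgroup.characteristic_iff_map_le.1 hKc φ.symm ⟨k, hk, rfl⟩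
    have := congrArg φ (hUcomm a ha _ hk')
    simpa using this
  haveI : U.Normal := inferInstance
  haveI hUcyc : IsCyclic U := hsymp U hUc ⟨⟨fun a b => Subtype.ext (hUcomm b b.2 a (hUK a.2))⟩⟩
  obtain ⟨⟨u, hu⟩, hgen⟩ := hUcyc.exists_generator
  have hUz : U = Subgroup.zpowers u := by
    refine le_antisymm (fun x hx => ?_) (Subgroup.zpowers_le.2 hu)
    obtain ⟨k, hk⟩ := Subgroup.mem_zpowers_iff.1 (hgen ⟨x, hx⟩)
    exact Subgroup.mem_zpowers_iff.2 ⟨k, congrArg Subtype.val hk⟩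
  obtain ⟨n, hord⟩ := (Nat.dvd_prime_pow hp.out).1 (orderOf_dvd_of_pow_eq_one (hG u).choose_spec) |>.imp fun _ h => h.2
  have hn1 : 1 ≤ n := by
    by_contra h
    have hu1 : u = 1 := orderOf_eq_one_iff.1 (by rw [hord, show n = 0 by omega, pow_zero])
    have hU1 : U = ⊥ := by rw [hUz, hu1, Subgroup.zpowers_one_eq_bot]
    have hKbot : K = ⊥ := by
      by_contra hne
      haveI : Nontrivial K := (Subgroup.nontrivial_iff_ne_bot K).2 hne
      haveI := (hG.to_subgroup K).center_nontrivial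
      obtain ⟨⟨a, ha⟩, hane⟩ := exists_ne (1 : Subgroup.center K)
      have h1 : (a : G) ∈ U := hzmem a.2 fun k hk => congrArg Subtype.val (Subgroup.mem_center_iff.1 ha ⟨k, hk⟩)
      rw [hU1, Subgroup.mem_bot] at h1
      exact hane (Subtype.ext (Subtype.ext h1))
    apply htriv
    intro g
    rw [← Subgroup.mem_bot, ← hKbot]
    exact hKC (Subgroup.mem_centralizer_iff.2 fun k hk => by
      rw [SetLike.mem_coe, hKbot, Subgroup.mem_bot] at hk; rw [hk, one_mul, mul_one])
  set z := u ^ p ^ (n - 1) with hz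
  have hzo : orderOf z = p := by
    rw [hz, orderOf_pow' u (pow_ne_zero _ hp.out.ne_zero), hord,
      Nat.gcd_eq_right (pow_dvd_pow p (Nat.sub_le n 1)), Nat.pow_div (Nat.sub_le n 1) hp.out.pos,
      show n - (n - 1) = 1 by omega, pow_one]
  have hzq : z ^ p = 1 := by rw [← hzo]; exact pow_orderOf_eq_one z
  have hzU : z ∈ U := pow_mem hu _
  have hunique : ∀ x ∈ U, x ^ p = 1 → x ∈ Subgroup.zpowers z := by
    intro x hx hxp
    rw [hUz] at hx
    obtain ⟨i, rfl⟩ := Subgroup.mem_zpowers_iff.1 hx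
    rw [← zpow_natCast, ← zpow_mul, ← orderOf_dvd_iff_zpow_eq_one, hord] at hxp
    obtain ⟨t, ht⟩ := hxp
    refine Subgroup.mem_zpowers_iff.2 ⟨t, ?_⟩
    rw [hz, ← zpow_natCast u, ← zpow_mul]
    congr 1
    obtain ⟨r, hr⟩ : ∃ r, n = r + 1 := ⟨n - 1, by omega⟩
    subst hr
    push_cast at ht ⊢
    exact mul_left_cancel₀ (Int.natCast_ne_zero.2 hp.out.ne_zero) (by rw [pow_succ] at ht; linear_combination -ht)
  haveI hZn : (Subgroup.zpowers z).Normal := ⟨fun a ha g => hunique _ (Subgroup.Normal.conj_mem ‹U.Normal› a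
    (Subgroup.zpowers_le.2 hzU ha) g) (by
      obtain ⟨i, rfl⟩ := Subgroup.mem_zpowers_iff.1 ha
      rw [conj_pow, ← zpow_natCast, ← zpow_mul, mul_comm, zpow_mul, zpow_natCast, hzq, one_zpow, mul_one, mul_inv_cancel])⟩
  have hzc : ∀ g : G, g * z = z * g := fun g =>
    Subgroup.mem_center_iff.1 (Fusion.le_center_of_card_prime hG (Subgroup.zpowers z)
      (by rw [Nat.card_zpowers, hzo]) (Subgroup.mem_zpowers z)) g
  have hzcp : ∀ a ∈ Subgroup.zpowers z, ∀ g : G, g * a = a * g := fun a ha g => by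
    obtain ⟨i, rfl⟩ := Subgroup.mem_zpowers_iff.1 ha
    exact (Commute.zpow_right (hzc g) i).eq
  have hcomU : ∀ k ∈ K, ∀ g : G, k⁻¹ * (g * k * g⁻¹) ∈ U := fun k hk g => by
    rw [show k⁻¹ * (g * k * g⁻¹) = k⁻¹ * g * k⁻¹⁻¹ * g⁻¹ by group, ← commutatorElement_def]
    exact hKcomm (Subgroup.commutator_mem_commutator (inv_mem hk) (Subgroup.mem_top g))
  have hKK : ∀ k ∈ K, ∀ l ∈ K, k⁻¹ * (l * k * l⁻¹) ∈ Subgroup.zpowers z := by
    intro k hk l hl
    refine hunique _ (hcomU k hk l) ?_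
    have hc := hcomU k hk l
    have h1 : Commute k (k⁻¹ * (l * k * l⁻¹)) := hUcomm _ hc k hk
    have h2 : (l * k * l⁻¹) ^ p = k ^ p * (k⁻¹ * (l * k * l⁻¹)) ^ p := by rw [← h1.mul_pow, mul_inv_cancel_left]
    rw [conj_pow, hUcomm _ (hKp k hk) l hl, mul_inv_cancel_right] at h2
    exact mul_eq_left.1 h2.symm
  have hKswap : ∀ k ∈ K, ∀ l ∈ K, ∃ i : ℤ, l * k = k * l * z ^ i := fun k hk l hl => by
    obtain ⟨i, hi⟩ := Subgroup.mem_zpowers_iff.1 (hKK k hk l hl)
    refine ⟨i, ?_⟩
    rw [mul_assoc k l, hzcp _ (Subgroup.zpow_mem_zpowers z i) l, hi]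
    group
  have hpow_mul : ∀ k ∈ K, ∀ l ∈ K, ∃ j : ℤ, (k * l) ^ p = k ^ p * l ^ p * z ^ j ∧ (p ≠ 2 → z ^ j = 1) := by
    intro k hk l hl
    obtain ⟨i, hi⟩ := hKswap k hk l hl
    obtain ⟨j, hj, hj2⟩ := pow_mul_class_two hzc hi p
    refine ⟨i * j, hj, fun h2 => ?_⟩
    obtain ⟨t, ht⟩ := hp.out.odd_of_ne_two h2
    have : j = (p : ℤ) * t := by
      have e : ((p : ℕ) : ℤ) = 2 * t + 1 := by rw [ht]; push_cast; ring
      have : 2 * j = 2 * ((p : ℤ) * t) := by rw [hj2, e]; ring
      linarith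
    rw [this, mul_left_comm, zpow_mul, zpow_natCast, hzq, one_zpow]
  -- construct `E`
  obtain ⟨E, hEK, hzE, hEU, hEinf, hEpow, hEodd⟩ : ∃ E : Subgroup G, E ≤ K ∧ z ∈ E ∧
      (∀ k ∈ K, ∃ e ∈ E, ∃ a ∈ U, k = e * a) ∧ (∀ a ∈ E, a ∈ U → a ∈ Subgroup.zpowers z) ∧
      (∀ e ∈ E, e ^ p ∈ Subgroup.zpowers z) ∧ (2 ≤ n → p ≠ 2 → ∀ e ∈ E, e ^ p = 1) := by
    by_cases hn2 : n = 1
    · refine ⟨K, le_rfl, hUK hzU, fun k hk => ⟨k, hk, 1, one_mem _, (mul_one k).symm⟩, fun a _ ha => ?_,
        fun e he => ?_, fun h => absurd hn2 (by omega)⟩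
      · rwa [hUz, show u = z by rw [hz, hn2]; simp] at ha
      · have := hKp e he
        rwa [hUz, show u = z by rw [hz, hn2]; simp] at this
    have hn : 2 ≤ n := by omega
    have hzpp : z ∈ Subgroup.zpowers (u ^ p) := by
      rw [hz, show p ^ (n - 1) = p * p ^ (n - 2) by rw [← pow_succ']; congr 1; omega, pow_mul]
      exact pow_mem (Subgroup.mem_zpowers _) _
    let K0 : Subgroup G :=
      { carrier := {k | k ∈ K ∧ k ^ p ∈ Subgroup.zpowers (u ^ p)}
        one_mem' := ⟨one_mem _, by rw [one_pow]; exact one_mem _⟩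
        mul_mem' := fun {a b} ha hb => ⟨mul_mem ha.1 hb.1, by
          obtain ⟨j, hj, -⟩ := hpow_mul a ha.1 b hb.1
          rw [hj]; exact mul_mem (mul_mem ha.2 hb.2) (zpow_mem hzpp j)⟩
        inv_mem' := fun {a} ha => ⟨inv_mem ha.1, by rw [inv_pow]; exact inv_mem ha.2⟩ }
    have hUK0 : U ≤ K0 := fun a ha => ⟨hUK ha, by
      rw [hUz] at ha
      obtain ⟨i, rfl⟩ := Subgroup.mem_zpowers_iff.1 ha
      rw [← zpow_natCast (u ^ i), ← zpow_mul, mul_comm, zpow_mul, zpow_natCast]
      exact Subgroup.zpow_mem_zpowers _ i⟩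
    haveI hK0c : K0.Characteristic := Subgroup.characteristic_iff_map_le.2 fun φ => by
      rintro _ ⟨a, ha, rfl⟩
      refine ⟨Subgroup.characteristic_iff_map_le.1 hKc φ ⟨a, ha.1, rfl⟩, ?_⟩
      obtain ⟨i, hi⟩ := Subgroup.mem_zpowers_iff.1 ha.2
      have hu' := Subgroup.characteristic_iff_map_le.1 hUc φ ⟨u, hu, rfl⟩
      rw [hUz] at hu'
      obtain ⟨j, hj⟩ := Subgroup.mem_zpowers_iff.1 hu'
      refine Subgroup.mem_zpowers_iff.2 ⟨j * i, ?_⟩
      show (u ^ p) ^ (j * i) = (φ.toMonoidHom a) ^ p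
      rw [← map_pow, ← hi, map_zpow, map_pow, show φ.toMonoidHom u = u ^ j from hj.symm]
      simp only [← zpow_natCast, ← zpow_mul]
      congr 1; ring
    have hfrat : ∀ k ∈ K, k ∈ K0 := by
      intro k1 hk1
      by_contra hk1n
      set S := K ⊓ Subgroup.centralizer (K0 : Set G) with hS
      have hsolve : ∀ c ∈ K, c ∉ K0 → ∀ k ∈ K, ∃ k0 ∈ K0, ∃ t : ℤ, k = k0 * c ^ t := by
        intro c hc hcn k hk
        have hcU := hKp c hc
        have hkU := hKp k hk
        rw [hUz] at hcU hkU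
        obtain ⟨i1, hi1⟩ := Subgroup.mem_zpowers_iff.1 hcU
        obtain ⟨i, hi⟩ := Subgroup.mem_zpowers_iff.1 hkU
        have hpi : ¬ (p : ℤ) ∣ i1 := fun ⟨r, hr⟩ => hcn ⟨hc, Subgroup.mem_zpowers_iff.2 ⟨r, by
          rw [← hi1, hr, zpow_mul, zpow_natCast]⟩⟩
        obtain ⟨a, b, hab⟩ : IsCoprime i1 (p : ℤ) :=
          ((Nat.prime_iff_prime_int.1 hp.out).coprime_iff_not_dvd.2 hpi).symm
        refine ⟨k * c ^ (-(a * i)), ⟨mul_mem hk (zpow_mem hc _), ?_⟩, a * i, by group⟩
        obtain ⟨j, hj, -⟩ := hpow_mul k hk _ (zpow_mem hc (-(a * i)))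
        rw [hj]
        refine mul_mem ?_ (zpow_mem hzpp j)
        rw [← hi, ← zpow_natCast (c ^ _), ← zpow_mul, mul_comm, zpow_mul, zpow_natCast, ← hi1, ← zpow_mul, ← zpow_add]
        refine Subgroup.mem_zpowers_iff.2 ⟨b * i, ?_⟩
        rw [← zpow_natCast, ← zpow_mul]
        congr 1; linear_combination i * hab
      have hK0K : K0 ≤ K := fun a ha => ha.1
      have hb := centralizer_bound hG hzq K U (fun s hs a ha => (hUcomm a ha s hs).symm) _ K0 rfl hUK0
        (fun x hx s hs => hKK x hx.1 s hs)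
      have hidx : 2 ≤ K0.relIndex K := by
        have h0 : K0.relIndex K ≠ 0 := Subgroup.index_ne_zero_of_finite
        have h1 : K0.relIndex K ≠ 1 := fun h => hk1n (Subgroup.relIndex_eq_one.1 h hk1)
        omega
      have hUS : U ≤ S := fun a ha => ⟨hUK ha, Subgroup.mem_centralizer_iff.2 fun x hx => hUcomm a ha x hx.1⟩
      obtain ⟨c, hcS, hcU⟩ : ∃ c ∈ S, c ∉ U := by
        by_contra hc
        push Not at hc
        have hSU : S = U := le_antisymm hc hUS
        rw [← hS, hSU] at hb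
        have hmul := Subgroup.relIndex_mul_relIndex U K0 K hUK0 hK0K
        have hpos : 0 < U.relIndex K0 := Nat.pos_of_ne_zero Subgroup.index_ne_zero_of_finite
        nlinarith
      have hcK0 : c ∈ K0 := by
        by_contra hcn
        apply hcU
        refine hzmem hcS.1 fun k hk => ?_
        obtain ⟨k0, hk0, t, rfl⟩ := hsolve c hcS.1 hcn k hk
        exact (Commute.mul_left (Subgroup.mem_centralizer_iff.1 hcS.2 k0 hk0) ((Commute.refl c).zpow_left t)).eq
      haveI : (K0 ⊓ Subgroup.centralizer (K0 : Set G)).Characteristic := Subgroup.characteristic_iff_map_le.2 fun φ => by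
        rintro _ ⟨a, ha, rfl⟩
        refine ⟨Subgroup.characteristic_iff_map_le.1 hK0c φ ⟨a, ha.1, rfl⟩, ?_⟩
        show φ.toMonoidHom a ∈ Subgroup.centralizer (K0 : Set G)
        rw [Subgroup.mem_centralizer_iff]
        intro k hk
        have hk' := Subgroup.characteristic_iff_map_le.1 hK0c φ.symm ⟨k, hk, rfl⟩
        have := congrArg φ (Subgroup.mem_centralizer_iff.1 ha.2 _ hk')
        simpa using this
      have hAcyc : IsCyclic (K0 ⊓ Subgroup.centralizer (K0 : Set G) : Subgroup G) := hsymp _ inferInstance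
        ⟨⟨fun a b => Subtype.ext (Subgroup.mem_centralizer_iff.1 b.2.2 a a.2.1)⟩⟩
      obtain ⟨i, hi⟩ := Subgroup.mem_zpowers_iff.1 hcK0.2
      set c' := c * u ^ (-i) with hc'
      have huA : u ^ (-i) ∈ K0 ⊓ Subgroup.centralizer (K0 : Set G) :=
        ⟨hUK0 (zpow_mem hu _), (hUS (zpow_mem hu _)).2⟩
      have hc'A : c' ∈ K0 ⊓ Subgroup.centralizer (K0 : Set G) := mul_mem ⟨hcK0, hcS.2⟩ huA
      have hc'p : c' ^ p = 1 := by
        rw [hc', Commute.mul_pow (hUcomm _ (zpow_mem hu _) c hcS.1), ← hi, ← zpow_natCast (u ^ (-i)), ← zpow_mul,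
          ← zpow_natCast u, ← zpow_mul, ← zpow_add, show (p : ℤ) * i + -i * (p : ℤ) = 0 by ring, zpow_zero]
      apply hcU
      have hzA : z ∈ K0 ⊓ Subgroup.centralizer (K0 : Set G) := ⟨hUK0 hzU, (hUS hzU).2⟩
      have h := mul_mem (Subgroup.zpowers_le.2 hzU (mem_zpowers_of_cyclic hAcyc hzA hzo hc'A hc'p))
        (inv_mem (zpow_mem hu (-i)))
      rwa [hc', mul_inv_cancel_right] at h
    let T : Subgroup G :=
      { carrier := {k | k ∈ K ∧ k ^ p ∈ Subgroup.zpowers z ∧ (p ≠ 2 → k ^ p = 1)}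
        one_mem' := ⟨one_mem _, by rw [one_pow]; exact one_mem _, fun _ => one_pow p⟩
        mul_mem' := fun {a b} ha hb => by
          obtain ⟨j, hj, hj'⟩ := hpow_mul a ha.1 b hb.1
          refine ⟨mul_mem ha.1 hb.1, ?_, fun h2 => ?_⟩
          · rw [hj]; exact mul_mem (mul_mem ha.2.1 hb.2.1) (Subgroup.zpow_mem_zpowers z j)
          · rw [hj, ha.2.2 h2, hb.2.2 h2, hj' h2, one_mul, one_mul]
        inv_mem' := fun {a} ha => ⟨inv_mem ha.1, by rw [inv_pow]; exact inv_mem ha.2.1, fun h2 => by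
          rw [inv_pow, ha.2.2 h2, inv_one]⟩ }
    have hTU : ∀ k ∈ K, ∃ e ∈ T, ∃ a ∈ U, k = e * a ∧ e ^ p = 1 := by
      intro k hk
      obtain ⟨i, hi⟩ := Subgroup.mem_zpowers_iff.1 (hfrat k hk).2
      have he : (k * u ^ (-i)) ^ p = 1 := by
        rw [Commute.mul_pow (hUcomm _ (zpow_mem hu _) k hk), ← hi, ← zpow_natCast (u ^ (-i)), ← zpow_mul,
          ← zpow_natCast u, ← zpow_mul, ← zpow_add, show (p : ℤ) * i + -i * (p : ℤ) = 0 by ring, zpow_zero]
      exact ⟨k * u ^ (-i), ⟨mul_mem hk (hUK (zpow_mem hu _)), by rw [he]; exact one_mem _, fun _ => he⟩, u ^ i,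
        zpow_mem hu _, by group, he⟩
    by_cases h2 : p = 2
    swap
    · refine ⟨T, fun a ha => ha.1, ⟨hUK hzU, by rw [hzq]; exact one_mem _, fun _ => hzq⟩, fun k hk => ?_,
        fun a ha haU => hunique a haU (ha.2.2 h2), fun e he => he.2.1, fun _ _ e he => he.2.2 h2⟩
      obtain ⟨e, he, a, ha, hka, -⟩ := hTU k hk
      exact ⟨e, he, a, ha, hka⟩
    set v := u ^ p ^ (n - 2) with hv
    have hv2 : v ^ p = z := by
      rw [hv, hz, ← pow_mul, ← pow_succ]; congr 2; omega
    have hvT : v ∈ T := ⟨hUK (pow_mem hu _), hv2 ▸ Subgroup.mem_zpowers z, fun h => absurd h2 h⟩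
    have hvz : v ∉ Subgroup.zpowers z := fun h => by
      obtain ⟨i, hi⟩ := Subgroup.mem_zpowers_iff.1 h
      have : z = 1 := by
        rw [← hv2, ← hi, ← zpow_natCast, ← zpow_mul, mul_comm, zpow_mul, zpow_natCast, hzq, one_zpow]
      rw [this, orderOf_one] at hzo
      exact hp.out.one_lt.ne hzo
    obtain ⟨E, ⟨hzE, hET, hvE⟩, hmax⟩ :=
      (Set.toFinite {E : Subgroup G | Subgroup.zpowers z ≤ E ∧ E ≤ T ∧ v ∉ E}).exists_maximal
        ⟨Subgroup.zpowers z, le_rfl, Subgroup.zpowers_le.2 ⟨hUK hzU, by rw [hzq]; exact one_mem _, fun _ => hzq⟩, hvz⟩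
    have hTsplit : ∀ t ∈ T, ∃ e ∈ E, ∃ a ∈ U, t = e * a := by
      intro t ht
      by_cases htE : t ∈ E
      · exact ⟨t, htE, 1, one_mem _, (mul_one t).symm⟩
      have hvmem : v ∈ E ⊔ Subgroup.zpowers t := by
        by_contra h
        exact htE (hmax ⟨hzE.trans le_sup_left, sup_le hET (Subgroup.zpowers_le.2 ht), h⟩ le_sup_left
          (Subgroup.mem_sup_right (Subgroup.mem_zpowers t)))
      have hnorm : ∀ e ∈ E, ∀ s ∈ T, s * e * s⁻¹ ∈ E := fun e he s hs => by
        have := mul_mem he (hzE (hKK e (hET he).1 s hs.1))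
        rwa [mul_inv_cancel_left] at this
      let W : Subgroup G :=
        { carrier := {g | ∃ e ∈ E, g = e ∨ g = e * t}
          one_mem' := ⟨1, one_mem _, Or.inl rfl⟩
          mul_mem' := by
            rintro a b ⟨e, he, ha | ha⟩ ⟨e', he', hb | hb⟩ <;> rw [ha, hb]
            · exact ⟨_, mul_mem he he', Or.inl rfl⟩
            · exact ⟨_, mul_mem he he', Or.inr (by group)⟩
            · exact ⟨_, mul_mem he (hnorm e' he' t ht), Or.inr (by group)⟩
            · refine ⟨e * (t * e' * t⁻¹) * t ^ 2, mul_mem (mul_mem he (hnorm e' he' t ht)) ?_, Or.inl (by group)⟩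
              have := hzE ht.2.1
              rwa [h2] at this
          inv_mem' := by
            rintro a ⟨e, he, rfl | rfl⟩
            · exact ⟨_, inv_mem he, Or.inl rfl⟩
            · refine ⟨(t ^ 2)⁻¹ * (t * e⁻¹ * t⁻¹), mul_mem (inv_mem ?_) (hnorm _ (inv_mem he) t ht), Or.inr (by group)⟩
              have := hzE ht.2.1
              rwa [h2] at this }
      have hW : E ⊔ Subgroup.zpowers t ≤ W := sup_le (fun e he => ⟨e, he, Or.inl rfl⟩)
        (Subgroup.zpowers_le.2 ⟨1, one_mem _, Or.inr (one_mul t).symm⟩)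
      obtain ⟨e, he, hve | hve⟩ := hW hvmem
      · exact absurd (hve ▸ he) hvE
      · exact ⟨e⁻¹, inv_mem he, v, pow_mem hu _, by rw [hve]; group⟩
    refine ⟨E, hET.trans fun a ha => ha.1, hzE (Subgroup.mem_zpowers z), fun k hk => ?_, fun a haE haU => ?_,
      fun e he => (hET he).2.1, fun _ h => absurd h2 h⟩
    · obtain ⟨e, he, a, ha, rfl, -⟩ := hTU k hk
      obtain ⟨e', he', a', ha', rfl⟩ := hTsplit e he
      exact ⟨e', he', a' * a, mul_mem ha' ha, mul_assoc _ _ _⟩
    · rw [hUz] at haU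
      obtain ⟨i, rfl⟩ := Subgroup.mem_zpowers_iff.1 haU
      have hi2 := (hET haE).2.1
      obtain ⟨l, hl⟩ := Subgroup.mem_zpowers_iff.1 hi2
      obtain ⟨r, hr⟩ : ∃ r, n = r + 2 := ⟨n - 2, by omega⟩
      have h4 : u ^ (i * (p : ℤ) - (p : ℤ) ^ (r + 1) * l) = 1 := by
        rw [zpow_sub, zpow_mul u i, zpow_natCast, ← hl, hz, show n - 1 = r + 1 by omega, ← zpow_natCast u,
          ← zpow_mul]
        push_cast
        rw [mul_inv_cancel]
      rw [← orderOf_dvd_iff_zpow_eq_one, hord, hr] at h4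
      obtain ⟨t, ht⟩ := h4
      push_cast at ht
      have hi : i = (p : ℤ) ^ r * ((p : ℤ) * t + l) := by
        have : (p : ℤ) * i = (p : ℤ) * ((p : ℤ) ^ r * ((p : ℤ) * t + l)) := by linear_combination ht
        exact mul_left_cancel₀ (Int.natCast_ne_zero.2 hp.out.ne_zero) this
      have hvi : u ^ i = v ^ ((p : ℤ) * t + l) := by
        rw [hi, hv, show n - 2 = r by omega, ← zpow_natCast u (p ^ r), ← zpow_mul]; push_cast; rfl
      rw [hvi]
      rcases Int.even_or_odd' ((p : ℤ) * t + l) with ⟨q, hq | hq⟩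
      · rw [hq, zpow_mul, show v ^ (2 : ℤ) = z by rw [← hv2, h2]; norm_cast]
        exact Subgroup.zpow_mem_zpowers z q
      · exfalso
        rw [hvi, hq, zpow_add, zpow_mul, show v ^ (2 : ℤ) = z by rw [← hv2, h2]; norm_cast, zpow_one] at haE
        exact hvE ((mul_mem_cancel_left (hzE (Subgroup.zpow_mem_zpowers z q))).1 haE)
  -- the complement
  set R := Subgroup.centralizer (E : Set G) with hR
  have hER : ∀ e ∈ E, ∀ r ∈ R, e * r = r * e := fun e he r hr => Subgroup.mem_centralizer_iff.1 hr e he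
  have hinner : ∀ e ∈ E, ∀ g : G, e⁻¹ * (g * e * g⁻¹) ∈ Subgroup.zpowers z := by
    intro e he g
    refine hunique _ (hcomU e (hEK he) g) ?_
    have h1 : Commute e (e⁻¹ * (g * e * g⁻¹)) := hUcomm _ (hcomU e (hEK he) g) e (hEK he)
    have h2 : (g * e * g⁻¹) ^ p = e ^ p * (e⁻¹ * (g * e * g⁻¹)) ^ p := by rw [← h1.mul_pow, mul_inv_cancel_left]
    rw [conj_pow, hzcp _ (hEpow e he) g, mul_inv_cancel_right] at h2
    exact mul_eq_left.1 h2.symm
  have hzEle : Subgroup.zpowers z ≤ E := Subgroup.zpowers_le.2 hzE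
  haveI hEn : E.Normal := ⟨fun e he g => by
    have := mul_mem he (hzEle (hinner e he g))
    rwa [mul_inv_cancel_left] at this⟩
  have hECU : ∀ e ∈ E, e ∈ R → e ∈ Subgroup.zpowers z := fun e he her => hEinf e he (hzmem (hEK he) fun k hk => by
    obtain ⟨f, hf, a, ha, rfl⟩ := hEU k hk
    exact (Commute.mul_left (show Commute f e from hER f hf e her) ((Commute.symm (hUcomm a ha e (hEK he))))).eq)
  have hsup : E ⊔ R = ⊤ := by
    have hb := centralizer_bound hG hzq ⊤ (Subgroup.zpowers z) (fun s _ a ha => (hzcp a ha s).symm) _ E rfl hzEle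
      (fun x hx s _ => hinner x hx s)
    rw [top_inf_eq, ← hR, Subgroup.relIndex_top_right] at hb
    refine Subgroup.eq_top_of_card_eq _ (le_antisymm (Subgroup.card_le_card_group _) ?_)
    have hinf : E ⊓ R = Subgroup.zpowers z := le_antisymm (fun a ha => hECU a ha.1 ha.2)
      (le_inf hzEle fun a ha => Subgroup.mem_centralizer_iff.2 fun e _ => hzcp a ha e)
    have h := Solv.card_sup_mul_card_inf E R
    rw [hinf] at h
    have h1 := R.index_mul_card
    have h2 : (Subgroup.zpowers z).relIndex E * Nat.card (Subgroup.zpowers z) = Nat.card E := by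
      rw [mul_comm, ← Subgroup.relIndex_bot_left, ← Subgroup.relIndex_bot_left,
        Subgroup.relIndex_mul_relIndex _ _ _ bot_le hzEle]
    have hzpos : 0 < Nat.card (Subgroup.zpowers z) := Nat.card_pos
    nlinarith [Nat.mul_le_mul_right (Nat.card R * Nat.card (Subgroup.zpowers z)) hb]
  have hUR : U ≤ R := fun a ha => Subgroup.mem_centralizer_iff.2 fun e he => hUcomm a ha e (hEK he)
  have hCRU : ∀ r ∈ R, r * u = u * r → r ∈ U := by
    intro r hr hru
    have hrK : r ∈ K := hKC (Subgroup.mem_centralizer_iff.2 fun k hk => by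
      obtain ⟨e, he, a, ha, rfl⟩ := hEU k hk
      rw [hUz] at ha
      obtain ⟨i, rfl⟩ := Subgroup.mem_zpowers_iff.1 ha
      exact (Commute.mul_left (show Commute e r from hER e he r hr) (show Commute (u ^ i) r from ((show Commute r u from hru).zpow_right i).symm)).eq)
    refine hzmem hrK fun k hk => ?_
    obtain ⟨e, he, a, ha, rfl⟩ := hEU k hk
    exact (Commute.mul_left (show Commute e r from hER e he r hr) ((hUcomm a ha r hrK).symm)).eq
  -- `E` is trivial or extraspecial, given it is not inside the centre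
  have hEext : E ≠ Subgroup.zpowers z → Cfsg.IsExtraspecial p E := by
    intro hne
    have hEz : Subgroup.center E = (Subgroup.zpowers z).subgroupOf E := by
      ext x
      rw [Subgroup.mem_center_iff, Subgroup.mem_subgroupOf]
      exact ⟨fun h => hECU x x.2 (Subgroup.mem_centralizer_iff.2 fun e he => congrArg Subtype.val (h ⟨e, he⟩)),
        fun h y => Subtype.ext (hzcp x h y)⟩
    have hcc : Nat.card (Subgroup.center E) = p := by
      rw [hEz, Solv.card_subgroupOf hzEle, Nat.card_zpowers, hzo]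
    refine Solv.isExtraspecial_of (hG.to_subgroup E) hcc ?_ fun x => by
      rw [hEz, Subgroup.mem_subgroupOf]; exact hEpow x x.2
    have hle : commutator E ≤ Subgroup.center E := by
      rw [hEz, commutator_def, Subgroup.commutator_le]
      intro a _ b _
      rw [Subgroup.mem_subgroupOf]
      have h := hKK (a⁻¹ : E) (hEK (a⁻¹ : E).2) b (hEK b.2)
      rw [Subgroup.coe_inv] at h
      have e : ((⁅a, b⁆ : E) : G) = (a : G)⁻¹⁻¹ * ((b : G) * (a : G)⁻¹ * (b : G)⁻¹) := by
        simp [commutatorElement_def, mul_assoc]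
      rw [e]; exact h
    refine le_antisymm hle ?_
    have hne' : commutator E ≠ ⊥ := by
      intro hb
      apply hne
      refine le_antisymm (fun e he => hECU e he (Subgroup.mem_centralizer_iff.2 fun f hf => ?_)) hzEle
      have : ⁅(⟨f, hf⟩ : E), ⟨e, he⟩⁆ ∈ commutator E :=
        Subgroup.commutator_mem_commutator (Subgroup.mem_top _) (Subgroup.mem_top _)
      rw [hb, Subgroup.mem_bot, commutatorElement_eq_one_iff_mul_comm] at this
      exact congrArg Subtype.val this
    rcases (Nat.dvd_prime hp.out).1 (hcc ▸ Subgroup.card_dvd_of_le hle) with h | h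
    · exact absurd (Subgroup.eq_bot_of_card_eq _ h) hne'
    · exact (Subgroup.eq_of_le_of_card_ge hle (by rw [h, hcc])).ge
  by_cases hRab : ∀ a ∈ R, ∀ b ∈ R, a * b = b * a
  · have hRU : R = U := le_antisymm (fun r hr => hCRU r hr (hRab r hr u (hUR hu))) hUR
    by_cases hEz : E = Subgroup.zpowers z
    · refine ⟨⊥, R, fun e he r _ => ?_, ?_, Or.inl rfl, Or.inl (by rw [hRU]; exact hUcyc)⟩
      · rw [Subgroup.mem_bot] at he; rw [he, one_mul, mul_one]
      · rw [bot_sup_eq, ← hsup, hEz]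
        exact (sup_eq_right.2 (hRU ▸ Subgroup.zpowers_le.2 hzU)).symm
    · exact ⟨E, R, hER, hsup, Or.inr (hEext hEz), Or.inl (by rw [hRU]; exact hUcyc)⟩
  push Not at hRab
  obtain ⟨r0, hr0, r1, hr1, hr01⟩ := hRab
  set uR : R := ⟨u, hUR hu⟩ with huR
  have hUneR : ∃ r ∈ R, r ∉ U := by
    by_contra h
    push Not at h
    exact hr01 (hUcomm r1 (h r1 hr1) r0 (hUK (h r0 hr0)))
  have hn2 : 2 ≤ n := by
    by_contra h
    obtain ⟨r, hr, hrU⟩ := hUneR
    refine hrU (hCRU r hr ?_)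
    have e : z = u := by rw [hz, show n - 1 = 0 by omega]; simp
    rw [← e]; exact hzc r
  have D : CyclicSelf.Data p n uR := by
    refine ⟨hG.to_subgroup R, ?_, hn2, fun x => ?_, fun x hx => ?_⟩
    · rw [← Subgroup.orderOf_coe]; exact hord
    · have := Subgroup.Normal.conj_mem ‹U.Normal› u hu x
      rw [hUz] at this
      obtain ⟨m, hm⟩ := Subgroup.mem_zpowers_iff.1 this
      exact ⟨m, Subtype.ext (by simpa [huR] using hm.symm)⟩
    · have h := hCRU x x.2 (congrArg Subtype.val hx)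
      rw [hUz] at h
      obtain ⟨m, hm⟩ := Subgroup.mem_zpowers_iff.1 h
      exact Subgroup.mem_zpowers_iff.2 ⟨m, Subtype.ext (by simpa [huR] using hm)⟩
  have hne : Subgroup.zpowers uR ≠ ⊤ := by
    intro h
    obtain ⟨r, hr, hrU⟩ := hUneR
    obtain ⟨m, hm⟩ := Subgroup.mem_zpowers_iff.1 (h.ge (Subgroup.mem_top (⟨r, hr⟩ : R)))
    exact hrU (by rw [← show u ^ m = r by simpa [huR] using congrArg Subtype.val hm]; exact zpow_mem hu m)
  by_cases hleft : p = 2 ∧ (n = 2 ∨ ∀ x : R, Commute x (uR ^ p) → x ∈ Subgroup.zpowers uR)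
  · obtain ⟨rfl, hl⟩ := hleft
    obtain ⟨hcard, hcase⟩ := CyclicSelf.two_case D hne fun h3 => hl.resolve_left (by omega)
    by_cases hn3 : n = 2
    · -- `G` is extraspecial
      refine ⟨⊤, ⊥, fun e _ r hr => ?_, top_sup_eq _, Or.inr ?_, Or.inl inferInstance⟩
      · rw [Subgroup.mem_bot] at hr; rw [hr, one_mul, mul_one]
      have hR8 : Nat.card R = 8 := by rw [hcard, hn3]; norm_num
      have hRz : ∀ r ∈ R, r * r ∈ Subgroup.zpowers z := by
        set N := (Subgroup.zpowers z).subgroupOf R with hN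
        haveI : N.Normal := Subgroup.normal_subgroupOf
        have hzR : Subgroup.zpowers z ≤ R := Subgroup.zpowers_le.2 (hUR hzU)
        have hNc : Nat.card (R ⧸ N) = 4 := by
          have := N.card_eq_card_quotient_mul_card_subgroup
          have h2 : Nat.card N = 2 := by rw [hN, Solv.card_subgroupOf hzR, Nat.card_zpowers, hzo]
          rw [hR8, h2] at this
          omega
        have hexp : ∀ q : R ⧸ N, q ^ 2 = 1 := by
          intro q
          by_contra hq
          have hd := orderOf_dvd_natCard q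
          rw [hNc] at hd
          have hq4 : orderOf q = 4 := by
            have h1 : orderOf q ≠ 1 := fun h => hq (by rw [orderOf_eq_one_iff.1 h, one_pow])
            have h2 : orderOf q ≠ 2 := fun h => hq (by rw [← h]; exact pow_orderOf_eq_one q)
            have := Nat.le_of_dvd (by norm_num) hd
            interval_cases h : orderOf q <;> simp_all
          haveI : IsCyclic (R ⧸ N) := isCyclic_of_orderOf_eq_card q (by rw [hq4, hNc])
          refine hr01 (congrArg Subtype.val (commutative_of_cyclic_center_quotient (QuotientGroup.mk' N)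
            (fun x hx => ?_) ⟨r0, hr0⟩ ⟨r1, hr1⟩))
          rw [QuotientGroup.ker_mk', hN, Subgroup.mem_subgroupOf] at hx
          exact Subgroup.mem_center_iff.2 fun y => Subtype.ext (hzcp x hx y)
        intro r hr
        have h1 := hexp ((⟨r, hr⟩ : R) : R ⧸ N)
        rw [← QuotientGroup.mk_pow, QuotientGroup.eq_one_iff, hN, Subgroup.mem_subgroupOf, pow_two] at h1
        simpa using h1
      have hRcomm : ∀ a ∈ R, ∀ b ∈ R, a⁻¹ * (b * a * b⁻¹) ∈ Subgroup.zpowers z := by
        intro a ha b hb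
        have e2 : a⁻¹ * (b * a * b⁻¹) = (a⁻¹ * a⁻¹) * ((a * b) * (a * b)) * (b⁻¹ * b⁻¹) := by group
        rw [e2]
        exact mul_mem (mul_mem (hRz _ (inv_mem ha)) (hRz _ (mul_mem ha hb))) (hRz _ (inv_mem hb))
      have hdec : ∀ g : G, ∃ e ∈ E, ∃ r ∈ R, g = e * r := fun g => by
        obtain ⟨e, he, r, hr, h⟩ := Subgroup.mem_sup_of_normal_left.1 (hsup.ge (Subgroup.mem_top g))
        exact ⟨e, he, r, hr, h.symm⟩
      have hcen : ∀ g : G, g ∈ Subgroup.center G ↔ g ∈ Subgroup.zpowers z := by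
        refine fun g => ⟨fun hg => ?_, fun hg => Subgroup.mem_center_iff.2 (hzcp g hg)⟩
        have hgR : g ∈ R := Subgroup.mem_centralizer_iff.2 fun e _ => Subgroup.mem_center_iff.1 hg e
        have hgU := hCRU g hgR (Subgroup.mem_center_iff.1 hg u).symm
        refine hunique g hgU ?_
        rw [hUz] at hgU
        obtain ⟨i, rfl⟩ := Subgroup.mem_zpowers_iff.1 hgU
        rcases Int.even_or_odd' i with ⟨j, rfl | rfl⟩
        · rw [← zpow_natCast, ← zpow_mul, show (2 * j) * ((2 : ℕ) : ℤ) = ((2 ^ n : ℕ) : ℤ) * j by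
            rw [hn3]; push_cast; ring, ← hord, zpow_mul, zpow_natCast, pow_orderOf_eq_one, one_zpow]
        · exfalso
          obtain ⟨r, hr, hrU⟩ := hUneR
          refine hrU (hCRU r hr ?_)
          have h1 : Commute r (u ^ (2 * j + 1)) := Subgroup.mem_center_iff.1 hg r
          have h2 : Commute r (u ^ (-(2 * j))) := by
            have hz' : u ^ (2 : ℤ) = z := by rw [hz, hn3]; norm_cast
            rw [show -(2 * j) = 2 * (-j) by ring, zpow_mul, hz']
            exact Commute.zpow_right (hzc r) _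
          have h3 := h1.mul_right h2
          rwa [← zpow_add, show 2 * j + 1 + -(2 * j) = 1 by ring, zpow_one] at h3
      have hcomm2 : ∀ a b : G, ⁅a, b⁆ ∈ Subgroup.zpowers z := by
        intro a b
        have hgen : ∀ x : G, ∀ y : G, x⁻¹ * (y * x * y⁻¹) ∈ Subgroup.zpowers z := by
          intro x y
          obtain ⟨e, he, r, hr, rfl⟩ := hdec x
          obtain ⟨e', he', r', hr', rfl⟩ := hdec y
          have h1 := hinner e he (e' * r')
          have h2 := hRcomm r hr r' hr'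
          have e1 : (e' * r') * r * (e' * r')⁻¹ = r' * r * r'⁻¹ := by
            have hc : e' * (r' * r * r'⁻¹) = r' * r * r'⁻¹ * e' := hER e' he' _ (mul_mem (mul_mem hr' hr) (inv_mem hr'))
            calc (e' * r') * r * (e' * r')⁻¹ = e' * (r' * r * r'⁻¹) * e'⁻¹ := by group
              _ = _ := by rw [hc, mul_inv_cancel_right]
          have e2 : (e * r)⁻¹ * ((e' * r') * (e * r) * (e' * r')⁻¹) =
              r⁻¹ * (e⁻¹ * ((e' * r') * e * (e' * r')⁻¹)) * ((e' * r') * r * (e' * r')⁻¹) := by group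
          rw [e2, e1]
          have e3 : r⁻¹ * (e⁻¹ * ((e' * r') * e * (e' * r')⁻¹)) * (r' * r * r'⁻¹) =
              (e⁻¹ * ((e' * r') * e * (e' * r')⁻¹)) * (r⁻¹ * (r' * r * r'⁻¹)) := by
            rw [hzcp _ h1 r⁻¹, mul_assoc]
          rw [e3]; exact mul_mem h1 h2
        have h := hgen a⁻¹ b
        rwa [inv_inv, ← mul_assoc, ← mul_assoc, ← commutatorElement_def] at h
      have hsq : ∀ g : G, g ^ 2 ∈ Subgroup.zpowers z := fun g => by
        obtain ⟨e, he, r, hr, rfl⟩ := hdec g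
        rw [Commute.mul_pow (hER e he r hr), pow_two r]
        exact mul_mem (hEpow e he) (hRz r hr)
      have hcenT : Subgroup.center (⊤ : Subgroup G) = (Subgroup.zpowers z).subgroupOf ⊤ := by
        ext x
        rw [Subgroup.mem_subgroupOf, ← hcen, Subgroup.mem_center_iff, Subgroup.mem_center_iff]
        exact ⟨fun h y => congrArg Subtype.val (h ⟨y, Subgroup.mem_top y⟩), fun h y => Subtype.ext (h y)⟩
      have hcc : Nat.card (Subgroup.center (⊤ : Subgroup G)) = 2 := by
        rw [hcenT, Solv.card_subgroupOf le_top, Nat.card_zpowers, hzo]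
      have hext : Cfsg.IsExtraspecial 2 (⊤ : Subgroup G) := by
        refine Solv.isExtraspecial_of (hG.to_subgroup ⊤) hcc ?_ fun g => by
          rw [hcenT, Subgroup.mem_subgroupOf]; exact hsq g
        have hle : commutator (⊤ : Subgroup G) ≤ Subgroup.center (⊤ : Subgroup G) := by
          rw [hcenT, commutator_def, Subgroup.commutator_le]
          intro a _ b _
          rw [Subgroup.mem_subgroupOf]
          exact hcomm2 a b
        rcases (Nat.dvd_prime hp.out).1 (hcc ▸ Subgroup.card_dvd_of_le hle) with h | h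
        · exfalso
          have : ⁅(⟨r0, Subgroup.mem_top r0⟩ : (⊤ : Subgroup G)), ⟨r1, Subgroup.mem_top r1⟩⁆ ∈ commutator (⊤ : Subgroup G) :=
            Subgroup.commutator_mem_commutator (Subgroup.mem_top _) (Subgroup.mem_top _)
          rw [Subgroup.eq_bot_of_card_eq _ h, Subgroup.mem_bot, commutatorElement_eq_one_iff_mul_comm] at this
          exact hr01 (congrArg Subtype.val this)
        · exact Subgroup.eq_of_le_of_card_ge hle (by rw [h, hcc])
      exact hext
    · refine ⟨if E = Subgroup.zpowers z then ⊥ else E, R, fun e he r hr => ?_, ?_, ?_,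
        Or.inr ⟨rfl, ?_, hcase⟩⟩
      · split_ifs at he
        · rw [Subgroup.mem_bot] at he; rw [he, one_mul, mul_one]
        · exact hER e he r hr
      · split_ifs with h
        · rw [bot_sup_eq, ← hsup, h]
          exact (sup_eq_right.2 ((Subgroup.zpowers_le.2 hzU).trans hUR)).symm
        · exact hsup
      · by_cases h : E = Subgroup.zpowers z
        · exact Or.inl (if_pos h)
        · rw [if_neg h]; exact Or.inr (hEext h)
      · rw [hcard]
        calc 16 = 2 ^ 4 := by norm_num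
          _ ≤ _ := Nat.pow_le_pow_right (by norm_num) (by omega)
  exfalso
  have h3 : p = 2 → 3 ≤ n := fun h => by
    by_contra hh
    exact hleft ⟨h, Or.inl (by omega)⟩
  have hex : ∃ x : R, Commute x (uR ^ p) ∧ x ∉ Subgroup.zpowers uR := by
    by_cases h : p = 2
    · by_contra hh
      exact hleft ⟨h, Or.inr fun x hx => by_contra fun h' => hh ⟨x, hx, h'⟩⟩
    · obtain ⟨x, hxU, hxp⟩ := CyclicSelf.exists_step D hne
      exact ⟨x, CyclicSelf.mem_of_odd D h hxp, hxU⟩
  obtain ⟨b, hbp, hbU, hbc, hball⟩ := right_case D h3 hex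
  have hbpG : (b : G) ^ p = 1 := congrArg Subtype.val hbp
  have hbcG : (b : G) * u ^ p = u ^ p * b := congrArg Subtype.val hbc
  set X := Subgroup.centralizer ({u ^ p} : Set G) with hX
  set P0 : G → Prop := fun x => x ∈ X ∧ (x ^ p = 1 ∨ (p = 2 ∧ x ^ p ∈ Subgroup.zpowers z)) with hP0
  set S := Subgroup.closure {x | P0 x} with hS
  set A := S ⊓ Subgroup.centralizer (S : Set G) with hA
  have hXmap : ∀ φ : MulAut G, ∀ x ∈ X, φ x ∈ X := fun φ x hx => by
    rw [hX, Subgroup.mem_centralizer_singleton_iff] at hx ⊢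
    have hu' := Subgroup.characteristic_iff_map_le.1 hUc φ.symm ⟨u, hu, rfl⟩
    rw [hUz] at hu'
    obtain ⟨i, hi⟩ := Subgroup.mem_zpowers_iff.1 hu'
    have h1 : Commute x (φ.symm (u ^ p)) := by
      rw [map_pow, show φ.symm u = u ^ i from hi.symm, ← zpow_natCast, ← zpow_mul, mul_comm, zpow_mul, zpow_natCast]
      exact (show Commute x (u ^ p) from hx).zpow_right i
    have := congrArg φ h1.eq
    simpa using this
  have hSmap : ∀ φ : MulAut G, ∀ x ∈ S, φ x ∈ S := fun φ x hx => by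
    have hle : S ≤ S.comap φ.toMonoidHom := (Subgroup.closure_le _).2 fun y ⟨hy, hyp⟩ => by
      refine Subgroup.subset_closure ⟨hXmap φ y hy, ?_⟩
      rcases hyp with h | ⟨h2, h⟩
      · left; show (φ y) ^ p = 1; rw [← map_pow, h, map_one]
      · right; refine ⟨h2, ?_⟩
        obtain ⟨i, hi⟩ := Subgroup.mem_zpowers_iff.1 h
        have hzz : φ z ∈ Subgroup.zpowers z := hunique _ (Subgroup.characteristic_iff_map_le.1 hUc φ ⟨z, hzU, rfl⟩)
          (by rw [← map_pow, hzq, map_one])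
        show (φ y) ^ p ∈ _
        rw [← map_pow, ← hi, map_zpow]
        exact zpow_mem hzz i
    exact hle hx
  haveI hAc : A.Characteristic := Subgroup.characteristic_iff_map_le.2 fun φ => by
    rintro _ ⟨a, ha, rfl⟩
    refine ⟨hSmap φ a ha.1, Subgroup.mem_centralizer_iff.2 fun s hs => ?_⟩
    have := congrArg φ (Subgroup.mem_centralizer_iff.1 ha.2 _ (hSmap φ.symm s hs))
    simpa using this
  have hAcyc : IsCyclic A := hsymp A hAc ⟨⟨fun a c => Subtype.ext (Subgroup.mem_centralizer_iff.1 c.2.2 a a.2.1)⟩⟩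
  have hbS : (b : G) ∈ S := Subgroup.subset_closure ⟨Subgroup.mem_centralizer_singleton_iff.2 hbcG, Or.inl hbpG⟩
  have hzS : z ∈ S := Subgroup.subset_closure ⟨Subgroup.mem_centralizer_singleton_iff.2 (hzc _).symm, Or.inl hzq⟩
  have hbA : (b : G) ∈ A := by
    refine ⟨hbS, ?_⟩
    have hle : S ≤ Subgroup.centralizer ({(b : G)} : Set G) := by
      refine (Subgroup.closure_le _).2 fun x ⟨hxX, hxp⟩ => Subgroup.mem_centralizer_singleton_iff.2 ?_
      obtain ⟨e, he, r, hr, rfl⟩ : ∃ e ∈ E, ∃ r ∈ R, x = e * r := by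
        obtain ⟨e, he, r, hr, h⟩ := Subgroup.mem_sup_of_normal_left.1 (hsup.ge (Subgroup.mem_top x))
        exact ⟨e, he, r, hr, h.symm⟩
      have her : Commute e r := hER e he r hr
      have hru : r * u ^ p = u ^ p * r := by
        have h1 : Commute (e * r) (u ^ p) := Subgroup.mem_centralizer_singleton_iff.1 hxX
        have h2 : Commute e (u ^ p) := hUcomm _ (pow_mem hu p) e (hEK he)
        have h3 := h2.inv_left.mul_left h1
        rwa [inv_mul_cancel_left] at h3
      have hrp : (⟨r, hr⟩ : R) ^ p = 1 ∨ (p = 2 ∧ (⟨r, hr⟩ : R) ^ p ∈ Subgroup.zpowers (CyclicSelf.z0 p n uR)) := by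
        have hpe := hEpow e he
        rw [her.mul_pow] at hxp
        by_cases h2 : p = 2
        · right; refine ⟨h2, ?_⟩
          have h : r ^ p ∈ Subgroup.zpowers z := by
            rcases hxp with h | ⟨-, h⟩
            · rw [eq_inv_of_mul_eq_one_right h]; exact inv_mem hpe
            · exact (mul_mem_cancel_left hpe).1 h
          obtain ⟨i, hi⟩ := Subgroup.mem_zpowers_iff.1 h
          refine Subgroup.mem_zpowers_iff.2 ⟨i, Subtype.ext ?_⟩
          rw [CyclicSelf.z0, show ((p : ℤ) ^ (n - 1)) = ((p ^ (n - 1) : ℕ) : ℤ) by push_cast; rfl, zpow_natCast]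
          simpa [huR, hz] using hi
        · left
          rw [hEodd hn2 h2 e he, one_mul] at hxp
          exact Subtype.ext (hxp.resolve_right fun h => h2 h.1)
      have hc1 : r * b = b * r := congrArg Subtype.val (hball ⟨r, hr⟩ (Subtype.ext hru) hrp).eq
      exact (Commute.mul_left (show Commute e b from hER e he b b.2) (show Commute r b from hc1)).eq
    exact Subgroup.mem_centralizer_iff.2 fun s hs => Subgroup.mem_centralizer_singleton_iff.1 (hle hs)
  have hzA : z ∈ A := ⟨hzS, Subgroup.mem_centralizer_iff.2 fun s _ => hzc s⟩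
  apply hbU
  suffices (b : G) ∈ Subgroup.zpowers z by
    have h := Subgroup.zpowers_le.2 hzU this
    rw [hUz] at h
    obtain ⟨i, hi⟩ := Subgroup.mem_zpowers_iff.1 h
    exact Subgroup.mem_zpowers_iff.2 ⟨i, Subtype.ext (by simpa [huR] using hi)⟩
  exact mem_zpowers_of_cyclic hAcyc hzA hzo hbA hbpG

end Cfsg.Agent.Solv.Symp
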