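import Mathlib
import Cfsg.Agent.Lib.Solv.SingleFix
import Cfsg.Agent.Lib.Solv.FPFFitting
import Cfsg.Agent.Lib.Solv.PLength
import Cfsg.Agent.Lib.Solv.CoprimeHall
import Cfsg.Agent.Lib.SSF.Cores
import Cfsg.Agent.Lib.Solv.Symplectic

/-!
`p`-length one of `[H, R]` when an element of prime order in `R` has a `Z`-group as centralizer in `H`.
-/

set_option autoImplicit false
set_option linter.style.haveILetI false

namespace Cfsg.Agent.Solv.PLenFix

open scoped commutatorElement Pointwise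

universe u

/-- Coprime action on an abelian group: commutators and fixed points are disjoint. -/
theorem commutator_inf_centralizer {G : Type u} [Group G] [Finite G] (F L : Subgroup G) (hF : IsMulCommutative F)
    (hLF : L ≤ Subgroup.normalizer (F : Set G)) (hco : (Nat.card L).Coprime (Nat.card F)) :
    ⁅F, L⁆ ⊓ Subgroup.centralizer (L : Set G) = ⊥ := by
  classical
  haveI := Fintype.ofFinite L
  letI : CommGroup F := { (inferInstance : Group F) with mul_comm := hF.is_comm.comm }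
  have hmem : ∀ (l : L) (f : F), (l : G) * f * (l : G)⁻¹ ∈ F := fun l f =>
    (Subgroup.mem_normalizer_iff.1 (hLF l.2) f).1 f.2
  obtain ⟨T, hT⟩ : ∃ T : F →* F, ∀ f : F, T f = ∏ l : L, (⟨(l : G) * f * (l : G)⁻¹, hmem l f⟩ : F) :=
    ⟨{ toFun := fun f => ∏ l : L, (⟨(l : G) * f * (l : G)⁻¹, hmem l f⟩ : F)
       map_one' := Finset.prod_eq_one fun l _ => Subtype.ext (by simp)
       map_mul' := fun a b => by
        rw [← Finset.prod_mul_distrib]
        exact Finset.prod_congr rfl fun l _ => Subtype.ext (by simp [mul_assoc]) }, fun _ => rfl⟩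
  have hle : ⁅F, L⁆ ≤ T.ker.map F.subtype := by
    refine Subgroup.commutator_le.2 fun f hf m hm => ?_
    have hm' : m * f⁻¹ * m⁻¹ ∈ F := (Subgroup.mem_normalizer_iff.1 (hLF hm) f⁻¹).1 (inv_mem hf)
    refine ⟨(⟨f, hf⟩ : F) * ⟨m * f⁻¹ * m⁻¹, hm'⟩, ?_, by simp [commutatorElement_def, mul_assoc]⟩
    show _ * _ ∈ T.ker
    rw [MonoidHom.mem_ker, map_mul]
    have h1 : T ⟨m * f⁻¹ * m⁻¹, hm'⟩ = T (⟨f, hf⟩ : F)⁻¹ := by
      rw [hT, hT]
      refine Fintype.prod_equiv (Equiv.mulRight (⟨m, hm⟩ : L)) _ _ fun l => Subtype.ext ?_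
      simp [mul_assoc]
    rw [h1, map_inv, mul_inv_cancel]
  rw [eq_bot_iff]
  rintro f ⟨hf, hfc⟩
  obtain ⟨g, hg, rfl⟩ := hle hf
  have h1 : T g = g ^ Nat.card L := by
    rw [hT, Finset.prod_eq_pow_card (b := g)]
    · rw [Finset.card_univ, Nat.card_eq_fintype_card]
    · intro l _
      exact Subtype.ext (mul_inv_eq_iff_eq_mul.2 (Subgroup.mem_centralizer_iff.1 hfc l l.2))
  have h2 : g ^ Nat.card L = 1 := by rw [← h1]; exact hg
  have h3 : orderOf g = 1 := Nat.eq_one_of_dvd_coprimes hco (orderOf_dvd_of_pow_eq_one h2) (orderOf_dvd_natCard g)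
  rw [orderOf_eq_one_iff.1 h3]
  simp

/-- A `Z`-group generated by commutators with operators is cyclic. -/
theorem commute_of_zgroup {G : Type u} [Group G] [Finite G] (A B : Subgroup G) [IsZGroup A]
    (hBA : B ≤ Subgroup.normalizer (A : Set G)) (hgen : ⁅A, B⁆ = A) : IsMulCommutative A := by
  classical
  obtain ⟨D, hD⟩ : ∃ D, D = ⁅A, A⁆ := ⟨_, rfl⟩
  have hDmap : D = (commutator A).map A.subtype := by
    rw [hD, commutator_def, Subgroup.map_commutator, ← MonoidHom.range_eq_map, Subgroup.range_subtype]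
  haveI : IsCyclic (commutator A) := IsZGroup.isCyclic_commutator _
  haveI : IsCyclic D := by
    rw [hDmap]
    exact isCyclic_of_surjective ((Subgroup.equivMapOfInjective (commutator A) A.subtype A.subtype_injective).toMonoidHom)
      (Subgroup.equivMapOfInjective (commutator A) A.subtype A.subtype_injective).surjective
  have hnorm : ∀ g, g ∈ Subgroup.normalizer (A : Set G) → g ∈ Subgroup.normalizer (D : Set G) := fun g hg => by
    rw [hD]; exact SingleFix.mem_normalizer_commutator hg hg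
  let φ := Subgroup.normalizerMonoidHom D
  have hcomm : ∀ a b : MulAut D, a * b = b * a := by
    intro a b
    apply (IsCyclic.mulAutMulEquiv D).injective
    rw [map_mul, map_mul, mul_comm]
  have hcen : A ≤ Subgroup.centralizer (D : Set G) := by
    have h1 : ⁅A, B⁆ ≤ Subgroup.centralizer (D : Set G) := by
      refine Subgroup.commutator_le.2 fun a ha b hb => ?_
      have han := hnorm a (Subgroup.le_normalizer ha)
      have hbn := hnorm b (hBA hb)
      have h2 : φ ⁅(⟨a, han⟩ : Subgroup.normalizer (D : Set G)), ⟨b, hbn⟩⁆ = 1 := by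
        rw [map_commutatorElement, commutatorElement_eq_one_iff_mul_comm]
        exact hcomm _ _
      refine Subgroup.mem_centralizer_iff.2 fun d hd => ?_
      have h3 : ⁅a, b⁆ * d * ⁅a, b⁆⁻¹ = d := by
        have h4 := congrArg (fun t : MulAut D => ((t ⟨d, hd⟩ : D) : G)) h2
        exact h4
      exact (mul_inv_eq_iff_eq_mul.1 h3).symm
    rwa [hgen] at h1
  haveI : Group.IsNilpotent A := by
    refine Subgroup.nilpotent_iff_lowerCentralSeries.2 ⟨2, ?_⟩
    rw [Subgroup.lowerCentralSeries_succ, Subgroup.lowerCentralSeries_succ, Subgroup.lowerCentralSeries_zero]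
    apply Subgroup.map_injective A.subtype_injective
    rw [Subgroup.map_bot, Subgroup.map_commutator, Subgroup.map_commutator, ← MonoidHom.range_eq_map,
      Subgroup.range_subtype, ← hD, Subgroup.commutator_eq_bot_iff_le_centralizer]
    exact fun d hd => Subgroup.mem_centralizer_iff.2 fun a ha =>
      (Subgroup.mem_centralizer_iff.1 (hcen ha) d hd).symm
  exact ⟨⟨fun a b => (IsCyclic.commGroup (α := A)).mul_comm a b⟩⟩

theorem hasPSeries_equiv {p k : ℕ} {A : Type*} {B : Type*} [Group A] [Group B] (e : A ≃* B)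
    (h : PLen.HasPSeries p k A) : PLen.HasPSeries p k B := by
  obtain ⟨f, f0, ftop, fn, fle, fok⟩ := h
  refine ⟨fun n => (f n).map e.toMonoidHom, by dsimp only; rw [f0, Subgroup.map_bot], fun n hn => ?_,
    fun n => (fn n).map _ e.surjective, fun n => Subgroup.map_mono (fle n), fun n => ?_⟩
  · dsimp only
    rw [ftop n hn, Subgroup.map_top_of_surjective _ e.surjective]
  · dsimp only
    rw [Subgroup.relIndex_map_map_of_injective _ _ e.injective]
    exact fok n

theorem hasPSeries_of_pgroup {p : ℕ} [Fact p.Prime] {H : Type u} [Group H] [Finite H] (N : Subgroup H) [N.Normal]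
    (hN : IsPGroup p N) (h : (Nat.card (H ⧸ N)).Coprime p) : PLen.HasPSeries p 1 H :=
  PLen.HasPSeries.lift_p N hN (PLen.hasPSeries_of_coprime 0 h)

/-- With no normal `p'`-subgroup, series modulo the Frattini subgroup of the `p`-core suffice. -/
theorem frattini_reduction {p : ℕ} [Fact p.Prime] {H : Type u} [Group H] [Finite H] (hs : Group.IsSolvable H)
    (hbot : Cfsg.pPrimeCore p H = ⊥) (Φ : Subgroup H) [Φ.Normal]
    (hΦ : Φ = (frattini (Cfsg.pCore p H)).map (Cfsg.pCore p H).subtype)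
    (h : PLen.HasPSeries p 1 (H ⧸ Φ)) : PLen.HasPSeries p 1 H := by
  classical
  obtain ⟨F, hF⟩ : ∃ F, F = Cfsg.pCore p H := ⟨_, rfl⟩
  haveI : F.Normal := hF ▸ pCore_normal p
  have hFp : IsPGroup p F := hF ▸ pCore_isPGroup p
  have hΦF : Φ ≤ F := by rw [hΦ, hF]; exact Subgroup.map_subtype_le _
  let π := QuotientGroup.mk' Φ
  haveI := pPrimeCore_normal (G := H ⧸ Φ) p
  obtain ⟨W, hW⟩ : ∃ W, W = (Cfsg.pPrimeCore p (H ⧸ Φ)).comap π := ⟨_, rfl⟩
  haveI : W.Normal := hW ▸ Subgroup.Normal.comap inferInstance π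
  have hWp : IsPGroup p W := by
    refine IsPGroup.iff_card.2 ⟨_, Nat.eq_prime_pow_of_unique_prime_dvd (p := p) Nat.card_pos.ne' ?_⟩
    · intro q hq hqd
      by_contra hqp
      haveI := Fact.mk hq
      obtain ⟨⟨w, hw⟩, hwo⟩ := exists_prime_orderOf_dvd_card' q hqd
      rw [Subgroup.orderOf_mk] at hwo
      have hwF : w ∈ Subgroup.centralizer (F : Set H) := by
        refine centralizes_of_frattini F hFp w (by rw [Subgroup.normalizer_eq_top]; exact Subgroup.mem_top w)
          (by rw [hwo]; exact (Nat.coprime_primes hq Fact.out).2 hqp) fun y hy => ?_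
        have hdis : (F.map π) ⊓ Cfsg.pPrimeCore p (H ⧸ Φ) = ⊥ := by
          obtain ⟨i, hi⟩ := (hFp.map π).exists_card_eq
          refine coprime_inf ?_
          rw [hi]
          exact ((Cfsg.Agent.Solv.pPrimeCore_coprime p).symm.pow_left i)
        haveI : (F.map π).Normal := Subgroup.Normal.map inferInstance π (QuotientGroup.mk'_surjective Φ)
        have h1 : π ⁅y, w⁆ ∈ (F.map π) ⊓ Cfsg.pPrimeCore p (H ⧸ Φ) := by
          have hwW : π w ∈ Cfsg.pPrimeCore p (H ⧸ Φ) := by
            have := hw; rw [hW] at this; exact this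
          rw [map_commutatorElement, commutatorElement_def]
          refine Subgroup.mem_inf.2 ⟨?_, ?_⟩
          · rw [mul_assoc (π y), mul_assoc (π y)]
            exact mul_mem ⟨y, hy, rfl⟩ ((inferInstance : (F.map π).Normal).conj_mem _ (inv_mem ⟨y, hy, rfl⟩) _)
          · exact mul_mem ((inferInstance : (Cfsg.pPrimeCore p (H ⧸ Φ)).Normal).conj_mem _ hwW _) (inv_mem hwW)
        rw [hdis, Subgroup.mem_bot, QuotientGroup.mk'_apply, QuotientGroup.eq_one_iff] at h1
        subst hF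
        rw [← hΦ]; exact h1
      -- so `w` is in the `p`-core
      have hcl : Subgroup.centralizer (F : Set H) ≤ F := by
        have hfit : Cfsg.fittingSubgroup H ≤ F := by
          rw [fitting_eq_iSup_pCore]
          refine iSup_le fun r => ?_
          by_cases hr : (r : ℕ) = p
          · rw [hr, hF]
          · haveI := Fact.mk r.2
            haveI := pCore_normal (G := H) (r : ℕ)
            refine le_trans (normal_le_pPrimeCore ?_) (hbot.le.trans bot_le)
            obtain ⟨i, hi⟩ := (pCore_isPGroup (G := H) (r : ℕ)).exists_card_eq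
            rw [hi]; exact ((Nat.coprime_primes r.2 Fact.out).2 hr).pow_left i
        refine le_trans (le_trans ?_ (centralizer_fitting_le hs)) hfit
        exact Subgroup.centralizer_le (SetLike.coe_subset_coe.2 hfit)
      obtain ⟨i, hi⟩ := hFp ⟨w, hcl hwF⟩
      have h2 : q ∣ p ^ i := hwo ▸ orderOf_dvd_of_pow_eq_one (congrArg Subtype.val hi)
      exact hqp ((Nat.prime_dvd_prime_iff_eq hq Fact.out).1 (hq.dvd_of_dvd_pow h2))
  have hbot' : Cfsg.pPrimeCore p (H ⧸ Φ) = ⊥ := by
    have hmap : W.map π = Cfsg.pPrimeCore p (H ⧸ Φ) := by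
      rw [hW, Subgroup.map_comap_eq_self_of_surjective (QuotientGroup.mk'_surjective Φ)]
    obtain ⟨i, hi⟩ := (hWp.map π).exists_card_eq
    rw [hmap] at hi
    exact Subgroup.card_eq_one.1 (Nat.eq_one_of_dvd_coprimes ((Cfsg.Agent.Solv.pPrimeCore_coprime p).pow_right i) dvd_rfl
      (dvd_of_eq hi))
  haveI := pCore_normal (G := H ⧸ Φ) p
  have h0 := (PLen.HasPSeries.quotient_pCore hbot' h).zero
  obtain ⟨Y, hY⟩ : ∃ Y, Y = (Cfsg.pCore p (H ⧸ Φ)).comap π := ⟨_, rfl⟩
  haveI : Y.Normal := hY ▸ Subgroup.Normal.comap inferInstance π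
  have hYp : IsPGroup p Y := hY ▸ (pCore_isPGroup p).comap_of_ker_isPGroup π (by
    rw [QuotientGroup.ker_mk']; exact hFp.to_le hΦF)
  refine hasPSeries_of_pgroup Y hYp ?_
  rwa [← Subgroup.index_eq_card, hY, Subgroup.index_comap_of_surjective _ (QuotientGroup.mk'_surjective Φ),
    Subgroup.index_eq_card]

theorem isZGroup_of_le {G : Type u} [Group G] {A B : Subgroup G} (h : A ≤ B) [IsZGroup B] : IsZGroup A :=
  IsZGroup.of_injective (Subgroup.inclusion_injective h)

theorem mem_normalizer_of_normal {G : Type u} [Group G] (N : Subgroup G) [N.Normal] (g : G) :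
    g ∈ Subgroup.normalizer (N : Set G) := by
  rw [Subgroup.normalizer_eq_top]; exact Subgroup.mem_top g

theorem isCyclic_of_pgroup {G : Type u} [Group G] [Finite G] {p : ℕ} [Fact p.Prime] {A B : Subgroup G} (h : A ≤ B)
    [IsZGroup B] (hA : IsPGroup p A) : IsCyclic A := by
  haveI := (hA.of_equiv (Subgroup.subgroupOfEquivOfLe h).symm).isCyclic_of_isZGroup
  exact isCyclic_of_surjective (Subgroup.subgroupOfEquivOfLe h).toMonoidHom (Subgroup.subgroupOfEquivOfLe h).surjective

/-- The configuration of a minimal counterexample does not occur. -/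
theorem contra {G : Type u} [Group G] [Finite G] {p r : ℕ} [hp : Fact p.Prime] [hr : Fact r.Prime] (hr2 : r ≠ 2)
    (H R : Subgroup G) [H.Normal] (hodd : Odd (Nat.card H)) (hs : Group.IsSolvable H)
    (hco : (Nat.card H).Coprime (Nat.card R)) (hgen : ⁅H, R⁆ = H) (x : G) (hxR : x ∈ R) (hxo : orderOf x = r)
    (hZ : IsZGroup ↥(H ⊓ Subgroup.centralizer {x})) (F : Subgroup G) [F.Normal] (hFH : F ≤ H)
    (hFel : Cfsg.IsElementaryAbelian p F) (hFmax : SSF.Ox p H ≤ F) (hsc : H ⊓ Subgroup.centralizer (F : Set G) ≤ F)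
    (hdvd : p ∣ F.relIndex H)
    (hK : ∀ K : Subgroup G, K.Normal → F ≤ K → K ≤ H → (F.relIndex K).Coprime p → K ≠ F →
      F ⊓ Subgroup.centralizer (K : Set G) = ⊥) : False := by
  classical
  have hxr : x ^ r = 1 := hxo ▸ pow_orderOf_eq_one x
  have hrH : (Nat.card H).Coprime r := hco.coprime_dvd_right (hxo ▸ Subgroup.orderOf_dvd_natCard R hxR)
  have hFp : IsPGroup p F := fun a => ⟨1, by rw [pow_one]; exact Subtype.ext (hFel.2 a a.2)⟩
  have hpH : p ∣ Nat.card H := hdvd.trans (Subgroup.relIndex_dvd_card F H)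
  have hp2 : p ≠ 2 := fun h => (Nat.not_even_iff_odd.2 hodd) (even_iff_two_dvd.2 (h ▸ hpH))
  have hrp : r ≠ p := fun h => hr.out.ne_one (Nat.eq_one_of_dvd_coprimes hrH (h ▸ hpH) dvd_rfl)
  have hxK : ∀ N : Subgroup G, N.Normal → Subgroup.zpowers x ≤ Subgroup.normalizer (N : Set G) := fun N hN y _ => by
    haveI := hN
    exact mem_normalizer_of_normal N y
  have hcoX : ∀ N : Subgroup G, N ≤ H → (Nat.card (Subgroup.zpowers x)).Coprime (Nat.card N) := fun N hN => by
    rw [Nat.card_zpowers, hxo]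
    exact hrH.symm.coprime_dvd_right (Subgroup.card_dvd_of_le hN)
  let π := QuotientGroup.mk' F
  obtain ⟨Hb, hHb⟩ : ∃ Hb, Hb = H.map π := ⟨_, rfl⟩
  haveI : Hb.Normal := hHb ▸ Subgroup.Normal.map inferInstance π (QuotientGroup.mk'_surjective F)
  have hHbs : Group.IsSolvable Hb := hHb ▸ Solv.isSolvable_map π hs
  have hOx : SSF.Ox p Hb = ⊥ := by
    haveI : (SSF.Ox p Hb).Normal := by
      rw [← Subgroup.normalizer_eq_top_iff, eq_top_iff, ← Subgroup.normalizer_eq_top (H := Hb)]
      exact SSF.normalizer_le_normalizer_Ox p Hb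
    have hle : (SSF.Ox p Hb).comap π ≤ F := by
      refine le_trans (SSF.le_Ox ?_ (fun y _ => mem_normalizer_of_normal _ y)
        ((SSF.isPGroup_Ox p Hb).comap_of_ker_isPGroup π (by rw [QuotientGroup.ker_mk']; exact hFp))) hFmax
      intro z hz
      obtain ⟨h, hh, e⟩ := hHb.le (SSF.Ox_le p Hb hz)
      have h1 : h⁻¹ * z ∈ F := QuotientGroup.eq.1 e
      have := mul_mem hh (hFH h1)
      rwa [mul_inv_cancel_left] at this
    rw [eq_bot_iff]
    intro z hz
    obtain ⟨z', rfl⟩ := QuotientGroup.mk'_surjective F z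
    exact Subgroup.mem_bot.2 ((QuotientGroup.eq_one_iff z').2 (hle hz))
  obtain ⟨Lb, hLb⟩ : ∃ Lb, Lb = SSF.Opc p Hb := ⟨_, rfl⟩
  haveI : Lb.Normal := by
    rw [hLb, ← Subgroup.normalizer_eq_top_iff, eq_top_iff, ← Subgroup.normalizer_eq_top (H := Hb)]
    exact SSF.normalizer_le_normalizer_Opc p Hb
  have hLbp : (Nat.card Lb).Coprime p := hLb ▸ SSF.Opc_coprime p Hb
  have hLbH : Lb ≤ Hb := hLb ▸ SSF.Opc_le p Hb
  have hOxLb : ∀ q : ℕ, q.Prime → SSF.Ox q Hb ≤ Lb := fun q hq => by
    by_cases hqp : q = p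
    · subst hqp; rw [hOx]; exact bot_le
    · haveI := Fact.mk hq
      rw [hLb]
      refine SSF.le_Opc (SSF.Ox_le q Hb) (SSF.self_le_normalizer_Ox q Hb) ?_
      obtain ⟨i, hi⟩ := (SSF.isPGroup_Ox q Hb).exists_card_eq
      rw [hi]; exact ((Nat.coprime_primes hq hp.out).2 hqp).pow_left i
  -- centralizing the `p'`-core of the quotient
  have hcLb : ∀ U : Subgroup (G ⧸ F), U ≤ Hb → U ≤ Subgroup.centralizer (Lb : Set (G ⧸ F)) → U ≤ Lb := by
    intro U hU hUc
    refine le_trans (SSF.le_fitting_of_centralizes hHbs hU fun q hq =>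
      hUc.trans (Subgroup.centralizer_le (SetLike.coe_subset_coe.2 (hOxLb q hq)))) ?_
    rw [SSF.map_fitting_eq]
    exact iSup_le fun q => hOxLb q q.2
  obtain ⟨K, hKdef⟩ : ∃ K, K = Lb.comap π := ⟨_, rfl⟩
  haveI : K.Normal := hKdef ▸ Subgroup.Normal.comap inferInstance π
  have hFK : F ≤ K := fun f hf => by
    rw [hKdef, Subgroup.mem_comap, show π f = 1 from (QuotientGroup.eq_one_iff f).2 hf]
    exact one_mem _
  have hKH : K ≤ H := fun z hz => by
    rw [hKdef, Subgroup.mem_comap] at hz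
    obtain ⟨h, hh, e⟩ := hHb.le (hLbH hz)
    have h1 : h⁻¹ * z ∈ F := QuotientGroup.eq.1 e
    have := mul_mem hh (hFH h1)
    rwa [mul_inv_cancel_left] at this
  have hKmap : K.map π = Lb := by
    rw [hKdef, Subgroup.map_comap_eq_self_of_surjective (QuotientGroup.mk'_surjective F)]
  have hKrel : F.relIndex K = Nat.card Lb := by
    rw [← hKmap, ← Subgroup.relIndex_bot_left, ← Subgroup.relIndex_comap, MonoidHom.comap_bot, QuotientGroup.ker_mk']
  have hKcard : Nat.card K = Nat.card Lb * Nat.card F := by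
    have h2 := Subgroup.relIndex_mul_relIndex ⊥ F K bot_le hFK
    rw [Subgroup.relIndex_bot_left, Subgroup.relIndex_bot_left, hKrel] at h2
    rw [← h2, mul_comm]
  have hcoFL : (Nat.card Lb).Coprime (Nat.card F) := by
    obtain ⟨i, hi⟩ := hFp.exists_card_eq
    rw [hi]; exact hLbp.pow_right i
  have hKs : Group.IsSolvable K := Solv.isSolvable_of_le hKH hs
  have hLbne : Lb ≠ ⊥ := by
    intro h0
    haveI : Nontrivial Hb := by
      rw [Subgroup.nontrivial_iff_ne_bot]
      intro hbot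
      have h1 : F.relIndex H = 1 := by
        rw [← Subgroup.card_eq_one.2 hbot, hHb, ← Subgroup.relIndex_bot_left, ← Subgroup.relIndex_comap, MonoidHom.comap_bot,
          QuotientGroup.ker_mk']
      exact hp.out.ne_one (Nat.dvd_one.1 (h1 ▸ hdvd))
    obtain ⟨q, hq, hqb⟩ := SSF.exists_Ox_ne_bot hHbs ((Subgroup.nontrivial_iff_ne_bot Hb).1 inferInstance)
    exact hqb (le_bot_iff.1 ((hOxLb q hq).trans h0.le))
  have hFCK : F ⊓ Subgroup.centralizer (K : Set G) = ⊥ := hK K inferInstance hFK hKH (hKrel ▸ hLbp) (fun h => hLbne (by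
    rw [← hKmap, h, eq_bot_iff]
    rintro _ ⟨f, hf, rfl⟩
    exact Subgroup.mem_bot.2 ((QuotientGroup.eq_one_iff f).2 hf)))
  -- an invariant complement
  obtain ⟨L, hLK, hLc, hxL⟩ := Solv.exists_invariant_hall (A := Subgroup.zpowers x) (K := K) (hxK K inferInstance)
    (hcoX K hKH) hKs hKcard hcoFL
  have hFL : F ⊓ L = ⊥ := coprime_inf (by rw [hLc]; exact hcoFL.symm)
  have hFLK : F ⊔ L = K := Subgroup.eq_of_le_of_card_ge (sup_le hFK hLK) (by
    have := card_sup_mul_card_inf F L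
    rw [hFL, Subgroup.card_bot, mul_one] at this
    rw [this, hKcard, hLc, mul_comm])
  have hLmap : L.map π = Lb := by
    rw [← hKmap, ← hFLK, Subgroup.map_sup, show F.map π = ⊥ from (Subgroup.map_eq_bot_iff _).2 (by
      rw [QuotientGroup.ker_mk']), bot_sup_eq]
  obtain ⟨N, hN⟩ : ∃ N, N = H ⊓ Subgroup.normalizer (L : Set G) := ⟨_, rfl⟩
  have hNH : N ≤ H := hN ▸ inf_le_left
  have hNL : N ≤ Subgroup.normalizer (L : Set G) := hN ▸ inf_le_right
  have hLN : L ≤ N := hN ▸ le_inf (hLK.trans hKH) Subgroup.le_normalizer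
  have hHFN : H ≤ F ⊔ N := by
    intro h hh
    have hle : MulAut.conj h • L ≤ K := (Subgroup.pointwise_smul_le_pointwise_smul_iff.2 hLK).trans
      (conj_smul_of_mem_normalizer (mem_normalizer_of_normal K h)).le
    obtain ⟨k, hk, e⟩ := Solv.hall_conj_in hKs hKcard hcoFL hLK hLc hle (by rw [card_conj_smul, hLc])
    rw [← hFLK] at hk
    obtain ⟨f, hf, l, hl, rfl⟩ := Subgroup.mem_sup_of_normal_left.1 hk
    have hfl : f * l ∈ H := mul_mem (hFH hf) (hKH (hLK hl))
    have hm : (f * l)⁻¹ * h ∈ N := by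
      rw [hN]
      refine Subgroup.mem_inf.2 ⟨mul_mem (inv_mem hfl) hh, mem_normalizer_of_conj_smul ?_⟩
      rw [map_mul, mul_smul, ← e, ← mul_smul, ← map_mul, inv_mul_cancel, map_one, one_smul]
    have := mul_mem (mul_mem (Subgroup.mem_sup_left hf) (Subgroup.mem_sup_right (hLN hl)) : f * l ∈ F ⊔ N)
      (Subgroup.mem_sup_right hm : (f * l)⁻¹ * h ∈ F ⊔ N)
    rwa [mul_inv_cancel_left] at this
  have hFN : F ⊓ N = ⊥ := by
    rw [eq_bot_iff]
    intro f hf
    obtain ⟨hf1, hf2⟩ := Subgroup.mem_inf.1 hf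
    refine Subgroup.mem_bot.2 (Subgroup.mem_bot.1 (hFCK ▸ Subgroup.mem_inf.2 ⟨hf1, ?_⟩ : f ∈ (⊥ : Subgroup G)))
    have h1 : K ≤ Subgroup.centralizer {f} := by
      rw [← hFLK]
      refine sup_le (fun g hg => Subgroup.mem_centralizer_singleton_iff.2
        (congrArg Subtype.val (hFel.1.is_comm.comm (⟨g, hg⟩ : F) ⟨f, hf1⟩))) fun l hl => ?_
      refine Subgroup.mem_centralizer_singleton_iff.2 (commutatorElement_eq_one_iff_mul_comm.1 ?_).symm
      refine Subgroup.mem_bot.1 (hFL ▸ Subgroup.mem_inf.2 ⟨?_, ?_⟩)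
      · rw [commutatorElement_def, mul_assoc f, mul_assoc f]
        exact mul_mem hf1 ((inferInstance : F.Normal).conj_mem _ (inv_mem hf1) l)
      · rw [commutatorElement_def]
        exact mul_mem ((Subgroup.mem_normalizer_iff.1 (hNL hf2) l).1 hl) (inv_mem hl)
    exact Subgroup.mem_centralizer_iff.2 fun g hg => Subgroup.mem_centralizer_singleton_iff.1 (h1 hg)
  have hNmap : N.map π = Hb := by
    refine le_antisymm (hHb ▸ Subgroup.map_mono hNH) ?_
    rw [hHb]
    refine le_trans (Subgroup.map_mono hHFN) ?_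
    rw [Subgroup.map_sup, show F.map π = ⊥ from (Subgroup.map_eq_bot_iff _).2 (by rw [QuotientGroup.ker_mk']), bot_sup_eq]
  have hker : ∀ z ∈ N, π z = 1 → z = 1 := fun z hz h =>
    Subgroup.mem_bot.1 (hFN ▸ Subgroup.mem_inf.2 ⟨(QuotientGroup.eq_one_iff z).1 h, hz⟩)
  have hxN : Subgroup.zpowers x ≤ Subgroup.normalizer (N : Set G) := fun y hy => by
    rw [hN]
    exact Subgroup.inf_normalizer_le_normalizer_inf
      (Subgroup.mem_inf.2 ⟨mem_normalizer_of_normal H y, Subgroup.le_normalizer (hxL hy)⟩)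
  obtain ⟨P, hP, hxP⟩ := Solv.exists_invariant_sylow hxN (hcoX N hNH) (Or.inr (Solv.isSolvable_of_le hNH hs)) p
  have hPp : IsPGroup p P := hP.isPGroup
  have hP1 : P ≠ ⊥ := by
    intro h0
    have hN1 : Nat.card N = F.relIndex H := by
      rw [← Subgroup.relIndex_bot_left, ← hFN, Subgroup.inf_relIndex_right,
        ← Subgroup.relIndex_sup_right, show N ⊔ F = H from le_antisymm (sup_le hNH hFH) (sup_comm F N ▸ hHFN)]
    have h1 := hP.2
    rw [h0, Subgroup.card_bot, eq_comm, Nat.pow_eq_one] at h1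
    rcases h1 with h1 | h1
    · exact hp.out.ne_one h1
    · exact absurd (hN1 ▸ hdvd) (fun h => (hp.out.factorization_pos_of_dvd Nat.card_pos.ne' h).ne' h1)
  have hPL : P ≤ Subgroup.normalizer (L : Set G) := hP.1.trans hNL
  have hPLb : P.map π ⊓ Lb = ⊥ := by
    refine coprime_inf ?_
    obtain ⟨i, hi⟩ := (hPp.map π).exists_card_eq
    rw [hi]; exact hLbp.symm.pow_left i
  have hLF : ∀ g ∈ L, g ∈ Subgroup.centralizer (F : Set G) → g = 1 := fun g hg hc =>
    Subgroup.mem_bot.1 (hFL ▸ Subgroup.mem_inf.2 ⟨hsc (Subgroup.mem_inf.2 ⟨hKH (hLK hg), hc⟩), hg⟩)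
  have hcomm_le : ∀ Q : Subgroup G, x ∈ Subgroup.normalizer (Q : Set G) → ⁅Q, Subgroup.zpowers x⁆ ≤ Q := fun Q hQ =>
    Subgroup.commutator_le.2 fun a ha b hb => by
      rw [commutatorElement_def]
      exact Solv.comm_mem_of_mem_normalizer ((Subgroup.zpowers_le.2 hQ) hb) ha
  by_cases hfix : F ⊓ Subgroup.centralizer {x} = ⊥
  · -- `x` centralizes the complement
    have hxLc : L ≤ Subgroup.centralizer (Subgroup.zpowers x : Set G) := by
      have hdvd' : Nat.card L ∣ Nat.card ↥(L ⊓ Subgroup.centralizer (Subgroup.zpowers x : Set G)) := by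
        rw [← Nat.factorization_prime_le_iff_dvd Nat.card_pos.ne' Nat.card_pos.ne']
        intro q hq
        by_cases hqL : q ∣ Nat.card L
        swap
        · rw [Nat.factorization_eq_zero_of_not_dvd hqL]; exact Nat.zero_le _
        haveI := Fact.mk hq
        obtain ⟨Q, hQ, hQx⟩ := Solv.exists_invariant_sylow hxL (hcoX L (hLK.trans hKH))
          (Or.inr (Solv.isSolvable_of_le hLK hKs)) q
        have hqH : q ∣ Nat.card H := hqL.trans (Subgroup.card_dvd_of_le (hLK.trans hKH))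
        have hq2 : q ≠ 2 := fun h => (Nat.not_even_iff_odd.2 hodd) (even_iff_two_dvd.2 (h ▸ hqH))
        have hqp : q ≠ p := fun h => hp.out.ne_one (Nat.eq_one_of_dvd_coprimes (hLc ▸ hLbp) (h ▸ hqL) dvd_rfl)
        have hqr : q ≠ r := fun h => hr.out.ne_one (Nat.eq_one_of_dvd_coprimes hrH (h ▸ hqH) dvd_rfl)
        have h1 := FPFFit.commutator_le_ker_pgroup (p := r) hq2 hqr hqp hrp.symm F Q hFp hQ.isPGroup x hxr
          (hQx (Subgroup.mem_zpowers x)) hfix
        have hQc : Q ≤ Subgroup.centralizer (Subgroup.zpowers x : Set G) := by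
          rw [← Subgroup.commutator_eq_bot_iff_le_centralizer, eq_bot_iff]
          intro z hz
          exact Subgroup.mem_bot.2 (hLF z (hQ.1 (hcomm_le Q (hQx (Subgroup.mem_zpowers x)) hz)) (h1 hz))
        rw [← hq.pow_dvd_iff_le_factorization Nat.card_pos.ne', ← hQ.2]
        exact Subgroup.card_dvd_of_le (le_inf hQ.1 hQc)
      exact inf_eq_left.1 (Subgroup.eq_of_le_of_card_ge inf_le_left (Nat.le_of_dvd Nat.card_pos hdvd'))
    obtain ⟨X, hX⟩ : ∃ X, X = Subgroup.zpowers x := ⟨_, rfl⟩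
    rw [← hX] at hxLc hxN
    have hNXL : ⁅⁅N, X⁆, L⁆ = ⊥ := by
      refine Subgroup.commutator_commutator_eq_bot_of_rotate ?_ ?_
      · rw [Subgroup.commutator_comm X L, Subgroup.commutator_eq_bot_iff_le_centralizer.2 hxLc, Subgroup.commutator_bot_left]
      · refine le_bot_iff.1 ((Subgroup.commutator_mono (K₁ := L) (Subgroup.commutator_le.2 fun a ha b hb => ?_) le_rfl).trans
          (Subgroup.commutator_eq_bot_iff_le_centralizer.2 hxLc).le)
        rw [commutatorElement_def]
        exact Solv.comm_mem_of_mem_normalizer (hNL hb) ha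
    have hUN : ⁅N, X⁆ ≤ N := Subgroup.commutator_le.2 fun a ha b hb => by
      rw [commutatorElement_def]
      exact Solv.comm_mem_of_mem_normalizer (hxN hb) ha
    have hUL : ⁅N, X⁆ ≤ L := by
      intro u hu
      have h1 : ⁅N, X⁆.map π ≤ Lb := hcLb _ (hNmap ▸ Subgroup.map_mono hUN) (by
        rw [← Subgroup.commutator_eq_bot_iff_le_centralizer, ← hLmap, ← Subgroup.map_commutator, hNXL, Subgroup.map_bot])
      obtain ⟨l, hl, e⟩ := hLmap.ge (h1 ⟨u, hu, rfl⟩)
      have h2 : l⁻¹ * u = 1 := hker _ (mul_mem (inv_mem (hLN hl)) (hUN hu)) (by rw [map_mul, map_inv, e, inv_mul_cancel])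
      rwa [← inv_mul_eq_one.1 h2]
    have hUbot : ⁅N, X⁆ = ⊥ := by
      rw [← Solv.commutator_commutator_eq hxN (hX ▸ hcoX N hNH) (Or.inr (Solv.isSolvable_of_le hNH hs))]
      exact le_bot_iff.1 ((Subgroup.commutator_mono hUL le_rfl).trans
        (Subgroup.commutator_eq_bot_iff_le_centralizer.2 hxLc).le)
    have hNC : N ≤ H ⊓ Subgroup.centralizer {x} := le_inf hNH fun y hy =>
      Subgroup.mem_centralizer_singleton_iff.2 (Subgroup.mem_centralizer_iff.1
        (Subgroup.commutator_eq_bot_iff_le_centralizer.1 hUbot hy) x (hX ▸ Subgroup.mem_zpowers x)).symm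
    haveI : IsZGroup N := isZGroup_of_le hNC
    haveI : IsZGroup Hb := by
      rw [← hNmap]
      exact IsZGroup.of_surjective (f := π.subgroupMap N) (MonoidHom.subgroupMap_surjective π N)
    have hab := commute_of_zgroup Hb (R.map π) (fun y _ => mem_normalizer_of_normal Hb y)
      (by rw [hHb, ← Subgroup.map_commutator, hgen])
    have hPle : P.map π ≤ Hb := hNmap ▸ Subgroup.map_mono hP.1
    have hPbot : P.map π = ⊥ := le_bot_iff.1 (hOx ▸ SSF.le_Ox hPle (fun y hy => by
      refine Subgroup.centralizer_le_normalizer _ (Subgroup.mem_centralizer_iff.2 fun z hz => ?_)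
      exact congrArg Subtype.val (hab.is_comm.comm (⟨z, hPle hz⟩ : Hb) ⟨y, hy⟩)) (hPp.map π))
    refine hP1 ((Subgroup.eq_bot_iff_forall _).2 fun y hy => hker y (hP.1 hy) ?_)
    exact Subgroup.mem_bot.1 (hPbot ▸ ⟨y, hy, rfl⟩)
  · -- `x` has fixed points on `F`
    obtain ⟨d, hd, hd1⟩ := (Subgroup.ne_bot_iff_exists_ne_one.1 hfix : ∃ d : ↥(F ⊓ Subgroup.centralizer {x}), d ≠ 1)
      |> fun ⟨⟨d, hd⟩, h⟩ => (⟨d, hd, fun e => h (Subtype.ext e)⟩ : ∃ d, d ∈ F ⊓ Subgroup.centralizer {x} ∧ d ≠ 1)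
    have hdo : orderOf d = p := orderOf_eq_prime (hFel.2 d hd.1) hd1
    obtain ⟨C, hC⟩ : ∃ C, C = (F ⊔ P) ⊓ Subgroup.centralizer {x} := ⟨_, rfl⟩
    have hCp : IsPGroup p C := by
      have h1 : IsPGroup p ↥(F ⊔ P) := hFp.to_sup_of_normal_left' hPp fun y _ => mem_normalizer_of_normal F y
      exact h1.to_le (hC ▸ inf_le_left)
    have hCc : IsCyclic C := isCyclic_of_pgroup (B := H ⊓ Subgroup.centralizer {x})
      (hC ▸ inf_le_inf_right _ (sup_le hFH (hP.1.trans hNH))) hCp
    have huniq : ∀ b ∈ C, b ^ p = 1 → b ∈ F := fun b hb hbp => by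
      have hd' : d ∈ C := hC ▸ Subgroup.mem_inf.2 ⟨Subgroup.mem_sup_left hd.1, hd.2⟩
      exact Subgroup.zpowers_le.2 hd.1 (Symp.mem_zpowers_of_cyclic hCc hd' hdo hb hbp)
    have hfpf : ∀ y ∈ P, x * y = y * x → y = 1 := by
      intro y hy hxy
      by_contra hy1
      have hoy : p ∣ orderOf y := by
        obtain ⟨i, hi⟩ := IsPGroup.iff_orderOf.1 hPp ⟨y, hy⟩
        rw [Subgroup.orderOf_mk] at hi
        rcases Nat.eq_zero_or_pos i with h0 | h0
        · exact absurd (orderOf_eq_one_iff.1 (by rw [hi, h0, pow_zero])) hy1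
        · exact hi ▸ dvd_pow_self p h0.ne'
      obtain ⟨z, hz⟩ : ∃ z, z = y ^ (orderOf y / p) := ⟨_, rfl⟩
      have hzo : orderOf z = p := by
        rw [hz, orderOf_pow' y (Nat.div_pos (Nat.le_of_dvd (orderOf_pos y) hoy) hp.out.pos).ne',
          Nat.gcd_eq_right (Nat.div_dvd_of_dvd hoy), Nat.div_div_self hoy (orderOf_pos y).ne']
      have hzP : z ∈ P := hz ▸ pow_mem hy _
      have hzC : z ∈ C := hC ▸ Subgroup.mem_inf.2 ⟨Subgroup.mem_sup_right hzP,
        hz ▸ Subgroup.mem_centralizer_singleton_iff.2 ((Commute.pow_left (show Commute y x from hxy.symm) _).eq)⟩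
      have h1 : z = 1 := hker z (hP.1 hzP) ((QuotientGroup.eq_one_iff z).2
        (huniq z hzC (hzo ▸ pow_orderOf_eq_one z)))
      rw [h1, orderOf_one] at hzo
      exact hp.out.ne_one hzo.symm
    have hcard : Nat.card ↥(F ⊓ Subgroup.centralizer {x}) = p := by
      refine le_antisymm ?_ ?_
      · have hle : F ⊓ Subgroup.centralizer {x} ≤ Subgroup.zpowers d := fun b hb =>
          Symp.mem_zpowers_of_cyclic hCc (hC ▸ Subgroup.mem_inf.2 ⟨Subgroup.mem_sup_left hd.1, hd.2⟩) hdo
            (hC ▸ Subgroup.mem_inf.2 ⟨Subgroup.mem_sup_left hb.1, hb.2⟩) (hFel.2 b hb.1)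
        refine (Subgroup.card_le_of_le hle).trans ?_
        rw [Nat.card_zpowers, hdo]
      · have := Nat.le_of_dvd Nat.card_pos (Subgroup.orderOf_dvd_natCard _ hd)
        rwa [hdo] at this
    let FF := AlgebraicClosure (ZMod p)
    haveI : CharP FF p := charP_of_injective_algebraMap (algebraMap (ZMod p) FF).injective p
    obtain ⟨k, ρ, hρker, -, hρfix, -⟩ := CRep.exists_conjRep_norm (⊤ : Subgroup G) F hFel
      (fun g _ => mem_normalizer_of_normal F g) FF
    let ρ' : G →* Module.End FF (Fin k → FF) := ρ.comp Subgroup.topEquiv.symm.toMonoidHom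
    have hker' : ∀ g : G, ρ' g = 1 ↔ g ∈ Subgroup.centralizer (F : Set G) := fun g => hρker (Subgroup.topEquiv.symm g)
    have hcast : ∀ s : ℕ, s.Prime → s ≠ p → (s : FF) ≠ 0 := fun s hs' hsp h => by
      rw [CharP.cast_eq_zero_iff FF p] at h
      exact hsp ((Nat.prime_dvd_prime_iff_eq hp.out hs').1 h).symm
    have hdim : Module.finrank FF (FrobFix.fixS ρ' (Subgroup.zpowers x : Set G)) ≤ 1 := by
      obtain ⟨v, hv⟩ := hρfix (Subgroup.topEquiv.symm x) r (Subtype.ext hxr) hcard
      refine le_trans (Submodule.finrank_mono (t := Submodule.span FF {v}) fun w hw => ?_)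
        ((finrank_span_le_card _).trans (by simp))
      have h1 : ρ' x w = w := FrobFix.mem_fixS.1 hw x (Subgroup.mem_zpowers x)
      have h2 : ∀ i : ℕ, (ρ' x ^ i) w = w := by
        intro i
        induction i with
        | zero => simp
        | succ i ih => rw [pow_succ, Module.End.mul_apply, h1, ih]
      have h3 : (∑ i ∈ Finset.range r, ρ' x ^ i : Module.End FF (Fin k → FF)) w = (r : FF) • w := by
        rw [LinearMap.sum_apply, Finset.sum_congr rfl fun i _ => h2 i, Finset.sum_const, Finset.card_range, Nat.cast_smul_eq_nsmul]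
      have h4 : (r : FF) • w ∈ Submodule.span FF {v} := h3 ▸ hv w
      rw [← inv_smul_smul₀ (hcast r hr.out hrp) w]
      exact Submodule.smul_mem _ _ h4
    have hPc : ∀ q : ℕ, q.Prime → P ≤ Subgroup.centralizer (SSF.Ox q L : Set G) := by
      intro q hq
      haveI := Fact.mk hq
      by_cases hqL : q ∣ Nat.card L
      swap
      · intro y _
        refine Subgroup.mem_centralizer_iff.2 fun v hv => ?_
        obtain ⟨i, hi⟩ := SSF.isPGroup_Ox q L ⟨v, hv⟩
        have h1 : orderOf v ∣ q ^ i := orderOf_dvd_of_pow_eq_one (congrArg Subtype.val hi)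
        rw [orderOf_eq_one_iff.1 (Nat.eq_one_of_dvd_coprimes ((hq.coprime_iff_not_dvd.2 hqL).pow_left i) h1
          (Subgroup.orderOf_dvd_natCard L (SSF.Ox_le q L hv))), one_mul, mul_one]
      have hqH : q ∣ Nat.card H := hqL.trans (Subgroup.card_dvd_of_le (hLK.trans hKH))
      have hq2 : q ≠ 2 := fun h => (Nat.not_even_iff_odd.2 hodd) (even_iff_two_dvd.2 (h ▸ hqH))
      have hqp : q ≠ p := fun h => hp.out.ne_one (Nat.eq_one_of_dvd_coprimes (hLc ▸ hLbp) (h ▸ hqL) dvd_rfl)
      have hqr : q ≠ r := fun h => hr.out.ne_one (Nat.eq_one_of_dvd_coprimes hrH (h ▸ hqH) dvd_rfl)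
      have hcyc : IsCyclic ↥(SSF.Ox q L ⊓ Subgroup.centralizer {x}) :=
        isCyclic_of_pgroup (B := H ⊓ Subgroup.centralizer {x}) (inf_le_inf_right _ ((SSF.Ox_le q L).trans (hLK.trans hKH)))
          ((SSF.isPGroup_Ox q L).to_le inf_le_left)
      have hQP : ⁅SSF.Ox q L, P⁆ = ⊥ := SingleFix.commutator_eq_bot (q := q) hp2 hq2 hr2 hqp hqr (hcast q hq hqp) ρ'
        (SSF.Ox q L) P x (SSF.isPGroup_Ox q L) hPp (fun g hg h => hLF g (SSF.Ox_le q L hg) ((hker' g).1 h)) hxo
        (hPL.trans (SSF.normalizer_le_normalizer_Ox q L))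
        (SSF.normalizer_le_normalizer_Ox q L (hxL (Subgroup.mem_zpowers x))) (hxP (Subgroup.mem_zpowers x)) hfpf hcyc hdim
      rw [← Subgroup.commutator_eq_bot_iff_le_centralizer, Subgroup.commutator_comm]
      exact hQP
    have hLs : Group.IsSolvable L := Solv.isSolvable_of_le hLK hKs
    obtain ⟨U, hU⟩ : ∃ U, U = ⁅L, P⁆ := ⟨_, rfl⟩
    have hUL : U ≤ L := hU ▸ Subgroup.commutator_le.2 fun a ha b hb => by
      rw [commutatorElement_def]
      exact Solv.comm_mem_of_mem_normalizer (hPL hb) ha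
    have hUO : ∀ q : ℕ, q.Prime → U ≤ Subgroup.centralizer (SSF.Ox q L : Set G) := by
      intro q hq
      rw [← Subgroup.commutator_eq_bot_iff_le_centralizer, hU]
      refine Subgroup.commutator_commutator_eq_bot_of_rotate ?_ ?_
      · rw [Subgroup.commutator_eq_bot_iff_le_centralizer.2 (hPc q hq), Subgroup.commutator_bot_left]
      · refine le_bot_iff.1 ((Subgroup.commutator_mono (K₁ := SSF.Ox q L) (Subgroup.commutator_le.2 fun a ha b hb => ?_) le_rfl).trans ?_)
        · rw [commutatorElement_def]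
          exact Solv.comm_mem_of_mem_normalizer (SSF.self_le_normalizer_Ox q L hb) ha
        · rw [Subgroup.commutator_comm, Subgroup.commutator_eq_bot_iff_le_centralizer.2 (hPc q hq)]
    have hUP : U ≤ Subgroup.centralizer (P : Set G) := by
      refine (SSF.le_fitting_of_centralizes hLs hUL hUO).trans ?_
      rw [SSF.map_fitting_eq]
      exact iSup_le fun q y hy => Subgroup.mem_centralizer_iff.2 fun a ha =>
        (Subgroup.mem_centralizer_iff.1 (hPc q q.2 ha) y hy).symm
    have hcoP : (Nat.card P).Coprime (Nat.card L) := by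
      obtain ⟨i, hi⟩ := hPp.exists_card_eq
      rw [hi, hLc]; exact hLbp.symm.pow_left i
    have hUbot : U = ⊥ := by
      rw [hU, ← Solv.commutator_commutator_eq hPL hcoP (Or.inr hLs), ← hU,
        Subgroup.commutator_eq_bot_iff_le_centralizer.2 hUP]
    have hPb : P.map π ≤ Lb := hcLb _ (hNmap ▸ Subgroup.map_mono hP.1) (by
      rw [← Subgroup.commutator_eq_bot_iff_le_centralizer, ← hLmap, ← Subgroup.map_commutator, Subgroup.commutator_comm,
        ← hU, hUbot, Subgroup.map_bot])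
    refine hP1 ((Subgroup.eq_bot_iff_forall _).2 fun y hy => hker y (hP.1 hy) ?_)
    exact Subgroup.mem_bot.1 (hPLb ▸ Subgroup.mem_inf.2 ⟨⟨y, hy, rfl⟩, hPb ⟨y, hy, rfl⟩⟩)

theorem hasPSeries_quotient {G : Type u} [Group G] {p k : ℕ} (H N : Subgroup G) [N.Normal]
    (h : PLen.HasPSeries p k ↥(H.map (QuotientGroup.mk' N))) : PLen.HasPSeries p k (↥H ⧸ N.subgroupOf H) := by
  have hker : N.subgroupOf H = ((QuotientGroup.mk' N).comp H.subtype).ker := by
    ext y
    simp [MonoidHom.mem_ker, Subgroup.mem_subgroupOf, QuotientGroup.eq_one_iff]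
  have hrange : ((QuotientGroup.mk' N).comp H.subtype).range = H.map (QuotientGroup.mk' N) := by
    rw [MonoidHom.range_comp, Subgroup.range_subtype]
  exact hasPSeries_equiv ((QuotientGroup.quotientMulEquivOfEq hker).trans
    ((QuotientGroup.quotientKerEquivRange _).trans (MulEquiv.subgroupCongr hrange))).symm h

/-- The inductive step. -/
theorem core {G : Type u} [Group G] [Finite G] {p r : ℕ} [hp : Fact p.Prime] [hr : Fact r.Prime] (hr2 : r ≠ 2)
    (H R : Subgroup G) [H.Normal] (hodd : Odd (Nat.card H)) (hs : Group.IsSolvable H)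
    (hco : (Nat.card H).Coprime (Nat.card R)) (hgen : ⁅H, R⁆ = H) (x : G) (hxR : x ∈ R) (hxo : orderOf x = r)
    (hZ : IsZGroup ↥(H ⊓ Subgroup.centralizer {x}))
    (IH : ∀ N : Subgroup G, [N.Normal] → N ≤ H → N ≠ ⊥ → PLen.HasPSeries p 1 ↥(H.map (QuotientGroup.mk' N))) :
    PLen.HasPSeries p 1 H := by
  classical
  obtain ⟨O, hO⟩ : ∃ O, O = SSF.Opc p H := ⟨_, rfl⟩
  haveI : O.Normal := by
    rw [hO, ← Subgroup.normalizer_eq_top_iff, eq_top_iff, ← Subgroup.normalizer_eq_top (H := H)]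
    exact SSF.normalizer_le_normalizer_Opc p H
  have hOH : O ≤ H := hO ▸ SSF.Opc_le p H
  by_cases hObot : O = ⊥
  swap
  · refine PLen.HasPSeries.lift_pPrime (O.subgroupOf H) ?_ (hasPSeries_quotient H O (IH O hOH hObot))
    rw [Nat.card_congr (Subgroup.subgroupOfEquivOfLe hOH).toEquiv, hO]
    exact SSF.Opc_coprime p H
  have hOpc : Cfsg.pPrimeCore p H = ⊥ := (Subgroup.map_eq_bot_iff_of_injective _ H.subtype_injective).1 (hO.symm.trans hObot)
  haveI : (Cfsg.pCore p H).Characteristic := Fusion.pCore_characteristic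
  obtain ⟨Φ, hΦ⟩ : ∃ Φ, Φ = (frattini (Cfsg.pCore p H)).map (Cfsg.pCore p H).subtype := ⟨_, rfl⟩
  haveI : Φ.Characteristic := hΦ ▸ inferInstance
  by_cases hΦbot : Φ = ⊥
  swap
  · obtain ⟨N, hN⟩ : ∃ N, N = Φ.map H.subtype := ⟨_, rfl⟩
    haveI : N.Normal := hN ▸ inferInstance
    have hsub : N.subgroupOf H = Φ := by
      rw [hN, Subgroup.subgroupOf, Subgroup.comap_map_eq_self_of_injective H.subtype_injective]
    have h1 := hasPSeries_quotient H N (IH N (hN ▸ Subgroup.map_subtype_le _) (fun h => hΦbot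
      ((Subgroup.map_eq_bot_iff_of_injective _ H.subtype_injective).1 (hN ▸ h))))
    exact frattini_reduction hs hOpc Φ hΦ (hasPSeries_equiv (QuotientGroup.quotientMulEquivOfEq hsub) h1)
  obtain ⟨F, hF⟩ : ∃ F, F = SSF.Ox p H := ⟨_, rfl⟩
  haveI : F.Normal := by
    rw [hF, ← Subgroup.normalizer_eq_top_iff, eq_top_iff, ← Subgroup.normalizer_eq_top (H := H)]
    exact SSF.normalizer_le_normalizer_Ox p H
  have hFH : F ≤ H := hF ▸ SSF.Ox_le p H
  have hFel : Cfsg.IsElementaryAbelian p F := by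
    have hcp : IsPGroup p (Cfsg.pCore p H) := pCore_isPGroup p
    have hfr : ∀ a : Cfsg.pCore p H, a ∈ frattini (Cfsg.pCore p H) → a = 1 := fun a ha => by
      have h1 : (a : H) ∈ Φ := hΦ ▸ ⟨a, ha, rfl⟩
      rw [hΦbot, Subgroup.mem_bot] at h1
      exact Subtype.ext h1
    have hpre : ∀ v ∈ F, ∃ a : Cfsg.pCore p H, ((a : H) : G) = v := fun v hv => by
      rw [hF] at hv
      obtain ⟨a, ha, rfl⟩ := hv
      exact ⟨⟨a, ha⟩, rfl⟩
    refine ⟨⟨⟨fun a b => Subtype.ext ?_⟩⟩, fun v hv => ?_⟩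
    · obtain ⟨s, hs⟩ := hpre a a.2
      obtain ⟨t, ht⟩ := hpre b b.2
      have h1 := hfr _ (commutatorElement_mem_frattini hcp s t)
      rw [commutatorElement_eq_one_iff_mul_comm] at h1
      rw [Subgroup.coe_mul, Subgroup.coe_mul, ← hs, ← ht]
      exact congrArg (fun u : Cfsg.pCore p H => ((u : H) : G)) h1
    · obtain ⟨a, rfl⟩ := hpre v hv
      exact congrArg (fun u : Cfsg.pCore p H => ((u : H) : G)) (hfr _ (pow_mem_frattini hcp a))
  have hFp : IsPGroup p F := hF ▸ SSF.isPGroup_Ox p H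
  have hOxF : ∀ q : ℕ, q.Prime → SSF.Ox q H ≤ F := fun q hq => by
    by_cases hqp : q = p
    · subst hqp; rw [hF]
    · haveI := Fact.mk hq
      refine le_trans (SSF.le_Opc (x := p) (SSF.Ox_le q H) (SSF.self_le_normalizer_Ox q H) ?_) ((hO.symm.trans hObot).le.trans bot_le)
      obtain ⟨i, hi⟩ := (SSF.isPGroup_Ox q H).exists_card_eq
      rw [hi]; exact ((Nat.coprime_primes hq hp.out).2 hqp).pow_left i
  have hsc : H ⊓ Subgroup.centralizer (F : Set G) ≤ F := by
    refine le_trans (SSF.le_fitting_of_centralizes hs inf_le_left fun q hq =>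
      inf_le_right.trans (Subgroup.centralizer_le (SetLike.coe_subset_coe.2 (hOxF q hq)))) ?_
    rw [SSF.map_fitting_eq]
    exact iSup_le fun q => hOxF q q.2
  by_cases hdvd : p ∣ F.relIndex H
  swap
  · refine hasPSeries_of_pgroup (F.subgroupOf H) (hFp.of_equiv (Subgroup.subgroupOfEquivOfLe hFH).symm) ?_
    rw [← Subgroup.index_eq_card]
    exact ((hp.out.coprime_iff_not_dvd).2 hdvd).symm
  by_contra hnot
  refine contra hr2 H R hodd hs hco hgen x hxR hxo hZ F hFH hFel hF.ge hsc hdvd fun K hKn hFK hKH hKp hKF => ?_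
  by_contra hCne
  obtain ⟨C, hC⟩ : ∃ C, C = F ⊓ Subgroup.centralizer (K : Set G) := ⟨_, rfl⟩
  obtain ⟨D, hD⟩ : ∃ D, D = ⁅F, K⁆ := ⟨_, rfl⟩
  haveI : C.Normal := hC ▸ Subgroup.normal_inf_normal F _
  haveI : D.Normal := hD ▸ Subgroup.commutator_normal F K
  rw [← hC] at hCne
  have hDne : D ≠ ⊥ := fun h => by
    rw [hD, Subgroup.commutator_comm, Subgroup.commutator_eq_bot_iff_le_centralizer] at h
    exact hKF (le_antisymm ((le_inf hKH h).trans hsc) hFK)
  have hDF : D ≤ F := hD ▸ Subgroup.commutator_le_left F K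
  have hKs : Group.IsSolvable K := Solv.isSolvable_of_le hKH hs
  have hKc : Nat.card K = F.relIndex K * Nat.card F := by
    have h2 := Subgroup.relIndex_mul_relIndex ⊥ F K bot_le hFK
    rw [Subgroup.relIndex_bot_left, Subgroup.relIndex_bot_left] at h2
    rw [← h2, mul_comm]
  have hcoFK : (F.relIndex K).Coprime (Nat.card F) := by
    obtain ⟨i, hi⟩ := hFp.exists_card_eq
    rw [hi]; exact hKp.pow_right i
  obtain ⟨L₀, hL₀⟩ := Solv.hall_exists hKs hKc hcoFK
  obtain ⟨L, hL⟩ : ∃ L, L = L₀.map K.subtype := ⟨_, rfl⟩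
  have hLK : L ≤ K := hL ▸ Subgroup.map_subtype_le _
  have hLc : Nat.card L = F.relIndex K := by rw [hL, card_map_subtype, hL₀]
  have hFL : F ⊓ L = ⊥ := coprime_inf (by rw [hLc]; exact hcoFK.symm)
  have hFLK : F ⊔ L = K := Subgroup.eq_of_le_of_card_ge (sup_le hFK hLK) (by
    have := card_sup_mul_card_inf F L
    rw [hFL, Subgroup.card_bot, mul_one] at this
    rw [this, hKc, hLc, mul_comm])
  have hDL : D ≤ ⁅F, L⁆ := by
    rw [hD]
    refine Subgroup.commutator_le.2 fun f hf k hk => ?_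
    rw [← hFLK] at hk
    obtain ⟨g, hg, l, hl, rfl⟩ := Subgroup.mem_sup_of_normal_left.1 hk
    have hfl : ⁅f, l⁆ ∈ F := by
      rw [commutatorElement_def, mul_assoc f, mul_assoc f]
      exact mul_mem hf ((inferInstance : F.Normal).conj_mem _ (inv_mem hf) l)
    have e : ⁅f, g * l⁆ = ⁅f, g⁆ * (g * ⁅f, l⁆ * g⁻¹) := by simp [commutatorElement_def, mul_assoc]
    rw [e, commutatorElement_eq_one_iff_mul_comm.2 (congrArg Subtype.val (hFel.1.is_comm.comm (⟨f, hf⟩ : F) ⟨g, hg⟩)),
      one_mul, show g * ⁅f, l⁆ = ⁅f, l⁆ * g from congrArg Subtype.val (hFel.1.is_comm.comm (⟨g, hg⟩ : F) ⟨_, hfl⟩),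
      mul_inv_cancel_right]
    exact Subgroup.commutator_mem_commutator hf hl
  have hdis : C ⊓ D = ⊥ := by
    rw [eq_bot_iff, ← commutator_inf_centralizer F L hFel.1 (fun y _ => mem_normalizer_of_normal F y)
      (hLc ▸ hcoFK)]
    refine le_inf (inf_le_right.trans hDL) (inf_le_left.trans (hC ▸ inf_le_right.trans ?_))
    exact Subgroup.centralizer_le (SetLike.coe_subset_coe.2 hLK)
  refine hnot (hasPSeries_equiv ?_ (PLen.HasPSeries.of_two (C.subgroupOf H) (D.subgroupOf H)
    (hasPSeries_quotient H C (IH C (hC ▸ inf_le_left.trans hFH) hCne))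
    (hasPSeries_quotient H D (IH D (hDF.trans hFH) hDne))))
  have e : C.subgroupOf H ⊓ D.subgroupOf H = ⊥ := by
    rw [eq_bot_iff]
    intro y hy
    refine Subgroup.mem_bot.2 (Subtype.ext (Subgroup.mem_bot.1 (hdis ▸ Subgroup.mem_inf.2
      ⟨(Subgroup.mem_inf.1 hy).1, (Subgroup.mem_inf.1 hy).2⟩)))
  exact (QuotientGroup.quotientMulEquivOfEq e).trans QuotientGroup.quotientBot

theorem pLength_aux {p r : ℕ} [hp : Fact p.Prime] [hr : Fact r.Prime] (hr2 : r ≠ 2) :
    ∀ (n : ℕ) {G : Type u} [Group G] [Finite G] (H R : Subgroup G), Nat.card H < n → Odd (Nat.card H) →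
      Group.IsSolvable H → R ≤ Subgroup.normalizer (H : Set G) → (Nat.card H).Coprime (Nat.card R) →
      ∀ x ∈ R, orderOf x = r → IsZGroup ↥(H ⊓ Subgroup.centralizer {x}) → PLen.HasPSeries p 1 ↥⁅H, R⁆ := by
  intro n
  induction n with
  | zero => intro G _ _ H R h; exact absurd h (Nat.not_lt_zero _)
  | succ n ih =>
    intro G _ _ H R hn hodd hs hRn hco x hxR hxo hZ
    have hKH : ⁅H, R⁆ ≤ H := Subgroup.commutator_le.2 fun a ha b hb => by
      rw [commutatorElement_def]
      exact Solv.comm_mem_of_mem_normalizer (hRn hb) ha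
    by_cases hlt : ⁅H, R⁆ = H
    swap
    · have hlt' : Nat.card ↥⁅H, R⁆ < Nat.card H := card_lt_of_lt (lt_of_le_of_ne hKH hlt)
      haveI : IsZGroup ↥(H ⊓ Subgroup.centralizer {x}) := hZ
      have h1 := ih (⁅H, R⁆) R (by omega) (hodd.of_dvd_nat (Subgroup.card_dvd_of_le hKH))
        (Solv.isSolvable_of_le hKH hs) (fun y hy => SingleFix.mem_normalizer_commutator (hRn hy) (Subgroup.le_normalizer hy))
        (hco.coprime_dvd_left (Subgroup.card_dvd_of_le hKH)) x hxR hxo (isZGroup_of_le (inf_le_inf_right _ hKH))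
      rwa [Solv.commutator_commutator_eq hRn hco.symm (Or.inr hs)] at h1
    rw [hlt]
    obtain ⟨Y, hY⟩ : ∃ Y, Y = H ⊔ R := ⟨_, rfl⟩
    have hHY : H ≤ Y := hY ▸ le_sup_left
    have hRY : R ≤ Y := hY ▸ le_sup_right
    haveI : (H.subgroupOf Y).Normal := Subgroup.normal_subgroupOf_of_le_normalizer
      (hY ▸ sup_le Subgroup.le_normalizer hRn)
    have hcard : ∀ A : Subgroup G, A ≤ Y → Nat.card (A.subgroupOf Y) = Nat.card A := fun A hA => card_subgroupOf hA
    have hgen : ⁅H.subgroupOf Y, R.subgroupOf Y⁆ = H.subgroupOf Y := by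
      apply Subgroup.map_injective Y.subtype_injective
      rw [Subgroup.map_commutator, Subgroup.map_subgroupOf_eq_of_le hHY, Subgroup.map_subgroupOf_eq_of_le hRY, hlt]
    have hsY : Group.IsSolvable (H.subgroupOf Y) := Solv.isSolvable_subgroupOf hHY hs
    have hcoY : (Nat.card (H.subgroupOf Y)).Coprime (Nat.card (R.subgroupOf Y)) := by rw [hcard H hHY, hcard R hRY]; exact hco
    obtain ⟨x', hx'⟩ : ∃ x' : Y, (x' : G) = x := ⟨⟨x, hRY hxR⟩, rfl⟩
    have hx'R : x' ∈ R.subgroupOf Y := by rw [Subgroup.mem_subgroupOf, hx']; exact hxR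
    have hx'o : orderOf x' = r := by rw [← hxo, ← hx', Subgroup.orderOf_coe]
    haveI : IsZGroup ↥(H ⊓ Subgroup.centralizer {x}) := hZ
    have hZY : IsZGroup ↥(H.subgroupOf Y ⊓ Subgroup.centralizer {x'}) := by
      refine IsZGroup.of_injective (G' := ↥(H ⊓ Subgroup.centralizer {x}))
        (f := { toFun := fun y => ⟨((y : Y) : G), Subgroup.mem_inf.2 ⟨(Subgroup.mem_inf.1 y.2).1,
                  Subgroup.mem_centralizer_singleton_iff.2 (hx' ▸ congrArg Subtype.val
                    (Subgroup.mem_centralizer_singleton_iff.1 (Subgroup.mem_inf.1 y.2).2))⟩⟩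
                map_one' := rfl, map_mul' := fun _ _ => rfl }) fun a b h => ?_
      exact Subtype.ext (Subtype.ext (congrArg (fun t : ↥(H ⊓ Subgroup.centralizer {x}) => (t : G)) h))
    have h1 := core (p := p) hr2 (H.subgroupOf Y) (R.subgroupOf Y) (by rw [hcard H hHY]; exact hodd) hsY hcoY hgen
      x' hx'R hx'o hZY fun N hNn hNH hNne => by
        obtain ⟨π, hπ⟩ : ∃ π, π = QuotientGroup.mk' N := ⟨_, rfl⟩
        rw [← hπ]
        have hsurj : Function.Surjective π := hπ ▸ QuotientGroup.mk'_surjective N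
        have hkerπ : π.ker = N := hπ ▸ QuotientGroup.ker_mk' N
        have hlt2 : Nat.card ((H.subgroupOf Y).map π) < Nat.card H := by
          rw [← hcard H hHY]
          refine lt_of_le_of_ne (Nat.le_of_dvd Nat.card_pos (Subgroup.card_map_dvd _ _)) fun h => hNne ?_
          have h2 := card_map_mul_card_inf_ker π (H.subgroupOf Y)
          rw [h, hkerπ, inf_eq_left.2 hNH] at h2
          exact Subgroup.card_eq_one.1 ((mul_eq_left₀ Nat.card_pos.ne').1 h2)
        haveI : ((H.subgroupOf Y).map π).Normal := Subgroup.Normal.map inferInstance π hsurj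
        have hxo' : orderOf (π x') = r := by
          refine orderOf_eq_prime (by rw [← map_pow, ← hx'o, pow_orderOf_eq_one, map_one]) fun h => ?_
          have h3 : x' ∈ H.subgroupOf Y := hNH (hkerπ ▸ h)
          have h4 : orderOf x' = 1 := Nat.eq_one_of_dvd_coprimes hcoY (Subgroup.orderOf_dvd_natCard _ h3)
            (Subgroup.orderOf_dvd_natCard _ hx'R)
          exact hr.out.ne_one (hx'o.symm.trans h4)
        have hfix : (H.subgroupOf Y).map π ⊓ Subgroup.centralizer {π x'} ≤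
            (H.subgroupOf Y ⊓ Subgroup.centralizer {x'}).map π := by
          rintro _ ⟨⟨h, hh, rfl⟩, hhc⟩
          have hcoA : (Nat.card (Subgroup.zpowers x')).Coprime (Nat.card (H.subgroupOf Y)) := by
            rw [Nat.card_zpowers]
            exact hcoY.symm.coprime_dvd_left (Subgroup.orderOf_dvd_natCard _ hx'R)
          have hmove : ∀ a ∈ Subgroup.zpowers x', h⁻¹ * (a * h * a⁻¹) ∈ N := by
            intro a ha
            obtain ⟨i, rfl⟩ := Subgroup.mem_zpowers_iff.1 ha
            have hc : Commute (π x' ^ i) (π h) :=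
              (show Commute (π x') (π h) from (Subgroup.mem_centralizer_singleton_iff.1 hhc).symm).zpow_left i
            rw [← hkerπ, MonoidHom.mem_ker, map_mul, map_mul, map_mul, map_inv, map_inv, map_zpow, hc.eq]
            group
          obtain ⟨d, hd, hdn⟩ := Solv.exists_fixed_in_coset (Subgroup.zpowers x') N (fun y _ => mem_normalizer_of_normal N y)
            (hcoA.coprime_dvd_right (Subgroup.card_dvd_of_le hNH))
            (Or.inr (Solv.isSolvable_of_le hNH hsY)) hmove
          have hhd : h * d ∈ H.subgroupOf Y := mul_mem hh (hNH hd)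
          have hcd := Solv.centralizer_of_normalizes (A := Subgroup.zpowers x') (K := H.subgroupOf Y)
            (fun y _ => mem_normalizer_of_normal _ y) (coprime_inf hcoA.symm) hhd hdn
          refine ⟨h * d, Subgroup.mem_inf.2 ⟨hhd, Subgroup.mem_centralizer_singleton_iff.2
            (Subgroup.mem_centralizer_iff.1 hcd x' (Subgroup.mem_zpowers x')).symm⟩, ?_⟩
          rw [map_mul, show π d = 1 from (hkerπ.symm ▸ hd : d ∈ π.ker), mul_one]
        haveI := hZY
        haveI : IsZGroup ↥((H.subgroupOf Y ⊓ Subgroup.centralizer {x'}).map π) :=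
          IsZGroup.of_surjective (f := π.subgroupMap _) (MonoidHom.subgroupMap_surjective π _)
        have h5 := ih ((H.subgroupOf Y).map π) ((R.subgroupOf Y).map π) (by omega)
          ((hodd.of_dvd_nat (by rw [← hcard H hHY]; exact Subgroup.card_map_dvd _ _)))
          (Solv.isSolvable_map π hsY) (fun y _ => mem_normalizer_of_normal _ y)
          ((hcoY.coprime_dvd_left (Subgroup.card_map_dvd _ _)).coprime_dvd_right (Subgroup.card_map_dvd _ _))
          (π x') ⟨x', hx'R, rfl⟩ hxo' (isZGroup_of_le hfix)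
        rwa [← Subgroup.map_commutator, hgen] at h5
    exact hasPSeries_equiv (Subgroup.subgroupOfEquivOfLe hHY) h1

end Cfsg.Agent.Solv.PLenFix
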