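import Cfsg.Agent.Lib.Solv.HallHigman
import Cfsg.Agent.Lib.Solv.PGroupPhi

/-!
Automorphisms of `p`-groups with Frattini quotient of order at most `p ^ 2`.
-/

set_option autoImplicit false
set_option linter.style.haveILetI false

namespace Cfsg.Agent.Solv

open scoped commutatorElement

/-- A group of order `p ^ e`, `e ≤ 2`, has no automorphism whose order has a prime divisor prime to
`p (p ^ 2 - 1)`. -/
theorem mulAut_eq_one_of_small {E : Type*} [Group E] [Finite E] {p : ℕ} [Fact p.Prime]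
    (hE : IsPGroup p E) (hcard : Nat.card E ≤ p ^ 2) (β : MulAut E)
    (hβ : ∀ r : ℕ, r.Prime → r ∣ orderOf β → r ≠ p ∧ ¬ r ∣ p ^ 2 - 1) : β = 1 := by
  classical
  have hp : p.Prime := Fact.out
  by_contra hne
  have ho : orderOf β ≠ 1 := fun h => hne (orderOf_eq_one_iff.1 h)
  obtain ⟨r, hr, hrd⟩ := Nat.exists_prime_and_dvd ho
  haveI := Fact.mk hr
  obtain ⟨hrp, hr2⟩ := hβ r hr hrd
  obtain ⟨γ, hγ⟩ : ∃ γ, γ = β ^ (orderOf β / r) := ⟨_, rfl⟩
  have hγo : orderOf γ = r := by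
    rw [hγ]; exact orderOf_pow_orderOf_div (orderOf_pos β).ne' hrd
  have hA : IsPGroup r (Subgroup.zpowers γ) :=
    IsPGroup.of_card (n := 1) (by rw [Nat.card_zpowers, hγo, pow_one])
  have hmod := hA.card_modEq_card_fixedPoints E
  obtain ⟨F, hF⟩ : ∃ F, F = γ.toMonoidHom.eqLocus (MonoidHom.id E) := ⟨_, rfl⟩
  have hfix : Nat.card (MulAction.fixedPoints (Subgroup.zpowers γ) E) = Nat.card F := by
    refine Nat.card_congr (Equiv.subtypeEquivRight fun v => ?_)
    rw [hF]
    refine ⟨fun h => h ⟨γ, Subgroup.mem_zpowers γ⟩, fun h a => ?_⟩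
    have hsub : Subgroup.zpowers γ ≤ MulAction.stabilizer (MulAut E) v := Subgroup.zpowers_le.2 h
    exact hsub a.2
  obtain ⟨e, he⟩ := hE.exists_card_eq
  obtain ⟨f, hf⟩ := (hE.to_subgroup F).exists_card_eq
  have hFne : F ≠ ⊤ := by
    intro h
    have h1 : γ = 1 := MulEquiv.ext fun v => by
      have hv : v ∈ F := h ▸ Subgroup.mem_top v
      rw [hF] at hv
      exact hv
    rw [h1, orderOf_one] at hγo
    exact hr.one_lt.ne hγo
  have hfe : f < e := by
    by_contra h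
    exact hFne (Subgroup.eq_top_of_le_card F (by
      rw [he, hf]; exact Nat.pow_le_pow_right hp.pos (not_lt.1 h)))
  rw [he] at hcard hmod
  rw [hfix, hf] at hmod
  have he2 : e ≤ 2 := (Nat.pow_le_pow_iff_right hp.one_lt).1 hcard
  obtain ⟨d, rfl⟩ := Nat.exists_eq_add_of_le hfe.le
  have hd : p ^ d ≡ 1 [MOD r] := by
    refine Nat.ModEq.cancel_left_of_coprime (c := p ^ f) ?_ (by rw [← pow_add, mul_one]; exact hmod)
    exact Nat.Coprime.pow_right _ ((Nat.coprime_primes hr hp).2 hrp)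
  have hd' : r ∣ p ^ d - 1 := (Nat.modEq_iff_dvd' (Nat.one_le_pow _ _ hp.pos)).1 hd.symm
  refine hr2 (hd'.trans ?_)
  rcases (show d = 1 ∨ d = 2 by omega) with rfl | rfl
  · have h12 := Nat.sq_sub_sq p 1
    rw [one_pow] at h12
    exact h12 ▸ Dvd.intro_left (p + 1) (by rw [pow_one])
  · exact dvd_rfl

/-- An element normalizing a `p`-subgroup `Q` with `|Q / Φ(Q)| ≤ p ^ 2` centralizes it if its order
is prime to `p (p ^ 2 - 1)`. -/
theorem centralizes_of_small_frattini {G : Type*} [Group G] [Finite G] {p : ℕ} [Fact p.Prime]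
    (Q : Subgroup G) (hQ : IsPGroup p Q) (hsmall : Nat.card (↥Q ⧸ frattini ↥Q) ≤ p ^ 2) (g : G)
    (hg : g ∈ Subgroup.normalizer (Q : Set G))
    (hord : ∀ r : ℕ, r.Prime → r ∣ orderOf g → r ≠ p ∧ ¬ r ∣ p ^ 2 - 1) :
    g ∈ Subgroup.centralizer (Q : Set G) := by
  have hp : p.Prime := Fact.out
  obtain ⟨gi, hgi⟩ : ∃ gi : Subgroup.normalizer (Q : Set G), gi = ⟨g, hg⟩ := ⟨_, rfl⟩
  obtain ⟨α, hα⟩ : ∃ α, α = Subgroup.normalizerMonoidHom Q gi := ⟨_, rfl⟩
  have hmap : (frattini ↥Q).map (α : ↥Q →* ↥Q) = frattini ↥Q :=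
    Subgroup.characteristic_iff_map_eq.1 inferInstance α
  obtain ⟨β, hβ⟩ : ∃ β, β = QuotientGroup.congr (frattini ↥Q) (frattini ↥Q) α hmap := ⟨_, rfl⟩
  have hmk : ∀ (n : ℕ) (x : Q), (β ^ n) (x : ↥Q ⧸ frattini ↥Q) = (((α ^ n) x : Q) : ↥Q ⧸ frattini ↥Q) := by
    intro n
    induction n with
    | zero => intro x; rfl
    | succ n ih => intro x; rw [pow_succ, pow_succ, MulAut.mul_apply, MulAut.mul_apply, hβ,
        QuotientGroup.congr_mk, ← hβ, ih]
  have hαo : orderOf α ∣ orderOf g := by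
    refine orderOf_dvd_of_pow_eq_one ?_
    rw [hα, ← map_pow]
    have : gi ^ orderOf g = 1 := Subtype.ext (by
      rw [SubmonoidClass.coe_pow, hgi, pow_orderOf_eq_one]; rfl)
    rw [this, map_one]
  have hβo : orderOf β ∣ orderOf g := (orderOf_dvd_of_pow_eq_one (MulEquiv.ext fun y => by
    induction y using QuotientGroup.induction_on with | _ x
    rw [hmk, pow_orderOf_eq_one]; rfl)).trans hαo
  have hβ1 : β = 1 := mulAut_eq_one_of_small (hQ.to_quotient _) hsmall β
    fun r hr hrd => hord r hr (hrd.trans hβo)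
  refine centralizes_of_frattini Q hQ g hg ?_ fun x hx => ?_
  · exact Nat.coprime_of_dvd fun r hr h1 h2 => (hord r hr h1).1 ((Nat.prime_dvd_prime_iff_eq hr hp).1 h2)
  · -- `x⁻¹ g⁻¹ x g` lies in the Frattini subgroup
    obtain ⟨y, hy⟩ : ∃ y, y = α ⟨x⁻¹, Q.inv_mem hx⟩ := ⟨_, rfl⟩
    have h1 := hmk 1 ⟨x⁻¹, Q.inv_mem hx⟩
    rw [pow_one, pow_one, ← hy, hβ1, MulAut.one_apply, QuotientGroup.eq] at h1
    refine ⟨_, h1, ?_⟩
    rw [hy, hα, hgi]
    show (x⁻¹)⁻¹ * (g * x⁻¹ * g⁻¹) = ⁅x, g⁆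
    rw [commutatorElement_def]; group

theorem card_frattini_quot_le_of_two_gen {Q : Type*} [Group Q] [Finite Q] {p : ℕ} [Fact p.Prime]
    (hQ : IsPGroup p Q) (S : Finset Q) (hS : S.card ≤ 2) (hgen : Subgroup.closure (S : Set Q) = ⊤) :
    Nat.card (Q ⧸ frattini Q) ≤ p ^ 2 := by
  classical
  have hp : p.Prime := Fact.out
  have hcomm := quotient_mul_comm (frattini Q) (commutatorElement_mem_frattini hQ)
  letI : CommGroup (Q ⧸ frattini Q) := { (inferInstance : Group (Q ⧸ frattini Q)) with mul_comm := hcomm }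
  have hexp : ∀ y : Q ⧸ frattini Q, y ^ p = 1 := fun y => by
    induction y using QuotientGroup.induction_on with | _ x
    exact (QuotientGroup.eq_one_iff _).2 (pow_mem_frattini hQ x)
  have key : ∀ T : Finset Q, Nat.card (Subgroup.closure (QuotientGroup.mk '' (T : Set Q)) :
      Subgroup (Q ⧸ frattini Q)) ≤ p ^ T.card := by
    intro T
    induction T using Finset.induction_on with
    | empty => simp
    | insert a T ha ih =>
      rw [Finset.coe_insert, Set.image_insert_eq, Set.insert_eq, Subgroup.closure_union,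
        Finset.card_insert_of_notMem ha, pow_succ', ← Subgroup.zpowers_eq_closure]
      refine (Nat.le_of_dvd (Nat.mul_pos Nat.card_pos Nat.card_pos) (card_sup_dvd _ _)).trans
        (Nat.mul_le_mul ?_ ih)
      rw [Nat.card_zpowers]
      exact Nat.le_of_dvd hp.pos (orderOf_dvd_of_pow_eq_one (hexp _))
  have htop : (Subgroup.closure (QuotientGroup.mk '' (S : Set Q)) : Subgroup (Q ⧸ frattini Q)) = ⊤ := by
    have := congrArg (Subgroup.map (QuotientGroup.mk' (frattini Q))) hgen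
    rwa [MonoidHom.map_closure, Subgroup.map_top_of_surjective _ (QuotientGroup.mk'_surjective _)] at this
  have := key S
  rw [htop, Subgroup.card_top] at this
  exact this.trans (Nat.pow_le_pow_right hp.pos hS)

/-- A cyclic subgroup of index at most `p` forces two generators. -/
theorem card_frattini_quot_le_of_cyclic_index {Q : Type*} [Group Q] [Finite Q] {p : ℕ} [Fact p.Prime]
    (hQ : IsPGroup p Q) (c : Q) (hc : (Subgroup.zpowers c).index ≤ p) :
    Nat.card (Q ⧸ frattini Q) ≤ p ^ 2 := by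
  have hp : p.Prime := Fact.out
  obtain ⟨π, hπ⟩ : ∃ π, π = QuotientGroup.mk' (frattini Q) := ⟨_, rfl⟩
  have hle := Subgroup.index_map_dvd (H := Subgroup.zpowers c) (f := π)
    (hπ ▸ QuotientGroup.mk'_surjective _)
  have h1 : Nat.card ((Subgroup.zpowers c).map π) ≤ p := by
    rw [MonoidHom.map_zpowers, Nat.card_zpowers]
    refine Nat.le_of_dvd hp.pos (orderOf_dvd_of_pow_eq_one ?_)
    rw [← map_pow, hπ]
    exact (QuotientGroup.eq_one_iff _).2 (pow_mem_frattini hQ c)
  rw [← Subgroup.card_mul_index ((Subgroup.zpowers c).map π), sq]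
  exact Nat.mul_le_mul h1 ((Nat.le_of_dvd (Nat.pos_of_ne_zero Subgroup.index_ne_zero_of_finite) hle).trans hc)

end Cfsg.Agent.Solv
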