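import Mathlib
import Cfsg.Agent.Lib.Solv.Basic

/-!
Solvable subgroups of odd order of `GL₂(p)`: the derived subgroup is a `p`-group.
-/

set_option autoImplicit false
set_option linter.style.haveILetI false

namespace Cfsg.Agent.Solv.GL2Odd

open scoped commutatorElement

variable {p : ℕ} [hp : Fact p.Prime]
variable {G : Type*} [Group G] [Finite G]
variable {V : Type*} [AddCommGroup V] [Module (ZMod p) V]

/-- A scalar commutes with everything. -/
theorem commute_of_scalar {σ : G →* Module.End (ZMod p) V} (hσ : Function.Injective σ) {b : G}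
    (hb : ∃ r : ZMod p, σ b = r • 1) (g : G) : Commute g b := by
  obtain ⟨r, hr⟩ := hb
  refine hσ ?_
  rw [map_mul, map_mul, hr, smul_mul_assoc, mul_smul_comm, one_mul, mul_one]

/-- In dimension two the centralizer of a non-scalar is the algebra it generates. -/
theorem eq_add_smul (h2 : Module.finrank (ZMod p) V = 2) {B C : Module.End (ZMod p) V} {v : V}
    (hli : LinearIndependent (ZMod p) ![v, B v]) (hc : Commute C B) :
    ∃ u w : ZMod p, C = u • 1 + w • B := by
  have hspan := hli.span_eq_top_of_card_eq_finrank (by simp [h2])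
  have hmem : C v ∈ Submodule.span (ZMod p) (Set.range ![v, B v]) := hspan ▸ Submodule.mem_top
  rw [Matrix.range_cons, Matrix.range_cons, Matrix.range_empty, Set.union_empty, Set.singleton_union,
    Submodule.mem_span_pair] at hmem
  obtain ⟨u, w, huw⟩ := hmem
  refine ⟨u, w, LinearMap.ext_on_range hspan fun i => ?_⟩
  fin_cases i
  · simp [huw]
  · show C (B v) = _
    rw [← Module.End.mul_apply, hc.eq, Module.End.mul_apply, ← huw]
    simp

theorem eq_zero_of_pair {v w : V} (hli : LinearIndependent (ZMod p) ![v, w]) {x y : ZMod p}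
    (h : x • v + y • w = 0) : x = 0 ∧ y = 0 := LinearIndependent.pair_iff.1 hli x y h

/-- An element of odd order which maps a semisimple non-scalar into its centralizer commutes with it. -/
theorem commute_of_conj {σ : G →* Module.End (ZMod p) V} (hσ : Function.Injective σ)
    (h2 : Module.finrank (ZMod p) V = 2) (hp2 : p ≠ 2) {a b : G} (ha : Odd (orderOf a))
    (hb : (orderOf b).Coprime p) (hc : Commute (a * b * a⁻¹) b) : Commute a b := by
  by_cases hs : ∃ r : ZMod p, σ b = r • 1
  · exact commute_of_scalar hσ hs a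
  haveI : Module.Finite (ZMod p) V := Module.finite_of_finrank_eq_succ h2
  obtain ⟨v, hli⟩ : ∃ v, LinearIndependent (ZMod p) ![v, σ b v] := by
    by_contra h
    push Not at h
    exact hs (LinearMap.exists_eq_smul_id_of_forall_notLinearIndependent h)
  obtain ⟨d₀, t, hq⟩ := eq_add_smul h2 hli (Commute.mul_left (Commute.refl (σ b)) (Commute.refl (σ b)))
  obtain ⟨u, w, hcb⟩ := eq_add_smul h2 hli (hc.map σ)
  have hap : σ a * σ a⁻¹ = 1 := by rw [← map_mul, mul_inv_cancel, map_one]
  have hap' : σ a⁻¹ * σ a = 1 := by rw [← map_mul, inv_mul_cancel, map_one]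
  have hconj : σ (a * b * a⁻¹) * σ (a * b * a⁻¹) = d₀ • 1 + t • σ (a * b * a⁻¹) := by
    have e : σ (a * b * a⁻¹) * σ (a * b * a⁻¹) = σ a * (σ b * σ b) * σ a⁻¹ := by
      simp only [← map_mul]; congr 1; group
    rw [e, hq, mul_add, add_mul, mul_smul_comm, smul_mul_assoc, mul_one, hap, mul_smul_comm, smul_mul_assoc,
      map_mul, map_mul]
  rw [hcb] at hconj
  have hv := LinearMap.congr_fun hconj v
  have hbb : σ b (σ b v) = d₀ • v + t • σ b v := by
    have := LinearMap.congr_fun hq v
    simpa using this
  simp only [Module.End.mul_apply, LinearMap.add_apply, LinearMap.smul_apply, Module.End.one_apply, map_add,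
    map_smul, hbb] at hv
  obtain ⟨e0, e1⟩ := eq_zero_of_pair hli (x := u * u + w * (w * d₀) - d₀ - t * u)
    (y := 2 * (u * w) + w * (w * t) - t * w) (by
      linear_combination (norm := module) hv)
  have hw : w ≠ 0 := fun h0 => hs ⟨u, by
    have e : σ b = σ a⁻¹ * σ (a * b * a⁻¹) * σ a := by rw [← map_mul, ← map_mul]; congr 1; group
    rw [e, hcb, h0, zero_smul, add_zero, mul_smul_comm, mul_one, smul_mul_assoc, hap']⟩
  have h20 : (2 : ZMod p) ≠ 0 := fun h => hp2 ((Nat.prime_dvd_prime_iff_eq hp.out Nat.prime_two).1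
    ((ZMod.natCast_eq_zero_iff 2 p).1 (by exact_mod_cast h)))
  have hu : 2 * u = t * (1 - w) := mul_left_cancel₀ hw (by linear_combination e1)
  have hprod : (1 - w) * (1 + w) * (4 * d₀ + t * t) = 0 := by
    linear_combination (-4) * e0 + (2 * u - t - t * w) * hu
  have hdisc : 4 * d₀ + t * t ≠ 0 := by
    intro hd
    obtain ⟨l, hl⟩ : ∃ l : ZMod p, 2 * l = t := ⟨t / 2, by field_simp⟩
    obtain ⟨m, hm⟩ : ∃ m, m = orderOf b := ⟨_, rfl⟩
    obtain ⟨k, rfl⟩ : ∃ k, m = k + 1 := ⟨m - 1, by have := orderOf_pos b; omega⟩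
    obtain ⟨N, hN⟩ : ∃ N, N = σ b - l • 1 := ⟨_, rfl⟩
    have hd0 : d₀ = - (l * l) := mul_left_cancel₀ (mul_ne_zero h20 h20) (by
      rw [← hl] at hd; linear_combination hd)
    have hN2 : N * N = 0 := by
      rw [hN, sub_mul, mul_sub, hq, hd0, ← hl]
      simp only [mul_smul_comm, smul_mul_assoc, mul_one, one_mul]
      module
    have hpow : ∀ n : ℕ, σ b ^ (n + 1) = l ^ (n + 1) • 1 + (((n + 1 : ℕ) : ZMod p) * l ^ n) • N := by
      intro n
      induction n with
      | zero => simp [hN]
      | succ n ih =>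
        rw [pow_succ, ih, show σ b = l • 1 + N by rw [hN]; abel, add_mul, mul_add, mul_add]
        simp only [mul_smul_comm, smul_mul_assoc, mul_one, one_mul, hN2, smul_zero, add_zero]
        push_cast
        module
    have h1 : (1 : Module.End (ZMod p) V) = l ^ (k + 1) • 1 + (((k + 1 : ℕ) : ZMod p) * l ^ k) • N := by
      rw [← hpow, ← map_pow, hm, pow_orderOf_eq_one, map_one]
    have h1v := LinearMap.congr_fun h1 v
    rw [hN] at h1v
    simp only [LinearMap.add_apply, LinearMap.smul_apply, LinearMap.sub_apply, Module.End.one_apply] at h1v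
    obtain ⟨f0, f1⟩ := eq_zero_of_pair hli (x := l ^ (k + 1) - (((k + 1 : ℕ) : ZMod p) * l ^ k) * l - 1)
      (y := ((k + 1 : ℕ) : ZMod p) * l ^ k) (by linear_combination (norm := module) (-1 : ℤ) • h1v)
    rw [f1, zero_mul, sub_zero, sub_eq_zero] at f0
    rcases mul_eq_zero.1 f1 with h | h
    · rw [ZMod.natCast_eq_zero_iff, hm] at h
      exact (hp.out.coprime_iff_not_dvd.1 hb.symm) h
    · rw [pow_succ, h, zero_mul] at f0
      exact zero_ne_one f0
  rcases mul_eq_zero.1 ((mul_eq_zero.1 hprod).resolve_right hdisc) with h | h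
  · have hw1 : w = 1 := (sub_eq_zero.1 h).symm
    have hu0 : u = 0 := by
      rw [hw1, sub_self, mul_zero] at hu
      exact (mul_eq_zero.1 hu).resolve_left h20
    rw [hw1, hu0, zero_smul, one_smul, zero_add] at hcb
    exact mul_inv_eq_iff_eq_mul.1 (hσ hcb)
  · have hw1 : w = -1 := eq_neg_of_add_eq_zero_right h
    have hu0 : u = t := mul_left_cancel₀ h20 (by rw [hu, hw1]; ring)
    have hsq : σ a * σ (a * b * a⁻¹) * σ a⁻¹ = σ b := by
      rw [hcb, mul_add, add_mul, mul_smul_comm, smul_mul_assoc, mul_one, hap, mul_smul_comm, smul_mul_assoc,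
        ← map_mul, ← map_mul, hcb, hw1, hu0]
      module
    rw [← map_mul, ← map_mul] at hsq
    have hc2 : Commute (a ^ 2) b := by
      rw [pow_two]
      have h3 := hσ hsq
      refine mul_inv_eq_iff_eq_mul.1 (?_ : a * a * b * (a * a)⁻¹ = b)
      calc a * a * b * (a * a)⁻¹ = a * (a * b * a⁻¹) * a⁻¹ := by group
        _ = b := h3
    obtain ⟨j, hj⟩ := ha
    have e : a = (a ^ 2) ^ (j + 1) := by
      rw [← pow_mul, show 2 * (j + 1) = orderOf a + 1 by omega, pow_succ, pow_orderOf_eq_one, one_mul]
    rw [e]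
    exact hc2.pow_left _

/-- The derived subgroup of a solvable group of odd order in `GL₂(p)` is a `p`-group. -/
theorem commutator_isPGroup [Group.IsSolvable G] (hodd : Odd (Nat.card G)) (hp2 : p ≠ 2)
    [Finite V] (hV : Nat.card V ≤ p ^ 2) (σ : G →* Module.End (ZMod p) V) (hσ : Function.Injective σ) :
    IsPGroup p (commutator G) := by
  classical
  haveI : Module.Finite (ZMod p) V := Module.Finite.of_finite
  have hcard : Nat.card V = p ^ Module.finrank (ZMod p) V := by
    rw [Module.natCard_eq_pow_finrank (K := ZMod p), Nat.card_zmod]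
  have hk : Module.finrank (ZMod p) V ≤ 2 := (Nat.pow_le_pow_iff_right hp.out.one_lt).1 (hcard ▸ hV)
  have htriv : (∀ g h : G, Commute g h) → IsPGroup p (commutator G) := fun hc => by
    have : commutator G = ⊥ := by
      rw [commutator_def, ← le_bot_iff, Subgroup.commutator_le]
      exact fun g _ h _ => Subgroup.mem_bot.2 (commutatorElement_eq_one_iff_commute.2 (hc g h))
    rw [this]
    exact IsPGroup.of_bot
  rcases Nat.lt_or_ge (Module.finrank (ZMod p) V) 2 with hlt | hge
  · refine htriv fun g h => commute_of_scalar hσ ?_ g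
    refine LinearMap.exists_eq_smul_id_of_forall_notLinearIndependent fun v hv => ?_
    have := hv.fintype_card_le_finrank
    simp at this
    omega
  have h2 : Module.finrank (ZMod p) V = 2 := le_antisymm hk hge
  have hord : ∀ g : G, Odd (orderOf g) := fun g => hodd.of_dvd_nat (orderOf_dvd_natCard g)
  by_cases hN : ∃ N : Subgroup G, N.Normal ∧ IsPGroup p N ∧ N ≠ ⊥
  · obtain ⟨N, hNn, hNp, hN1⟩ := hN
    -- a fixed vector of the normal p-subgroup
    letI : MulAction N V :=
      { smul := fun n x => σ n x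
        one_smul := fun x => by show σ ((1 : N) : G) x = x; simp
        mul_smul := fun m n x => by show σ ((m * n : N) : G) x = σ m (σ n x); simp }
    haveI : Nontrivial V := Module.nontrivial_of_finrank_eq_succ h2
    obtain ⟨v, hvfix, hv0⟩ := hNp.exists_fixed_point_of_prime_dvd_card_of_fixed_point V
      (by rw [hcard, h2]; exact dvd_pow_self p two_ne_zero) (show (0 : V) ∈ MulAction.fixedPoints N V from
        fun n => map_zero (σ n))
    have hvfix' : ∀ n ∈ N, σ n v = v := fun n hn => hvfix ⟨n, hn⟩
    -- its multiples are exactly the fixed vectors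
    have hfix : ∀ x, (∀ n ∈ N, σ n x = x) → ∃ r : ZMod p, x = r • v := by
      intro x hx
      by_contra h
      push Not at h
      have hli : LinearIndependent (ZMod p) ![v, x] := (LinearIndependent.pair_iff' (Ne.symm hv0)).2
        fun r e => h r e.symm
      refine hN1 (le_bot_iff.1 fun n hn => Subgroup.mem_bot.2 (hσ ?_))
      rw [map_one]
      refine LinearMap.ext_on_range (hli.span_eq_top_of_card_eq_finrank (by simp [h2])) fun i => ?_
      fin_cases i
      · exact hvfix' n hn
      · exact hx n hn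
    have hline : ∀ g : G, ∃ r : ZMod p, σ g v = r • v := fun g => hfix _ fun n hn => by
      rw [← Module.End.mul_apply, ← map_mul, show n * g = g * (g⁻¹ * n * g) by group, map_mul,
        Module.End.mul_apply, hvfix' _ (by simpa using hNn.conj_mem n hn g⁻¹)]
    choose χ hχ using hline
    obtain ⟨x, hx⟩ : ∃ x, LinearIndependent (ZMod p) ![v, x] := by
      by_contra h
      push Not at h
      have : (Submodule.span (ZMod p) {v}) = ⊤ := eq_top_iff.2 fun x _ => by
        have := h x
        rw [LinearIndependent.pair_iff' (Ne.symm hv0)] at this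
        push Not at this
        exact Submodule.mem_span_singleton.2 this
      have h' := finrank_span_singleton (K := ZMod p) (Ne.symm hv0)
      rw [this, finrank_top, h2] at h'
      omega
    have hdec : ∀ g : G, ∃ m r : ZMod p, σ g x = r • v + m • x := fun g => by
      have hmem : σ g x ∈ Submodule.span (ZMod p) (Set.range ![v, x]) :=
        (hx.span_eq_top_of_card_eq_finrank (by simp [h2])) ▸ Submodule.mem_top
      rw [Matrix.range_cons, Matrix.range_cons, Matrix.range_empty, Set.union_empty, Set.singleton_union,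
        Submodule.mem_span_pair] at hmem
      obtain ⟨r, m, h⟩ := hmem
      exact ⟨m, r, h.symm⟩
    choose ψ r hψ using hdec
    let Φ : G →* ZMod p × ZMod p := MonoidHom.mk ⟨fun g => (χ g, ψ g), by
        refine Prod.ext ?_ ?_
        · have h := hχ 1
          rw [map_one, Module.End.one_apply] at h
          exact smul_left_injective (ZMod p) (Ne.symm hv0) (by simp only [Prod.fst_one, one_smul]; exact h.symm)
        · have h := hψ 1
          rw [map_one, Module.End.one_apply] at h
          exact (sub_eq_zero.1 ((eq_zero_of_pair hx (x := -r 1) (y := 1 - ψ 1)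
            (by linear_combination (norm := module) h)).2)).symm⟩ fun g g' => by
        refine Prod.ext ?_ ?_
        · refine smul_left_injective (ZMod p) (Ne.symm hv0) ?_
          show χ (g * g') • v = (χ g * χ g') • v
          rw [← hχ, map_mul, Module.End.mul_apply, hχ g', map_smul, hχ g, smul_smul, mul_comm]
        · have h := hψ (g * g')
          rw [map_mul, Module.End.mul_apply, hψ g', map_add, map_smul, map_smul, hχ g, hψ g] at h
          exact (sub_eq_zero.1 ((eq_zero_of_pair hx (x := r g' * χ g + ψ g' * r g - r (g * g'))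
            (y := ψ g * ψ g' - ψ (g * g')) (by linear_combination (norm := module) h)).2)).symm
    intro c
    refine ⟨1, Subtype.ext ?_⟩
    have hker : (c : G) ∈ Φ.ker := by
      have hle : commutator G ≤ Φ.ker := by
        rw [commutator_def, Subgroup.commutator_le]
        intro g _ h _
        rw [MonoidHom.mem_ker, commutatorElement_def]
        simp only [map_mul]
        rw [mul_right_comm (Φ g), ← map_mul, mul_inv_cancel, map_one, one_mul, ← map_mul, mul_inv_cancel, map_one]
      exact hle c.2
    have hc := congrArg Prod.fst (MonoidHom.mem_ker.1 hker)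
    have hc' := congrArg Prod.snd (MonoidHom.mem_ker.1 hker)
    simp only [Prod.fst_one, Prod.snd_one] at hc hc'
    change χ (c : G) = 1 at hc
    change ψ (c : G) = 1 at hc'
    have e1 : σ c v = v := by rw [hχ, hc, one_smul]
    have e2 : σ c x = r c • v + x := by rw [hψ, hc', one_smul]
    have hn : ∀ n : ℕ, σ ((c : G) ^ n) v = v ∧ σ ((c : G) ^ n) x = ((n : ZMod p) * r c) • v + x := by
      intro n
      induction n with
      | zero => simp
      | succ n ih =>
        rw [pow_succ', map_mul, Module.End.mul_apply, Module.End.mul_apply, ih.1, ih.2, e1, map_add, map_smul, e1, e2]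
        refine ⟨rfl, ?_⟩
        push_cast
        module
    refine hσ ?_
    rw [pow_one, SubgroupClass.coe_pow, OneMemClass.coe_one, map_one]
    refine LinearMap.ext_on_range (hx.span_eq_top_of_card_eq_finrank (by simp [h2])) fun i => ?_
    fin_cases i
    · exact (hn p).1
    · show σ ((c : G) ^ p) x = x
      rw [(hn p).2, ZMod.natCast_self, zero_mul, zero_smul, zero_add]
  · push Not at hN
    refine htriv ?_
    obtain ⟨A, ⟨hAn, hAc⟩, hmax⟩ := Set.exists_max_image
      {A : Subgroup G | A.Normal ∧ ∀ a ∈ A, ∀ b ∈ A, Commute a b} (fun A : Subgroup G => Nat.card A) (Set.toFinite _)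
      ⟨⊥, inferInstance, fun a ha b hb => by rw [Subgroup.mem_bot.1 ha]; exact Commute.one_left b⟩
    haveI := hAn
    have hAp : (Nat.card A).Coprime p := by
      rw [Nat.coprime_comm, hp.out.coprime_iff_not_dvd]
      intro hdvd
      let K : Subgroup G :=
        { carrier := {a | a ∈ A ∧ a ^ p = 1}
          one_mem' := ⟨one_mem A, one_pow p⟩
          mul_mem' := fun {a b} ha hb => ⟨mul_mem ha.1 hb.1, by rw [(hAc a ha.1 b hb.1).mul_pow, ha.2, hb.2, one_mul]⟩
          inv_mem' := fun {a} ha => ⟨inv_mem ha.1, by rw [inv_pow, ha.2, inv_one]⟩ }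
      have hKn : K.Normal := ⟨fun a ha g => ⟨hAn.conj_mem a ha.1 g, by rw [conj_pow, ha.2, mul_one, mul_inv_cancel]⟩⟩
      obtain ⟨y, hy⟩ := exists_prime_orderOf_dvd_card' p hdvd
      have hyK : (y : G) ∈ K := ⟨y.2, by rw [← SubgroupClass.coe_pow, ← hy, pow_orderOf_eq_one]; rfl⟩
      rw [hN K hKn (fun z => ⟨1, Subtype.ext (by rw [pow_one]; exact z.2.2)⟩), Subgroup.mem_bot] at hyK
      rw [show y = 1 from Subtype.ext hyK, orderOf_one] at hy
      exact hp.out.ne_one hy.symm
    have hAcen : ∀ b ∈ A, ∀ g : G, Commute g b := fun b hb g =>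
      commute_of_conj hσ h2 hp2 (hord g) (hAp.coprime_dvd_left (Subgroup.orderOf_dvd_natCard A hb))
        (hAc _ (hAn.conj_mem b hb g) b hb)
    by_contra hnc
    push Not at hnc
    obtain ⟨g₀, h₀, hgh⟩ := hnc
    haveI : Nontrivial (G ⧸ A) := by
      rw [← not_subsingleton_iff_nontrivial]
      intro hs
      exact hgh (hAcen h₀ ((QuotientGroup.eq_one_iff h₀).1 (Subsingleton.elim _ _)) g₀)
    obtain ⟨M₁, hM₁n, hM₁, hM₁min⟩ := exists_minimal_normal (G := G ⧸ A)
    haveI := hM₁n
    obtain ⟨hM₁c, -⟩ := minimal_normal_elementaryAbelian M₁ inferInstance hM₁ hM₁min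
    obtain ⟨M, hM⟩ : ∃ M, M = M₁.comap (QuotientGroup.mk' A) := ⟨_, rfl⟩
    haveI : M.Normal := hM ▸ inferInstance
    have hMc : ∀ a ∈ M, ∀ b ∈ M, Commute a b := by
      intro a ha b hb
      rw [hM, Subgroup.mem_comap] at ha hb
      have hz : ⁅a, b⁆ ∈ A := by
        rw [← QuotientGroup.eq_one_iff, ← QuotientGroup.mk'_apply, map_commutatorElement,
          commutatorElement_eq_one_iff_commute]
        exact congrArg Subtype.val (hM₁c.is_comm.comm ⟨_, ha⟩ ⟨_, hb⟩)
      have hconj : a * b * a⁻¹ = ⁅a, b⁆ * b := by rw [commutatorElement_def]; group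
      have hpw : ∀ n : ℕ, a * b ^ n * a⁻¹ = ⁅a, b⁆ ^ n * b ^ n := fun n => by
        rw [← conj_pow, hconj, ((hAcen _ hz b).symm).mul_pow]
      obtain ⟨e, he⟩ : ∃ e, e = (orderOf b).factorization p := ⟨_, rfl⟩
      have hcop : (orderOf (b ^ p ^ e)).Coprime p := by
        rw [orderOf_pow_of_dvd (pow_ne_zero _ hp.out.ne_zero) (he ▸ Nat.ordProj_dvd _ _), he]
        exact (Nat.coprime_ordCompl hp.out (orderOf_pos b).ne').symm
      have h4 := (commute_of_conj hσ h2 hp2 (hord a) hcop (by
        rw [hpw]
        exact (hAcen _ (pow_mem hz _) _).symm.mul_left (Commute.refl _)))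
      have h5 : ⁅a, b⁆ ^ p ^ e = 1 := by
        have h6 := hpw (p ^ e)
        rw [h4.eq, mul_inv_cancel_right] at h6
        exact right_eq_mul.1 h6
      rw [← commutatorElement_eq_one_iff_commute]
      exact orderOf_eq_one_iff.1 (Nat.eq_one_of_dvd_coprimes (hAp.pow_right e)
        (Subgroup.orderOf_dvd_natCard A hz) (orderOf_dvd_of_pow_eq_one h5))
    have hAM : A ≤ M := hM ▸ QuotientGroup.le_comap_mk' A M₁
    have hne : A ≠ M := fun e => hM₁ (by
      rw [← Subgroup.map_comap_eq_self_of_surjective (QuotientGroup.mk'_surjective A) M₁, ← hM, ← e,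
        QuotientGroup.map_mk'_self])
    exact hne (Subgroup.eq_of_le_of_card_ge hAM (hmax M ⟨inferInstance, hMc⟩))

end Cfsg.Agent.Solv.GL2Odd
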