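import Mathlib
import Cfsg.Agent.Lib.Solv.GL2Odd
import Cfsg.Agent.Lib.Fusion.RankTwoAut
import Cfsg.Agent.Lib.Fusion.OddAutNoScn
import Cfsg.Agent.Lib.Fusion.RankTwoOmega
import Cfsg.Agent.Lib.Solv.FrattiniModule
import Cfsg.Prelude.Def_OddOrderLocal

/-!
Groups of odd order acting faithfully on narrow `p`-groups.
-/

set_option autoImplicit false
set_option linter.style.haveILetI false

namespace Cfsg.Agent.Solv.RankTwo

open scoped commutatorElement
open Cfsg.Agent.Solv

universe u v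

variable {p : ℕ} [hp : Fact p.Prime]
variable {R : Type u} [Group R] [Finite R]

/-- A subgroup of exponent `p` which detects automorphisms of order prime to `p`. -/
structure Detect (p : ℕ) (P : Subgroup R) : Prop where
  char : P.Characteristic
  pow_eq : ∀ x ∈ P, x ^ p = 1
  comm : ∀ x ∈ P, ∀ g : R, ⁅x, g⁆ ∈ P ⊓ Subgroup.centralizer (P : Set R)
  det : ∀ a : MulAut R, (orderOf a).Coprime p → (∀ x ∈ P, a x = x) → a = 1

theorem exists_detect (hp2 : p ≠ 2) (hR : IsPGroup p R) : ∃ P : Subgroup R, Detect p P := by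
  obtain ⟨H, hHc, -, hcomm, hC⟩ := Fusion.exists_critical hR
  haveI := hHc
  have hcl : ∀ x y : H, ∀ g : H, ⁅x, y⁆ * g = g * ⁅x, y⁆ := by
    intro x y g
    have h1 := hcomm (Subgroup.commutator_mem_commutator x.2 (Subgroup.mem_top (y : R)))
    exact Subtype.ext (Subgroup.mem_centralizer_iff.1 h1.2 (g : R) g.2).symm
  have hsc : Fusion.SmallClass p H := by
    refine Or.inl ⟨hp2, Subgroup.commutator_eq_bot_iff_le_centralizer.2 ?_⟩
    rw [commutator_def, Subgroup.commutator_le]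
    intro x _ y _
    exact Subgroup.mem_centralizer_iff.2 fun g _ => (hcl x y g).symm
  obtain ⟨W, hW⟩ : ∃ W, W = (Subgroup.closure {x : H | x ^ p = 1}).map H.subtype := ⟨_, rfl⟩
  have hWH : W ≤ H := hW ▸ Subgroup.map_subtype_le _
  have hWp : ∀ x ∈ W, x ^ p = 1 := by
    rw [hW]
    rintro _ ⟨x, hx, rfl⟩
    exact congrArg Subtype.val (Fusion.pow_eq_one_of_mem_closure hsc hx)
  have hmem : ∀ x ∈ H, x ^ p = 1 → x ∈ W := fun x hx hxp =>
    hW ▸ ⟨⟨x, hx⟩, Subgroup.subset_closure (Subtype.ext hxp), rfl⟩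
  have hWc : W.Characteristic := by
    refine Subgroup.characteristic_iff_map_le.2 fun a => ?_
    rintro _ ⟨w, hw, rfl⟩
    exact hmem _ ((Subgroup.characteristic_iff_map_eq.1 hHc a).le ⟨w, hWH hw, rfl⟩)
      (by rw [← map_pow, hWp w hw, map_one])
  haveI := hWc
  refine ⟨W, hWc, hWp, fun x hx g => Subgroup.mem_inf.2 ⟨?_, ?_⟩, fun a ha hfix => ?_⟩
  · rw [show ⁅x, g⁆ = x * (g * x⁻¹ * g⁻¹) by rw [commutatorElement_def]; group]
    exact mul_mem hx (Subgroup.Normal.conj_mem inferInstance _ (inv_mem hx) g)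
  · have h1 := hcomm (Subgroup.commutator_mem_commutator (hWH hx) (Subgroup.mem_top g))
    exact Subgroup.centralizer_le hWH h1.2
  · refine Fusion.aut_eq_one_of_fix hR hC a ha fun x hx => ?_
    obtain ⟨b, hb, hbo⟩ := Fusion.exists_restrict_aut a H fun x hx =>
      (Subgroup.characteristic_iff_map_eq.1 hHc a).le ⟨x, hx, rfl⟩
    have hb1 : b = 1 := Fusion.aut_eq_one_of_fix_omega (hR.to_subgroup H) b (ha.coprime_dvd_left hbo)
      fun y hy => Subtype.ext (by
        have hyp : y ^ p = 1 := by simpa [Local.FS.IsOmega, hp2] using hy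
        rw [hb, hfix _ (hmem y y.2 (congrArg Subtype.val hyp))])
    have := hb ⟨x, hx⟩
    rw [hb1] at this
    exact this.symm

/-- A coprime automorphism fixing a subgroup and a coset modulo it fixes the element. -/
theorem fix_step (hR : IsPGroup p R) (a : MulAut R) (ha : (orderOf a).Coprime p) (N : Subgroup R)
    (hN : ∀ n ∈ N, a n = n) {x : R} (hx : x⁻¹ * a x ∈ N) : a x = x := by
  obtain ⟨q, hq⟩ : ∃ q, q = x⁻¹ * a x := ⟨_, rfl⟩
  have hfix : a q = q := hN q (hq ▸ hx)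
  have hax : a x = x * q := by rw [hq]; group
  have hpow : ∀ j : ℕ, (a ^ j) x = x * q ^ j := by
    intro j
    induction j with
    | zero => simp
    | succ j ih => rw [pow_succ', MulAut.mul_apply, ih, map_mul, map_pow, hfix, hax, pow_succ', mul_assoc]
  have h5 := hpow (orderOf a)
  rw [pow_orderOf_eq_one, MulAut.one_apply, left_eq_mul] at h5
  obtain ⟨i, hi⟩ := hR q
  have h7 : q = 1 := orderOf_eq_one_iff.1 (Nat.eq_one_of_dvd_coprimes (ha.pow_right i)
    (orderOf_dvd_of_pow_eq_one h5) (orderOf_dvd_of_pow_eq_one hi))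
  rw [hax, h7, mul_one]

/-- A subgroup in which all elements of order prime to `p` are trivial. -/
theorem isPGroup_of_pPrime {A : Type v} [Group A] [Finite A] (K : Subgroup A)
    (h : ∀ g ∈ K, (orderOf g).Coprime p → g = 1) : IsPGroup p K := by
  intro g
  obtain ⟨e, he⟩ : ∃ e, e = (orderOf (g : A)).factorization p := ⟨_, rfl⟩
  refine ⟨e, Subtype.ext (h _ (pow_mem g.2 _) ?_)⟩
  rw [SubgroupClass.coe_pow, orderOf_pow_of_dvd (pow_ne_zero _ hp.out.ne_zero) (he ▸ Nat.ordProj_dvd _ _), he]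
  exact (Nat.coprime_ordCompl hp.out (orderOf_pos _).ne').symm

/-- The derived subgroup is a `p`-group if some power of each of its elements lies in a `p`-subgroup. -/
theorem isPGroup_commutator_of_ker {A : Type v} [Group A] [Finite A] (K : Subgroup A) [K.Normal]
    (hK : IsPGroup p K) (h : IsPGroup p (commutator (A ⧸ K))) : IsPGroup p (commutator A) := by
  intro c
  have hc : QuotientGroup.mk' K (c : A) ∈ commutator (A ⧸ K) := by
    have hle : (commutator A).map (QuotientGroup.mk' K) ≤ commutator (A ⧸ K) := by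
      rw [commutator_def, commutator_def, Subgroup.map_commutator]
      exact Subgroup.commutator_mono le_top le_top
    exact hle ⟨c, c.2, rfl⟩
  obtain ⟨i, hi⟩ := h ⟨_, hc⟩
  have hci : (c : A) ^ p ^ i ∈ K := (QuotientGroup.eq_one_iff _).1 (by
    have := congrArg Subtype.val hi
    simpa [← map_pow] using this)
  obtain ⟨j, hj⟩ := hK ⟨_, hci⟩
  refine ⟨i + j, Subtype.ext ?_⟩
  rw [SubgroupClass.coe_pow, pow_add, pow_mul]
  exact congrArg Subtype.val hj

/-- The structure forced by a derived subgroup which is a `p`-group. -/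
theorem pCore_facts {A : Type v} [Group A] [Finite A] (h : IsPGroup p (commutator A)) :
    commutator A ≤ Cfsg.pCore p A ∧ (Cfsg.pCore p A).index.Coprime p := by
  have h1 : commutator A ≤ Cfsg.pCore p A := Fusion.le_pCore h
  refine ⟨h1, ?_⟩
  obtain ⟨S⟩ : Nonempty (Sylow p A) := inferInstance
  have hle : commutator A ≤ (S : Subgroup A) := h1.trans (Fusion.pCore_le_sylow S)
  have hSn : (S : Subgroup A).Normal := ⟨fun x hx g => by
    have h2 : ⁅g, x⁆ ∈ (S : Subgroup A) :=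
      hle (commutator_def A ▸ Subgroup.commutator_mem_commutator (Subgroup.mem_top g) (Subgroup.mem_top x))
    rw [show g * x * g⁻¹ = ⁅g, x⁆ * x by rw [commutatorElement_def]; group]
    exact mul_mem h2 hx⟩
  have hSO : (S : Subgroup A) ≤ Cfsg.pCore p A := haveI := hSn; Fusion.le_pCore S.isPGroup'
  rw [le_antisymm (Fusion.pCore_le_sylow S) hSO, Nat.coprime_comm, hp.out.coprime_iff_not_dvd]
  exact S.not_dvd_index

/-- The representation on an elementary abelian quotient. -/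
theorem exists_quot_rep {X : Type*} [Group X] [Finite X] (N : Subgroup X) [N.Normal]
    (hcomm : ∀ x y : X, ⁅x, y⁆ ∈ N) (hexp : ∀ x : X, x ^ p ∈ N) {A : Type v} [Group A] [Finite A]
    (Ψ : A →* MulAut X) (hinv : ∀ g, ∀ n ∈ N, Ψ g n ∈ N) :
    ∃ (k : ℕ) (σ : A →* Module.End (ZMod p) (Fin k → ZMod p)), p ^ k = N.index ∧
      ∀ g, σ g = 1 ↔ ∀ x, x⁻¹ * Ψ g x ∈ N := by
  letI : CommGroup (X ⧸ N) := { QuotientGroup.Quotient.group N with
    mul_comm := fun a b => by
      induction a using QuotientGroup.induction_on with | H x =>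
      induction b using QuotientGroup.induction_on with | H y =>
      rw [← QuotientGroup.mk_mul, ← QuotientGroup.mk_mul, QuotientGroup.eq]
      have h := hcomm y⁻¹ x⁻¹
      rwa [commutatorElement_def, inv_inv, inv_inv, mul_assoc (y⁻¹ * x⁻¹), ← mul_inv_rev] at h }
  letI : Module (ZMod p) (Additive (X ⧸ N)) := AddCommGroup.zmodModule (n := p) fun m => by
    apply Additive.toMul.injective
    obtain ⟨x, hx⟩ := QuotientGroup.mk_surjective (Additive.toMul m)
    rw [toMul_nsmul, toMul_zero, ← hx, ← QuotientGroup.mk_pow]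
    exact (QuotientGroup.eq_one_iff _).2 (hexp x)
  let c : A → (Additive (X ⧸ N) →+ Additive (X ⧸ N)) := fun g =>
    MonoidHom.toAdditive (QuotientGroup.map N N (Ψ g).toMonoidHom fun n hn => hinv g n hn)
  have hc : ∀ (g : A) (x : X), c g (Additive.ofMul (x : X ⧸ N)) = Additive.ofMul ((Ψ g x : X) : X ⧸ N) :=
    fun g x => rfl
  haveI : Finite (Additive (X ⧸ N)) := inferInstanceAs (Finite (X ⧸ N))
  obtain ⟨k, ε, σ, hεb, -, hεσ⟩ := ThmB.exists_coordinates (p := p) (Additive (X ⧸ N)) c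
    (fun m => by
      obtain ⟨x, hx⟩ := QuotientGroup.mk_surjective (Additive.toMul m)
      obtain rfl : m = Additive.ofMul (x : X ⧸ N) := by rw [hx]; rfl
      rw [hc, map_one, MulAut.one_apply])
    (fun g h m => by
      obtain ⟨x, hx⟩ := QuotientGroup.mk_surjective (Additive.toMul m)
      obtain rfl : m = Additive.ofMul (x : X ⧸ N) := by rw [hx]; rfl
      rw [hc, hc, hc, map_mul, MulAut.mul_apply])
  refine ⟨k, σ, ?_, fun g => ⟨fun hg x => ?_, fun h => LinearMap.ext fun v => hεb.1 ?_⟩⟩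
  · rw [Subgroup.index_eq_card, ← Nat.card_congr (Additive.toMul (α := X ⧸ N)),
      ← Nat.card_congr (Equiv.ofBijective ε hεb), Nat.card_fun, Nat.card_zmod, Nat.card_fin]
  · obtain ⟨y, hy⟩ := hεb.2 (Additive.ofMul (x : X ⧸ N))
    have h := hεσ g y
    rw [hg, Module.End.one_apply, hy, hc] at h
    exact QuotientGroup.eq.1 (Additive.ofMul.injective h)
  · obtain ⟨x, hx⟩ := QuotientGroup.mk_surjective (Additive.toMul (ε v))
    have hx' : ε v = Additive.ofMul (x : X ⧸ N) := by rw [hx]; rfl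
    rw [hεσ, Module.End.one_apply, hx', hc]
    exact congrArg _ (QuotientGroup.eq.2 (h x)).symm

/-- An odd-order group acting faithfully on a `p`-group of rank at most two has a `p`-group as derived subgroup. -/
theorem commutator_rank_two (hp2 : p ≠ 2) (hR : IsPGroup p R) (hr : Cfsg.PRankLE p 2 R)
    {A : Type v} [Group A] [Finite A] [Group.IsSolvable A] (hodd : Odd (Nat.card A))
    (φ : A →* MulAut R) (hφ : Function.Injective φ) : IsPGroup p (commutator A) := by
  classical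
  obtain ⟨P, hP⟩ := exists_detect hp2 hR
  haveI := hP.char
  -- the commutator subgroup of the detecting group
  obtain ⟨N, hN⟩ : ∃ N, N = commutator P := ⟨_, rfl⟩
  have hinv : ∀ (a : MulAut R), ∀ x ∈ P, a x ∈ P := fun a x hx =>
    (Subgroup.characteristic_iff_map_eq.1 hP.char a).le ⟨x, hx, rfl⟩
  choose ψ hψ hψo using fun a : MulAut R => Fusion.exists_restrict_aut a P (hinv a)
  obtain ⟨Ψ, hΨ⟩ : ∃ Ψ : A →* MulAut P, ∀ g (x : P), ((Ψ g x : P) : R) = φ g (x : R) :=
    ⟨MonoidHom.mk' (fun g => ψ (φ g)) fun g g' => MulEquiv.ext fun x => Subtype.ext (by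
      rw [MulAut.mul_apply, hψ, hψ, hψ, map_mul, MulAut.mul_apply]), fun g x => hψ (φ g) x⟩
  have hcen : N ≤ Subgroup.center P := by
    rw [hN, commutator_def, Subgroup.commutator_le]
    intro x _ y _
    refine Subgroup.mem_center_iff.2 fun z => Subtype.ext ?_
    exact Subgroup.mem_centralizer_iff.1 (hP.comm x x.2 (y : R)).2 z z.2
  haveI : N.Normal := hN ▸ inferInstance
  have hNinv : ∀ g : A, ∀ n ∈ N, Ψ g n ∈ N := fun g n hn => hN ▸
    (Subgroup.characteristic_iff_map_eq.1 (inferInstance : (commutator P).Characteristic) (Ψ g)).le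
      ⟨n, hN ▸ hn, rfl⟩
  obtain ⟨k, σ, hk, hσ⟩ := exists_quot_rep (p := p) N (fun x y => hN ▸ Subgroup.commutator_mem_commutator trivial trivial)
    (fun x => by
      have hxp : x ^ p = 1 := Subtype.ext (by rw [SubgroupClass.coe_pow, OneMemClass.coe_one]; exact hP.pow_eq x x.2)
      rw [hxp]; exact one_mem N) Ψ hNinv
  have hσk : ∀ g, σ g = 1 → ∀ x : P, x⁻¹ * Ψ g x ∈ N := fun g hg => (hσ g).1 hg
  have hK : IsPGroup p σ.ker := isPGroup_of_pPrime _ fun g hg hco => by
    refine hφ ?_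
    rw [map_one]
    have hco' : (orderOf (Ψ g)).Coprime p := hco.coprime_dvd_left (orderOf_map_dvd Ψ g)
    have hNfix : ∀ n ∈ N, Ψ g n = n := by
      intro n hn
      rw [hN, commutator_eq_closure] at hn
      induction hn using Subgroup.closure_induction with
      | mem n hn =>
        obtain ⟨x, y, rfl⟩ := hn
        rw [map_commutatorElement]
        have hx := hσk g hg x
        have hy := hσk g hg y
        obtain ⟨z, hz, hxz⟩ : ∃ z ∈ N, Ψ g x = x * z := ⟨_, hx, by group⟩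
        obtain ⟨z', hz', hyz⟩ : ∃ z ∈ N, Ψ g y = y * z := ⟨_, hy, by group⟩
        rw [hxz, hyz]
        exact Fusion.OddAutNoScn.comm_cen (hcen hz) (hcen hz') x y
      | one => exact map_one _
      | mul a b _ _ iha ihb => rw [map_mul, iha, ihb]
      | inv a _ iha => rw [map_inv, iha]
    refine hP.det _ (hco.coprime_dvd_left (orderOf_map_dvd φ g)) fun x hx => ?_
    have h := congrArg Subtype.val (fix_step (hR.to_subgroup P) (Ψ g) hco' N hNfix (hσk g hg ⟨x, hx⟩))
    rw [show ((Ψ g ⟨x, hx⟩ : P) : R) = φ g x from hΨ _ _] at h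
    exact h
  have hcard : Nat.card (Fin k → ZMod p) ≤ p ^ 2 := by
    rw [Nat.card_fun, Nat.card_zmod, Nat.card_fin, hk]
    have hrkP : Cfsg.PRankLE p 2 P := fun B hB hBe => by
      haveI := hB
      have h := hr (B.map P.subtype) inferInstance (by
        rintro _ ⟨b, hb, rfl⟩
        exact congrArg Subtype.val (hBe b hb))
      rwa [Subgroup.card_map_of_injective P.subtype_injective] at h
    rcases eq_or_ne N ⊥ with h0 | h0
    · rw [h0, Subgroup.index_bot]
      have hc : IsMulCommutative P := ⟨⟨fun x y => by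
        rw [← commutatorElement_eq_one_iff_mul_comm, ← Subgroup.mem_bot, ← h0, hN]
        exact Subgroup.commutator_mem_commutator trivial trivial⟩⟩
      have h := hrkP ⊤ inferInstance fun x _ => Subtype.ext (hP.pow_eq x x.2)
      rwa [Subgroup.card_top] at h
    · have h3 := Fusion.card_le_of_exponent_rank_two hp2 (hR.to_subgroup P)
        (fun x => Subtype.ext (hP.pow_eq x x.2)) hrkP
      have hNp : p ≤ Nat.card N := by
        obtain ⟨i, hi⟩ := ((hR.to_subgroup P).to_subgroup N).exists_card_eq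
        rcases Nat.eq_zero_or_pos i with rfl | hi0
        · exact absurd (Subgroup.card_eq_one.1 (by simpa using hi)) h0
        · rw [hi]; exact Nat.le_self_pow hi0.ne' p
      rw [← N.card_mul_index] at h3
      nlinarith [hp.out.pos, N.index.zero_le]
  haveI : Group.IsSolvable (A ⧸ σ.ker) :=
    Group.isSolvable_of_surjective (QuotientGroup.mk'_surjective σ.ker)
  obtain ⟨τ, hτ⟩ : ∃ τ : A ⧸ σ.ker →* Module.End (ZMod p) (Fin k → ZMod p), ∀ g : A, τ (g : A ⧸ σ.ker) = σ g :=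
    ⟨QuotientGroup.lift σ.ker σ le_rfl, fun g => QuotientGroup.lift_mk _ _ _⟩
  have hτi : Function.Injective τ := by
    rw [injective_iff_map_eq_one]
    intro z hz
    induction z using QuotientGroup.induction_on with | H g =>
    rw [hτ] at hz
    exact (QuotientGroup.eq_one_iff g).2 (MonoidHom.mem_ker.2 hz)
  exact isPGroup_commutator_of_ker σ.ker hK (GL2Odd.commutator_isPGroup
    (hodd.of_dvd_nat (Subgroup.card_quotient_dvd_card _)) hp2 hcard τ hτi)

section Narrow

/-- Elements of order `p` commuting with `x₀`. -/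
structure Thin (p : ℕ) (x₀ : R) : Prop where
  ord : orderOf x₀ = p
  comm : ∀ y z : R, Commute x₀ y → Commute x₀ z → Commute y z
  small : ∀ B : Subgroup R, (∀ b ∈ B, b ^ p = 1 ∧ Commute x₀ b) → Nat.card B ≤ p ^ 2

theorem exists_thin (hR : IsPGroup p R) (hn : Cfsg.IsNarrow p R) (hr : ¬ Cfsg.PRankLE p 2 R) :
    ∃ x₀ : R, Thin p x₀ := by
  rcases hn with h | ⟨R₀, R₁, h0, h1, hinf, hc, hsup⟩
  · exact absurd h hr
  haveI : IsCyclic R₁ := h1
  haveI : IsCyclic R₀ := isCyclic_of_prime_card h0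
  obtain ⟨x₀, hx₀⟩ := IsCyclic.exists_generator (α := R₀)
  have hord : orderOf (x₀ : R) = p := by
    rw [Subgroup.orderOf_coe, orderOf_eq_card_of_forall_mem_zpowers hx₀, h0]
  have hR₀ : R₀ = Subgroup.zpowers (x₀ : R) := by
    refine (Subgroup.eq_of_le_of_card_ge (Subgroup.zpowers_le.2 x₀.2) ?_).symm
    rw [Nat.card_zpowers, hord, h0]
  obtain ⟨Cx, hCx⟩ : ∃ Cx, Cx = R₀ ⊔ R₁ := ⟨_, rfl⟩
  have hmemC : ∀ y : R, Commute (x₀ : R) y → y ∈ Cx := fun y hy => by
    rw [hCx, hsup, hR₀, Subgroup.mem_centralizer_iff]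
    rintro _ ⟨i, rfl⟩
    exact (hy.zpow_left i).eq
  have hdec : ∀ y ∈ Cx, ∃ a ∈ R₀, ∃ b ∈ R₁, y = a * b := fun y hy => by
    have hR₁n : R₁ ≤ Subgroup.normalizer (R₀ : Set R) := fun b hb => by
      refine Subgroup.mem_normalizer_fintype fun a ha => ?_
      rw [← hc a ha b hb, mul_inv_cancel_right]
      exact ha
    have h : y ∈ ((R₀ ⊔ R₁ : Subgroup R) : Set R) := hCx ▸ hy
    rw [Subgroup.coe_mul_of_right_le_normalizer_left R₀ R₁ hR₁n] at h
    obtain ⟨a, ha, b, hb, rfl⟩ := h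
    exact ⟨a, ha, b, hb, rfl⟩
  have hc' : ∀ a ∈ R₀, ∀ a' ∈ R₀, Commute a a' := fun a ha a' ha' =>
    congrArg Subtype.val ((IsCyclic.commGroup (α := R₀)).mul_comm ⟨a, ha⟩ ⟨a', ha'⟩)
  have hc'' : ∀ a ∈ R₁, ∀ a' ∈ R₁, Commute a a' := fun a ha a' ha' =>
    congrArg Subtype.val ((IsCyclic.commGroup (α := R₁)).mul_comm ⟨a, ha⟩ ⟨a', ha'⟩)
  refine ⟨x₀, hord, fun y z hy hz => ?_, fun B hB => ?_⟩
  · obtain ⟨a, ha, b, hb, rfl⟩ := hdec y (hmemC y hy)
    obtain ⟨a', ha', b', hb', rfl⟩ := hdec z (hmemC z hz)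
    exact ((hc' a ha a' ha').mul_right (hc a ha b' hb')).mul_left
      ((show Commute b a' from (hc a' ha' b hb).symm).mul_right (hc'' b hb b' hb'))
  · obtain ⟨K, hK⟩ : ∃ K : Set R₁, K = {b | b ^ p = 1} := ⟨_, rfl⟩
    have hKc : Nat.card K ≤ p := by
      letI : Fintype R₁ := Fintype.ofFinite _
      classical
      have h := IsCyclic.card_pow_eq_one_le (α := R₁) hp.out.pos
      rw [Nat.card_eq_card_toFinset, hK]
      simpa using h
    have hex : ∀ b : B, ∃ q : R₀ × K, (q.1 : R) * ((q.2 : R₁) : R) = b := by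
      intro b
      obtain ⟨a, ha, c, hc1, he⟩ := hdec b (hmemC b (hB b b.2).2)
      have h1 := (hB b b.2).1
      rw [he, (show Commute a c from hc a ha c hc1).mul_pow,
        show a ^ p = 1 by rw [← h0]; exact congrArg Subtype.val (pow_card_eq_one' (x := (⟨a, ha⟩ : R₀))),
        one_mul] at h1
      exact ⟨(⟨a, ha⟩, ⟨⟨c, hc1⟩, hK ▸ (Subtype.ext h1 : (⟨c, hc1⟩ : R₁) ^ p = 1)⟩), he.symm⟩
    choose q hq using hex
    have hinj : Function.Injective q := fun b b' e => Subtype.ext (by rw [← hq b, ← hq b', e])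
    calc Nat.card B ≤ Nat.card (R₀ × K) := Nat.card_le_card_of_injective q hinj
      _ ≤ p ^ 2 := by rw [Nat.card_prod, h0, pow_two]; exact Nat.mul_le_mul_left _ hKc

/-- The elements of order dividing `p` commuting with a thin element. -/
def omegaC {x₀ : R} (h : Thin p x₀) : Subgroup R where
  carrier := {y | y ^ p = 1 ∧ Commute x₀ y}
  one_mem' := ⟨one_pow p, Commute.one_right _⟩
  mul_mem' := fun {y z} hy hz => ⟨by rw [(h.comm y z hy.2 hz.2).mul_pow, hy.1, hz.1, one_mul], hy.2.mul_right hz.2⟩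
  inv_mem' := fun {y} hy => ⟨by rw [inv_pow, hy.1, inv_one], hy.2.inv_right⟩

theorem card_omegaC {x₀ : R} (h : Thin p x₀) : Nat.card (omegaC h) ≤ p ^ 2 :=
  h.small _ fun _ hb => hb

theorem exists_large (hr : ¬ Cfsg.PRankLE p 2 R) : ∃ A : Subgroup R, IsMulCommutative A ∧ (∀ a ∈ A, a ^ p = 1) ∧
    p ^ 2 < Nat.card A := by
  unfold Cfsg.PRankLE at hr
  push Not at hr
  exact hr

theorem not_mem_detect (hR : IsPGroup p R) (hr : ¬ Cfsg.PRankLE p 2 R) {P : Subgroup R} (hP : Detect p P)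
    {x₀ : R} (h : Thin p x₀) : x₀ ∉ P := by
  intro hxP
  obtain ⟨A, hAc, hAe, hA⟩ := exists_large hr
  have hxB : x₀ ∈ omegaC h := ⟨h.ord ▸ pow_orderOf_eq_one x₀, Commute.refl _⟩
  have hcomm : ∀ g, ⁅x₀, g⁆ ∈ omegaC h := fun g =>
    ⟨hP.pow_eq _ (Subgroup.mem_inf.1 (hP.comm x₀ hxP g)).1,
      Subgroup.mem_centralizer_iff.1 (Subgroup.mem_inf.1 (hP.comm x₀ hxP g)).2 x₀ hxP⟩
  have hAB : (∀ a ∈ A, Commute x₀ a) → False := fun hc =>
    (Nat.lt_irrefl _) ((hA.trans_le (Subgroup.card_le_of_le (fun a ha => ⟨hAe a ha, hc a ha⟩ : A ≤ omegaC h))).trans_le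
      (card_omegaC h))
  haveI : Nontrivial R := ⟨x₀, 1, fun e => hp.out.ne_one (by rw [← h.ord, e, orderOf_one])⟩
  haveI : Nontrivial (Subgroup.center R) := hR.center_nontrivial
  obtain ⟨i, hi⟩ := (hR.to_subgroup (Subgroup.center R)).exists_card_eq
  have hi0 : i ≠ 0 := fun e => by
    rw [e, pow_zero] at hi
    exact (Finite.one_lt_card_iff_nontrivial.2 ‹_›).ne' hi
  obtain ⟨z, hz⟩ := exists_prime_orderOf_dvd_card' (G := Subgroup.center R) p (hi ▸ dvd_pow_self p hi0)
  obtain ⟨Z, hZ⟩ : ∃ Z, Z = Subgroup.zpowers (z : R) := ⟨_, rfl⟩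
  have hZc : Z ≤ Subgroup.center R := hZ ▸ Subgroup.zpowers_le.2 z.2
  have hzp : orderOf (z : R) = p := by rw [Subgroup.orderOf_coe, hz]
  have hZcard : Nat.card Z = p := by rw [hZ, Nat.card_zpowers, hzp]
  have hzB : Z ≤ omegaC h := hZ ▸ Subgroup.zpowers_le.2 ⟨hzp ▸ pow_orderOf_eq_one _, Subgroup.mem_center_iff.1 z.2 x₀⟩
  haveI hZn : Z.Normal := ⟨fun y hy g => by
    rw [Subgroup.mem_center_iff.1 (hZc hy) g, mul_inv_cancel_right]
    exact hy⟩
  have hxZ : x₀ ∉ Z := fun e => hAB fun a _ => (Subgroup.mem_center_iff.1 (hZc e) a).symm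
  -- `Ω` is generated by `Z` and `x₀`
  have hBE : omegaC h = Z ⊔ Subgroup.zpowers x₀ := by
    refine (Subgroup.eq_of_le_of_card_ge (sup_le hzB (Subgroup.zpowers_le.2 hxB)) ((card_omegaC h).trans ?_)).symm
    have hlt : Z < Z ⊔ Subgroup.zpowers x₀ :=
      lt_of_le_of_ne le_sup_left fun e => hxZ (e ▸ Subgroup.mem_sup_right (Subgroup.mem_zpowers x₀))
    have h1 := Subgroup.card_dvd_of_le hlt.le
    obtain ⟨j, hj⟩ := (hR.to_subgroup (Z ⊔ Subgroup.zpowers x₀)).exists_card_eq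
    rw [hj]
    refine Nat.pow_le_pow_right hp.out.pos ?_
    have h2 : p ^ 1 < p ^ j := by rw [pow_one, ← hj, ← hZcard]; exact card_lt_of_lt hlt
    exact (Nat.pow_lt_pow_iff_right hp.out.one_lt).1 h2
  -- so commutators with `x₀` lie in `Z`
  have hnorm : ∀ g, g * x₀ * g⁻¹ ∈ omegaC h := fun g => by
    rw [show g * x₀ * g⁻¹ = ⁅x₀, g⁆⁻¹ * x₀ by rw [commutatorElement_def]; group]
    exact mul_mem (inv_mem (hcomm g)) hxB
  have hcomZ : ∀ g, ⁅x₀, g⁆ ∈ Z := by
    intro g
    have hn : ((omegaC h).map (QuotientGroup.mk' Z)).Normal := by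
      refine Subgroup.Normal.map ⟨fun y hy g => ?_⟩ _ (QuotientGroup.mk'_surjective Z)
      rw [hBE] at hy
      obtain ⟨w, hw, _, ⟨j, rfl⟩, rfl⟩ := Subgroup.mem_sup_of_normal_left.1 hy
      rw [show g * (w * x₀ ^ j) * g⁻¹ = (g * w * g⁻¹) * (g * x₀ * g⁻¹) ^ j by rw [conj_zpow]; group]
      exact mul_mem (hzB (hZn.conj_mem w hw g)) (zpow_mem (hnorm g) j)
    have hc : Nat.card ((omegaC h).map (QuotientGroup.mk' Z)) = p := by
      rw [hBE, Subgroup.map_sup, QuotientGroup.map_mk'_self, bot_sup_eq, MonoidHom.map_zpowers, Nat.card_zpowers]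
      have hxp : x₀ ^ p = 1 := hxB.1
      exact orderOf_eq_prime (by rw [← map_pow, hxp, map_one])
        fun e => hxZ ((QuotientGroup.eq_one_iff x₀).1 e)
    haveI := hn
    have h1 := Fusion.le_center_of_card_prime (hR.to_quotient Z) ((omegaC h).map (QuotientGroup.mk' Z)) hc.le ⟨x₀, hxB, rfl⟩
    rw [← QuotientGroup.eq_one_iff, ← QuotientGroup.mk'_apply, map_commutatorElement,
      commutatorElement_eq_one_iff_commute]
    exact (Subgroup.mem_center_iff.1 h1 _).symm
  let f : R →* Z := MonoidHom.mk' (fun g => ⟨⁅x₀, g⁆, hcomZ g⟩) fun g g' => Subtype.ext (by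
    show ⁅x₀, g * g'⁆ = ⁅x₀, g⁆ * ⁅x₀, g'⁆
    exact Fusion.OddAutNoScn.comm_mul_right (hZc (hcomZ g')))
  obtain ⟨D, hD⟩ : ∃ D, D = f.ker := ⟨_, rfl⟩
  have hDc : ∀ g ∈ D, Commute x₀ g := fun g hg => by
    rw [hD, MonoidHom.mem_ker] at hg
    exact commutatorElement_eq_one_iff_commute.1 (congrArg Subtype.val hg)
  have hidx : D.relIndex A ∣ p := by
    haveI : D.Normal := hD ▸ inferInstance
    refine (Subgroup.relIndex_dvd_index_of_normal _ _).trans ?_
    rw [hD, Subgroup.index_ker, ← hZcard]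
    exact Subgroup.card_subgroup_dvd_card _
  have hAD : A ⊓ D ≤ omegaC h := fun a ha => ⟨hAe a (Subgroup.mem_inf.1 ha).1, hDc a (Subgroup.mem_inf.1 ha).2⟩
  have hcardA : Nat.card A = Nat.card (A ⊓ D : Subgroup R) * D.relIndex A := by
    have := Subgroup.relIndex_mul_relIndex ⊥ (A ⊓ D) A bot_le inf_le_left
    rw [Subgroup.relIndex_bot_left, Subgroup.relIndex_bot_left, Subgroup.inf_relIndex_left] at this
    exact this.symm
  have hxA : x₀ ∈ A := by
    refine (Subgroup.mem_inf.1 ((Subgroup.eq_of_le_of_card_ge hAD ?_).symm ▸ hxB : x₀ ∈ A ⊓ D)).1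
    refine (card_omegaC h).trans ?_
    obtain ⟨j, hj⟩ := (hR.to_subgroup (A ⊓ D)).exists_card_eq
    have h1 : D.relIndex A ≤ p := Nat.le_of_dvd hp.out.pos hidx
    rw [hcardA, hj] at hA
    rw [hj]
    refine Nat.pow_le_pow_right hp.out.pos ?_
    have h2 : p ^ 2 < p ^ (j + 1) := hA.trans_le (by rw [pow_succ]; exact Nat.mul_le_mul_left _ h1)
    have := (Nat.pow_lt_pow_iff_right hp.out.one_lt).1 h2
    omega
  exact hAB fun a ha => congrArg Subtype.val (hAc.is_comm.comm ⟨x₀, hxA⟩ ⟨a, ha⟩)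

theorem uniserial (hR : IsPGroup p R) (hr : ¬ Cfsg.PRankLE p 2 R) {P : Subgroup R} (hP : Detect p P)
    {x₀ : R} (h : Thin p x₀) {M N : Subgroup R} [M.Normal] [N.Normal] (hM : M ≤ P) (hN : N ≤ P)
    (hMN : Nat.card M ≤ Nat.card N) : M ≤ N := by
  by_contra hle
  obtain ⟨D, hD⟩ : ∃ D, D = M ⊓ N := ⟨_, rfl⟩
  haveI : D.Normal := hD ▸ inferInstance
  haveI : Group.IsNilpotent R := hR.isNilpotent
  have hMD : ¬ M ≤ D := fun e => hle (e.trans (hD ▸ inf_le_right))
  have hND : ¬ N ≤ D := fun e => hle ((Subgroup.eq_of_le_of_card_ge (e.trans (hD ▸ inf_le_left)) hMN).symm.le)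
  obtain ⟨m, hm, hmD, hmc⟩ := Fusion.exists_fixed_mod (N := D) (C := M) (Q := ⊤)
    (by rw [Subgroup.normalizer_eq_top]) hMD
  obtain ⟨n, hn, hnD, hnc⟩ := Fusion.exists_fixed_mod (N := D) (C := N) (Q := ⊤)
    (by rw [Subgroup.normalizer_eq_top]) hND
  obtain ⟨S, hS⟩ : ∃ S, S = (Subgroup.centralizer {QuotientGroup.mk' D x₀}).comap (QuotientGroup.mk' D) ⊓ P := ⟨_, rfl⟩
  have hmemS : ∀ y, y ∈ S ↔ ⁅y, x₀⁆ ∈ D ∧ y ∈ P := fun y => by
    rw [hS, Subgroup.mem_inf, Subgroup.mem_comap, Subgroup.mem_centralizer_singleton_iff,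
      ← commutatorElement_eq_one_iff_mul_comm, ← map_commutatorElement]
    exact and_congr_left' (QuotientGroup.eq_one_iff _)
  obtain ⟨C, hC⟩ : ∃ C, C = P ⊓ Subgroup.centralizer {x₀} := ⟨_, rfl⟩
  have hCB : C ≤ omegaC h := fun y hy => by
    rw [hC] at hy
    exact ⟨hP.pow_eq y (Subgroup.mem_inf.1 hy).1,
      (Subgroup.mem_centralizer_singleton_iff.1 (Subgroup.mem_inf.1 hy).2).symm⟩
  have hCp : Nat.card C ≤ p := by
    have hlt : C < omegaC h := lt_of_le_of_ne hCB fun e => not_mem_detect hR hr hP h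
      (by
        have hxB : x₀ ∈ omegaC h := ⟨by rw [← h.ord]; exact pow_orderOf_eq_one x₀, Commute.refl _⟩
        rw [← e, hC, Subgroup.mem_inf] at hxB
        exact hxB.1)
    have h1 := (card_lt_of_lt hlt).trans_le (card_omegaC h)
    obtain ⟨j, hj⟩ := (hR.to_subgroup C).exists_card_eq
    rw [hj] at h1 ⊢
    have := (Nat.pow_lt_pow_iff_right hp.out.one_lt).1 h1
    exact (Nat.pow_le_pow_right hp.out.pos (by omega : j ≤ 1)).trans (pow_one p).le
  have hbound : Nat.card S ≤ Nat.card D * p := by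
    let f : S ⧸ C.subgroupOf S → D := Quotient.lift (fun y : S => (⟨⁅(y : R), x₀⁆, ((hmemS y).1 y.2).1⟩ : D))
      fun y y' e => by
        have e' := QuotientGroup.leftRel_apply.1 e
        rw [Subgroup.mem_subgroupOf, hC] at e'
        have e2 := Subgroup.mem_centralizer_singleton_iff.1 (Subgroup.mem_inf.1 e').2
        refine Subtype.ext ?_
        show ⁅(y : R), x₀⁆ = ⁅(y' : R), x₀⁆
        have e3 : (((y⁻¹ * y' : S) : R)) * x₀ * (((y⁻¹ * y' : S) : R))⁻¹ = x₀ := by rw [e2]; group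
        rw [show ((y' : R)) = y * ((y⁻¹ * y' : S) : R) by simp, commutatorElement_def, commutatorElement_def]
        calc (y : R) * x₀ * (y : R)⁻¹ * x₀⁻¹
            = y * (((y⁻¹ * y' : S) : R) * x₀ * (((y⁻¹ * y' : S) : R))⁻¹) * (y : R)⁻¹ * x₀⁻¹ := by rw [e3]
          _ = _ := by group
    have hf : Function.Injective f := by
      intro a b e
      induction a using QuotientGroup.induction_on with | H y =>
      induction b using QuotientGroup.induction_on with | H y' =>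
      refine QuotientGroup.eq.2 ?_
      have e1 : ⁅(y : R), x₀⁆ = ⁅(y' : R), x₀⁆ := congrArg Subtype.val e
      rw [Subgroup.mem_subgroupOf, hC, Subgroup.mem_inf, Subgroup.mem_centralizer_singleton_iff]
      refine ⟨by simpa using mul_mem (inv_mem ((hmemS y).1 y.2).2) ((hmemS y').1 y'.2).2, ?_⟩
      rw [commutatorElement_def, commutatorElement_def, mul_left_inj] at e1
      simp only [Subgroup.coe_mul, Subgroup.coe_inv]
      calc (y : R)⁻¹ * y' * x₀ = (y : R)⁻¹ * ((y' : R) * x₀ * (y' : R)⁻¹) * y' := by group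
        _ = _ := by rw [← e1]; group
    have h1 := Subgroup.card_mul_index (C.subgroupOf S)
    have h2 : (C.subgroupOf S).index ≤ Nat.card D := Nat.card_le_card_of_injective f hf
    have h3 : Nat.card (C.subgroupOf S) ≤ p :=
      (Nat.card_le_card_of_injective (fun y : C.subgroupOf S => (⟨((y : S) : R), Subgroup.mem_subgroupOf.1 y.2⟩ : C))
        fun y y' e => Subtype.ext (Subtype.ext (congrArg Subtype.val e :))).trans hCp
    rw [← h1, mul_comm]
    exact Nat.mul_le_mul h2 h3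
  have hgrow : ∀ U V : Subgroup R, U < V → Nat.card U * p ≤ Nat.card V := fun U V hlt => by
    obtain ⟨i, hi⟩ := (hR.to_subgroup U).exists_card_eq
    obtain ⟨j, hj⟩ := (hR.to_subgroup V).exists_card_eq
    have h1 := card_lt_of_lt hlt
    rw [hi, hj] at h1 ⊢
    rw [← pow_succ]
    exact Nat.pow_le_pow_right hp.out.pos ((Nat.pow_lt_pow_iff_right hp.out.one_lt).1 h1)
  have h1 : D < D ⊔ Subgroup.zpowers m := lt_of_le_of_ne le_sup_left
    fun e => hmD (e ▸ Subgroup.mem_sup_right (Subgroup.mem_zpowers m))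
  have hDS : D ≤ S := fun d hd => (hmemS d).2 ⟨by
    rw [commutatorElement_def, mul_assoc d, mul_assoc d]
    exact mul_mem hd (Subgroup.Normal.conj_mem inferInstance _ (inv_mem hd) x₀),
    hM ((hD ▸ hd : d ∈ M ⊓ N)).1⟩
  have h2 : D ⊔ Subgroup.zpowers m < S := by
    refine lt_of_le_of_ne (sup_le hDS (Subgroup.zpowers_le.2 ((hmemS m).2 ⟨hmc x₀ trivial, hM hm⟩))) fun e => ?_
    have hnS : n ∈ D ⊔ Subgroup.zpowers m := e ▸ (hmemS n).2 ⟨hnc x₀ trivial, hN hn⟩
    have hnM : n ∈ M := sup_le (hD ▸ inf_le_left) (Subgroup.zpowers_le.2 hm) hnS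
    exact hnD (hD ▸ Subgroup.mem_inf.2 ⟨hnM, hn⟩)
  have h3 := (Nat.mul_le_mul_right p (hgrow _ _ h1)).trans ((hgrow _ _ h2).trans hbound)
  have h4 := Nat.le_of_mul_le_mul_right h3 hp.out.pos
  have := hp.out.one_lt
  have hDpos : 0 < Nat.card D := Nat.card_pos
  nlinarith

/-- The action on a narrow group of rank at least three. -/
theorem narrow_action (hp2 : p ≠ 2) (hR : IsPGroup p R) (hn : Cfsg.IsNarrow p R) (hr : ¬ Cfsg.PRankLE p 2 R)
    {A : Type v} [Group A] [Finite A] (φ : A →* MulAut R) (hφ : Function.Injective φ) :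
    IsPGroup p (commutator A) ∧ ∀ g : A, (orderOf g).Coprime p → g ^ (p - 1) = 1 := by
  classical
  obtain ⟨x₀, h⟩ := exists_thin hR hn hr
  obtain ⟨P, hP⟩ := exists_detect hp2 hR
  haveI := hP.char
  have hinv : ∀ (g : A) (M : Subgroup R), M.Normal → M ≤ P → ∀ x ∈ M, φ g x ∈ M := by
    intro g M hMn hMP x hx
    haveI := hMn
    haveI : (M.map (φ g).toMonoidHom).Normal := hMn.map _ (φ g).surjective
    have hle : M.map (φ g).toMonoidHom ≤ P :=
      (Subgroup.map_mono hMP).trans (Subgroup.characteristic_iff_map_le.1 hP.char (φ g))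
    exact uniserial hR hr hP h hle hMP (by rw [Subgroup.card_map_of_injective (φ g).injective]) ⟨x, hx, rfl⟩
  let IsStep : Subgroup R → Subgroup R → Prop := fun M M' =>
    M.Normal ∧ M'.Normal ∧ M ≤ M' ∧ M' ≤ P ∧ Nat.card M' = Nat.card M * p
  let K : Subgroup A :=
    { carrier := {g | ∀ M M', IsStep M M' → ∀ x ∈ M', x⁻¹ * φ g x ∈ M}
      one_mem' := fun M M' _ x _ => by simp
      mul_mem' := fun {g g'} hg hg' M M' hs x hx => by
        obtain ⟨m, hm, e⟩ : ∃ m ∈ M, φ g' x = x * m := ⟨_, hg' M M' hs x hx, by group⟩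
        rw [map_mul, MulAut.mul_apply, e, map_mul, ← mul_assoc]
        exact mul_mem (hg M M' hs x hx) (hinv g M hs.1 (hs.2.2.1.trans hs.2.2.2.1) m hm)
      inv_mem' := fun {g} hg M M' hs x hx => by
        have hy := hinv g⁻¹ M' hs.2.1 hs.2.2.2.1 x hx
        have h1 := inv_mem (hg M M' hs _ hy)
        rwa [← MulAut.mul_apply, ← map_mul, mul_inv_cancel, map_one, MulAut.one_apply, mul_inv_rev, inv_inv] at h1 }
  have hscal : ∀ M M', IsStep M M' → ∀ g : A, ∃ i : ℕ, ¬ p ∣ i ∧ ∀ x ∈ M', (x ^ i)⁻¹ * φ g x ∈ M := by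
    intro M M' hs g
    obtain ⟨hMn, hM'n, hle, hM'P, hc⟩ := hs
    haveI := hMn
    have himg : Nat.card (M'.map (QuotientGroup.mk' M)) = p := by
      have h1 := card_map_mk'_mul_card_inf M M'
      rw [inf_eq_left.2 hle, hc, mul_comm (Nat.card M)] at h1
      exact Nat.eq_of_mul_eq_mul_right Nat.card_pos h1
    obtain ⟨t, ht, htM⟩ : ∃ t ∈ M', t ∉ M := by
      by_contra hcon
      push Not at hcon
      have h1 := Subgroup.card_le_of_le (show M' ≤ M from hcon)
      have h2 : 0 < Nat.card M := Nat.card_pos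
      have := hp.out.one_lt
      rw [hc] at h1
      nlinarith
    have ht1 : orderOf (QuotientGroup.mk' M t) = p := orderOf_eq_prime
      (by rw [← map_pow, hP.pow_eq t (hM'P ht), map_one]) fun e => htM ((QuotientGroup.eq_one_iff t).1 e)
    have hgen : ∀ x ∈ M', ∃ j : ℕ, (t ^ j)⁻¹ * x ∈ M := fun x hx => by
      have heq : Subgroup.zpowers (QuotientGroup.mk' M t) = M'.map (QuotientGroup.mk' M) :=
        Subgroup.eq_of_le_of_card_ge (Subgroup.zpowers_le.2 ⟨t, ht, rfl⟩) (by rw [himg, Nat.card_zpowers, ht1])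
      have hmem : QuotientGroup.mk' M x ∈ Subgroup.zpowers (QuotientGroup.mk' M t) := heq ▸ ⟨x, hx, rfl⟩
      rw [← mem_powers_iff_mem_zpowers] at hmem
      obtain ⟨j, hj⟩ := hmem
      exact ⟨j, QuotientGroup.eq.1 (by simpa using hj)⟩
    obtain ⟨i, hi⟩ := hgen _ (hinv g M' hM'n hM'P t ht)
    refine ⟨i, fun hd => htM ?_, fun x hx => ?_⟩
    · obtain ⟨i', rfl⟩ := hd
      rw [pow_mul, hP.pow_eq t (hM'P ht), one_pow, inv_one, one_mul] at hi
      have := hinv g⁻¹ M hMn (hle.trans hM'P) _ hi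
      rwa [← MulAut.mul_apply, ← map_mul, inv_mul_cancel, map_one, MulAut.one_apply] at this
    · obtain ⟨j, hj⟩ := hgen x hx
      rw [← QuotientGroup.eq_one_iff, ← QuotientGroup.mk'_apply, map_mul, map_inv, inv_mul_eq_one, map_pow]
      have h1 : QuotientGroup.mk' M x = QuotientGroup.mk' M t ^ j := by
        rw [← map_pow]; exact (QuotientGroup.eq.2 hj).symm
      have h2 : QuotientGroup.mk' M (φ g t) = QuotientGroup.mk' M t ^ i := by
        rw [← map_pow]; exact (QuotientGroup.eq.2 hi).symm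
      obtain ⟨m, hm, hxm⟩ : ∃ m ∈ M, x = t ^ j * m := ⟨_, hj, by group⟩
      have hm0 : QuotientGroup.mk' M (φ g m) = 1 := (QuotientGroup.eq_one_iff _).2 (hinv g M hMn (hle.trans hM'P) m hm)
      rw [h1, hxm, map_mul, map_pow (φ g), map_mul, map_pow, h2, hm0, mul_one, ← pow_mul, ← pow_mul, mul_comm]
  have hcomp : ∀ M M', IsStep M M' → ∀ g g' : A, ∀ i i' : ℕ, (∀ x ∈ M', (x ^ i)⁻¹ * φ g x ∈ M) →
      (∀ x ∈ M', (x ^ i')⁻¹ * φ g' x ∈ M) → ∀ x ∈ M', (x ^ (i * i'))⁻¹ * φ (g * g') x ∈ M := by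
    intro M M' hs g g' i i' hg hg' x hx
    haveI := hs.1
    obtain ⟨m, hm, e⟩ : ∃ m ∈ M, φ g' x = x ^ i' * m := ⟨_, hg' x hx, by group⟩
    rw [map_mul, MulAut.mul_apply, e, map_mul, ← mul_assoc]
    refine mul_mem ?_ (hinv g M hs.1 (hs.2.2.1.trans hs.2.2.2.1) m hm)
    rw [map_pow, ← QuotientGroup.eq_one_iff, ← QuotientGroup.mk'_apply, map_mul, map_inv, inv_mul_eq_one, map_pow,
      map_pow, pow_mul]
    congr 1
    rw [← map_pow]
    exact QuotientGroup.eq.2 (hg x hx)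
  have hK : IsPGroup p K := isPGroup_of_pPrime _ fun g hg hco => by
    refine hφ ?_
    rw [map_one]
    have hco' := hco.coprime_dvd_left (orderOf_map_dvd φ g)
    have hall : ∀ n, ∀ M : Subgroup R, M.Normal → M ≤ P → Nat.card M = n → ∀ x ∈ M, φ g x = x := by
      intro n
      induction n using Nat.strong_induction_on with
      | _ n ih =>
      intro M hMn hMP hc x hx
      obtain ⟨i, hi⟩ := (hR.to_subgroup M).exists_card_eq
      rcases Nat.eq_zero_or_pos i with rfl | hi0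
      · rw [pow_zero, Subgroup.card_eq_one] at hi
        rw [hi, Subgroup.mem_bot] at hx
        rw [hx, map_one]
      · haveI := hMn
        obtain ⟨M₀, hM₀n, hM₀le, hM₀c⟩ := Fusion.exists_normal_le_of_card hR M (i - 1)
          (hi ▸ Nat.pow_le_pow_right hp.out.pos (Nat.sub_le _ _))
        have hcard : Nat.card M = Nat.card M₀ * p := by
          rw [hi, hM₀c, ← pow_succ, Nat.sub_add_cancel hi0]
        refine fix_step hR (φ g) hco' M₀ ?_ (hg M₀ M ⟨hM₀n, hMn, hM₀le, hMP, hcard⟩ x hx)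
        refine ih _ ?_ M₀ hM₀n (hM₀le.trans hMP) rfl
        rw [← hc, hcard]
        exact lt_mul_right Nat.card_pos hp.out.one_lt
    exact hP.det _ hco' (hall _ P inferInstance le_rfl rfl)
  have hKn : K.Normal := ⟨fun k hk g M M' hs x hx => by
    obtain ⟨m, hm, e⟩ : ∃ m ∈ M, φ k (φ g⁻¹ x) = φ g⁻¹ x * m :=
      ⟨_, hk M M' hs _ (hinv g⁻¹ M' hs.2.1 hs.2.2.2.1 x hx), by group⟩
    have e2 : φ g (φ g⁻¹ x) = x := by rw [← MulAut.mul_apply, ← map_mul, mul_inv_cancel, map_one]; rfl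
    rw [map_mul, map_mul, MulAut.mul_apply, MulAut.mul_apply, e, map_mul, e2, inv_mul_cancel_left]
    exact hinv g M hs.1 (hs.2.2.1.trans hs.2.2.2.1) m hm⟩
  refine ⟨?_, fun g hco => ?_⟩
  · refine hK.to_le ?_
    rw [commutator_def, Subgroup.commutator_le]
    intro g _ g' _ M M' hs x hx
    haveI := hs.1
    obtain ⟨i, -, hi⟩ := hscal M M' hs g
    obtain ⟨i', -, hi'⟩ := hscal M M' hs g'
    have hw : ∀ y ∈ M', φ (g' * g) y ∈ M' := fun y hy => hinv _ M' hs.2.1 hs.2.2.2.1 y hy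
    obtain ⟨y, hy, rfl⟩ : ∃ y ∈ M', x = φ (g' * g) y :=
      ⟨_, hinv (g' * g)⁻¹ M' hs.2.1 hs.2.2.2.1 x hx, by rw [← MulAut.mul_apply, ← map_mul, mul_inv_cancel, map_one]; rfl⟩
    rw [← MulAut.mul_apply, ← map_mul, show ⁅g, g'⁆ * (g' * g) = g * g' by rw [commutatorElement_def]; group]
    have e1 := hcomp M M' hs g g' i i' hi hi' y hy
    have e2 := hcomp M M' hs g' g i' i hi' hi y hy
    rw [mul_comm i' i] at e2
    have e3 := mul_mem (inv_mem e2) e1
    rwa [mul_inv_rev, inv_inv, mul_assoc, mul_inv_cancel_left] at e3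
  · have hgK : g ^ (p - 1) ∈ K := by
      intro M M' hs x hx
      haveI := hs.1
      obtain ⟨i, hpi, hi⟩ := hscal M M' hs g
      have hn : ∀ n : ℕ, ∀ y ∈ M', (y ^ (i ^ n))⁻¹ * φ (g ^ n) y ∈ M := by
        intro n
        induction n with
        | zero => intro y _; simp
        | succ n ih =>
          rw [pow_succ g, pow_succ i]
          exact hcomp M M' hs _ _ _ _ ih hi
      have h1 := hn (p - 1) x hx
      have hmod : i ^ (p - 1) % p = 1 := by
        have := Nat.ModEq.pow_totient ((Nat.Prime.coprime_iff_not_dvd hp.out).2 hpi).symm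
        rw [Nat.totient_prime hp.out] at this
        rw [this, Nat.mod_eq_of_lt hp.out.one_lt]
      rw [← Nat.div_add_mod (i ^ (p - 1)) p, hmod, pow_add, pow_mul, hP.pow_eq x (hs.2.2.2.1 hx), one_pow, one_mul,
        pow_one] at h1
      exact h1
    have hco2 := hco.coprime_dvd_left (orderOf_pow_dvd (n := p - 1) (x := g))
    obtain ⟨k, hk⟩ := hK ⟨_, hgK⟩
    exact orderOf_eq_one_iff.1 (Nat.eq_one_of_dvd_coprimes (hco2.pow_right k) dvd_rfl
      (orderOf_dvd_of_pow_eq_one (congrArg Subtype.val hk)))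

end Narrow

end Cfsg.Agent.Solv.RankTwo
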