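import Mathlib
import Cfsg.Agent.Lib.Solv.RankTwoAction

/-!
The conjugation action of a subgroup normalizing a subgroup.
-/

set_option autoImplicit false
set_option linter.style.haveILetI false

namespace Cfsg.Agent.Solv.RankTwo

universe u

variable {G : Type u} [Group G]

theorem exists_conj (R A : Subgroup G) (hA : A ≤ Subgroup.normalizer (R : Set G)) :
    ∃ φ : A →* MulAut R, ∀ (a : A) (x : R), ((φ a x : R) : G) = a * x * (a : G)⁻¹ :=
  ⟨(Subgroup.normalizerMonoidHom R).comp (Subgroup.inclusion hA), fun _ _ => rfl⟩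

theorem injective_of_faithful {R A : Subgroup G} (hfaith : A ⊓ Subgroup.centralizer (R : Set G) = ⊥)
    {φ : A →* MulAut R} (hφ : ∀ (a : A) (x : R), ((φ a x : R) : G) = a * x * (a : G)⁻¹) :
    Function.Injective φ := by
  rw [injective_iff_map_eq_one]
  intro a ha
  refine Subtype.ext (Subgroup.mem_bot.1 (hfaith ▸ Subgroup.mem_inf.2 ⟨a.2, Subgroup.mem_centralizer_iff.2 ?_⟩))
  intro x hx
  have h := hφ a ⟨x, hx⟩
  rw [ha] at h
  exact (eq_mul_inv_iff_mul_eq.1 (h : x = _))

end Cfsg.Agent.Solv.RankTwo
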