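import Mathlib
import Cfsg.Agent.Lib.Solv.RankTwoConj
import Cfsg.Agent.Lib.Solv.PLength
import Cfsg.Agent.Lib.Fusion.NPC
import Cfsg.Agent.Lib.Fusion.SolvableBalance

/-!
Solvable groups of odd order whose `p`-core modulo the `p'`-core is narrow.
-/

set_option autoImplicit false
set_option linter.style.haveILetI false

namespace Cfsg.Agent.Solv.RankTwo

open Cfsg
open Cfsg.Agent.Solv

universe u v

variable {p : ℕ} [hp : Fact p.Prime]

theorem isNarrow_mulEquiv {R : Type u} [Group R] {R' : Type v} [Group R'] (e : R ≃* R') (h : IsNarrow p R) :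
    IsNarrow.{v} p R' := by
  rcases h with h | ⟨R₀, R₁, h0, h1, hinf, hc, hsup⟩
  · refine Or.inl fun A hA hAe => ?_
    haveI := hA
    have h2 := h (A.map e.symm.toMonoidHom) inferInstance (by
      rintro _ ⟨a, ha, rfl⟩
      rw [← map_pow, hAe a ha, map_one])
    rwa [Subgroup.card_map_of_injective e.symm.injective] at h2
  · haveI := h1
    refine Or.inr ⟨R₀.map e.toMonoidHom, R₁.map e.toMonoidHom,
      by rw [Subgroup.card_map_of_injective e.injective, h0],
      isCyclic_of_surjective (e.toMonoidHom.subgroupMap R₁) (MonoidHom.subgroupMap_surjective _ _), ?_, ?_, ?_⟩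
    · rw [← Subgroup.map_inf _ _ _ e.injective, hinf, Subgroup.map_bot]
    · rintro _ ⟨a, ha, rfl⟩ _ ⟨b, hb, rfl⟩
      rw [← map_mul, ← map_mul, hc a ha b hb]
    · rw [← Subgroup.map_sup, hsup]
      ext y
      constructor
      · rintro ⟨x, hx, rfl⟩
        refine Subgroup.mem_centralizer_iff.2 ?_
        rintro _ ⟨a, ha, rfl⟩
        show e a * e x = e x * e a
        rw [← map_mul, ← map_mul, Subgroup.mem_centralizer_iff.1 hx a ha]
      · intro hy
        refine ⟨e.symm y, Subgroup.mem_centralizer_iff.2 fun a ha => e.injective ?_, e.apply_symm_apply y⟩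
        rw [map_mul, map_mul, e.apply_symm_apply]
        exact Subgroup.mem_centralizer_iff.1 hy (e a) ⟨a, ha, rfl⟩

theorem prankLE_mulEquiv {R : Type u} [Group R] {R' : Type v} [Group R'] (e : R ≃* R') (h : PRankLE p 2 R) :
    PRankLE p 2 R' := fun A hA hAe => by
  haveI := hA
  have h2 := h (A.map e.symm.toMonoidHom) inferInstance (by
    rintro _ ⟨a, ha, rfl⟩
    rw [← map_pow, hAe a ha, map_one])
  rwa [Subgroup.card_map_of_injective e.symm.injective] at h2

theorem prankLE_of_injective {k : ℕ} {R : Type u} [Group R] {R' : Type v} [Group R'] (f : R →* R')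
    (hf : Function.Injective f) (h : PRankLE p k R') : PRankLE p k R := fun A hA hAe => by
  haveI := hA
  have h2 := h (A.map f) inferInstance (by
    rintro _ ⟨a, ha, rfl⟩
    rw [← map_pow, hAe a ha, map_one])
  rwa [Subgroup.card_map_of_injective hf] at h2

/-- An odd-order group acting faithfully on a narrow group. -/
theorem action (hp2 : p ≠ 2) {R : Type u} [Group R] [Finite R] (hR : IsPGroup p R) (hn : IsNarrow p R)
    {A : Type v} [Group A] [Finite A] [Group.IsSolvable A] (hodd : Odd (Nat.card A))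
    (φ : A →* MulAut R) (hφ : Function.Injective φ) :
    IsPGroup p (commutator A) ∧ ∀ q : ℕ, q.Prime → q ∣ Nat.card A → q ≤ p := by
  by_cases hr : PRankLE p 2 R
  · refine ⟨commutator_rank_two hp2 hR hr hodd φ hφ, fun q hq hqd => ?_⟩
    rcases eq_or_ne q p with rfl | hqp
    · exact le_rfl
    have h1 : q ∣ p ^ 2 - 1 := Fusion.prime_dvd_aut_of_rank_two hp2 hR hr q hq hqp
      (hqd.trans ((Nat.card_congr (MonoidHom.ofInjective hφ).toEquiv).dvd.trans (Subgroup.card_subgroup_dvd_card _)))
    have h2 : p ^ 2 - 1 = (p + 1) * (p - 1) := by simpa using Nat.sq_sub_sq p 1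
    have hge := hp.out.two_le
    rw [h2] at h1
    rcases (Nat.Prime.dvd_mul hq).1 h1 with h | h
    · by_contra hlt
      have hq1 : q = p + 1 := by
        have := Nat.le_of_dvd (by omega) h
        omega
      have hqodd : Odd q := hodd.of_dvd_nat hqd
      have hpodd : Odd p := hp.out.odd_of_ne_two hp2
      rw [hq1] at hqodd
      exact (Nat.not_even_iff_odd.2 hqodd) hpodd.add_one
    · have := Nat.le_of_dvd (by omega) h
      omega
  · obtain ⟨h1, h2⟩ := narrow_action hp2 hR hn hr φ hφ
    refine ⟨h1, fun q hq hqd => ?_⟩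
    rcases eq_or_ne q p with rfl | hqp
    · exact le_rfl
    haveI := Fact.mk hq
    obtain ⟨a, ha⟩ := exists_prime_orderOf_dvd_card' q hqd
    have h3 := orderOf_dvd_of_pow_eq_one (h2 a (by rw [ha]; exact (Nat.coprime_primes hq hp.out).2 hqp))
    rw [ha] at h3
    have := Nat.le_of_dvd (by have := hp.out.two_le; omega) h3
    omega

theorem hnpc_of_normal {G : Type u} [Group G] [Finite G] (N : Subgroup G) [N.Normal]
    (hco : (Nat.card N).Coprime p) {k : ℕ} (hk : N.index = p ^ k) : HasNormalPComplement p G := by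
  obtain ⟨P⟩ : Nonempty (Sylow p G) := inferInstance
  refine ⟨P, N, inferInstance, Subgroup.isComplement'_of_coprime ?_ ?_⟩
  · obtain ⟨j, hj⟩ := P.isPGroup'.exists_card_eq
    have h1 : k = j := by
      have h2 := P.card_eq_multiplicity
      rw [hj] at h2
      have h3 : (Nat.card G).factorization p = k := by
        rw [← N.card_mul_index, hk, Nat.factorization_mul Nat.card_pos.ne' (pow_ne_zero _ hp.out.ne_zero),
          Finsupp.add_apply, Nat.factorization_eq_zero_of_not_dvd (hp.out.coprime_iff_not_dvd.1 hco.symm),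
          hp.out.factorization_pow, Finsupp.single_eq_same, zero_add]
      rw [h3] at h2
      exact (Nat.pow_right_injective hp.out.two_le h2).symm
    rw [hj, ← h1, ← hk, N.card_mul_index]
  · obtain ⟨j, hj⟩ := P.isPGroup'.exists_card_eq
    rw [hj]
    exact hco.pow_right j

variable {G : Type u} [Group G] [Finite G]

/-- The conclusions of the statements on groups with narrow core. -/
theorem narrow_core [Group.IsSolvable G] (hodd : Odd (Nat.card G)) (hpG : p ∣ Nat.card G)
    (hn : IsNarrow p ↥(pCore p (G ⧸ pPrimeCore p G))) :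
    (∀ q : ℕ, q.Prime → q ∣ (Cfsg.pPrimeCore p G).index → q ≤ p) ∧
      ((p = 3 ∨ ∀ q : ℕ, q.Prime → q ∣ Nat.card G → p ≤ q) → Cfsg.HasNormalPComplement p G) ∧
      Cfsg.HasNormalPComplement p ↥(commutator G) ∧
      (∀ L : Subgroup ↥(commutator G), (Nat.card L).Coprime p → L ≤ Cfsg.pPrimeCore p ↥(commutator G)) ∧
      commutator G ≤ Cfsg.pPrimePCore p G ∧ ((Cfsg.pPrimePCore p G).index).Coprime p := by
  classical
  have hp2 : p ≠ 2 := fun h => (Nat.not_even_iff_odd.2 hodd) (even_iff_two_dvd.2 (h ▸ hpG))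
  obtain ⟨O, hO⟩ : ∃ O, O = pPrimeCore p G := ⟨_, rfl⟩
  haveI : O.Normal := hO ▸ Cfsg.pPrimeCore_normal p G
  have hOco : (Nat.card O).Coprime p := hO ▸ Fusion.card_pPrimeCore_coprime p G
  have h0 : pPrimeCore p (G ⧸ O) = ⊥ := hO ▸ Fusion.pPrimeCore_quotient_eq_bot
  have hn' : IsNarrow p ↥(pCore p (G ⧸ O)) := by subst hO; exact hn
  obtain ⟨T, hT⟩ : ∃ T, T = pCore p (G ⧸ O) := ⟨_, rfl⟩
  haveI : T.Normal := hT ▸ Cfsg.pCore_normal p (G ⧸ O)
  rw [← hT] at hn'
  have hTp : IsPGroup p T := hT ▸ Fusion.isPGroup_pCore p _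
  have hCT : Subgroup.centralizer (T : Set (G ⧸ O)) ≤ T :=
    hT ▸ Fusion.centralizer_pCore_le_of_solvable inferInstance h0
  obtain ⟨C, hC⟩ : ∃ C, C = Subgroup.centralizer (T : Set (G ⧸ O)) := ⟨_, rfl⟩
  haveI : C.Normal := hC ▸ inferInstance
  have hCp : IsPGroup p C := hTp.to_le (hC ▸ hCT)
  have hodd' : Odd (Nat.card (G ⧸ O)) := hodd.of_dvd_nat (Subgroup.card_quotient_dvd_card O)
  obtain ⟨φ₀, hφ₀⟩ : ∃ φ : (G ⧸ O) →* MulAut T, φ.ker = C := ⟨MulAut.conjNormal (H := T), by
    ext g
    rw [MonoidHom.mem_ker, hC, Subgroup.mem_centralizer_iff]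
    constructor
    · intro h x hx
      have h1 := congrArg Subtype.val (DFunLike.congr_fun h ⟨x, hx⟩)
      rw [MulAut.conjNormal_apply] at h1
      exact (mul_inv_eq_iff_eq_mul.1 h1).symm
    · intro h
      refine MulEquiv.ext fun x => Subtype.ext ?_
      rw [MulAut.conjNormal_apply, ← h x x.2, mul_inv_cancel_right]
      rfl⟩
  subst hφ₀
  haveI : Group.IsSolvable ((G ⧸ O) ⧸ φ₀.ker) := Group.isSolvable_of_surjective (QuotientGroup.mk'_surjective _)
  obtain ⟨hA, hAq⟩ := action hp2 hTp hn' (hodd'.of_dvd_nat (Subgroup.card_quotient_dvd_card φ₀.ker))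
    (QuotientGroup.kerLift φ₀) (QuotientGroup.kerLift_injective φ₀)
  have hder : IsPGroup p (commutator (G ⧸ O)) := isPGroup_commutator_of_ker φ₀.ker hCp hA
  obtain ⟨hle, hidx⟩ := pCore_facts hder
  have hq : ∀ q : ℕ, q.Prime → q ∣ O.index → q ≤ p := by
    intro q hq hqd
    rw [Subgroup.index_eq_card, ← φ₀.ker.card_mul_index] at hqd
    rcases (Nat.Prime.dvd_mul hq).1 hqd with h | h
    · obtain ⟨j, hj⟩ := hCp.exists_card_eq
      rw [hj] at h
      exact ((Nat.prime_dvd_prime_iff_eq hq hp.out).1 (hq.dvd_of_dvd_pow h)).le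
    · rw [Subgroup.index_eq_card] at h
      exact hAq q hq h
  have hcomm : IsPGroup p ((commutator G).map (QuotientGroup.mk' O)) := by
    refine hder.to_le ?_
    rw [commutator_def, commutator_def, Subgroup.map_commutator]
    exact Subgroup.commutator_mono le_top le_top
  obtain ⟨N, hN⟩ : ∃ N, N = O.subgroupOf (commutator G) := ⟨_, rfl⟩
  haveI : N.Normal := hN ▸ inferInstance
  have hNco : (Nat.card N).Coprime p := by
    refine hOco.coprime_dvd_left ?_
    rw [hN, ← Subgroup.card_map_of_injective (commutator G).subtype_injective, Subgroup.subgroupOf_map_subtype]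
    exact Subgroup.card_dvd_of_le inf_le_left
  obtain ⟨j, hj⟩ := hcomm.exists_card_eq
  have hNi : N.index = p ^ j := by
    rw [← hj, hN]
    show O.relIndex (commutator G) = _
    have h1 := Subgroup.relIndex_ker (commutator G) (QuotientGroup.mk' O)
    rwa [QuotientGroup.ker_mk'] at h1
  subst hO
  refine ⟨hq, fun h => ?_, hnpc_of_normal N hNco hNi, fun L hL => ?_, ?_, ?_⟩
  · have hall : ∀ {q : ℕ}, q.Prime → q ∣ (pPrimeCore p G).index → q = p := by
      intro q hq' hqd
      have h1 := hq q hq' hqd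
      have hqG : q ∣ Nat.card G := hqd.trans (Subgroup.index_dvd_card _)
      rcases h with h | h
      · have h3 : Odd q := hodd.of_dvd_nat hqG
        have := hq'.two_le
        obtain ⟨c, hc⟩ := h3
        omega
      · exact le_antisymm h1 (h q hq' hqG)
    exact hnpc_of_normal _ hOco (Nat.eq_prime_pow_of_unique_prime_dvd Subgroup.index_ne_zero_of_finite hall)
  · have h1 : L ≤ N := le_of_coprime_index N L (by rw [hNi]; exact hL.pow_right j)
    exact h1.trans (Fusion.le_pPrimeCore hNco)
  · rw [pPrimePCore, ← Subgroup.map_le_iff_le_comap]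
    refine le_trans ?_ hle
    rw [commutator_def, commutator_def, Subgroup.map_commutator]
    exact Subgroup.commutator_mono le_top le_top
  · rw [pPrimePCore, Subgroup.index_comap_of_surjective _ (QuotientGroup.mk'_surjective _)]
    exact hidx

theorem narrow_core_of_rank [Group.IsSolvable G] (hr : PRankLE p 2 G) :
    IsNarrow p ↥(pCore p (G ⧸ pPrimeCore p G)) := by
  obtain ⟨O, hO⟩ : ∃ O, O = pPrimeCore p G := ⟨_, rfl⟩
  haveI : O.Normal := hO ▸ Cfsg.pPrimeCore_normal p G
  obtain ⟨S⟩ : Nonempty (Sylow p G) := inferInstance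
  subst hO
  have hinj : Function.Injective ((QuotientGroup.mk' (pPrimeCore p G)).comp (S : Subgroup G).subtype) := by
    rw [injective_iff_map_eq_one]
    intro x hx
    obtain ⟨k, hk⟩ := S.isPGroup' x
    exact Subtype.ext (orderOf_eq_one_iff.1 (Nat.eq_one_of_dvd_coprimes
      ((Fusion.card_pPrimeCore_coprime p G).pow_right k)
      (Subgroup.orderOf_dvd_natCard _ ((QuotientGroup.eq_one_iff _).1 hx))
      (orderOf_dvd_of_pow_eq_one (congrArg Subtype.val hk))))
  obtain ⟨T, hT⟩ : ∃ T : Sylow p (G ⧸ pPrimeCore p G),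
      (T : Subgroup _) = (S : Subgroup G).map (QuotientGroup.mk' (pPrimeCore p G)) :=
    ⟨S.mapSurjective (QuotientGroup.mk'_surjective _), rfl⟩
  refine Or.inl (prankLE_of_injective (Subgroup.inclusion (Fusion.pCore_le_sylow T))
    (Subgroup.inclusion_injective _) ?_)
  refine prankLE_mulEquiv ((MonoidHom.ofInjective hinj).trans (MulEquiv.subgroupCongr ?_))
    (prankLE_of_injective (S : Subgroup G).subtype (S : Subgroup G).subtype_injective hr)
  rw [MonoidHom.range_comp, Subgroup.range_subtype, hT]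

theorem narrow_core_of_sylow [Group.IsSolvable G] (S : Sylow p G) (hS : IsNarrow p ↥(S : Subgroup G))
    (hpl : ¬ PRankLE p 2 ↥(S : Subgroup G) → PLengthLE p 1 G) :
    IsNarrow p ↥(pCore p (G ⧸ pPrimeCore p G)) := by
  have hinj : Function.Injective ((QuotientGroup.mk' (pPrimeCore p G)).comp (S : Subgroup G).subtype) := by
    rw [injective_iff_map_eq_one]
    intro x hx
    obtain ⟨k, hk⟩ := S.isPGroup' x
    exact Subtype.ext (orderOf_eq_one_iff.1 (Nat.eq_one_of_dvd_coprimes
      ((Fusion.card_pPrimeCore_coprime p G).pow_right k)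
      (Subgroup.orderOf_dvd_natCard _ ((QuotientGroup.eq_one_iff _).1 hx))
      (orderOf_dvd_of_pow_eq_one (congrArg Subtype.val hk))))
  obtain ⟨T, hT⟩ : ∃ T : Sylow p (G ⧸ pPrimeCore p G),
      (T : Subgroup _) = (S : Subgroup G).map (QuotientGroup.mk' (pPrimeCore p G)) :=
    ⟨S.mapSurjective (QuotientGroup.mk'_surjective _), rfl⟩
  have e : ↥(S : Subgroup G) ≃* ↥(T : Subgroup (G ⧸ pPrimeCore p G)) :=
    (MonoidHom.ofInjective hinj).trans (MulEquiv.subgroupCongr
      (by rw [MonoidHom.range_comp, Subgroup.range_subtype, hT]))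
  by_cases hr : PRankLE p 2 ↥(S : Subgroup G)
  · exact Or.inl (prankLE_of_injective (Subgroup.inclusion (Fusion.pCore_le_sylow T))
      (Subgroup.inclusion_injective _) (prankLE_mulEquiv e hr))
  · haveI := Cfsg.pPrimeCore_normal p G
    haveI := Cfsg.pCore_normal p (G ⧸ pPrimeCore p G)
    have h0 : pPrimeCore p (G ⧸ pPrimeCore p G) = ⊥ := Fusion.pPrimeCore_quotient_eq_bot
    have h1 := ((((PLen.pLengthLE_iff 1).1 (hpl hr)).quotient (pPrimeCore p G)).quotient_pCore h0).zero
    have heq : (T : Subgroup (G ⧸ pPrimeCore p G)) = pCore p (G ⧸ pPrimeCore p G) := by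
      refine le_antisymm (le_of_coprime_index _ _ ?_) (Fusion.pCore_le_sylow T)
      obtain ⟨j, hj⟩ := T.isPGroup'.exists_card_eq
      rw [hj, Subgroup.index_eq_card]
      exact h1.symm.pow_left j
    exact isNarrow_mulEquiv (e.trans (MulEquiv.subgroupCongr heq)) hS

end Cfsg.Agent.Solv.RankTwo
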