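import Cfsg.Agent.Lib.Solv.Subnormal

/-!
Wielandt's zipper lemma, his subnormality criterion, and the Baer-Suzuki theorem.
-/

set_option autoImplicit false

open scoped Pointwise

namespace Cfsg.Agent.Solv

universe u

variable {G : Type u} [Group G]

theorem exists_conj_le_normalizer {S : Subgroup G} (hS : S.IsSubnormal) (hn : ¬ S.Normal) :
    ∃ x : G, MulAut.conj x • S ≠ S ∧
      MulAut.conj x • S ≤ Subgroup.normalizer (S : Set G) := by
  suffices H : ∀ H : Subgroup G, H.IsSubnormal → ∀ S : Subgroup G, ¬ S.Normal → S ≤ H →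
      H ≤ Subgroup.normalizer (S : Set G) → ∃ x : G, MulAut.conj x • S ≠ S ∧
        MulAut.conj x • S ≤ Subgroup.normalizer (S : Set G) from
    H S hS S hn le_rfl Subgroup.le_normalizer
  intro H hH
  induction hH with
  | top =>
    intro S hn _ hle
    exact absurd (Subgroup.normalizer_eq_top_iff.1 (top_le_iff.1 hle)) hn
  | step H K hle _ hN ih =>
    intro S hn hSH hHN
    by_cases hK : K ≤ Subgroup.normalizer (S : Set G)
    · exact ih S hn (hSH.trans hle) hK
    obtain ⟨x, hxK, hxN⟩ := SetLike.not_le_iff_exists.1 hK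
    refine ⟨x, fun h => hxN (mem_normalizer_of_conj_smul h), ?_⟩
    refine le_trans ?_ hHN
    rw [← conj_smul_of_mem_normalizer ((Subgroup.normal_subgroupOf_iff_le_normalizer hle).1 hN hxK)]
    exact Subgroup.pointwise_smul_le_pointwise_smul_iff.2 hSH

/-- `S` is subnormal in every proper subgroup containing it. -/
def SubnormalBelow (S : Subgroup G) : Prop :=
  ∀ H : Subgroup G, H ≠ ⊤ → S ≤ H → (S.subgroupOf H).IsSubnormal

theorem SubnormalBelow.conj {S : Subgroup G} (h : SubnormalBelow S) (x : G) :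
    SubnormalBelow (MulAut.conj x • S) := by
  intro H hH hle
  set H' := MulAut.conj x⁻¹ • H with hH'
  have hSH' : S ≤ H' := by
    intro s hs
    rw [hH', mem_conj_smul, inv_inv]
    refine hle ?_
    rw [mem_conj_smul]
    simpa [mul_assoc] using hs
  have hH't : H' ≠ ⊤ := by
    intro e
    apply hH
    rw [← conj_one_smul H, ← mul_inv_cancel x, ← conj_smul_conj, ← hH', e,
      Subgroup.Normal.conj_smul_eq_self]
  have hmem : ∀ y : H', x * (y : G) * x⁻¹ ∈ H := fun y => by
    have h2 : (y : G) ∈ MulAut.conj x⁻¹ • H := y.2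
    rwa [mem_conj_smul, inv_inv] at h2
  let f : H' →* H := ((MulAut.conj x).toMonoidHom.comp H'.subtype).codRestrict H hmem
  have hf : Function.Surjective f := by
    intro y
    refine ⟨⟨x⁻¹ * y * x, ?_⟩, Subtype.ext ?_⟩
    · rw [hH', mem_conj_smul, inv_inv]
      simpa [mul_assoc] using y.2
    · show x * (x⁻¹ * (y : G) * x) * x⁻¹ = y
      group
  have h2 := (h H' hH't hSH').map hf
  convert h2 using 1
  ext y
  rw [Subgroup.mem_subgroupOf, mem_conj_smul, Subgroup.mem_map]
  constructor
  · intro hy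
    refine ⟨⟨x⁻¹ * y * x, ?_⟩, hy, Subtype.ext ?_⟩
    · rw [hH', mem_conj_smul, inv_inv]
      simpa [mul_assoc] using y.2
    · show x * (x⁻¹ * (y : G) * x) * x⁻¹ = y
      group
  · rintro ⟨z, hz, rfl⟩
    show x⁻¹ * (x * (z : G) * x⁻¹) * x ∈ S
    simpa [mul_assoc, Subgroup.mem_subgroupOf] using hz

/-- Wielandt's zipper lemma. -/
theorem zipper [Finite G] : ∀ S : Subgroup G, SubnormalBelow S → ¬ S.IsSubnormal →
    ∀ M K : Subgroup G, IsCoatom M → IsCoatom K → S ≤ M → S ≤ K → M = K := by
  intro S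
  induction S using WellFoundedGT.induction with
  | _ S ih =>
    intro hb hns
    have hNt : Subgroup.normalizer (S : Set G) ≠ ⊤ := fun h =>
      hns (Subgroup.Normal.isSubnormal (Subgroup.normalizer_eq_top_iff.1 h))
    obtain ⟨M₀, hM₀, hNM₀⟩ := (eq_top_or_exists_le_coatom _).resolve_left hNt
    suffices key : ∀ K : Subgroup G, IsCoatom K → S ≤ K → K = M₀ from
      fun M K hM hK hSM hSK => (key M hM hSM).trans (key K hK hSK).symm
    intro K hK hSK
    have hsK := hb K hK.1 hSK
    by_cases hn : (S.subgroupOf K).Normal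
    · exact ((hK.le_iff.1 (((Subgroup.normal_subgroupOf_iff_le_normalizer hSK).1 hn).trans hNM₀)
        ).resolve_left hM₀.1).symm
    obtain ⟨x, hx1, hx2⟩ := exists_conj_le_normalizer hsK hn
    set S' := MulAut.conj (x : G) • S with hS'
    have hS'K : S' ≤ K := by
      rw [← Subgroup.conj_smul_eq_self_of_mem x.2]
      exact Subgroup.pointwise_smul_le_pointwise_smul_iff.2 hSK
    have hne : S' ≠ S := by
      intro e
      refine hx1 ?_
      ext y
      rw [mem_conj_smul, Subgroup.mem_subgroupOf, Subgroup.mem_subgroupOf]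
      push_cast
      rw [← mem_conj_smul, ← hS', e]
    have hS'N : S' ≤ Subgroup.normalizer (S : Set G) := by
      intro y hy
      have h2 : (⟨y, hS'K hy⟩ : K) ∈ MulAut.conj x • S.subgroupOf K := by
        rw [mem_conj_smul, Subgroup.mem_subgroupOf]
        push_cast
        rw [← mem_conj_smul]
        exact hy
      have h3 := Subgroup.le_normalizer_map K.subtype ⟨_, hx2 h2, rfl⟩
      rwa [Subgroup.map_subgroupOf_eq_of_le hSK] at h3
    set T := S ⊔ S' with hT
    have hlt : S < T := lt_of_le_of_ne le_sup_left fun e => hne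
      (Subgroup.eq_of_le_of_card_ge (e.ge.trans' le_sup_right) (by rw [hS', card_conj_smul]))
    have hTN : T ≤ Subgroup.normalizer (S : Set G) := sup_le Subgroup.le_normalizer hS'N
    have hTns : ¬ T.IsSubnormal := fun h => hns (Subgroup.IsSubnormal.step S T le_sup_left h
      ((Subgroup.normal_subgroupOf_iff_le_normalizer le_sup_left).2 hTN))
    have hTb : SubnormalBelow T := by
      intro H hH hle
      rw [hT, Subgroup.subgroupOf_sup (le_sup_left.trans hle) (le_sup_right.trans hle)]
      exact isSubnormal_sup (hb H hH (le_sup_left.trans hle))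
        (hb.conj (x : G) H hH (le_sup_right.trans hle))
    exact ih T hlt hTb hTns K M₀ hK hM₀ (sup_le hSK hS'K) (hTN.trans hNM₀)

/-- Wielandt: `A` subnormal in its join with each of its conjugates is subnormal. -/
theorem wielandt_criterion : ∀ (n : ℕ) (G : Type u) [Group G] [Finite G], Nat.card G = n →
    ∀ A : Subgroup G,
      (∀ g : G, (A.subgroupOf (A ⊔ MulAut.conj g • A)).IsSubnormal) → A.IsSubnormal := by
  intro n
  induction n using Nat.strong_induction_on with
  | _ n ih =>
    intro G _ _ hn A h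
    have hb : SubnormalBelow A := by
      intro H hH hAH
      refine ih _ (hn ▸ card_lt_of_ne_top hH) H rfl _ fun g => ?_
      set J := A ⊔ MulAut.conj (g : G) • A
      have hJH : J ≤ H := sup_le hAH (
        (Subgroup.pointwise_smul_le_pointwise_smul_iff.2 hAH).trans
          (Subgroup.conj_smul_eq_self_of_mem g.2).le)
      have hJ' : A.subgroupOf H ⊔ MulAut.conj g • A.subgroupOf H = J.subgroupOf H := by
        rw [Subgroup.subgroupOf_sup hAH (le_sup_right.trans hJH)]
        congr 1
        ext y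
        rw [mem_conj_smul, Subgroup.mem_subgroupOf, Subgroup.mem_subgroupOf, mem_conj_smul]
        push_cast
        rfl
      rw [hJ']
      exact (h (g : G)).map (f := (Subgroup.subgroupOfEquivOfLe hJH).symm.toMonoidHom)
        (MulEquiv.surjective _) |> fun h2 => by
          convert h2 using 1
          ext ⟨⟨y, hyH⟩, hy⟩
          constructor
          · intro hyA
            exact ⟨⟨y, hy⟩, hyA, rfl⟩
          · rintro ⟨⟨z, hz⟩, hzA, e⟩
            have e' : z = y := congrArg (fun w : J.subgroupOf H => ((w : H) : G)) e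
            subst e'
            exact hzA
    by_contra hns
    by_cases htop : ∃ g : G, A ⊔ MulAut.conj g • A = ⊤
    · obtain ⟨g, hg⟩ := htop
      refine hns (Subgroup.IsSubnormal.trans le_sup_left (h g) ?_)
      rw [hg]
      exact Subgroup.IsSubnormal.top
    push Not at htop
    obtain ⟨M, hM, hAM⟩ : ∃ M : Subgroup G, IsCoatom M ∧ A ≤ M := by
      refine (eq_top_or_exists_le_coatom A).resolve_left fun e => hns ?_
      rw [e]; exact Subgroup.IsSubnormal.top
    have hall : ∀ g : G, MulAut.conj g • A ≤ M := by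
      intro g
      obtain ⟨M', hM', hJM⟩ := (eq_top_or_exists_le_coatom _).resolve_left (htop g)
      rw [zipper A hb hns M M' hM hM' hAM (le_sup_left.trans hJM)]
      exact le_sup_right.trans hJM
    have hN : Subgroup.normalClosure (A : Set G) ≤ M := by
      rw [Subgroup.normalClosure, Subgroup.closure_le]
      intro y hy
      obtain ⟨a, ha, hay⟩ := Group.mem_conjugatesOfSet_iff.1 hy
      obtain ⟨c, rfl⟩ := isConj_iff.1 hay
      exact hall c (mem_conj_smul.2 (by simpa [mul_assoc] using ha))
    exact hns (isSubnormal_of_le_normal Subgroup.le_normalClosure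
      (hb _ (fun e => hM.1 (top_le_iff.1 (e ▸ hN))) Subgroup.le_normalClosure))

theorem subnormal_le_fitting_of_nilpotent_joins [Finite G] (A : Subgroup G)
    (h : ∀ g : G, Group.IsNilpotent (A ⊔ MulAut.conj g • A : Subgroup G)) :
    A.IsSubnormal ∧ A ≤ Cfsg.fittingSubgroup G := by
  have hA := wielandt_criterion _ G rfl A fun g => have := h g; isSubnormal_of_isNilpotent _
  exact ⟨hA, subnormal_nilpotent_le_fitting hA (isNilpotent_of_le le_sup_left (h 1))⟩

theorem pgroup_le_pCore_of_le_fitting [Finite G] {p : ℕ} [Fact p.Prime] {A : Subgroup G}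
    (hA : IsPGroup p A) (hle : A ≤ Cfsg.fittingSubgroup G) : A ≤ Cfsg.pCore p G := by
  have hn := fittingSubgroup_normal (G := G)
  have := fittingSubgroup_nilpotent (G := G)
  obtain ⟨P, hP⟩ := IsPGroup.exists_le_sylow
    (hA.of_equiv (Subgroup.subgroupOfEquivOfLe hle).symm)
  have : (P : Subgroup (Cfsg.fittingSubgroup G)).Characteristic :=
    P.characteristic_of_normal inferInstance
  refine le_trans ?_ (normal_le_pCore (N := (P : Subgroup (Cfsg.fittingSubgroup G)).map
    (Cfsg.fittingSubgroup G).subtype) (P.2.map _))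
  rw [← Subgroup.map_subgroupOf_eq_of_le hle]
  exact Subgroup.map_mono hP

/-- Baer-Suzuki. -/
theorem baer_suzuki [Finite G] {p : ℕ} [Fact p.Prime] (A : Subgroup G)
    (h : ∀ g : G, IsPGroup p (A ⊔ MulAut.conj g • A : Subgroup G)) : A ≤ Cfsg.pCore p G :=
  pgroup_le_pCore_of_le_fitting ((h 1).to_le le_sup_left)
    (subnormal_le_fitting_of_nilpotent_joins A fun g => (h g).isNilpotent).2

/-- An involution outside `O₂` inverts a nontrivial element of odd order. -/
theorem exists_odd_inverted [Finite G] {t : G} (ht : orderOf t = 2)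
    (hO : t ∉ Cfsg.pCore 2 G) : ∃ h : G, h ≠ 1 ∧ Odd (orderOf h) ∧ t * h * t⁻¹ = h⁻¹ := by
  have hp2 : Fact (Nat.Prime 2) := ⟨Nat.prime_two⟩
  have htt : t * t = 1 := by rw [← pow_two, ← ht, pow_orderOf_eq_one]
  have htinv : t⁻¹ = t := inv_eq_of_mul_eq_one_right htt
  by_contra hno
  push Not at hno
  refine hO (baer_suzuki (Subgroup.zpowers t) (fun g => ?_) (Subgroup.mem_zpowers t))
  set u := g * t * g⁻¹ with hu
  have huu : u * u = 1 := by
    rw [hu, show g * t * g⁻¹ * (g * t * g⁻¹) = g * (t * t) * g⁻¹ by group, htt]; group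
  set s := t * u with hs
  have hinv : t * s * t⁻¹ = s⁻¹ := by
    rw [hs, mul_inv_rev, htinv, inv_eq_of_mul_eq_one_right huu,
      show t * (t * u) * t = (t * t) * u * t by group, htt, one_mul]
  have hpow : ∀ k : ℕ, t * s ^ k * t⁻¹ = (s ^ k)⁻¹ := fun k => by
    rw [← conj_pow, hinv, inv_pow]
  have hs2 : ∃ j : ℕ, orderOf s = 2 ^ j := by
    set a := (orderOf s).factorization 2
    by_cases h1 : s ^ 2 ^ a = 1
    · exact ⟨a, Nat.dvd_antisymm (orderOf_dvd_of_pow_eq_one h1) (Nat.ordProj_dvd _ _)⟩
    · refine absurd (hpow _) (hno _ h1 ?_)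
      rw [orderOf_pow_of_dvd (pow_ne_zero _ two_ne_zero) (Nat.ordProj_dvd _ _),
        ← Nat.not_even_iff_odd, even_iff_two_dvd]
      exact Nat.not_dvd_ordCompl Nat.prime_two (orderOf_pos s).ne'
  obtain ⟨j, hj⟩ := hs2
  have hS : IsPGroup 2 (Subgroup.zpowers s) := IsPGroup.of_card (by rw [Nat.card_zpowers, hj])
  have hT : IsPGroup 2 (Subgroup.zpowers t) :=
    IsPGroup.of_card (n := 1) (by rw [Nat.card_zpowers, ht, pow_one])
  have hN : Subgroup.zpowers t ≤ Subgroup.normalizer (Subgroup.zpowers s : Set G) := by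
    rw [Subgroup.zpowers_le]
    refine mem_normalizer_of_conj_smul ?_
    rw [conj_smul_eq_map, MonoidHom.map_zpowers]
    show Subgroup.zpowers (t * s * t⁻¹) = _
    rw [hinv, Subgroup.zpowers_inv]
  refine (IsPGroup.to_sup_of_normal_right' hT hS hN).to_le (sup_le le_sup_left ?_)
  rw [conj_smul_eq_map, MonoidHom.map_zpowers, Subgroup.zpowers_le]
  show u ∈ _
  rw [show u = t * s by rw [hs, ← mul_assoc, htt, one_mul]]
  exact Subgroup.mul_mem_sup (Subgroup.mem_zpowers t) (Subgroup.mem_zpowers s)

end Cfsg.Agent.Solv
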