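import Cfsg.Agent.Lib.Solv.Zipper
import Cfsg.Agent.Lib.Fusion.AbelianHall
import Cfsg.Agent.Lib.Fusion.NPC

/-! Engel elements of finite groups lie in the Fitting subgroup; hypercentral elements. -/

set_option autoImplicit false
set_option linter.style.haveILetI false

open scoped Pointwise commutatorElement

namespace Cfsg.Agent.Solv

universe u
variable {G : Type u} [Group G]

theorem foldl_replicate_comm (g x : G) (n : ℕ) :
    (List.replicate n g).foldl (fun a b => a * b * a⁻¹ * b⁻¹) x = (fun a => ⁅a, g⁆)^[n] x := by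
  induction n generalizing x with
  | zero => rfl
  | succ n ih =>
    rw [List.replicate_succ, List.foldl_cons, ih, Function.iterate_succ_apply, commutatorElement_def]

theorem engel_subnormal_aux : ∀ (k : ℕ) {G : Type u} [Group G] [Finite G], Nat.card G = k →
    ∀ g : G, (∀ x : G, ∃ n : ℕ, (fun a => ⁅a, g⁆)^[n] x = 1) → (Subgroup.zpowers g).IsSubnormal := by
  intro k
  induction k using Nat.strong_induction_on with
  | _ k ih =>
  intro G _ _ hk g hE
  set S := Subgroup.zpowers g with hS
  have hb : SubnormalBelow S := by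
    intro H hH hle
    have hgH : g ∈ H := hle (Subgroup.mem_zpowers g)
    have h := ih _ (hk ▸ card_lt_of_ne_top hH) rfl (⟨g, hgH⟩ : H) fun x => by
      obtain ⟨n, hn⟩ := hE x
      refine ⟨n, Subtype.ext ?_⟩
      have key : ∀ (j : ℕ) (x : H),
          ((((fun a => ⁅a, (⟨g, hgH⟩ : H)⁆)^[j] x) : H) : G) = (fun a => ⁅a, g⁆)^[j] (x : G) := by
        intro j
        induction j with
        | zero => intro x; rfl
        | succ j ihj => intro x; rw [Function.iterate_succ_apply, Function.iterate_succ_apply, ihj]; rfl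
      rw [key n x, hn]; rfl
    convert h using 1
    rw [← Subgroup.map_injective H.subtype_injective |>.eq_iff, Subgroup.map_subgroupOf_eq_of_le hle,
      MonoidHom.map_zpowers]
    rfl
  by_contra hns
  obtain ⟨M, hM, hSM⟩ : ∃ M : Subgroup G, IsCoatom M ∧ S ≤ M :=
    (eq_top_or_exists_le_coatom S).resolve_left fun e => hns (by rw [e]; exact Subgroup.IsSubnormal.top)
  obtain ⟨x, -, hx⟩ := SetLike.exists_of_lt hM.lt_top
  obtain ⟨n, hn⟩ := hE x
  have hex : ∃ y : G, y ∉ M ∧ ⁅y, g⁆ ∈ M := by
    clear hk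
    induction n generalizing x with
    | zero => exact absurd (show x ∈ M from (show x = 1 from hn) ▸ one_mem M) hx
    | succ n ihn =>
      by_cases h1 : ⁅x, g⁆ ∈ M
      · exact ⟨x, hx, h1⟩
      · exact ihn _ h1 hn
  obtain ⟨y, hy, hyg⟩ := hex
  have hygM : y * g * y⁻¹ ∈ M := by
    have h := mul_mem hyg (hSM (Subgroup.mem_zpowers g))
    rw [commutatorElement_def] at h
    simpa using h
  have hM' : IsCoatom (MulAut.conj y⁻¹ • M) := by
    rw [conj_smul_eq_map]
    exact ((MulAut.conj y⁻¹).mapSubgroup.isCoatom_iff M).2 hM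
  have heq : MulAut.conj y⁻¹ • M = M := zipper S hb hns _ M hM' hM
    (Subgroup.zpowers_le.2 (mem_conj_smul.2 (by simpa using hygM))) hSM
  have hyN : y ∈ Subgroup.normalizer (M : Set G) := by
    have := inv_mem (mem_normalizer_of_conj_smul heq)
    rwa [inv_inv] at this
  haveI : M.Normal := Subgroup.normalizer_eq_top_iff.1
    ((hM.le_iff.1 Subgroup.le_normalizer).resolve_right fun e => hy (e.le hyN))
  exact hns (Subgroup.IsSubnormal.trans hSM (hb M hM.1 hSM) (Subgroup.Normal.isSubnormal ‹_›))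

theorem engel_mem_fitting [Finite G] {g : G}
    (hE : ∀ x : G, ∃ n : ℕ, (fun a => ⁅a, g⁆)^[n] x = 1) : g ∈ Cfsg.fittingSubgroup G := by
  refine subnormal_nilpotent_le_fitting (engel_subnormal_aux _ rfl g hE) ?_ (Subgroup.mem_zpowers g)
  exact @CommGroup.isNilpotent _ IsCyclic.commGroup

theorem engel_of_mem_fitting [Finite G] {g : G} (hg : g ∈ Cfsg.fittingSubgroup G) (x : G) :
    ∃ n : ℕ, (fun a => ⁅a, g⁆)^[n] x = 1 := by
  haveI := fittingSubgroup_normal (G := G)
  haveI := fittingSubgroup_nilpotent (G := G)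
  set F := Cfsg.fittingSubgroup G with hF
  obtain ⟨c, hc⟩ := Subgroup.nilpotent_iff_lowerCentralSeries.1 ‹Group.IsNilpotent F›
  have key : ∀ j : ℕ, (fun a => ⁅a, g⁆)^[j + 1] x ∈ ((⊤ : Subgroup F).lowerCentralSeries j).map F.subtype := by
    intro j
    induction j with
    | zero =>
      rw [Subgroup.lowerCentralSeries_zero, ← MonoidHom.range_eq_map, Subgroup.range_subtype]
      show ⁅x, g⁆ ∈ F
      rw [commutatorElement_def]
      exact mul_mem (‹F.Normal›.conj_mem g hg x) (inv_mem hg)
    | succ j ih =>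
      obtain ⟨a, ha, hax⟩ := ih
      refine ⟨⁅a, ⟨g, hg⟩⁆, Subgroup.commutator_mem_commutator ha (Subgroup.mem_top _), ?_⟩
      rw [Function.iterate_succ_apply', ← hax, map_commutatorElement]
      rfl
  refine ⟨c + 1, ?_⟩
  have h := key c
  rwa [hc, Subgroup.map_bot, Subgroup.mem_bot] at h

theorem commute_of_coprime_nilpotent [Finite G] [Group.IsNilpotent G] {p k : ℕ} [Fact p.Prime]
    {u v : G} (hu : orderOf u = p ^ k) (hv : (orderOf v).Coprime p) : Commute u v := by
  have hU : IsPGroup p (Subgroup.zpowers u) := IsPGroup.of_card (n := k) (by rw [Nat.card_zpowers, hu])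
  obtain ⟨P, hP⟩ := hU.exists_le_sylow
  haveI hPn : (P : Subgroup G).Normal :=
    ((Group.isNilpotent_of_finite_tfae (G := G)).out 0 3
      (a := Group.IsNilpotent G)
      (b := ∀ (q : ℕ) (_ : Fact q.Prime) (R : Sylow q G), (R : Subgroup G).Normal)).1 ‹_› p ‹_› P
  have h := Fusion.hnpc_centralize (Fusion.hnpc_of_isNilpotent (G := G) (p := p)) P.isPGroup'
    (Subgroup.normalizer_eq_top_iff.2 hPn ▸ Subgroup.mem_top v) hv
  exact Subgroup.mem_centralizer_iff.1 h u (hP (Subgroup.mem_zpowers u))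

end Cfsg.Agent.Solv
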