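import Mathlib
import Cfsg.Agent.Lib.Solv.UniqueSub
import Cfsg.Agent.Lib.Solv.Coprime
import Cfsg.Agent.Lib.Small.SylowInside

/-!
Finite `p`-groups in which any two subgroups of the same order are isomorphic.
-/

set_option autoImplicit false
set_option linter.style.haveILetI false

namespace Cfsg.Agent.Solv.IsoSubgroups

variable {Q : Type*} [Group Q] [Finite Q] {p : ℕ} [hp : Fact p.Prime]

theorem exists_elementary_sq (hQ : IsPGroup p Q) (hu : ¬ UniqueOrderP p Q) :
    ∃ E : Subgroup Q, Nat.card E = p ^ 2 ∧ ∀ x ∈ E, x ^ p = 1 := by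
  simp only [UniqueOrderP] at hu
  push Not at hu
  obtain ⟨x, y, hx, hy, hy1, hxy⟩ := hu
  haveI : Nontrivial Q := ⟨⟨y, 1, hy1⟩⟩
  haveI := hQ.center_nontrivial
  obtain ⟨z₀, hz₀⟩ := exists_prime_orderOf_dvd_card' p (show p ∣ Nat.card (Subgroup.center Q) from by
    obtain ⟨k, hk⟩ := IsPGroup.iff_card.1 (hQ.to_subgroup (Subgroup.center Q))
    rw [hk]
    refine dvd_pow_self p fun h => ?_
    rw [h, pow_zero] at hk
    exact absurd hk Finite.one_lt_card.ne')
  set z : Q := Subtype.val z₀ with hz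
  have hzo : orderOf z = p := by rw [hz, Subgroup.orderOf_coe, hz₀]
  have hzp : z ^ p = 1 := hzo ▸ pow_orderOf_eq_one z
  obtain ⟨w, hwp, hwz⟩ : ∃ w : Q, w ^ p = 1 ∧ w ∉ Subgroup.zpowers z := by
    by_contra! h
    refine hxy ?_
    have hzy : Subgroup.zpowers y = Subgroup.zpowers z :=
      Subgroup.eq_of_le_of_card_ge (Subgroup.zpowers_le.2 (h y hy))
        (by rw [Nat.card_zpowers, Nat.card_zpowers, hzo, orderOf_eq_prime hy hy1])
    rw [hzy]; exact h x hx
  have hw1 : w ≠ 1 := fun e => hwz (e ▸ one_mem _)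
  haveI : (Subgroup.zpowers z).Normal := by
    constructor
    rintro _ ⟨i, rfl⟩ g
    exact ⟨i, by
      simp only
      rw [Subgroup.mem_center_iff.1 (Subgroup.zpow_mem _ z₀.2 i) g, mul_inv_cancel_right]⟩
  refine ⟨Subgroup.zpowers z ⊔ Subgroup.zpowers w, ?_, ?_⟩
  · rw [card_sup_of_inf_eq_bot, Nat.card_zpowers, Nat.card_zpowers, hzo,
      orderOf_eq_prime hwp hw1, pow_two]
    refine (Subgroup.eq_bot_iff_forall _).2 fun t ⟨ht1, ht2⟩ => ?_
    by_contra ht0
    have ht : t ^ p = 1 := by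
      obtain ⟨i, rfl⟩ := ht1
      simp only
      rw [← zpow_natCast, ← zpow_mul, mul_comm, zpow_mul, zpow_natCast, hzp, one_zpow]
    have h1 : Subgroup.zpowers t = Subgroup.zpowers w :=
      Subgroup.eq_of_le_of_card_ge (Subgroup.zpowers_le.2 ht2)
        (by rw [Nat.card_zpowers, Nat.card_zpowers, orderOf_eq_prime hwp hw1, orderOf_eq_prime ht ht0])
    exact hwz (Subgroup.zpowers_le.2 ht1 (h1.ge (Subgroup.mem_zpowers w)))
  · intro t ht
    obtain ⟨a, ⟨i, rfl⟩, b, ⟨j, rfl⟩, rfl⟩ := Subgroup.mem_sup_of_normal_left.1 ht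
    have hc : Commute (z ^ i) (w ^ j) :=
      (Subgroup.mem_center_iff.1 (Subgroup.zpow_mem _ z₀.2 i) (w ^ j)).symm
    simp only
    rw [hc.mul_pow, ← zpow_natCast, ← zpow_mul, mul_comm i, zpow_mul, zpow_natCast, hzp, one_zpow,
      one_mul, ← zpow_natCast, ← zpow_mul, mul_comm j, zpow_mul, zpow_natCast, hwp, one_zpow]

theorem exists_nonabelian_cube (hQ : IsPGroup p Q) (hexp : ∀ x : Q, x ^ p = 1)
    (hna : ¬ IsMulCommutative Q) :
    ∃ T : Subgroup Q, Nat.card T = p ^ 3 ∧ ¬ IsMulCommutative T := by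
  have hZ : Subgroup.center Q ≠ ⊤ := fun h => hna ⟨⟨fun a b =>
    Subgroup.mem_center_iff.1 (h.symm ▸ Subgroup.mem_top b) a⟩⟩
  haveI : Nontrivial (Q ⧸ Subgroup.center Q) := QuotientGroup.nontrivial_iff.2 hZ
  haveI := (hQ.to_quotient (Subgroup.center Q)).center_nontrivial
  obtain ⟨⟨xb, hxb⟩, hx1⟩ := exists_ne (1 : Subgroup.center (Q ⧸ Subgroup.center Q))
  obtain ⟨x, rfl⟩ := QuotientGroup.mk'_surjective _ xb
  have hxZ : x ∉ Subgroup.center Q := fun h =>
    hx1 (Subtype.ext ((QuotientGroup.eq_one_iff x).2 h))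
  obtain ⟨y, hy⟩ : ∃ y : Q, y * x ≠ x * y := by
    by_contra! h; exact hxZ (Subgroup.mem_center_iff.2 h)
  set z := y * x * y⁻¹ * x⁻¹ with hz
  have hzc : z ∈ Subgroup.center Q := by
    rw [← QuotientGroup.eq_one_iff, hz]
    have := Subgroup.mem_center_iff.1 hxb (QuotientGroup.mk' _ y)
    simp only [QuotientGroup.mk'_apply] at this
    rw [QuotientGroup.mk_mul, QuotientGroup.mk_mul, QuotientGroup.mk_mul, QuotientGroup.mk_inv,
      QuotientGroup.mk_inv, this, mul_inv_cancel_right, mul_inv_cancel]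
  haveI : (Subgroup.zpowers z).Normal := by
    constructor
    rintro _ ⟨i, rfl⟩ g
    exact ⟨i, by
      simp only
      rw [Subgroup.mem_center_iff.1 (Subgroup.zpow_mem _ hzc i) g, mul_inv_cancel_right]⟩
  have hle : ∀ t : Q, Nat.card (Subgroup.zpowers t) ≤ p := fun t => by
    rw [Nat.card_zpowers]; exact Nat.le_of_dvd hp.out.pos (orderOf_dvd_of_pow_eq_one (hexp t))
  set X := Subgroup.zpowers z ⊔ Subgroup.zpowers x with hX
  have hxX : x ∈ X := Subgroup.mem_sup_right (Subgroup.mem_zpowers x)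
  have hyX : Subgroup.zpowers y ≤ Subgroup.normalizer (X : Set Q) := by
    refine Subgroup.zpowers_le.2 (mem_normalizer_of_conj_smul
      (Subgroup.eq_of_le_of_card_ge ?_ (card_conj_smul y X).ge))
    rw [hX, Subgroup.smul_sup, Subgroup.Normal.conj_smul_eq_self]
    refine sup_le le_sup_left fun t ht => ?_
    rw [mem_conj_smul] at ht
    obtain ⟨i, hi⟩ := ht
    have : t = (z * x) ^ i := by
      rw [show z * x = y * x * y⁻¹ by rw [hz]; group, conj_zpow]
      simp only at hi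
      rw [hi]; group
    rw [this]
    exact Subgroup.zpow_mem _ (mul_mem (Subgroup.mem_sup_left (Subgroup.mem_zpowers z)) hxX) i
  set T := X ⊔ Subgroup.zpowers y with hT
  have hna' : ¬ IsMulCommutative T := fun h => hy (congrArg Subtype.val (h.is_comm.comm
    (⟨y, Subgroup.mem_sup_right (Subgroup.mem_zpowers y)⟩ : T) ⟨x, Subgroup.mem_sup_left hxX⟩))
  refine ⟨T, ?_, hna'⟩
  obtain ⟨k, hk⟩ := IsPGroup.iff_card.1 (hQ.to_subgroup T)
  have hub : Nat.card T ≤ p ^ 3 := by
    have h1 := card_sup_mul_card_inf' X (Subgroup.zpowers y) hyX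
    have h2 := card_sup_mul_card_inf (Subgroup.zpowers z) (Subgroup.zpowers x)
    calc Nat.card T ≤ Nat.card T * Nat.card (X ⊓ Subgroup.zpowers y : Subgroup Q) :=
          Nat.le_mul_of_pos_right _ Nat.card_pos
      _ = Nat.card X * Nat.card (Subgroup.zpowers y) := h1
      _ ≤ Nat.card (Subgroup.zpowers z) * Nat.card (Subgroup.zpowers x) *
          Nat.card (Subgroup.zpowers y) :=
        Nat.mul_le_mul_right _ ((Nat.le_mul_of_pos_right _ Nat.card_pos).trans h2.le)
      _ ≤ p * p * p := Nat.mul_le_mul (Nat.mul_le_mul (hle z) (hle x)) (hle y)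
      _ = p ^ 3 := by ring
  rw [hk] at hub ⊢
  have hk3 : k ≤ 3 := (Nat.pow_le_pow_iff_right hp.out.one_lt).1 hub
  rcases (show k = 0 ∨ k = 1 ∨ k = 2 ∨ k = 3 by omega) with rfl | rfl | rfl | rfl
  · haveI : Subsingleton T := Finite.card_le_one_iff_subsingleton.1 (by rw [hk, pow_zero])
    exact absurd ⟨⟨fun _ _ => Subsingleton.elim _ _⟩⟩ hna'
  · haveI : IsCyclic T := isCyclic_of_prime_card (p := p) (by rw [hk, pow_one])
    exact absurd ⟨⟨fun a b => (IsCyclic.commGroup (α := T)).mul_comm a b⟩⟩ hna'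
  · exact absurd ⟨⟨IsPGroup.commutative_of_card_eq_prime_sq hk⟩⟩ hna'
  · rfl

theorem exists_abelian_cube (hQ : IsPGroup p Q) (hexp : ∀ x : Q, x ^ p = 1)
    (hcard : p ^ 3 < Nat.card Q) :
    ∃ A : Subgroup Q, Nat.card A = p ^ 3 ∧ IsMulCommutative A := by
  obtain ⟨A, hAn, hAab, hAC⟩ := exists_maximal_abelian_normal hQ
  obtain ⟨k, hk⟩ := IsPGroup.iff_card.1 (hQ.to_subgroup A)
  by_cases hk3 : 3 ≤ k
  · obtain ⟨U, hU⟩ := Sylow.exists_subgroup_card_pow_prime p
      (show p ^ 3 ∣ Nat.card A by rw [hk]; exact pow_dvd_pow p hk3)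
    refine ⟨U.map A.subtype, by rw [card_map_subtype, hU], ⟨⟨fun a b => Subtype.ext ?_⟩⟩⟩
    exact hAab _ (Subgroup.map_subtype_le U a.2) _ (Subgroup.map_subtype_le U b.2)
  exfalso
  have hAp : Nat.card A ≤ p ^ 2 := hk ▸ Nat.pow_le_pow_right hp.out.pos (by omega)
  have hAne : A ≠ ⊤ := fun h => by
    rw [h, Subgroup.card_top] at hAp
    exact absurd (hAp.trans (Nat.pow_le_pow_right hp.out.pos (by norm_num))) hcard.not_ge
  have hAb : A ≠ ⊥ := fun h => hAne (by rw [← hAC, h]; simp)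
  obtain ⟨⟨z, hz⟩, hz1'⟩ := Subgroup.ne_bot_iff_exists_ne_one.1
    (Small.normal_meets_center hQ hAn hAb)
  have hz1 : z ≠ 1 := fun e => hz1' (Subtype.ext e)
  obtain ⟨a, haA, haZ⟩ : ∃ a ∈ A, a ∉ Subgroup.center Q := by
    by_contra! h
    refine hAne ?_
    rw [← hAC, Subgroup.centralizer_eq_top_iff_subset.2 h]
  set W := Subgroup.zpowers z ⊔ Subgroup.zpowers a with hW
  have hWA : W ≤ A := sup_le (Subgroup.zpowers_le.2 hz.1) (Subgroup.zpowers_le.2 haA)
  have hzW : Nat.card (Subgroup.zpowers z) = p := by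
    rw [Nat.card_zpowers, orderOf_eq_prime (hexp z) hz1]
  have hWAeq : W = A := by
    refine Subgroup.eq_of_le_of_card_ge hWA (hAp.trans ?_)
    obtain ⟨j, hj⟩ := IsPGroup.iff_card.1 (hQ.to_subgroup W)
    rw [hj]
    refine Nat.pow_le_pow_right hp.out.pos ?_
    by_contra! h
    refine haZ ?_
    have hWz : Subgroup.zpowers z = W := by
      refine Subgroup.eq_of_le_of_card_ge le_sup_left ?_
      rw [hj, hzW]
      calc p ^ j ≤ p ^ 1 := Nat.pow_le_pow_right hp.out.pos (by omega)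
        _ = p := pow_one p
    exact Subgroup.zpowers_le.2 hz.2 (hWz.ge (Subgroup.mem_sup_right (Subgroup.mem_zpowers a)))
  have hCa : Subgroup.centralizer ({a} : Set Q) = A := by
    refine le_antisymm (fun g hg => ?_) fun g hg => Subgroup.mem_centralizer_singleton_iff.2
      (hAab g hg a haA)
    rw [← hAC, ← hWAeq]
    have h1 : W ≤ Subgroup.centralizer ({g} : Set Q) := by
      refine sup_le (Subgroup.zpowers_le.2 ?_) (Subgroup.zpowers_le.2 ?_)
      · exact Subgroup.mem_centralizer_singleton_iff.2 (Subgroup.mem_center_iff.1 hz.2 g).symm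
      · exact Subgroup.mem_centralizer_singleton_iff.2
          (Subgroup.mem_centralizer_singleton_iff.1 hg).symm
    exact Subgroup.mem_centralizer_iff.2 fun w hw =>
      Subgroup.mem_centralizer_singleton_iff.1 (h1 hw)
  -- conjugates of `a`
  have hidx : A.index < p ^ 2 := by
    refine lt_of_lt_of_le ?_ hAp
    rw [show A.index = Nat.card (Q ⧸ Subgroup.centralizer ({a} : Set Q)) by
      rw [← Subgroup.index_eq_card, hCa]]
    let f : Q ⧸ Subgroup.centralizer ({a} : Set Q) → A :=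
      Quotient.lift (fun g : Q => (⟨g * a * g⁻¹, hAn.conj_mem a haA g⟩ : A)) (by
        intro g h hgh
        have := Subgroup.mem_centralizer_singleton_iff.1 (QuotientGroup.leftRel_apply.1 hgh)
        refine Subtype.ext ?_
        calc g * a * g⁻¹ = g * (a * (g⁻¹ * h)) * h⁻¹ := by group
          _ = g * (g⁻¹ * h * a) * h⁻¹ := by rw [this]
          _ = h * a * h⁻¹ := by group)
    haveI : Fintype (Q ⧸ Subgroup.centralizer ({a} : Set Q)) := Fintype.ofFinite _
    haveI : Fintype A := Fintype.ofFinite _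
    rw [Nat.card_eq_fintype_card, Nat.card_eq_fintype_card]
    refine Fintype.card_lt_of_injective_of_notMem f ?_ (b := 1) ?_
    · intro u v huv
      induction u using QuotientGroup.induction_on with
      | _ g =>
        induction v using QuotientGroup.induction_on with
        | _ h =>
          have e : g * a * g⁻¹ = h * a * h⁻¹ := congrArg Subtype.val huv
          refine QuotientGroup.eq.2 (Subgroup.mem_centralizer_singleton_iff.2 ?_)
          calc g⁻¹ * h * a = g⁻¹ * (h * a * h⁻¹) * h := by group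
            _ = g⁻¹ * (g * a * g⁻¹) * h := by rw [e]
            _ = a * (g⁻¹ * h) := by group
    · rintro ⟨u, hu⟩
      induction u using QuotientGroup.induction_on with
      | _ g =>
        have e : g * a * g⁻¹ = 1 := congrArg Subtype.val hu
        exact haZ (by rw [conj_eq_one_iff.1 e]; exact one_mem _)
  obtain ⟨m, hm⟩ := hQ.index A
  rw [hm] at hidx
  have hm1 : m ≤ 1 := by
    have := (Nat.pow_lt_pow_iff_right hp.out.one_lt).1 hidx; omega
  refine hcard.not_ge ?_
  rw [← A.card_mul_index, hm]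
  calc Nat.card A * p ^ m ≤ p ^ 2 * p ^ 1 :=
        Nat.mul_le_mul hAp (Nat.pow_le_pow_right hp.out.pos hm1)
    _ = p ^ 3 := by ring

/-- The classification. -/
theorem classify (hQ : IsPGroup p Q)
    (hiso : ∀ U V : Subgroup Q, Nat.card U = Nat.card V → Nonempty (U ≃* V)) :
    IsCyclic Q ∨ (IsMulCommutative Q ∧ ∀ x : Q, x ^ p = 1) ∨
      (p = 2 ∧ Nonempty (Q ≃* QuaternionGroup 2)) ∨
      (p ≠ 2 ∧ ¬ IsMulCommutative Q ∧ Nat.card Q = p ^ 3 ∧ Monoid.exponent Q = p) := by
  by_cases hu : UniqueOrderP p Q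
  · rcases cyclic_or_quaternion hQ hu with h | ⟨rfl, n, ⟨e⟩⟩
    · exact Or.inl h
    rcases (show n = 0 ∨ n = 1 ∨ 2 ≤ n by omega) with rfl | rfl | hn
    · haveI : IsCyclic (QuaternionGroup (2 ^ 0)) := QuaternionGroup.quaternionGroup_one_isCyclic
      exact Or.inl (isCyclic_of_surjective e.symm.toMonoidHom e.symm.surjective)
    · exact Or.inr (Or.inr (Or.inl ⟨rfl, ⟨e⟩⟩))
    exfalso
    obtain ⟨c, rfl⟩ : ∃ c, n = c + 2 := ⟨n - 2, by omega⟩
    have hcardQ : Nat.card (QuaternionGroup (2 ^ (c + 2))) = 2 ^ (c + 4) := by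
      rw [Nat.card_eq_fintype_card, QuaternionGroup.card]; ring
    set t : QuaternionGroup (2 ^ (c + 2)) := QuaternionGroup.a 1 ^ 2 ^ c with ht
    have hto : orderOf t = 8 := by
      have h2 : 2 * 2 ^ (c + 2) = 2 ^ c * 8 := by ring
      rw [ht, orderOf_pow_of_dvd (by positivity) (by rw [QuaternionGroup.orderOf_a_one, h2]; exact dvd_mul_right _ _),
        QuaternionGroup.orderOf_a_one, h2, Nat.mul_div_cancel_left _ (by positivity)]
    set b : QuaternionGroup (2 ^ (c + 2)) := QuaternionGroup.xa 0 with hb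
    obtain ⟨K, hK, hbK⟩ := Sylow.exists_subgroup_card_pow_succ (p := 2) (n := 2)
      (show 2 ^ (2 + 1) ∣ Nat.card (QuaternionGroup (2 ^ (c + 2))) by
        rw [hcardQ]; exact pow_dvd_pow 2 (by omega))
      (H := Subgroup.zpowers b) (by rw [Nat.card_zpowers, hb, QuaternionGroup.orderOf_xa]; rfl)
    obtain ⟨f⟩ := hiso ((Subgroup.zpowers t).map e.symm.toMonoidHom) (K.map e.symm.toMonoidHom) (by
      rw [Subgroup.card_map_of_injective e.symm.injective,
        Subgroup.card_map_of_injective e.symm.injective, Nat.card_zpowers, hto, hK]; rfl)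
    haveI : IsCyclic K := isCyclic_of_surjective
      (((Subgroup.equivMapOfInjective _ e.symm.toMonoidHom e.symm.injective).trans f).trans
        (Subgroup.equivMapOfInjective K e.symm.toMonoidHom e.symm.injective).symm).toMonoidHom
      (MulEquiv.surjective _)
    obtain ⟨g, hg⟩ := IsCyclic.exists_generator (α := K)
    obtain ⟨j, hj⟩ := hg ⟨b, hbK (Subgroup.mem_zpowers b)⟩
    have hgo : orderOf g = 8 := by rw [orderOf_eq_card_of_forall_mem_zpowers hg, hK]; rfl
    have hb4 : g ^ (j * 4) = 1 := by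
      rw [zpow_mul]
      simp only at hj
      rw [hj]
      apply Subtype.ext
      show b ^ (4 : ℤ) = 1
      rw [show (4 : ℤ) = ((4 : ℕ) : ℤ) from rfl, zpow_natCast, hb, QuaternionGroup.xa_pow_four]
    rw [← orderOf_dvd_iff_zpow_eq_one, hgo] at hb4
    obtain ⟨i, rfl⟩ : ∃ i, j = i * 2 := ⟨j / 2, by omega⟩
    have hsq : ∀ w : QuaternionGroup (2 ^ (c + 2)), w ^ 2 ≠ b := by
      rintro (u | u) <;> simp [hb, pow_two]
    refine hsq ((g ^ i : K) : QuaternionGroup (2 ^ (c + 2))) ?_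
    simp only [zpow_mul] at hj
    have := congrArg Subtype.val hj
    simpa using this
  obtain ⟨E, hE, hEexp⟩ := exists_elementary_sq hQ hu
  have hexp : ∀ x : Q, x ^ p = 1 := by
    intro x
    by_contra hx
    obtain ⟨k, hk⟩ := IsPGroup.iff_orderOf.1 hQ x
    have hk2 : 2 ≤ k := by
      by_contra! h
      refine hx (orderOf_dvd_iff_pow_eq_one.1 ?_)
      rw [hk]
      calc p ^ k ∣ p ^ 1 := pow_dvd_pow p (by omega)
        _ = p := pow_one p
    have ho : orderOf (x ^ p ^ (k - 2)) = p ^ 2 := by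
      rw [orderOf_pow_of_dvd (pow_pos hp.out.pos _).ne' (by rw [hk]; exact pow_dvd_pow p (by omega)),
        hk, Nat.pow_div (by omega) hp.out.pos]
      congr 1; omega
    obtain ⟨f⟩ := hiso (Subgroup.zpowers (x ^ p ^ (k - 2))) E (by rw [Nat.card_zpowers, ho, hE])
    set w : Subgroup.zpowers (x ^ p ^ (k - 2)) := ⟨_, Subgroup.mem_zpowers _⟩
    have h1 : w ^ p = 1 := f.injective (Subtype.ext (by
      rw [map_pow, map_one, SubgroupClass.coe_pow, hEexp _ (f w).2, OneMemClass.coe_one]))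
    have h2 := orderOf_dvd_of_pow_eq_one (congrArg Subtype.val h1 : (x ^ p ^ (k - 2)) ^ p = 1)
    rw [ho] at h2
    have := Nat.le_of_dvd hp.out.pos h2
    have := hp.out.two_le
    nlinarith
  by_cases hab : IsMulCommutative Q
  · exact Or.inr (Or.inl ⟨hab, hexp⟩)
  have hp2 : p ≠ 2 := by
    rintro rfl
    refine hab ⟨⟨fun a b => ?_⟩⟩
    have hi : ∀ t : Q, t⁻¹ = t := fun t => inv_eq_of_mul_eq_one_right (by rw [← pow_two]; exact hexp t)
    calc a * b = (a * b)⁻¹ := (hi _).symm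
      _ = b * a := by rw [mul_inv_rev, hi a, hi b]
  obtain ⟨T, hT, hTna⟩ := exists_nonabelian_cube hQ hexp hab
  refine Or.inr (Or.inr (Or.inr ⟨hp2, hab, le_antisymm ?_ ?_, ?_⟩))
  · by_contra! h
    obtain ⟨A, hA, hAab⟩ := exists_abelian_cube hQ hexp h
    obtain ⟨f⟩ := hiso A T (hA.trans hT.symm)
    refine hTna ⟨⟨fun a b => f.symm.injective ?_⟩⟩
    rw [map_mul, map_mul]
    exact hAab.is_comm.comm _ _
  · rw [← hT]; exact Nat.le_of_dvd Nat.card_pos (Subgroup.card_subgroup_dvd_card T)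
  · refine ((Nat.dvd_prime hp.out).1 (Monoid.exponent_dvd_of_forall_pow_eq_one hexp)).resolve_left
      fun h1 => hab ?_
    haveI : Subsingleton Q := Monoid.exp_eq_one_iff.1 h1
    exact ⟨⟨fun _ _ => Subsingleton.elim _ _⟩⟩

end Cfsg.Agent.Solv.IsoSubgroups
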