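import Mathlib
import Cfsg.Agent.Lib.Solv.SZ
import Cfsg.Agent.Lib.Solv.Basic

/-!
Solvable groups with conjugate `p`-subgroups of each order and all but one Sylow subgroup cyclic:
subgroups of the same order are conjugate.
-/

set_option autoImplicit false
set_option linter.style.haveILetI false

open scoped Pointwise

namespace Cfsg.Agent.Solv.SameOrderConj

universe u

variable {G : Type u} [Group G] [Finite G]

/-- All `p`-subgroups are cyclic for the primes `p ≠ r`. -/
def Cyc (r : ℕ) (G : Type u) [Group G] : Prop :=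
  ∀ p : ℕ, p.Prime → p ≠ r → ∀ P : Subgroup G, IsPGroup p P → IsCyclic P

/-- Two `p`-subgroups of the same order are conjugate, for each `p`. -/
def PConj (G : Type u) [Group G] : Prop :=
  ∀ p : ℕ, p.Prime → ∀ H K : Subgroup G, IsPGroup p H → IsPGroup p K → Nat.card H = Nat.card K →
    ∃ g : G, MulAut.conj g • H = K

theorem lift_pgroup {p : ℕ} [hp : Fact p.Prime] (N : Subgroup G) [N.Normal]
    (Pb : Subgroup (G ⧸ N)) (hP : IsPGroup p Pb) :
    ∃ P : Subgroup G, IsPGroup p P ∧ P.map (QuotientGroup.mk' N) = Pb ∧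
      Nat.card P = p ^ (Nat.card Pb * Nat.card N).factorization p := by
  obtain ⟨S⟩ : Nonempty (Sylow p (Pb.comap (QuotientGroup.mk' N))) := inferInstance
  set P := (S : Subgroup (Pb.comap (QuotientGroup.mk' N))).map
    (Pb.comap (QuotientGroup.mk' N)).subtype with hPdef
  have hcard : Nat.card P = p ^ (Nat.card Pb * Nat.card N).factorization p := by
    rw [hPdef, card_map_subtype, S.card_eq_multiplicity, card_comap_mk']
  refine ⟨P, IsPGroup.of_card hcard, ?_, hcard⟩
  have hle : P.map (QuotientGroup.mk' N) ≤ Pb :=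
    Subgroup.map_le_iff_le_comap.2 (Subgroup.map_subtype_le _)
  refine Subgroup.eq_of_le_of_card_ge hle ?_
  obtain ⟨a, ha⟩ := IsPGroup.iff_card.1 hP
  have h1 := card_map_mk'_mul_card_inf N P
  obtain ⟨c, hc⟩ := IsPGroup.iff_card.1
    ((IsPGroup.of_card hcard).to_le (inf_le_right : N ⊓ P ≤ P))
  have hcb : c ≤ (Nat.card N).factorization p :=
    (hp.out.pow_dvd_iff_le_factorization Nat.card_pos.ne').1
      (hc ▸ Subgroup.card_dvd_of_le inf_le_left)
  have hab : (Nat.card Pb * Nat.card N).factorization p = a + (Nat.card N).factorization p := by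
    rw [Nat.factorization_mul Nat.card_pos.ne' Nat.card_pos.ne', Finsupp.add_apply, ha,
      Nat.factorization_pow, Finsupp.smul_apply, hp.out.factorization_self, smul_eq_mul, mul_one]
  rw [hc, hcard, hab] at h1
  rw [ha]
  refine Nat.le_of_mul_le_mul_right ?_ (pow_pos hp.out.pos c)
  rw [h1, ← pow_add]
  exact Nat.pow_le_pow_right hp.out.pos (by omega)

theorem Cyc.quot {r : ℕ} (h : Cyc r G) (N : Subgroup G) [N.Normal] : Cyc r (G ⧸ N) := by
  intro p hp hpr Pb hPb
  haveI := Fact.mk hp
  obtain ⟨P, hP, hmap, -⟩ := lift_pgroup N Pb hPb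
  haveI := h p hp hpr P hP
  rw [← hmap]
  exact isCyclic_of_surjective _ ((QuotientGroup.mk' N).subgroupMap_surjective P)

theorem Cyc.sub {r : ℕ} (h : Cyc r G) (S : Subgroup G) : Cyc r S := by
  intro p hp hpr P hP
  haveI := h p hp hpr (P.map S.subtype) (hP.map S.subtype)
  exact isCyclic_of_injective
    (Subgroup.equivMapOfInjective P S.subtype S.subtype_injective).toMonoidHom
    (Subgroup.equivMapOfInjective P S.subtype S.subtype_injective).injective

theorem PConj.quot (h : PConj G) (N : Subgroup G) [N.Normal] : PConj (G ⧸ N) := by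
  intro p hp Hb Kb hH hK hcard
  haveI := Fact.mk hp
  obtain ⟨H, hH', rfl, hHc⟩ := lift_pgroup N Hb hH
  obtain ⟨K, hK', rfl, hKc⟩ := lift_pgroup N Kb hK
  obtain ⟨g, rfl⟩ := h p hp H K hH' hK' (by rw [hHc, hKc, hcard])
  exact ⟨QuotientGroup.mk' N g, (map_conj_smul _ g H).symm⟩

/-- From conjugate images modulo `N`. -/
theorem of_quot (N : Subgroup G) [N.Normal] (hN : Group.IsSolvable N) {H K : Subgroup G}
    (hcard : Nat.card H = Nat.card K)
    (h : (Nat.card N).Coprime (Nat.card H) ∨ (N ≤ H ∧ N ≤ K))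
    (hq : ∃ g : G ⧸ N,
      MulAut.conj g • H.map (QuotientGroup.mk' N) = K.map (QuotientGroup.mk' N)) :
    ∃ g : G, MulAut.conj g • H = K := by
  obtain ⟨gb, hg⟩ := hq
  obtain ⟨g, rfl⟩ := QuotientGroup.mk'_surjective N gb
  rw [← map_conj_smul, Subgroup.map_eq_map_iff, QuotientGroup.ker_mk'] at hg
  rcases h with h | ⟨hNH, hNK⟩
  · obtain ⟨d, -, hd⟩ := sz_conj_rel N K (MulAut.conj g • H)
      (by rw [Subgroup.normalizer_eq_top_iff.2 inferInstance]; exact le_top)
      (le_sup_left.trans (hg.le.trans (sup_comm K N).le)) (hcard ▸ h)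
      (by rw [card_conj_smul, hcard]) (Or.inl hN)
    refine ⟨d⁻¹ * g, ?_⟩
    rw [← conj_smul_conj, ← hd, conj_smul_conj, inv_mul_cancel, conj_one_smul]
  · have hNg : N ≤ MulAut.conj g • H := by
      rw [← Subgroup.Normal.conj_smul_eq_self g N]
      exact Subgroup.pointwise_smul_le_pointwise_smul_iff.2 hNH
    exact ⟨g, by rwa [sup_eq_left.2 hNg, sup_eq_left.2 hNK] at hg⟩

theorem card_map_eq (N : Subgroup G) [N.Normal] {H K : Subgroup G}
    (hcard : Nat.card H = Nat.card K)
    (h : (Nat.card N).Coprime (Nat.card H) ∨ (N ≤ H ∧ N ≤ K)) :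
    Nat.card (H.map (QuotientGroup.mk' N)) = Nat.card (K.map (QuotientGroup.mk' N)) := by
  have h1 := card_map_mk'_mul_card_inf N H
  have h2 := card_map_mk'_mul_card_inf N K
  rcases h with h | ⟨hNH, hNK⟩
  · rw [coprime_inf h, Subgroup.card_bot, mul_one] at h1
    rw [coprime_inf (hcard ▸ h), Subgroup.card_bot, mul_one] at h2
    rw [h1, h2, hcard]
  · rw [inf_eq_left.2 hNH] at h1
    rw [inf_eq_left.2 hNK] at h2
    exact Nat.eq_of_mul_eq_mul_right Nat.card_pos (h1.trans (hcard.trans h2.symm))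

/-- A normal `q`-subgroup of exponent `q` in a group with cyclic `q`-subgroups lies in every
subgroup of order divisible by `q`. -/
theorem le_of_dvd {q : ℕ} [hq : Fact q.Prime] (hc : ∀ P : Subgroup G, IsPGroup q P → IsCyclic P)
    (N : Subgroup G) [N.Normal] (hN : IsPGroup q N) (hexp : ∀ x ∈ N, x ^ q = 1) (hN1 : N ≠ ⊥)
    {H : Subgroup G} (hH : q ∣ Nat.card H) : N ≤ H := by
  obtain ⟨x, hx⟩ := exists_prime_orderOf_dvd_card' q hH
  have hxq : (x : G) ^ q = 1 := by
    have := congrArg Subtype.val (pow_orderOf_eq_one x)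
    rwa [hx] at this
  set Z := Subgroup.zpowers (x : G) with hZ
  have hZc : Nat.card Z = q := by rw [hZ, Nat.card_zpowers, Subgroup.orderOf_coe, hx]
  have hZp : IsPGroup q Z := IsPGroup.of_card (n := 1) (by rw [hZc, pow_one])
  have hT : IsPGroup q (N ⊔ Z : Subgroup G) := hN.to_sup_of_normal_left hZp
  haveI := hc _ hT
  obtain ⟨t, ht⟩ := IsCyclic.exists_ofOrder_eq_natCard (α := (N ⊔ Z : Subgroup G))
  obtain ⟨a, ha, z, hz, haz⟩ := Subgroup.mem_sup_of_normal_left.1 t.2
  have hcomm : Commute a z := by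
    have := (IsCyclic.commGroup (α := (N ⊔ Z : Subgroup G))).mul_comm
      (⟨a, Subgroup.mem_sup_left ha⟩ : (N ⊔ Z : Subgroup G)) ⟨z, Subgroup.mem_sup_right hz⟩
    exact congrArg Subtype.val this
  have hzq : z ^ q = 1 := by
    obtain ⟨i, rfl⟩ := hz
    simp only
    rw [← zpow_natCast, ← zpow_mul, mul_comm, zpow_mul, zpow_natCast, hxq, one_zpow]
  have htq : t ^ q = 1 := Subtype.ext (by
    rw [SubgroupClass.coe_pow, OneMemClass.coe_one, ← haz, hcomm.mul_pow, hexp a ha, hzq, one_mul])
  have hTq : Nat.card (N ⊔ Z : Subgroup G) ∣ q := ht ▸ orderOf_dvd_of_pow_eq_one htq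
  have hTN : N = N ⊔ Z := by
    refine Subgroup.eq_of_le_of_card_ge le_sup_left ?_
    obtain ⟨b, hb⟩ := IsPGroup.iff_card.1 hN
    have hb0 : b ≠ 0 := by
      rintro rfl
      exact hN1 (Subgroup.card_eq_one.1 (by rw [hb, pow_zero]))
    refine (Nat.le_of_dvd hq.out.pos hTq).trans ?_
    rw [hb]
    exact Nat.le_self_pow hb0 q
  have hNZ : N = Z := by
    refine (Subgroup.eq_of_le_of_card_ge (le_sup_right.trans hTN.ge) ?_).symm
    rw [hTN, hZc]
    exact Nat.le_of_dvd hq.out.pos hTq
  rw [hNZ, hZ, Subgroup.zpowers_le]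
  exact x.2

theorem lemmaA : ∀ (n : ℕ) (G : Type u) [Group G] [Finite G], Nat.card G = n →
    Group.IsSolvable G → ∀ r : ℕ, Cyc r G → ∀ H K : Subgroup G, Nat.card H = Nat.card K →
      (∀ p : ℕ, p.Prime → p ∣ Nat.card H → p ≠ r) → ∃ g : G, MulAut.conj g • H = K := by
  intro n
  induction n using Nat.strong_induction_on with
  | _ n ih =>
    intro G _ _ hn hsol r hc H K hcard hr
    rcases subsingleton_or_nontrivial G with hs | hs
    · exact ⟨1, Subsingleton.elim _ _⟩
    obtain ⟨N, hNn, hN1, hmin⟩ := exists_minimal_normal (G := G)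
    haveI := hNn
    have hNs : Group.IsSolvable N := inferInstance
    obtain ⟨-, q, hq, hexp, hNp⟩ := minimal_normal_elementaryAbelian N hNs hN1 hmin
    haveI := Fact.mk hq
    have hcase : (Nat.card N).Coprime (Nat.card H) ∨ (N ≤ H ∧ N ≤ K) := by
      by_cases hd : q ∣ Nat.card H
      · have := hc q hq (hr q hq hd)
        exact Or.inr ⟨le_of_dvd this N hNp hexp hN1 hd, le_of_dvd this N hNp hexp hN1 (hcard ▸ hd)⟩
      · obtain ⟨b, hb⟩ := IsPGroup.iff_card.1 hNp
        exact Or.inl (hb ▸ ((Nat.Prime.coprime_iff_not_dvd hq).2 hd).pow_left b)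
    refine of_quot N hNs hcard hcase ?_
    refine ih _ (hn ▸ card_quotient_lt N hN1) _ rfl
      (Group.isSolvable_of_surjective (QuotientGroup.mk'_surjective N)) r (hc.quot N) _ _
      (card_map_eq N hcard hcase) fun p hp hpd => hr p hp (hpd.trans (card_map_mk'_dvd N H))

theorem split {D H : Subgroup G} (hDH : D ≤ H) (hn : H ≤ Subgroup.normalizer (D : Set G))
    (hco : (Nat.card D).Coprime (Nat.card H / Nat.card D)) :
    ∃ Q : Subgroup G, Q ≤ H ∧ D ⊔ Q = H ∧ Nat.card D * Nat.card Q = Nat.card H := by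
  haveI : (D.subgroupOf H).Normal := (Subgroup.normal_subgroupOf_iff_le_normalizer hDH).2 hn
  have hcm := (D.subgroupOf H).card_mul_index
  rw [card_subgroupOf hDH] at hcm
  have hidx : (D.subgroupOf H).index = Nat.card H / Nat.card D := by
    rw [← hcm, Nat.mul_div_cancel_left _ Nat.card_pos]
  obtain ⟨C, hC⟩ := Subgroup.exists_right_complement'_of_coprime (N := D.subgroupOf H)
    (by rw [card_subgroupOf hDH, hidx]; exact hco)
  refine ⟨C.map H.subtype, Subgroup.map_subtype_le C, ?_, ?_⟩
  · have := congrArg (Subgroup.map H.subtype) hC.sup_eq_top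
    rwa [Subgroup.map_sup, Subgroup.map_subgroupOf_eq_of_le hDH, ← MonoidHom.range_eq_map,
      Subgroup.range_subtype] at this
  · rw [card_map_subtype, ← card_subgroupOf hDH]
    exact hC.card_mul

theorem main : ∀ (n : ℕ) (G : Type u) [Group G] [Finite G], Nat.card G = n →
    Group.IsSolvable G → ∀ r : ℕ, Cyc r G → PConj G → ∀ H K : Subgroup G,
      Nat.card H = Nat.card K → ∃ g : G, MulAut.conj g • H = K := by
  intro n
  induction n using Nat.strong_induction_on with
  | _ n ih =>
    intro G _ _ hn hsol r hc hD H K hcard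
    rcases subsingleton_or_nontrivial G with hs | hs
    · exact ⟨1, Subsingleton.elim _ _⟩
    obtain ⟨N, hNn, hN1, hmin⟩ := exists_minimal_normal (G := G)
    haveI := hNn
    have hNs : Group.IsSolvable N := inferInstance
    obtain ⟨-, q, hq, hexp, hNp⟩ := minimal_normal_elementaryAbelian N hNs hN1 hmin
    haveI := Fact.mk hq
    obtain ⟨b, hb⟩ := IsPGroup.iff_card.1 hNp
    have hquot : (Nat.card N).Coprime (Nat.card H) ∨ (N ≤ H ∧ N ≤ K) →
        ∃ g : G, MulAut.conj g • H = K := fun hcase => by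
      refine of_quot N hNs hcard hcase ?_
      exact ih _ (hn ▸ card_quotient_lt N hN1) _ rfl
        (Group.isSolvable_of_surjective (QuotientGroup.mk'_surjective N)) r (hc.quot N) (hD.quot N)
        _ _ (card_map_eq N hcard hcase)
    by_cases hd : q ∣ Nat.card H
    swap
    · exact hquot (Or.inl (hb ▸ ((Nat.Prime.coprime_iff_not_dvd hq).2 hd).pow_left b))
    by_cases hqr : q = r
    swap
    · have := hc q hq hqr
      exact hquot (Or.inr ⟨le_of_dvd this N hNp hexp hN1 hd,
        le_of_dvd this N hNp hexp hN1 (hcard ▸ hd)⟩)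
    set a := (Nat.card H).factorization q with hadef
    by_cases hba : b ≤ a
    · have hle : ∀ X : Subgroup G, q ^ b ∣ Nat.card X → N ≤ X := by
        intro X hX
        obtain ⟨U, hU⟩ := Sylow.exists_subgroup_card_pow_prime q hX
        have hU' : Nat.card (U.map X.subtype) = q ^ b := by rw [card_map_subtype, hU]
        obtain ⟨g, hg⟩ := hD q hq N (U.map X.subtype) hNp (IsPGroup.of_card hU') (by rw [hb, hU'])
        rw [Subgroup.Normal.conj_smul_eq_self] at hg
        exact hg ▸ Subgroup.map_subtype_le U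
      have hdvd : q ^ b ∣ Nat.card H :=
        (hq.pow_dvd_iff_le_factorization Nat.card_pos.ne').2 hba
      exact hquot (Or.inr ⟨hle H hdvd, hle K (hcard ▸ hdvd)⟩)
    · have hinf : ∀ X : Subgroup G, Nat.card X = Nat.card H →
          Nat.card (X ⊓ N : Subgroup G) = q ^ a := by
        intro X hX
        obtain ⟨U, hU⟩ := Sylow.exists_subgroup_card_pow_prime q
          (show q ^ a ∣ Nat.card X by rw [hX]; exact Nat.ordProj_dvd _ _)
        obtain ⟨V, hV⟩ := Sylow.exists_subgroup_card_pow_prime q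
          (show q ^ a ∣ Nat.card N by rw [hb]; exact pow_dvd_pow q (by omega))
        have hU' : Nat.card (U.map X.subtype) = q ^ a := by rw [card_map_subtype, hU]
        have hV' : Nat.card (V.map N.subtype) = q ^ a := by rw [card_map_subtype, hV]
        obtain ⟨g, hg⟩ := hD q hq _ _ (IsPGroup.of_card hV') (IsPGroup.of_card hU')
          (hV'.trans hU'.symm)
        have hle : U.map X.subtype ≤ X ⊓ N := by
          refine le_inf (Subgroup.map_subtype_le U) ?_
          rw [← hg]
          exact (Subgroup.pointwise_smul_le_pointwise_smul_iff.2 (Subgroup.map_subtype_le V)).trans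
            (Subgroup.Normal.conj_smul_eq_self g N).le
        refine le_antisymm ?_ (hU' ▸ Subgroup.card_le_of_le hle)
        obtain ⟨c, hc'⟩ := IsPGroup.iff_card.1 (hNp.to_le (inf_le_right : X ⊓ N ≤ N))
        rw [hc']
        refine Nat.pow_le_pow_right hq.pos ?_
        rw [hadef, ← hX]
        exact (hq.pow_dvd_iff_le_factorization Nat.card_pos.ne').1
          (hc' ▸ Subgroup.card_dvd_of_le inf_le_left)
      obtain ⟨g, hg⟩ := hD q hq (H ⊓ N) (K ⊓ N) (hNp.to_le inf_le_right) (hNp.to_le inf_le_right)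
        ((hinf H rfl).trans (hinf K hcard.symm).symm)
      set H' := MulAut.conj g • H with hH'
      set D := K ⊓ N with hDdef
      have hDH' : D = H' ⊓ N := by
        rw [← hg, hH', Subgroup.smul_inf, Subgroup.Normal.conj_smul_eq_self g N]
      have hnorm : ∀ X : Subgroup G, D = X ⊓ N → X ≤ Subgroup.normalizer (D : Set G) := by
        intro X hX x hx
        refine mem_normalizer_of_conj_smul ?_
        rw [hX, Subgroup.smul_inf, Subgroup.conj_smul_eq_self_of_mem hx,
          Subgroup.Normal.conj_smul_eq_self x N]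
      have hDc : Nat.card D = q ^ a := hinf K hcard.symm
      have hco : (Nat.card D).Coprime (Nat.card H / Nat.card D) := by
        rw [hDc]
        exact ((Nat.coprime_ordCompl hq Nat.card_pos.ne').pow_left a)
      have hH'c : Nat.card H' = Nat.card H := card_conj_smul g H
      obtain ⟨Q, hQK, hQ, hQc⟩ := split (D := D) (H := K) inf_le_left (hnorm K rfl)
        (by rw [← hcard]; exact hco)
      obtain ⟨Q', hQH, hQ', hQ'c⟩ := split (D := D) (H := H') (hDH' ▸ inf_le_left) (hnorm H' hDH')
        (by rw [hH'c]; exact hco)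
      set S := Subgroup.normalizer (D : Set G) with hS
      have hQS : Q ≤ S := hQK.trans (hnorm K rfl)
      have hQ'S : Q' ≤ S := hQH.trans (hnorm H' hDH')
      have hQeq : Nat.card Q' = Nat.card Q :=
        Nat.eq_of_mul_eq_mul_left Nat.card_pos (hQ'c.trans (hH'c.trans (hcard.trans hQc.symm)))
      obtain ⟨s, hs⟩ := lemmaA _ S rfl inferInstance r (hc.sub S) (Q'.subgroupOf S) (Q.subgroupOf S)
        (by rw [card_subgroupOf hQS, card_subgroupOf hQ'S, hQeq]) (fun p hp hpd hpr => by
          rw [card_subgroupOf hQ'S] at hpd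
          have hQ'd : Nat.card Q' = Nat.card H / Nat.card D := by
            rw [← hH'c, ← hQ'c, Nat.mul_div_cancel_left _ Nat.card_pos]
          rw [hQ'd, hDc] at hpd
          exact Nat.not_dvd_ordCompl hq Nat.card_pos.ne' (hqr.symm ▸ hpr ▸ hpd))
      refine ⟨(s : G) * g, ?_⟩
      rw [← conj_smul_conj, ← hH', ← hQ', ← hQ, Subgroup.smul_sup]
      have h1 : MulAut.conj (s : G) • D = D := conj_smul_of_mem_normalizer s.2
      have h2 : MulAut.conj (s : G) • Q' = Q := by
        have := congrArg (Subgroup.map S.subtype) hs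
        rw [map_conj_smul, Subgroup.map_subgroupOf_eq_of_le hQ'S,
          Subgroup.map_subgroupOf_eq_of_le hQS] at this
        exact this
      rw [h1, h2]

end Cfsg.Agent.Solv.SameOrderConj
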