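import Mathlib
import Cfsg.Agent.Lib.Solv.SameOrderConj
import Cfsg.Agent.Lib.Solv.IsoSubgroups
import Cfsg.Agent.Lib.Solv.Coprime
import Cfsg.Agent.Lib.Solv.Engel

/-!
Finite groups in which two abelian subgroups of the same order are conjugate: the lifting lemma
for quotients.
-/

set_option autoImplicit false
set_option linter.style.haveILetI false

open scoped Pointwise commutatorElement

namespace Cfsg.Agent.Solv.AbelianConj

universe u

variable {G : Type u} [Group G] [Finite G]

/-- Two abelian subgroups of the same order are conjugate. -/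
def BConj (G : Type u) [Group G] : Prop :=
  ∀ A B : Subgroup G, IsMulCommutative A → IsMulCommutative B → Nat.card A = Nat.card B →
    ∃ g : G, MulAut.conj g • A = B

theorem comm_zpowers (x : G) : IsMulCommutative (Subgroup.zpowers x) :=
  ⟨⟨fun a b => (IsCyclic.commGroup (α := Subgroup.zpowers x)).mul_comm a b⟩⟩

theorem comm_of_isCyclic {H : Type*} [Group H] (h : IsCyclic H) : IsMulCommutative H :=
  haveI := h
  ⟨⟨fun a b => (IsCyclic.commGroup (α := H)).mul_comm a b⟩⟩

/-- All elements of order `p` lie in every normal subgroup of order divisible by `p`. -/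
theorem mem_of_pow_eq_one (hB : BConj G) {p : ℕ} [hp : Fact p.Prime] (N : Subgroup G) [N.Normal]
    (hN : p ∣ Nat.card N) {x : G} (hx : x ^ p = 1) : x ∈ N := by
  by_cases h1 : x = 1
  · rw [h1]; exact one_mem _
  obtain ⟨y, hy⟩ := exists_prime_orderOf_dvd_card' p hN
  obtain ⟨g, hg⟩ := hB _ _ (comm_zpowers (y : G)) (comm_zpowers x)
    (by rw [Nat.card_zpowers, Nat.card_zpowers, Subgroup.orderOf_coe, hy, orderOf_eq_prime hx h1])
  have hle : MulAut.conj g • Subgroup.zpowers (y : G) ≤ MulAut.conj g • N :=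
    Subgroup.pointwise_smul_le_pointwise_smul_iff.2 (Subgroup.zpowers_le.2 y.2)
  rw [hg, Subgroup.Normal.conj_smul_eq_self g N] at hle
  exact hle (Subgroup.mem_zpowers x)

theorem unique_of_le {p : ℕ} {X P : Subgroup G} (hXP : X ≤ P) (h : UniqueOrderP p P) :
    UniqueOrderP p X := by
  intro x y hx hy hy1
  obtain ⟨i, hi⟩ := h ⟨x, hXP x.2⟩ ⟨y, hXP y.2⟩
    (Subtype.ext (congrArg Subtype.val hx : (x : G) ^ p = 1))
    (Subtype.ext (congrArg Subtype.val hy : (y : G) ^ p = 1))
    (fun e => hy1 (Subtype.ext (congrArg Subtype.val e : (y : G) = 1)))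
  exact ⟨i, Subtype.ext (congrArg Subtype.val hi : (y : G) ^ i = x)⟩

/-- If a `p`-subgroup has two subgroups of order `p`, it has exponent `p`. -/
theorem exp_of_not_unique (hB : BConj G) {p : ℕ} [hp : Fact p.Prime] {P : Subgroup G}
    (hP : IsPGroup p P) (hu : ¬ UniqueOrderP p P) : ∀ x ∈ P, x ^ p = 1 := by
  obtain ⟨E, hE, hEexp⟩ := IsoSubgroups.exists_elementary_sq hP hu
  set E' := E.map P.subtype with hE'
  have hE'c : Nat.card E' = p ^ 2 := by rw [hE', card_map_subtype, hE]
  have hE'x : ∀ x ∈ E', x ^ p = 1 := by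
    rintro _ ⟨e, he, rfl⟩
    rw [← map_pow, hEexp e he, map_one]
  have hE'ab : IsMulCommutative E' := IsPGroup.isMulCommutative_of_card_eq_prime_sq hE'c
  intro x hx
  by_contra hx1
  obtain ⟨k, hk⟩ := IsPGroup.iff_orderOf.1 hP ⟨x, hx⟩
  rw [Subgroup.orderOf_mk] at hk
  have hk2 : 2 ≤ k := by
    by_contra! h
    refine hx1 (orderOf_dvd_iff_pow_eq_one.1 ?_)
    rw [hk]
    calc p ^ k ∣ p ^ 1 := pow_dvd_pow p (by omega)
      _ = p := pow_one p
  have ho : orderOf (x ^ p ^ (k - 2)) = p ^ 2 := by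
    rw [orderOf_pow_of_dvd (pow_pos hp.out.pos _).ne' (by rw [hk]; exact pow_dvd_pow p (by omega)),
      hk, Nat.pow_div (by omega) hp.out.pos]
    congr 1; omega
  obtain ⟨g, hg⟩ := hB _ _ hE'ab (comm_zpowers (x ^ p ^ (k - 2)))
    (by rw [hE'c, Nat.card_zpowers, ho])
  have h1 := hg.ge (Subgroup.mem_zpowers (x ^ p ^ (k - 2)))
  rw [mem_conj_smul] at h1
  have h2 := hE'x _ h1
  rw [show g⁻¹ * x ^ p ^ (k - 2) * g = g⁻¹ * x ^ p ^ (k - 2) * (g⁻¹)⁻¹ by rw [inv_inv], conj_pow] at h2
  have h3 := orderOf_dvd_of_pow_eq_one (conj_eq_one_iff.1 h2)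
  rw [ho] at h3
  have := Nat.le_of_dvd hp.out.pos h3
  have := hp.out.two_le
  nlinarith

/-- For a prime dividing both order and index of a normal subgroup the `p`-subgroups have a unique
subgroup of order `p`. -/
theorem unique_of_shared (hB : BConj G) {p : ℕ} [hp : Fact p.Prime] (M : Subgroup G) [M.Normal]
    (h1 : p ∣ Nat.card M) (h2 : p ∣ M.index) {X : Subgroup G} (hX : IsPGroup p X) :
    UniqueOrderP p X := by
  obtain ⟨P, hXP⟩ := hX.exists_le_sylow
  by_contra hu
  have hPM : (P : Subgroup G) ≤ M := fun x hx => mem_of_pow_eq_one hB M h1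
    (exp_of_not_unique hB P.2 (fun h => hu (unique_of_le hXP h)) x hx)
  exact P.not_dvd_index (h2.trans (Subgroup.index_dvd_of_le hPM))

theorem cyclic_of_odd_shared (hB : BConj G) {p : ℕ} [hp : Fact p.Prime] (hp2 : p ≠ 2)
    (M : Subgroup G) [M.Normal] (h1 : p ∣ Nat.card M) (h2 : p ∣ M.index) {X : Subgroup G}
    (hX : IsPGroup p X) : IsCyclic X :=
  (cyclic_or_quaternion hX (unique_of_shared hB M h1 h2 hX)).resolve_right fun h => hp2 h.1

omit [Finite G] in
theorem le_of_card_dvd_of_cyclic [Finite G] {A B C : Subgroup G} [IsCyclic C] (hA : A ≤ C)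
    (hB : B ≤ C) (h : Nat.card A ∣ Nat.card B) : A ≤ B := by
  classical
  haveI : Fintype C := Fintype.ofFinite _
  intro a ha
  set S := Finset.univ.filter fun c : C => c ^ Nat.card B = 1 with hS
  have hS1 : (Finset.univ.filter fun c : C => (c : G) ∈ B) ⊆ S := fun c hc => by
    rw [Finset.mem_filter] at hc
    rw [hS, Finset.mem_filter]
    refine ⟨Finset.mem_univ _, Subtype.ext ?_⟩
    have := congrArg Subtype.val (pow_card_eq_one' (x := (⟨(c : G), hc.2⟩ : B)))
    exact this
  have heq := Finset.eq_of_subset_of_card_le hS1 (by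
    refine (IsCyclic.card_pow_eq_one_le (α := C) Nat.card_pos).trans_eq ?_
    rw [← card_subgroupOf hB, Nat.card_eq_fintype_card, Fintype.card_subtype]
    rfl)
  have ha' : (⟨a, hA ha⟩ : C) ∈ S := by
    rw [hS, Finset.mem_filter]
    refine ⟨Finset.mem_univ _, Subtype.ext ?_⟩
    have h1 : a ^ Nat.card A = 1 := congrArg Subtype.val (pow_card_eq_one' (x := (⟨a, ha⟩ : A)))
    obtain ⟨c, hc⟩ := h
    simp only [SubgroupClass.coe_pow, OneMemClass.coe_one, hc, pow_mul, h1, one_pow]
  rw [← heq, Finset.mem_filter] at ha'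
  exact ha'.2

theorem card_sylow_inf {p : ℕ} [hp : Fact p.Prime] (P : Sylow p G) (M : Subgroup G) [M.Normal] :
    Nat.card ((P : Subgroup G) ⊓ M : Subgroup G) = p ^ (Nat.card M).factorization p := by
  obtain ⟨c, hc⟩ := IsPGroup.iff_card.1 (P.2.to_le (inf_le_left : (P : Subgroup G) ⊓ M ≤ P))
  rw [hc]
  refine le_antisymm (Nat.pow_le_pow_right hp.out.pos ((hp.out.pow_dvd_iff_le_factorization
    Nat.card_pos.ne').1 (hc ▸ Subgroup.card_dvd_of_le inf_le_right))) ?_
  have h1 := card_map_mk'_mul_card_inf M (P : Subgroup G)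
  rw [inf_comm, hc, P.card_eq_multiplicity] at h1
  obtain ⟨a, ha⟩ := IsPGroup.iff_card.1 (P.2.map (QuotientGroup.mk' M))
  have h2 : a ≤ M.index.factorization p := by
    refine (hp.out.pow_dvd_iff_le_factorization Subgroup.index_ne_zero_of_finite).1 ?_
    rw [← ha, Subgroup.index_eq_card]
    exact Subgroup.card_subgroup_dvd_card _
  rw [ha, ← pow_add] at h1
  have h3 := Nat.pow_right_injective hp.out.two_le h1
  have h4 : (Nat.card G).factorization p =
      (Nat.card M).factorization p + M.index.factorization p := by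
    rw [← M.card_mul_index, Nat.factorization_mul Nat.card_pos.ne' Subgroup.index_ne_zero_of_finite,
      Finsupp.add_apply]
  exact Nat.pow_le_pow_right hp.out.pos (by omega)

theorem inf_of_cyclic_sylow {p : ℕ} [hp : Fact p.Prime] (P : Sylow p G) (M : Subgroup G) [M.Normal]
    [IsCyclic (P : Subgroup G)] {X : Subgroup G} (hXP : X ≤ P) (hXM : ¬ X ≤ M) :
    Nat.card (X ⊓ M : Subgroup G) = p ^ (Nat.card M).factorization p := by
  obtain ⟨a, ha⟩ := IsPGroup.iff_card.1 (P.2.to_le hXP)
  obtain ⟨b, hb⟩ := IsPGroup.iff_card.1 (P.2.to_le (inf_le_left : (P : Subgroup G) ⊓ M ≤ P))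
  rw [← card_sylow_inf P M]
  rcases le_total a b with h | h
  · exact absurd ((le_of_card_dvd_of_cyclic hXP (inf_le_left : (P : Subgroup G) ⊓ M ≤ P)
      (by rw [ha, hb]; exact pow_dvd_pow p h)).trans inf_le_right) hXM
  · have hle := le_of_card_dvd_of_cyclic (inf_le_left : (P : Subgroup G) ⊓ M ≤ P) hXP
      (by rw [ha, hb]; exact pow_dvd_pow p h)
    rw [le_antisymm (inf_le_inf_right M hXP) (le_inf hle inf_le_right)]

theorem comm_of_nilpotent {H : Type*} [Group H] [Finite H] [Group.IsNilpotent H]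
    (h : ∀ (p : ℕ), p.Prime → ∀ X : Subgroup H, IsPGroup p X → IsMulCommutative X) :
    IsMulCommutative H := by
  obtain ⟨e⟩ := ((Group.isNilpotent_of_finite_tfae (G := H)).out 0 4
    (a := Group.IsNilpotent H)
    (b := Nonempty ((∀ p : (Nat.card H).primeFactors, ∀ P : Sylow p H, (↑P : Subgroup H)) ≃* H))).1
      ‹_›
  refine ⟨⟨fun a b => e.symm.injective ?_⟩⟩
  rw [map_mul, map_mul]
  funext p P
  haveI := Fact.mk (Nat.prime_of_mem_primeFactors p.2)
  exact (h p (Nat.prime_of_mem_primeFactors p.2) P P.2).is_comm.comm _ _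

/-- A minimal supplement of `M` in the preimage of an abelian subgroup of `G ⧸ M`. -/
theorem exists_supplement (M : Subgroup G) [M.Normal] (Ab : Subgroup (G ⧸ M))
    (hab : IsMulCommutative Ab) :
    ∃ A : Subgroup G, A.map (QuotientGroup.mk' M) = Ab ∧ Group.IsNilpotent A ∧
      ∀ q : ℕ, q.Prime → q ∣ Nat.card A → q ∣ Nat.card Ab := by
  obtain ⟨A, hA⟩ := Set.Finite.exists_minimal
    (s := {A : Subgroup G | A.map (QuotientGroup.mk' M) = Ab}) (Set.toFinite _)
    ⟨Ab.comap (QuotientGroup.mk' M),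
      Subgroup.map_comap_eq_self_of_surjective (QuotientGroup.mk'_surjective M) Ab⟩
  have hmap : A.map (QuotientGroup.mk' M) = Ab := hA.prop
  -- every maximal subgroup contains the intersection with `M`
  have hco : ∀ L : Subgroup A, IsCoatom L → M.subgroupOf A ≤ L := by
    intro L hL
    by_contra hle
    have htop : L ⊔ M.subgroupOf A = ⊤ := hL.2 _ (left_lt_sup.2 hle)
    have hL' : (L.map A.subtype).map (QuotientGroup.mk' M) = Ab := by
      refine le_antisymm ((Subgroup.map_mono (Subgroup.map_subtype_le L)).trans hmap.le) ?_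
      rw [← hmap]
      rintro _ ⟨a, ha, rfl⟩
      obtain ⟨l, hl, m, hm, hlm⟩ := Subgroup.mem_sup_of_normal_right.1
        (htop.ge (Subgroup.mem_top (⟨a, ha⟩ : A)))
      refine ⟨l.1, ⟨l, hl, rfl⟩, ?_⟩
      rw [← show (l : G) * m = a from congrArg Subtype.val hlm, map_mul]
      show _ = _ * (QuotientGroup.mk' M) (m : G)
      rw [show (QuotientGroup.mk' M) (m : G) = 1 from (QuotientGroup.eq_one_iff _).2 hm, mul_one]
    have := hA.eq_of_le hL' (Subgroup.map_subtype_le L)
    refine hL.1 (top_le_iff.1 fun a _ => ?_)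
    obtain ⟨l, hl, hla⟩ := this.ge a.2
    rwa [show a = l from Subtype.ext hla.symm]
  have hnil : Group.IsNilpotent A := by
    refine ((Group.isNilpotent_of_finite_tfae (G := A)).out 0 2
      (a := Group.IsNilpotent A) (b := ∀ H : Subgroup A, IsCoatom H → H.Normal)).2 fun L hL => ?_
    constructor
    intro l hl g
    have hc : g * l * g⁻¹ * l⁻¹ ∈ M.subgroupOf A := by
      rw [Subgroup.mem_subgroupOf, ← QuotientGroup.eq_one_iff]
      have := congrArg Subtype.val (hab.is_comm.comm
        (⟨_, hmap.le ⟨g.1, g.2, rfl⟩⟩ : Ab) ⟨_, hmap.le ⟨l.1, l.2, rfl⟩⟩)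
      simp only [Subgroup.coe_mul, QuotientGroup.mk'_apply] at this
      simp only [Subgroup.coe_mul, InvMemClass.coe_inv, QuotientGroup.mk_mul, QuotientGroup.mk_inv]
      rw [this, mul_inv_cancel_right, mul_inv_cancel]
    have := mul_mem (hco L hL hc) hl
    rwa [inv_mul_cancel_right] at this
  refine ⟨A, hmap, hnil, fun q hq hqA => ?_⟩
  haveI := Fact.mk hq
  by_contra hqn
  haveI := hnil
  obtain ⟨P⟩ : Nonempty (Sylow q A) := inferInstance
  obtain ⟨C, hC⟩ := Subgroup.exists_right_complement'_of_coprime (N := (P : Subgroup A))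
    (P.card_coprime_index)
  have hP1 : (P : Subgroup A) ≠ ⊥ := fun h => P.ne_bot_of_dvd_card hqA h
  have hPM : (P : Subgroup A) ≤ M.subgroupOf A := by
    intro x hx
    obtain ⟨k, hk⟩ := IsPGroup.iff_orderOf.1 P.2 ⟨x, hx⟩
    rw [Subgroup.orderOf_mk] at hk
    rw [Subgroup.mem_subgroupOf, ← QuotientGroup.eq_one_iff, ← orderOf_eq_one_iff]
    have h1 : orderOf ((x : G) : G ⧸ M) ∣ q ^ k :=
      hk ▸ (Subgroup.orderOf_coe x ▸ orderOf_map_dvd (QuotientGroup.mk' M) (x : G))
    have h2 : orderOf ((x : G) : G ⧸ M) ∣ Nat.card Ab := by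
      rw [← Subgroup.orderOf_mk ((x : G) : G ⧸ M) (hmap.le ⟨x.1, x.2, rfl⟩)]
      exact orderOf_dvd_natCard _
    exact Nat.eq_one_of_dvd_coprimes (((Nat.Prime.coprime_iff_not_dvd hq).2 hqn).pow_left k) h1 h2
  have hCt : C ≠ ⊤ := by
    intro h
    have := hC.disjoint.eq_bot
    rw [h, inf_top_eq] at this
    exact hP1 this
  obtain ⟨L, hL, hCL⟩ := (eq_top_or_exists_le_coatom C).resolve_left hCt
  exact hL.1 (top_le_iff.1 (hC.sup_eq_top.ge.trans (sup_le (hPM.trans (hco L hL)) hCL)))

/-- The lifting theorem. -/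
theorem lift (hB : BConj G) (M : Subgroup G) [M.Normal]
    (hcap : ∀ q : ℕ, q.Prime → q ∣ Nat.card M → q ∣ M.index → ∀ X : Subgroup G, IsPGroup q X →
      ¬ X ≤ M → Nat.card (X ⊓ M : Subgroup G) = q ^ (Nat.card M).factorization q)
    (habel : ∀ q : ℕ, q.Prime → q ∣ Nat.card M → q ∣ M.index → ∀ X : Subgroup G, IsPGroup q X →
      IsMulCommutative X ∨ (q = 2 ∧ Nat.card X = 2 ^ (Nat.card G).factorization 2)) :
    BConj (G ⧸ M) := by
  set f := QuotientGroup.mk' M with hf
  -- properties of a supplement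
  have main : ∀ (Ab : Subgroup (G ⧸ M)) (A : Subgroup G), IsMulCommutative Ab → A.map f = Ab →
      Group.IsNilpotent A → (∀ q : ℕ, q.Prime → q ∣ Nat.card A → q ∣ Nat.card Ab) →
      (∀ q : ℕ, q.Prime → (Nat.card A).factorization q = (Nat.card Ab).factorization q +
        if q ∣ Nat.card Ab then (Nat.card M).factorization q else 0) ∧
      ∀ q : ℕ, q.Prime → ∀ X : Subgroup G, IsPGroup q X → X ≤ A →
        IsMulCommutative X ∨ (q = 2 ∧ Nat.card X = 2 ^ (Nat.card G).factorization 2) := by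
    intro Ab A hab hmap hnil hdiv
    have hAbd : Nat.card Ab ∣ M.index := by
      rw [Subgroup.index_eq_card]; exact Subgroup.card_subgroup_dvd_card _
    have hcardA : Nat.card Ab * Nat.card (M ⊓ A : Subgroup G) = Nat.card A := by
      rw [← hmap]; exact card_map_mk'_mul_card_inf M A
    refine ⟨fun q hq => ?_, fun q hq X hX hXA => ?_⟩
    · haveI := Fact.mk hq
      have hf1 : (Nat.card A).factorization q =
          (Nat.card Ab).factorization q + (Nat.card (M ⊓ A : Subgroup G)).factorization q := by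
        rw [← hcardA, Nat.factorization_mul Nat.card_pos.ne' Nat.card_pos.ne', Finsupp.add_apply]
      by_cases hd : q ∣ Nat.card Ab
      swap
      · rw [if_neg hd, Nat.factorization_eq_zero_of_not_dvd (fun h => hd (hdiv q hq h)),
          Nat.factorization_eq_zero_of_not_dvd hd]
      rw [if_pos hd, hf1]
      congr 1
      have hup : (Nat.card (M ⊓ A : Subgroup G)).factorization q ≤ (Nat.card M).factorization q :=
        (Nat.factorization_le_iff_dvd Nat.card_pos.ne' Nat.card_pos.ne').2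
          (Subgroup.card_dvd_of_le inf_le_left) q
      by_cases hqM : q ∣ Nat.card M
      swap
      · have := Nat.factorization_eq_zero_of_not_dvd hqM
        omega
      refine le_antisymm hup ?_
      obtain ⟨P⟩ : Nonempty (Sylow q A) := inferInstance
      set X := (P : Subgroup A).map A.subtype with hXdef
      have hXc : Nat.card X = q ^ (Nat.card A).factorization q := by
        rw [hXdef, card_map_subtype, P.card_eq_multiplicity]
      have hXp : IsPGroup q X := IsPGroup.of_card hXc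
      have hXA : X ≤ A := Subgroup.map_subtype_le _
      have hpos := hq.factorization_pos_of_dvd Nat.card_pos.ne' hd
      by_cases hXM : X ≤ M
      · have h1 : q ^ (Nat.card A).factorization q ∣ Nat.card (M ⊓ A : Subgroup G) :=
          hXc ▸ Subgroup.card_dvd_of_le (le_inf hXM hXA)
        have := (hq.pow_dvd_iff_le_factorization Nat.card_pos.ne').1 h1
        omega
      · refine (hq.pow_dvd_iff_le_factorization Nat.card_pos.ne').1 ?_
        rw [← hcap q hq hqM (hd.trans hAbd) X hXp hXM]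
        exact Subgroup.card_dvd_of_le (le_inf inf_le_right (inf_le_left.trans hXA))
    · haveI := Fact.mk hq
      by_cases hX1 : X = ⊥
      · subst hX1
        exact Or.inl ⟨⟨fun a b => Subsingleton.elim _ _⟩⟩
      by_cases hqM : q ∣ Nat.card M
      · have hqX : q ∣ Nat.card X := by
          obtain ⟨k, hk⟩ := IsPGroup.iff_card.1 hX
          rw [hk]
          refine dvd_pow_self q fun h => hX1 (Subgroup.card_eq_one.1 ?_)
          rw [hk, h, pow_zero]
        exact habel q hq hqM
          ((hdiv q hq (hqX.trans (Subgroup.card_dvd_of_le hXA))).trans hAbd) X hX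
      · left
        refine ⟨⟨fun a b => Subtype.ext ?_⟩⟩
        have h1 : (a : G) * b * (a : G)⁻¹ * (b : G)⁻¹ ∈ X ⊓ M := by
          refine ⟨X.mul_mem (X.mul_mem (X.mul_mem a.2 b.2) (X.inv_mem a.2)) (X.inv_mem b.2), ?_⟩
          show (a : G) * b * (a : G)⁻¹ * (b : G)⁻¹ ∈ M
          rw [← QuotientGroup.eq_one_iff]
          have := congrArg Subtype.val (hab.is_comm.comm
            (⟨_, hmap.le ⟨a.1, hXA a.2, rfl⟩⟩ : Ab) ⟨_, hmap.le ⟨b.1, hXA b.2, rfl⟩⟩)
          simp only [Subgroup.coe_mul, hf, QuotientGroup.mk'_apply] at this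
          rw [QuotientGroup.mk_mul, QuotientGroup.mk_mul, QuotientGroup.mk_mul, QuotientGroup.mk_inv,
            QuotientGroup.mk_inv, this, mul_inv_cancel_right, mul_inv_cancel]
        have h2 : X ⊓ M = ⊥ := by
          refine coprime_inf ?_
          obtain ⟨k, hk⟩ := IsPGroup.iff_card.1 hX
          rw [hk]
          exact ((Nat.Prime.coprime_iff_not_dvd hq).2 hqM).pow_left k
        rw [h2, Subgroup.mem_bot, ← commutatorElement_def,
          commutatorElement_eq_one_iff_mul_comm] at h1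
        exact h1
  intro Ab Bb hAb hBb hcard
  obtain ⟨A, hAm, hAn, hAd⟩ := exists_supplement M Ab hAb
  obtain ⟨B, hBm, hBn, hBd⟩ := exists_supplement M Bb hBb
  obtain ⟨hAf, hAX⟩ := main Ab A hAb hAm hAn hAd
  obtain ⟨hBf, hBX⟩ := main Bb B hBb hBm hBn hBd
  have hAB : Nat.card A = Nat.card B := by
    refine Nat.eq_of_factorization_eq Nat.card_pos.ne' Nat.card_pos.ne' fun q => ?_
    by_cases hq : q.Prime
    · rw [hAf q hq, hBf q hq, hcard]
    · rw [Nat.factorization_eq_zero_of_not_prime _ hq, Nat.factorization_eq_zero_of_not_prime _ hq]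
  suffices h : ∃ g : G, MulAut.conj g • A = B by
    obtain ⟨g, hg⟩ := h
    exact ⟨f g, by rw [← hAm, ← hBm, ← hg, map_conj_smul]⟩
  -- abelian when the Sylow 2-subgroups are
  haveI := Fact.mk Nat.prime_two
  set n := (Nat.card G).factorization 2 with hn
  have habA : ∀ (T : Subgroup G), Group.IsNilpotent T →
      (∀ q : ℕ, q.Prime → ∀ X : Subgroup G, IsPGroup q X → X ≤ T →
        IsMulCommutative X ∨ (q = 2 ∧ Nat.card X = 2 ^ n)) →
      IsMulCommutative T ∨ ∃ X C : Subgroup G, X ≤ T ∧ Nat.card X = 2 ^ n ∧ IsPGroup 2 X ∧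
        IsMulCommutative C ∧ X ⊔ C = T ∧ Nat.card X * Nat.card C = Nat.card T ∧
        X ≤ Subgroup.centralizer (C : Set G) := by
    intro T hT hX
    haveI := hT
    by_cases hab : ∀ (q : ℕ), q.Prime → ∀ X : Subgroup T, IsPGroup q X → IsMulCommutative X
    · exact Or.inl (comm_of_nilpotent hab)
    push Not at hab
    obtain ⟨q, hq, X, hXp, hXna⟩ := hab
    haveI := Fact.mk hq
    have hXna' : ¬ IsMulCommutative (X.map T.subtype) := fun h => hXna ⟨⟨fun a b => Subtype.ext
      (Subtype.ext (congrArg Subtype.val (h.is_comm.comm ⟨(a : T).1, _, a.2, rfl⟩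
        ⟨(b : T).1, _, b.2, rfl⟩) : ((a : T) : G) * (b : T) = (b : T) * (a : T)))⟩⟩
    obtain ⟨rfl, hXc⟩ := (hX q hq _ (hXp.map _) (Subgroup.map_subtype_le _)).resolve_left hXna'
    obtain ⟨P, hP⟩ := hXp.exists_le_sylow
    have hPc : Nat.card ((P : Subgroup T).map T.subtype) = 2 ^ n := by
      refine le_antisymm ?_ (hXc ▸ Subgroup.card_le_of_le (Subgroup.map_mono hP))
      rw [card_map_subtype, P.card_eq_multiplicity]
      exact Nat.pow_le_pow_right two_pos ((Nat.factorization_le_iff_dvd Nat.card_pos.ne'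
        Nat.card_pos.ne').2 (Subgroup.card_subgroup_dvd_card T) 2)
    obtain ⟨C, hC⟩ := Subgroup.exists_right_complement'_of_coprime (N := (P : Subgroup T))
      P.card_coprime_index
    have hCo : (Nat.card C).Coprime 2 := by
      rw [← hC.symm.index_eq_card]
      exact ((Nat.Prime.coprime_iff_not_dvd Nat.prime_two).2 P.not_dvd_index).symm
    have hCodd : ∀ q : ℕ, q.Prime → q ∣ Nat.card C → q ≠ 2 := fun q _ hd e => by
      subst e
      exact absurd (Nat.eq_one_of_dvd_coprimes hCo hd dvd_rfl) (by norm_num)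
    have hCab : IsMulCommutative C := by
      haveI : Group.IsNilpotent C := inferInstance
      refine comm_of_nilpotent fun q' hq' Y hY => ?_
      haveI := Fact.mk hq'
      by_cases hY1 : Y = ⊥
      · subst hY1; exact ⟨⟨fun a b => Subsingleton.elim _ _⟩⟩
      have hq2 : q' ≠ 2 := by
        refine hCodd q' hq' ((?_ : q' ∣ Nat.card Y).trans (Subgroup.card_subgroup_dvd_card Y))
        obtain ⟨k, hk⟩ := IsPGroup.iff_card.1 hY
        rw [hk]
        refine dvd_pow_self q' fun h => hY1 (Subgroup.card_eq_one.1 ?_)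
        rw [hk, h, pow_zero]
      have h1 := (hX q' hq' ((Y.map C.subtype).map T.subtype) ((hY.map _).map _)
        (Subgroup.map_subtype_le _)).resolve_right fun h => hq2 h.1
      exact ⟨⟨fun a b => Subtype.ext (Subtype.ext (Subtype.ext (congrArg Subtype.val (h1.is_comm.comm
        ⟨((a : C) : T).1, _, ⟨_, a.2, rfl⟩, rfl⟩ ⟨((b : C) : T).1, _, ⟨_, b.2, rfl⟩, rfl⟩) :
          (((a : C) : T) : G) * ((b : C) : T) = ((b : C) : T) * ((a : C) : T))))⟩⟩
    refine Or.inr ⟨(P : Subgroup T).map T.subtype, C.map T.subtype, Subgroup.map_subtype_le _, hPc,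
      P.2.map _, ⟨⟨?_⟩⟩, ?_, ?_, ?_⟩
    · rintro ⟨_, a, ha, rfl⟩ ⟨_, b, hb, rfl⟩
      refine Subtype.ext ?_
      show (a : G) * b = b * a
      exact congrArg (fun t : C => ((t : T) : G)) (hCab.is_comm.comm ⟨a, ha⟩ ⟨b, hb⟩)
    · rw [← Subgroup.map_sup, hC.sup_eq_top, ← MonoidHom.range_eq_map, Subgroup.range_subtype]
    · rw [card_map_subtype, card_map_subtype]; exact hC.card_mul
    · rintro _ ⟨u, hu, rfl⟩
      rw [Subgroup.mem_centralizer_iff]
      rintro _ ⟨v, hv, rfl⟩
      obtain ⟨k, hk⟩ := IsPGroup.iff_orderOf.1 P.2 ⟨u, hu⟩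
      rw [Subgroup.orderOf_mk] at hk
      have := commute_of_coprime_nilpotent hk
        (hCo.coprime_dvd_left (Subgroup.orderOf_dvd_natCard C hv) : (orderOf v).Coprime 2)
      exact (congrArg Subtype.val this.eq).symm
  have hfull : ∀ (T X : Subgroup G), X ≤ T → Nat.card X = 2 ^ n →
      ∀ Y : Subgroup G, Nat.card T = Nat.card Y → 2 ^ n ∣ Nat.card Y :=
    fun T X hXT hXc Y hY => hY ▸ hXc ▸ Subgroup.card_dvd_of_le hXT
  -- one nonabelian supplement forces the shape of the other
  rcases habA A hAn hAX with hA | ⟨X, C, hXA, hXc, hXp, hC, hXC, hXCc, hXz⟩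
  · rcases habA B hBn hBX with hB' | ⟨X', C', hXB, hXc', hXp', hC', hXC', hXCc', hXz'⟩
    · exact hB A B hA hB' hAB
    · -- take the Sylow 2-subgroup of the abelian `A`
      obtain ⟨U, hU⟩ := Sylow.exists_subgroup_card_pow_prime 2 (hfull B X' hXB hXc' A hAB.symm)
      haveI : (U).Normal := ⟨fun u hu g => by
        rw [hA.is_comm.comm g u, mul_inv_cancel_right]; exact hu⟩
      obtain ⟨V, hV⟩ := Subgroup.exists_right_complement'_of_coprime (N := U) (by
        rw [hU]
        refine Nat.Coprime.pow_left n ((Nat.Prime.coprime_iff_not_dvd Nat.prime_two).2 fun h => ?_)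
        have h1 : 2 ^ (n + 1) ∣ Nat.card A := by
          rw [← U.card_mul_index, hU, pow_succ]; exact Nat.mul_dvd_mul_left _ h
        have h2 := (Nat.prime_two.pow_dvd_iff_le_factorization Nat.card_pos.ne').1
          (h1.trans (Subgroup.card_subgroup_dvd_card A))
        omega)
      refine conj_of_parts hB (X := U.map A.subtype) (C := V.map A.subtype) (X' := X') (C' := C')
        (by rw [card_map_subtype, hU]) hXc' (IsPGroup.of_card (n := n) (by rw [card_map_subtype, hU]))
        hXp' ⟨⟨?_⟩⟩ hC' ?_ hXC' ?_ ?_ hXz'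
      · rintro ⟨_, a, ha, rfl⟩ ⟨_, b, hb, rfl⟩
        exact Subtype.ext (congrArg Subtype.val (hA.is_comm.comm a b) : (a : G) * b = b * a)
      · rw [← Subgroup.map_sup, hV.sup_eq_top, ← MonoidHom.range_eq_map, Subgroup.range_subtype]
      · have h1 := hV.card_mul
        rw [hU] at h1
        rw [← hAB, ← h1, hXc'] at hXCc'
        rw [card_map_subtype]
        exact (Nat.eq_of_mul_eq_mul_left (pow_pos two_pos n) hXCc').symm
      · rintro _ ⟨u, hu, rfl⟩
        rw [Subgroup.mem_centralizer_iff]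
        rintro _ ⟨v, hv, rfl⟩
        exact congrArg Subtype.val (hA.is_comm.comm v u)
  · rcases habA B hBn hBX with hB' | ⟨X', C', hXB, hXc', hXp', hC', hXC', hXCc', hXz'⟩
    · obtain ⟨U, hU⟩ := Sylow.exists_subgroup_card_pow_prime 2 (hfull A X hXA hXc B hAB)
      haveI : (U).Normal := ⟨fun u hu g => by
        rw [hB'.is_comm.comm g u, mul_inv_cancel_right]; exact hu⟩
      obtain ⟨V, hV⟩ := Subgroup.exists_right_complement'_of_coprime (N := U) (by
        rw [hU]
        refine Nat.Coprime.pow_left n ((Nat.Prime.coprime_iff_not_dvd Nat.prime_two).2 fun h => ?_)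
        have h1 : 2 ^ (n + 1) ∣ Nat.card B := by
          rw [← U.card_mul_index, hU, pow_succ]; exact Nat.mul_dvd_mul_left _ h
        have h2 := (Nat.prime_two.pow_dvd_iff_le_factorization Nat.card_pos.ne').1
          (h1.trans (Subgroup.card_subgroup_dvd_card B))
        omega)
      refine conj_of_parts hB (X := X) (C := C) (X' := U.map B.subtype) (C' := V.map B.subtype)
        hXc (by rw [card_map_subtype, hU]) hXp (IsPGroup.of_card (n := n) (by rw [card_map_subtype, hU]))
        hC ⟨⟨?_⟩⟩ hXC ?_ ?_ hXz ?_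
      · rintro ⟨_, a, ha, rfl⟩ ⟨_, b, hb, rfl⟩
        exact Subtype.ext (congrArg Subtype.val (hB'.is_comm.comm a b) : (a : G) * b = b * a)
      · rw [← Subgroup.map_sup, hV.sup_eq_top, ← MonoidHom.range_eq_map, Subgroup.range_subtype]
      · have h1 := hV.card_mul
        rw [hU] at h1
        rw [hAB, ← h1, hXc] at hXCc
        rw [card_map_subtype]
        exact Nat.eq_of_mul_eq_mul_left (pow_pos two_pos n) hXCc
      · rintro _ ⟨u, hu, rfl⟩
        rw [Subgroup.mem_centralizer_iff]
        rintro _ ⟨v, hv, rfl⟩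
        exact congrArg Subtype.val (hB'.is_comm.comm v u)
    · refine conj_of_parts hB hXc hXc' hXp hXp' hC hC' hXC hXC' ?_ hXz hXz'
      rw [hXc] at hXCc
      rw [hXc', ← hAB, ← hXCc] at hXCc'
      exact (Nat.eq_of_mul_eq_mul_left (pow_pos two_pos n) hXCc').symm
where
  conj_of_parts (hB : BConj G) {X C X' C' A B : Subgroup G}
      (hXc : Nat.card X = 2 ^ (Nat.card G).factorization 2)
      (hXc' : Nat.card X' = 2 ^ (Nat.card G).factorization 2)
      (hXp : IsPGroup 2 X) (hXp' : IsPGroup 2 X')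
      (hC : IsMulCommutative C) (hC' : IsMulCommutative C') (hA : X ⊔ C = A) (hB' : X' ⊔ C' = B)
      (hCc : Nat.card C = Nat.card C') (hz : X ≤ Subgroup.centralizer (C : Set G))
      (hz' : X' ≤ Subgroup.centralizer (C' : Set G)) : ∃ g : G, MulAut.conj g • A = B := by
    haveI := Fact.mk Nat.prime_two
    obtain ⟨g, rfl⟩ := hB C C' hC hC' hCc
    set Z := Subgroup.centralizer ((MulAut.conj g • C : Subgroup G) : Set G) with hZ
    have hgX : MulAut.conj g • X ≤ Z := by
      intro y hy
      rw [mem_conj_smul] at hy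
      rw [hZ, Subgroup.mem_centralizer_iff]
      intro c hc
      rw [SetLike.mem_coe, mem_conj_smul] at hc
      have := congrArg (fun t => g * t * g⁻¹) (Subgroup.mem_centralizer_iff.1 (hz hy) _ hc)
      simpa [mul_assoc] using this
    have syl : ∀ Y : Subgroup G, Y ≤ Z → Nat.card Y = 2 ^ (Nat.card G).factorization 2 →
        IsSylIn 2 Y Z := fun Y hY hc => ⟨hY, by
      rw [hc]
      refine le_antisymm ?_ (Nat.pow_le_pow_right two_pos ((Nat.factorization_le_iff_dvd
        Nat.card_pos.ne' Nat.card_pos.ne').2 (Subgroup.card_subgroup_dvd_card Z) 2))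
      exact Nat.pow_le_pow_right two_pos ((Nat.prime_two.pow_dvd_iff_le_factorization
        Nat.card_pos.ne').1 (hc ▸ Subgroup.card_dvd_of_le hY))⟩
    obtain ⟨k, hk, hkX⟩ := (syl _ hgX (by rw [card_conj_smul, hXc])).exists_conj (syl X' hz' hXc')
    refine ⟨k * g, ?_⟩
    rw [← conj_smul_conj, ← hA, ← hB', Subgroup.smul_sup, Subgroup.smul_sup, hkX]
    congr 1
    refine Subgroup.eq_of_le_of_card_ge ?_ (card_conj_smul _ _).ge
    intro y hy
    rw [mem_conj_smul] at hy
    have h1 := Subgroup.mem_centralizer_iff.1 hk _ hy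
    rwa [show y = k⁻¹ * y * k by
      calc y = k * (k⁻¹ * y * k) * k⁻¹ := by group
        _ = k⁻¹ * y * k := by rw [← h1]; group]

end Cfsg.Agent.Solv.AbelianConj
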