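import Cfsg.Agent.Lib.Solv.CoprimeRep
import Cfsg.Agent.Lib.Solv.Extraspecial

/-!
A simple representation of a group of class two with non-degenerate commutator pairing, and an
automorphism acting freely modulo the centre: the dimension and the eigenvalue multiplicities of the
intertwining operator.
-/

set_option autoImplicit false
set_option linter.style.haveILetI false

namespace Cfsg.Agent.Solv.CRep

open scoped commutatorElement

variable {F : Type*} [Field F] [IsAlgClosed F] {E : Type*} [Group E] [Finite E]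
variable {W : Type*} [AddCommGroup W] [Module F W] [FiniteDimensional F W]

/-- Numbers `m j`, `j : Fin h`, with `h ∑ m j ^ 2 = (∑ m j) ^ 2 + h - 1` differ in one place by
one from a constant. -/
theorem multiplicity_arith {h : ℕ} (hh : 2 ≤ h) (m : Fin h → ℕ)
    (heq : h * ∑ j, m j ^ 2 + 1 = (∑ j, m j) ^ 2 + h) :
    (∃ a, (∑ j, m j) + 1 = h * a ∨ (∑ j, m j) = h * a + 1) ∧
      ((∃ j, m j = 0) → (∑ j, m j) = 1 ∨ (∑ j, m j) + 1 = h) := by
  classical
  haveI : Nonempty (Fin h) := ⟨⟨0, by omega⟩⟩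
  obtain ⟨j₀, hj₀⟩ := Finite.exists_min m
  obtain ⟨a, ha⟩ : ∃ a, a = m j₀ := ⟨_, rfl⟩
  obtain ⟨y, hy⟩ : ∃ y : Fin h → ℕ, ∀ j, m j = a + y j :=
    ⟨fun j => m j - a, fun j => by have := hj₀ j; show m j = a + (m j - a); omega⟩
  obtain ⟨T, hT⟩ : ∃ T, T = Finset.univ.filter fun j => y j ≠ 0 := ⟨_, rfl⟩
  have hj0T : j₀ ∉ T := by
    rw [hT, Finset.mem_filter, not_and, not_not]
    intro _
    have := hy j₀
    omega
  have hsum : ∑ j, m j = h * a + ∑ j ∈ T, y j := by
    rw [Finset.sum_congr rfl (fun j _ => hy j), Finset.sum_add_distrib, Finset.sum_const,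
      Finset.card_univ, Fintype.card_fin, smul_eq_mul, hT, Finset.sum_filter_ne_zero]
  have hsq : ∑ j, m j ^ 2 = h * a ^ 2 + 2 * a * ∑ j ∈ T, y j + ∑ j ∈ T, y j ^ 2 := by
    rw [Finset.sum_congr rfl (fun j _ => by rw [hy j, add_sq]), Finset.sum_add_distrib,
      Finset.sum_add_distrib, Finset.sum_const, Finset.card_univ, Fintype.card_fin, smul_eq_mul,
      ← Finset.mul_sum, hT, Finset.sum_filter_ne_zero]
    congr 1
    refine (Finset.sum_subset (Finset.filter_subset _ _) fun j _ hj => ?_).symm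
    simp only [Finset.mem_filter, Finset.mem_univ, true_and, not_not] at hj
    rw [hj]; norm_num
  have hred : h * ∑ j ∈ T, y j ^ 2 + 1 = (∑ j ∈ T, y j) ^ 2 + h := by
    rw [hsum, hsq] at heq
    nlinarith
  have hcs : (∑ j ∈ T, y j) ^ 2 ≤ T.card * ∑ j ∈ T, y j ^ 2 := sq_sum_le_card_mul_sum_sq
  have hge : T.card ≤ ∑ j ∈ T, y j ^ 2 := by
    rw [Finset.card_eq_sum_ones]
    refine Finset.sum_le_sum fun j hj => ?_
    rw [hT, Finset.mem_filter] at hj
    exact Nat.one_le_pow _ _ (Nat.pos_of_ne_zero hj.2)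
  have hTh : T.card < h := by
    have := Finset.card_lt_univ_of_notMem hj0T
    simpa using this
  have hs1 : 1 ≤ T.card := by
    by_contra h0
    have : T = ∅ := Finset.card_eq_zero.1 (by omega)
    rw [this] at hred
    simp at hred
    omega
  obtain ⟨k, hk⟩ := Nat.exists_eq_add_of_lt hTh
  have hQ : (k + 1) * ∑ j ∈ T, y j ^ 2 + 1 ≤ h := by nlinarith
  have hQ' : (k + 1) * T.card + 1 ≤ h := le_trans (by nlinarith) hQ
  have hend : ∑ j ∈ T, y j ^ 2 = T.card ∧ (T.card = 1 ∨ k = 0) := by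
    have h1 : k * T.card ≤ k := by nlinarith
    rcases Nat.eq_zero_or_pos k with rfl | hkpos
    · refine ⟨?_, Or.inr rfl⟩
      omega
    · have h2 : T.card ≤ 1 := Nat.le_of_mul_le_mul_left (by omega) hkpos
      have h3 : T.card = 1 := by omega
      refine ⟨?_, Or.inl h3⟩
      rw [h3] at hge ⊢
      by_contra hne
      have h4 : (k + 1) * 2 ≤ (k + 1) * ∑ j ∈ T, y j ^ 2 := Nat.mul_le_mul_left _ (by omega)
      omega
  have hy1 : ∀ j ∈ T, y j = 1 := by
    intro j hj
    by_contra hne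
    have hj' := hj
    rw [hT, Finset.mem_filter] at hj'
    have h1 : 2 ≤ y j ^ 2 := by
      have : 2 ≤ y j := by omega
      nlinarith
    have h2 := hend.1
    rw [← Finset.add_sum_erase _ _ hj] at h2
    have h3 : (T.erase j).card ≤ ∑ i ∈ T.erase j, y i ^ 2 := by
      rw [Finset.card_eq_sum_ones]
      refine Finset.sum_le_sum fun i hi => ?_
      have hi' := (Finset.mem_erase.1 hi).2
      rw [hT, Finset.mem_filter] at hi'
      exact Nat.one_le_pow _ _ (Nat.pos_of_ne_zero hi'.2)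
    rw [Finset.card_erase_of_mem hj] at h3
    omega
  have hys : ∑ j ∈ T, y j = T.card := by
    rw [Finset.card_eq_sum_ones]; exact Finset.sum_congr rfl hy1
  rw [hys] at hsum
  refine ⟨?_, ?_⟩
  · rcases hend.2 with h1 | h1
    · exact ⟨a, Or.inr (by omega)⟩
    · refine ⟨a + 1, Or.inl ?_⟩
      rw [mul_add, mul_one]; omega
  · rintro ⟨j, hj⟩
    have ha0 : a = 0 := by have := hy j; omega
    rw [ha0, mul_zero, zero_add] at hsum
    rcases hend.2 with h1 | h1
    · left; omega
    · right; omega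

variable {ρ : E →* Module.End F W} (hs : IsSimpleRep ρ) {Z : Subgroup E}
  (hZc : Z ≤ Subgroup.center E) (hd : commutator E ≤ Subgroup.center E)
  (hnd : ∀ g : E, (∀ k : E, ρ ⁅g, k⁆ = 1) → g ∈ Z) (hN : ((Z.index : ℕ) : F) ≠ 0)

include hs hZc in
theorem commute_of_mem (z : E) (hz : z ∈ Z) (M : Module.End F W) : ρ z * M = M * ρ z := by
  obtain ⟨c, hc⟩ := schur hs (ρ z) fun g => by
    rw [← map_mul, ← map_mul, Subgroup.mem_center_iff.1 (hZc hz) g]
  rw [hc, smul_mul_assoc, mul_smul_comm, one_mul, mul_one]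

include hs hZc in
theorem conj_coset {g g' : E} (h : g⁻¹ * g' ∈ Z) (M : Module.End F W) :
    ρ g * M * ρ g⁻¹ = ρ g' * M * ρ g'⁻¹ := by
  obtain ⟨z, hz, rfl⟩ : ∃ z ∈ Z, g' = g * z := ⟨_, h, by group⟩
  rw [mul_inv_rev, map_mul, map_mul, mul_assoc (ρ g) (ρ z), commute_of_mem hs hZc z hz M]
  simp only [mul_assoc]
  rw [← mul_assoc (ρ z) (ρ z⁻¹), ← map_mul, mul_inv_cancel, map_one, one_mul]

theorem normal_of_le_center (hZc : Z ≤ Subgroup.center E) : Z.Normal :=
  ⟨fun z hz g => by rwa [Subgroup.mem_center_iff.1 (hZc hz) g, mul_inv_cancel_right]⟩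

open Classical in
include hs hZc hd hnd in
/-- The sum of the conjugates of `ρ g` over the cosets of `Z`. -/
theorem sum_conj_rho [Fintype (E ⧸ Z)] (g : E) :
    (∑ a : E ⧸ Z, ρ a.out * ρ g * ρ a.out⁻¹) = (if g ∈ Z then (Z.index : F) else 0) • ρ g := by
  classical
  haveI := normal_of_le_center hZc
  haveI := hs.1
  split_ifs with hg
  · rw [Finset.sum_congr rfl (fun a _ => by
      rw [← commute_of_mem hs hZc g hg, mul_assoc, ← map_mul, mul_inv_cancel, map_one, mul_one]),
      Finset.sum_const, Finset.card_univ, ← Nat.card_eq_fintype_card, Subgroup.index,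
      Nat.cast_smul_eq_nsmul]
  · obtain ⟨k, hk⟩ : ∃ k, ρ ⁅g, k⁆ ≠ 1 := by
      by_contra hcon
      push Not at hcon
      exact hg (hnd g hcon)
    have hcm : ∀ u v : E, ⁅u, v⁆ ∈ Subgroup.center E := fun u v =>
      hd (Subgroup.commutator_mem_commutator (Subgroup.mem_top u) (Subgroup.mem_top v))
    obtain ⟨c, hc⟩ := schur hs (ρ ⁅k, g⁆) fun u => by
      rw [← map_mul, ← map_mul, Subgroup.mem_center_iff.1 (hcm k g) u]
    have hc1 : c ≠ 1 := by
      intro h1
      rw [h1, one_smul] at hc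
      refine hk ?_
      have h5 := map_mul ρ ⁅k, g⁆⁻¹ ⁅k, g⁆
      rw [inv_mul_cancel, map_one, hc, mul_one] at h5
      rw [← commutatorElement_inv k g]
      exact h5.symm
    obtain ⟨S, hS⟩ : ∃ S, S = ∑ a : E ⧸ Z, ρ a.out * ρ g * ρ a.out⁻¹ := ⟨_, rfl⟩
    rw [← hS, zero_smul]
    have h2 : c • S = S := by
      conv_rhs => rw [hS, ← Equiv.sum_comp (Equiv.mulLeft ((k : E) : E ⧸ Z))]
      rw [hS, Finset.smul_sum]
      refine Finset.sum_congr rfl fun a _ => ?_
      have hco : (k * a.out)⁻¹ * (Equiv.mulLeft ((k : E) : E ⧸ Z) a).out ∈ Z := by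
        rw [← QuotientGroup.eq, QuotientGroup.out_eq', QuotientGroup.mk_mul, QuotientGroup.out_eq']
        rfl
      rw [← conj_coset hs hZc hco, ← map_mul, ← map_mul, ← map_mul, ← map_mul]
      have e : k * a.out * g * (k * a.out)⁻¹ = ⁅k, g⁆ * (a.out * g * a.out⁻¹) := by
        have h3 : ∀ u : E, u * g * u⁻¹ = ⁅u, g⁆ * g := fun u => by
          rw [commutatorElement_def]; group
        rw [h3, h3, commutatorElement_mul_left_of_central (hcm _ _), mul_assoc]
      rw [e, map_mul ρ ⁅k, g⁆, hc, smul_mul_assoc, one_mul]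
    have h4 : (c - 1) • S = 0 := by rw [sub_smul, one_smul, h2, sub_self]
    exact (smul_eq_zero.1 h4).resolve_left (sub_ne_zero.2 hc1)

include hs hZc hd hnd hN in
theorem linearIndependent_rho [Fintype (E ⧸ Z)] (s : E ⧸ Z → E)
    (hsi : ∀ a b, s a * (s b)⁻¹ ∈ Z → a = b) : LinearIndependent F fun a => ρ (s a) := by
  classical
  haveI := hs.1
  rw [Fintype.linearIndependent_iff]
  intro α hα b
  have h1 : (∑ a : E ⧸ Z, ρ a.out * ((∑ i, α i • ρ (s i)) * ρ (s b)⁻¹) * ρ a.out⁻¹) = 0 := by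
    simp [hα]
  simp only [Finset.sum_mul, Finset.mul_sum, smul_mul_assoc, mul_smul_comm, ← map_mul ρ (s _)] at h1
  rw [Finset.sum_comm] at h1
  simp only [← Finset.smul_sum, sum_conj_rho hs hZc hd hnd] at h1
  rw [Finset.sum_eq_single b (fun a _ hab => by rw [if_neg (fun h => hab (hsi a b h)), zero_smul,
    smul_zero]) (fun h => absurd (Finset.mem_univ b) h), mul_inv_cancel, if_pos (one_mem Z), map_one,
    smul_smul] at h1
  obtain ⟨w, hw⟩ := exists_ne (0 : W)
  have h2 := LinearMap.congr_fun h1 w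
  rw [LinearMap.smul_apply, Module.End.one_apply, LinearMap.zero_apply] at h2
  exact ((mul_eq_zero.1 ((smul_eq_zero.1 h2).resolve_right hw))).resolve_right hN

include hs hZc hd hnd hN in
theorem span_rho [Fintype (E ⧸ Z)] :
    ⊤ ≤ Submodule.span F (Set.range fun a : E ⧸ Z => ρ a.out) := by
  classical
  haveI := normal_of_le_center hZc
  intro M _
  have hN' : (Z.index : F) • M ∈ Submodule.span F (Set.range fun a : E ⧸ Z => ρ a.out) := by
    have key : (Z.index : F) • M =
        ∑ a : E ⧸ Z, (∑ b : E ⧸ Z, ρ b.out * (M * ρ a.out⁻¹) * ρ b.out⁻¹) * ρ a.out := by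
      have h1 : ∀ b : E ⧸ Z, (∑ a : E ⧸ Z, ρ b.out * (M * ρ a.out⁻¹) * ρ b.out⁻¹ * ρ a.out) =
          ρ b.out * M * ((if b.out⁻¹ ∈ Z then (Z.index : F) else 0) • ρ b.out⁻¹) := by
        intro b
        rw [← sum_conj_rho hs hZc hd hnd b.out⁻¹, ← Equiv.sum_comp (Equiv.inv (E ⧸ Z)),
          Finset.mul_sum]
        refine Finset.sum_congr rfl fun a _ => ?_
        have hco : a.out * ((Equiv.inv (E ⧸ Z)) a).out ∈ Z := by
          rw [← QuotientGroup.eq_one_iff, QuotientGroup.mk_mul, QuotientGroup.out_eq',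
            QuotientGroup.out_eq']
          exact mul_inv_cancel a
        have hco' : ((Equiv.inv (E ⧸ Z)) a).out * a.out ∈ Z := by
          rw [← QuotientGroup.eq_one_iff, QuotientGroup.mk_mul, QuotientGroup.out_eq',
            QuotientGroup.out_eq']
          exact inv_mul_cancel a
        have h2 := conj_coset hs hZc (g := a.out) (g' := (((Equiv.inv (E ⧸ Z)) a).out)⁻¹) (by
          rw [← mul_inv_rev]; exact inv_mem hco') (ρ b.out⁻¹)
        rw [inv_inv] at h2
        rw [h2]
        simp only [mul_assoc]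
      have h3 : ∀ b : E ⧸ Z, b.out⁻¹ ∈ Z ↔ b = 1 := by
        intro b
        rw [inv_mem_iff, ← QuotientGroup.eq_one_iff, QuotientGroup.out_eq']
      simp only [Finset.sum_mul]
      rw [Finset.sum_comm, Finset.sum_congr rfl (fun b _ => h1 b),
        Finset.sum_eq_single (1 : E ⧸ Z) (fun b _ hb => by
          rw [if_neg (fun h => hb ((h3 b).1 h)), zero_smul, mul_zero])
          (fun h => absurd (Finset.mem_univ _) h), if_pos ((h3 1).2 rfl), mul_smul_comm]
      congr 1
      rw [commute_of_mem hs hZc _ (inv_mem_iff.1 ((h3 1).2 rfl)) M, mul_assoc, ← map_mul,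
        mul_inv_cancel, map_one, mul_one]
    rw [key]
    refine Submodule.sum_mem _ fun a _ => ?_
    obtain ⟨c, hc⟩ := schur hs (∑ b : E ⧸ Z, ρ b.out * (M * ρ a.out⁻¹) * ρ b.out⁻¹) (fun g => by
      rw [Finset.sum_mul, Finset.mul_sum]
      symm
      refine Fintype.sum_equiv (Equiv.mulLeft ((g : E) : E ⧸ Z)) _ _ fun b => ?_
      have hco : (g * b.out)⁻¹ * (Equiv.mulLeft ((g : E) : E ⧸ Z) b).out ∈ Z := by
        rw [← QuotientGroup.eq, QuotientGroup.out_eq', QuotientGroup.mk_mul, QuotientGroup.out_eq']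
        rfl
      rw [← conj_coset hs hZc hco, mul_inv_rev, map_mul, map_mul]
      simp only [mul_assoc]
      rw [← map_mul ρ g⁻¹ g, inv_mul_cancel, map_one, mul_one])
    rw [hc, smul_mul_assoc, one_mul]
    exact Submodule.smul_mem _ _ (Submodule.subset_span ⟨a, rfl⟩)
  rw [← inv_smul_smul₀ hN M]
  exact Submodule.smul_mem _ _ hN'

include hs hZc hd hnd hN in
/-- `(dim W) ^ 2 = |E : Z|`. -/
theorem finrank_sq : Module.finrank F W * Module.finrank F W = Z.index := by
  classical
  haveI := Fintype.ofFinite (E ⧸ Z)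
  haveI := normal_of_le_center hZc
  have hli := linearIndependent_rho hs hZc hd hnd hN (fun a : E ⧸ Z => a.out) fun a b h => by
    rw [← mul_inv_eq_one, ← QuotientGroup.out_eq' a, ← QuotientGroup.out_eq' b,
      ← QuotientGroup.mk_inv, ← QuotientGroup.mk_mul, QuotientGroup.eq_one_iff]
    exact h
  have h1 := Module.finrank_eq_card_basis (Module.Basis.mk hli (span_rho hs hZc hd hnd hN))
  rw [Module.finrank_linearMap] at h1
  rw [h1, Subgroup.index, Nat.card_eq_fintype_card]

include hs hZc hd hnd hN in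
/-- An automorphism fixing `Z` pointwise is induced by an operator of the same order. -/
theorem exists_intertwiner (φ : MulAut E) (hφZ : ∀ z ∈ Z, φ z = z) {h : ℕ} (hh : 0 < h)
    (hφ : φ ^ h = 1) :
    ∃ t : Module.End F W, t ^ h = 1 ∧ ∀ g, t * ρ g = ρ (φ g) * t := by
  classical
  haveI := Fintype.ofFinite (E ⧸ Z)
  haveI := normal_of_le_center hZc
  haveI := hs.1
  obtain ⟨T, hT⟩ : ∃ T : Module.End F W → Module.End F W,
      ∀ M, T M = ∑ a : E ⧸ Z, ρ (φ a.out) * M * ρ a.out⁻¹ := ⟨_, fun _ => rfl⟩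
  have hTi : ∀ M g, T M * ρ g = ρ (φ g) * T M := by
    intro M g
    rw [hT, Finset.sum_mul, Finset.mul_sum]
    symm
    refine Fintype.sum_equiv (Equiv.mulLeft ((g : E) : E ⧸ Z)) _ _ fun a => ?_
    obtain ⟨z, hz, hze⟩ : ∃ z ∈ Z, (Equiv.mulLeft ((g : E) : E ⧸ Z) a).out = g * a.out * z := by
      refine ⟨(g * a.out)⁻¹ * (Equiv.mulLeft ((g : E) : E ⧸ Z) a).out, ?_, by group⟩
      rw [← QuotientGroup.eq, QuotientGroup.out_eq', QuotientGroup.mk_mul, QuotientGroup.out_eq']
      rfl
    rw [hze, map_mul φ, map_mul φ, hφZ z hz]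
    simp only [mul_inv_rev, map_mul, mul_assoc]
    rw [← map_mul ρ g⁻¹ g, inv_mul_cancel, map_one, mul_one, ← mul_assoc (ρ z) M,
      commute_of_mem hs hZc z hz M, mul_assoc M, ← mul_assoc (ρ z) (ρ z⁻¹), ← map_mul,
      mul_inv_cancel, map_one, one_mul]
  obtain ⟨M, hM⟩ : ∃ M, T M ≠ 0 := by
    by_contra hcon
    push Not at hcon
    obtain ⟨w, hw⟩ := exists_ne (0 : W)
    have hli := linearIndependent_rho hs hZc hd hnd hN (fun a : E ⧸ Z => φ a.out) (by
      intro a b hab
      rw [← map_inv, ← map_mul] at hab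
      have h1 : a.out * b.out⁻¹ ∈ Z := by
        have h2 : a.out * b.out⁻¹ = φ (a.out * b.out⁻¹) := φ.injective (hφZ _ hab).symm
        rw [h2]; exact hab
      rwa [← QuotientGroup.eq_one_iff, QuotientGroup.mk_mul, QuotientGroup.mk_inv,
        QuotientGroup.out_eq', QuotientGroup.out_eq', mul_inv_eq_one] at h1)
    rw [Fintype.linearIndependent_iff] at hli
    refine hw (rep_injective ρ (1 : E ⧸ Z).out⁻¹ (Eq.trans ?_ (map_zero _).symm))
    refine (Module.forall_dual_apply_eq_zero_iff F _).1 fun f => ?_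
    refine hli (fun a => f (ρ a.out⁻¹ w)) (LinearMap.ext fun v => ?_) 1
    have h1 := LinearMap.congr_fun (hcon (f.smulRight v)) w
    rw [hT, LinearMap.sum_apply, LinearMap.zero_apply] at h1
    rw [LinearMap.sum_apply, LinearMap.zero_apply, ← h1]
    exact Finset.sum_congr rfl fun a _ => by
      simp [Module.End.mul_apply, LinearMap.smulRight_apply]
  have hinj : Function.Injective (T M) :=
    intertwiner_injective hs _ hM (fun g => ρ (φ g)) fun g w => by
      rw [← Module.End.mul_apply, hTi, Module.End.mul_apply]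
  have hpow := pow_intertwine ρ φ (T M) (fun g => hTi M g) h
  obtain ⟨c, hc⟩ := schur hs (T M ^ h) fun g => by rw [hpow, hφ, MulAut.one_apply]
  have hc0 : c ≠ 0 := by
    intro h0
    obtain ⟨w, hw⟩ := exists_ne (0 : W)
    have h1 : Function.Injective (T M ^ h : Module.End F W) := by
      rw [Module.End.coe_pow]; exact hinj.iterate h
    refine hw (h1 ?_)
    rw [map_zero, hc, h0, zero_smul, LinearMap.zero_apply]
  obtain ⟨d, hd'⟩ := IsAlgClosed.exists_pow_nat_eq c⁻¹ hh
  refine ⟨d • T M, ?_, fun g => ?_⟩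
  · rw [smul_pow, hd', hc, smul_smul, inv_mul_cancel₀ hc0, one_smul]
  · rw [smul_mul_assoc, hTi, mul_smul_comm]

include hs hZc hd hnd hN in
/-- The space of operators commuting with the intertwiner, for an action which is free modulo the
centre. -/
theorem finrank_commutant (φ : MulAut E) (hφZ : ∀ z ∈ Z, φ z = z) {h : ℕ} (hh : 2 ≤ h)
    (hφ : φ ^ h = 1) (hhF : (h : F) ≠ 0) (hne : Z ≠ ⊤)
    (hfree : ∀ i, 0 < i → i < h → ∀ g, g⁻¹ * (φ ^ i) g ∈ Z → g ∈ Z)
    (t : Module.End F W) (ht : t ^ h = 1) (hti : ∀ g, t * ρ g = ρ (φ g) * t)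
    (C : Submodule F (Module.End F W)) (hC : ∀ M, M ∈ C ↔ t * M = M * t) :
    h * Module.finrank F C + 1 = Z.index + h := by
  classical
  haveI := Fintype.ofFinite (E ⧸ Z)
  haveI := normal_of_le_center hZc
  haveI := hs.1
  obtain ⟨g₁, -, hg₁⟩ := SetLike.exists_of_lt (lt_top_iff_ne_top.2 hne)
  have hpZ : ∀ (i : ℕ) (z : E), z ∈ Z → (φ ^ i) z = z := by
    intro i z hz
    induction i with
    | zero => rfl
    | succ i ih => rw [pow_succ, MulAut.mul_apply, hφZ z hz, ih]
  have hmod : ∀ n : ℕ, φ ^ n = φ ^ (n % h) := fun n => by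
    conv_lhs => rw [← Nat.mod_add_div n h, pow_add, pow_mul, hφ, one_pow, mul_one]
  have hord : orderOf φ = h := by
    refine Nat.dvd_antisymm (orderOf_dvd_of_pow_eq_one hφ) ?_
    rw [Nat.dvd_iff_mod_eq_zero]
    by_contra hcon
    refine hg₁ (hfree (orderOf φ % h) (Nat.pos_of_ne_zero ?_) (Nat.mod_lt _ (by omega)) g₁ ?_)
    · intro h0
      refine hcon ?_
      have h1 : h ∣ orderOf φ := Nat.dvd_of_mod_eq_zero h0
      exact Nat.dvd_iff_mod_eq_zero.1 h1
    · rw [← hmod, pow_orderOf_eq_one, MulAut.one_apply, inv_mul_cancel]; exact one_mem Z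
  have hfo : IsOfFinOrder φ := isOfFinOrder_iff_pow_eq_one.2 ⟨h, by omega, hφ⟩
  have hel : ∀ x : Subgroup.zpowers φ, ∃ i : ℕ, i < h ∧ (x : MulAut E) = φ ^ i := by
    intro x
    obtain ⟨n, hn⟩ := hfo.mem_powers_iff_mem_zpowers.2 x.2
    exact ⟨n % h, Nat.mod_lt _ (by omega), by rw [← hmod]; exact hn.symm⟩
  -- the action on the cosets
  have hwd : ∀ (x : Subgroup.zpowers φ) (u v : E), (u : E ⧸ Z) = v →
      (((x : MulAut E) u : E) : E ⧸ Z) = (((x : MulAut E) v : E) : E ⧸ Z) := by
    intro x u v huv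
    obtain ⟨i, -, hi⟩ := hel x
    rw [QuotientGroup.eq] at huv ⊢
    rw [← map_inv, ← map_mul, hi, hpZ i _ huv]; exact huv
  letI : MulAction (Subgroup.zpowers φ) (E ⧸ Z) :=
    { smul := fun x a => (((x : MulAut E) a.out : E) : E ⧸ Z)
      one_smul := fun a => by
        show (((1 : MulAut E) a.out : E) : E ⧸ Z) = a
        rw [MulAut.one_apply, QuotientGroup.out_eq']
      mul_smul := fun x y a => by
        show ((((x * y : Subgroup.zpowers φ) : MulAut E) a.out : E) : E ⧸ Z) = _
        rw [Subgroup.coe_mul, MulAut.mul_apply]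
        exact hwd x _ _ (QuotientGroup.out_eq' _).symm }
  have hsmul : ∀ (x : Subgroup.zpowers φ) (a : E ⧸ Z),
      x • a = (((x : MulAut E) a.out : E) : E ⧸ Z) := fun _ _ => rfl
  haveI : Fintype (Subgroup.zpowers φ) := by
    haveI : Finite (Subgroup.zpowers φ) := Nat.finite_of_card_ne_zero (by
      rw [Nat.card_zpowers, hord]; omega)
    exact Fintype.ofFinite _
  let Ω := Quotient (MulAction.orbitRel (Subgroup.zpowers φ) (E ⧸ Z))
  haveI : Fintype Ω := Fintype.ofFinite _
  obtain ⟨rep, hrep⟩ : ∃ rep : Ω → E, ∀ o, Quotient.mk'' ((rep o : E) : E ⧸ Z) = o :=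
    ⟨fun o => (Quotient.out o).out, fun o => by
      rw [QuotientGroup.out_eq']; exact Quotient.out_eq' o⟩
  obtain ⟨w, hw⟩ : ∃ w : E → Module.End F W,
      ∀ g, w g = ∑ i ∈ Finset.range h, ρ ((φ ^ i) g) := ⟨_, fun _ => rfl⟩
  have hwphi : ∀ g, w (φ g) = w g := by
    intro g
    have h1 := Finset.sum_range_succ' (fun i => ρ ((φ ^ i) g)) h
    have h2 := Finset.sum_range_succ (fun i => ρ ((φ ^ i) g)) h
    rw [h1, pow_zero, hφ] at h2
    rw [hw, hw, ← add_right_cancel h2]
    exact Finset.sum_congr rfl fun i _ => by rw [pow_succ, MulAut.mul_apply]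
  have hwpow : ∀ (k : ℕ) (g : E), w ((φ ^ k) g) = w g := by
    intro k
    induction k with
    | zero => intro g; rfl
    | succ k ih => intro g; rw [pow_succ, MulAut.mul_apply, ih, hwphi]
  have hwz : ∀ g, ∀ z ∈ Z, ∃ c : F, w (g * z) = c • w g := by
    intro g z hz
    obtain ⟨c, hc⟩ := schur hs (ρ z) fun u => by
      rw [← map_mul, ← map_mul, Subgroup.mem_center_iff.1 (hZc hz) u]
    refine ⟨c, ?_⟩
    rw [hw, hw, Finset.smul_sum]
    exact Finset.sum_congr rfl fun i _ => by
      rw [map_mul, hpZ i z hz, map_mul, hc, mul_smul_comm, mul_one]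
  have hwt : ∀ g, t * w g = w g * t := fun g => by
    conv_rhs => rw [← hwphi g]
    rw [hw, hw, Finset.mul_sum, Finset.sum_mul]
    exact Finset.sum_congr rfl fun i _ => by
      rw [hti, ← MulAut.mul_apply, ← pow_succ', pow_succ, MulAut.mul_apply]
  -- `C` is spanned by the orbit sums
  have hspan : C = Submodule.span F (Set.range fun o => w (rep o)) := by
    refine le_antisymm (fun M hM => ?_) (Submodule.span_le.2 ?_)
    · rw [hC] at hM
      let Ψ : Module.End F W →ₗ[F] Module.End F W :=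
        ∑ i ∈ Finset.range h, (LinearMap.mulLeft F (t ^ i)).comp (LinearMap.mulRight F (t ^ (h - i)))
      have hΨ : ∀ N, Ψ N = ∑ i ∈ Finset.range h, t ^ i * (N * t ^ (h - i)) := fun N => by
        simp [Ψ, LinearMap.sum_apply]
      have hΨM : Ψ M = (h : F) • M := by
        have hc : ∀ n : ℕ, t ^ n * M = M * t ^ n := fun n =>
          (Commute.pow_left (show Commute t M from hM) n).eq
        rw [hΨ, Finset.sum_congr rfl (fun i hi => by
          rw [← mul_assoc, hc, mul_assoc, ← pow_add, Nat.add_sub_cancel' (Finset.mem_range.1 hi).le,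
            ht, mul_one]), Finset.sum_const, Finset.card_range, Nat.cast_smul_eq_nsmul]
      have hΨρ : ∀ g, Ψ (ρ g) = w g := fun g => by
        rw [hΨ, hw]
        refine Finset.sum_congr rfl fun i hi => ?_
        rw [← mul_assoc, pow_intertwine ρ φ t hti, mul_assoc, ← pow_add,
          Nat.add_sub_cancel' (Finset.mem_range.1 hi).le, ht, mul_one]
      have h1 : Ψ M ∈ Submodule.map Ψ (Submodule.span F (Set.range fun a : E ⧸ Z => ρ a.out)) :=
        Submodule.mem_map_of_mem (span_rho hs hZc hd hnd hN Submodule.mem_top)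
      rw [Submodule.map_span, hΨM] at h1
      rw [← inv_smul_smul₀ hhF M]
      refine Submodule.smul_mem _ _ ((Submodule.span_le.2 ?_) h1)
      rintro _ ⟨_, ⟨a, rfl⟩, rfl⟩
      rw [hΨρ, SetLike.mem_coe]
      obtain ⟨x, hx⟩ : ∃ x : Subgroup.zpowers φ,
          x • ((rep (Quotient.mk'' a) : E) : E ⧸ Z) = a := by
        have h2 := Quotient.exact' (hrep (Quotient.mk'' a)).symm
        exact h2
      obtain ⟨i, -, hi⟩ := hel x
      rw [hsmul, hi] at hx
      have h3 : (((φ ^ i) (rep (Quotient.mk'' a)) : E) : E ⧸ Z) = (a.out : E ⧸ Z) := by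
        rw [QuotientGroup.out_eq' a]
        refine Eq.trans ?_ hx
        rw [← hi]
        exact hwd x _ _ (QuotientGroup.out_eq' _).symm
      obtain ⟨c, hc⟩ := hwz ((φ ^ i) (rep (Quotient.mk'' a))) _ (QuotientGroup.eq.1 h3)
      rw [mul_inv_cancel_left, hwpow] at hc
      rw [hc]
      exact Submodule.smul_mem _ _ (Submodule.subset_span ⟨_, rfl⟩)
    · rintro _ ⟨o, rfl⟩
      exact (hC _).2 (hwt _)
  have hli : LinearIndependent F fun o => w (rep o) := by
    rw [Fintype.linearIndependent_iff]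
    intro α hα o₀
    have h1 : (∑ a : E ⧸ Z, ρ a.out * ((∑ o, α o • w (rep o)) * ρ (rep o₀)⁻¹) * ρ a.out⁻¹) = 0 := by
      simp [hα]
    simp only [hw, Finset.smul_sum, Finset.sum_mul, Finset.mul_sum, smul_mul_assoc, mul_smul_comm,
      ← map_mul ρ ((φ ^ _) _)] at h1
    rw [Finset.sum_comm] at h1
    have h2 : ∀ o : Ω, (∑ a : E ⧸ Z, ∑ i ∈ Finset.range h,
        α o • (ρ a.out * ρ ((φ ^ i) (rep o) * (rep o₀)⁻¹) * ρ a.out⁻¹)) =
        ∑ i ∈ Finset.range h, α o • ((if (φ ^ i) (rep o) * (rep o₀)⁻¹ ∈ Z then (Z.index : F) else 0) •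
          ρ ((φ ^ i) (rep o) * (rep o₀)⁻¹)) := by
      intro o
      rw [Finset.sum_comm]
      exact Finset.sum_congr rfl fun i _ => by
        rw [← Finset.smul_sum, sum_conj_rho hs hZc hd hnd]
    rw [Finset.sum_congr rfl (fun o _ => h2 o), Finset.sum_eq_single o₀ ?_
      (fun h => absurd (Finset.mem_univ _) h)] at h1
    swap
    · intro o _ ho
      refine Finset.sum_eq_zero fun i _ => ?_
      rw [if_neg, zero_smul, smul_zero]
      intro hmem
      refine ho ?_
      rw [← QuotientGroup.eq_one_iff, QuotientGroup.mk_mul, QuotientGroup.mk_inv, mul_inv_eq_one]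
        at hmem
      rw [← hrep o, ← hrep o₀]
      refine (Quotient.sound' ?_).symm
      show ((rep o₀ : E) : E ⧸ Z) ∈ MulAction.orbit _ ((rep o : E) : E ⧸ Z)
      refine ⟨⟨φ ^ i, Subgroup.npow_mem_zpowers φ i⟩, ?_⟩
      show (⟨φ ^ i, Subgroup.npow_mem_zpowers φ i⟩ : Subgroup.zpowers φ) • _ = _
      rw [hsmul, ← hmem]
      exact hwd ⟨φ ^ i, Subgroup.npow_mem_zpowers φ i⟩ _ _ (QuotientGroup.out_eq' _)
    obtain ⟨v, hv⟩ := exists_ne (0 : W)
    by_contra hα0
    refine hv ?_
    have h3 : ∀ c : F, c ≠ 0 → c • (1 : Module.End F W) = 0 → v = 0 := fun c hc he => by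
      have := LinearMap.congr_fun he v
      simpa [hc] using this
    by_cases hg0 : rep o₀ ∈ Z
    · refine h3 _ (mul_ne_zero hhF (mul_ne_zero hα0 hN)) ?_
      rw [Finset.sum_congr rfl (fun i _ => by
        rw [hpZ i _ hg0, mul_inv_cancel, if_pos (one_mem Z), map_one, smul_smul]),
        Finset.sum_const, Finset.card_range, ← Nat.cast_smul_eq_nsmul F, smul_smul] at h1
      exact h1
    · refine h3 _ (mul_ne_zero hα0 hN) ?_
      rw [Finset.sum_eq_single 0 (fun i hi hi0 => by
        rw [if_neg, zero_smul, smul_zero]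
        intro hmem
        refine hg0 (hfree i (Nat.pos_of_ne_zero hi0) (Finset.mem_range.1 hi) _ ?_)
        rw [← QuotientGroup.eq_one_iff, QuotientGroup.mk_mul, QuotientGroup.mk_inv] at hmem ⊢
        rw [mul_inv_eq_one] at hmem
        rw [hmem, inv_mul_cancel])
        (fun h => absurd (Finset.mem_range.2 (by omega)) h), pow_zero, MulAut.one_apply,
        mul_inv_cancel, if_pos (one_mem Z), map_one, smul_smul] at h1
      exact h1
  have hdim : Module.finrank F C = Fintype.card Ω := by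
    rw [hspan]; exact finrank_span_eq_card hli
  -- Burnside's count
  have hb := MulAction.sum_card_fixedBy_eq_card_orbits_mul_card_group (Subgroup.zpowers φ) (E ⧸ Z)
  have hcardH : Fintype.card (Subgroup.zpowers φ) = h := by
    rw [← Nat.card_eq_fintype_card, Nat.card_zpowers, hord]
  have hfix : ∀ x : Subgroup.zpowers φ, Fintype.card (MulAction.fixedBy (E ⧸ Z) x) =
      if x = 1 then Z.index else 1 := by
    intro x
    split_ifs with hx
    · subst hx
      rw [Subgroup.index, Nat.card_eq_fintype_card]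
      exact Fintype.card_congr (Equiv.subtypeUnivEquiv fun a => one_smul _ a)
    · rw [Fintype.card_eq_one_iff]
      refine ⟨⟨1, ?_⟩, fun a => ?_⟩
      · show x • (1 : E ⧸ Z) = 1
        rw [hsmul, ← QuotientGroup.mk_one, hwd x _ 1 (QuotientGroup.out_eq' _), map_one]
      · obtain ⟨a, ha⟩ := a
        refine Subtype.ext ?_
        obtain ⟨i, hi, hxi⟩ := hel x
        have hi0 : i ≠ 0 := fun h0 => hx (Subtype.ext (by rw [hxi, h0, pow_zero, OneMemClass.coe_one]))
        have ha' : x • a = a := ha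
        rw [hsmul, hxi] at ha'
        show a = 1
        rw [← QuotientGroup.out_eq' a, QuotientGroup.eq_one_iff]
        refine hfree i (Nat.pos_of_ne_zero hi0) hi _ ?_
        rw [← QuotientGroup.eq_one_iff, QuotientGroup.mk_mul, QuotientGroup.mk_inv, ha',
          QuotientGroup.out_eq', inv_mul_cancel]
  rw [Finset.sum_congr rfl (fun x _ => hfix x), hcardH, ← Finset.add_sum_erase _ _
    (Finset.mem_univ (1 : Subgroup.zpowers φ)), if_pos rfl,
    Finset.sum_congr rfl (fun x hx => if_neg (Finset.mem_erase.1 hx).1), Finset.sum_const,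
    Finset.card_erase_of_mem (Finset.mem_univ _), Finset.card_univ, hcardH, smul_eq_mul, mul_one]
    at hb
  have hΩ : (Fintype.card Ω) * h = Z.index + (h - 1) := hb.symm
  rw [hdim, mul_comm, hΩ]
  omega

include hs hZc hd hnd hN in
/-- For an automorphism of order `h` acting freely modulo the centre: `|E : Z| = d ^ 2` with
`d = dim W`, `h` divides `d + 1` or `d - 1`, and if some root of unity is not an eigenvalue of the
intertwiner, then `d = 1` or `d + 1 = h`. -/
theorem heisenberg_main (φ : MulAut E) (hφZ : ∀ z ∈ Z, φ z = z) {h : ℕ} (hh : 2 ≤ h)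
    (hφ : φ ^ h = 1) (hhF : (h : F) ≠ 0) (hne : Z ≠ ⊤)
    (hfree : ∀ i, 0 < i → i < h → ∀ g, g⁻¹ * (φ ^ i) g ∈ Z → g ∈ Z) :
    (h ∣ Module.finrank F W + 1 ∨ h ∣ Module.finrank F W - 1) ∧
      ∃ t : Module.End F W, t ^ h = 1 ∧ (∀ g, t * ρ g = ρ (φ g) * t) ∧
        ((∃ η : F, η ^ h = 1 ∧ ∀ w, t w = η • w → w = 0) →
          Module.finrank F W = 1 ∨ Module.finrank F W + 1 = h) := by
  classical
  obtain ⟨t, ht, hti⟩ := exists_intertwiner hs hZc hd hnd hN φ hφZ (by omega : 0 < h) hφ
  haveI : NeZero h := ⟨by omega⟩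
  haveI : NeZero (h : F) := ⟨hhF⟩
  obtain ⟨ζ, hζ⟩ := HasEnoughRootsOfUnity.exists_primitiveRoot F h
  let A : Fin h → Submodule F W := fun j => t.eigenspace (ζ ^ (j : ℕ))
  have hinjj : Function.Injective fun j : Fin h => ζ ^ (j : ℕ) := fun a b hab =>
    Fin.ext (hζ.pow_inj a.2 b.2 hab)
  have hind : iSupIndep A := (Module.End.eigenspaces_iSupIndep t).comp hinjj
  have htop : iSup A = ⊤ := by
    refine eq_top_iff.2 fun v _ => ?_
    have hsum : (h : F) • v = ∑ j : Fin h, ∑ i ∈ Finset.range h,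
        ((ζ ^ (j : ℕ))⁻¹) ^ i • (t ^ i) v := by
      rw [Finset.sum_comm, Finset.sum_eq_single 0]
      · simp [Nat.cast_smul_eq_nsmul]
      · intro i hi hi0
        rw [← Finset.sum_smul]
        have h1 : ∀ j : Fin h, ((ζ ^ (j : ℕ))⁻¹) ^ i = ((ζ ^ i)⁻¹) ^ (j : ℕ) := fun j => by
          rw [inv_pow, inv_pow, ← pow_mul, ← pow_mul, mul_comm]
        rw [Finset.sum_congr rfl (fun j _ => h1 j),
          Fin.sum_univ_eq_sum_range (fun j => ((ζ ^ i)⁻¹) ^ j), geom_sum_eq (fun h2 => ?_),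
          inv_pow, ← pow_mul, mul_comm, pow_mul, hζ.pow_eq_one, one_pow, inv_one, sub_self,
          zero_div, zero_smul]
        rw [inv_eq_one] at h2
        exact hi0 (Nat.eq_zero_of_dvd_of_lt ((hζ.pow_eq_one_iff_dvd i).1 h2) (Finset.mem_range.1 hi))
      · intro h0
        exact absurd (Finset.mem_range.2 (by omega)) h0
    have hmem : ∀ j : Fin h, (∑ i ∈ Finset.range h, ((ζ ^ (j : ℕ))⁻¹) ^ i • (t ^ i) v) ∈ A j := by
      intro j
      rw [Module.End.mem_eigenspace_iff]
      obtain ⟨u, hu⟩ : ∃ u : ℕ → W, ∀ i, u i = ((ζ ^ (j : ℕ))⁻¹) ^ i • (t ^ i) v :=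
        ⟨_, fun _ => rfl⟩
      have hz0 : ζ ^ (j : ℕ) ≠ 0 := pow_ne_zero _ (hζ.ne_zero (by omega))
      have h1 : ∀ i, t (u i) = ζ ^ (j : ℕ) • u (i + 1) := fun i => by
        rw [hu, hu, map_smul, smul_smul, ← Module.End.mul_apply, ← pow_succ',
          pow_succ' ((ζ ^ (j : ℕ))⁻¹), ← mul_assoc, mul_inv_cancel₀ hz0, one_mul]
      have h2 : u h = u 0 := by
        rw [hu, hu, ht, inv_pow, ← pow_mul, mul_comm, pow_mul, hζ.pow_eq_one, one_pow, inv_one]
        simp
      have h3 := Finset.sum_range_succ' u h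
      have h4 := Finset.sum_range_succ u h
      rw [h3, h2] at h4
      simp only [← hu]
      rw [map_sum, Finset.sum_congr rfl (fun i _ => h1 i), ← Finset.smul_sum, add_right_cancel h4]
    have h1 : (h : F) • v ∈ iSup A := by
      rw [hsum]
      exact Submodule.sum_mem _ fun j _ => Submodule.mem_iSup_of_mem j (hmem j)
    rw [← inv_smul_smul₀ hhF v]
    exact Submodule.smul_mem _ _ h1
  have hint : DirectSum.IsInternal A :=
    (DirectSum.isInternal_submodule_iff_iSupIndep_and_iSup_eq_top A).2 ⟨hind, htop⟩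
  let C : Submodule F (Module.End F W) :=
    { carrier := {M | t * M = M * t}
      add_mem' := fun {a b} ha hb => show t * (a + b) = (a + b) * t by
        rw [mul_add, add_mul, show t * a = a * t from ha, show t * b = b * t from hb]
      zero_mem' := show t * 0 = 0 * t by simp
      smul_mem' := fun c a ha => show t * (c • a) = (c • a) * t by
        rw [mul_smul_comm, smul_mul_assoc, show t * a = a * t from ha] }
  have hCmem : ∀ M ∈ C, ∀ j, ∀ v ∈ A j, M v ∈ A j := by
    intro M hM j v hv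
    rw [Module.End.mem_eigenspace_iff] at hv ⊢
    rw [← Module.End.mul_apply, show t * M = M * t from hM, Module.End.mul_apply, hv, map_smul]
  let Φ : C →ₗ[F] ((j : Fin h) → Module.End F (A j)) :=
    { toFun := fun M j => (M : Module.End F W).restrict (hCmem M M.2 j)
      map_add' := fun a b => by
        funext j; exact LinearMap.ext fun v => Subtype.ext rfl
      map_smul' := fun c a => by
        funext j; exact LinearMap.ext fun v => Subtype.ext rfl }
  let bas : (j : Fin h) → Module.Basis (Fin (Module.finrank F (A j))) F (A j) :=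
    fun j => Module.finBasis F (A j)
  let b := hint.collectedBasis bas
  have hb : ∀ k, b k = ((bas k.1 k.2 : A k.1) : W) := fun k => by
    simp [b, DirectSum.IsInternal.collectedBasis_coe]
  have hΦb : Function.Bijective Φ := by
    refine ⟨fun M M' hMM => Subtype.ext (b.ext fun k => ?_), fun f => ?_⟩
    · rw [hb]
      exact congrArg Subtype.val (LinearMap.congr_fun (congrFun hMM k.1) (bas k.1 k.2))
    · let M : Module.End F W := b.constr F fun k => ((f k.1 (bas k.1 k.2) : A k.1) : W)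
      have hMk : ∀ k, M (b k) = ((f k.1 (bas k.1 k.2) : A k.1) : W) := fun k =>
        b.constr_basis F _ k
      have hMC : M ∈ C := by
        show t * M = M * t
        refine b.ext fun k => ?_
        rw [Module.End.mul_apply, Module.End.mul_apply, hMk, hb,
          Module.End.mem_eigenspace_iff.1 (f k.1 (bas k.1 k.2)).2,
          Module.End.mem_eigenspace_iff.1 (bas k.1 k.2).2, map_smul, ← hb, hMk]
      refine ⟨⟨M, hMC⟩, funext fun j => (bas j).ext fun i => Subtype.ext ?_⟩
      show M ((bas j i : A j) : W) = _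
      rw [← hb ⟨j, i⟩, hMk]
  obtain ⟨m, hm⟩ : ∃ m : Fin h → ℕ, ∀ j, m j = Module.finrank F (A j) := ⟨_, fun _ => rfl⟩
  have hdimC : Module.finrank F C = ∑ j, m j ^ 2 := by
    rw [LinearEquiv.finrank_eq (LinearEquiv.ofBijective Φ hΦb), Module.finrank_pi_fintype]
    exact Finset.sum_congr rfl fun j _ => by rw [Module.finrank_linearMap, hm, sq]
  have hd2 : Module.finrank F W = ∑ j, m j := by
    rw [Module.finrank_eq_card_basis b, Fintype.card_sigma]
    exact Finset.sum_congr rfl fun j _ => by rw [Fintype.card_fin, hm]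
  have hcount := finrank_commutant hs hZc hd hnd hN φ hφZ hh hφ hhF hne hfree t ht hti C
    fun M => Iff.rfl
  rw [hdimC, ← finrank_sq hs hZc hd hnd hN, hd2, ← sq] at hcount
  obtain ⟨⟨a, ha⟩, hmiss⟩ := multiplicity_arith hh m hcount
  rw [hd2]
  refine ⟨?_, t, ht, hti, ?_⟩
  · rcases ha with ha | ha
    · exact Or.inl ⟨a, ha⟩
    · exact Or.inr ⟨a, by omega⟩
  · rintro ⟨η, hη, hηw⟩
    obtain ⟨i, hi, rfl⟩ := hζ.eq_pow_of_pow_eq_one hη
    refine hmiss ⟨⟨i, hi⟩, ?_⟩
    rw [hm, Submodule.finrank_eq_zero, Submodule.eq_bot_iff]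
    intro v hv
    exact hηw v (Module.End.mem_eigenspace_iff.1 hv)

end Cfsg.Agent.Solv.CRep
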