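import Cfsg.Agent.Lib.Solv.TheoremBCore
import Cfsg.Agent.Lib.Solv.Heisenberg

/-!
Hall and Higman's Theorem B for a `p`-element normalising a `q`-group of class at most two: the
reduction to the critical case.
-/

set_option autoImplicit false
set_option linter.style.haveILetI false

namespace Cfsg.Agent.Solv.ThmB

open scoped commutatorElement
open Cfsg.Agent.Solv.CRep

universe u v

variable {K : Type*} [Field K]

/-- The conclusion of Theorem B: the full exponent, or the exceptional bound. -/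
def Bound (p q n s : ℕ) (NA : Prop) : Prop :=
  p ^ n ≤ s ∨ ∃ n₀ b, 1 ≤ n₀ ∧ n₀ ≤ n ∧ 1 ≤ b ∧ p ^ n₀ - 1 = q ^ b ∧ NA ∧
    p ^ (n - n₀) * (p ^ n₀ - 1) ≤ s

theorem exists_stab {G : Type*} [Group G] [Finite G] {W : Type*} [AddCommGroup W] [Module K W]
    (ρ : G →* Module.End K W) (U : Submodule K W) :
    ∃ S : Subgroup G, ∀ g, g ∈ S ↔ ∀ w ∈ U, ρ g w ∈ U := by
  have hpow : ∀ g : G, (∀ w ∈ U, ρ g w ∈ U) → ∀ i : ℕ, ∀ w ∈ U, ρ (g ^ i) w ∈ U := by
    intro g hg i
    induction i with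
    | zero => intro w hw; rwa [pow_zero, map_one, Module.End.one_apply]
    | succ i ih => intro w hw; rw [pow_succ', map_mul, Module.End.mul_apply]; exact hg _ (ih w hw)
  exact ⟨{ carrier := {g | ∀ w ∈ U, ρ g w ∈ U}
           mul_mem' := fun {a b} ha hb w hw => by
            rw [map_mul, Module.End.mul_apply]; exact ha _ (hb w hw)
           one_mem' := fun w hw => by rwa [map_one, Module.End.one_apply]
           inv_mem' := fun {a} ha => by
            have h1 : a⁻¹ = a ^ (orderOf a - 1) := inv_eq_of_mul_eq_one_right (by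
              rw [← pow_succ', Nat.sub_add_cancel (orderOf_pos a), pow_orderOf_eq_one])
            show ∀ w ∈ U, ρ a⁻¹ w ∈ U
            rw [h1]
            exact hpow a ha _ }, fun g => Iff.rfl⟩

theorem weights_indep {ι G : Type*} {W : Type*} [AddCommGroup W] [Module K W] (A : G → Module.End K W)
    (Sc : Set G) (c : ι → G → K) (S : Finset ι) (w : ι → W)
    (hw : ∀ i ∈ S, ∀ g ∈ Sc, A g (w i) = c i g • w i)
    (hne : ∀ i ∈ S, ∀ j ∈ S, i ≠ j → ∃ g ∈ Sc, c i g ≠ c j g) (hsum : ∑ i ∈ S, w i = 0) :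
    ∀ i ∈ S, w i = 0 := by
  classical
  induction S using Finset.strongInduction generalizing w with
  | _ S ih =>
  intro i hi
  by_cases h : ∃ j ∈ S, j ≠ i
  · obtain ⟨j, hj, hji⟩ := h
    obtain ⟨g, hg, hgne⟩ := hne i hi j hj (Ne.symm hji)
    have h1 := ih (S.erase j) (Finset.erase_ssubset hj) (fun l => (c l g - c j g) • w l)
      (fun l hl g' hg' => by rw [map_smul, hw l (Finset.mem_of_mem_erase hl) g' hg', smul_comm])
      (fun a ha b hb => hne a (Finset.mem_of_mem_erase ha) b (Finset.mem_of_mem_erase hb))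
      (by
        rw [Finset.sum_erase _ (by rw [sub_self, zero_smul])]
        simp only [sub_smul, Finset.sum_sub_distrib, ← Finset.smul_sum, hsum, smul_zero, sub_zero]
        rw [← Finset.sum_congr rfl (fun l hl => hw l hl g hg), ← map_sum, hsum, map_zero])
      i (Finset.mem_erase.2 ⟨Ne.symm hji, hi⟩)
    exact (smul_eq_zero.1 h1).resolve_left (sub_ne_zero.2 hgne)
  · push Not at h
    rwa [Finset.sum_eq_single i (fun j hj hji => absurd (h j hj) hji) (fun hi' => absurd hi hi')] at hsum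

variable [IsAlgClosed K]

/-- If only scalars of the image of `Q` commute with it, then `Q` is irreducible. -/
theorem simple_of_homogeneous {p : ℕ} [Fact p.Prime] [CharP K p] {G : Type u} [Group G] [Finite G]
    {q : ℕ} [Fact q.Prime] (hqp : q ≠ p) (Q : Subgroup G) (hQ : IsPGroup q Q)
    (hcl : ∀ a ∈ Q, ∀ b ∈ Q, ∀ c ∈ Q, Commute ⁅a, b⁆ c) (x : G)
    (hxQ : x ∈ Subgroup.normalizer (Q : Set G)) {W : Type v} [AddCommGroup W] [Module K W]
    [FiniteDimensional K W] (ρ : G →* Module.End K W) [Nontrivial W]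
    (hirr : ∀ U : Submodule K W, (∀ g ∈ Q, ∀ w ∈ U, ρ g w ∈ U) → (∀ w ∈ U, ρ x w ∈ U) →
      U = ⊥ ∨ U = ⊤)
    {N : ℕ} (hN : 0 < N) (hTN : ρ x ^ N = 1)
    (hsc : ∀ g ∈ Q, (∀ k ∈ Q, Commute (ρ g) (ρ k)) → ∃ c : K, ρ g = c • 1) :
    IsSimpleRep (ρ.comp Q.subtype) := by
  classical
  obtain ⟨U, hU, hUs⟩ := exists_simple (ρ.comp Q.subtype)
  haveI := hUs.1
  -- the image of `Q`
  obtain ⟨E, hE⟩ : ∃ E : Subgroup (Module.End K W)ˣ, E = (ρ.comp Q.subtype).toHomUnits.range :=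
    ⟨_, rfl⟩
  have hmemE : ∀ e, e ∈ E ↔ ∃ g ∈ Q, ρ g = (e : Module.End K W) := by
    intro e
    rw [hE]
    refine ⟨fun ⟨g, hg⟩ => ⟨g, g.2, ?_⟩, fun ⟨g, hg, he⟩ => ⟨⟨g, hg⟩, Units.ext he⟩⟩
    rw [← hg]; rfl
  haveI : Finite E := by
    rw [hE]; exact Finite.of_surjective _ (ρ.comp Q.subtype).toHomUnits.rangeRestrict_surjective
  obtain ⟨π, hπ⟩ : ∃ π : E →* Module.End K W, π = (Units.coeHom _).comp E.subtype := ⟨_, rfl⟩
  have hπg : ∀ e : E, ∃ g ∈ Q, ρ g = π e := fun e => by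
    obtain ⟨g, hg, h⟩ := (hmemE _).1 e.2
    exact ⟨g, hg, by rw [h, hπ]; rfl⟩
  have hπinj : Function.Injective π := by
    rw [hπ]; exact Units.val_injective.comp Subtype.val_injective
  have hgπ : ∀ g ∈ Q, ∃ e : E, π e = ρ g := fun g hg =>
    ⟨⟨(ρ.comp Q.subtype).toHomUnits ⟨g, hg⟩, (hmemE _).2 ⟨g, hg, rfl⟩⟩, by rw [hπ]; rfl⟩
  have hUE : ∀ e : E, ∀ w ∈ U, π e w ∈ U := fun e w hw => by
    obtain ⟨g, hg, h⟩ := hπg e
    rw [← h]; exact hU ⟨g, hg⟩ w hw
  have hσs : IsSimpleRep (subRep π U hUE) := ⟨hUs.1, fun S hS => hUs.2 S fun g w hw => by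
    obtain ⟨e, he⟩ := hgπ g g.2
    have h1 := hS e w hw
    convert h1 using 1
    exact Subtype.ext (by rw [subRep_apply, subRep_apply, he]; rfl)⟩
  have hcen : ∀ e ∈ Subgroup.center E, ∃ c : K, π e = c • 1 := fun e he => by
    obtain ⟨g, hg, h⟩ := hπg e
    rw [← h]
    refine hsc g hg fun k hk => ?_
    obtain ⟨e', he'⟩ := hgπ k hk
    rw [h, ← he']
    exact Commute.map (show Commute e e' from (Subgroup.mem_center_iff.1 he e').symm) π
  have hd : commutator E ≤ Subgroup.center E := by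
    rw [commutator_def, Subgroup.commutator_le]
    intro a _ b _
    rw [Subgroup.mem_center_iff]
    intro c
    obtain ⟨a', ha', ha⟩ := hπg a
    obtain ⟨b', hb', hb⟩ := hπg b
    obtain ⟨c', hc', hc⟩ := hπg c
    have hia : π a⁻¹ = ρ a'⁻¹ := by
      calc π a⁻¹ = π a⁻¹ * (ρ a' * ρ a'⁻¹) := by rw [← map_mul, mul_inv_cancel, map_one, mul_one]
        _ = _ := by rw [ha, ← mul_assoc, ← map_mul, inv_mul_cancel, map_one, one_mul]
    have hib : π b⁻¹ = ρ b'⁻¹ := by
      calc π b⁻¹ = π b⁻¹ * (ρ b' * ρ b'⁻¹) := by rw [← map_mul, mul_inv_cancel, map_one, mul_one]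
        _ = _ := by rw [hb, ← mul_assoc, ← map_mul, inv_mul_cancel, map_one, one_mul]
    refine hπinj ?_
    simp only [commutatorElement_def, map_mul, hia, hib, ← ha, ← hb, ← hc]
    have h1 := congrArg ρ (hcl a' ha' b' hb' c' hc').eq.symm
    simp only [commutatorElement_def, map_mul] at h1
    exact h1
  have hσinj : ∀ e : E, subRep π U hUE e = 1 → e ∈ Subgroup.center E → e = 1 := fun e h he => by
    obtain ⟨c, hc⟩ := hcen e he
    obtain ⟨w, hw⟩ := exists_ne (0 : U)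
    have h1 : ((subRep π U hUE e w : U) : W) = (w : W) := by rw [h]; rfl
    rw [subRep_apply, hc, LinearMap.smul_apply, Module.End.one_apply] at h1
    have h2 : c = 1 := smul_left_injective K (fun h0 => hw (Subtype.ext h0))
      (h1.trans (one_smul K (w : W)).symm)
    exact hπinj (by rw [hc, h2, one_smul, map_one])
  have hnd : ∀ e : E, (∀ k : E, subRep π U hUE ⁅e, k⁆ = 1) → e ∈ Subgroup.center E := fun e he => by
    refine Subgroup.mem_center_iff.2 fun k => (commutatorElement_eq_one_iff_mul_comm.1 ?_).symm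
    exact hσinj _ (he k) (hd (Subgroup.commutator_mem_commutator (Subgroup.mem_top e)
      (Subgroup.mem_top k)))
  have hEq : IsPGroup q E := by
    rw [hE]; exact hQ.of_surjective _ (ρ.comp Q.subtype).toHomUnits.rangeRestrict_surjective
  have hidx : ((Subgroup.center E).index : K) ≠ 0 := by
    obtain ⟨m, hm⟩ := hEq.exists_card_eq
    obtain ⟨i, -, hi⟩ := (Nat.dvd_prime_pow Fact.out).1 (hm ▸ (Subgroup.center E).index_dvd_card)
    rw [hi, Nat.cast_pow]
    refine pow_ne_zero _ ?_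
    rw [Ne, CharP.cast_eq_zero_iff K p]
    exact fun h => hqp ((Nat.prime_dvd_prime_iff_eq Fact.out Fact.out).1 h).symm
  -- the automorphism induced by `x`
  obtain ⟨Tu, hTu⟩ : ∃ Tu, Tu = ρ.toHomUnits x := ⟨_, rfl⟩
  have hTu' : (Tu : Module.End K W) = ρ x := by rw [hTu]; rfl
  have hconjmem : ∀ g : G, g ∈ Subgroup.normalizer (Q : Set G) → ∀ e ∈ E,
      ρ.toHomUnits g * e * (ρ.toHomUnits g)⁻¹ ∈ E := by
    intro g hg e he
    obtain ⟨k, hk, hke⟩ := (hmemE e).1 he
    refine (hmemE _).2 ⟨g * k * g⁻¹, (Subgroup.mem_normalizer_iff.1 hg k).1 hk, ?_⟩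
    have hek : e = ρ.toHomUnits k := Units.ext (by rw [MonoidHom.coe_toHomUnits, hke])
    rw [hek, ← map_inv ρ.toHomUnits, ← map_mul, ← map_mul, MonoidHom.coe_toHomUnits]
  obtain ⟨φ, hφ⟩ : ∃ φ : MulAut E, ∀ e : E, ((φ e : E) : (Module.End K W)ˣ) = Tu * e * Tu⁻¹ :=
    ⟨{ toFun := fun e => ⟨Tu * e * Tu⁻¹, hTu ▸ hconjmem x hxQ e e.2⟩
       invFun := fun e => ⟨Tu⁻¹ * e * Tu, by
        have h1 := hconjmem x⁻¹ (inv_mem hxQ) e e.2
        rwa [map_inv, inv_inv, ← hTu] at h1⟩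
       left_inv := fun e => Subtype.ext (by simp [mul_assoc])
       right_inv := fun e => Subtype.ext (by simp [mul_assoc])
       map_mul' := fun a b => Subtype.ext (by simp [mul_assoc]) }, fun _ => rfl⟩
  have hTφ : ∀ e : E, ρ x * π e = π (φ e) * ρ x := fun e => by
    rw [hπ, ← hTu']
    show (Tu : Module.End K W) * ((e : (Module.End K W)ˣ) : Module.End K W) =
      (((φ e : E) : (Module.End K W)ˣ) : Module.End K W) * Tu
    rw [hφ, ← Units.val_mul, ← Units.val_mul, inv_mul_cancel_right]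
  have hφZ : ∀ z ∈ Subgroup.center E, φ z = z := fun z hz => hπinj (by
    obtain ⟨c, hc⟩ := hcen z hz
    have h1 := hTφ z
    rw [hc, mul_smul_comm, mul_one] at h1
    calc π (φ z) = π (φ z) * (ρ x * ρ x ^ (N - 1)) := by
          rw [← pow_succ', Nat.sub_add_cancel hN, hTN, mul_one]
      _ = _ := by
          rw [← mul_assoc, ← h1, smul_mul_assoc, ← pow_succ', Nat.sub_add_cancel hN, hTN, hc])
  have hφN : φ ^ N = 1 := by
    have hi : ∀ i : ℕ, ∀ e : E, (((φ ^ i) e : E) : (Module.End K W)ˣ) = Tu ^ i * e * (Tu ^ i)⁻¹ := by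
      intro i
      induction i with
      | zero => simp
      | succ i ih =>
        intro e
        rw [pow_succ', MulAut.mul_apply, hφ, ih, pow_succ', mul_inv_rev]
        simp only [mul_assoc]
    have hTuN : Tu ^ N = 1 := Units.ext (by rw [Units.val_pow_eq_pow_val, hTu', hTN, Units.val_one])
    refine MulEquiv.ext fun e => Subtype.ext ?_
    rw [hi, hTuN, one_mul, inv_one, mul_one, MulAut.one_apply]
  obtain ⟨t, htN, ht⟩ := exists_intertwiner hσs le_rfl hd hnd hidx φ hφZ hN hφN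
  -- an operator on the homomorphisms
  obtain ⟨H, hH⟩ : ∃ H : Submodule K (U →ₗ[K] W),
      ∀ f, f ∈ H ↔ ∀ e w, f (subRep π U hUE e w) = π e (f w) :=
    ⟨{ carrier := {f | ∀ e w, f (subRep π U hUE e w) = π e (f w)}
       add_mem' := fun {a b} ha hb e w => by
        rw [LinearMap.add_apply, LinearMap.add_apply, ha e w, hb e w, map_add]
       zero_mem' := fun e w => by simp
       smul_mem' := fun c f hf e w => by
        rw [LinearMap.smul_apply, LinearMap.smul_apply, hf e w, map_smul] }, fun f => Iff.rfl⟩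
  have htt : t ^ (N - 1) * t = 1 := by rw [← pow_succ, Nat.sub_add_cancel hN, htN]
  have htt' : t * t ^ (N - 1) = 1 := by rw [← pow_succ', Nat.sub_add_cancel hN, htN]
  obtain ⟨L, hL⟩ : ∃ L : (U →ₗ[K] W) →ₗ[K] (U →ₗ[K] W), ∀ f, L f = ρ x ∘ₗ f ∘ₗ (t ^ (N - 1)) :=
    ⟨{ toFun := fun f => ρ x ∘ₗ f ∘ₗ (t ^ (N - 1))
       map_add' := fun a b => by rw [LinearMap.add_comp, LinearMap.comp_add]
       map_smul' := fun c a => by rw [LinearMap.smul_comp, LinearMap.comp_smul, RingHom.id_apply] },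
      fun _ => rfl⟩
  have hLH : ∀ f ∈ H, L f ∈ H := by
    intro f hf
    rw [hH] at hf ⊢
    intro e w
    obtain ⟨e', rfl⟩ := φ.surjective e
    have h1 : (t ^ (N - 1)) (subRep π U hUE (φ e') w) = subRep π U hUE e' ((t ^ (N - 1)) w) := by
      have h3 : w = t ((t ^ (N - 1)) w) := by
        rw [← Module.End.mul_apply, htt', Module.End.one_apply]
      conv_lhs => rw [h3, ← Module.End.mul_apply (subRep π U hUE (φ e')), ← ht,
        Module.End.mul_apply, ← Module.End.mul_apply, htt, Module.End.one_apply]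
    rw [hL, LinearMap.comp_apply, LinearMap.comp_apply, LinearMap.comp_apply, LinearMap.comp_apply,
      h1, hf, ← Module.End.mul_apply, hTφ, Module.End.mul_apply]
  have hincl : U.subtype ∈ H := (hH _).2 fun e w => rfl
  haveI : Nontrivial H := Submodule.nontrivial_iff_ne_bot.2 fun h => by
    rw [h, Submodule.mem_bot] at hincl
    obtain ⟨w, hw⟩ := exists_ne (0 : U)
    exact hw (Subtype.ext (LinearMap.congr_fun hincl w))
  obtain ⟨c, hc⟩ := Module.End.exists_eigenvalue (L.restrict hLH)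
  obtain ⟨⟨f, hf⟩, hfc, hf0⟩ := hc.exists_hasEigenvector
  rw [Module.End.mem_eigenspace_iff] at hfc
  have hfc' : L f = c • f := congrArg Subtype.val hfc
  have hf0' : f ≠ 0 := fun h => hf0 (Subtype.ext h)
  have hfe := (hH f).1 hf
  have hTf : ∀ w, ρ x (f w) = c • f (t w) := fun w => by
    have h1 := LinearMap.congr_fun hfc' (t w)
    rw [hL, LinearMap.comp_apply, LinearMap.comp_apply, ← Module.End.mul_apply, htt,
      Module.End.one_apply, LinearMap.smul_apply] at h1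
    exact h1
  have htop : LinearMap.range f = ⊤ := by
    refine (hirr _ (fun g hg => ?_) ?_).resolve_left fun h => hf0' (LinearMap.range_eq_bot.1 h)
    · rintro _ ⟨w, rfl⟩
      obtain ⟨e, he⟩ := hgπ g hg
      exact ⟨subRep π U hUE e w, by rw [hfe, he]⟩
    · rintro _ ⟨w, rfl⟩
      exact ⟨c • t w, by rw [map_smul, hTf]⟩
  refine ⟨inferInstance, fun S hS => ?_⟩
  rcases hσs.2 (S.comap f) (fun e w hw => by
    rw [Submodule.mem_comap] at hw ⊢
    obtain ⟨g, hg, h⟩ := hπg e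
    rw [hfe, ← h]
    exact hS ⟨g, hg⟩ _ hw) with h | h
  · left
    rw [← Submodule.map_comap_eq_self (show S ≤ LinearMap.range f by rw [htop]; exact le_top), h,
      Submodule.map_bot]
  · right
    rw [← Submodule.map_comap_eq_self (show S ≤ LinearMap.range f by rw [htop]; exact le_top), h,
      Submodule.map_top, htop]

variable {p : ℕ} [Fact p.Prime] [CharP K p]

/-- The bound on an irreducible module. -/
theorem irr_bound : ∀ (n : ℕ) {G : Type u} [Group G] [Finite G] {q : ℕ} [Fact q.Prime]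
    (_ : q ≠ p) (Q : Subgroup G) (_ : IsPGroup q Q)
    (_ : ∀ a ∈ Q, ∀ b ∈ Q, ∀ c ∈ Q, Commute ⁅a, b⁆ c) (x : G)
    (_ : x ∈ Subgroup.normalizer (Q : Set G)) {W : Type v} [AddCommGroup W] [Module K W]
    [FiniteDimensional K W] (ρ : G →* Module.End K W) [Nontrivial W]
    (_ : ∀ U : Submodule K W, (∀ g ∈ Q, ∀ w ∈ U, ρ g w ∈ U) → (∀ w ∈ U, ρ x w ∈ U) →
      U = ⊥ ∨ U = ⊤)
    (_ : ρ x ^ p ^ n = 1) (_ : ∀ g ∈ Q, Commute (x ^ p ^ n) g)
    (_ : ∀ g ∈ Q, Commute (x ^ p ^ (n - 1)) g → ∀ k ∈ Q, Commute g k)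
    (_ : ∃ g ∈ Q, ¬ Commute (ρ (x ^ p ^ (n - 1))) (ρ g))
    (s : ℕ) (_ : (ρ x - 1) ^ s = 0), Bound p q n s (¬ IsMulCommutative Q) := by
  intro n
  induction n using Nat.strong_induction_on with
  | _ n ih =>
  intro G _ _ q _ hqp Q hQ hcl x hxQ W _ _ _ ρ _ hirr hTn hxn hC hmove s hs
  classical
  have hp : p.Prime := Fact.out
  obtain ⟨T, hT⟩ : ∃ T, T = ρ x := ⟨_, rfl⟩
  rw [← hT] at hTn hs
  have hn0 : n ≠ 0 := by
    rintro rfl
    obtain ⟨g, -, hg⟩ := hmove
    refine hg ?_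
    rw [pow_zero, pow_one] at hTn ⊢
    rw [← hT, hTn]
    exact Commute.one_left _
  by_cases hsc : ∀ g ∈ Q, (∀ k ∈ Q, Commute (ρ g) (ρ k)) → ∃ c : K, ρ g = c • 1
  · -- the critical case
    have hsimple := simple_of_homogeneous (p := p) hqp Q hQ hcl x hxQ ρ hirr (pow_pos hp.pos n)
      (hT ▸ hTn) hsc
    have hfree : ∀ g ∈ Q, ∀ i, 0 < i → i < p ^ n → x ^ i * g * (x ^ i)⁻¹ = g →
        ∃ c : K, ρ g = c • 1 := by
      intro g hg i hi0 hin hfix
      refine hsc g hg fun k hk => (hC g hg ?_ k hk).map ρ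
      obtain ⟨C, hC'⟩ : ∃ C : Subgroup G, C = Subgroup.centralizer ({g} : Set G) := ⟨_, rfl⟩
      have h1 : x ^ i ∈ C := hC' ▸ Subgroup.mem_centralizer_singleton_iff.2
        (mul_inv_eq_iff_eq_mul.1 hfix)
      have h2 : x ^ p ^ n ∈ C := hC' ▸ Subgroup.mem_centralizer_singleton_iff.2 (hxn g hg).eq
      obtain ⟨d, hdle, hd⟩ := (Nat.dvd_prime_pow hp).1 (Nat.gcd_dvd_right i (p ^ n))
      have hdn : d ≤ n - 1 := by
        by_contra hcon
        have h4 : d = n := by omega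
        rw [h4] at hd
        exact absurd (Nat.le_of_dvd hi0 (hd ▸ Nat.gcd_dvd_left i (p ^ n))) (by omega)
      have h3 : x ^ (i.gcd (p ^ n)) ∈ C := by
        rw [← zpow_natCast, Nat.gcd_eq_gcd_ab, zpow_add, zpow_mul, zpow_mul, zpow_natCast,
          zpow_natCast]
        exact mul_mem (zpow_mem h1 _) (zpow_mem h2 _)
      rw [hd] at h3
      obtain ⟨e, he⟩ := Nat.pow_dvd_pow p hdn
      have h5 : x ^ p ^ (n - 1) ∈ C := by rw [he, pow_mul]; exact pow_mem h3 e
      rw [hC', Subgroup.mem_centralizer_singleton_iff] at h5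
      exact h5
    have hex : ∃ m, (T - 1) ^ m = 0 := ⟨s, hs⟩
    have hle : Nat.find hex ≤ s := Nat.find_min' hex hs
    obtain ⟨-, h⟩ := core (p := p) hqp Q hQ hxQ ρ hsimple n (hT ▸ hTn) hfree
      (fun g hg => by rw [(hxn g hg).eq, mul_inv_cancel_right]) (Nat.find hex)
      (hT ▸ Nat.find_spec hex) (fun k hk => hT ▸ Nat.find_min hex hk)
    rcases h with h | h | ⟨h1, -, h2, ⟨b, hb⟩, hna⟩
    · exact Or.inl (h.trans hle)
    · exfalso
      obtain ⟨g, -, hg⟩ := hmove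
      refine hg ?_
      rw [map_pow, h, one_pow]
      exact Commute.one_left _
    · refine Or.inr ⟨n, b, Nat.one_le_iff_ne_zero.2 hn0, le_rfl, ?_, hb, hna, ?_⟩
      · rcases Nat.eq_zero_or_pos b with rfl | h3
        · rw [pow_zero] at hb; omega
        · exact h3
      · rw [Nat.sub_self, pow_zero, one_mul]; omega
  -- the weights of the centre of the image
  push Not at hsc
  obtain ⟨g₀, hg₀Q, hg₀c, hg₀⟩ := hsc
  obtain ⟨Sc, hSc⟩ : ∃ Sc : Set G, ∀ g, g ∈ Sc ↔ g ∈ Q ∧ ∀ k ∈ Q, Commute (ρ g) (ρ k) :=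
    ⟨{g | g ∈ Q ∧ ∀ k ∈ Q, Commute (ρ g) (ρ k)}, fun _ => Iff.rfl⟩
  obtain ⟨U, hU, hUs⟩ := exists_simple (ρ.comp Q.subtype)
  haveI := hUs.1
  have hchi : ∀ g : G, ∃ c : K, g ∈ Sc → ∀ w ∈ U, ρ g w = c • w := by
    intro g
    by_cases hg : g ∈ Sc
    · obtain ⟨hgQ, hgc⟩ := (hSc g).1 hg
      obtain ⟨c, hc⟩ := schur hUs (subRep (ρ.comp Q.subtype) U hU ⟨g, hgQ⟩) fun k =>
        LinearMap.ext fun w => Subtype.ext (by
          simp only [Module.End.mul_apply, subRep_apply]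
          exact LinearMap.congr_fun (hgc k k.2).eq (w : W))
      refine ⟨c, fun _ w hw => ?_⟩
      have h1 := congrArg Subtype.val (LinearMap.congr_fun hc (⟨w, hw⟩ : U))
      rw [subRep_apply] at h1
      exact h1
    · exact ⟨0, fun h => absurd h hg⟩
  choose χ hχ using hchi
  obtain ⟨ch, hch⟩ : ∃ ch : ℕ → G → K, ∀ i g, ch i g = χ ((x ^ i)⁻¹ * g * x ^ i) :=
    ⟨_, fun _ _ => rfl⟩
  obtain ⟨Wt, hWt⟩ : ∃ Wt : ℕ → Submodule K W,
      ∀ i, ∀ w, w ∈ Wt i ↔ ∀ g ∈ Sc, ρ g w = ch i g • w :=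
    ⟨fun i => ⨅ g ∈ Sc, Module.End.eigenspace (ρ g) (ch i g),
      fun i w => by simp [Submodule.mem_iInf, Module.End.mem_eigenspace_iff]⟩
  have hconjQ : ∀ i : ℕ, ∀ g ∈ Q, x ^ i * g * (x ^ i)⁻¹ ∈ Q ∧ (x ^ i)⁻¹ * g * x ^ i ∈ Q :=
    fun i g hg => ⟨(Subgroup.mem_normalizer_iff.1 (pow_mem hxQ i) g).1 hg,
      (Subgroup.mem_normalizer_iff.1 (pow_mem hxQ i) _).2 (by
        simpa [mul_assoc] using hg)⟩
  have hconjSc : ∀ i : ℕ, ∀ g ∈ Sc, (x ^ i)⁻¹ * g * x ^ i ∈ Sc := by
    intro i g hg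
    obtain ⟨hgQ, hgc⟩ := (hSc g).1 hg
    refine (hSc _).2 ⟨(hconjQ i g hgQ).2, fun k hk => ?_⟩
    have h1 := hgc _ (hconjQ i k hk).1
    show ρ _ * ρ _ = ρ _ * ρ _
    rw [← map_mul, ← map_mul,
      show (x ^ i)⁻¹ * g * x ^ i * k = (x ^ i)⁻¹ * (g * (x ^ i * k * (x ^ i)⁻¹)) * x ^ i by group,
      show k * ((x ^ i)⁻¹ * g * x ^ i) = (x ^ i)⁻¹ * (x ^ i * k * (x ^ i)⁻¹ * g) * x ^ i by group,
      map_mul, map_mul, map_mul ρ g, h1.eq, ← map_mul ρ _ g, ← map_mul, ← map_mul]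
  have hTpow : ∀ i : ℕ, T ^ i = ρ (x ^ i) := fun i => by rw [hT, map_pow]
  have hshift : ∀ i j : ℕ, ∀ w ∈ Wt j, (T ^ i) w ∈ Wt (i + j) := by
    intro i j w hw
    rw [hWt] at hw ⊢
    intro g hg
    rw [hTpow, ← Module.End.mul_apply, ← map_mul,
      show g * x ^ i = x ^ i * ((x ^ i)⁻¹ * g * x ^ i) by group, map_mul, Module.End.mul_apply,
      hw _ (hconjSc i g hg), map_smul, hch, hch, pow_add, mul_inv_rev]
    simp only [mul_assoc]
  have hUW : U ≤ Wt 0 := fun w hw => (hWt 0 w).2 fun g hg => by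
    rw [hch, pow_zero, inv_one, one_mul, mul_one]; exact hχ g hg w hw
  have hWQ : ∀ i, ∀ k ∈ Q, ∀ w ∈ Wt i, ρ k w ∈ Wt i := by
    intro i k hk w hw
    rw [hWt] at hw ⊢
    intro g hg
    rw [← Module.End.mul_apply, (((hSc g).1 hg).2 k hk).eq, Module.End.mul_apply, hw g hg, map_smul]
  -- the period
  have hper : ∃ m, 0 < m ∧ ∀ g ∈ Sc, ch m g = ch 0 g := ⟨p ^ n, pow_pos hp.pos n, fun g hg => by
    have h1 := hxn g ((hSc g).1 hg).1
    rw [hch, hch, pow_zero, inv_one, one_mul, mul_one, mul_assoc, ← h1.eq, inv_mul_cancel_left]⟩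
  obtain ⟨m, hm⟩ : ∃ m, m = Nat.find hper := ⟨_, rfl⟩
  obtain ⟨hm0, hmper⟩ := Nat.find_spec hper
  rw [← hm] at hm0 hmper
  have hchadd : ∀ i, ∀ g ∈ Sc, ch (m + i) g = ch i g := by
    intro i g hg
    have h1 := hmper _ (hconjSc i g hg)
    simp only [hch, pow_zero, inv_one, one_mul, mul_one] at h1
    rw [hch, hch, ← h1, add_comm, pow_add, mul_inv_rev]
    simp only [mul_assoc]
  have hdist : ∀ i < m, ∀ j < m, i ≠ j → ∃ g ∈ Sc, ch i g ≠ ch j g := by
    suffices h : ∀ i j, i < j → j < m → ∃ g ∈ Sc, ch i g ≠ ch j g by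
      intro i hi j hj hij
      rcases lt_or_gt_of_ne hij with h' | h'
      · exact h i j h' hj
      · obtain ⟨g, hg, hne⟩ := h j i h' hi
        exact ⟨g, hg, hne.symm⟩
    intro i j hij hjm
    by_contra hcon
    push Not at hcon
    have h1 : ∀ g ∈ Sc, ch (j - i) g = ch 0 g := by
      intro g hg
      have hmem : x ^ i * g * (x ^ i)⁻¹ ∈ Sc := by
        obtain ⟨hgQ, hgc⟩ := (hSc g).1 hg
        refine (hSc _).2 ⟨(hconjQ i g hgQ).1, fun k hk => ?_⟩
        have h1 := hgc _ (hconjQ i k hk).2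
        show ρ _ * ρ _ = ρ _ * ρ _
        rw [← map_mul, ← map_mul,
          show x ^ i * g * (x ^ i)⁻¹ * k = x ^ i * (g * ((x ^ i)⁻¹ * k * x ^ i)) * (x ^ i)⁻¹ by group,
          show k * (x ^ i * g * (x ^ i)⁻¹) = x ^ i * ((x ^ i)⁻¹ * k * x ^ i * g) * (x ^ i)⁻¹ by group,
          map_mul, map_mul, map_mul ρ g, h1.eq, ← map_mul ρ _ g, ← map_mul, ← map_mul]
      have h2 := hcon _ hmem
      rw [hch, hch, show x ^ j = x ^ i * x ^ (j - i) by rw [← pow_add, Nat.add_sub_cancel' hij.le]] at h2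
      rw [hch, hch, pow_zero]
      simpa [mul_assoc] using h2.symm
    have h4 := Nat.find_min' hper (m := j - i) ⟨by omega, h1⟩
    omega
  have hmdvd : m ∣ p ^ n := by
    have hmul : ∀ a i, ∀ g ∈ Sc, ch (a * m + i) g = ch i g := by
      intro a
      induction a with
      | zero => intro i g _; rw [zero_mul, zero_add]
      | succ a iha => intro i g hg; rw [add_mul, one_mul, add_comm (a * m), add_assoc,
          hchadd _ g hg, iha i g hg]
    rw [Nat.dvd_iff_mod_eq_zero]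
    by_contra hne
    obtain ⟨g, hg, hne'⟩ := hdist _ (Nat.mod_lt (p ^ n) hm0) 0 hm0 hne
    refine hne' ?_
    rw [← hmul (p ^ n / m) _ g hg, Nat.div_add_mod']
    have h1 := hxn g ((hSc g).1 hg).1
    rw [hch, hch, pow_zero, inv_one, one_mul, mul_one, mul_assoc, ← h1.eq, inv_mul_cancel_left]
  obtain ⟨k, hkn, hmk⟩ := (Nat.dvd_prime_pow hp).1 hmdvd
  have hWm : ∀ w ∈ Wt 0, (T ^ m) w ∈ Wt 0 := fun w hw => (hWt 0 _).2 fun g hg => by
    rw [← hmper g hg]
    exact (hWt m _).1 (by simpa using hshift m 0 w hw) g hg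
  have hWne : Wt 0 ≠ ⊥ := fun h =>
    (Submodule.nontrivial_iff_ne_bot.1 hUs.1) (le_bot_iff.1 (hUW.trans h.le))
  have hindep : ∀ u : ℕ → W, (∀ i < m, u i ∈ Wt i) → ∑ i ∈ Finset.range m, u i = 0 →
      ∀ i < m, u i = 0 := fun u hu h0 i hi =>
    weights_indep (fun g => ρ g) Sc ch (Finset.range m) u
      (fun j hj => (hWt j _).1 (hu j (Finset.mem_range.1 hj)))
      (fun a ha b hb => hdist a (Finset.mem_range.1 ha) b (Finset.mem_range.1 hb)) h0 i
      (Finset.mem_range.2 hi)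
  have hWTu : ∀ i, ∀ w ∈ Wt 0, (T ^ i) w ∈ Wt i := fun i w hw => by simpa using hshift i 0 w hw
  -- an invariant subspace of the first weight space spans
  have hspan : ∀ S : Submodule K W, S ≤ Wt 0 → S ≠ ⊥ → (∀ g ∈ Q, ∀ w ∈ S, ρ g w ∈ S) →
      (∀ w ∈ S, (T ^ m) w ∈ S) →
      ∀ w : W, ∃ u : ℕ → W, (∀ i, u i ∈ S) ∧ ∑ i ∈ Finset.range m, (T ^ i) (u i) = w := by
    intro S hSW hS0 hSQ hST
    obtain ⟨X, hX⟩ : ∃ X : Submodule K W,
        ∀ w, w ∈ X ↔ ∃ u : ℕ → W, (∀ i, u i ∈ S) ∧ ∑ i ∈ Finset.range m, (T ^ i) (u i) = w :=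
      ⟨{ carrier := {w | ∃ u : ℕ → W, (∀ i, u i ∈ S) ∧ ∑ i ∈ Finset.range m, (T ^ i) (u i) = w}
         add_mem' := fun {a b} ⟨u, hu, hua⟩ ⟨u', hu', hub⟩ =>
          ⟨u + u', fun i => S.add_mem (hu i) (hu' i), by
            rw [← hua, ← hub, ← Finset.sum_add_distrib]
            exact Finset.sum_congr rfl fun i _ => map_add _ _ _⟩
         zero_mem' := ⟨0, fun _ => S.zero_mem, by simp⟩
         smul_mem' := fun c a ⟨u, hu, hua⟩ => ⟨c • u, fun i => S.smul_mem c (hu i), by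
            rw [← hua, Finset.smul_sum]
            exact Finset.sum_congr rfl fun i _ => map_smul _ _ _⟩ }, fun _ => Iff.rfl⟩
    have hSX : S ≤ X := fun w hw => (hX w).2 ⟨fun i => if i = 0 then w else 0,
      fun i => by dsimp only; split_ifs <;> simp [hw],
      by
        rw [Finset.sum_eq_single 0 (fun i _ hi => by simp [hi])
          (fun h => absurd (Finset.mem_range.2 hm0) h)]
        simp⟩
    have h1 : X = ⊤ := by
      refine (hirr X (fun g hg w hw => ?_) (fun w hw => ?_)).resolve_left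
        fun h => hS0 (le_bot_iff.1 (hSX.trans h.le))
      · rw [hX] at hw ⊢
        obtain ⟨u, hu, rfl⟩ := hw
        refine ⟨fun i => ρ ((x ^ i)⁻¹ * g * x ^ i) (u i),
          fun i => hSQ _ (hconjQ i g hg).2 _ (hu i), ?_⟩
        rw [map_sum]
        refine Finset.sum_congr rfl fun i _ => ?_
        rw [hTpow, ← Module.End.mul_apply, ← map_mul,
          show x ^ i * ((x ^ i)⁻¹ * g * x ^ i) = g * x ^ i by group, map_mul, Module.End.mul_apply]
      · rw [hX] at hw
        obtain ⟨u, hu, rfl⟩ := hw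
        rw [← hT, map_sum]
        refine Submodule.sum_mem _ fun i hi => ?_
        rw [Finset.mem_range] at hi
        rw [← Module.End.mul_apply, ← pow_succ']
        rcases (show i + 1 = m ∨ i + 1 < m by omega) with he | he
        · rw [he]; exact hSX (hST _ (hu i))
        · refine (hX _).2 ⟨fun j => if j = i + 1 then u i else 0,
            fun j => by dsimp only; split_ifs <;> simp [hu i], ?_⟩
          rw [Finset.sum_eq_single (i + 1) (fun j _ hj => by simp [hj])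
            (fun h => absurd (Finset.mem_range.2 he) h)]
          simp
    intro w
    exact (hX w).1 (h1 ▸ Submodule.mem_top)
  have hk0 : k ≠ 0 := by
    rintro rfl
    rw [pow_zero] at hmk
    refine hg₀ (χ g₀) (LinearMap.ext fun w => ?_)
    obtain ⟨u, hu, rfl⟩ := hspan (Wt 0) le_rfl hWne (hWQ 0) hWm w
    rw [hmk, Finset.sum_range_one, pow_zero, Module.End.one_apply, LinearMap.smul_apply,
      Module.End.one_apply, (hWt 0 _).1 (hu 0) g₀ ((hSc g₀).2 ⟨hg₀Q, hg₀c⟩), hch, pow_zero,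
      inv_one, one_mul, mul_one]
  -- powers of `T - 1`
  haveI : CharP (Module.End K W) p :=
    charP_of_injective_algebraMap (FaithfulSMul.algebraMap_injective K (Module.End K W)) p
  have hlow : ∀ b < m, ∀ w ∈ Wt 0, ((T - 1) ^ b) w = 0 → w = 0 := by
    intro b hb w hw h0
    obtain ⟨u, hu⟩ : ∃ u : ℕ → W, ∀ i,
        u i = (((-1 : K) ^ (b - i)) * (b.choose i : K)) • (T ^ i) w := ⟨_, fun _ => rfl⟩
    have hbig : ∀ i, b < i → u i = 0 := fun i hi => by
      rw [hu, Nat.choose_eq_zero_of_lt hi, Nat.cast_zero, mul_zero, zero_smul]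
    have h1 : ∑ i ∈ Finset.range m, u i = 0 := by
      rw [← h0, sub_eq_add_neg, (Commute.neg_right (Commute.one_right T)).add_pow,
        LinearMap.sum_apply, ← Finset.sum_subset
          (Finset.range_subset_range.2 (Nat.succ_le_of_lt hb))
          (fun i _ hi => hbig i (by rw [Finset.mem_range] at hi; omega))]
      refine Finset.sum_congr rfl fun i _ => ?_
      rw [hu, mul_assoc, Module.End.mul_apply, ← map_smul]
      congr 1
      rw [show ((-1 : Module.End K W) ^ (b - i) * (b.choose i : Module.End K W)) =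
        (((-1 : K) ^ (b - i)) * (b.choose i : K)) • (1 : Module.End K W) by
          rw [← Algebra.algebraMap_eq_smul_one, map_mul, map_pow, map_neg, map_one, map_natCast]]
      simp
    have h2 := hindep u (fun i _ => by rw [hu]; exact Submodule.smul_mem _ _ (hWTu i w hw)) h1 0 hm0
    rw [hu, Nat.choose_zero_right, Nat.cast_one, mul_one, pow_zero, Module.End.one_apply] at h2
    exact (smul_eq_zero.1 h2).resolve_left (pow_ne_zero _ (neg_ne_zero.2 one_ne_zero))
  obtain ⟨a, b, hb, hsab⟩ : ∃ a b, b < m ∧ s = b + m * a :=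
    ⟨s / m, s % m, Nat.mod_lt _ hm0, by rw [Nat.mod_add_div]⟩
  have hTm : (T - 1) ^ m = T ^ m - 1 := by
    rw [hmk, sub_pow_char_pow_of_commute p k (Commute.one_right T), one_pow]
  have hWTm : ∀ i : ℕ, ∀ w ∈ Wt 0, ((T ^ m - 1) ^ i) w ∈ Wt 0 := by
    intro i
    induction i with
    | zero => intro w hw; simpa using hw
    | succ i ihi =>
      intro w hw
      rw [pow_succ', Module.End.mul_apply, LinearMap.sub_apply, Module.End.one_apply]
      exact Submodule.sub_mem _ (hWm _ (ihi w hw)) (ihi w hw)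
  have hsa : ∀ w ∈ Wt 0, ((T ^ m - 1) ^ a) w = 0 := fun w hw =>
    hlow b hb _ (hWTm a w hw) (by
      rw [← Module.End.mul_apply, ← hTm, ← pow_mul, ← pow_add, ← hsab, hs, LinearMap.zero_apply])
  rcases Nat.lt_or_ge k n with hkn' | hkn'
  swap
  · left
    have hkeq : k = n := le_antisymm hkn hkn'
    by_contra hlt
    have ha : a = 0 := by
      rcases Nat.eq_zero_or_pos a with h | h
      · exact h
      · exfalso
        have h1 := Nat.le_mul_of_pos_right m h
        rw [hkeq] at hmk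
        omega
    obtain ⟨w, hw, hw0⟩ := Submodule.exists_mem_ne_zero_of_ne_bot hWne
    refine hw0 ?_
    simpa [ha] using hsa w hw
  -- pass to the first weight space
  obtain ⟨G', hG'⟩ := exists_stab ρ (Wt 0)
  obtain ⟨ρ', hρ'⟩ : ∃ ρ' : G' →* Module.End K (Wt 0), ∀ g w, ((ρ' g w : Wt 0) : W) = ρ (g : G) w :=
    ⟨subRep (ρ.comp G'.subtype) (Wt 0) fun g w hw => (hG' g).1 g.2 w hw, fun _ _ => rfl⟩
  have hQG' : Q ≤ G' := fun g hg => (hG' g).2 (hWQ 0 g hg)
  obtain ⟨x', hx'⟩ : ∃ x' : G', (x' : G) = x ^ m :=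
    ⟨⟨x ^ m, (hG' _).2 fun w hw => hTpow m ▸ hWm w hw⟩, rfl⟩
  haveI : Nontrivial (Wt 0) := Submodule.nontrivial_iff_ne_bot.2 hWne
  have hρT : ∀ (i : ℕ) (w : Wt 0), ((ρ' (x' ^ i) w : Wt 0) : W) = (T ^ (m * i)) (w : W) := by
    intro i w
    rw [hρ', SubmonoidClass.coe_pow, hx', ← pow_mul, hTpow]
  have hpk : p ^ n = m * p ^ (n - k) := by rw [hmk, ← pow_add, Nat.add_sub_cancel' hkn]
  have hy : x ^ p ^ (n - 1) = ((x' ^ p ^ (n - k - 1) : G') : G) := by
    rw [SubmonoidClass.coe_pow, hx', ← pow_mul, hmk, ← pow_add,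
      show k + (n - k - 1) = n - 1 by omega]
  have key := ih (n - k) (by omega) hqp (Q.subgroupOf G') hQ.comap_subtype
    (fun a ha b hb c hc => Subtype.ext (hcl _ ha _ hb _ hc).eq) x'
    (by
      refine Subgroup.mem_normalizer_iff.2 fun g => ?_
      simp only [Subgroup.mem_subgroupOf, Subgroup.coe_mul, InvMemClass.coe_inv, hx']
      exact Subgroup.mem_normalizer_iff.1 (pow_mem hxQ m) g)
    ρ' (fun S hSQ hSx => by
      by_cases hS0 : S = ⊥
      · exact Or.inl hS0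
      refine Or.inr (eq_top_iff.2 fun w _ => ?_)
      obtain ⟨u, hu, huw⟩ := hspan (S.map (Wt 0).subtype) (Submodule.map_subtype_le _ _)
        (fun h => hS0 (Submodule.map_injective_of_injective (Wt 0).injective_subtype
          (h.trans (Submodule.map_bot _).symm)))
        (fun g hg => by
          rintro _ ⟨v, hv, rfl⟩
          exact ⟨ρ' ⟨g, hQG' hg⟩ v, hSQ _ hg v hv, hρ' _ _⟩)
        (by
          rintro _ ⟨v, hv, rfl⟩
          refine ⟨ρ' x' v, hSx v hv, ?_⟩
          have := hρT 1 v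
          rw [pow_one, mul_one] at this
          exact this) (w : W)
      have huW : ∀ i, u i ∈ Wt 0 := fun i => Submodule.map_subtype_le _ _ (hu i)
      have h0 := hindep (fun i => (T ^ i) (u i) - if i = 0 then (w : W) else 0) (fun i _ => by
          refine Submodule.sub_mem _ (hWTu i _ (huW i)) ?_
          split_ifs with hi
          · exact hi ▸ w.2
          · exact Submodule.zero_mem _)
        (by rw [Finset.sum_sub_distrib, huw, Finset.sum_ite_eq' (Finset.range m) 0,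
          if_pos (Finset.mem_range.2 hm0), sub_self]) 0 hm0
      rw [if_pos rfl, pow_zero, Module.End.one_apply, sub_eq_zero] at h0
      obtain ⟨v, hv, hvw⟩ := h0 ▸ hu 0
      rwa [← Subtype.ext hvw])
    (LinearMap.ext fun w => Subtype.ext (by
      rw [← map_pow, hρT, ← hpk, hTn, Module.End.one_apply, Module.End.one_apply]))
    (fun g hg => Subtype.ext (by
      rw [Subgroup.coe_mul, Subgroup.coe_mul, SubmonoidClass.coe_pow, hx', ← pow_mul, ← hpk]
      exact (hxn _ hg).eq))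
    (fun g hg hgy l hl => Subtype.ext (hC _ hg (by rw [hy]; exact congrArg Subtype.val hgy.eq) _ hl).eq)
    (by
      by_contra hcon
      push Not at hcon
      obtain ⟨g, hg, hgn⟩ := hmove
      refine hgn (LinearMap.ext fun w => ?_)
      obtain ⟨u, hu, rfl⟩ := hspan (Wt 0) le_rfl hWne (hWQ 0) hWm w
      simp only [map_sum]
      refine Finset.sum_congr rfl fun i _ => ?_
      obtain ⟨g', hg'⟩ : ∃ g', g' = (x ^ i)⁻¹ * g * x ^ i := ⟨_, rfl⟩
      have hg'Q : g' ∈ Q := hg' ▸ (hconjQ i g hg).2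
      have h1 := congrArg Subtype.val
        (LinearMap.congr_fun (hcon ⟨g', hQG' hg'Q⟩ hg'Q).eq ⟨u i, hu i⟩)
      simp only [Module.End.mul_apply, hρ'] at h1
      rw [← hy] at h1
      simp only [Module.End.mul_apply, hTpow] at h1 ⊢
      have e1 : ρ g (ρ (x ^ i) (u i)) = ρ (x ^ i) (ρ g' (u i)) := by
        rw [← Module.End.mul_apply, ← Module.End.mul_apply, ← map_mul, ← map_mul, hg']
        congr 2
        group
      have e2 : ∀ v, ρ (x ^ p ^ (n - 1)) (ρ (x ^ i) v) = ρ (x ^ i) (ρ (x ^ p ^ (n - 1)) v) := by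
        intro v
        rw [← Module.End.mul_apply, ← Module.End.mul_apply, ← map_mul, ← map_mul,
          (Commute.pow_pow_self x _ _).eq]
      have e3 : ρ g (ρ (x ^ i) (ρ (x ^ p ^ (n - 1)) (u i))) =
          ρ (x ^ i) (ρ g' (ρ (x ^ p ^ (n - 1)) (u i))) := by
        rw [← Module.End.mul_apply, ← Module.End.mul_apply (ρ (x ^ i)), ← map_mul, ← map_mul, hg']
        congr 2
        group
      rw [e1, e2, h1, e2, e3])
    a (LinearMap.ext fun w => Subtype.ext (by
      have h1 : ∀ (i : ℕ) (v : Wt 0), ((((ρ' x' - 1) ^ i) v : Wt 0) : W) = ((T ^ m - 1) ^ i) (v : W) := by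
        intro i
        induction i with
        | zero => intro v; simp
        | succ i ihi =>
          intro v
          rw [pow_succ', pow_succ', Module.End.mul_apply, Module.End.mul_apply, LinearMap.sub_apply,
            LinearMap.sub_apply, Module.End.one_apply, Module.End.one_apply, AddSubgroupClass.coe_sub,
            hρ', hx', ← hTpow, ihi]
      rw [h1, hsa w w.2, LinearMap.zero_apply, ZeroMemClass.coe_zero]))
  have hms : p ^ k * a ≤ s := hmk ▸ hsab ▸ Nat.le_add_left _ _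
  rcases key with h | ⟨n₀, b₀, h1, h2, h3, h4, h5, h6⟩
  · left
    rw [hpk, hmk]
    exact (Nat.mul_le_mul le_rfl h).trans hms
  · refine Or.inr ⟨n₀, b₀, h1, by omega, h3, h4, fun hab => h5 ⟨⟨fun u v => ?_⟩⟩, ?_⟩
    · have h9 := congrArg Subtype.val (hab.is_comm.comm ⟨((u : G') : G), u.2⟩ ⟨((v : G') : G), v.2⟩)
      simp only [Subgroup.coe_mul] at h9
      exact Subtype.ext (Subtype.ext h9)
    · rw [show n - n₀ = k + (n - k - n₀) by omega, pow_add, mul_assoc]
      exact (Nat.mul_le_mul le_rfl h6).trans hms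

end Cfsg.Agent.Solv.ThmB
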