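import Mathlib
import Cfsg.Agent.Lib.Solv.FrobeniusFormula
import Cfsg.Agent.Lib.Solv.CoprimeRep
import Cfsg.Agent.Lib.Solv.TheoremB
import Cfsg.Agent.Lib.Solv.HallHigman
import Cfsg.Agent.Lib.Solv.PGroupPhi

/-!
A group with a regular group of operators acting coprimely, where the fixed points of the operators are cyclic.
-/

set_option autoImplicit false
set_option linter.style.haveILetI false

namespace Cfsg.Agent.Solv.FrobFix

open scoped commutatorElement

universe u v w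

/-- The representation statement. -/
theorem commutator_trivial_rep {G : Type u} [Group G] [Finite G] {F : Type v} [Field F] [IsAlgClosed F]
    {W : Type w} [AddCommGroup W] [Module F W] [FiniteDimensional F W] (ρ : G →* Module.End F W) (U E : Subgroup G)
    [U.Normal] (hU : (Nat.card U : F) ≠ 0) (hnil : Group.IsNilpotent U)
    (hfpf : ∀ e ∈ E, e ≠ 1 → ∀ u ∈ U, e * u = u * e → u = 1)
    (hdim : Module.finrank F (fixS ρ (E : Set G)) ≤ 1) : ∀ g ∈ ⁅U, U⁆, ρ g = 1 := by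
  classical
  obtain ⟨L, hL⟩ : ∃ L : ℕ → Subgroup G, ∀ n, L n = ((⊤ : Subgroup U).lowerCentralSeries n).map U.subtype :=
    ⟨_, fun _ => rfl⟩
  have hL1 : L 1 = ⁅U, U⁆ := by
    rw [hL, Subgroup.lowerCentralSeries_succ, Subgroup.lowerCentralSeries_zero, Subgroup.map_commutator,
      ← MonoidHom.range_eq_map, Subgroup.range_subtype]
  have hLsucc : ∀ n, L (n + 1) = ⁅L n, U⁆ := fun n => by
    rw [hL, hL, Subgroup.lowerCentralSeries_succ, Subgroup.map_commutator, ← MonoidHom.range_eq_map,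
      Subgroup.range_subtype]
  by_contra hcon
  obtain ⟨K, hK⟩ : ∃ K : ℕ, L K = ⊥ := by
    obtain ⟨K, hK⟩ := Subgroup.nilpotent_iff_lowerCentralSeries.1 hnil
    exact ⟨K, by rw [hL, hK, Subgroup.map_bot]⟩
  -- the last term acting nontrivially
  obtain ⟨n, hn1, hn, hn'⟩ : ∃ n, 1 ≤ n ∧ ¬ (∀ g ∈ L n, ρ g = 1) ∧ ∀ g ∈ L (n + 1), ρ g = 1 := by
    by_contra hcon2
    push Not at hcon2
    have hall : ∀ n, 1 ≤ n → ¬ ∀ g ∈ L n, ρ g = 1 := by
      intro n hn
      induction n, hn using Nat.le_induction with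
      | base => rw [hL1]; exact hcon
      | succ m hm ih =>
        intro h
        push Not at ih
        obtain ⟨g, hg, hg1⟩ := hcon2 m hm ih
        exact hg1 (h g hg)
    refine hall (K + 1) (Nat.le_add_left 1 K) fun g hg => ?_
    rw [hLsucc, hK, Subgroup.commutator_bot_left, Subgroup.mem_bot] at hg
    rw [hg, map_one]
  obtain ⟨D, hD⟩ : ∃ D, D = L n := ⟨_, rfl⟩
  rw [← hD] at hn
  haveI : D.Normal := hD ▸ hL n ▸ ConjAct.normal_of_characteristic_of_normal
  have hDU : D ≤ U := hD ▸ hL n ▸ Subgroup.map_subtype_le _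
  have hDU' : D ≤ ⁅U, U⁆ := by
    rw [← hL1, hD, hL, hL]
    exact Subgroup.map_mono (Subgroup.lowerCentralSeries_antitone _ hn1)
  have hcomm : ∀ d ∈ D, ∀ u ∈ U, ρ d * ρ u = ρ u * ρ d := by
    intro d hd u hu
    have h := hn' ⁅d, u⁆ (by rw [hLsucc, ← hD]; exact Subgroup.commutator_mem_commutator hd hu)
    rw [← map_mul, ← map_mul, show d * u = ⁅d, u⁆ * (u * d) by rw [commutatorElement_def]; group, map_mul, h, one_mul]
  push Not at hn
  obtain ⟨d₀, hd₀, hd₀1⟩ := hn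
  -- a common eigenvector on which `d₀` moves
  obtain ⟨W₁, hW₁⟩ : ∃ W₁ : Submodule F W, W₁ = LinearMap.range (ρ d₀ - 1) := ⟨_, rfl⟩
  have hinv : ∀ d : D, ∀ x ∈ W₁, ρ (d : G) x ∈ W₁ := by
    intro d x hx
    rw [hW₁] at hx ⊢
    obtain ⟨y, rfl⟩ := hx
    refine ⟨ρ (d : G) y, ?_⟩
    rw [LinearMap.sub_apply, LinearMap.sub_apply, Module.End.one_apply, Module.End.one_apply, map_sub,
      ← Module.End.mul_apply, ← Module.End.mul_apply, hcomm d₀ hd₀ d (hDU d.2)]
  have hW₁0 : W₁ ≠ ⊥ := by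
    rw [hW₁]
    intro h
    exact hd₀1 (sub_eq_zero.1 (LinearMap.range_eq_bot.1 h))
  obtain ⟨S, hS, hSW, hsimple⟩ := CRep.exists_simple_sub (ρ.comp D.subtype) W₁ hW₁0 hinv
  have hscalar : ∀ d : D, ∃ c : F, ∀ x ∈ S, ρ (d : G) x = c • x := fun d => by
    obtain ⟨c, hc⟩ := CRep.schur hsimple (CRep.subRep (ρ.comp D.subtype) S hS d) fun g => LinearMap.ext fun x =>
      Subtype.ext (LinearMap.congr_fun (hcomm (d : G) d.2 (g : G) (hDU g.2)) (x : W))
    exact ⟨c, fun x hx => congrArg Subtype.val (LinearMap.congr_fun hc ⟨x, hx⟩)⟩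
  choose c hc using hscalar
  obtain ⟨x₀, hx₀, hx₀0⟩ := Submodule.exists_mem_ne_zero_of_ne_bot (p := S) (by
    haveI := hsimple.1
    exact Submodule.nontrivial_iff_ne_bot.1 inferInstance)
  have hc1 : ∀ a b : D, c (a * b) = c a * c b := fun a b => by
    refine smul_left_injective F hx₀0 ?_
    show c (a * b) • x₀ = (c a * c b) • x₀
    rw [← hc (a * b) x₀ hx₀, Subgroup.coe_mul, map_mul, Module.End.mul_apply, hc b x₀ hx₀, map_smul, hc a x₀ hx₀,
      smul_smul, mul_comm]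
  have hd₀c : c ⟨d₀, hd₀⟩ ≠ 1 := by
    intro h
    have hfix : ρ d₀ x₀ = x₀ := by rw [show ρ d₀ x₀ = c ⟨d₀, hd₀⟩ • x₀ from hc ⟨d₀, hd₀⟩ x₀ hx₀, h, one_smul]
    obtain ⟨y, hy⟩ : x₀ ∈ LinearMap.range (ρ d₀ - 1) := hW₁ ▸ hSW hx₀
    rw [LinearMap.sub_apply, Module.End.one_apply, sub_eq_iff_eq_add'] at hy
    have hpow : ∀ i : ℕ, ρ (d₀ ^ i) y = y + i • x₀ := fun i => by
      induction i with
      | zero => simp
      | succ i ih => rw [pow_succ', map_mul, Module.End.mul_apply, ih, map_add, map_nsmul, hfix, hy, succ_nsmul']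
                     abel
    have h1 := hpow (Nat.card U)
    rw [show d₀ ^ Nat.card U = 1 from congrArg Subtype.val (pow_card_eq_one' (x := (⟨d₀, hDU hd₀⟩ : U))),
      map_one, Module.End.one_apply, left_eq_add, ← Nat.cast_smul_eq_nsmul F, smul_eq_zero] at h1
    exact h1.elim hU hx₀0
  have hne : ∀ e ∈ E, e ≠ 1 → ∃ d : D, c ⟨e⁻¹ * d * e, by
      have := (inferInstance : D.Normal).conj_mem d d.2 e⁻¹
      rwa [inv_inv] at this⟩ ≠ c d := by
    intro e he he1
    by_contra hcon2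
    push Not at hcon2
    have hsurj : Function.Surjective (fun d : D => (⟨e⁻¹ * d * e, by
        have := (inferInstance : D.Normal).conj_mem d d.2 e⁻¹
        rwa [inv_inv] at this⟩ : D) * d⁻¹) := by
      refine Finite.injective_iff_surjective.1 fun s t hst => ?_
      have h1 : e⁻¹ * s * e * (s : G)⁻¹ = e⁻¹ * t * e * (t : G)⁻¹ := congrArg Subtype.val hst
      have h2 : e⁻¹ * ((t : G)⁻¹ * s) = ((t : G)⁻¹ * s) * e⁻¹ := by
        calc e⁻¹ * ((t : G)⁻¹ * s) = (e⁻¹ * t * e)⁻¹ * (e⁻¹ * s * e * (s : G)⁻¹) * s * e⁻¹ := by group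
          _ = (e⁻¹ * t * e)⁻¹ * (e⁻¹ * t * e * (t : G)⁻¹) * s * e⁻¹ := by rw [h1]
          _ = _ := by group
      have h4 := hfpf e⁻¹ (inv_mem he) (inv_ne_one.2 he1) _ (hDU (mul_mem (inv_mem t.2) s.2)) h2
      exact (inv_mul_eq_one.1 (Subtype.ext h4 : t⁻¹ * s = 1)).symm
    apply hd₀c
    obtain ⟨y, hy⟩ := hsurj ⟨d₀, hd₀⟩
    have hinv1 : c y * c y⁻¹ = 1 := by
      rw [← hc1, mul_inv_cancel]
      refine smul_left_injective F hx₀0 ?_
      show c 1 • x₀ = (1 : F) • x₀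
      rw [← hc 1 x₀ hx₀, OneMemClass.coe_one, map_one, Module.End.one_apply, one_smul]
    rw [← hy, hc1, hcon2, hinv1]
  -- the weight space
  obtain ⟨P, hP⟩ : ∃ P : Submodule F W, ∀ x, x ∈ P ↔ ∀ d : D, ρ (d : G) x = c d • x := by
    refine ⟨⨅ d : D, LinearMap.ker (ρ (d : G) - c d • (1 : Module.End F W)), fun x => ?_⟩
    simp only [Submodule.mem_iInf, LinearMap.mem_ker, LinearMap.sub_apply, LinearMap.smul_apply,
      Module.End.one_apply, sub_eq_zero]
  haveI : Fintype E := Fintype.ofFinite E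
  let f : W →ₗ[F] W := ∑ e : E, ρ (e : G)
  have hfmem : ∀ x, f x ∈ fixS ρ (E : Set G) := fun x => mem_fixS.2 fun g hg => by
    simp only [f, LinearMap.sum_apply, map_sum]
    refine Fintype.sum_equiv (Equiv.mulLeft (⟨g, hg⟩ : E)) _ _ fun s => ?_
    rw [Equiv.coe_mulLeft, Subgroup.coe_mul, map_mul, Module.End.mul_apply]
  have hinj : Function.Injective (LinearMap.codRestrict (fixS ρ (E : Set G)) (f.comp P.subtype) fun x => hfmem x) := by
    rw [← LinearMap.ker_eq_bot, LinearMap.ker_eq_bot']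
    intro x hx
    have hsum : ∑ e : E, ρ (e : G) (x : W) = 0 := by
      have h9 : f (x : W) = 0 := congrArg Subtype.val hx
      rwa [LinearMap.sum_apply] at h9
    have h := ThmB.weights_indep (fun d : D => ρ (d : G)) Set.univ
      (fun (e : E) (d : D) => c ⟨(e : G)⁻¹ * d * e, by
        have := (inferInstance : D.Normal).conj_mem d d.2 (e : G)⁻¹
        rwa [inv_inv] at this⟩) Finset.univ (fun e : E => ρ (e : G) (x : W)) ?_ ?_ hsum 1 (Finset.mem_univ _)
    · exact Subtype.ext (by simpa using h)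
    · intro e _ d _
      rw [← Module.End.mul_apply, ← map_mul, show (d : G) * e = e * ((e : G)⁻¹ * d * e) by group, map_mul,
        Module.End.mul_apply, (hP (x : W)).1 x.2 ⟨_, by
          have := (inferInstance : D.Normal).conj_mem d d.2 (e : G)⁻¹
          rwa [inv_inv] at this⟩, map_smul]
    · intro i _ j _ hij
      obtain ⟨d, hd⟩ := hne ((j : G)⁻¹ * i) (mul_mem (inv_mem j.2) i.2) (fun h => hij (Subtype.ext (inv_mul_eq_one.1 h).symm))
      refine ⟨⟨(j : G) * d * (j : G)⁻¹, (inferInstance : D.Normal).conj_mem d d.2 _⟩, trivial, ?_⟩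
      convert hd using 3
      · show (i : G)⁻¹ * ((j : G) * d * (j : G)⁻¹) * i = ((j : G)⁻¹ * i)⁻¹ * d * ((j : G)⁻¹ * i)
        group
      · show (j : G)⁻¹ * ((j : G) * d * (j : G)⁻¹) * j = d
        group
  have hP1 : Module.finrank F P ≤ 1 := (LinearMap.finrank_le_finrank_of_injective hinj).trans hdim
  have hx₀P : x₀ ∈ P := (hP x₀).2 fun d => hc d x₀ hx₀
  have hline : ∀ u ∈ U, ∃ a : F, ρ u x₀ = a • x₀ := by
    intro u hu
    have hmem : ρ u x₀ ∈ P := (hP _).2 fun d => by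
      rw [← Module.End.mul_apply, hcomm d d.2 u hu, Module.End.mul_apply, hc d x₀ hx₀, map_smul]
    obtain ⟨a, ha⟩ := exists_smul_eq_of_finrank_eq_one
      (le_antisymm hP1 (Submodule.one_le_finrank_iff.2 fun h => hx₀0 ((Submodule.eq_bot_iff P).1 h x₀ hx₀P)))
      (x := (⟨x₀, hx₀P⟩ : P)) (fun h => hx₀0 (congrArg Subtype.val h)) ⟨_, hmem⟩
    exact ⟨a, (congrArg Subtype.val ha).symm⟩
  obtain ⟨St, hSt⟩ : ∃ St : Subgroup G, ∀ g, g ∈ St ↔ ρ g x₀ = x₀ := by
    refine ⟨{ carrier := {g | ρ g x₀ = x₀}, mul_mem' := fun {a b} ha hb => ?_, one_mem' := ?_,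
              inv_mem' := fun {a} ha => ?_ }, fun g => Iff.rfl⟩
    · show ρ (a * b) x₀ = x₀
      rw [map_mul, Module.End.mul_apply, show ρ b x₀ = x₀ from hb, show ρ a x₀ = x₀ from ha]
    · show ρ 1 x₀ = x₀
      rw [map_one, Module.End.one_apply]
    · show ρ a⁻¹ x₀ = x₀
      conv_lhs => rw [← show ρ a x₀ = x₀ from ha]
      exact CRep.rep_inv_apply ρ a x₀
  have hle : ⁅U, U⁆ ≤ St := by
    rw [Subgroup.commutator_le]
    intro a ha b hb
    rw [hSt]
    obtain ⟨α, hα⟩ := hline a ha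
    obtain ⟨β, hβ⟩ := hline b hb
    obtain ⟨α', hα'⟩ := hline a⁻¹ (inv_mem ha)
    obtain ⟨β', hβ'⟩ := hline b⁻¹ (inv_mem hb)
    have h1 : α * α' = 1 := smul_left_injective F hx₀0 (by
      show (α * α') • x₀ = (1 : F) • x₀
      rw [one_smul, mul_comm, ← smul_smul, ← hα, ← map_smul, ← hα', CRep.rep_apply_inv])
    have h2 : β * β' = 1 := smul_left_injective F hx₀0 (by
      show (β * β') • x₀ = (1 : F) • x₀
      rw [one_smul, mul_comm, ← smul_smul, ← hβ, ← map_smul, ← hβ', CRep.rep_apply_inv])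
    rw [commutatorElement_def, map_mul, map_mul, map_mul, Module.End.mul_apply, Module.End.mul_apply,
      Module.End.mul_apply]
    simp only [hβ', hα', hβ, hα, map_smul, smul_smul]
    rw [show β' * α' * β * α = (β * β') * (α * α') by ring, h1, h2, mul_one, one_smul]
  apply hd₀c
  refine smul_left_injective F hx₀0 ?_
  show c ⟨d₀, hd₀⟩ • x₀ = (1 : F) • x₀
  rw [one_smul, ← hc ⟨d₀, hd₀⟩ x₀ hx₀]
  exact (hSt d₀).1 (hle (hDU' hd₀))

variable {X : Type u} [Group X] [Finite X]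

/-- On an elementary abelian subgroup. -/
theorem commutator_elementary {q : ℕ} [hq : Fact q.Prime] (V U E : Subgroup X) (hV : IsMulCommutative V)
    (hexp : ∀ v ∈ V, v ^ q = 1) (hLV : U ⊔ E ≤ Subgroup.normalizer (V : Set X))
    (hUn : E ≤ Subgroup.normalizer (U : Set X)) (hfpf : ∀ e ∈ E, e ≠ 1 → ∀ u ∈ U, e * u = u * e → u = 1)
    (hnil : Group.IsNilpotent U) (hco : (Nat.card ↥(U ⊔ E)).Coprime q)
    (hfix : Nat.card ↥(V ⊓ Subgroup.centralizer (E : Set X)) ≤ q) : ⁅U, U⁆ ≤ Subgroup.centralizer (V : Set X) := by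
  classical
  obtain ⟨k, σ, hk, hσ⟩ := exists_linear V hV hexp (U ⊔ E) hLV
  haveI : (U.subgroupOf (U ⊔ E)).Normal :=
    Subgroup.normal_subgroupOf_of_le_normalizer (sup_le Subgroup.le_normalizer hUn)
  let F := AlgebraicClosure (ZMod q)
  let ρ := (Module.End.baseChangeHom (ZMod q) F (Fin k → ZMod q)).toMonoidHom.comp σ
  have hinv : ∀ S : Subgroup ↥(U ⊔ E), (Nat.card S : ZMod q) ≠ 0 := fun S h => by
    rw [ZMod.natCast_eq_zero_iff] at h
    exact hq.out.ne_one (Nat.eq_one_of_dvd_coprimes hco (h.trans (Subgroup.card_subgroup_dvd_card S)) dvd_rfl)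
  have hU' : (Nat.card (U.subgroupOf (U ⊔ E)) : F) ≠ 0 := by
    rw [← map_natCast (algebraMap (ZMod q) F)]
    exact (map_ne_zero _).2 (hinv _)
  have himg : Subtype.val '' ((E.subgroupOf (U ⊔ E) : Subgroup ↥(U ⊔ E)) : Set ↥(U ⊔ E)) = (E : Set X) := by
    ext x
    exact ⟨fun ⟨y, hy, e⟩ => e ▸ hy, fun hx => ⟨⟨x, Subgroup.mem_sup_right hx⟩, hx, rfl⟩⟩
  have hdim : Module.finrank F (fixS ρ ((E.subgroupOf (U ⊔ E) : Subgroup ↥(U ⊔ E)) : Set ↥(U ⊔ E))) ≤ 1 := by
    rw [fix_baseChange F σ _ (hinv _)]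
    by_contra h
    push Not at h
    have h2 := hσ ((E.subgroupOf (U ⊔ E) : Subgroup ↥(U ⊔ E)) : Set ↥(U ⊔ E))
    rw [himg] at h2
    have h3 := Nat.pow_le_pow_right hq.out.pos h
    rw [h2] at h3
    have h4 : q < q ^ 2 := by rw [pow_two]; exact lt_mul_of_one_lt_right hq.out.pos hq.out.one_lt
    exact absurd (h4.trans_le (h3.trans hfix)) (lt_irrefl _)
  haveI := hnil
  have key := commutator_trivial_rep ρ (U.subgroupOf (U ⊔ E)) (E.subgroupOf (U ⊔ E)) hU'
    (Group.nilpotent_of_mulEquiv (Subgroup.subgroupOfEquivOfLe le_sup_left).symm)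
    (fun e he he1 u hu h => Subtype.ext (hfpf e he (fun h' => he1 (Subtype.ext h')) u hu (congrArg Subtype.val h))) hdim
  intro g hg
  have hgL : g ∈ U ⊔ E := Subgroup.mem_sup_left (Subgroup.commutator_le_self U hg)
  have hg' : (⟨g, hgL⟩ : ↥(U ⊔ E)) ∈ ⁅U.subgroupOf (U ⊔ E), U.subgroupOf (U ⊔ E)⁆ := by
    rw [← Subgroup.mem_map_iff_mem (U ⊔ E).subtype_injective, Subgroup.map_commutator,
      Subgroup.map_subgroupOf_eq_of_le le_sup_left]
    exact hg
  have hσg : σ ⟨g, hgL⟩ = 1 := by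
    refine LinearMap.ext fun m => ?_
    have h1 := LinearMap.congr_fun (key _ hg') ((1 : F) ⊗ₜ[ZMod q] m)
    change ((σ ⟨g, hgL⟩).baseChange F) ((1 : F) ⊗ₜ[ZMod q] m) = (1 : F) ⊗ₜ[ZMod q] m at h1
    rw [LinearMap.baseChange_tmul] at h1
    rw [Module.End.one_apply]
    funext i
    have h9 := congrFun (congrArg (TensorProduct.piScalarRight (ZMod q) F F (Fin k)) h1) i
    simp [Algebra.smul_def] at h9
    exact h9
  have hall : fixS σ ({⟨g, hgL⟩} : Set ↥(U ⊔ E)) = ⊤ := eq_top_iff.2 fun x _ => mem_fixS.2 fun s hs => by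
    rw [Set.mem_singleton_iff.1 hs, hσg, Module.End.one_apply]
  have h2 := hσ ({⟨g, hgL⟩} : Set ↥(U ⊔ E))
  rw [hall, finrank_top, Module.finrank_fin_fun, hk, Set.image_singleton] at h2
  have h3 : V ⊓ Subgroup.centralizer ({g} : Set X) = V := Subgroup.eq_of_le_of_card_ge inf_le_left h2.le
  rw [Subgroup.mem_centralizer_iff]
  intro x hx
  have hxg := (Subgroup.mem_inf.1 (h3.ge hx)).2
  exact Subgroup.mem_centralizer_singleton_iff.1 hxg

/-- On a normal `q`-subgroup with cyclic fixed points. -/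
theorem commutator_pgroup {q : ℕ} [hq : Fact q.Prime] (M U E : Subgroup X) [M.Normal] (hM : IsPGroup q M)
    (hUn : E ≤ Subgroup.normalizer (U : Set X)) (hfpf : ∀ e ∈ E, e ≠ 1 → ∀ u ∈ U, e * u = u * e → u = 1)
    (hnil : Group.IsNilpotent U) (hco : (Nat.card ↥(U ⊔ E)).Coprime q)
    (hcyc : IsCyclic ↥(M ⊓ Subgroup.centralizer (E : Set X))) : ⁅U, U⁆ ≤ Subgroup.centralizer (M : Set X) := by
  classical
  obtain ⟨Φ, hΦ⟩ : ∃ Φ, Φ = (frattini ↥M).map M.subtype := ⟨_, rfl⟩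
  haveI : Φ.Normal := hΦ ▸ ConjAct.normal_of_characteristic_of_normal
  have hΦM : Φ ≤ M := hΦ ▸ Subgroup.map_subtype_le _
  let π := QuotientGroup.mk' Φ
  have hker : ∀ x ∈ U ⊔ E, π x = 1 → x = 1 := fun x hx h => by
    obtain ⟨i, hi⟩ := hM.exists_card_eq
    exact Subgroup.mem_bot.1 ((coprime_inf (H := U ⊔ E) (K := M) (hi ▸ hco.pow_right i)).le
      ⟨hx, hΦM ((QuotientGroup.eq_one_iff x).1 h)⟩)
  have hVe : ∀ v ∈ M.map π, v ^ q = 1 := by
    rintro _ ⟨v, hv, rfl⟩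
    rw [← map_pow, QuotientGroup.mk'_apply, QuotientGroup.eq_one_iff, hΦ]
    exact ⟨_, pow_mem_frattini hM ⟨v, hv⟩, rfl⟩
  have hVc : IsMulCommutative (M.map π) := by
    refine ⟨⟨fun a b => Subtype.ext ?_⟩⟩
    obtain ⟨x, hx, ha⟩ := a.2
    obtain ⟨y, hy, hb⟩ := b.2
    rw [Subgroup.coe_mul, Subgroup.coe_mul, ← ha, ← hb, ← commutatorElement_eq_one_iff_mul_comm,
      ← map_commutatorElement, QuotientGroup.mk'_apply, QuotientGroup.eq_one_iff, hΦ]
    exact ⟨_, commutatorElement_mem_frattini hM ⟨x, hx⟩ ⟨y, hy⟩, by simp [commutatorElement_def]⟩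
  have hfix : Nat.card ↥(M.map π ⊓ Subgroup.centralizer ((E.map π : Subgroup (X ⧸ Φ)) : Set (X ⧸ Φ))) ≤ q := by
    obtain ⟨g, hg⟩ := IsCyclic.exists_generator (α := ↥(M ⊓ Subgroup.centralizer (E : Set X)))
    refine le_trans (Subgroup.card_le_of_le (K := Subgroup.zpowers (π (g : X))) ?_) ?_
    · rintro _ ⟨⟨x, hx, rfl⟩, hxc⟩
      have hEM : E ≤ Subgroup.normalizer (M : Set X) := fun e _ => by
        rw [Subgroup.normalizer_eq_top]; exact Subgroup.mem_top e
      have hEΦ : E ≤ Subgroup.normalizer (Φ : Set X) := fun e _ => by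
        rw [Subgroup.normalizer_eq_top]; exact Subgroup.mem_top e
      have hmove : ∀ a ∈ E, x⁻¹ * (a * x * a⁻¹) ∈ Φ := fun a ha => by
        rw [← QuotientGroup.eq_one_iff, ← QuotientGroup.mk'_apply, map_mul, map_mul, map_mul, map_inv, map_inv,
          Subgroup.mem_centralizer_iff.1 hxc _ ⟨a, ha, rfl⟩]
        show (π x)⁻¹ * (π x * π a * (π a)⁻¹) = 1
        group
      have hcoE : (Nat.card E).Coprime (Nat.card M) := by
        obtain ⟨i, hi⟩ := hM.exists_card_eq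
        exact hi ▸ (hco.pow_right i).coprime_dvd_left (Subgroup.card_dvd_of_le le_sup_right)
      have hsol : Group.IsSolvable M := by haveI := hM.isNilpotent; infer_instance
      obtain ⟨d, hd, hdn⟩ := exists_fixed_in_coset E Φ hEΦ (hcoE.coprime_dvd_right (Subgroup.card_dvd_of_le hΦM))
        (Or.inr (isSolvable_of_le hΦM hsol)) hmove
      obtain ⟨i, hi⟩ := hg ⟨x * d, mul_mem hx (hΦM hd), centralizer_of_normalizes hEM (coprime_inf hcoE.symm)
        (mul_mem hx (hΦM hd)) hdn⟩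
      refine ⟨i, ?_⟩
      show π (g : X) ^ i = π x
      rw [← map_zpow, ← Subgroup.coe_zpow, show g ^ i = _ from hi]
      show π (x * d) = π x
      rw [map_mul, show π d = 1 from (QuotientGroup.eq_one_iff d).2 hd, mul_one]
    · rw [Nat.card_zpowers]
      exact Nat.le_of_dvd hq.out.pos (orderOf_dvd_of_pow_eq_one (hVe _ ⟨(g : X), g.2.1, rfl⟩))
  have hLV : U.map π ⊔ E.map π ≤ Subgroup.normalizer ((M.map π : Subgroup (X ⧸ Φ)) : Set (X ⧸ Φ)) := by
    haveI : (M.map π).Normal := Subgroup.Normal.map inferInstance π (QuotientGroup.mk'_surjective Φ)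
    rw [Subgroup.normalizer_eq_top]; exact le_top
  haveI := hnil
  have key := commutator_elementary (M.map π) (U.map π) (E.map π) hVc hVe hLV
    ((Subgroup.map_mono hUn).trans (Subgroup.le_normalizer_map π)) (by
      rintro _ ⟨a, ha, rfl⟩ ha1 _ ⟨b, hb, rfl⟩ hab
      have h1 : a * b * a⁻¹ * b⁻¹ = 1 := hker _ (mul_mem (mul_mem (mul_mem (Subgroup.mem_sup_right ha)
        (Subgroup.mem_sup_left hb)) (inv_mem (Subgroup.mem_sup_right ha))) (inv_mem (Subgroup.mem_sup_left hb))) (by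
          simp only [map_mul, map_inv]
          rw [show π a * π b = π b * π a from hab]
          group)
      rw [hfpf a ha (fun h => ha1 (by rw [h, map_one])) b hb
        (mul_inv_eq_iff_eq_mul.1 (mul_inv_eq_one.1 h1)), map_one])
    (Group.nilpotent_of_surjective (π.subgroupMap U) (π.subgroupMap_surjective U))
    (by rw [← Subgroup.map_sup]; exact hco.coprime_dvd_left (Subgroup.card_map_dvd _ _)) hfix
  intro d hd
  have hdL : d ∈ U ⊔ E := Subgroup.mem_sup_left (Subgroup.commutator_le_self U hd)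
  refine centralizes_of_frattini M hM d (by rw [Subgroup.normalizer_eq_top]; exact Subgroup.mem_top d)
    (hco.coprime_dvd_left (Subgroup.orderOf_dvd_natCard _ hdL)) fun x hx => ?_
  rw [← hΦ, ← QuotientGroup.eq_one_iff, ← QuotientGroup.mk'_apply, map_commutatorElement,
    commutatorElement_eq_one_iff_mul_comm]
  exact Subgroup.mem_centralizer_iff.1 (key (by rw [← Subgroup.map_commutator]; exact ⟨d, hd, rfl⟩)) _ ⟨x, hx, rfl⟩

end Cfsg.Agent.Solv.FrobFix
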