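import Cfsg.Agent.S1524
import Cfsg.Agent.Lib.Char.TIFNValues
import Cfsg.Agent.Lib.Char.SibleyApps
import Cfsg.Agent.Lib.Solv.FrobeniusFormula

/-!
# Exceptional characters of one TI kernel

The coherent family of a TI subgroup `K` with Frobenius normaliser, packaged as a weighted set `T` of
irreducible characters of the whole group.
-/

set_option autoImplicit false
set_option linter.unusedSectionVars false

open Cfsg Cfsg.Agent.Char
open scoped ComplexConjugate

namespace Cfsg.Agent.Solv.CoverTI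

universe u

variable {G : Type u} [Group G] [Fintype G]

/-- The exceptional characters belonging to `K`. -/
structure Exc (K : Subgroup G) : Type u where
  T : Finset (IrrCharacter G)
  w : IrrCharacter G → ℕ
  n : ℕ
  e : ℕ
  own : ℤ
  card_eq : Nat.card K = n * e + 1
  norm_card : Nat.card ↥(Subgroup.normalizer (K : Set G)) = Nat.card K * e
  e_odd : Odd e
  e_ge : 3 ≤ e
  n_even : Even n
  n_pos : 0 < n
  two : ∀ a ∈ T, ∃ b ∈ T, b ≠ a
  w_pos : ∀ a ∈ T, 0 < w a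
  w_dvd : ∀ a ∈ T, w a ∣ Nat.card K
  sum_sq : ∑ a ∈ T, w a ^ 2 = n
  own_odd : Odd own
  supp : ∀ a ∈ T, ∀ b ∈ T, ∀ y : G, (∀ x : G, x * y * x⁻¹ ∈ K → y = 1) →
    (w b : ℂ) * (a : G → ℂ) y = (w a : ℂ) * (b : G → ℂ) y
  ownval : ∀ k ∈ K, k ≠ 1 → ∑ a ∈ T, (w a : ℂ) * (a : G → ℂ) k = own
  const : ∀ F : G → ℂ, IsGeneralizedCharacter G F → IsClassFunction G F →
    (∀ a ∈ T, classInner F (a : G → ℂ) = 0) → ∃ κ : ℤ, ∀ k ∈ K, k ≠ 1 → F k = κ
  nonprincipal : ∀ a ∈ T, (a : G → ℂ) ≠ fun _ => 1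

/-- A number whose multiples by all weights are integers is an integer. -/
theorem int_of_weights {α : Type*} (T : Finset α) (w : α → ℕ) (n e h : ℕ) (hsum : ∑ a ∈ T, w a ^ 2 = n)
    (hdvd : ∀ a ∈ T, w a ∣ h) (hh : h = n * e + 1) (hn : 0 < n) (r : ℂ)
    (hz : ∀ a ∈ T, ∃ z : ℤ, r * (w a : ℂ) = z) : ∃ z : ℤ, r = z := by
  classical
  obtain ⟨a, ha⟩ : T.Nonempty := by
    by_contra h0
    rw [Finset.not_nonempty_iff_eq_empty.1 h0, Finset.sum_empty] at hsum
    omega
  choose! z hz' using hz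
  obtain ⟨q, hq⟩ := hdvd a ha
  refine ⟨z a * q - e * ∑ b ∈ T, z b * w b, ?_⟩
  have h1 : r * (n : ℂ) = ((∑ b ∈ T, z b * w b : ℤ) : ℂ) := by
    rw [← hsum]
    push_cast
    rw [Finset.mul_sum]
    exact Finset.sum_congr rfl fun b hb => by rw [← hz' b hb]; ring
  have h2 : r * (h : ℂ) = ((z a * q : ℤ) : ℂ) := by
    rw [hq]
    push_cast
    rw [← hz' a ha]
    ring
  rw [hh] at h2
  push_cast at h1 h2 ⊢
  linear_combination h2 - (e : ℂ) * h1

/-- A TI subgroup containing the centralizers of its elements has order prime to its index in the normaliser. -/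
theorem coprime_of_centralizer {L : Type*} [Group L] [Finite L] (K : Subgroup L) [K.Normal]
    (hC : ∀ k ∈ K, k ≠ 1 → Subgroup.centralizer ({k} : Set L) ≤ K) : (Nat.card K).Coprime K.index := by
  by_contra hco
  obtain ⟨q, hq, hq1, hq2⟩ := Nat.Prime.not_coprime_iff_dvd.1 hco
  haveI := Fact.mk hq
  obtain ⟨z, hz⟩ := exists_prime_orderOf_dvd_card' q hq1
  have hzG : orderOf (z : L) = q := by rw [Subgroup.orderOf_coe, hz]
  have hz1 : (z : L) ≠ 1 := fun h => hq.ne_one (by rw [← hzG, h, orderOf_one])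
  have hP : IsPGroup q (Subgroup.zpowers (z : L)) := IsPGroup.of_card (n := 1) (by rw [Nat.card_zpowers, hzG, pow_one])
  obtain ⟨Q, hQ⟩ := hP.exists_le_sylow
  have hzQ : (z : L) ∈ (Q : Subgroup L) := hQ (Subgroup.mem_zpowers _)
  haveI : Nontrivial (Q : Subgroup L) := ⟨⟨(z : L), hzQ⟩, 1, fun h => hz1 (congrArg Subtype.val h)⟩
  haveI := Q.isPGroup'.center_nontrivial
  obtain ⟨c, hc1⟩ := exists_ne (1 : Subgroup.center (Q : Subgroup L))
  have hcq : ∀ y ∈ (Q : Subgroup L), y * ((c : Q) : L) = ((c : Q) : L) * y := fun y hy =>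
    congrArg Subtype.val (Subgroup.mem_center_iff.1 c.2 ⟨y, hy⟩)
  have hcK : ((c : Q) : L) ∈ K := hC (z : L) z.2 hz1
    (Subgroup.mem_centralizer_singleton_iff.2 (hcq _ hzQ).symm)
  have hQK : (Q : Subgroup L) ≤ K := fun y hy =>
    hC _ hcK (fun h => hc1 (Subtype.ext (Subtype.ext h))) (Subgroup.mem_centralizer_singleton_iff.2 (hcq y hy))
  exact Q.not_dvd_index (hq2.trans (Subgroup.index_dvd_of_le hQK))

variable (hodd : Odd (Nat.card G)) (K : Subgroup G)
  (hTI : ∀ g : G, g ∉ Subgroup.normalizer (K : Set G) → ∀ k ∈ K, g * k * g⁻¹ ∈ K → k = 1)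
  (hC : ∀ k ∈ K, k ≠ 1 → Subgroup.centralizer ({k} : Set G) ≤ K)
  (hK1 : K ≠ ⊥) (hKN : K < Subgroup.normalizer (K : Set G))
  [Fintype ↥(Subgroup.normalizer (K : Set G))]

include hodd hTI hC hK1 hKN in
/-- Coherence for one kernel. -/
theorem coherent :
    IsCoherent (tifnSet K) {1}ᶜ (fun α => indFun (Subgroup.normalizer (K : Set G)) α) := by
  classical
  haveI hKn : (K.subgroupOf (Subgroup.normalizer (K : Set G))).Normal := Subgroup.normal_in_normalizer
  obtain ⟨W, hW⟩ := Subgroup.exists_right_complement'_of_coprime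
    (coprime_of_centralizer (K.subgroupOf (Subgroup.normalizer (K : Set G))) (tifn_centralizer K hC))
  set W₁ := W.map (Subgroup.normalizer (K : Set G)).subtype with hW₁
  have hle : K ≤ Subgroup.normalizer (K : Set G) := Subgroup.le_normalizer
  have hWle : W₁ ≤ Subgroup.normalizer (K : Set G) := Subgroup.map_subtype_le W
  have hinf : K ⊓ W₁ = ⊥ := by
    rw [eq_bot_iff]
    rintro x ⟨hxK, hxW⟩
    obtain ⟨y, hy, rfl⟩ := hxW
    have : y = 1 := Subgroup.mem_bot.1 (hW.disjoint.le_bot ⟨Subgroup.mem_subgroupOf.2 hxK, hy⟩)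
    rw [this]
    exact Subgroup.one_mem _
  have hsup : K ⊔ W₁ = Subgroup.normalizer (K : Set G) := by
    conv_lhs => arg 1; rw [← Subgroup.map_subgroupOf_eq_of_le hle]
    rw [hW₁, ← Subgroup.map_sup, hW.sup_eq_top, ← MonoidHom.range_eq_map, Subgroup.range_subtype]
  have hfpf : ∀ w ∈ W₁, w ≠ 1 → ∀ k ∈ K, w * k = k * w → k = 1 := by
    intro w hw hw1 k hk hcomm
    by_contra hk1
    refine hw1 (Subgroup.mem_bot.1 (hinf ▸ Subgroup.mem_inf.2 ⟨?_, hw⟩))
    exact hC k hk hk1 (Subgroup.mem_centralizer_singleton_iff.2 hcomm)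
  have hW1 : W₁ ≠ ⊥ := fun h => hKN.ne (by rw [h, sup_bot_eq] at hsup; exact hsup)
  have hnil : Group.IsNilpotent K := FrobFix.isNilpotent_of_fpf hW1 hWle hfpf
  have hNodd : Odd (Nat.card ↥(Subgroup.normalizer (K : Set G))) :=
    hodd.of_dvd_nat (Subgroup.card_subgroup_dvd_card _)
  have h := S1524.result K (Subgroup.normalizer (K : Set G)) W₁ hNodd hle hWle hK1 hW1 hnil
    (fun x hx k hk => (Subgroup.mem_normalizer_iff.1 hx k).1 hk) hinf hsup hfpf hTI rfl
  rw [inducedIrrAbove_eq_chSet _ (tifn_centralizer K hC), chSet_eq_tifnSet K] at h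
  exact h

include hodd hTI hC hK1 hKN in
/-- The exceptional characters of one kernel exist. -/
theorem exists_exc : Nonempty (Exc K) := by
  classical
  haveI hKn : (K.subgroupOf (Subgroup.normalizer (K : Set G))).Normal := Subgroup.normal_in_normalizer
  set K0 := K.subgroupOf (Subgroup.normalizer (K : Set G)) with hK0
  haveI := Fintype.ofFinite K0
  have hC0 := tifn_centralizer K hC
  rw [← hK0] at hC0
  have hle : K ≤ Subgroup.normalizer (K : Set G) := Subgroup.le_normalizer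
  have hcard : Nat.card K0 = Nat.card K := Nat.card_congr (Subgroup.subgroupOfEquivOfLe hle).toEquiv
  obtain ⟨e, he⟩ : ∃ e, e = K0.index := ⟨_, rfl⟩
  have hNcard : Nat.card ↥(Subgroup.normalizer (K : Set G)) = Nat.card K * e := by
    rw [he, ← hcard, Subgroup.card_mul_index]
  have hNodd : Odd (Nat.card ↥(Subgroup.normalizer (K : Set G))) :=
    hodd.of_dvd_nat (Subgroup.card_subgroup_dvd_card _)
  have hhodd : Odd (Nat.card K) := hodd.of_dvd_nat (Subgroup.card_subgroup_dvd_card _)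
  have heodd : Odd e := hNodd.of_dvd_nat (Dvd.intro_left _ hNcard.symm)
  have he3 : 3 ≤ e := by
    have h1 : e ≠ 1 := fun h => by
      rw [he, Subgroup.index_eq_one, hK0, Subgroup.subgroupOf_eq_top] at h
      exact hKN.not_ge h
    obtain ⟨a, ha⟩ := heodd
    omega
  set P := ncChars K0 with hP
  have hmemP : ∀ χ : IrrCharacter ↥(Subgroup.normalizer (K : Set G)), χ ∈ P →
      (χ : ↥(Subgroup.normalizer (K : Set G)) → ℂ) ∈ tifnSet K := fun χ hχ => by
    obtain ⟨k, hk, hne⟩ := (mem_ncChars K0).1 hχ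
    exact ⟨χ.2, k, Subgroup.mem_subgroupOf.1 hk, hne⟩
  set d : IrrCharacter ↥(Subgroup.normalizer (K : Set G)) → ℕ :=
    fun χ => deg (χ : ↥(Subgroup.normalizer (K : Set G)) → ℂ) / e with hd
  have hdeg : ∀ χ ∈ P, (χ : ↥(Subgroup.normalizer (K : Set G)) → ℂ) 1 = (e : ℂ) * (d χ : ℂ) ∧
      deg (χ : ↥(Subgroup.normalizer (K : Set G)) → ℂ) = e * d χ ∧ 0 < d χ ∧ d χ ∣ Nat.card K := by
    intro χ hχ
    obtain ⟨θ, -, hθe⟩ := exists_induced_of_nonconst K0 hC0 χ ((mem_ncChars K0).1 hχ)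
    have h1 : (χ : ↥(Subgroup.normalizer (K : Set G)) → ℂ) 1 = ((e * deg (θ : K0 → ℂ) : ℕ) : ℂ) := by
      rw [hθe, indFun_one, he, char_one_eq_deg (irr_isCharacter θ.2), Nat.cast_mul]
    have h2 : deg (χ : ↥(Subgroup.normalizer (K : Set G)) → ℂ) = e * deg (θ : K0 → ℂ) := by
      rw [char_one_eq_deg (irr_isCharacter χ.2)] at h1
      exact_mod_cast h1
    have h3 : d χ = deg (θ : K0 → ℂ) := by
      rw [hd]
      simp only [h2]
      exact Nat.mul_div_cancel_left _ (by omega)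
    refine ⟨?_, by rw [h3, h2], by rw [h3]; exact deg_pos θ.2, by rw [h3, ← hcard]; exact deg_dvd_card θ.2⟩
    rw [h1, h3, Nat.cast_mul]
  -- the sum of squares
  obtain ⟨n, hn⟩ : ∃ n, n = ∑ χ ∈ P, d χ ^ 2 := ⟨_, rfl⟩
  have hreg : ∀ x : ↥(Subgroup.normalizer (K : Set G)), x ∈ K0 →
      (e : ℂ) * ∑ χ ∈ P, (d χ : ℂ) * (χ : ↥(Subgroup.normalizer (K : Set G)) → ℂ) x + e =
        if x = 1 then (Nat.card ↥(Subgroup.normalizer (K : Set G)) : ℂ) else 0 := by
    intro x hx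
    rw [← regular_sum x, ← Finset.sum_filter_add_sum_filter_not Finset.univ (fun χ => χ ∈ P),
      Finset.filter_univ_mem, Finset.mul_sum]
    congr 1
    · exact Finset.sum_congr rfl fun χ hχ => by rw [(hdeg χ hχ).1]; ring
    · rw [he, ← sum_sq_const K0 hC0]
      refine Finset.sum_congr rfl fun χ hχ => ?_
      have h2 := (Finset.mem_filter.1 hχ).2
      rw [hP, mem_ncChars] at h2
      push Not at h2
      rw [h2 x hx, sq]
  have hne : n * e + 1 = Nat.card K := by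
    have h1 := hreg 1 K0.one_mem
    rw [if_pos rfl, hNcard, Finset.sum_congr rfl
      (g := fun χ => (e : ℂ) * ((d χ ^ 2 : ℕ) : ℂ)) (fun χ hχ => by rw [(hdeg χ hχ).1]; push_cast; ring),
      ← Finset.mul_sum, ← Nat.cast_sum, ← hn, Nat.cast_mul] at h1
    have h2 : (e : ℂ) * ((n * e + 1 : ℕ) : ℂ) = (e : ℂ) * (Nat.card K : ℂ) := by
      push_cast
      linear_combination h1
    have h3 := mul_left_cancel₀ (Nat.cast_ne_zero.2 (show e ≠ 0 by omega)) h2
    exact_mod_cast h3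
  have hnpos : 0 < n := by
    rcases Nat.eq_zero_or_pos n with h | h
    · exact absurd (Subgroup.card_eq_one.1 (by rw [← hne, h, Nat.zero_mul, Nat.zero_add])) hK1
    · exact h
  have hneven : Even n := by
    rw [← hne, Nat.odd_add_one, Nat.not_odd_iff_even, Nat.even_mul] at hhodd
    exact hhodd.resolve_right (Nat.not_even_iff_odd.2 heodd)
  have hPtwo : ∀ χ ∈ P, ∃ ξ ∈ P, ξ ≠ χ := by
    intro χ hχ
    by_contra hcon
    push Not at hcon
    have hPs : P = {χ} := Finset.eq_singleton_iff_unique_mem.2 ⟨hχ, hcon⟩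
    rw [hPs, Finset.sum_singleton] at hn
    have h1 : d χ ∣ 1 := by
      rw [← Nat.dvd_add_right (show d χ ∣ n * e from (hn ▸ dvd_pow_self _ two_ne_zero).mul_right e), hne]
      exact (hdeg χ hχ).2.2.2
    rw [Nat.dvd_one.1 h1, one_pow] at hn
    rw [hn] at hneven
    exact absurd hneven (by decide)
  obtain ⟨χ₀, hχ₀⟩ : P.Nonempty := by
    by_contra h0
    rw [Finset.not_nonempty_iff_eq_empty.1 h0, Finset.sum_empty] at hn
    omega
  have htwo : ∃ χ ∈ tifnSet K, ∃ ξ ∈ tifnSet K, χ ≠ ξ := by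
    obtain ⟨ξ, hξ, hξne⟩ := hPtwo χ₀ hχ₀
    exact ⟨_, hmemP ξ hξ, _, hmemP χ₀ hχ₀, fun h => hξne (Subtype.ext h)⟩
  obtain ⟨-, star, hstar, hext⟩ := coherent hodd K hTI hC hK1 hKN
  obtain ⟨ε, hε, hirr, hinj⟩ := coherent_extension_sign (tifnSet K) (fun χ h => h.1) htwo star hstar
    fun α hα h1 => by
      rw [hext α (mem_zspanOn_punctured hα h1)]
      show indFun (Subgroup.normalizer (K : Set G)) α 1 = 0
      rw [indFun_one, h1, mul_zero]
  have hεε : ε * ε = 1 := by rcases hε with h | h <;> simp [h]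
  let μ : IrrCharacter ↥(Subgroup.normalizer (K : Set G)) → IrrCharacter G := fun χ =>
    if h : χ ∈ P then ⟨_, hirr _ (hmemP χ h)⟩ else ⟨fun _ => 1, isIrrCharacter_one⟩
  have hμ : ∀ χ ∈ P, (μ χ : G → ℂ) = ε • star (χ : ↥(Subgroup.normalizer (K : Set G)) → ℂ) := fun χ hχ => by
    simp only [μ, dif_pos hχ]
  have hstarμ : ∀ χ ∈ P, star (χ : ↥(Subgroup.normalizer (K : Set G)) → ℂ) = ε • (μ χ : G → ℂ) := fun χ hχ => by
    rw [hμ χ hχ, smul_smul, hεε, one_smul]
  have hμinj : Set.InjOn μ (P : Set _) := fun χ hχ ξ hξ h =>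
    Subtype.ext (hinj _ (hmemP χ hχ) _ (hmemP ξ hξ) (by rw [hstarμ χ hχ, hstarμ ξ hξ, h]))
  let w : IrrCharacter G → ℕ := fun a => ∑ χ ∈ P with μ χ = a, d χ
  have hw : ∀ χ ∈ P, w (μ χ) = d χ := fun χ hχ => by
    show ∑ ξ ∈ P with μ ξ = μ χ, d ξ = d χ
    refine Finset.sum_eq_single_of_mem χ (Finset.mem_filter.2 ⟨hχ, rfl⟩) fun ξ hξ hne => ?_
    exact absurd (hμinj (Finset.mem_filter.1 hξ).1 hχ (Finset.mem_filter.1 hξ).2) hne
  obtain ⟨m, hm⟩ := tifn_restriction_constant K star hstar hext hTI hC htwo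
  obtain ⟨E, hE⟩ : ∃ E : ℤ, ε = E ∧ Odd E := by
    rcases hε with h | h
    · exact ⟨1, by rw [h, Int.cast_one], odd_one⟩
    · exact ⟨-1, by rw [h, Int.cast_neg, Int.cast_one], odd_neg_one⟩
  have hP' : ∀ a ∈ P.image μ, ∃ χ ∈ P, μ χ = a := fun a ha => Finset.mem_image.1 ha
  refine ⟨{ T := P.image μ, w := w, n := n, e := e, own := E * (m * n - 1), card_eq := hne.symm,
            norm_card := hNcard, e_odd := heodd, e_ge := he3, n_even := hneven, n_pos := hnpos,
            two := ?_, w_pos := ?_, w_dvd := ?_, sum_sq := ?_, own_odd := ?_, supp := ?_, ownval := ?_,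
            const := ?_, nonprincipal := ?_ }⟩
  · intro a ha
    obtain ⟨χ, hχ, rfl⟩ := hP' a ha
    obtain ⟨ξ, hξ, hne'⟩ := hPtwo χ hχ
    exact ⟨μ ξ, Finset.mem_image_of_mem μ hξ, fun h => hne' (hμinj hξ hχ h)⟩
  · intro a ha
    obtain ⟨χ, hχ, rfl⟩ := hP' a ha
    rw [hw χ hχ]
    exact (hdeg χ hχ).2.2.1
  · intro a ha
    obtain ⟨χ, hχ, rfl⟩ := hP' a ha
    rw [hw χ hχ]
    exact (hdeg χ hχ).2.2.2
  · rw [Finset.sum_image hμinj, hn]
    exact Finset.sum_congr rfl fun χ hχ => by rw [hw χ hχ]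
  · refine hE.2.mul (Int.not_even_iff_odd.1 ?_)
    rw [Int.even_sub]
    intro h
    have h1 : Even (m * (n : ℤ)) := by
      obtain ⟨a, ha⟩ := hneven
      exact ⟨m * a, by rw [ha]; push_cast; ring⟩
    exact Int.not_even_one (h.1 h1)
  · intro a ha b hb y hy
    obtain ⟨χ, hχ, rfl⟩ := hP' a ha
    obtain ⟨ξ, hξ, rfl⟩ := hP' b hb
    have h := congrFun (tifn_star_pair K star hstar hext (hmemP χ hχ) (hmemP ξ hξ)) y
    have h0 : indFun (Subgroup.normalizer (K : Set G))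
        (((deg (χ : ↥(Subgroup.normalizer (K : Set G)) → ℂ) : ℤ) : ℂ) • (ξ : ↥(Subgroup.normalizer (K : Set G)) → ℂ) -
          ((deg (ξ : ↥(Subgroup.normalizer (K : Set G)) → ℂ) : ℤ) : ℂ) • (χ : ↥(Subgroup.normalizer (K : Set G)) → ℂ)) y = 0 := by
      have hsum : ∀ x : G, extendByZero (Subgroup.normalizer (K : Set G))
          (((deg (χ : ↥(Subgroup.normalizer (K : Set G)) → ℂ) : ℤ) : ℂ) • (ξ : ↥(Subgroup.normalizer (K : Set G)) → ℂ) -
            ((deg (ξ : ↥(Subgroup.normalizer (K : Set G)) → ℂ) : ℤ) : ℂ) • (χ : ↥(Subgroup.normalizer (K : Set G)) → ℂ))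
          (x⁻¹ * y * x) = 0 := by
        intro x
        by_cases hx : x⁻¹ * y * x ∈ Subgroup.normalizer (K : Set G)
        · rw [extendByZero_mem _ _ hx]
          by_cases hxK : x⁻¹ * y * x ∈ K
          · have hy1 : y = 1 := hy x⁻¹ (by rwa [inv_inv])
            subst hy1
            rw [show (⟨x⁻¹ * 1 * x, hx⟩ : ↥(Subgroup.normalizer (K : Set G))) = 1 from Subtype.ext (by simp)]
            exact zspanOn_one (tifn_pair_mem K (hmemP χ hχ) (hmemP ξ hξ))
          · exact (tifn_zspan K hC (tifn_pair_mem K (hmemP χ hχ) (hmemP ξ hξ)).1).2 _ hxK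
        · exact extendByZero_not_mem _ _ hx
      rw [indFun, Finset.sum_eq_zero fun x _ => hsum x, mul_zero]
    rw [h0, hstarμ χ hχ, hstarμ ξ hξ] at h
    simp only [Pi.sub_apply, Pi.smul_apply, smul_eq_mul, Int.cast_natCast, (hdeg χ hχ).2.1, (hdeg ξ hξ).2.1,
      Nat.cast_mul] at h
    rw [hw χ hχ, hw ξ hξ]
    push_cast at h
    refine mul_left_cancel₀ (mul_ne_zero (Nat.cast_ne_zero.2 (show e ≠ 0 by omega))
      (left_ne_zero_of_mul (a := ε) (b := ε) (by rw [hεε]; exact one_ne_zero))) ?_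
    linear_combination h
  · intro k hk hk1
    set k' : ↥(Subgroup.normalizer (K : Set G)) := ⟨k, hle hk⟩
    have hk1' : k' ≠ 1 := fun h => hk1 (congrArg Subtype.val h)
    have h1 := hreg k' (Subgroup.mem_subgroupOf.2 hk)
    rw [if_neg hk1'] at h1
    have hS : ∑ χ ∈ P, (d χ : ℂ) * (χ : ↥(Subgroup.normalizer (K : Set G)) → ℂ) k' = -1 := by
      refine mul_left_cancel₀ (Nat.cast_ne_zero.2 (show e ≠ 0 by omega) : (e : ℂ) ≠ 0) ?_
      linear_combination h1
    rw [Finset.sum_image hμinj, Finset.sum_congr rfl (g := fun χ =>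
      ε * ((d χ : ℂ) * (χ : ↥(Subgroup.normalizer (K : Set G)) → ℂ) k' + (m : ℂ) * ((d χ ^ 2 : ℕ) : ℂ)))
      fun χ hχ => ?_, ← Finset.mul_sum, Finset.sum_add_distrib, ← Finset.mul_sum, ← Nat.cast_sum, ← hn, hS, hE.1]
    · push_cast
      ring
    · have h2 := hm _ (hmemP χ hχ) k' hk hk1'
      rw [(hdeg χ hχ).1, ← hK0, ← he, eq_div_iff (Nat.cast_ne_zero.2 (show e ≠ 0 by omega))] at h2
      have h3 : star (χ : ↥(Subgroup.normalizer (K : Set G)) → ℂ) k =
          (χ : ↥(Subgroup.normalizer (K : Set G)) → ℂ) k' + m * d χ := by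
        refine mul_right_cancel₀ (Nat.cast_ne_zero.2 (show e ≠ 0 by omega) : (e : ℂ) ≠ 0) ?_
        linear_combination h2
      rw [hw χ hχ, hμ χ hχ, Pi.smul_apply, smul_eq_mul, h3]
      push_cast
      ring
  · intro F hFg hF horth
    set F' : ↥(Subgroup.normalizer (K : Set G)) → ℂ := fun x => F x with hF'
    have hF'gen : IsGeneralizedCharacter ↥(Subgroup.normalizer (K : Set G)) F' := by
      obtain ⟨p, q, hp, hq, epq⟩ := hFg
      exact ⟨fun x => p x, fun x => q x, isCharacter_comp (Subgroup.normalizer (K : Set G)).subtype hp,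
        isCharacter_comp (Subgroup.normalizer (K : Set G)).subtype hq, by rw [hF', epq]; rfl⟩
    have hzero : ∀ χ ∈ P, classInner F (star (χ : ↥(Subgroup.normalizer (K : Set G)) → ℂ)) = 0 := fun χ hχ => by
      rw [hstarμ χ hχ, classInner_smul_right, horth _ (Finset.mem_image_of_mem μ hχ), mul_zero]
    have hd0 : (deg (χ₀ : ↥(Subgroup.normalizer (K : Set G)) → ℂ) : ℂ) ≠ 0 :=
      Nat.cast_ne_zero.2 (deg_pos χ₀.2).ne'
    set q : ℂ := classInner F' (χ₀ : ↥(Subgroup.normalizer (K : Set G)) → ℂ) /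
      (deg (χ₀ : ↥(Subgroup.normalizer (K : Set G)) → ℂ) : ℂ) with hq
    have hcoef : ∀ χ : IrrCharacter ↥(Subgroup.normalizer (K : Set G)),
        (∃ k ∈ K0, (χ : ↥(Subgroup.normalizer (K : Set G)) → ℂ) k ≠ (χ : ↥(Subgroup.normalizer (K : Set G)) → ℂ) 1) →
        classInner F' (χ : ↥(Subgroup.normalizer (K : Set G)) → ℂ) =
          0 + q * (χ : ↥(Subgroup.normalizer (K : Set G)) → ℂ) 1 := by
      intro χ hχ
      have hχP : χ ∈ P := (mem_ncChars K0).2 hχ
      have h := tifn_coeff K star hstar hext (hmemP χ₀ hχ₀) hF (hmemP χ hχP)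
      rw [hzero χ hχP, hzero χ₀ hχ₀, sub_zero, sub_zero] at h
      rw [char_one_eq_deg (irr_isCharacter χ.2), hq, hF']
      field_simp
      linear_combination h
    obtain ⟨c, hc⟩ := value_on_kernel K0 hC0 hF'gen (fun _ => 0) q hcoef
    obtain ⟨r, hr⟩ := int_of_weights P d n e (Nat.card K) hn.symm (fun χ hχ => (hdeg χ hχ).2.2.2) hne.symm
      hnpos (q * (e : ℂ)) fun χ hχ => by
        obtain ⟨z, -, hz⟩ := exists_int_coords hF'gen
        refine ⟨z χ, ?_⟩
        rw [← hz χ, hcoef χ ((mem_ncChars K0).1 hχ), (hdeg χ hχ).1]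
        ring
    refine ⟨c - r, fun k hk hk1 => ?_⟩
    have h := hc ⟨k, hle hk⟩ (Subgroup.mem_subgroupOf.2 hk) (fun h => hk1 (congrArg Subtype.val h))
    rw [Finset.sum_eq_zero (fun _ _ => zero_mul _), ← he, hr] at h
    simp only [hF'] at h
    rw [h]
    push_cast
    ring
  · intro a ha hone
    obtain ⟨χ, hχ, rfl⟩ := hP' a ha
    obtain ⟨x, -, y, -, -, -, hxy⟩ := (tifn_exceptional_iff K star hstar hext hTI hC htwo (μ χ : G → ℂ) (μ χ).2).1
      ⟨_, hmemP χ hχ, by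
        rcases hε with h | h
        · exact Or.inl (by rw [hμ χ hχ, h, one_smul])
        · exact Or.inr (by rw [hμ χ hχ, h, neg_one_smul])⟩
    exact hxy (by rw [hone])

end Cfsg.Agent.Solv.CoverTI
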