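import Cfsg.Agent.Lib.Solv.CoverTIArith
import Cfsg.Agent.Lib.Solv.CoverTIExc

/-!
# No group of odd order is covered by two or more coprime TI Frobenius kernels

The averaged exceptional characters together with the principal character form an orthogonal basis of the
class functions that are constant on each family of conjugates, which forces the numerical configuration
excluded in `CoverTIArith`.
-/

set_option autoImplicit false
set_option linter.unusedSectionVars false

open Cfsg Cfsg.Agent.Char
open scoped ComplexConjugate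

namespace Cfsg.Agent.Solv.CoverTI

universe u v

variable {G : Type u} [Group G] [Fintype G]

/-- The exceptional characters of two kernels without common conjugates are distinct. -/
theorem exc_disjoint {K K' : Subgroup G} (D : Exc K) (D' : Exc K')
    (hsep : ∀ y : G, y ≠ 1 → (∃ x : G, x * y * x⁻¹ ∈ K) → ∀ x : G, x * y * x⁻¹ ∉ K')
    {a : IrrCharacter G} (ha : a ∈ D.T) : a ∉ D'.T := by
  classical
  intro ha'
  obtain ⟨b, hb, hba⟩ := D.two a ha
  obtain ⟨b', hb', hba'⟩ := D'.two a ha'
  have hzero : classInner ((D.w b : ℂ) • (a : G → ℂ) - (D.w a : ℂ) • (b : G → ℂ))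
      ((D'.w b' : ℂ) • (a : G → ℂ) - (D'.w a : ℂ) • (b' : G → ℂ)) = 0 := by
    rw [classInner, Finset.sum_eq_zero, mul_zero]
    intro y _
    by_cases hy : ∀ x : G, x * y * x⁻¹ ∈ K → y = 1
    · rw [Pi.sub_apply, Pi.smul_apply, Pi.smul_apply, smul_eq_mul, smul_eq_mul, D.supp a ha b hb y hy,
        sub_self, zero_mul]
    · push Not at hy
      obtain ⟨x, hx, hy1⟩ := hy
      rw [show ((D'.w b' : ℂ) • (a : G → ℂ) - (D'.w a : ℂ) • (b' : G → ℂ)) y = 0 by
          rw [Pi.sub_apply, Pi.smul_apply, Pi.smul_apply, smul_eq_mul, smul_eq_mul,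
            D'.supp a ha' b' hb' y (fun x' hx' => absurd hx' (hsep y hy1 ⟨x, hx⟩ x')), sub_self],
        map_zero, mul_zero]
  simp only [classInner_sub_left, classInner_sub_right, classInner_smul_left, classInner_smul_right,
    irrC_orth, map_natCast, if_true, if_neg hba'.symm, if_neg hba, mul_zero, sub_zero, zero_sub,
    mul_one] at hzero
  have hre := congrArg Complex.re hzero
  split_ifs at hre with hbb
  · simp at hre
    have h1 := D.w_pos b hb
    have h2 := D'.w_pos b' hb'
    have h3 : (0 : ℝ) < (D.w b : ℝ) * D'.w b' := by positivity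
    have h4 : (0 : ℝ) ≤ (D.w a : ℝ) * D'.w a := by positivity
    linarith
  · simp at hre
    have h1 := D.w_pos b hb
    have h2 := D'.w_pos b' hb'
    rcases hre with h | h <;> omega

/-- The covering by TI kernels is impossible. -/
theorem false_of_cover {ι : Type v} [Fintype ι] [Nontrivial ι] (hodd : Odd (Nat.card G)) (K : ι → Subgroup G)
    (hTI : ∀ i, ∀ g : G, g ∉ Subgroup.normalizer (K i : Set G) → ∀ k ∈ K i, g * k * g⁻¹ ∈ K i → k = 1)
    (hC : ∀ i, ∀ k ∈ K i, k ≠ 1 → Subgroup.centralizer ({k} : Set G) ≤ K i)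
    (hK1 : ∀ i, K i ≠ ⊥) (hKN : ∀ i, K i < Subgroup.normalizer (K i : Set G))
    (hcop : ∀ i j, i ≠ j → (Nat.card (K i)).Coprime (Nat.card (K j)))
    (hcover : ∀ y : G, y ≠ 1 → ∃ i, ∃ x : G, x * y * x⁻¹ ∈ K i) : False := by
  classical
  haveI : ∀ i, Fintype ↥(Subgroup.normalizer (K i : Set G)) := fun i => Fintype.ofFinite _
  let D : ∀ i, Exc (K i) := fun i => (exists_exc hodd (K i) (hTI i) (hC i) (hK1 i) (hKN i)).some
  have hsep : ∀ i j, i ≠ j → ∀ y : G, y ≠ 1 → (∃ x : G, x * y * x⁻¹ ∈ K i) → ∀ x : G, x * y * x⁻¹ ∉ K j := by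
    rintro i j hij y hy ⟨x, hx⟩ x' hx'
    have ho : ∀ (z : G) (H : Subgroup G), z * y * z⁻¹ ∈ H → orderOf y ∣ Nat.card H := fun z H hz => by
      have hc := (show SemiconjBy z y (z * y * z⁻¹) by simp [SemiconjBy, mul_assoc]).orderOf_eq z
      rw [hc, ← Subgroup.orderOf_mk _ hz]
      exact orderOf_dvd_natCard _
    exact hy (orderOf_eq_one_iff.1 (Nat.eq_one_of_dvd_coprimes (hcop i j hij) (ho x _ hx) (ho x' _ hx')))
  have hdisj : ∀ i j, i ≠ j → ∀ a ∈ (D i).T, a ∉ (D j).T := fun i j hij a ha =>
    exc_disjoint (D i) (D j) (hsep i j hij) ha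
  have hclass : ∀ a : IrrCharacter G, IsClassFunction G (a : G → ℂ) := fun a =>
    isClassFunction_character (irr_isCharacter a.2)
  -- the integer constants
  have hc' : ∀ i j, i ≠ j → ∃ c : ℤ, ∀ a ∈ (D i).T, ∀ k ∈ K j, k ≠ 1 →
      (a : G → ℂ) k = ((D i).w a : ℂ) * (c : ℂ) := by
    intro i j hij
    obtain ⟨k₀, hk₀, hk₀1⟩ : ∃ k ∈ K j, k ≠ 1 := by
      by_contra hh
      push Not at hh
      exact hK1 j ((Subgroup.eq_bot_iff_forall _).2 hh)
    obtain ⟨a₀, ha₀⟩ : (D i).T.Nonempty := by
      by_contra h0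
      have h1 := (D i).sum_sq
      rw [Finset.not_nonempty_iff_eq_empty.1 h0, Finset.sum_empty] at h1
      have h2 := (D i).n_pos
      omega
    have hκ : ∀ a ∈ (D i).T, ∃ κ : ℤ, ∀ k ∈ K j, k ≠ 1 → (a : G → ℂ) k = κ := fun a ha =>
      (D j).const _ ⟨(a : G → ℂ), 0, irr_isCharacter a.2, isCharacter_zero, (sub_zero _).symm⟩ (hclass a)
        fun b hb => by rw [irrC_orth, if_neg fun h => hdisj i j hij a ha (by rw [h]; exact hb)]
    have hrel : ∀ a ∈ (D i).T, ∀ k ∈ K j, k ≠ 1 →
        ((D i).w a₀ : ℂ) * (a : G → ℂ) k = ((D i).w a : ℂ) * (a₀ : G → ℂ) k := fun a ha k hk hk1 =>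
      (D i).supp a ha a₀ ha₀ k fun x hx => absurd (show (1 : G) * k * 1⁻¹ ∈ K j by simpa using hk)
        (hsep i j hij k hk1 ⟨x, hx⟩ 1)
    have hw0 : ((D i).w a₀ : ℂ) ≠ 0 := Nat.cast_ne_zero.2 ((D i).w_pos a₀ ha₀).ne'
    obtain ⟨c, hc⟩ := int_of_weights (D i).T (D i).w (D i).n (D i).e (Nat.card (K i)) (D i).sum_sq
      (D i).w_dvd (D i).card_eq (D i).n_pos ((a₀ : G → ℂ) k₀ / (D i).w a₀) fun a ha => by
        obtain ⟨z, hz⟩ := hκ a ha
        refine ⟨z, ?_⟩
        rw [← hz k₀ hk₀ hk₀1, div_mul_eq_mul_div, div_eq_iff hw0]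
        linear_combination -hrel a ha k₀ hk₀ hk₀1
    refine ⟨c, fun a ha k hk hk1 => ?_⟩
    obtain ⟨z, hz⟩ := hκ a ha
    rw [hz k hk hk1, ← hz k₀ hk₀ hk₀1, ← hc, mul_div_assoc', eq_div_iff hw0]
    linear_combination hrel a ha k₀ hk₀ hk₀1
  choose! c hc using hc'
  -- the orthogonal family
  let Φ : ι → G → ℂ := fun i => ∑ a ∈ (D i).T, ((D i).w a : ℂ) • (a : G → ℂ)
  let v : Option ι → G → ℂ := fun a => a.elim (fun _ => 1) Φ
  let deg₁ : ι → ℕ := fun i => ∑ a ∈ (D i).T, (D i).w a * deg (a : G → ℂ)
  let M : Option ι → Option ι → ℤ := fun a s => a.elim 1 fun i =>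
    s.elim (deg₁ i : ℤ) fun j => if i = j then (D i).own else ((D i).n : ℤ) * c i j
  let W : Option ι → ℝ := fun s => s.elim (Nat.card G : ℝ)⁻¹ fun j => ((D j).n : ℝ) / Nat.card (K j)
  let N : Option ι → ℝ := fun a => a.elim 1 fun i => ((D i).n : ℝ)
  have hΦ : ∀ i y, Φ i y = ∑ a ∈ (D i).T, ((D i).w a : ℂ) * (a : G → ℂ) y := fun i y => by
    simp only [Φ, Finset.sum_apply, Pi.smul_apply, smul_eq_mul]
  have hv1 : ∀ a, v a 1 = (M a none : ℂ) := by
    rintro (_ | i)
    · simp [v, M]
    · show Φ i 1 = ((deg₁ i : ℤ) : ℂ)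
      rw [hΦ]
      simp only [deg₁, Nat.cast_sum, Int.cast_sum, Nat.cast_mul, Int.cast_mul, Int.cast_natCast]
      exact Finset.sum_congr rfl fun a _ => by rw [char_one_eq_deg (irr_isCharacter a.2)]
  have hvk : ∀ a j, ∀ k ∈ K j, k ≠ 1 → v a k = (M a (some j) : ℂ) := by
    rintro (_ | i) j k hk hk1
    · simp [v, M]
    · show Φ i k = ((if i = j then (D i).own else ((D i).n : ℤ) * c i j : ℤ) : ℂ)
      rw [hΦ]
      split_ifs with hij
      · subst hij
        exact (D i).ownval k hk hk1
      · rw [Finset.sum_congr rfl (g := fun a => (((D i).w a ^ 2 : ℕ) : ℂ) * (c i j : ℂ)) fun a ha => by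
            rw [hc i j hij a ha k hk hk1]; push_cast; ring,
          ← Finset.sum_mul, ← Nat.cast_sum, (D i).sum_sq]
        push_cast
        ring
  have hvclass : ∀ a, IsClassFunction G (v a) := by
    rintro (_ | i)
    · exact fun g h => rfl
    · intro g h
      show Φ i _ = Φ i g
      rw [hΦ, hΦ]
      exact Finset.sum_congr rfl fun a _ => by rw [hclass a g h]
  -- the inner products
  have hinner : ∀ a b, classInner (v a) (v b) = ((if a = b then N a else 0 : ℝ) : ℂ) := by
    have hone : ∀ i, classInner (Φ i) (fun _ : G => (1 : ℂ)) = 0 := fun i => by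
      simp only [Φ, classInner_sum_left, classInner_smul_left]
      refine Finset.sum_eq_zero fun a ha => ?_
      rw [irr_orth a.2 isIrrCharacter_one, if_neg ((D i).nonprincipal a ha), mul_zero]
    rintro (_ | i) (_ | l)
    · show classInner (fun _ : G => (1 : ℂ)) (fun _ : G => (1 : ℂ)) = _
      rw [irr_self isIrrCharacter_one, if_pos rfl]
      simp [N]
    · show classInner (fun _ : G => (1 : ℂ)) (Φ l) = _
      rw [← classInner_symm, hone l, map_zero, if_neg (by simp)]
      simp
    · show classInner (Φ i) (fun _ : G => (1 : ℂ)) = _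
      rw [hone i, if_neg (by simp)]
      simp
    · show classInner (Φ i) (Φ l) = _
      simp only [Φ, classInner_sum_left, classInner_smul_left, classInner_sum_right, classInner_smul_right,
        irrC_orth, map_natCast, Finset.mul_sum]
      by_cases hil : i = l
      · subst hil
        rw [if_pos rfl]
        show _ = (((D i).n : ℝ) : ℂ)
        rw [Complex.ofReal_natCast, ← (D i).sum_sq, Nat.cast_sum]
        refine Finset.sum_congr rfl fun a ha => ?_
        rw [Finset.sum_eq_single_of_mem a ha fun b _ hb => by simp [hb, hb.symm]]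
        simp
        ring
      · rw [if_neg (by simpa using hil)]
        push_cast
        refine Finset.sum_eq_zero fun a ha => Finset.sum_eq_zero fun b hb => ?_
        first
          | rw [if_neg fun h => hdisj i l hil a ha (by rw [h]; exact hb), mul_zero, mul_zero]
          | rw [if_neg fun h => hdisj l i (Ne.symm hil) a ha (by rw [h]; exact hb), mul_zero, mul_zero]
          | rw [if_neg fun h => hdisj i l hil b hb (by rw [h]; exact ha), mul_zero, mul_zero]
  -- the partition of the group
  have hexp : ∀ a b, classInner (v a) (v b) = ((∑ s, W s * (M a s : ℝ) * (M b s : ℝ) : ℝ) : ℂ) := by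
    intro a b
    let u : ∀ j, ↥(Subgroup.normalizer (K j : Set G)) → ℂ := fun j x =>
      if (x : G) ∈ K j ∧ x ≠ 1 then 1 else 0
    let I : ι → G → ℂ := fun j => indFun (Subgroup.normalizer (K j : Set G)) (u j)
    have hu : ∀ j, IsClassFunction ↥(Subgroup.normalizer (K j : Set G)) (u j) := by
      intro j g h
      have h1 : ((h * g * h⁻¹ : ↥(Subgroup.normalizer (K j : Set G))) : G) ∈ K j ↔ (g : G) ∈ K j :=
        (Subgroup.mem_normalizer_iff.1 h.2 (g : G)).symm
      have h2 : h * g * h⁻¹ = 1 ↔ g = 1 := conj_eq_one_iff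
      simp only [u, h1, ne_eq, h2]
    have hI1 : ∀ j, ∀ y : G, y ≠ 1 → (∃ x : G, x * y * x⁻¹ ∈ K j) → I j y = 1 := by
      rintro j y hy ⟨x, hx⟩
      have hne : x * y * x⁻¹ ≠ 1 := fun h => hy (conj_eq_one_iff.1 h)
      have h1 : I j (x * y * x⁻¹) = 1 := by
        have h2 := indFun_ti (K j : Set G) (hTI j) (u j) (hu j) (fun z hz => if_neg fun h => hz h.1)
          ⟨x * y * x⁻¹, Subgroup.le_normalizer hx⟩ hx (fun h => hne (congrArg Subtype.val h))
        rw [show I j (x * y * x⁻¹) = _ from h2]
        exact if_pos ⟨hx, fun h => hne (congrArg Subtype.val h)⟩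
      rw [← h1]
      exact (isClassFunction_indFun _ (u j) y x).symm
    have hI0 : ∀ j, ∀ y : G, (∀ x : G, x * y * x⁻¹ ∈ K j → y = 1) → I j y = 0 := by
      intro j y hy
      show indFun _ (u j) y = 0
      rw [indFun, Finset.sum_eq_zero, mul_zero]
      intro x _
      by_cases hx : x⁻¹ * y * x ∈ Subgroup.normalizer (K j : Set G)
      · rw [extendByZero_mem _ _ hx]
        refine if_neg fun h => h.2 (Subtype.ext ?_)
        have h1 : y = 1 := hy x⁻¹ (by rw [inv_inv]; exact h.1)
        show x⁻¹ * y * x = 1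
        rw [h1]
        simp
      · exact extendByZero_not_mem _ _ hx
    have hIsum : ∀ j, ∑ y : G, I j y = (Nat.card G : ℂ) * (W (some j) : ℂ) := by
      intro j
      have h1 : classInner (I j) (fun _ : G => (1 : ℂ)) = classInner (u j) (fun _ => (1 : ℂ)) :=
        frobenius _ (u j) (fun _ _ => rfl)
      simp only [classInner, map_one, mul_one] at h1
      rw [inv_mul_eq_iff_eq_mul₀ (Nat.cast_ne_zero.2 Nat.card_pos.ne')] at h1
      rw [h1]
      congr 1
      have hcnt : ∑ x : ↥(Subgroup.normalizer (K j : Set G)), u j x = (Nat.card (K j) : ℂ) - 1 := by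
        rw [show (Nat.card (K j) : ℂ) - 1 = ((Finset.univ.filter fun x : ↥(Subgroup.normalizer (K j : Set G)) =>
            (x : G) ∈ K j ∧ x ≠ 1).card : ℂ) from ?_]
        · simp only [u, Finset.sum_boole]
        have hcard : Nat.card (K j) = ((Finset.univ.filter fun x : ↥(Subgroup.normalizer (K j : Set G)) =>
            (x : G) ∈ K j ∧ x ≠ 1).card) + 1 := by
          rw [← Nat.card_congr (Subgroup.subgroupOfEquivOfLe (Subgroup.le_normalizer (H := K j))).toEquiv,
            Nat.card_eq_fintype_card, Fintype.card_subtype,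
            ← Finset.card_insert_of_notMem (a := (1 : ↥(Subgroup.normalizer (K j : Set G)))) (by simp)]
          congr 1
          ext x
          simp only [Finset.mem_filter, Finset.mem_univ, true_and, Finset.mem_insert, Subgroup.mem_subgroupOf]
          by_cases hx : x = 1
          · simp [hx]
          · simp [hx]
        rw [hcard]
        push_cast
        ring
      rw [hcnt, (D j).norm_card]
      simp only [W, Option.elim_some]
      rw [(D j).card_eq]
      push_cast
      have he0 : ((D j).e : ℂ) ≠ 0 := Nat.cast_ne_zero.2 (by have := (D j).e_ge; omega)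
      have hh0 : ((D j).n : ℂ) * (D j).e + 1 ≠ 0 := by exact_mod_cast Nat.succ_ne_zero ((D j).n * (D j).e)
      field_simp
      ring
    let F : G → ℂ := fun y => v a y * conj (v b y)
    have hF : ∀ y : G, F y = (if y = 1 then (M a none : ℂ) * (M b none : ℂ) else 0) +
        ∑ j, (M a (some j) : ℂ) * (M b (some j) : ℂ) * I j y := by
      intro y
      by_cases hy : y = 1
      · subst hy
        rw [if_pos rfl, Finset.sum_eq_zero fun j _ => by rw [hI0 j 1 (fun _ _ => rfl), mul_zero], add_zero]
        simp only [F, hv1, map_intCast]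
      · rw [if_neg hy, zero_add]
        obtain ⟨i, x, hx⟩ := hcover y hy
        have hne : x * y * x⁻¹ ≠ 1 := fun h => hy (conj_eq_one_iff.1 h)
        rw [Finset.sum_eq_single i (fun j _ hj => by
            rw [hI0 j y fun x' hx' => absurd hx' (hsep i j (Ne.symm hj) y hy ⟨x, hx⟩ x'), mul_zero])
          (fun h => absurd (Finset.mem_univ i) h), hI1 i y hy ⟨x, hx⟩, mul_one]
        simp only [F]
        rw [← hvclass a y x, ← hvclass b y x, hvk a i _ hx hne, hvk b i _ hx hne, map_intCast]
    show (Nat.card G : ℂ)⁻¹ * ∑ y, F y = _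
    rw [Finset.sum_congr rfl fun y _ => hF y, Finset.sum_add_distrib, Finset.sum_ite_eq' Finset.univ (1 : G),
      if_pos (Finset.mem_univ _), Finset.sum_comm]
    simp only [← Finset.mul_sum, hIsum]
    rw [Fintype.sum_option]
    push_cast
    rw [mul_add, Finset.mul_sum]
    congr 1
    · simp only [W, Option.elim_none, Complex.ofReal_inv, Complex.ofReal_natCast]
      ring
    · refine Finset.sum_congr rfl fun j _ => ?_
      field_simp
  have horth : ∀ a b, ∑ s, W s * (M a s : ℝ) * (M b s : ℝ) = if a = b then N a else 0 := fun a b => by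
    exact_mod_cast (hexp a b).symm.trans (hinner a b)
  -- invert
  have hNne : ∀ a, N a ≠ 0 := by
    rintro (_ | i)
    · exact one_ne_zero
    · exact Nat.cast_ne_zero.2 (D i).n_pos.ne'
  have hcolumn : ∀ j t, ∑ a, (M a (some j) : ℝ) * (N a)⁻¹ * (M a t : ℝ) * W t = if some j = t then 1 else 0 := by
    intro j t
    let A : Matrix (Option ι) (Option ι) ℝ := Matrix.of fun a s => (M a s : ℝ)
    let B : Matrix (Option ι) (Option ι) ℝ := Matrix.of fun a s => (N a)⁻¹ * (M a s : ℝ) * W s
    have h1 : B * A.transpose = 1 := by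
      ext a b
      rw [Matrix.mul_apply, Matrix.one_apply]
      simp only [A, B, Matrix.transpose_apply, Matrix.of_apply]
      rw [Finset.sum_congr rfl (g := fun s => (N a)⁻¹ * (W s * (M a s : ℝ) * (M b s : ℝ))) fun s _ => by ring,
        ← Finset.mul_sum, horth a b]
      split_ifs with h
      · exact inv_mul_cancel₀ (hNne a)
      · exact mul_zero _
    have h1' : A.transpose * B = 1 := mul_eq_one_comm.1 h1
    have h2 := congrFun (congrFun h1' (some j)) t
    rw [Matrix.mul_apply, Matrix.one_apply] at h2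
    simp only [A, B, Matrix.transpose_apply, Matrix.of_apply] at h2
    rw [← h2]
    exact Finset.sum_congr rfl fun a _ => by ring
  have hWpos : ∀ j, 0 < W (some j) := fun j => by
    have h1 := (D j).n_pos
    have h2 : 0 < Nat.card (K j) := Nat.card_pos
    show (0 : ℝ) < ((D j).n : ℝ) / Nat.card (K j)
    positivity
  refine no_config (fun i => (D i).e) (fun i => (D i).n) (fun i => Nat.card (K i)) (Nat.card G)
    (fun i j => i ≠ j ∧ c i j ≠ 0) (fun i => (D i).card_eq) (fun i => (D i).e_odd) (fun i => (D i).e_ge)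
    (fun i => (D i).n_even) (fun i => (D i).n_pos) hcop (fun i => Subgroup.card_subgroup_dvd_card _)
    Nat.card_pos ?_ ?_ (fun i h => h.1 rfl) ?_ ?_
  · have h := horth none none
    rw [Fintype.sum_option] at h
    simpa [M, W, N] using h
  · -- every pair is linked
    intro j l hjl
    by_contra hno
    push Not at hno
    have hjl0 : c j l = 0 := hno.1 hjl
    have hlj0 : c l j = 0 := hno.2 hjl.symm
    have h := hcolumn j (some l)
    rw [if_neg (fun h => hjl (Option.some_injective _ h)), Fintype.sum_option, ← Finset.sum_mul, ← add_mul,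
      mul_eq_zero] at h
    have h' := h.resolve_right (hWpos l).ne'
    let T : ι → ℤ := fun i => if i = j ∨ i = l then 0 else ((D i).n : ℤ) * c i j * c i l
    have hT : ∀ i, (M (some i) (some j) : ℝ) * (N (some i))⁻¹ * (M (some i) (some l) : ℝ) = (T i : ℝ) := by
      intro i
      have hni : ((D i).n : ℝ) ≠ 0 := Nat.cast_ne_zero.2 (D i).n_pos.ne'
      by_cases hij : i = j
      · subst hij
        simp [M, N, T, hjl, hjl0]
      by_cases hil : i = l
      · subst hil
        simp [M, N, T, hij, hlj0]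
      simp [M, N, T, hij, hil]
      field_simp
    simp only [hT] at h'
    have h2 : (1 : ℤ) + ∑ i, T i = 0 := by
      have : ((1 + ∑ i, T i : ℤ) : ℝ) = 0 := by
        rw [← h']
        simp [M, N]
      exact_mod_cast this
    have h3 : (2 : ℤ) ∣ ∑ i, T i := by
      refine Finset.dvd_sum fun i _ => ?_
      simp only [T]
      split_ifs
      · exact dvd_zero _
      · obtain ⟨a, ha⟩ := (D i).n_even
        exact ⟨(a : ℤ) * c i j * c i l, by rw [ha]; push_cast; ring⟩
    omega
  · -- the columns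
    intro j
    have h := hcolumn j (some j)
    rw [if_pos rfl, Fintype.sum_option, ← Finset.sum_mul, ← add_mul,
      ← Finset.add_sum_erase _ _ (Finset.mem_univ j)] at h
    have hnj : (0 : ℝ) < (D j).n := by exact_mod_cast (D j).n_pos
    have hhj : (0 : ℝ) < Nat.card (K j) := by exact_mod_cast Nat.card_pos
    have hown : (1 : ℝ) ≤ ((D j).own : ℝ) * (D j).own := by
      have h0 : (D j).own ≠ 0 := fun h0 => by
        have := (D j).own_odd
        rw [h0] at this
        exact Int.not_odd_iff_even.2 Even.zero this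
      exact_mod_cast (mul_self_pos.2 h0 : (0 : ℤ) < (D j).own * (D j).own)
    have hsum : ∑ i with i ≠ j ∧ c i j ≠ 0, ((D i).n : ℝ) ≤
        ∑ i ∈ Finset.univ.erase j, (M (some i) (some j) : ℝ) * (N (some i))⁻¹ * (M (some i) (some j) : ℝ) := by
      refine le_trans (Finset.sum_le_sum (g := fun i => (M (some i) (some j) : ℝ) * (N (some i))⁻¹ *
          (M (some i) (some j) : ℝ)) fun i hi => ?_)
        (Finset.sum_le_sum_of_subset_of_nonneg (fun i hi => ?_) fun i _ _ => ?_)
      · obtain ⟨hij, hcij⟩ := (Finset.mem_filter.1 hi).2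
        have hni : (0 : ℝ) < (D i).n := by exact_mod_cast (D i).n_pos
        simp only [M, N, Option.elim_some, if_neg hij, Int.cast_mul, Int.cast_natCast]
        have h1 : (1 : ℝ) ≤ (c i j : ℝ) * c i j := by
          exact_mod_cast (mul_self_pos.2 hcij : (0 : ℤ) < c i j * c i j)
        rw [show ((D i).n : ℝ) * (c i j : ℝ) * ((D i).n : ℝ)⁻¹ * (((D i).n : ℝ) * (c i j : ℝ)) =
          ((D i).n : ℝ) * ((c i j : ℝ) * c i j) by field_simp]
        exact le_mul_of_one_le_right hni.le h1
      · exact Finset.mem_erase.2 ⟨(Finset.mem_filter.1 hi).2.1, Finset.mem_univ i⟩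
      · rw [mul_comm ((M (some i) (some j) : ℝ)) ((N (some i))⁻¹), mul_assoc]
        exact mul_nonneg (inv_nonneg.2 (Nat.cast_nonneg _)) (mul_self_nonneg _)
    simp only [M, N, W, Option.elim_some, Option.elim_none, if_true, Int.cast_one, inv_one, one_mul] at h hsum
    rw [← mul_div_assoc, div_eq_iff hhj.ne', one_mul] at h
    have hself : ((D j).own : ℝ) * ((D j).n : ℝ)⁻¹ * (D j).own * (D j).n = ((D j).own : ℝ) * (D j).own := by
      field_simp
    have hcard : (Nat.card (K j) : ℝ) = (D j).n * (D j).e + 1 := by exact_mod_cast (D j).card_eq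
    have hkey : (∑ i with i ≠ j ∧ c i j ≠ 0, ((D i).n : ℝ)) + 1 ≤ (D j).e := by
      refine le_of_mul_le_mul_left ?_ hnj
      nlinarith [mul_le_mul_of_nonneg_left hsum hnj.le]
    exact_mod_cast hkey
  · -- the rows
    intro i
    have h := horth (some i) (some i)
    rw [if_pos rfl, Fintype.sum_option, ← Finset.add_sum_erase _ _ (Finset.mem_univ i)] at h
    have hni : (0 : ℝ) < (D i).n := by exact_mod_cast (D i).n_pos
    have hhi : (0 : ℝ) < Nat.card (K i) := by exact_mod_cast Nat.card_pos
    have hown : (1 : ℝ) ≤ ((D i).own : ℝ) * (D i).own := by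
      have h0 : (D i).own ≠ 0 := fun h0 => by
        have := (D i).own_odd
        rw [h0] at this
        exact Int.not_odd_iff_even.2 Even.zero this
      exact_mod_cast (mul_self_pos.2 h0 : (0 : ℤ) < (D i).own * (D i).own)
    have hsum : ((D i).n : ℝ) * (D i).n * ∑ j with i ≠ j ∧ c i j ≠ 0, ((D j).n : ℝ) / Nat.card (K j) ≤
        ∑ j ∈ Finset.univ.erase i, W (some j) * (M (some i) (some j) : ℝ) * (M (some i) (some j) : ℝ) := by
      rw [Finset.mul_sum]
      refine le_trans (Finset.sum_le_sum (g := fun j => W (some j) * (M (some i) (some j) : ℝ) *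
          (M (some i) (some j) : ℝ)) fun j hj => ?_)
        (Finset.sum_le_sum_of_subset_of_nonneg (fun j hj => ?_) fun j _ _ => ?_)
      · obtain ⟨hij, hcij⟩ := (Finset.mem_filter.1 hj).2
        simp only [M, W, Option.elim_some, if_neg hij, Int.cast_mul, Int.cast_natCast]
        have h1 : (1 : ℝ) ≤ (c i j : ℝ) * c i j := by
          exact_mod_cast (mul_self_pos.2 hcij : (0 : ℤ) < c i j * c i j)
        nlinarith [mul_le_mul_of_nonneg_left h1
          (show (0 : ℝ) ≤ ((D j).n : ℝ) / Nat.card (K j) * (((D i).n : ℝ) * (D i).n) by positivity)]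
      · exact Finset.mem_erase.2 ⟨(Finset.mem_filter.1 hj).2.1.symm, Finset.mem_univ j⟩
      · rw [mul_assoc]
        exact mul_nonneg (hWpos j).le (mul_self_nonneg _)
    have hnone : 0 ≤ W none * (M (some i) none : ℝ) * (M (some i) none : ℝ) := by
      rw [mul_assoc]
      exact mul_nonneg (inv_nonneg.2 (Nat.cast_nonneg _)) (mul_self_nonneg _)
    simp only [M, N, W, Option.elim_some, Option.elim_none, if_true] at h hsum hnone
    have hcard : (Nat.card (K i) : ℝ) = (D i).n * (D i).e + 1 := by exact_mod_cast (D i).card_eq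
    have hfirst : ((D i).n : ℝ) / Nat.card (K i) ≤ ((D i).n : ℝ) / Nat.card (K i) * (D i).own * (D i).own := by
      rw [mul_assoc]
      exact le_mul_of_one_le_right (by positivity) hown
    show ∑ j with i ≠ j ∧ c i j ≠ 0, ((D j).n : ℝ) / Nat.card (K j) ≤ ((D i).e : ℝ) / Nat.card (K i)
    refine le_of_mul_le_mul_left ?_ (mul_pos hni hni)
    have heq : ((D i).n : ℝ) * (D i).n * (((D i).e : ℝ) / Nat.card (K i)) =
        (D i).n - ((D i).n : ℝ) / Nat.card (K i) := by
      field_simp
      rw [hcard]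
      ring
    rw [heq]
    linarith

end Cfsg.Agent.Solv.CoverTI
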