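import Mathlib.GroupTheory.Sylow
import Mathlib.RingTheory.Int.Basic

/-! Primary parts of elements; a group is not the union of the conjugates of a proper subgroup. -/

set_option autoImplicit false

namespace Cfsg.Agent.Solv

variable {G : Type*} [Group G]

theorem exists_split_of_coprime {g : G} {a b : ℕ} (hab : a.Coprime b) (hg : g ^ (a * b) = 1) :
    ∃ u v : G, u ∈ Subgroup.zpowers g ∧ v ∈ Subgroup.zpowers g ∧ u * v = g ∧ u ^ a = 1 ∧ v ^ b = 1 := by
  obtain ⟨x, y, hxy⟩ : IsCoprime (a : ℤ) (b : ℤ) := Int.isCoprime_iff_gcd_eq_one.2 hab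
  refine ⟨g ^ (y * b), g ^ (x * a), Subgroup.zpow_mem_zpowers g _, Subgroup.zpow_mem_zpowers g _, ?_, ?_, ?_⟩
  · rw [← zpow_add, add_comm, hxy, zpow_one]
  · rw [← zpow_natCast, ← zpow_mul, show y * b * a = ((a * b : ℕ) : ℤ) * y by push_cast; ring,
      zpow_mul, zpow_natCast, hg, one_zpow]
  · rw [← zpow_natCast, ← zpow_mul, show x * a * b = ((a * b : ℕ) : ℤ) * x by push_cast; ring,
      zpow_mul, zpow_natCast, hg, one_zpow]

theorem exists_ppart [Finite G] (p : ℕ) [hp : Fact p.Prime] (g : G) :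
    ∃ u v : G, u ∈ Subgroup.zpowers g ∧ v ∈ Subgroup.zpowers g ∧ u * v = g ∧
      (∃ k : ℕ, orderOf u = p ^ k) ∧ (orderOf v).Coprime p := by
  obtain ⟨j, m, hm, hgm⟩ := Nat.exists_eq_pow_mul_and_not_dvd (orderOf_pos g).ne' p hp.out.ne_one
  have hco : (p ^ j).Coprime m := Nat.Coprime.pow_left j (hp.out.coprime_iff_not_dvd.2 hm)
  obtain ⟨u, v, hu, hv, huv, hua, hvb⟩ :=
    exists_split_of_coprime hco (hgm ▸ pow_orderOf_eq_one g)
  obtain ⟨k, -, hk⟩ := (Nat.dvd_prime_pow hp.out).1 (orderOf_dvd_of_pow_eq_one hua)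
  exact ⟨u, v, hu, hv, huv, ⟨k, hk⟩,
    Nat.Coprime.coprime_dvd_left (orderOf_dvd_of_pow_eq_one hvb)
      (hp.out.coprime_iff_not_dvd.2 hm).symm⟩

theorem isPGroup_zpowers {p k : ℕ} {u : G} (hu : orderOf u = p ^ k) :
    IsPGroup p (Subgroup.zpowers u) :=
  IsPGroup.of_card (n := k) (by rw [Nat.card_zpowers, hu])

theorem eq_top_of_forall_conj_mem [Finite G] (L : Subgroup G)
    (h : ∀ g : G, ∃ x : G, x * g * x⁻¹ ∈ L) : L = ⊤ := by
  classical
  have key : ∀ g : {g : G // g ≠ 1}, ∃ c : (G ⧸ L) × {l : L // l ≠ 1},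
      c.1.out * (c.2.1 : G) * c.1.out⁻¹ = g.1 := by
    intro g
    obtain ⟨x, hx⟩ := h g.1
    obtain ⟨k, hk⟩ := QuotientGroup.mk_out_eq_mul L x⁻¹
    set r := (QuotientGroup.mk x⁻¹ : G ⧸ L).out with hr
    have hm : r⁻¹ * g.1 * r ∈ L := by
      rw [hk, show (x⁻¹ * (k : G))⁻¹ * g.1 * (x⁻¹ * k) = (k : G)⁻¹ * (x * g.1 * x⁻¹) * k by group]
      exact mul_mem (mul_mem (inv_mem k.2) hx) k.2
    have hne : (⟨_, hm⟩ : L) ≠ 1 := fun e => g.2 (by
      have e' : r⁻¹ * g.1 * r = 1 := congrArg Subtype.val e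
      calc g.1 = r * (r⁻¹ * g.1 * r) * r⁻¹ := by group
        _ = 1 := by rw [e']; group)
    exact ⟨(QuotientGroup.mk x⁻¹, ⟨⟨_, hm⟩, hne⟩), by show r * (r⁻¹ * g.1 * r) * r⁻¹ = g.1; group⟩
  choose f hf using key
  have hinj : Function.Injective f := fun a b hab =>
    Subtype.ext (by rw [← hf a, ← hf b, hab])
  have h1 := Nat.card_le_card_of_injective f hinj
  have := Fintype.ofFinite G
  have := Fintype.ofFinite L
  rw [Nat.card_prod, ← Subgroup.index] at h1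
  have h2 : Nat.card {g : G // g ≠ 1} = Nat.card G - 1 := by simp [Fintype.card_subtype_compl]
  have h3 : Nat.card {l : L // l ≠ 1} = Nat.card L - 1 := by simp [Fintype.card_subtype_compl]
  rw [h2, h3, Nat.mul_sub, mul_one, mul_comm, L.card_mul_index] at h1
  rw [← Subgroup.index_eq_one]
  have h4 : L.index ≤ Nat.card G := Nat.le_of_dvd Nat.card_pos L.index_dvd_card
  have h5 : L.index ≠ 0 := Subgroup.index_ne_zero_of_finite
  omega

end Cfsg.Agent.Solv
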