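import Cfsg.Agent.Lib.Solv.Basic
import Cfsg.Agent.Lib.Char.Induction
import Cfsg.Agent.Lib.Char.Linear
import Cfsg.Prelude.Def_Solvable

/-!
Frobenius complements: the kernel count and Frobenius' theorem.
-/

set_option autoImplicit false

open scoped Pointwise ComplexConjugate

namespace Cfsg.Agent.Solv

open Cfsg

universe u

variable {G : Type u} [Group G]

theorem frob_normalizer_eq {H : Subgroup G} (hH : IsFrobeniusComplement H) :
    Subgroup.normalizer (H : Set G) = H := by
  refine le_antisymm (fun g hg => ?_) Subgroup.le_normalizer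
  by_contra hgH
  have := hH.2.2 g hgH
  rw [conj_smul_of_mem_normalizer hg, inf_idem] at this
  exact hH.1 this

theorem frob_conj_mem {H : Subgroup G} (hH : IsFrobeniusComplement H) {x a b : G} (hx : x ≠ 1)
    (ha : x ∈ MulAut.conj a • H) (hb : x ∈ MulAut.conj b • H) : a⁻¹ * b ∈ H := by
  by_contra h
  have h2 : a⁻¹ * x * a ∈ H ⊓ MulAut.conj (a⁻¹ * b) • H := by
    refine ⟨mem_conj_smul.1 ha, ?_⟩
    show a⁻¹ * x * a ∈ MulAut.conj (a⁻¹ * b) • H
    rw [mem_conj_smul]
    convert mem_conj_smul.1 hb using 1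
    group
  rw [hH.2.2 _ h, Subgroup.mem_bot] at h2
  exact hx (by simpa [mul_assoc] using congrArg (fun t => a * t * a⁻¹) h2)

theorem frob_kernel_card [Finite G] {H : Subgroup G} (hH : IsFrobeniusComplement H) :
    Nat.card (frobeniusKernel H) = H.index := by
  have hS : Nat.card ((frobeniusKernel H)ᶜ : Set G) = H.index * (Nat.card H - 1) := by
    have e : Nat.card ((G ⧸ H) × {h : H // h ≠ 1}) = Nat.card ((frobeniusKernel H)ᶜ : Set G) := by
      refine Nat.card_eq_of_bijective (fun z => ⟨z.1.out * ((z.2 : H) : G) * z.1.out⁻¹, ?_⟩) ⟨?_, ?_⟩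
      · intro h
        rcases h with h | h
        · refine z.2.2 (Subtype.ext ?_)
          have := congrArg (fun t => z.1.out⁻¹ * t * z.1.out) h
          simpa [mul_assoc] using this
        · refine h z.1.out (mem_conj_smul.2 ?_)
          simpa [mul_assoc] using ((z.2 : H)).2
      · rintro ⟨q, ⟨h, hh⟩⟩ ⟨q', ⟨h', hh'⟩⟩ e
        have e' : q.out * (h : G) * q.out⁻¹ = q'.out * (h' : G) * q'.out⁻¹ := congrArg Subtype.val e
        have hne : q.out * (h : G) * q.out⁻¹ ≠ 1 := fun e1 => hh (Subtype.ext (by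
          have := congrArg (fun t => q.out⁻¹ * t * q.out) e1
          simpa [mul_assoc] using this))
        have hm := frob_conj_mem hH hne (a := q.out) (b := q'.out)
          (mem_conj_smul.2 (by simpa [mul_assoc] using h.2))
          (by rw [e']; exact mem_conj_smul.2 (by simpa [mul_assoc] using h'.2))
        have hq : q = q' := by
          rw [← QuotientGroup.out_eq' q, ← QuotientGroup.out_eq' q']
          exact QuotientGroup.eq.2 hm
        subst hq
        have := congrArg (fun t => q.out⁻¹ * t * q.out) e'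
        simp [mul_assoc] at this
        subst this
        rfl
      · rintro ⟨x, hx⟩
        simp only [frobeniusKernel, Set.mem_compl_iff, Set.mem_setOf_eq, not_or, not_forall,
          not_not] at hx
        obtain ⟨hx1, g, hg⟩ := hx
        set a := ((g : G) : G ⧸ H).out with ha
        have hga : g⁻¹ * a ∈ H := by
          rw [← QuotientGroup.eq, ha, QuotientGroup.out_eq']
        have hxa : x ∈ MulAut.conj a • H := by
          rw [show a = g * (g⁻¹ * a) by group, ← conj_smul_conj,
            Subgroup.conj_smul_eq_self_of_mem hga]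
          exact hg
        refine ⟨⟨(g : G ⧸ H), ⟨⟨a⁻¹ * x * a, mem_conj_smul.1 hxa⟩, fun e => hx1 ?_⟩⟩, Subtype.ext ?_⟩
        · have e' : a⁻¹ * x * a = 1 := congrArg Subtype.val e
          simpa [mul_assoc] using congrArg (fun t => a * t * a⁻¹) e'
        · show a * (a⁻¹ * x * a) * a⁻¹ = x
          group
    rw [← e, Nat.card_prod, Subgroup.index_eq_card]
    congr 1
    have := Fintype.ofFinite H
    classical
    rw [Nat.card_eq_fintype_card, Nat.card_eq_fintype_card, Fintype.card_subtype_compl,
      Fintype.card_subtype_eq]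
  have h2 := Set.ncard_add_ncard_compl (frobeniusKernel H)
  rw [← Nat.card_coe_set_eq, ← Nat.card_coe_set_eq, hS, ← H.index_mul_card] at h2
  have hpos : 0 < Nat.card H := Nat.card_pos
  have h3 : H.index * (Nat.card H - 1) + H.index = H.index * Nat.card H := by
    rw [← Nat.mul_succ, Nat.succ_eq_add_one, Nat.sub_add_cancel hpos]
  omega

theorem frob_index_mod [Finite G] {H : Subgroup G} (hH : IsFrobeniusComplement H) :
    H.index % Nat.card H = 1 % Nat.card H := by
  classical
  have := Fintype.ofFinite H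
  have := Fintype.ofFinite (G ⧸ H)
  have := Fintype.ofFinite (MulAction.orbitRel.Quotient H (G ⧸ H))
  have hfix : ∀ h : H, h ≠ 1 → Fintype.card (MulAction.fixedBy (G ⧸ H) h) = 1 := by
    intro h hh
    rw [Fintype.card_eq_one_iff]
    have h1 : h • ((1 : G) : G ⧸ H) = ((1 : G) : G ⧸ H) := by
      show (((h : G) * 1 : G) : G ⧸ H) = _
      rw [mul_one, QuotientGroup.eq]
      simpa using h.2
    refine ⟨⟨((1 : G) : G ⧸ H), h1⟩, fun q => Subtype.ext ?_⟩
    obtain ⟨q, hq⟩ := q
    obtain ⟨g, rfl⟩ := QuotientGroup.mk_surjective q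
    have hq' : (((h : G) * g : G) : G ⧸ H) = (g : G ⧸ H) := hq
    rw [QuotientGroup.eq] at hq'
    have hm : (h : G) ∈ MulAut.conj g • H := by
      rw [mem_conj_smul]
      convert H.inv_mem hq' using 1
      group
    have := frob_conj_mem hH (fun e => hh (Subtype.ext e)) (a := (1 : G)) (b := g)
      (by rw [conj_one_smul]; exact h.2) hm
    exact (QuotientGroup.eq.2 this).symm
  have h := MulAction.sum_card_fixedBy_eq_card_orbits_mul_card_group H (G ⧸ H)
  rw [← Finset.add_sum_erase _ _ (Finset.mem_univ (1 : H)),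
    Finset.sum_congr rfl (fun h hm => hfix h (Finset.ne_of_mem_erase hm)), Finset.sum_const,
    Finset.card_erase_of_mem (Finset.mem_univ _), Finset.card_univ, smul_eq_mul, mul_one] at h
  have h1 : Fintype.card (MulAction.fixedBy (G ⧸ H) (1 : H)) = H.index := by
    rw [Subgroup.index_eq_card, ← Nat.card_eq_fintype_card]
    exact Nat.card_congr (Equiv.subtypeUnivEquiv fun q => one_smul H q)
  rw [h1, ← Nat.card_eq_fintype_card (α := H)] at h
  generalize Fintype.card (MulAction.orbitRel.Quotient H (G ⧸ H)) = o at h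
  have hpos : 0 < Nat.card H := Nat.card_pos
  have h4 : H.index + Nat.card H = o * Nat.card H + 1 := by omega
  have h5 := congrArg (· % Nat.card H) h4
  simpa [Nat.add_mod] using h5

/-- A virtual character of norm one with positive degree is irreducible. -/
theorem isIrr_of_virtual_norm_one [Fintype G] {a b : G → ℂ} (ha : IsCharacter G a)
    (hb : IsCharacter G b) (hn : classInner (a - b) (a - b) = 1) {d : ℕ} (hd : 0 < d)
    (h1 : (a - b) 1 = (d : ℂ)) : IsIrrCharacter G (a - b) := by
  classical
  obtain ⟨m, hm⟩ := Char.exists_decomposition ha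
  obtain ⟨n, hn'⟩ := Char.exists_decomposition hb
  set z : IrrCharacter G → ℤ := fun ψ => (m ψ : ℤ) - n ψ with hz
  have hc : ∀ ψ : IrrCharacter G, classInner (a - b) (ψ : G → ℂ) = (z ψ : ℂ) := by
    intro ψ
    rw [Char.classInner_sub_left, Char.decomposition_coeff m hm ψ, Char.decomposition_coeff n hn' ψ]
    simp [hz]
  have hexp : a - b = ∑ ψ : IrrCharacter G, (z ψ : ℂ) • (ψ : G → ℂ) := by
    have := Char.classFun_expansion (f := a - b) (fun g h => by
      simp [Char.isClassFunction_character ha g h, Char.isClassFunction_character hb g h])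
    simpa only [hc] using this
  have hsq : ∑ ψ, z ψ * z ψ = 1 := by
    have : classInner (a - b) (a - b) = ∑ ψ, (z ψ : ℂ) * z ψ := by
      conv_lhs => arg 2; rw [hexp]
      rw [Char.classInner_sum_right]
      refine Finset.sum_congr rfl fun ψ _ => ?_
      rw [Char.classInner_smul_right, hc]
      simp
    rw [hn] at this
    exact_mod_cast this.symm
  obtain ⟨ψ0, -, h0⟩ := Finset.exists_ne_zero_of_sum_ne_zero
    (hsq ▸ one_ne_zero : (∑ ψ, z ψ * z ψ) ≠ 0)
  rw [← Finset.add_sum_erase _ _ (Finset.mem_univ ψ0)] at hsq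
  have hnn : ∀ ψ ∈ Finset.univ.erase ψ0, 0 ≤ z ψ * z ψ := fun ψ _ => mul_self_nonneg _
  have hz0 : 1 ≤ z ψ0 * z ψ0 := by
    have := mul_self_nonneg (z ψ0); omega
  have hs0 := Finset.sum_nonneg hnn
  have hrest : ∀ ψ ∈ Finset.univ.erase ψ0, z ψ = 0 := fun ψ hψ =>
    mul_self_eq_zero.1 ((Finset.sum_eq_zero_iff_of_nonneg hnn).1 (by omega) ψ hψ)
  have hz1 : z ψ0 * z ψ0 = 1 := by omega
  have hexp' : a - b = (z ψ0 : ℂ) • (ψ0 : G → ℂ) := by
    rw [hexp, Finset.sum_eq_single ψ0 (fun ψ _ hne => by
      rw [hrest ψ (Finset.mem_erase.mpr ⟨hne, Finset.mem_univ _⟩), Int.cast_zero, zero_smul])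
      (by simp)]
  rcases mul_self_eq_one_iff.1 hz1 with h | h
  · rw [hexp', h, Int.cast_one, one_smul]; exact ψ0.2
  · exfalso
    rw [hexp', h, Pi.smul_apply, smul_eq_mul, Char.char_one_eq_deg (Char.irr_isCharacter ψ0.2)] at h1
    have h2 : (-1 : ℤ) * (Char.deg (ψ0 : G → ℂ) : ℤ) = (d : ℤ) := by exact_mod_cast h1
    omega

theorem indFun_frob [Fintype G] {H : Subgroup G} (hH : IsFrobeniusComplement H) (φ : H → ℂ)
    (hφ : IsClassFunction H φ) (h0 : φ 1 = 0) (h : H) : indFun H φ h = φ h := by
  classical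
  rcases eq_or_ne h 1 with rfl | hne
  · rw [OneMemClass.coe_one, Char.indFun_one, h0, mul_zero]
  rw [indFun]
  have : ∀ x : G, extendByZero H φ (x⁻¹ * (h : G) * x) = if x ∈ H then φ h else 0 := by
    intro x
    split_ifs with hx
    · have hm : x⁻¹ * (h : G) * x ∈ H := H.mul_mem (H.mul_mem (H.inv_mem hx) h.2) hx
      rw [Char.extendByZero_mem H φ hm]
      rw [← hφ h ⟨x⁻¹, H.inv_mem hx⟩]
      congr 1
      ext
      simp
    · refine Char.extendByZero_not_mem H φ fun hm => hx ?_
      have := frob_conj_mem hH (fun e => hne (Subtype.ext e)) (a := (1 : G)) (b := x)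
        (by rw [conj_one_smul]; exact h.2) (mem_conj_smul.2 hm)
      simpa using this
  simp only [this, Finset.sum_ite, Finset.sum_const_zero, add_zero, Finset.sum_const, nsmul_eq_mul]
  rw [← Fintype.card_subtype, ← Nat.card_eq_fintype_card, ← mul_assoc, inv_mul_cancel₀, one_mul]
  exact Nat.cast_ne_zero.mpr Nat.card_pos.ne'

theorem exists_extension [Fintype G] {H : Subgroup G} (hH : IsFrobeniusComplement H)
    (ψ : IrrCharacter H) : ∃ χ : G → ℂ, IsIrrCharacter G χ ∧ (∀ h : H, χ h = (ψ : H → ℂ) h) ∧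
      ∀ g : G, (∀ c : G, g ∉ MulAut.conj c • H) → χ g = χ 1 := by
  classical
  have := Fintype.ofFinite H
  by_cases hψ : (ψ : H → ℂ) = fun _ => 1
  · exact ⟨fun _ => 1, Char.isIrrCharacter_one, fun h => by rw [hψ], fun _ _ => rfl⟩
  set d := Char.deg (ψ : H → ℂ) with hd
  have hd1 : (ψ : H → ℂ) 1 = (d : ℂ) := Char.char_one_eq_deg (Char.irr_isCharacter ψ.2)
  let one : H → ℂ := fun _ => 1
  let oneG : G → ℂ := fun _ => 1
  set φ : H → ℂ := (ψ : H → ℂ) - (d : ℂ) • one with hφ
  have hφc : IsClassFunction H φ := fun g h => by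
    simp [hφ, one, Char.isClassFunction_character (Char.irr_isCharacter ψ.2) g h]
  have hφ0 : φ 1 = 0 := by simp [hφ, one, hd1]
  have hres : (fun h : H => indFun H φ h) = φ := funext fun h => indFun_frob hH φ hφc hφ0 h
  have hψ1 : classInner (ψ : H → ℂ) one = 0 := by
    rw [Char.irr_orth ψ.2 Char.isIrrCharacter_one, if_neg hψ]
  have h1ψ : classInner one (ψ : H → ℂ) = 0 := by
    rw [← Char.classInner_symm, hψ1, map_zero]
  have h11 : classInner one one = 1 := Char.irr_self Char.isIrrCharacter_one
  have hG11 : classInner oneG oneG = 1 := Char.irr_self Char.isIrrCharacter_one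
  have hφ1 : classInner φ one = -(d : ℂ) := by
    rw [hφ, Char.classInner_sub_left, Char.classInner_smul_left, hψ1, h11]; ring
  have hφφ : classInner φ φ = 1 + (d : ℂ) * d := by
    conv_lhs => arg 2; rw [hφ]
    rw [Char.classInner_sub_right, Char.classInner_smul_right, hφ1, hφ, Char.classInner_sub_left,
      Char.classInner_smul_left, Char.irr_self ψ.2, h1ψ, Complex.conj_natCast]
    ring
  have hI : classInner (indFun H φ) (indFun H φ) = 1 + (d : ℂ) * d := by
    rw [Char.frobenius H φ (Char.isClassFunction_indFun H φ), hres, hφφ]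
  have hIo : classInner (indFun H φ) oneG = -(d : ℂ) := by
    rw [Char.frobenius H φ (fun g h => rfl)]
    exact hφ1
  have hoI : classInner oneG (indFun H φ) = -(d : ℂ) := by
    rw [← Char.classInner_symm, hIo, map_neg, Complex.conj_natCast]
  set a : G → ℂ := indFun H (ψ : H → ℂ) + d • oneG
  set b : G → ℂ := indFun H (d • one)
  have hab : a - b = indFun H φ + (d : ℂ) • oneG := by
    simp only [a, b, hφ, ← Nat.cast_smul_eq_nsmul ℂ, Char.indFun_sub, Char.indFun_smul]
    abel
  refine ⟨a - b, isIrr_of_virtual_norm_one (d := d) ?_ ?_ ?_ ?_ ?_, fun h => ?_, fun g hg => ?_⟩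
  · exact Char.isCharacter_add (Char.isCharacter_indFun H (Char.irr_isCharacter ψ.2))
      (Char.isCharacter_nsmul Char.isCharacter_one d)
  · exact Char.isCharacter_indFun H (Char.isCharacter_nsmul Char.isCharacter_one d)
  · rw [hab, Char.classInner_add_left, Char.classInner_add_right, Char.classInner_add_right,
      Char.classInner_smul_left, Char.classInner_smul_right, Char.classInner_smul_left,
      Char.classInner_smul_right, hI, hIo, hoI, hG11, Complex.conj_natCast]
    ring
  · exact Char.deg_pos ψ.2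
  · rw [hab, Pi.add_apply, Char.indFun_one, hφ0]; simp [oneG]
  · rw [hab, Pi.add_apply, indFun_frob hH φ hφc hφ0]
    simp [hφ, one, oneG]
  · have hz : indFun H φ g = 0 := by
      rw [indFun, Finset.sum_eq_zero, mul_zero]
      intro x _
      exact Char.extendByZero_not_mem H φ fun hm => hg x (mem_conj_smul.2 hm)
    rw [hab, Pi.add_apply, Pi.add_apply, hz, Char.indFun_one, hφ0]
    simp [oneG]

theorem exists_char_kernel [Finite G] {χ : G → ℂ} (h : IsIrrCharacter G χ) :
    ∃ N : Subgroup G, N.Normal ∧ ∀ g, g ∈ N ↔ χ g = χ 1 := by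
  obtain ⟨n, ρ, -, rfl⟩ := h
  refine ⟨ρ.ker, inferInstance, fun g => ?_⟩
  rw [Representation.char_one, Char.eq_id_iff ρ g, MonoidHom.mem_ker, Module.End.one_eq_id]

/-- Frobenius' theorem. -/
theorem frobenius_theorem [Finite G] {H : Subgroup G} (hH : IsFrobeniusComplement H) :
    ∃ N : Subgroup G, (N : Set G) = frobeniusKernel H ∧ N.Normal ∧ Subgroup.IsComplement' N H := by
  classical
  have := Fintype.ofFinite G
  have := Fintype.ofFinite H
  choose χ hχ hχH hχK using fun ψ : IrrCharacter H => exists_extension hH ψ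
  choose M hMn hM using fun ψ : IrrCharacter H => exists_char_kernel (hχ ψ)
  set N : Subgroup G := ⨅ ψ, M ψ with hN
  have hNn : N.Normal := Subgroup.normal_iInf_normal hMn
  have hmem : (N : Set G) = frobeniusKernel H := by
    ext g
    rw [SetLike.mem_coe, hN, Subgroup.mem_iInf]
    constructor
    · intro hg
      by_contra hc
      simp only [frobeniusKernel, Set.mem_setOf_eq, not_or, not_forall, not_not] at hc
      obtain ⟨hg1, c, hc⟩ := hc
      have hh := mem_conj_smul.1 hc
      set h : H := ⟨c⁻¹ * g * c, hh⟩ with hhdef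
      have key : ∀ ψ : IrrCharacter H, (ψ : H → ℂ) h = (ψ : H → ℂ) 1 := by
        intro ψ
        have hcl := Char.isClassFunction_character (Char.irr_isCharacter (hχ ψ)) g c⁻¹
        rw [inv_inv] at hcl
        rw [← hχH, ← hχH, OneMemClass.coe_one]
        exact hcl.trans ((hM ψ g).1 (hg ψ))
      have hh1 : h ≠ 1 := fun e => hg1 (by
        have e' : c⁻¹ * g * c = 1 := congrArg Subtype.val e
        simpa [mul_assoc] using congrArg (fun t => c * t * c⁻¹) e')
      have hreg := Char.regular_sum h
      rw [if_neg hh1, Finset.sum_congr rfl fun ψ _ => by rw [key ψ, ← pow_two],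
        Char.sum_sq_deg] at hreg
      exact Nat.card_pos.ne' (Nat.cast_eq_zero.1 hreg)
    · rintro (rfl | hg) ψ
      · exact (M ψ).one_mem
      · exact (hM ψ g).2 (hχK ψ g hg)
  refine ⟨N, hmem, hNn, Subgroup.isComplement'_of_disjoint_and_mul_eq_univ ?_ ?_⟩
  · rw [Subgroup.disjoint_def]
    intro x hxN hxH
    have hx : x ∈ frobeniusKernel H := hmem ▸ hxN
    rcases hx with rfl | hx
    · rfl
    · exact absurd (by rw [conj_one_smul]; exact hxH) (hx 1)
  · have hinf : N ⊓ H = ⊥ := by
      rw [eq_bot_iff]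
      rintro x ⟨hxN, hxH⟩
      have hx : x ∈ frobeniusKernel H := hmem ▸ hxN
      rcases hx with rfl | hx
      · exact Subgroup.one_mem _
      · exact absurd (by rw [conj_one_smul]; exact hxH) (hx 1)
    rw [← Subgroup.normal_mul, ← Subgroup.coe_top, SetLike.coe_set_eq]
    refine Subgroup.eq_top_of_card_eq _ ?_
    rw [card_sup_of_inf_eq_bot N H hinf, show Nat.card N = H.index by
      rw [← frob_kernel_card hH, ← hmem]; rfl, H.index_mul_card]

end Cfsg.Agent.Solv
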