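import Cfsg.Agent.Lib.Solv.FrobeniusConj
import Cfsg.Agent.Lib.Solv.FPF

/-!
Frobenius complements act fixed-point-freely on an abelian group, hence are not Frobenius groups.
-/

set_option autoImplicit false

open scoped Pointwise

namespace Cfsg.Agent.Solv

open Cfsg

universe u

variable {G : Type u} [Group G]

theorem frob_coprime [Finite G] {H : Subgroup G} (hH : IsFrobeniusComplement H) :
    (Nat.card H).Coprime H.index := by
  refine Nat.coprime_of_dvd fun q hq hqH hqi => ?_
  have h := frob_index_mod hH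
  have h1 : H.index % q = 1 % q := by
    rw [← Nat.mod_mod_of_dvd H.index hqH, h, Nat.mod_mod_of_dvd 1 hqH]
  rw [Nat.mod_eq_zero_of_dvd hqi, Nat.one_mod_eq_one.2 hq.ne_one] at h1 <;> omega

theorem frob_fpf [Finite G] {H : Subgroup G} (hH : IsFrobeniusComplement H) {N : Subgroup G}
    (hNH : N ⊓ H = ⊥) {h : G} (hh : h ∈ H) (h1 : h ≠ 1) : N ⊓ Subgroup.centralizer {h} = ⊥ := by
  rw [eq_bot_iff]
  rintro v ⟨hv, hvc⟩
  have hm : h ∈ MulAut.conj v • H := by
    rw [mem_conj_smul]
    have := Subgroup.mem_centralizer_singleton_iff.1 hvc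
    rwa [mul_assoc, ← this, inv_mul_cancel_left]
  have hvH := frob_conj_mem hH h1 (a := (1 : G)) (b := v) (by rw [conj_one_smul]; exact hh) hm
  rw [← hNH]
  exact ⟨hv, by simpa using hvH⟩

/-- Some conjugate of a Frobenius complement normalises a nontrivial abelian subgroup and acts
fixed-point-freely on it. -/
theorem frob_exists_fpf [Finite G] {H : Subgroup G} (hH : IsFrobeniusComplement H) :
    ∃ (V : Subgroup G) (a : G), V ≠ ⊥ ∧ IsMulCommutative V ∧
      MulAut.conj a • H ≤ Subgroup.normalizer (V : Set G) ∧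
      ∀ h ∈ MulAut.conj a • H, h ≠ 1 → V ⊓ Subgroup.centralizer {h} = ⊥ := by
  obtain ⟨N, hN, hNn, hNc⟩ := frobenius_theorem hH
  have hNcard : Nat.card N = H.index := (hNc.index_eq_card (H := N)).symm
  have hNidx : N.index = Nat.card H := hNc.symm.index_eq_card
  obtain ⟨p, hp, hpd⟩ := Nat.exists_prime_and_dvd
    (show Nat.card N ≠ 1 by rw [hNcard, Ne, Subgroup.index_eq_one]; exact hH.2.1)
  have := Fact.mk hp
  obtain ⟨P⟩ : Nonempty (Sylow p N) := inferInstance
  set P' := (P : Subgroup N).map N.subtype with hP'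
  set M := Subgroup.normalizer (P' : Set G) with hM
  have hMN : M ⊔ N = ⊤ := Sylow.normalizer_sup_eq_top P
  have hidx : (N.subgroupOf M).index = Nat.card H := by
    show N.relIndex M = _
    rw [← Subgroup.relIndex_sup_right, hMN, Subgroup.relIndex_top_right, hNidx]
  obtain ⟨C, hC⟩ := Subgroup.exists_right_complement'_of_coprime (N := N.subgroupOf M) (by
    rw [hidx]
    refine Nat.Coprime.coprime_dvd_left ?_ (frob_coprime hH).symm
    rw [← card_map_subtype (N.subgroupOf M), Subgroup.subgroupOf_map_subtype, ← hNcard]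
    exact Subgroup.card_dvd_of_le inf_le_left)
  set C' := C.map M.subtype
  have hC'c : Nat.card C' = Nat.card H := by
    rw [card_map_subtype, ← hidx, ← hC.symm.index_eq_card]
  have hCN : C' ⊓ N = ⊥ := coprime_inf (by
    rw [hC'c, hNcard]; exact frob_coprime hH)
  obtain ⟨a, ha⟩ := frob_le_conj hH C' fun x hx hx1 => by
    by_contra hno
    push Not at hno
    refine hx1 (Subgroup.mem_bot.1 (hCN ▸ ⟨hx, ?_⟩))
    show x ∈ (N : Set G)
    rw [hN]; exact Or.inr hno
  have heq : C' = MulAut.conj a • H :=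
    Subgroup.eq_of_le_of_card_ge ha (by rw [card_conj_smul, hC'c])
  have haM : MulAut.conj a • H ≤ M := heq ▸ Subgroup.map_subtype_le C
  refine ⟨P' ⊓ Subgroup.centralizer (P' : Set G), a, ?_, ?_, fun h hh => ?_, fun h hh h1 => ?_⟩
  · have hPb : Nontrivial P := by
      rw [← Finite.one_lt_card_iff_nontrivial, P.card_eq_multiplicity]
      exact Nat.one_lt_pow (hp.factorization_pos_of_dvd Nat.card_pos.ne' hpd).ne' hp.one_lt
    have : Nontrivial (Subgroup.center P) := P.isPGroup'.center_nontrivial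
    obtain ⟨⟨z, hz⟩, hz1⟩ := exists_ne (1 : Subgroup.center P)
    intro hb
    have : ((z : N) : G) ∈ P' ⊓ Subgroup.centralizer (P' : Set G) := by
      refine ⟨⟨z, z.2, rfl⟩, Subgroup.mem_centralizer_iff.2 ?_⟩
      rintro _ ⟨y, hy, rfl⟩
      exact congrArg (fun t : P => ((t : N) : G)) (Subgroup.mem_center_iff.1 hz ⟨y, hy⟩)
    rw [hb, Subgroup.mem_bot] at this
    exact hz1 (Subtype.ext (Subtype.ext (Subtype.ext this)))
  · exact ⟨⟨fun x y => Subtype.ext (Subgroup.mem_centralizer_iff.1 y.2.2 x x.2.1)⟩⟩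
  · refine mem_normalizer_of_conj_smul ?_
    rw [Subgroup.smul_inf, conj_smul_of_mem_normalizer (haM hh)]
    congr 1
    ext t
    rw [mem_conj_smul]
    have hn : ∀ y : G, y ∈ P' ↔ h * y * h⁻¹ ∈ P' := Subgroup.mem_normalizer_iff.1 (haM hh)
    simp only [Subgroup.mem_centralizer_iff, SetLike.mem_coe]
    constructor
    · intro ht y hy
      have h2 := ht (h⁻¹ * y * h) ((hn _).2 (by simpa [mul_assoc] using hy))
      simpa [mul_assoc] using congrArg (fun s => h * s * h⁻¹) h2
    · intro ht y hy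
      have h2 := ht (h * y * h⁻¹) ((hn y).1 hy)
      simpa [mul_assoc] using congrArg (fun s => h⁻¹ * s * h) h2
  · rw [eq_bot_iff, ← frob_fpf (frob_conj hH a) (N := N) ?_ hh h1]
    · exact inf_le_inf_right _ (inf_le_left.trans (Subgroup.map_subtype_le _))
    · rw [← heq, inf_comm, hCN]

/-- A group acting fixed-point-freely on a nontrivial abelian group is not a Frobenius group. -/
theorem fpf_not_frobenius [Finite G] {A V : Subgroup G} [IsMulCommutative V] (hV : V ≠ ⊥)
    (hAV : A ≤ Subgroup.normalizer (V : Set G))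
    (hfpf : ∀ a ∈ A, a ≠ 1 → V ⊓ Subgroup.centralizer {a} = ⊥)
    (D : Subgroup A) : ¬ IsFrobeniusComplement D := by
  classical
  intro hD
  obtain ⟨N, hN, hNn, hNc⟩ := frobenius_theorem hD
  have := Fintype.ofFinite (A ⧸ D)
  have hND : ∀ x : A, x ≠ 1 → x ∈ N → ∀ g : A, x ∉ MulAut.conj g • D := by
    intro x hx hxN
    have hx' : x ∈ frobeniusKernel D := hN ▸ hxN
    rcases hx' with h | h
    · exact absurd h hx
    · exact h
  let K : Option (A ⧸ D) → Subgroup G := fun o =>
    match o with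
    | none => N.map A.subtype
    | some q => (MulAut.conj q.out • D).map A.subtype
  have hNne : N ≠ ⊥ := by
    rintro rfl
    exact hD.2.1 (Subgroup.isComplement'_bot_left.1 hNc)
  refine fpf_partition_false hV hAV hfpf K ?_ ?_ ?_ ?_ D.index ?_ ?_
  · rintro (_ | q) <;> exact Subgroup.map_subtype_le _
  · rintro (_ | q) h
    · exact hNne ((Subgroup.map_eq_bot_iff_of_injective _ A.subtype_injective).1 h)
    · exact (frob_conj hD q.out).1 ((Subgroup.map_eq_bot_iff_of_injective _ A.subtype_injective).1 h)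
  · intro a ha ha1
    set x : A := ⟨a, ha⟩
    have hx1 : x ≠ 1 := fun e => ha1 (congrArg Subtype.val e)
    have hmem : ∀ S : Subgroup A, a ∈ S.map A.subtype ↔ x ∈ S := fun S =>
      ⟨fun ⟨y, hy, hya⟩ => (show y = x from Subtype.ext hya) ▸ hy, fun h => ⟨x, h, rfl⟩⟩
    by_cases hxN : x ∈ N
    · refine ⟨none, (hmem N).2 hxN, ?_⟩
      rintro (_ | q) hq
      · rfl
      · exact absurd ((hmem _).1 hq) (hND x hx1 hxN q.out)
    · have hx' : x ∉ frobeniusKernel D := hN ▸ hxN
      simp only [frobeniusKernel, Set.mem_setOf_eq, not_or, not_forall, not_not] at hx'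
      obtain ⟨-, g, hg⟩ := hx'
      have hout : MulAut.conj ((g : A ⧸ D)).out • D = MulAut.conj g • D := by
        have h2 : g⁻¹ * ((g : A ⧸ D)).out ∈ D := by rw [← QuotientGroup.eq, QuotientGroup.out_eq']
        rw [show ((g : A ⧸ D)).out = g * (g⁻¹ * ((g : A ⧸ D)).out) by group, ← conj_smul_conj,
          Subgroup.conj_smul_eq_self_of_mem h2]
      refine ⟨some (g : A ⧸ D), (hmem _).2 (by rw [hout]; exact hg), ?_⟩
      rintro (_ | q) hq
      · exact absurd ((hmem N).1 hq) hxN
      · have h3 := frob_conj_mem hD hx1 hg ((hmem _).1 hq)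
        rw [← QuotientGroup.eq, QuotientGroup.out_eq'] at h3
        exact congrArg some h3.symm
  · intro h
    exact hD.1 (eq_bot_iff.2 fun x _ => Subgroup.mem_bot.2 (Subtype.ext (Subgroup.mem_bot.1 (h.le x.2))))
  · rw [Fintype.card_option, Subgroup.index_eq_card, Nat.card_eq_fintype_card]
  · exact fun q _ hqd => hqd.trans D.index_dvd_card

end Cfsg.Agent.Solv
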