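import Cfsg.Agent.Lib.Solv.Hall
import Cfsg.Agent.Lib.Solv.Basic
import Cfsg.Agent.Lib.Solv.FrobeniusFPF

/-!
Lucido's three primes lemma.
-/

set_option autoImplicit false
set_option linter.style.haveILetI false

open scoped Pointwise
open Cfsg

namespace Cfsg.Agent.Solv

universe u

/-- No element of order a product of two of the primes. -/
def Apart (G : Type u) [Group G] (σ : Finset ℕ) : Prop :=
  ∀ a ∈ σ, ∀ b ∈ σ, a ≠ b → ∀ g : G, orderOf g ≠ a * b

theorem Apart.of_injective {G : Type u} [Group G] {σ : Finset ℕ} {H : Type u} [Group H] (h : Apart G σ)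
    (f : H →* G) (hf : Function.Injective f) : Apart H σ :=
  fun a ha b hb hab x hx => h a ha b hb hab (f x) (by rw [orderOf_injective f hf, hx])

theorem apart_not_commute {G : Type u} [Group G] {σ : Finset ℕ} (h : Apart G σ) {a b : ℕ} (ha : a ∈ σ)
    (hb : b ∈ σ) (hab : a ≠ b) (hap : a.Prime) (hbp : b.Prime) {x y : G} (hx : orderOf x = a)
    (hy : orderOf y = b) (hc : Commute x y) : False := by
  refine h a ha b hb hab (x * y) ?_
  rw [hc.orderOf_mul_eq_mul_orderOf_of_coprime (by rw [hx, hy]; exact (Nat.coprime_primes hap hbp).2 hab),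
    hx, hy]

/-- A solvable group acting fixed-point-freely has an element of order `s t` for any two primes `s`,
`t` dividing its order. -/
theorem fpf_not_apart {G : Type u} [Group G] [Finite G] {A V : Subgroup G} [IsMulCommutative V]
    (hA : Group.IsSolvable A) (hV : V ≠ ⊥) (hAV : A ≤ Subgroup.normalizer (V : Set G))
    (hfpf : ∀ a ∈ A, a ≠ 1 → V ⊓ Subgroup.centralizer {a} = ⊥) {s t : ℕ} (hs : s.Prime) (ht : t.Prime)
    (hst : s ≠ t) (hcard : ∀ r : ℕ, r.Prime → r ∣ Nat.card A → r = s ∨ r = t)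
    (hsA : s ∣ Nat.card A) (htA : t ∣ Nat.card A) : ¬ Apart G {s, t} := by
  intro hap
  haveI := Fact.mk hs
  haveI := Fact.mk ht
  haveI : Nontrivial A := by
    rw [← Finite.one_lt_card_iff_nontrivial]
    exact lt_of_lt_of_le hs.one_lt (Nat.le_of_dvd Nat.card_pos hsA)
  obtain ⟨M₀, hM₀n, hM₀ne, hM₀min⟩ := exists_minimal_normal (G := A)
  haveI := hM₀n
  haveI := hA
  obtain ⟨-, q, hq, hM₀el⟩ := minimal_normal_elementaryAbelian M₀ inferInstance hM₀ne hM₀min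
  haveI := Fact.mk hq
  obtain ⟨⟨m, hm⟩, hm1⟩ := Subgroup.ne_bot_iff_exists_ne_one.1 hM₀ne
  have hmq : orderOf m = q := orderOf_eq_prime (hM₀el.1 m hm) fun e => hm1 (Subtype.ext e)
  have hq' := hcard q hq (hmq ▸ orderOf_dvd_natCard m)
  obtain ⟨r, hr, hqr, hrA, hrσ, hqσ⟩ : ∃ r, r.Prime ∧ q ≠ r ∧ r ∣ Nat.card A ∧
      r ∈ ({s, t} : Finset ℕ) ∧ q ∈ ({s, t} : Finset ℕ) := by
    rcases hq' with rfl | rfl
    · exact ⟨t, ht, hst, htA, by simp, by simp⟩
    · exact ⟨s, hs, hst.symm, hsA, by simp, by simp⟩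
  haveI := Fact.mk hr
  obtain ⟨y, hy⟩ := exists_prime_orderOf_dvd_card' r hrA
  have hapA : Apart A {s, t} := hap.of_injective A.subtype A.subtype_injective
  have hno : ∀ x ∈ M₀, x ≠ 1 → ¬ Commute x y := fun x hx hx1 hc =>
    apart_not_commute hapA hqσ hrσ hqr hq hr (orderOf_eq_prime (hM₀el.1 x hx) hx1) hy hc
  obtain ⟨B, hB⟩ : ∃ B, B = M₀ ⊔ Subgroup.zpowers y := ⟨_, rfl⟩
  obtain ⟨D, hD⟩ : ∃ D, D = (Subgroup.zpowers y).subgroupOf B := ⟨_, rfl⟩
  have hyB : y ∈ B := hB ▸ Subgroup.mem_sup_right (Subgroup.mem_zpowers y)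
  have hMY : M₀ ⊓ Subgroup.zpowers y = ⊥ := by
    refine coprime_inf ?_
    obtain ⟨k, hk⟩ : ∃ k, Nat.card M₀ = q ^ k := hM₀el.2.exists_card_eq
    rw [hk, Nat.card_zpowers, hy]
    exact Nat.Coprime.pow_left k ((Nat.coprime_primes hq hr).2 hqr)
  have hFC : IsFrobeniusComplement D := by
    refine ⟨?_, ?_, ?_⟩
    · intro h
      have h1 : (⟨y, hyB⟩ : B) ∈ D := hD ▸ Subgroup.mem_zpowers y
      rw [h, Subgroup.mem_bot] at h1
      rw [show y = 1 from congrArg Subtype.val h1, orderOf_one] at hy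
      exact hr.one_lt.ne hy
    · intro h
      have h1 : (⟨m, hB ▸ Subgroup.mem_sup_left hm⟩ : B) ∈ D := h ▸ Subgroup.mem_top _
      rw [hD] at h1
      exact hm1 (Subtype.ext ((Subgroup.eq_bot_iff_forall _).1 hMY m ⟨hm, h1⟩))
    · rintro ⟨g, hg⟩ hgD
      rw [Subgroup.eq_bot_iff_forall]
      rintro ⟨x, hxB⟩ ⟨hx, hx'⟩
      by_contra hx1
      rw [hD] at hx hx'
      obtain ⟨⟨d, hdB⟩, hd, hdx⟩ := hx'
      have hd' : g * d * g⁻¹ = x := congrArg Subtype.val hdx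
      replace hd : d ∈ Subgroup.zpowers y := hd
      have hz : Subgroup.zpowers x = Subgroup.zpowers y := by
        refine Subgroup.eq_of_le_of_card_ge (Subgroup.zpowers_le.2 hx) ?_
        rw [Nat.card_zpowers, Nat.card_zpowers, hy, orderOf_eq_prime
          (orderOf_dvd_iff_pow_eq_one.1 (hy ▸ orderOf_dvd_of_mem_zpowers hx))
          fun e => hx1 (Subtype.ext e)]
      have hgm := hB ▸ hg
      obtain ⟨u, hu, v, hv, rfl⟩ := Subgroup.mem_sup_of_normal_left.1 hgm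
      have hu1 : u ≠ 1 := by
        rintro rfl
        exact hgD (hD ▸ (show (1 : A) * v ∈ Subgroup.zpowers y by rw [one_mul]; exact hv))
      refine hno u hu hu1 ?_
      obtain ⟨i, rfl⟩ := Subgroup.mem_zpowers_iff.1 hv
      obtain ⟨j, rfl⟩ := Subgroup.mem_zpowers_iff.1 hd
      have hx2 : u * y ^ j * u⁻¹ = x := by rw [← hd']; group
      have hxmem : u * y ^ j * u⁻¹ * (y ^ j)⁻¹ ∈ M₀ ⊓ Subgroup.zpowers y := by
        refine ⟨?_, ?_⟩
        · rw [show u * y ^ j * u⁻¹ * (y ^ j)⁻¹ = u * (y ^ j * u⁻¹ * (y ^ j)⁻¹) by group]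
          exact M₀.mul_mem hu (Subgroup.Normal.conj_mem inferInstance _ (M₀.inv_mem hu) _)
        · rw [hx2]
          exact (Subgroup.zpowers y).mul_mem hx ((Subgroup.zpowers y).inv_mem (zpow_mem (Subgroup.mem_zpowers y) j))
      rw [hMY, Subgroup.mem_bot, mul_inv_eq_one] at hxmem
      have hc : Commute u (y ^ j) := mul_inv_eq_iff_eq_mul.1 hxmem
      rw [← hx2, hxmem] at hz
      obtain ⟨l, hl⟩ := Subgroup.mem_zpowers_iff.1 (hz.ge (Subgroup.mem_zpowers y))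
      rw [← hl]
      exact hc.zpow_right l
  obtain ⟨B', hB'⟩ : ∃ B', B' = B.map A.subtype := ⟨_, rfl⟩
  have hle : B' ≤ A := hB' ▸ Subgroup.map_subtype_le B
  let e := (B.equivMapOfInjective A.subtype A.subtype_injective).trans (MulEquiv.subgroupCongr hB'.symm)
  refine fpf_not_frobenius hV (hle.trans hAV) (fun a ha h1 => hfpf a (hle ha) h1) (D.map e.toMonoidHom) ?_
  obtain ⟨h1, h2, h3⟩ := hFC
  refine ⟨fun h => h1 ((Subgroup.map_eq_bot_iff_of_injective _ e.injective).1 h), fun h => h2 ?_, fun g hg => ?_⟩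
  · rw [← Subgroup.map_top_of_surjective e.toMonoidHom e.surjective] at h
    exact Subgroup.map_injective e.injective h
  · obtain ⟨g, rfl⟩ := e.surjective g
    have hgD : g ∉ D := fun h => hg ⟨g, h, rfl⟩
    rw [Subgroup.eq_bot_iff_forall]
    rintro _ ⟨⟨x, hx, rfl⟩, hx'⟩
    obtain ⟨_, ⟨d, hd, rfl⟩, hdx⟩ := hx'
    have hdx' : g * d * g⁻¹ = x := e.injective (by
      rw [map_mul, map_mul, map_inv]; exact hdx)
    have := (Subgroup.eq_bot_iff_forall _).1 (h3 g hgD) x ⟨hx, d, hd, hdx'⟩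
    rw [this]; exact map_one e

/-- Lucido's three primes lemma. -/
theorem not_solvable_of_three_apart {G : Type u} [Group G] [Finite G] {σ : Finset ℕ} (hσ : σ.card = 3)
    (hprime : ∀ a ∈ σ, a.Prime) (hdvd : ∀ a ∈ σ, a ∣ Nat.card G) (hap : Apart G σ) :
    ¬ Group.IsSolvable G := by
  classical
  intro hG
  obtain ⟨m, n, hmn, hco, hm, hn⟩ := exists_pi_split {q | q ∈ σ} (Nat.card G) Nat.card_pos.ne'
  obtain ⟨H, hH⟩ := hall_exists hG hmn hco
  haveI := hG
  have hσH : ∀ a ∈ σ, a ∣ Nat.card H := fun a ha => by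
    rw [hH]
    rcases (hprime a ha).dvd_mul.1 (hmn ▸ hdvd a ha) with h | h
    · exact h
    · exact absurd ha (hn a (hprime a ha) h)
  obtain ⟨a₀, ha₀⟩ := Finset.card_pos.1 (hσ ▸ by norm_num : 0 < σ.card)
  haveI : Nontrivial H := by
    rw [← Finite.one_lt_card_iff_nontrivial]
    exact lt_of_lt_of_le (hprime a₀ ha₀).one_lt (Nat.le_of_dvd Nat.card_pos (hσH a₀ ha₀))
  obtain ⟨N, hNn, hNne, hNmin⟩ := exists_minimal_normal (G := H)
  haveI := hNn
  obtain ⟨hNc, q, hq, hNel⟩ := minimal_normal_elementaryAbelian N inferInstance hNne hNmin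
  haveI := Fact.mk hq
  haveI := hNc
  obtain ⟨⟨v, hv⟩, hv1⟩ := Subgroup.ne_bot_iff_exists_ne_one.1 hNne
  have hvq : orderOf v = q := orderOf_eq_prime (hNel.1 v hv) fun e => hv1 (Subtype.ext e)
  have hHσ : ∀ r : ℕ, r.Prime → r ∣ Nat.card H → r ∈ σ := fun r hr hrd => hm r hr (hH ▸ hrd)
  have hqσ : q ∈ σ := hHσ q hq (hvq ▸ orderOf_dvd_natCard v)
  obtain ⟨s, t, hst, hτ⟩ := Finset.card_eq_two.1
    (show (σ.erase q).card = 2 by rw [Finset.card_erase_of_mem hqσ, hσ])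
  have hsσ : s ≠ q ∧ s ∈ σ := Finset.mem_erase.1 (hτ ▸ by simp : s ∈ σ.erase q)
  have htσ : t ≠ q ∧ t ∈ σ := Finset.mem_erase.1 (hτ ▸ by simp : t ∈ σ.erase q)
  obtain ⟨m', n', hmn', hco', hm', hn'⟩ := exists_pi_split {r | r ∈ σ.erase q} (Nat.card H) Nat.card_pos.ne'
  obtain ⟨K, hK⟩ := hall_exists (inferInstance : Group.IsSolvable H) hmn' hco'
  have hdK : ∀ r ∈ σ, r ≠ q → r ∣ Nat.card K := fun r hr hrq => by
    rw [hK]
    rcases (hprime r hr).dvd_mul.1 (hmn' ▸ hσH r hr) with h | h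
    · exact h
    · exact absurd (Finset.mem_erase.2 ⟨hrq, hr⟩) (hn' r (hprime r hr) h)
  have hKσ : ∀ r : ℕ, r.Prime → r ∣ Nat.card K → r = s ∨ r = t := fun r hr hrd => by
    have h1 : r ∈ σ.erase q := hm' r hr (hK ▸ hrd)
    rw [hτ] at h1
    simpa using h1
  have hapH : Apart H σ := hap.of_injective H.subtype H.subtype_injective
  refine fpf_not_apart (A := K) (V := N) inferInstance hNne
    (by rw [Subgroup.normalizer_eq_top]; exact le_top) (fun k hk hk1 => ?_)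
    (hprime s hsσ.2) (hprime t htσ.2) hst hKσ (hdK s hsσ.2 hsσ.1) (hdK t htσ.2 htσ.1) ?_
  · rw [Subgroup.eq_bot_iff_forall]
    rintro w ⟨hw, hwk⟩
    by_contra hw1
    obtain ⟨r, hr, hrd⟩ := Nat.exists_prime_and_dvd (fun h => hk1 (orderOf_eq_one_iff.1 h))
    have hrK : r ∣ Nat.card K := hrd.trans ((Subgroup.orderOf_mk k hk).symm ▸ orderOf_dvd_natCard _)
    have hrσ : r ∈ σ.erase q := hm' r hr (hK ▸ hrK)
    exact apart_not_commute hapH hqσ (Finset.mem_erase.1 hrσ).2 (Finset.mem_erase.1 hrσ).1.symm hq hr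
      (orderOf_eq_prime (hNel.1 w hw) hw1) (orderOf_pow_orderOf_div (orderOf_pos k).ne' hrd)
      (Commute.pow_right (Subgroup.mem_centralizer_singleton_iff.1 hwk) _)
  · intro a ha b hb
    have hsub : ∀ c ∈ ({s, t} : Finset ℕ), c ∈ σ := by simp [hsσ.2, htσ.2]
    exact hapH a (hsub a ha) b (hsub b hb)

end Cfsg.Agent.Solv
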