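import Cfsg.Agent.Lib.Solv.FPF
import Cfsg.Agent.Lib.Solv.Kulakoff
import Cfsg.Agent.Lib.Solv.Cores
import Cfsg.Agent.Lib.Solv.ThreePrimeLemma
import Cfsg.Agent.Lib.Perm.CharSimple
import Cfsg.Agent.Lib.Fusion.Cores

/-!
Finite groups in which every element has prime power order: the solvable radical and the socle.
-/

set_option autoImplicit false
set_option linter.style.haveILetI false
set_option linter.unusedSectionVars false

namespace Cfsg.Agent.Solv.EPPO

open Cfsg

universe u

variable {G : Type u} [Group G] [Finite G]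

theorem card_ne_one_eq (α : Type*) [Group α] [Finite α] :
    Nat.card {a : α // a ≠ 1} = Nat.card α - 1 := by
  classical
  haveI := Fintype.ofFinite α
  show Nat.card {a : α // ¬ a = 1} = _
  rw [Nat.card_eq_fintype_card, Nat.card_eq_fintype_card, Fintype.card_subtype_compl, Fintype.card_subtype_eq]

/-- An elementary abelian group acting fixed-point-freely on a nontrivial abelian group is cyclic. -/
theorem elementary_fpf_card_le {q : ℕ} [Fact q.Prime] {E V : Subgroup G} [IsMulCommutative V]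
    (hV : V ≠ ⊥) (hexp : ∀ x ∈ E, x ^ q = 1) (hEV : E ≤ Subgroup.normalizer (V : Set G))
    (hfpf : ∀ x ∈ E, x ≠ 1 → V ⊓ Subgroup.centralizer {x} = ⊥) : Nat.card E ≤ q := by
  classical
  have hq : q.Prime := Fact.out
  have hEp : IsPGroup q E := fun x => ⟨1, Subtype.ext (by
    rw [pow_one, SubmonoidClass.coe_pow]; exact hexp x x.2)⟩
  obtain ⟨k, hk⟩ := IsPGroup.iff_card.1 hEp
  by_contra hgt
  have h2 : 2 ≤ k := by
    by_contra hk2
    interval_cases k <;> rw [hk] at hgt <;> norm_num at hgt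
    exact hq.ne_zero hgt
  obtain ⟨K₀, hK₀⟩ := Sylow.exists_subgroup_card_pow_prime (G := E) q (n := 2)
    (by rw [hk]; exact Nat.pow_dvd_pow q h2)
  set A := K₀.map E.subtype with hA
  have hAE : A ≤ E := Subgroup.map_subtype_le _
  have hAc : Nat.card A = q ^ 2 := by rw [hA, card_map_subtype, hK₀]
  let ι := {L : Subgroup G // L ≤ A ∧ Nat.card L = q}
  have hgen : ∀ x : G, x ∈ A → x ≠ 1 → Nat.card (Subgroup.zpowers x) = q := fun x hx hx1 => by
    rw [Nat.card_zpowers]; exact orderOf_eq_prime (hexp x (hAE hx)) hx1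
  have heq : ∀ (L : ι) (x : G), x ∈ L.1 → x ≠ 1 → Subgroup.zpowers x = L.1 := fun L x hx hx1 =>
    Subgroup.eq_of_le_of_card_ge (Subgroup.zpowers_le.2 hx)
      (by rw [L.2.2, hgen x (L.2.1 hx) hx1])
  let f : {x : A // x ≠ 1} → ι := fun x => ⟨Subgroup.zpowers (x.1 : G), Subgroup.zpowers_le.2 x.1.2,
    hgen _ x.1.2 fun e => x.2 (Subtype.ext e)⟩
  haveI : Finite ι := Subtype.finite
  have hcount := card_eq_mul_of_fibres f (k := q - 1) fun L => by
    conv_rhs => rw [← L.2.2]
    rw [← card_ne_one_eq]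
    refine Nat.card_congr
      { toFun := fun x => ⟨⟨x.1.1.1, (congrArg Subtype.val x.2).le (Subgroup.mem_zpowers _)⟩,
          fun e => x.1.2 (Subtype.ext (congrArg (fun w : L.1 => (w : G)) e))⟩
        invFun := fun y => ⟨⟨⟨y.1.1, L.2.1 y.1.2⟩, fun e => y.2 (Subtype.ext (congrArg (fun w : A => (w : G)) e))⟩,
          Subtype.ext (heq L _ y.1.2 fun e => y.2 (Subtype.ext e))⟩
        left_inv := fun x => rfl
        right_inv := fun y => rfl }
  rw [card_ne_one_eq, hAc] at hcount
  haveI := Fintype.ofFinite ι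
  have hι : Fintype.card ι = q + 1 := by
    rw [← Nat.card_eq_fintype_card]
    obtain ⟨r, rfl⟩ : ∃ r, q = r + 2 := ⟨q - 2, by have := hq.two_le; omega⟩
    rw [show (r + 2) ^ 2 - 1 = (r + 3) * (r + 1) by
      rw [show (r + 2) ^ 2 = (r + 3) * (r + 1) + 1 by ring, Nat.add_sub_cancel],
      show r + 2 - 1 = r + 1 by omega] at hcount
    exact (Nat.eq_of_mul_eq_mul_right (Nat.succ_pos r) hcount).symm
  refine fpf_partition_false hV (hAE.trans hEV) (fun x hx => hfpf x (hAE hx)) (fun L : ι => L.1)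
    (fun L => L.2.1) (fun L e => ?_) (fun x hx hx1 => ?_) (fun e => ?_) q hι ?_
  · have := L.2.2
    rw [e, Subgroup.card_bot] at this
    exact hq.ne_one this.symm
  · exact ⟨⟨Subgroup.zpowers x, Subgroup.zpowers_le.2 hx, hgen x hx hx1⟩, Subgroup.mem_zpowers x,
      fun L hL => Subtype.ext (heq L x hL hx1).symm⟩
  · rw [e, Subgroup.card_bot] at hAc
    exact absurd hAc (Nat.one_lt_pow two_ne_zero hq.one_lt).ne
  · intro r hr hrq
    rw [(Nat.prime_dvd_prime_iff_eq hr hq).1 hrq, hAc]
    exact dvd_pow_self q two_ne_zero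

/-- Commuting elements of prime orders have the same order. -/
theorem prime_eq_of_commute (hpp : ∀ g : G, g ≠ 1 → IsPrimePow (orderOf g)) {a b : ℕ} (ha : a.Prime)
    (hb : b.Prime) {x y : G} (hx : orderOf x = a) (hy : orderOf y = b) (hc : Commute x y) : a = b := by
  by_contra hab
  have h1 : orderOf (x * y) = a * b := by
    rw [hc.orderOf_mul_eq_mul_orderOf_of_coprime (by rw [hx, hy]; exact (Nat.coprime_primes ha hb).2 hab),
      hx, hy]
  have hne : x * y ≠ 1 := fun e => by
    rw [e, orderOf_one] at h1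
    exact ha.ne_one (Nat.eq_one_of_mul_eq_one_right h1.symm)
  obtain ⟨r, k, hr, -, hk⟩ := (isPrimePow_def _).1 (hpp _ hne)
  rw [h1] at hk
  have h2 : a ∣ r ^ k := hk ▸ dvd_mul_right a b
  have h3 : b ∣ r ^ k := hk ▸ dvd_mul_left b a
  have hr' : r.Prime := Nat.prime_iff.2 hr
  exact hab (((Nat.prime_dvd_prime_iff_eq ha hr').1 (ha.dvd_of_dvd_pow h2)).trans
    ((Nat.prime_dvd_prime_iff_eq hb hr').1 (hb.dvd_of_dvd_pow h3)).symm)

theorem apart (hpp : ∀ g : G, g ≠ 1 → IsPrimePow (orderOf g)) (σ : Finset ℕ) (hσ : ∀ a ∈ σ, a.Prime) :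
    Apart G σ := by
  intro a ha b hb hab g hg
  have hg1 : g ≠ 1 := fun e => by
    rw [e, orderOf_one] at hg
    exact (hσ a ha).ne_one (Nat.eq_one_of_mul_eq_one_right hg.symm)
  obtain ⟨r, k, hr, -, hk⟩ := (isPrimePow_def _).1 (hpp g hg1)
  rw [hg] at hk
  have hr' : r.Prime := Nat.prime_iff.2 hr
  exact hab (((Nat.prime_dvd_prime_iff_eq (hσ a ha) hr').1
      ((hσ a ha).dvd_of_dvd_pow (hk ▸ dvd_mul_right a b))).trans
    ((Nat.prime_dvd_prime_iff_eq (hσ b hb) hr').1 ((hσ b hb).dvd_of_dvd_pow (hk ▸ dvd_mul_left b a))).symm)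

theorem solvable_primes_le_two (hpp : ∀ g : G, g ≠ 1 → IsPrimePow (orderOf g)) (H : Subgroup G)
    (hH : Group.IsSolvable H) : (Nat.card H).primeFactors.card ≤ 2 := by
  by_contra hgt
  obtain ⟨σ, hσ, hσc⟩ := Finset.exists_subset_card_eq (s := (Nat.card H).primeFactors) (n := 3) (by omega)
  have hpr : ∀ a ∈ σ, a.Prime := fun a ha => Nat.prime_of_mem_primeFactors (hσ ha)
  exact not_solvable_of_three_apart hσc hpr (fun a ha => Nat.dvd_of_mem_primeFactors (hσ ha))
    ((apart hpp σ hpr).of_injective H.subtype H.subtype_injective) hH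

theorem quotient (hpp : ∀ g : G, g ≠ 1 → IsPrimePow (orderOf g)) (R : Subgroup G) [R.Normal] :
    ∀ g : G ⧸ R, g ≠ 1 → IsPrimePow (orderOf g) := by
  intro g hg
  obtain ⟨x, rfl⟩ := QuotientGroup.mk'_surjective R g
  exact IsPrimePow.dvd (hpp x fun e => hg (by rw [e, map_one])) (orderOf_map_dvd _ x)
    (fun e => hg (orderOf_eq_one_iff.1 e))

theorem exists_two_primes {T : Type*} [Group T] [Finite T] (hT : ¬ Group.IsSolvable T) :
    ∀ a : ℕ, ∃ b, b.Prime ∧ b ≠ a ∧ b ∣ Nat.card T := by
  intro a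
  by_contra hno
  push Not at hno
  refine hT ?_
  by_cases ha : a.Prime
  · haveI := Fact.mk ha
    have hp : IsPGroup a T := IsPGroup.of_card (n := (Nat.card T).primeFactorsList.length)
      (Nat.eq_prime_pow_of_unique_prime_dvd Nat.card_pos.ne' fun {d} hd hdd => by
        by_contra hne
        exact hno d hd hne hdd)
    haveI := hp.isNilpotent
    infer_instance
  · have h1 : Nat.card T = 1 := by
      by_contra hne
      obtain ⟨d, hd, hdd⟩ := Nat.exists_prime_and_dvd hne
      exact hno d hd (fun e => ha (e ▸ hd)) hdd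
    haveI := (Nat.card_eq_one_iff_unique.1 h1).1
    infer_instance

/-- The socle. -/
theorem socle (hpp : ∀ g : G, g ≠ 1 → IsPrimePow (orderOf g))
    (hrad : ∀ N : Subgroup G, N.Normal → Group.IsSolvable N → N = ⊥) (hG : Nontrivial G) :
    ∃ M : Subgroup G, M.Normal ∧ IsSimpleGroup M ∧ ¬ IsMulCommutative M ∧
      ∀ N : Subgroup G, N.Normal → N ≠ ⊥ → M ≤ N := by
  obtain ⟨M, hMn, hMne, hMmin⟩ := exists_minimal_normal (G := G)
  haveI := hMn
  obtain ⟨T, _, m, hT, hm, ⟨e⟩⟩ := Perm.minimal_normal_power M hMne hMmin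
  have hMs : ¬ Group.IsSolvable M := fun h => hMne (hrad M hMn h)
  obtain rfl : m = 1 := by
    by_contra hm1
    haveI : Finite (Fin m → T) := Finite.of_equiv M e.toEquiv
    haveI : Finite T := Finite.of_surjective (fun f : Fin m → T => f ⟨0, hm⟩) fun t => ⟨fun _ => t, rfl⟩
    have hTs : ¬ Group.IsSolvable T := by
      intro h
      haveI := hT
      refine hMs ?_
      have hab : ∀ a b : T, a * b = b * a := IsSimpleGroup.comm_iff_isSolvable.2 h
      exact Group.isSolvable_of_comm fun x y => e.injective (by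
        rw [map_mul, map_mul]; funext i; exact hab _ _)
    obtain ⟨a, ha, -, haT⟩ := exists_two_primes hTs 0
    obtain ⟨b, hb, hba, hbT⟩ := exists_two_primes hTs a
    haveI := Fact.mk ha
    haveI := Fact.mk hb
    obtain ⟨x, hx⟩ := exists_prime_orderOf_dvd_card' a haT
    obtain ⟨y, hy⟩ := exists_prime_orderOf_dvd_card' b hbT
    let X : M := e.symm (Pi.mulSingle ⟨0, hm⟩ x)
    let Y : M := e.symm (Pi.mulSingle ⟨1, by omega⟩ y)
    have hX : orderOf (X : G) = a := by
      rw [Subgroup.orderOf_coe]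
      show orderOf (e.symm.toMonoidHom ((MonoidHom.mulSingle (fun _ : Fin m => T) ⟨0, hm⟩) x)) = a
      rw [orderOf_injective e.symm.toMonoidHom e.symm.injective,
        orderOf_injective (MonoidHom.mulSingle (fun _ : Fin m => T) ⟨0, hm⟩) (fun u v huv => by
          have h' := congrFun huv (⟨0, hm⟩ : Fin m)
          simpa using h'), hx]
    have hY : orderOf (Y : G) = b := by
      rw [Subgroup.orderOf_coe]
      show orderOf (e.symm.toMonoidHom ((MonoidHom.mulSingle (fun _ : Fin m => T) ⟨1, by omega⟩) y)) = b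
      rw [orderOf_injective e.symm.toMonoidHom e.symm.injective,
        orderOf_injective (MonoidHom.mulSingle (fun _ : Fin m => T) ⟨1, by omega⟩) (fun u v huv => by
          have h' := congrFun huv (⟨1, by omega⟩ : Fin m)
          simpa using h'), hy]
    have hXY : Commute X Y :=
      (Pi.mulSingle_commute (f := fun _ : Fin m => T) (by simp) x y).map e.symm.toMonoidHom
    exact hba (prime_eq_of_commute hpp ha hb hX hY (hXY.map M.subtype)).symm
  haveI : IsSimpleGroup M := by
    haveI := hT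
    let e1 : M ≃* T := e.trans (MulEquiv.funUnique (Fin 1) T)
    haveI : Nontrivial M := e1.toEquiv.nontrivial
    exact IsSimpleGroup.isSimpleGroup_of_surjective e1.symm.toMonoidHom e1.symm.surjective
  refine ⟨M, hMn, inferInstance, fun h => hMs (Group.isSolvable_of_comm fun a b => mul_comm' a b), fun N hN hN1 => ?_⟩
  haveI := hN
  rcases hMmin (M ⊓ N) inferInstance inf_le_left with h | h
  · exfalso
    refine hN1 (eq_bot_iff.2 fun c hc => ?_)
    rw [Subgroup.mem_bot]
    by_contra hc1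
    obtain ⟨r, hr, hrd⟩ := Nat.exists_prime_and_dvd (n := orderOf c) (fun e => hc1 (orderOf_eq_one_iff.1 e))
    obtain ⟨b, hb, hbr, hbM⟩ := exists_two_primes hMs r
    haveI := Fact.mk hb
    obtain ⟨y, hy⟩ := exists_prime_orderOf_dvd_card' b hbM
    refine hbr (prime_eq_of_commute hpp hr hb (orderOf_pow_orderOf_div (orderOf_pos c).ne' hrd)
      (y := (y : G)) (by rw [Subgroup.orderOf_coe, hy]) ?_).symm
    exact (Subgroup.commute_of_normal_of_disjoint M N inferInstance inferInstance (disjoint_iff.2 h) y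
      (c ^ (orderOf c / r)) y.2 (N.pow_mem hc _)).symm
  · exact inf_eq_left.1 h

theorem pElem_mem {p : ℕ} [Fact p.Prime] {P : Subgroup G} [P.Normal] (hPsyl : ¬ p ∣ P.index) {y : G} {k : ℕ}
    (hy : orderOf y = p ^ k) : y ∈ P :=
  le_of_coprime_index P (Subgroup.zpowers y) (by
    rw [Nat.card_zpowers, hy]
    exact Nat.Coprime.pow_left k ((Nat.Prime.coprime_iff_not_dvd Fact.out).2 hPsyl)) (Subgroup.mem_zpowers y)

/-- The solvable radical is a group of prime power order. -/
theorem radical_pgroup (hpp : ∀ g : G, g ≠ 1 → IsPrimePow (orderOf g)) (hns : ¬ Group.IsSolvable G)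
    (R : Subgroup G) [R.Normal] (hR : Group.IsSolvable R) : ∃ p : ℕ, p.Prime ∧ IsPGroup p R := by
  by_cases hR1 : R = ⊥
  · exact ⟨2, Nat.prime_two, hR1 ▸ IsPGroup.of_bot⟩
  haveI : Nontrivial R := (Subgroup.nontrivial_iff_ne_bot R).2 hR1
  obtain ⟨M₀, hM₀n, hM₀ne, hM₀min⟩ := exists_minimal_normal (G := R)
  haveI := hM₀n
  haveI := hR
  obtain ⟨-, p, hp, hM₀el⟩ := minimal_normal_elementaryAbelian M₀ inferInstance hM₀ne hM₀min
  haveI := Fact.mk hp
  refine ⟨p, hp, ?_⟩
  -- `P = O_p(R)`
  haveI := pCore_normal (G := R) p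
  set P := (Cfsg.pCore p R).map R.subtype with hP
  haveI : (Cfsg.pCore p R).Characteristic := Fusion.pCore_characteristic
  haveI hPn : P.Normal := inferInstance
  have hPp : IsPGroup p P := (pCore_isPGroup p).map _
  have hPR : P ≤ R := Subgroup.map_subtype_le _
  have hP1 : P ≠ ⊥ := fun e => hM₀ne (le_bot_iff.1 ((normal_le_pCore (p := p) fun x => ⟨1, by
    rw [pow_one]; exact Subtype.ext (hM₀el.1 x x.2)⟩).trans
      ((Subgroup.map_eq_bot_iff_of_injective _ R.subtype_injective).1 e).le))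
  by_contra hRp
  set π := QuotientGroup.mk' P with hπ
  have hRbar : R.map π ≠ ⊥ := fun e => hRp (hPp.to_le (by
    rw [Subgroup.map_eq_bot_iff, hπ, QuotientGroup.ker_mk'] at e; exact e))
  haveI : (R.map π).Normal := Subgroup.Normal.map inferInstance π (QuotientGroup.mk'_surjective P)
  obtain ⟨Mb, hMbn, hMb1, hMbR, hMbmin⟩ := exists_minimal_normal_le (R.map π) hRbar
  haveI := hMbn
  obtain ⟨hMbc, q, hq, hMbel⟩ := minimal_normal_elementaryAbelian Mb
    (isSolvable_of_le hMbR (isSolvable_map π hR)) hMb1 hMbmin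
  haveI := Fact.mk hq
  set M := Mb.comap π with hM
  haveI hMn : M.Normal := inferInstance
  have hPM : P ≤ M := fun x hx => by
    rw [hM, Subgroup.mem_comap, show π x = 1 from (QuotientGroup.eq_one_iff x).2 hx]
    exact Mb.one_mem
  have hMR : M ≤ R := by
    intro x hx
    obtain ⟨r, hr, hrx⟩ := hMbR hx
    have : r⁻¹ * x ∈ P := QuotientGroup.eq.1 hrx
    simpa using R.mul_mem hr (hPR this)
  have hMcard : Nat.card M = Nat.card Mb * Nat.card P := card_comap_mk' P Mb
  obtain ⟨j, hj⟩ : ∃ j, Nat.card Mb = q ^ j := IsPGroup.iff_card.1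
    (fun x => ⟨1, Subtype.ext (by rw [pow_one, SubmonoidClass.coe_pow]; exact hMbel.1 x x.2)⟩ : IsPGroup q Mb)
  have hqp : q ≠ p := by
    rintro rfl
    obtain ⟨i, hi⟩ := IsPGroup.iff_card.1 hPp
    have hMp : IsPGroup q M := IsPGroup.of_card (n := j + i) (by rw [hMcard, hj, hi, pow_add])
    haveI : (M.subgroupOf R).Normal := inferInstance
    have h1 : M.subgroupOf R ≤ Cfsg.pCore q R :=
      normal_le_pCore (hMp.comap_subtype (K := R))
    have h2 : M ≤ P := by
      rw [hP, ← Subgroup.map_subgroupOf_eq_of_le hMR]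
      exact Subgroup.map_mono h1
    refine hMb1 ?_
    rw [← Subgroup.map_comap_eq_self_of_surjective (QuotientGroup.mk'_surjective P) Mb, Subgroup.map_eq_bot_iff,
      QuotientGroup.ker_mk']
    exact h2
  obtain ⟨i, hi⟩ := IsPGroup.iff_card.1 hPp
  -- a Sylow `q`-subgroup of `M`
  obtain ⟨Q₀⟩ : Nonempty (Sylow q M) := inferInstance
  set Q := (Q₀ : Subgroup M).map M.subtype with hQ
  have hQp : IsPGroup q Q := Q₀.isPGroup'.map _
  have hQM : Q ≤ M := Subgroup.map_subtype_le _
  have hPQ : Disjoint P Q := IsPGroup.disjoint_of_ne p q hqp.symm P Q hPp hQp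
  have hQcard : Nat.card Q = q ^ j := by
    rw [hQ, card_map_subtype, Q₀.card_eq_multiplicity, hMcard, hj, hi,
      Nat.factorization_mul (pow_ne_zero _ hq.ne_zero) (pow_ne_zero _ hp.ne_zero), Finsupp.add_apply,
      Nat.factorization_pow, Nat.factorization_pow]
    simp [hq.factorization_self, Nat.factorization_eq_zero_of_not_dvd
      (fun h => hqp ((Nat.prime_dvd_prime_iff_eq hq hp).1 h))]
  have hQexp : ∀ x ∈ Q, x ^ q = 1 := by
    intro x hx
    have h1 : x ^ q ∈ P := (QuotientGroup.eq_one_iff _).1 (by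
      show π (x ^ q) = 1
      rw [map_pow]; exact hMbel.1 _ (hQM hx))
    exact Subgroup.mem_bot.1 (hPQ.le_bot ⟨h1, Q.pow_mem hx q⟩)
  have hQ1 : Q ≠ ⊥ := by
    intro e
    rw [e, Subgroup.card_bot] at hQcard
    exact hMb1 (Subgroup.eq_bot_of_card_eq _ (hj.trans hQcard.symm))
  -- fixed point free on `Z(P)`
  set V := (Subgroup.center P).map P.subtype with hV
  haveI hVn : V.Normal := inferInstance
  haveI : IsMulCommutative V := ⟨⟨fun a b => Subtype.ext (by
    obtain ⟨c, hc, hca⟩ := a.2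
    obtain ⟨d, hd, hdb⟩ := b.2
    show (a : G) * b = b * a
    rw [← hca, ← hdb, ← map_mul, ← map_mul]
    exact congrArg _ (Subgroup.mem_center_iff.1 hd c))⟩⟩
  have hV1 : V ≠ ⊥ := by
    rw [Ne, hV, Subgroup.map_eq_bot_iff_of_injective _ P.subtype_injective]
    haveI : Nontrivial P := (Subgroup.nontrivial_iff_ne_bot P).2 hP1
    haveI := hPp.center_nontrivial
    exact (Subgroup.nontrivial_iff_ne_bot _).1 inferInstance
  have hfpf : ∀ x ∈ Q, x ≠ 1 → V ⊓ Subgroup.centralizer {x} = ⊥ := by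
    intro x hx hx1
    rw [eq_bot_iff]
    rintro v ⟨hv, hvx⟩
    rw [Subgroup.mem_bot]
    by_contra hv1
    obtain ⟨r, hr, hrd⟩ := Nat.exists_prime_and_dvd (n := orderOf v) (fun e => hv1 (orderOf_eq_one_iff.1 e))
    have hvP : v ∈ P := Subgroup.map_subtype_le _ hv
    have hrp : r = p := by
      have h1 := hrd.trans (Subgroup.orderOf_dvd_natCard P hvP)
      rw [hi] at h1
      exact (Nat.prime_dvd_prime_iff_eq hr hp).1 (hr.dvd_of_dvd_pow h1)
    exact hqp ((prime_eq_of_commute hpp hr hq (orderOf_pow_orderOf_div (orderOf_pos v).ne' hrd)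
      (orderOf_eq_prime (hQexp x hx) hx1)
      ((show Commute v x from Subgroup.mem_centralizer_singleton_iff.1 hvx).pow_left _)).symm.trans hrp)
  have hQle := elementary_fpf_card_le hV1 hQexp
    (by rw [Subgroup.normalizer_eq_top]; exact le_top) hfpf
  -- `N(Q)` is solvable and covers `G / P`
  set X := Subgroup.normalizer (Q : Set G) with hX
  obtain ⟨⟨x₀, hx₀⟩, hx₀1⟩ := Subgroup.ne_bot_iff_exists_ne_one.1 hQ1
  have hx₀1' : x₀ ≠ 1 := fun e => hx₀1 (Subtype.ext e)
  have hgen : Subgroup.zpowers x₀ = Q := Subgroup.eq_of_le_of_card_ge (Subgroup.zpowers_le.2 hx₀)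
    (by rw [Nat.card_zpowers, orderOf_eq_prime (hQexp x₀ hx₀) hx₀1']; exact hQle)
  haveI : IsCyclic Q := hgen ▸ Subgroup.isCyclic_zpowers x₀
  have hXsol : Group.IsSolvable X := by
    let φ : X →* MulAut Q := Q.normalizerMonoidHom
    have hK : IsPGroup q φ.ker := by
      rintro ⟨⟨y, hy⟩, hyk⟩
      rw [Subgroup.normalizerMonoidHom_ker, Subgroup.mem_subgroupOf] at hyk
      refine ⟨(Nat.card G), Subtype.ext (Subtype.ext ?_)⟩
      show y ^ q ^ Nat.card G = 1
      by_cases hy1 : y = 1
      · rw [hy1, one_pow]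
      obtain ⟨r, k, hr, hk0, hk⟩ := (isPrimePow_def _).1 (hpp y hy1)
      have hr' : r.Prime := Nat.prime_iff.2 hr
      have hrq : r = q := by
        refine prime_eq_of_commute hpp hr' hq (orderOf_pow_orderOf_div (orderOf_pos y).ne'
          (hk ▸ dvd_pow_self r hk0.ne')) (orderOf_eq_prime (hQexp x₀ hx₀) hx₀1')
          ((show Commute y x₀ from (Subgroup.mem_centralizer_iff.1 hyk x₀ hx₀).symm).pow_left _)
      subst hrq
      refine orderOf_dvd_iff_pow_eq_one.1 (hk ▸ Nat.pow_dvd_pow r ?_)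
      have := Nat.le_of_dvd Nat.card_pos (hk ▸ orderOf_dvd_natCard y : r ^ k ∣ Nat.card G)
      exact (Nat.lt_pow_self hr'.one_lt).le.trans this
    haveI : Group.IsSolvable φ.ker := by haveI := hK.isNilpotent; infer_instance
    haveI : Group.IsSolvable (MulAut Q) := by
      let e := IsCyclic.mulAutMulEquiv Q
      exact Group.isSolvable_of_comm fun a b => e.injective (by rw [map_mul, map_mul, mul_comm])
    exact Group.isSolvable_of_ker_le_range φ.ker.subtype φ (by rw [Subgroup.range_subtype])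
  apply hns
  have hsup : X ⊔ P = ⊤ := by
    have h1 : X ⊔ M = ⊤ := Sylow.normalizer_sup_eq_top Q₀
    have h2 : M ≤ Q ⊔ P := by
      have e1 : Subgroup.map π Q = Mb := by
        refine Subgroup.eq_of_le_of_card_ge ?_ ?_
        · rintro _ ⟨y, hy, rfl⟩; exact hQM hy
        · have h3 := card_map_mk'_mul_card_inf P Q
          rw [disjoint_iff.1 hPQ, Subgroup.card_bot, mul_one, hQcard, ← hj] at h3
          exact le_of_eq h3.symm
      rw [hM, ← e1, hπ, QuotientGroup.comap_map_mk', sup_comm]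
    refine top_le_iff.1 (h1.ge.trans (sup_le le_sup_left (h2.trans (sup_le_sup_right ?_ P))))
    exact Subgroup.le_normalizer
  haveI : Group.IsSolvable P := by haveI := hPp.isNilpotent; infer_instance
  haveI := hXsol
  haveI : Group.IsSolvable (G ⧸ P) := by
    refine Group.isSolvable_of_surjective (f := π.comp X.subtype) ?_
    intro y
    obtain ⟨g, rfl⟩ := QuotientGroup.mk'_surjective P y
    have hg : g ∈ ((X ⊔ P : Subgroup G) : Set G) := by rw [hsup]; trivial
    rw [Subgroup.mul_normal] at hg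
    obtain ⟨a, ha, b, hb, rfl⟩ := hg
    refine ⟨⟨a, ha⟩, ?_⟩
    show π a = π (a * b)
    rw [map_mul, show π b = 1 from (QuotientGroup.eq_one_iff b).2 hb, mul_one]
  exact Group.isSolvable_of_ker_le_range P.subtype (QuotientGroup.mk' P)
    (by rw [QuotientGroup.ker_mk', Subgroup.range_subtype])

theorem radical_quotient (R : Subgroup G) [R.Normal] (hR : Group.IsSolvable R)
    (hmax : ∀ N : Subgroup G, N.Normal → Group.IsSolvable N → N ≤ R)
    (N : Subgroup (G ⧸ R)) (hN : N.Normal) (hNs : Group.IsSolvable N) : N = ⊥ := by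
  set π := QuotientGroup.mk' R
  have hs : Group.IsSolvable (N.comap π) := by
    haveI := hR
    haveI := hNs
    let f : N.comap π →* N := π.subgroupComap N
    have hker : Group.IsSolvable f.ker := Group.isSolvable_of_isSolvable_injective
      (f := MonoidHom.mk' (fun x : f.ker => (⟨((x : N.comap π) : G), (QuotientGroup.eq_one_iff _).1
        (congrArg Subtype.val (MonoidHom.mem_ker.1 x.2))⟩ : R)) fun a b => rfl)
      (fun a b e => Subtype.ext (Subtype.ext (congrArg (fun r : R => (r : G)) e)))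
    exact Group.isSolvable_of_ker_le_range f.ker.subtype f (by rw [Subgroup.range_subtype])
  have h1 := hmax _ (hN.comap π) hs
  rw [← Subgroup.map_comap_eq_self_of_surjective (QuotientGroup.mk'_surjective R) N,
    Subgroup.map_eq_bot_iff, QuotientGroup.ker_mk']
  exact h1

end Cfsg.Agent.Solv.EPPO
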