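import Cfsg.Agent.Lib.Solv.Cores
import Cfsg.Agent.Lib.Fusion.NPC
import Cfsg.Agent.Lib.Fusion.AbelianHall
import Cfsg.Agent.Lib.Solv.EPPO
import Cfsg.Agent.Lib.Local.FS.ThompsonInner
import Cfsg.Agent.S0659

/-! Normal subgroups in which every non-central element has a maximal centralizer in the whole group. -/

set_option autoImplicit false
set_option linter.style.haveILetI false

open scoped Pointwise commutatorElement
open Cfsg

namespace Cfsg.Agent.Solv.MaxCentralizer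

universe u
variable {G : Type u} [Group G]

/-- centralizer of an element -/
abbrev C (x : G) : Subgroup G := Subgroup.centralizer ({x} : Set G)

/-- the centre of `N` inside `G` -/
abbrev zc (N : Subgroup G) : Subgroup G := N ⊓ Subgroup.centralizer (N : Set G)

/-- non-central elements of `N` have maximal centralizers -/
def Hyp (N : Subgroup G) : Prop := ∀ x ∈ N, x ∉ zc N → IsCoatom (C x)

theorem mem_C {x y : G} : y ∈ C x ↔ Commute x y := by
  rw [C, Subgroup.mem_centralizer_iff]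
  exact ⟨fun h => h x rfl, fun h a ha => by rw [Set.mem_singleton_iff.1 ha]; exact h.eq⟩

theorem mem_zc {N : Subgroup G} {z : G} : z ∈ zc N ↔ z ∈ N ∧ ∀ n ∈ N, Commute n z := by
  rw [zc, Subgroup.mem_inf, Subgroup.mem_centralizer_iff]
  exact Iff.rfl

instance zc_normal (N : Subgroup G) [N.Normal] : (zc N).Normal := inferInstance

theorem zc_le_C {N : Subgroup G} {x : G} (hx : x ∈ N) : zc N ≤ C x :=
  fun _ hz => mem_C.2 ((mem_zc.1 hz).2 x hx)

theorem not_le_C {N : Subgroup G} {x : G} (hx : x ∈ N) (hxZ : x ∉ zc N) : ¬ N ≤ C x :=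
  fun h => hxZ (mem_zc.2 ⟨hx, fun _ hn => (mem_C.1 (h hn)).symm⟩)

theorem mem_center_subtype {N : Subgroup G} (a : N) : a ∈ Subgroup.center N ↔ (a : G) ∈ zc N := by
  rw [Subgroup.mem_center_iff, mem_zc]
  exact ⟨fun h => ⟨a.2, fun n hn => congrArg Subtype.val (h ⟨n, hn⟩)⟩,
    fun h g => Subtype.ext (h.2 g g.2).eq⟩

theorem C_conj_inv {x c : G} (hc : c ∈ C x) : Commute x c⁻¹ := (mem_C.1 hc).inv_right

theorem decomp {B M : Subgroup G} [B.Normal] (h : B ⊔ M = ⊤) (g : G) : ∃ b ∈ B, ∃ c ∈ M, g = b * c := by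
  have hg : g ∈ ((B ⊔ M : Subgroup G) : Set G) := by rw [h]; trivial
  rw [Subgroup.normal_mul] at hg
  obtain ⟨b, hb, c, hc, e⟩ := hg
  exact ⟨b, hb, c, hc, e.symm⟩

theorem normal_of_normalized {M B X : Subgroup G} (h : B ⊔ M = ⊤)
    (h1 : B ≤ Subgroup.normalizer (X : Set G)) (h2 : M ≤ Subgroup.normalizer (X : Set G)) : X.Normal :=
  Subgroup.normalizer_eq_top_iff.1 (top_le_iff.1 (h ▸ sup_le h1 h2))

theorem sup_C_eq_top {x : G} (hM : IsCoatom (C x)) {B : Subgroup G} (hB : ¬ B ≤ C x) : B ⊔ C x = ⊤ :=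
  hM.2 _ (lt_of_le_of_ne le_sup_right fun e => hB (e ▸ le_sup_left))

theorem le_normalizer_inf_C (x : G) (S : Subgroup G) [S.Normal] :
    C x ≤ Subgroup.normalizer ((S ⊓ C x : Subgroup G) : Set G) := by
  intro c hc
  rw [Subgroup.mem_normalizer_iff]
  intro a
  constructor
  · rintro ⟨haS, haC⟩
    exact ⟨‹S.Normal›.conj_mem a haS c, (C x).mul_mem ((C x).mul_mem hc haC) ((C x).inv_mem hc)⟩
  · rintro ⟨haS, haC⟩
    have e : a = c⁻¹ * (c * a * c⁻¹) * c⁻¹⁻¹ := by group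
    rw [e]
    exact ⟨‹S.Normal›.conj_mem _ haS c⁻¹, (C x).mul_mem ((C x).mul_mem ((C x).inv_mem hc) haC) ((C x).inv_mem ((C x).inv_mem hc))⟩

/-- a nilpotent normal subgroup meets a maximal centraliser in a normal subgroup -/
theorem inf_C_normal [Finite G] {x : G} (hM : IsCoatom (C x)) (S : Subgroup G) [S.Normal]
    (hS : Group.IsNilpotent S) (hle : ¬ S ≤ C x) : (S ⊓ C x).Normal := by
  haveI := hS
  have hne : (S ⊓ C x).subgroupOf S ≠ ⊤ := fun e =>
    hle ((Subgroup.subgroupOf_eq_top.1 e).trans inf_le_right)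
  obtain ⟨y, hy, hy'⟩ := SetLike.exists_of_lt (Group.normalizerCondition_of_isNilpotent _
    (lt_top_iff_ne_top.2 hne))
  have hyC : (y : G) ∉ C x := fun h => hy' (Subgroup.mem_subgroupOf.2 ⟨y.2, h⟩)
  have hyn : (y : G) ∈ Subgroup.normalizer ((S ⊓ C x : Subgroup G) : Set G) := by
    rw [Subgroup.mem_normalizer_iff] at hy ⊢
    intro a
    constructor
    · intro ha
      exact Subgroup.mem_subgroupOf.1 ((hy ⟨a, ha.1⟩).1 (Subgroup.mem_subgroupOf.2 ha))
    · intro ha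
      have haS : a ∈ S := by
        have := ‹S.Normal›.conj_mem _ ha.1 (y : G)⁻¹
        simpa [mul_assoc] using this
      exact Subgroup.mem_subgroupOf.1 ((hy ⟨a, haS⟩).2 (Subgroup.mem_subgroupOf.2 ha))
  rcases hM.le_iff.1 (le_normalizer_inf_C x S) with h | h
  · exact Subgroup.normalizer_eq_top_iff.1 h
  · exact absurd (h.le hyn) hyC

theorem nilpotent_of_comm {K : Type u} [Group K] (h : ∀ a b : K, a * b = b * a) : Group.IsNilpotent K :=
  @CommGroup.isNilpotent K { (inferInstance : Group K) with mul_comm := h }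

theorem solvable_le {A B : Subgroup G} (h : A ≤ B) (hB : Group.IsSolvable B) : Group.IsSolvable A :=
  haveI := hB
  solvable_of_solvable_injective (Subgroup.inclusion_injective h)

/-- minimal normal over `W`, inside a solvable normal subgroup: quotient is elementary abelian -/
theorem chief_exponent [Finite G] (W A : Subgroup G) [W.Normal] [A.Normal] (hWA : W ≤ A) (hne : A ≠ W)
    (hsol : Group.IsSolvable (A.map (QuotientGroup.mk' W)))
    (hmin : ∀ K : Subgroup G, K.Normal → W ≤ K → K ≤ A → K = W ∨ K = A) :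
    (∀ a ∈ A, ∀ b ∈ A, a * b * a⁻¹ * b⁻¹ ∈ W) ∧ ∃ r : ℕ, r.Prime ∧ ∀ a ∈ A, a ^ r ∈ W := by
  set π := QuotientGroup.mk' W with hπ
  have hs : Function.Surjective π := QuotientGroup.mk'_surjective W
  haveI : (A.map π).Normal := Subgroup.Normal.map inferInstance π hs
  have hker : π.ker = W := QuotientGroup.ker_mk' W
  have hb : A.map π ≠ ⊥ := fun e => hne (le_antisymm (fun a ha => by
    rw [← hker, MonoidHom.mem_ker]
    exact Subgroup.mem_bot.1 (e ▸ Subgroup.mem_map_of_mem π ha)) hWA)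
  obtain ⟨hc, r, hr, hexp, -⟩ := minimal_normal_elementaryAbelian (A.map π) hsol hb fun K hK hKA => by
    rcases hmin (K.comap π) (hK.comap π) (by rw [hπ]; exact QuotientGroup.le_comap_mk' W K) (by
      intro g hg
      obtain ⟨a, ha, hag⟩ := hKA hg
      have hm : a⁻¹ * g ∈ W := by
        rw [← hker, MonoidHom.mem_ker, map_mul, map_inv, hag, inv_mul_cancel]
      have : g = a * (a⁻¹ * g) := by group
      rw [this]; exact mul_mem ha (hWA hm)) with h | h
    · left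
      rw [← Subgroup.map_comap_eq_self_of_surjective hs K, h]
      exact (Subgroup.map_eq_bot_iff W).2 hker.ge
    · right
      rw [← Subgroup.map_comap_eq_self_of_surjective hs K, h]
  refine ⟨fun a ha b hb' => ?_, r, hr, fun a ha => ?_⟩
  · rw [← hker, MonoidHom.mem_ker]
    have h := congrArg Subtype.val (hc.is_comm.comm ⟨π a, Subgroup.mem_map_of_mem π ha⟩
      ⟨π b, Subgroup.mem_map_of_mem π hb'⟩)
    simp only [Subgroup.coe_mul] at h
    rw [map_mul, map_mul, map_mul, map_inv, map_inv, h]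
    group
  · rw [← hker, MonoidHom.mem_ker, map_pow]
    exact hexp _ (Subgroup.mem_map_of_mem π ha)

theorem exists_minimal_over [Finite G] (W B : Subgroup G) [B.Normal] (hWB : W ≤ B) (hne : B ≠ W) :
    ∃ A : Subgroup G, A.Normal ∧ W ≤ A ∧ A ≤ B ∧ A ≠ W ∧
      ∀ K : Subgroup G, K.Normal → W ≤ K → K ≤ A → K = W ∨ K = A := by
  obtain ⟨A, hAB, hA⟩ := Finite.exists_le_minimal (p := fun A : Subgroup G => A.Normal ∧ W ≤ A ∧ A ≠ W)
    (a := B) ⟨‹B.Normal›, hWB, hne⟩
  refine ⟨A, hA.1.1, hA.1.2.1, hAB, hA.1.2.2, fun K hK hWK hKA => ?_⟩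
  by_cases e : K = W
  · exact Or.inl e
  · exact Or.inr (le_antisymm hKA (hA.2 ⟨hK, hWK, e⟩ hKA))

/-- nilpotent `N`: elementary abelian modulo its centre -/
theorem nilpotent_case [Finite G] (N : Subgroup G) [N.Normal] (h : Hyp N) (hn : Group.IsNilpotent N) :
    ∃ p : ℕ, p.Prime ∧ (∀ a ∈ N, ∀ b ∈ N, a * b * a⁻¹ * b⁻¹ ∈ zc N) ∧ ∀ a ∈ N, a ^ p ∈ zc N := by
  classical
  by_cases htriv : ∀ x ∈ N, x ∈ zc N
  · exact ⟨2, Nat.prime_two, fun a ha b hb => htriv _ (mul_mem (mul_mem (mul_mem ha hb) (inv_mem ha)) (inv_mem hb)),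
      fun a ha => htriv _ (pow_mem ha 2)⟩
  have key : ∀ x ∈ N, x ∉ zc N → (∀ a ∈ N, ∀ b ∈ N, a * b * a⁻¹ * b⁻¹ ∈ C x) ∧
      ∃ r : ℕ, r.Prime ∧ ∀ a ∈ N, a ^ r ∈ C x := by
    intro x hx hxZ
    haveI hW := inf_C_normal (h x hx hxZ) N hn (not_le_C hx hxZ)
    have hsol : Group.IsSolvable (N.map (QuotientGroup.mk' (N ⊓ C x))) := by
      haveI := hn
      exact Group.isSolvable_of_surjective (MonoidHom.subgroupMap_surjective (QuotientGroup.mk' (N ⊓ C x)) N)
    obtain ⟨h1, r, hr, h2⟩ := chief_exponent (N ⊓ C x) N inf_le_left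
      (fun e => not_le_C hx hxZ (e.le.trans inf_le_right)) hsol fun K hK hWK hKN => by
        by_cases hKC : K ≤ C x
        · exact Or.inl (le_antisymm (le_inf hKN hKC) hWK)
        · refine Or.inr (le_antisymm hKN fun n hn' => ?_)
          haveI := hK
          obtain ⟨b, hb, c, hc, rfl⟩ := decomp (sup_C_eq_top (h x hx hxZ) hKC) n
          exact mul_mem hb (hWK ⟨(mul_mem_cancel_left (hKN hb)).1 hn', hc⟩)
    exact ⟨fun a ha b hb => (h1 a ha b hb).2, r, hr, fun a ha => (h2 a ha).2⟩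
  have hcomm : ∀ a ∈ N, ∀ b ∈ N, a * b * a⁻¹ * b⁻¹ ∈ zc N := by
    intro a ha b hb
    have hm := mul_mem (mul_mem (mul_mem ha hb) (inv_mem ha)) (inv_mem hb)
    refine mem_zc.2 ⟨hm, fun n hn' => ?_⟩
    by_cases hnZ : n ∈ zc N
    · exact ((mem_zc.1 hnZ).2 _ hm).symm
    · exact mem_C.1 ((key n hn' hnZ).1 a ha b hb)
  choose r hr hrx using fun (x : G) (hx : x ∈ N) (hxZ : x ∉ zc N) => (key x hx hxZ).2
  have hpow : ∀ x ∈ N, ∀ y ∈ N, ∀ k : ℕ, Commute x (y ^ k) → (x * y * x⁻¹ * y⁻¹) ^ k = 1 := by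
    intro x hx y hy k hk
    set c := x * y * x⁻¹ * y⁻¹ with hc
    have hcy : Commute c y := ((mem_zc.1 (hcomm x hx y hy)).2 y hy).symm
    have h1 : (c * y) ^ k = y ^ k := by
      have : c * y = x * y * x⁻¹ := by rw [hc]; group
      rw [this, conj_pow, hk.eq, mul_assoc, mul_inv_cancel, mul_one]
    rw [hcy.mul_pow] at h1
    exact mul_eq_right.1 h1
  have hsame : ∀ x (hx : x ∈ N) (hxZ : x ∉ zc N) y (hy : y ∈ N) (hyZ : y ∉ zc N), ¬ Commute x y →
      r x hx hxZ = r y hy hyZ := by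
    intro x hx hxZ y hy hyZ hxy
    by_contra hne
    apply hxy
    have h1 := hpow x hx y hy _ (mem_C.1 (hrx x hx hxZ y hy))
    have h2 := hpow y hy x hx _ (mem_C.1 (hrx y hy hyZ x hx))
    have e : y * x * y⁻¹ * x⁻¹ = (x * y * x⁻¹ * y⁻¹)⁻¹ := by group
    rw [e, inv_pow, inv_eq_one] at h2
    have h3 : orderOf (x * y * x⁻¹ * y⁻¹) = 1 := Nat.eq_one_of_dvd_coprimes
      ((Nat.coprime_primes (hr x hx hxZ) (hr y hy hyZ)).2 hne) (orderOf_dvd_of_pow_eq_one h1)
      (orderOf_dvd_of_pow_eq_one h2)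
    exact commutatorElement_eq_one_iff_commute.1 (orderOf_eq_one_iff.1 h3)
  push Not at htriv
  obtain ⟨x0, hx0, hx0Z⟩ := htriv
  refine ⟨r x0 hx0 hx0Z, hr _ _ _, hcomm, fun a ha => ?_⟩
  by_cases haZ : a ∈ zc N
  · exact pow_mem haZ _
  have hall : ∀ y (hy : y ∈ N) (hyZ : y ∉ zc N), r y hy hyZ = r x0 hx0 hx0Z := by
    intro y hy hyZ
    obtain ⟨w, hw, hw1, hw2⟩ : ∃ w ∈ N, ¬ Commute x0 w ∧ ¬ Commute y w := by
      obtain ⟨b, hb, hbx⟩ := SetLike.not_le_iff_exists.1 (not_le_C hx0 hx0Z)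
      obtain ⟨c, hc, hcy⟩ := SetLike.not_le_iff_exists.1 (not_le_C hy hyZ)
      rw [mem_C] at hbx hcy
      by_cases h1 : Commute y b
      · by_cases h2 : Commute x0 c
        · refine ⟨b * c, mul_mem hb hc, fun e => hbx ?_, fun e => hcy ?_⟩
          · have := e.mul_right h2.inv_right; simpa using this
          · have := h1.inv_right.mul_right e; simpa using this
        · exact ⟨c, hc, h2, hcy⟩
      · exact ⟨b, hb, hbx, h1⟩
    have hwZ : w ∉ zc N := fun hwz => hw1 ((mem_zc.1 hwz).2 x0 hx0)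
    rw [hsame y hy hyZ w hw hwZ hw2, hsame x0 hx0 hx0Z w hw hwZ hw1]
  refine mem_zc.2 ⟨pow_mem ha _, fun n hn' => ?_⟩
  by_cases hnZ : n ∈ zc N
  · exact ((mem_zc.1 hnZ).2 _ (pow_mem ha _)).symm
  · rw [← hall n hn' hnZ]; exact mem_C.1 (hrx n hn' hnZ a ha)

theorem C_eq_of_le [Finite G] {N : Subgroup G} (h : Hyp N) {x y : G} (hx : x ∈ N) (hxZ : x ∉ zc N)
    (hy : y ∈ N) (hyZ : y ∉ zc N) (hle : C x ≤ C y) : C x = C y :=
  (((h x hx hxZ).le_iff.1 hle).resolve_left (h y hy hyZ).1).symm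

theorem coprime_C [Finite G] {N : Subgroup G} (h : Hyp N) {a b : G} (ha : a ∈ N) (haZ : a ∉ zc N)
    (hb : b ∈ N) (hbZ : b ∉ zc N) (hc : Commute a b) (hco : (orderOf a).Coprime (orderOf b)) :
    C a = C b := by
  obtain ⟨m, hm⟩ := exists_pow_eq_self_of_coprime (x := a) hco.symm
  obtain ⟨m', hm'⟩ := exists_pow_eq_self_of_coprime (x := b) hco
  have ea : ((a * b) ^ orderOf b) ^ m = a := by
    rw [hc.mul_pow, pow_orderOf_eq_one b, mul_one, hm]
  have eb : ((a * b) ^ orderOf a) ^ m' = b := by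
    rw [hc.mul_pow, pow_orderOf_eq_one a, one_mul, hm']
  have habZ : a * b ∉ zc N := fun hz => haZ (ea ▸ pow_mem (pow_mem hz _) _)
  have hla : C (a * b) ≤ C a := fun c hc' => by
    have := (((mem_C.1 hc').pow_left (orderOf b)).pow_left m)
    rw [ea] at this; exact mem_C.2 this
  have hlb : C (a * b) ≤ C b := fun c hc' => by
    have := (((mem_C.1 hc').pow_left (orderOf a)).pow_left m')
    rw [eb] at this; exact mem_C.2 this
  rw [← C_eq_of_le h (mul_mem ha hb) habZ ha haZ hla, C_eq_of_le h (mul_mem ha hb) habZ hb hbZ hlb]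

/-- if all Sylow subgroups for primes other than `p` are central then the group is nilpotent -/
theorem nilpotent_of_central {K : Type u} [Group K] [Finite K] {p : ℕ} [Fact p.Prime]
    (h : ∀ (q : ℕ) [Fact q.Prime], q ≠ p → ∀ (w : K) (k : ℕ), orderOf w = q ^ k → w ∈ Subgroup.center K) :
    Group.IsNilpotent K := by
  have hidx : ∀ q : ℕ, q.Prime → q ∣ (Subgroup.center K).index → q = p := by
    intro q hq hd
    by_contra hne
    haveI := Fact.mk hq
    obtain ⟨Q⟩ : Nonempty (Sylow q K) := inferInstance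
    refine Q.not_dvd_index (hd.trans (Subgroup.index_dvd_of_le fun w hw => ?_))
    obtain ⟨k, hk⟩ := IsPGroup.iff_orderOf.1 Q.isPGroup' ⟨w, hw⟩
    exact h q hne w k (by rw [← hk, ← Subgroup.orderOf_coe])
  have hp : IsPGroup p (K ⧸ Subgroup.center K) := by
    refine IsPGroup.of_card (n := (Subgroup.center K).index.primeFactorsList.length) ?_
    rw [← Subgroup.index_eq_card]
    exact Nat.eq_prime_pow_of_unique_prime_dvd Subgroup.index_ne_zero_of_finite fun {d} hd hdd => hidx d hd hdd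
  haveI := hp.isNilpotent
  exact isNilpotent_of_ker_le_center (QuotientGroup.mk' (Subgroup.center K))
    (by rw [QuotientGroup.ker_mk'])

theorem exists_noncentral_part [Finite G] {Z : Subgroup G} {y : G} (hy : y ∉ Z) :
    ∃ r : ℕ, r.Prime ∧ ∃ v ∈ Subgroup.zpowers y, v ∉ Z ∧ ∃ k : ℕ, orderOf v = r ^ k := by
  by_contra hno
  push Not at hno
  apply hy
  have htop : (Z.subgroupOf (Subgroup.zpowers y)) = ⊤ := eq_top_of_forall_sylow_le _ fun q hq => by
    obtain ⟨Q⟩ : Nonempty (Sylow q (Subgroup.zpowers y)) := inferInstance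
    refine ⟨Q, fun v hv => ?_⟩
    obtain ⟨k, hk⟩ := IsPGroup.iff_orderOf.1 Q.isPGroup' ⟨v, hv⟩
    rw [Subgroup.mem_subgroupOf]
    by_contra hvZ
    exact hno q hq.out v v.2 hvZ k (by rw [← hk, Subgroup.orderOf_coe]; exact (Subgroup.orderOf_coe ⟨v, hv⟩))
  exact Subgroup.subgroupOf_eq_top.1 htop (Subgroup.mem_zpowers y)

theorem centralizer_nilpotent [Finite G] (N : Subgroup G) (h : Hyp N) {p : ℕ} [Fact p.Prime] {x : G}
    (hx : x ∈ N) (hxZ : x ∉ zc N) (hxp : ∃ k : ℕ, orderOf x = p ^ k) :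
    Group.IsNilpotent (N ⊓ C x : Subgroup G) := by
  by_cases hall : ∀ y ∈ N ⊓ C x, y ∉ zc N → C y = C x
  · haveI : IsMulCommutative (N ⊓ C x : Subgroup G) := ⟨⟨fun a b => Subtype.ext (by
      by_cases haZ : (a : G) ∈ zc N
      · exact ((mem_zc.1 haZ).2 b b.2.1).eq.symm
      · have hb : (b : G) ∈ C (a : G) := by rw [hall a a.2 haZ]; exact b.2.2
        exact (mem_C.1 hb).eq)⟩⟩
    exact nilpotent_of_comm fun a b => mul_comm' a b
  push Not at hall
  obtain ⟨y, hy, hyZ, hyC⟩ := hall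
  obtain ⟨k0, hk0⟩ := hxp
  obtain ⟨r, hr, v, hv, hvZ, k1, hk1⟩ := exists_noncentral_part hyZ
  obtain ⟨j, rfl⟩ := Subgroup.mem_zpowers_iff.1 hv
  have hvN : y ^ j ∈ N := N.zpow_mem hy.1 j
  have hyv : C y = C (y ^ j) := C_eq_of_le h hy.1 hyZ hvN hvZ fun c hc => mem_C.2 ((mem_C.1 hc).zpow_left j)
  have hxy : Commute x (y ^ j) := (mem_C.1 hy.2).zpow_right j
  have hp : p.Prime := Fact.out
  have hrp : r = p := by
    by_contra hne
    apply hyC
    rw [hyv]
    exact (coprime_C h hx hxZ hvN hvZ hxy (by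
      rw [hk0, hk1]; exact ((Nat.coprime_primes hp hr).2 (Ne.symm hne)).pow _ _)).symm
  subst hrp
  refine nilpotent_of_central (p := r) fun q hq hne w k hw => ?_
  have hwo : orderOf (w : G) = q ^ k := by rw [Subgroup.orderOf_coe, hw]
  by_cases hwZ : (w : G) ∈ zc N
  · exact Subgroup.mem_center_iff.2 fun g => Subtype.ext ((mem_zc.1 hwZ).2 g g.2.1).eq
  exfalso
  apply hyC
  have hco : ∀ (m : ℕ), (r ^ m).Coprime (q ^ k) := fun m =>
    ((Nat.coprime_primes hp (Fact.out : q.Prime)).2 (Ne.symm hne)).pow _ _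
  have h1 : C x = C (w : G) := coprime_C h hx hxZ w.2.1 hwZ (mem_C.1 w.2.2) (by rw [hk0, hwo]; exact hco _)
  have h2 : Commute (w : G) (y ^ j) := (mem_C.1 (h1 ▸ hy.2)).zpow_right j
  rw [hyv, h1]
  exact coprime_C h hvN hvZ w.2.1 hwZ h2.symm (by rw [hk1, hwo]; exact hco _)

theorem normalizer_le_inducedFunctor [Finite G] {p : ℕ} [Fact p.Prime] {T : Subgroup G} (hT : IsPGroup p T)
    {m : G} (hm : T.map (MulAut.conj m).toMonoidHom = T) :
    m ∈ Subgroup.normalizer (Cfsg.inducedFunctor Fusion.wZA T : Set G) := by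
  have h := Fusion.inducedFunctor_map_of_injOn (Fusion.isCharPFunctor_wZA (p := p))
    (MulAut.conj m).toMonoidHom (MulAut.conj m).injective.injOn hT
  rw [hm] at h
  refine mem_normalizer_of_conj_smul ?_
  rw [conj_smul_eq_map, ← h]

/-- a non-central `N` contains a solvable normal subgroup of `G` not contained in its centre -/
theorem exists_solvable : ∀ (n : ℕ) (G : Type u) [Group G] [Finite G] (N : Subgroup G) [N.Normal],
    Nat.card N = n → Hyp N → ¬ N ≤ zc N →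
    ∃ R : Subgroup G, R.Normal ∧ R ≤ N ∧ ¬ R ≤ zc N ∧ Group.IsSolvable R := by
  intro n
  induction n using Nat.strong_induction_on with
  | _ n ih =>
  intro G _ _ N _ hn h hNZ
  by_cases hnil : Group.IsNilpotent N
  · haveI := hnil
    exact ⟨N, ‹N.Normal›, le_rfl, hNZ, inferInstance⟩
  obtain ⟨p, hp, hp2, x, hx, hxZ, k, hxk⟩ : ∃ p : ℕ, p.Prime ∧ p ≠ 2 ∧ ∃ x ∈ N, x ∉ zc N ∧
      ∃ k : ℕ, orderOf x = p ^ k := by
    by_contra hno
    push Not at hno
    apply hnil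
    haveI := Fact.mk Nat.prime_two
    refine nilpotent_of_central (p := 2) fun q hq hne w k hw => ?_
    rw [mem_center_subtype]
    by_contra hwZ
    exact hno q hq.out hne w w.2 hwZ k (by rw [Subgroup.orderOf_coe, hw])
  haveI := Fact.mk hp
  set K := N ⊓ C x with hK
  haveI hKnil : Group.IsNilpotent K := centralizer_nilpotent N h hx hxZ ⟨k, hxk⟩
  obtain ⟨S⟩ : Nonempty (Sylow p K) := inferInstance
  haveI hSn : (S : Subgroup K).Normal :=
    ((Group.isNilpotent_of_finite_tfae (G := K)).out 0 3 (a := Group.IsNilpotent K)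
      (b := ∀ (q : ℕ) (_ : Fact q.Prime) (R : Sylow q K), (R : Subgroup K).Normal)).1 hKnil p ‹_› S
  set R := (S : Subgroup K).map K.subtype with hR
  have hRK : R ≤ K := Subgroup.map_subtype_le _
  have hRp : IsPGroup p R := S.isPGroup'.map _
  have hmemR : ∀ w ∈ K, (∃ j : ℕ, orderOf w = p ^ j) → w ∈ R := by
    rintro w hw ⟨j, hj⟩
    exact ⟨⟨w, hw⟩, EPPO.pElem_mem S.not_dvd_index (k := j) (by rw [← hj, ← Subgroup.orderOf_coe]), rfl⟩
  have hxR : x ∈ R := hmemR x ⟨hx, mem_C.2 (Commute.refl x)⟩ ⟨k, hxk⟩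
  have hRnorm : C x ≤ Subgroup.normalizer (R : Set G) := by
    intro c hc
    refine mem_normalizer_of_conj_smul (Subgroup.eq_of_le_of_card_ge ?_ (by rw [card_conj_smul]))
    intro w hw
    rw [mem_conj_smul] at hw
    obtain ⟨j, hj⟩ := IsPGroup.iff_orderOf.1 hRp ⟨_, hw⟩
    refine hmemR w ?_ ⟨j, ?_⟩
    · have := hRK hw
      have e : w = c * (c⁻¹ * w * c) * c⁻¹ := by group
      rw [e]
      exact ⟨‹N.Normal›.conj_mem _ this.1 c, (C x).mul_mem ((C x).mul_mem hc this.2) ((C x).inv_mem hc)⟩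
    · rw [← hj, ← Subgroup.orderOf_coe]
      have e := MulEquiv.orderOf_eq (MulAut.conj c⁻¹) w
      rw [MulAut.conj_apply, inv_inv] at e
      exact e.symm
  rcases (h x hx hxZ).le_iff.1 hRnorm with hN' | hN'
  · haveI := hRp.isNilpotent
    exact ⟨R, Subgroup.normalizer_eq_top_iff.1 hN', hRK.trans inf_le_left, fun e => hxZ (e hxR), inferInstance⟩
  have hRN : R ≤ N := hRK.trans inf_le_left
  obtain ⟨T, hT⟩ := (hRp.comap_of_injective N.subtype N.subtype_injective).exists_le_sylow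
  have hTR : (T : Subgroup N).map N.subtype = R := by
    set T' := (T : Subgroup N).map N.subtype with hT'
    have hRT : R ≤ T' := fun w hw => ⟨⟨w, hRN hw⟩, hT hw, rfl⟩
    have hTp : IsPGroup p T' := T.isPGroup'.map _
    haveI := hTp.isNilpotent
    by_contra hne
    have hne' : R.subgroupOf T' ≠ ⊤ := fun e => hne (le_antisymm (Subgroup.subgroupOf_eq_top.1 e) hRT)
    obtain ⟨y, hy, hy'⟩ := SetLike.exists_of_lt (Group.normalizerCondition_of_isNilpotent _
      (lt_top_iff_ne_top.2 hne'))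
    have hyn : (y : G) ∈ Subgroup.normalizer (R : Set G) := by
      rw [Subgroup.mem_normalizer_iff] at hy ⊢
      intro a
      constructor
      · intro ha
        exact Subgroup.mem_subgroupOf.1 ((hy ⟨a, hRT ha⟩).1 (Subgroup.mem_subgroupOf.2 ha))
      · intro ha
        have haT : a ∈ T' := by
          have e : a = (y : G)⁻¹ * ((y : G) * a * (y : G)⁻¹) * (y : G) := by group
          rw [e]; exact mul_mem (mul_mem (inv_mem y.2) (hRT ha)) y.2
        exact Subgroup.mem_subgroupOf.1 ((hy ⟨a, haT⟩).2 (Subgroup.mem_subgroupOf.2 ha))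
    obtain ⟨j, hj⟩ := IsPGroup.iff_orderOf.1 hTp y
    exact hy' (Subgroup.mem_subgroupOf.2 (hmemR y ⟨Subgroup.map_subtype_le _ y.2, hN'.le hyn⟩
      ⟨j, by rw [Subgroup.orderOf_coe, hj]⟩))
  set X := Cfsg.inducedFunctor Fusion.wZA R with hX
  have hxcen : ∀ w ∈ R, Commute x w := fun w hw => mem_C.1 (hRK hw).2
  have hxX : x ∈ X := by
    rw [hX, Fusion.inducedFunctor_wZA]
    exact Local.FS.center_le_centerThompsonAOf' hRp ⟨hxR, Subgroup.mem_centralizer_iff.2 fun w hw => (hxcen w hw).eq.symm⟩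
  have hXR : X ≤ R := Subgroup.map_subtype_le _
  have hXnorm : C x ≤ Subgroup.normalizer (X : Set G) := fun c hc =>
    normalizer_le_inducedFunctor hRp (by rw [← conj_smul_eq_map]; exact conj_smul_of_mem_normalizer (hRnorm hc))
  rcases (h x hx hxZ).le_iff.1 hXnorm with hX' | hX'
  · haveI := (hRp.to_le hXR).isNilpotent
    exact ⟨X, Subgroup.normalizer_eq_top_iff.1 hX', hXR.trans hRN, fun e => hxZ (e hxX), inferInstance⟩
  have hnpc : HasNormalPComplement p N := by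
    refine S0659.result hp2 T ?_
    set Y := Cfsg.centerThompsonAOf (T : Subgroup N) with hY
    have hYX : Y.map N.subtype = X := by
      rw [hX, ← hTR, hY, ← Fusion.inducedFunctor_wZA]
      exact (Fusion.inducedFunctor_map_of_injOn (Fusion.isCharPFunctor_wZA (p := p)) N.subtype
        N.subtype_injective.injOn T.isPGroup').symm
    have hle : ∀ g : Subgroup.normalizer (Y : Set N), ((g : N) : G) ∈ K := by
      intro g
      refine ⟨(g : N).2, hX'.le ?_⟩
      refine mem_normalizer_of_conj_smul ?_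
      rw [← hYX, ← N.subtype_apply, ← map_conj_smul, conj_smul_of_mem_normalizer g.2]
    refine Fusion.hnpc_of_injective ((N.subtype.comp (Subgroup.normalizer (Y : Set N)).subtype).codRestrict K hle)
      (fun a b hab => Subtype.ext (Subtype.ext (by exact congrArg (fun z : K => (z : G)) hab))) ?_
    exact Fusion.hnpc_of_isNilpotent
  set L0 := Cfsg.pResidual p N with hL0
  haveI : L0.Characteristic := by
    rw [Subgroup.characteristic_iff_map_eq]
    exact fun φ => Fusion.map_pResidual_of_surjective φ.toMonoidHom φ.surjective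
  set L := L0.map N.subtype with hL
  haveI hLn : L.Normal := map_subtype_normal_of_characteristic N L0
  have hLN : L ≤ N := Subgroup.map_subtype_le _
  have hcop := Fusion.hnpc_iff.1 hnpc
  by_cases hLZ : L ≤ zc N
  · exfalso
    apply hnil
    refine nilpotent_of_central (p := p) fun q hq hne w j hw => ?_
    rw [mem_center_subtype]
    exact hLZ ⟨w, Subgroup.subset_closure (show (orderOf w).Coprime p by
      rw [hw]; exact ((Nat.coprime_primes hq.out hp).2 hne).pow_left j), rfl⟩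
  have hlt : Nat.card L < n := by
    rw [← hn]
    refine (lt_of_le_of_ne (Nat.le_of_dvd Nat.card_pos (Subgroup.card_dvd_of_le hLN))) fun e => ?_
    have hd : p ∣ Nat.card N := by
      have h1 : orderOf x ∣ Nat.card N := Subgroup.orderOf_dvd_natCard N hx
      rcases k with _ | k
      · rw [pow_zero, orderOf_eq_one_iff] at hxk
        exact absurd (hxk ▸ one_mem (zc N)) hxZ
      · rw [hxk] at h1
        exact (dvd_pow_self p (Nat.succ_ne_zero k)).trans h1
    rw [← e, hL, Subgroup.card_map_of_injective N.subtype_injective] at hd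
    exact ((Fusion.coprime_card_iff_not_dvd).1 hcop) hd
  have hzL : ∀ w ∈ L, w ∈ zc N → w ∈ zc L := fun w hw hz =>
    mem_zc.2 ⟨hw, fun m hm => (mem_zc.1 hz).2 m (hLN hm)⟩
  by_cases hLab : L ≤ zc L
  · refine ⟨L, hLn, hLN, hLZ, ?_⟩
    exact Group.isSolvable_of_comm fun a b => Subtype.ext ((mem_zc.1 (hLab b.2)).2 a a.2).eq
  obtain ⟨R', hR'n, hR'L, hR'Z, hR's⟩ := ih _ hlt G L rfl
    (fun w hw hwZ => h w (hLN hw) fun hz => hwZ (hzL w hw hz)) hLab
  exact ⟨R', hR'n, hR'L.trans hLN, fun e => hR'Z fun w hw => hzL w (hR'L hw) (e hw), hR's⟩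

/-- the structure in the non-nilpotent case -/
theorem structure_thm [Finite G] (N : Subgroup G) [N.Normal] (h : Hyp N) (hnil : ¬ Group.IsNilpotent N) :
    ∃ (A : Subgroup G) (p r : ℕ), A.Normal ∧ p.Prime ∧ r.Prime ∧ p ≠ r ∧ zc N ≤ A ∧ A ≤ N ∧ A ≠ N ∧
      A ≠ zc N ∧ (∀ a ∈ A, ∀ b ∈ A, Commute a b) ∧ (∀ a ∈ A, a ^ p ∈ zc N) ∧ (∀ n ∈ N, n ^ r ∈ A) ∧
      (∀ a ∈ A, ∀ n ∈ N, a * n * a⁻¹ * n⁻¹ ∈ zc N → a ∈ zc N ∨ n ∈ A) ∧
      (∀ K : Subgroup G, K.Normal → zc N ≤ K → K ≤ A → K = zc N ∨ K = A) := by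
  classical
  have hNZ : ¬ N ≤ zc N := fun e => hnil (by
    exact nilpotent_of_comm fun a b => Subtype.ext ((mem_zc.1 (e b.2)).2 a a.2).eq)
  obtain ⟨R, hRn, hRN, hRZ, hRs⟩ := exists_solvable _ G N rfl h hNZ
  haveI := hRn
  set Z := zc N with hZ
  set π := QuotientGroup.mk' Z with hπ
  have hπm : ∀ g : G, π g = 1 ↔ g ∈ Z := fun g => QuotientGroup.eq_one_iff g
  have hπc : ∀ a b : G, Commute (π a) (π b) ↔ a * b * a⁻¹ * b⁻¹ ∈ Z := fun a b => by
    rw [← hπm, map_mul, map_mul, map_mul, map_inv, map_inv]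
    exact (commutatorElement_eq_one_iff_commute (g₁ := π a) (g₂ := π b)).symm
  have hRZne : R ⊔ Z ≠ Z := fun e => hRZ (e ▸ le_sup_left)
  obtain ⟨A, hAn, hZA, hAR, hAne, hAmin⟩ := exists_minimal_over Z (R ⊔ Z) le_sup_right hRZne
  haveI := hAn
  have hAN : A ≤ N := hAR.trans (sup_le hRN inf_le_left)
  have hsolA : Group.IsSolvable (A.map π) := by
    refine solvable_le (B := R.map π) ?_ ?_
    · rintro _ ⟨a, ha, rfl⟩
      obtain ⟨b, hb, c, hc, e⟩ : ∃ b ∈ R, ∃ c ∈ Z, a = b * c := by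
        have hm : a ∈ ((R ⊔ Z : Subgroup G) : Set G) := hAR ha
        rw [Subgroup.normal_mul] at hm
        obtain ⟨b, hb, c, hc, e⟩ := hm
        exact ⟨b, hb, c, hc, e.symm⟩
      exact ⟨b, hb, by rw [e, map_mul, (hπm c).2 hc, mul_one]⟩
    · haveI := hRs
      exact Group.isSolvable_of_surjective (MonoidHom.subgroupMap_surjective π R)
  obtain ⟨hAc, p, hp, hAp⟩ := chief_exponent Z A hZA hAne hsolA hAmin
  -- the dichotomy
  have dich : ∀ (B : Subgroup G), B.Normal → Z ≤ B → B ≤ N → (∀ a ∈ B, ∀ b ∈ B, a * b * a⁻¹ * b⁻¹ ∈ Z) →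
      (∀ K : Subgroup G, K.Normal → Z ≤ K → K ≤ B → K = Z ∨ K = B) → ∀ u ∈ N, ¬ B ≤ C u →
      B ⊔ C u = ⊤ ∧ B ⊓ C u = Z ∧
        ((∀ b ∈ B, Commute (π b) (π u)) ∨ ∀ b ∈ B, Commute (π b) (π u) → b ∈ Z) := by
    intro B hBn hZB hBN hBc hBmin u hu hBu
    haveI := hBn
    have huZ : u ∉ Z := fun hz => hBu fun b hb => mem_C.2 ((mem_zc.1 hz).2 b (hBN hb)).symm
    have htop := sup_C_eq_top (h u hu huZ) hBu
    have hnorm : ∀ X : Subgroup G, Z ≤ X → X ≤ B → C u ≤ Subgroup.normalizer (X : Set G) → X.Normal := by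
      intro X hZX hXB hCX
      refine normal_of_normalized htop (fun b hb => mem_normalizer_of_conj_smul ?_) hCX
      refine Subgroup.eq_of_le_of_card_ge (fun w hw => ?_) (by rw [card_conj_smul])
      rw [mem_conj_smul] at hw
      have e : w = (b * (b⁻¹ * w * b) * b⁻¹ * (b⁻¹ * w * b)⁻¹) * (b⁻¹ * w * b) := by group
      rw [e]
      exact mul_mem (hZX (hBc b hb _ (hXB hw))) hw
    refine ⟨htop, ?_, ?_⟩
    · rcases hBmin (B ⊓ C u) (hnorm _ (le_inf hZB (zc_le_C hu)) inf_le_left (le_normalizer_inf_C u B))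
          (le_inf hZB (zc_le_C hu)) inf_le_left with e | e
      · exact e
      · exact absurd (e ▸ inf_le_right) hBu
    · set X := B ⊓ (Subgroup.centralizer ({π u} : Set (G ⧸ Z))).comap π with hXd
      have hmem : ∀ b, b ∈ X ↔ b ∈ B ∧ Commute (π b) (π u) := by
        intro b
        rw [hXd, Subgroup.mem_inf, Subgroup.mem_comap, Subgroup.mem_centralizer_iff]
        exact ⟨fun h' => ⟨h'.1, (h'.2 _ rfl).symm⟩, fun h' => ⟨h'.1, fun a ha => by
          rw [Set.mem_singleton_iff.1 ha]; exact h'.2.eq.symm⟩⟩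
      have hZX : Z ≤ X := fun z hz => (hmem z).2 ⟨hZB hz, by rw [(hπm z).2 hz]; exact Commute.one_left _⟩
      have hCX : C u ≤ Subgroup.normalizer (X : Set G) := by
        intro c hc
        refine mem_normalizer_of_conj_smul (Subgroup.eq_of_le_of_card_ge (fun w hw => ?_) (by rw [card_conj_smul]))
        rw [mem_conj_smul, hmem] at hw
        refine (hmem w).2 ⟨?_, ?_⟩
        · have e : w = c * (c⁻¹ * w * c) * c⁻¹ := by group
          rw [e]; exact hBn.conj_mem _ hw.1 c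
        · have h1 := hw.2.map (MulAut.conj (π c))
          simp only [MulAut.conj_apply] at h1
          rw [← map_inv, ← map_mul, ← map_mul, ← map_mul, ← map_mul] at h1
          have e1 : c * (c⁻¹ * w * c) * c⁻¹ = w := by group
          have e2 : c * u * c⁻¹ = u := by rw [← (mem_C.1 hc).eq, mul_assoc, mul_inv_cancel, mul_one]
          rwa [e1, e2] at h1
      rcases hBmin X (hnorm X hZX inf_le_left hCX) hZX inf_le_left with e | e
      · exact Or.inr fun b hb hc => e.le ((hmem b).2 ⟨hb, hc⟩)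
      · exact Or.inl fun b hb => ((hmem b).1 (e.ge hb)).2
  -- A is abelian
  have hAab : ∀ a ∈ A, ∀ b ∈ A, Commute a b := by
    intro a ha b hb
    by_contra hab
    have h1 : ¬ A ≤ C a := fun e => hab (mem_C.1 (e hb))
    have h2 := (dich A hAn hZA hAN hAc hAmin a (hAN ha) h1).2.1
    exact hab ((mem_zc.1 (h2.le ⟨ha, mem_C.2 (Commute.refl a)⟩)).2 b (hAN hb)).symm
  -- N' ≤ A
  have hkey : ∀ u ∈ N, ¬ A ≤ C u → ∀ n ∈ N, n * u * n⁻¹ * u⁻¹ ∈ A := by
    intro u hu hAu n _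
    obtain ⟨a, ha, c, hc, rfl⟩ := decomp (dich A hAn hZA hAN hAc hAmin u hu hAu).1 n
    have e : a * c * u * (a * c)⁻¹ * u⁻¹ = a * (c * u * c⁻¹) * a⁻¹ * u⁻¹ := by group
    rw [e, ← (mem_C.1 hc).eq, mul_assoc u c, mul_inv_cancel, mul_one, mul_assoc (a * u), mul_assoc a]
    refine mul_mem ha ?_
    have := hAn.conj_mem _ (inv_mem ha) u
    simpa [mul_assoc] using this
  obtain ⟨a0, ha0, ha0Z⟩ := SetLike.exists_of_lt (lt_of_le_of_ne hZA (Ne.symm hAne))
  obtain ⟨u0, hu0, hu0a⟩ := SetLike.not_le_iff_exists.1 (not_le_C (hAN ha0) ha0Z)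
  have hAu0 : ¬ A ≤ C u0 := fun e => hu0a (mem_C.2 (mem_C.1 (e ha0)).symm)
  have hN'A : ∀ n ∈ N, ∀ v ∈ N, n * v * n⁻¹ * v⁻¹ ∈ A := by
    intro n hn v hv
    by_cases hAv : A ≤ C v
    · have h1 : ¬ A ≤ C (v * u0) := fun e => hAu0 fun a ha => mem_C.2 (by
        have := (mem_C.1 (hAv ha)).symm.inv_right.mul_right (mem_C.1 (e ha)).symm
        exact ((by simpa using this : Commute a u0)).symm)
      have h2 := hkey (v * u0) (mul_mem hv hu0) h1 n hn
      have h3 := hkey u0 hu0 hAu0 n hn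
      have e : n * v * n⁻¹ * v⁻¹ = (n * (v * u0) * n⁻¹ * (v * u0)⁻¹) *
          (v * (n * u0 * n⁻¹ * u0⁻¹)⁻¹ * v⁻¹) := by group
      rw [e]; exact mul_mem h2 (hAn.conj_mem _ (inv_mem h3) v)
    · exact hkey v hv hAv n hn
  -- the subgroup S
  set S := N ⊓ (Subgroup.centralizer ((A.map π : Subgroup (G ⧸ Z)) : Set (G ⧸ Z))).comap π with hSd
  haveI : (A.map π).Normal := Subgroup.Normal.map inferInstance π (QuotientGroup.mk'_surjective Z)
  haveI hSn : S.Normal := inferInstance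
  have hmemS : ∀ s, s ∈ S ↔ s ∈ N ∧ ∀ a ∈ A, Commute (π a) (π s) := by
    intro s
    rw [hSd, Subgroup.mem_inf, Subgroup.mem_comap, Subgroup.mem_centralizer_iff]
    refine and_congr_right fun _ => ⟨fun h' a ha => h' _ (Subgroup.mem_map_of_mem π ha), ?_⟩
    rintro h' _ ⟨a, ha, rfl⟩
    exact h' a ha
  have hAS : A ≤ S := fun a ha => (hmemS a).2 ⟨hAN ha, fun b hb => (hπc b a).2 (hAc b hb a ha)⟩
  have hnilsub : ∀ T : Subgroup G, T ≤ S → Group.IsNilpotent T := by
    intro T hT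
    rw [Subgroup.nilpotent_iff_lowerCentralSeries]
    refine ⟨3, ?_⟩
    rw [eq_bot_iff, Subgroup.lowerCentralSeries_succ, Subgroup.commutator_le]
    intro w hw t _
    have h2 : (w : G) ∈ Z := by
      rw [Subgroup.lowerCentralSeries_succ] at hw
      refine (Subgroup.commutator_le (H₃ := Z.subgroupOf T)).2 ?_ hw
      intro a ha b _
      rw [Subgroup.lowerCentralSeries_succ, Subgroup.lowerCentralSeries_zero] at ha
      have h1 : (a : G) ∈ A := (Subgroup.commutator_le (H₃ := A.subgroupOf T)).2 (fun c _ d _ =>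
        hN'A c ((hmemS _).1 (hT c.2)).1 d ((hmemS _).1 (hT d.2)).1) ha
      exact (hπc (a : G) b).1 (((hmemS _).1 (hT b.2)).2 a h1)
    exact Subgroup.mem_bot.2 (commutatorElement_eq_one_iff_commute.2
      (Subtype.ext ((mem_zc.1 h2).2 t ((hmemS _).1 (hT t.2)).1).eq.symm))
  obtain ⟨u, hu, huS⟩ : ∃ u ∈ N, u ∉ S := by
    by_contra hno
    push Not at hno
    exact hnil (hnilsub N hno)
  have hAu : ¬ A ≤ C u := fun e => huS ((hmemS u).2 ⟨hu, fun a ha => (mem_C.1 (e ha)).symm.map π⟩)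
  have huZ : u ∉ Z := fun hz => huS (hAS (hZA hz))
  have hSnil := hnilsub S le_rfl
  haveI hWn : (S ⊓ C u).Normal := inf_C_normal (h u hu huZ) S hSnil fun e => hAu (hAS.trans e)
  have hWZ : S ⊓ C u = Z := by
    by_contra hne
    obtain ⟨B, hBn, hZB, hBW, hBne, hBmin⟩ := exists_minimal_over Z (S ⊓ C u)
      (le_inf (hZA.trans hAS) (zc_le_C hu)) hne
    have hBA : B ⊓ A ≤ Z := fun b hb =>
      (dich A hAn hZA hAN hAc hAmin u hu hAu).2.1.le ⟨hb.2, (hBW hb.1).2⟩
    have hBN : B ≤ N := fun b hb => (hBW hb).1.1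
    have hBc : ∀ a ∈ B, ∀ b ∈ B, a * b * a⁻¹ * b⁻¹ ∈ Z := fun a ha b hb =>
      hBA ⟨B.mul_mem (B.mul_mem (B.mul_mem ha hb) (B.inv_mem ha)) (B.inv_mem hb), hN'A a (hBN ha) b (hBN hb)⟩
    have hout : ∀ v ∈ N, v ∉ S → B ≤ C v := by
      intro v hv hvS
      by_contra hBv
      apply hvS
      refine (hmemS v).2 ⟨hv, fun a ha => (hπc a v).2 (hBA ⟨?_, ?_⟩)⟩
      · haveI := hBn
        obtain ⟨b, hb, c, hc, e⟩ := decomp (dich B hBn hZB hBN hBc hBmin v hv hBv).1 a
        subst e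
        have e : b * c * v * (b * c)⁻¹ * v⁻¹ = b * (c * v * c⁻¹) * b⁻¹ * v⁻¹ := by group
        rw [e, ← (mem_C.1 hc).eq, mul_assoc v c, mul_inv_cancel, mul_one, mul_assoc (b * v), mul_assoc b]
        refine mul_mem hb ?_
        have := hBn.conj_mem _ (inv_mem hb) v
        simpa [mul_assoc] using this
      · exact hN'A a (hAN ha) v hv
    apply hBne
    refine le_antisymm (fun b hb => mem_zc.2 ⟨hBN hb, fun v hv => ?_⟩) hZB
    by_cases hvS : v ∈ S
    · have h1 : v * u ∉ S := fun e => huS ((mul_mem_cancel_left hvS).1 e)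
      have := (mem_C.1 (hout _ (mul_mem hv hu) h1 hb)).mul_left (mem_C.1 (hout u hu huS hb)).inv_left
      simpa using this
    · exact mem_C.1 (hout v hv hvS hb)
  have hSA : S = A := by
    refine le_antisymm (fun s hs => ?_) hAS
    obtain ⟨a, ha, c, hc, rfl⟩ := decomp (dich A hAn hZA hAN hAc hAmin u hu hAu).1 s
    exact mul_mem ha (hZA (hWZ.le ⟨(mul_mem_cancel_left (hAS ha)).1 hs, hc⟩))
  have hANne : A ≠ N := fun e => huS (hAS (e.ge hu))
  have hfpf : ∀ a ∈ A, ∀ n ∈ N, a * n * a⁻¹ * n⁻¹ ∈ Z → a ∈ Z ∨ n ∈ A := by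
    intro a ha n hn hc
    by_cases hnA : n ∈ A
    · exact Or.inr hnA
    left
    have hnS : n ∉ S := hSA ▸ hnA
    have hAnC : ¬ A ≤ C n := fun e => hnS ((hmemS n).2 ⟨hn, fun b hb => (mem_C.1 (e hb)).symm.map π⟩)
    rcases (dich A hAn hZA hAN hAc hAmin n hn hAnC).2.2 with h' | h'
    · exact absurd ((hmemS n).2 ⟨hn, h'⟩) hnS
    · exact h' a ha ((hπc a n).2 hc)
  obtain ⟨r, hr, hNr⟩ : ∃ r : ℕ, r.Prime ∧ ∀ n ∈ N, n ^ r ∈ A := by
    have hM := h a0 (hAN ha0) ha0Z
    have hMN : ∀ n ∈ N, n ∈ C a0 → n ∈ A := fun n hn hc => (hfpf a0 ha0 n hn (by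
      have e : a0 * n * a0⁻¹ * n⁻¹ = 1 := commutatorElement_eq_one_iff_commute.2 (mem_C.1 hc)
      rw [e]; exact one_mem Z)).resolve_left ha0Z
    have hAM : A ≤ C a0 := fun b hb => mem_C.2 (hAab a0 ha0 b hb)
    have hsolN : Group.IsSolvable (N.map (QuotientGroup.mk' A)) := Group.isSolvable_of_comm fun x y => by
      obtain ⟨n, hn, hxn⟩ := x.2
      obtain ⟨v, hv, hyv⟩ := y.2
      apply Subtype.ext
      show (x : G ⧸ A) * y = y * x
      rw [← hxn, ← hyv]
      have h1 := (QuotientGroup.eq_one_iff (N := A) _).2 (hN'A n hn v hv)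
      change QuotientGroup.mk' A (n * v * n⁻¹ * v⁻¹) = 1 at h1
      rw [map_mul, map_mul, map_mul, map_inv, map_inv] at h1
      exact (commutatorElement_eq_one_iff_commute.1 h1).eq
    refine (chief_exponent A N hAN (Ne.symm hANne) hsolN fun K hK hAK hKN => ?_).2
    by_cases hKM : K ≤ C a0
    · exact Or.inl (le_antisymm (fun w hw => hMN w (hKN hw) (hKM hw)) hAK)
    · refine Or.inr (le_antisymm hKN fun n hn => ?_)
      haveI := hK
      obtain ⟨b, hb, c, hc, rfl⟩ := decomp (sup_C_eq_top hM hKM) n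
      exact mul_mem hb (hAK (hMN c ((mul_mem_cancel_left (hKN hb)).1 hn) hc))
  have hpr : p ≠ r := by
    rintro rfl
    apply hnil
    haveI := Fact.mk hp
    refine nilpotent_of_central (p := p) fun q hq hne w j hw => ?_
    rw [mem_center_subtype]
    have h1 : (w : G) ^ (p * p) ∈ Z := by rw [pow_mul]; exact hAp _ (hNr _ w.2)
    have hco : (q ^ j).Coprime (p * p) := (((Nat.coprime_primes hq.out hp).2 hne).mul_right
      ((Nat.coprime_primes hq.out hp).2 hne)).pow_left j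
    obtain ⟨m, hm⟩ := exists_pow_eq_self_of_coprime (x := (w : G)) (n := p * p) (by
      rw [Subgroup.orderOf_coe, hw]; exact hco.symm)
    rw [← hm]; exact pow_mem h1 m
  exact ⟨A, p, r, hAn, hp, hr, hpr, hZA, hAN, hANne, hAne, hAab, hAp, hNr, hfpf, hAmin⟩

end Cfsg.Agent.Solv.MaxCentralizer

namespace Cfsg.Agent.Solv.MaxCentralizer

/-- complements in a group `Q` with a fixed-point-free abelian normal subgroup `K` of prime index exponent -/
theorem complement_prime {Q : Type*} [Group Q] [Finite Q] (K : Subgroup Q) [K.Normal] [IsMulCommutative K]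
    {p r : ℕ} (hp : p.Prime) (hr : r.Prime) (hpr : p ≠ r) (hKb : K ≠ ⊥) (hKt : K ≠ ⊤)
    (hexp : ∀ a ∈ K, a ^ p = 1) (hidx : ∀ q : Q, q ^ r ∈ K)
    (hfpf : ∀ a ∈ K, ∀ q : Q, Commute a q → a = 1 ∨ q ∈ K) :
    ∃ E : Subgroup Q, K.IsComplement' E ∧ Nat.card E = r ∧ E ≠ ⊥ ∧
      ∀ h ∈ E, h ≠ 1 → K ⊓ Subgroup.centralizer {h} = ⊥ := by
  haveI := Fact.mk hr
  haveI := Fact.mk hp
  obtain ⟨E⟩ : Nonempty (Sylow r Q) := inferInstance
  have hdisj : ∀ x ∈ K, x ∈ (E : Subgroup Q) → x = 1 := by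
    intro x hx hxE
    obtain ⟨k, hk⟩ := IsPGroup.iff_orderOf.1 E.isPGroup' ⟨x, hxE⟩
    rw [← Subgroup.orderOf_coe] at hk
    exact orderOf_eq_one_iff.1 (Nat.eq_one_of_dvd_coprimes
      (((Nat.coprime_primes hp hr).2 hpr).pow_right k) (orderOf_dvd_of_pow_eq_one (hexp x hx))
      (dvd_of_eq hk))
  have hQK : IsPGroup r (Q ⧸ K) := fun q => by
    refine ⟨1, ?_⟩
    obtain ⟨x, rfl⟩ := QuotientGroup.mk'_surjective K q
    rw [pow_one, ← map_pow]
    exact (QuotientGroup.eq_one_iff _).2 (hidx x)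
  have htop : (E : Subgroup Q).map (QuotientGroup.mk' K) = ⊤ :=
    ((E.mapSurjective (QuotientGroup.mk'_surjective K)).is_maximal' (hQK.to_subgroup ⊤) le_top).symm
  have hsup : K ⊔ (E : Subgroup Q) = ⊤ := by
    rw [eq_top_iff]
    intro q _
    have hm : QuotientGroup.mk' K q ∈ (E : Subgroup Q).map (QuotientGroup.mk' K) := htop ▸ Subgroup.mem_top _
    obtain ⟨e, he, heq⟩ := hm
    have h1 : q * e⁻¹ ∈ K := (QuotientGroup.eq_one_iff _).1 (by
      show QuotientGroup.mk' K (q * e⁻¹) = 1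
      rw [map_mul, map_inv, heq, mul_inv_cancel])
    have e1 : q = q * e⁻¹ * e := by group
    rw [e1]; exact mul_mem (Subgroup.mem_sup_left h1) (Subgroup.mem_sup_right he)
  have hc : K.IsComplement' (E : Subgroup Q) := by
    refine Subgroup.isComplement'_of_disjoint_and_mul_eq_univ ?_ ?_
    · rw [Subgroup.disjoint_def]; exact fun {x} h1 h2 => hdisj x h1 h2
    · rw [← Subgroup.normal_mul, hsup]; rfl
  have hfix : ∀ h ∈ (E : Subgroup Q), h ≠ 1 → K ⊓ Subgroup.centralizer {h} = ⊥ := by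
    intro h hh h1
    rw [eq_bot_iff]
    rintro v ⟨hv, hvc⟩
    exact Subgroup.mem_bot.2 ((hfpf v hv h (Subgroup.mem_centralizer_iff.1 hvc h rfl).symm).resolve_right
      fun hK' => h1 (hdisj h hK' hh))
  have hEb : (E : Subgroup Q) ≠ ⊥ := fun e => hKt (by rwa [e, sup_bot_eq] at hsup)
  refine ⟨E, hc, le_antisymm (EPPO.elementary_fpf_card_le hKb (fun x hx => hdisj _ (hidx x) (pow_mem hx r))
    (by rw [Subgroup.normalizer_eq_top_iff.2 ‹K.Normal›]; exact le_top) hfix) ?_, hEb, hfix⟩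
  haveI := (Subgroup.nontrivial_iff_ne_bot _).2 hEb
  obtain ⟨n, hn0, hn⟩ := E.isPGroup'.nontrivial_iff_card.1 ‹_›
  rw [hn]
  exact Nat.le_self_pow hn0.ne' r

end Cfsg.Agent.Solv.MaxCentralizer
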