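import Cfsg.Agent.Lib.Solv.Coprime
import Cfsg.Agent.Lib.Solv.Cores
import Mathlib.RingTheory.IntegralDomain

/-!
Coprime action of an abelian group: generation by centralisers of subgroups with cyclic quotient.
-/

set_option autoImplicit false

open scoped Pointwise commutatorElement

namespace Cfsg.Agent.Solv

universe u

/-- An abelian group acting irreducibly on a finite abelian group has cyclic image. -/
theorem exists_gen_mod_ker {A V : Type*} [CommGroup A] [Finite A] [CommGroup V] [Nontrivial V]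
    (g : A → (V →* V)) (hone : ∀ v, g 1 v = v) (hmul : ∀ a b v, g (a * b) v = g a (g b v))
    (hirr : ∀ W : Subgroup V, (∀ a, ∀ w ∈ W, g a w ∈ W) → W = ⊥ ∨ W = ⊤) :
    ∃ a : A, ∀ x : A, ∃ i : ℤ, ∀ v, g (x * a ^ i) v = v := by
  let E := AddMonoid.End (Additive V)
  let h : A →* E :=
    { toFun := fun a => MonoidHom.toAdditive (g a)
      map_one' := by
        refine AddMonoidHom.ext fun v => ?_
        exact congrArg Additive.ofMul (hone (Additive.toMul v))
      map_mul' := fun a b => by
        refine AddMonoidHom.ext fun v => ?_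
        exact congrArg Additive.ofMul (hmul a b (Additive.toMul v)) }
  let R : Subring E := Subring.closure (Set.range h)
  have hc : ∀ r ∈ R, ∀ s ∈ R, r * s = s * r := by
    have h1 : R ≤ Subring.centralizer (Set.range h) := by
      refine Subring.closure_le.2 ?_
      rintro _ ⟨a, rfl⟩
      rw [SetLike.mem_coe, Subring.mem_centralizer_iff]
      rintro _ ⟨b, rfl⟩
      rw [← map_mul, ← map_mul, mul_comm]
    have h2 : R ≤ Subring.centralizer (R : Set E) := by
      refine Subring.closure_le.2 ?_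
      rintro _ ⟨a, rfl⟩
      rw [SetLike.mem_coe, Subring.mem_centralizer_iff]
      intro r hr
      exact (Subring.mem_centralizer_iff.1 (h1 hr) (h a) ⟨a, rfl⟩).symm
    intro r hr s hs
    exact (Subring.mem_centralizer_iff.1 (h2 hr) s hs).symm
  letI : CommRing R := { (inferInstance : Ring R) with mul_comm := fun r s => Subtype.ext (hc _ r.2 _ s.2) }
  have hinj : ∀ r : R, r ≠ 0 → ∀ v : Additive V, (r : E) v = 0 → v = 0 := by
    intro r hr v hv
    let W : Subgroup V :=
      { carrier := {w | (r : E) (Additive.ofMul w) = 0}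
        one_mem' := map_zero (r : E)
        mul_mem' := fun {x y} hx hy => by
          show (r : E) (Additive.ofMul (x * y)) = 0
          rw [ofMul_mul, map_add, hx, hy, add_zero]
        inv_mem' := fun {x} hx => by
          show (r : E) (Additive.ofMul x⁻¹) = 0
          rw [ofMul_inv, map_neg, hx, neg_zero] }
    have hW : ∀ a, ∀ w ∈ W, g a w ∈ W := by
      intro a w hw
      have e := congrArg (fun t : E => t (Additive.ofMul w))
        (hc _ r.2 (h a) (Subring.subset_closure ⟨a, rfl⟩))
      show (r : E) (h a (Additive.ofMul w)) = 0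
      refine e.trans ?_
      show h a ((r : E) (Additive.ofMul w)) = 0
      rw [show (r : E) (Additive.ofMul w) = 0 from hw, map_zero]
    rcases hirr W hW with h0 | h0
    · have : Additive.toMul v ∈ W := hv
      rw [h0, Subgroup.mem_bot] at this
      exact this
    · refine absurd (Subtype.ext ?_) hr
      refine AddMonoidHom.ext fun u => ?_
      have : Additive.toMul u ∈ W := h0 ▸ Subgroup.mem_top _
      exact this
  have hnt : Nontrivial R := by
    refine ⟨1, 0, fun e => ?_⟩
    obtain ⟨v, hv⟩ := exists_ne (1 : V)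
    exact hv (congrArg (fun t : R => (t : E) (Additive.ofMul v)) e)
  have hnz : NoZeroDivisors R := ⟨fun {r s} hrs => by
    by_cases hr : r = 0
    · exact Or.inl hr
    refine Or.inr (Subtype.ext (AddMonoidHom.ext fun v => hinj r hr _ ?_))
    exact congrArg (fun t : R => (t : E) v) hrs⟩
  have : IsDomain R := NoZeroDivisors.to_isDomain R
  let h' : A →* R :=
    { toFun := fun a => ⟨h a, Subring.subset_closure ⟨a, rfl⟩⟩
      map_one' := Subtype.ext (map_one h)
      map_mul' := fun a b => Subtype.ext (map_mul h a b) }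
  let k : A →* Rˣ := h'.toHomUnits
  have : IsCyclic (A ⧸ k.ker) :=
    isCyclic_of_injective_ringHom ((Units.coeHom R).comp (QuotientGroup.kerLift k))
      (Units.val_injective.comp (QuotientGroup.kerLift_injective k))
  obtain ⟨q, hq⟩ := IsCyclic.exists_generator (α := A ⧸ k.ker)
  obtain ⟨a, rfl⟩ := QuotientGroup.mk_surjective q
  refine ⟨a, fun x => ?_⟩
  obtain ⟨i, hi⟩ := hq (x : A ⧸ k.ker)
  refine ⟨-i, fun v => ?_⟩
  have h1 : x * a ^ (-i) ∈ k.ker := by
    rw [← QuotientGroup.eq_one_iff, QuotientGroup.mk_mul, QuotientGroup.mk_zpow, ← hi]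
    simp
  have h2 : h (x * a ^ (-i)) = 1 := congrArg (fun t : Rˣ => ((t : R) : E)) (MonoidHom.mem_ker.1 h1)
  exact congrArg Additive.toMul (congrArg (fun t : E => t (Additive.ofMul v)) h2)

variable {G : Type u} [Group G]

/-- Subgroups `B` of `A` with `A / B` cyclic. -/
def CycQuot (A : Subgroup G) : Set (Subgroup G) :=
  {B : Subgroup G | B ≤ A ∧ ∃ a ∈ A, B ⊔ Subgroup.zpowers a = A}

theorem normalizer_biSup_le {ι : Type*} (s : Set ι) (f : ι → Subgroup G) {x : G}
    (h : ∀ i ∈ s, x ∈ Subgroup.normalizer (f i : Set G)) :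
    x ∈ Subgroup.normalizer ((⨆ i ∈ s, f i : Subgroup G) : Set G) := by
  refine mem_normalizer_of_conj_smul ?_
  rw [conj_smul_eq_map]
  simp only [Subgroup.map_iSup]
  refine iSup_congr fun i => iSup_congr fun hi => ?_
  rw [← conj_smul_eq_map]
  exact conj_smul_of_mem_normalizer (h i hi)

theorem gen_pgroup [Finite G] {p : ℕ} [Fact p.Prime] (A : Subgroup G) (hA : IsMulCommutative A) :
    ∀ (n : ℕ) (K : Subgroup G), Nat.card K = n → IsPGroup p K →
      A ≤ Subgroup.normalizer (K : Set G) → (Nat.card A).Coprime (Nat.card K) →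
      K ≤ ⨆ B ∈ CycQuot A, K ⊓ Subgroup.centralizer (B : Set G) := by
  intro n
  induction n using Nat.strong_induction_on with
  | _ n ih =>
    intro K hn hK hAK hco
    rcases eq_or_ne K ⊥ with rfl | hKb
    · exact bot_le
    obtain ⟨M, -, hMmax⟩ := Finite.exists_le_maximal
      (p := fun M : Subgroup G => M < K ∧ A ≤ Subgroup.normalizer (M : Set G)) (a := ⊥)
      ⟨bot_lt_iff_ne_bot.2 hKb, by rw [Subgroup.normalizer_eq_top]; exact le_top⟩
    obtain ⟨hMK, hAM⟩ := hMmax.1
    have hKM : K ≤ Subgroup.normalizer (M : Set G) := by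
      by_contra hne
      have hlt : M < K ⊓ Subgroup.normalizer (M : Set G) := by
        refine lt_of_le_of_ne (le_inf hMK.le Subgroup.le_normalizer) fun e => ?_
        have := hK.isNilpotent
        have hlt := Group.normalizerCondition_of_isNilpotent (G := K) (M.subgroupOf K)
          (lt_top_iff_ne_top.2 fun h => hMK.not_ge (Subgroup.subgroupOf_eq_top.1 h))
        refine hlt.not_ge fun x hx => ?_
        have h3 := Subgroup.le_normalizer_map K.subtype ⟨x, hx, rfl⟩
        rw [Subgroup.map_subgroupOf_eq_of_le hMK.le] at h3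
        rw [Subgroup.mem_subgroupOf, e]
        exact ⟨x.2, h3⟩
      have hinv : A ≤ Subgroup.normalizer ((K ⊓ Subgroup.normalizer (M : Set G) : Subgroup G) : Set G) := by
        intro a ha
        refine mem_normalizer_of_conj_smul ?_
        rw [Subgroup.smul_inf, conj_smul_of_mem_normalizer (hAK ha),
          Subgroup.conj_smul_eq_self_of_mem (hAM ha)]
      refine hlt.not_ge (hMmax.2 ⟨lt_of_le_of_ne inf_le_left fun e => hne ?_, hinv⟩ hlt.le)
      exact e.ge.trans inf_le_right
    have hMn : (M.subgroupOf K).Normal := Subgroup.normal_subgroupOf_of_le_normalizer hKM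
    set J := ⨆ B ∈ CycQuot A, K ⊓ Subgroup.centralizer (B : Set G) with hJ
    have hMJ : M ≤ J := by
      refine (ih _ (hn ▸ card_lt_of_lt hMK) M rfl (hK.to_le hMK.le) hAM
        (hco.coprime_dvd_right (Subgroup.card_dvd_of_le hMK.le))).trans ?_
      exact iSup₂_mono fun B _ => inf_le_inf_right _ hMK.le
    -- the action of `A` on `K / M`
    letI : CommGroup A :=
      { (inferInstance : Group A) with mul_comm := hA.is_comm.comm }
    set mk := QuotientGroup.mk' (M.subgroupOf K) with hmk
    let φ : A → (K →* K) := fun a =>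
      ((MulAut.conj (a : G)).toMonoidHom.comp K.subtype).codRestrict K fun k =>
        conj_mem_of_mem_normalizer (hAK a.2) k.2
    have hφ : ∀ (a : A) (k : K), ((φ a k : K) : G) = a * k * (a : G)⁻¹ := fun a k => rfl
    let g : A → ((K ⧸ M.subgroupOf K) →* (K ⧸ M.subgroupOf K)) := fun a =>
      QuotientGroup.map _ _ (φ a) fun k hk => conj_mem_of_mem_normalizer (hAM a.2) hk
    have hg : ∀ (a : A) (k : K), g a (mk k) = mk (φ a k) := fun a k => rfl
    have hone : ∀ v, g 1 v = v := by
      intro v
      obtain ⟨k, rfl⟩ := QuotientGroup.mk'_surjective _ v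
      rw [hg]
      exact congrArg mk (Subtype.ext (by rw [hφ]; simp))
    have hmul : ∀ a b v, g (a * b) v = g a (g b v) := by
      intro a b v
      obtain ⟨k, rfl⟩ := QuotientGroup.mk'_surjective _ v
      rw [hg, hg, hg]
      exact congrArg mk (Subtype.ext (by rw [hφ, hφ, hφ, Subgroup.coe_mul]; group))
    have hnt : Nontrivial (K ⧸ M.subgroupOf K) := by
      rw [← Finite.one_lt_card_iff_nontrivial, ← Subgroup.index_eq_card]
      exact Subgroup.one_lt_index_of_ne_top fun h => hMK.not_ge (Subgroup.subgroupOf_eq_top.1 h)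
    have hirr : ∀ W : Subgroup (K ⧸ M.subgroupOf K), (∀ a, ∀ w ∈ W, g a w ∈ W) → W = ⊥ ∨ W = ⊤ := by
      intro W hW
      set W' := (W.comap mk).map K.subtype with hW'
      have hMW : M ≤ W' := by
        rw [← Subgroup.map_subgroupOf_eq_of_le hMK.le, hW', hmk]
        exact Subgroup.map_mono (QuotientGroup.le_comap_mk' _ W)
      by_cases htop : W' = K
      · right
        rw [eq_top_iff]
        intro v _
        obtain ⟨k, rfl⟩ := QuotientGroup.mk'_surjective _ v
        obtain ⟨k', hk', e⟩ : (k : G) ∈ W' := htop.ge k.2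
        rwa [Subtype.ext e] at hk'
      · left
        have hinv : A ≤ Subgroup.normalizer (W' : Set G) := by
          intro a ha
          refine mem_normalizer_of_conj_smul (Subgroup.eq_of_le_of_card_ge ?_
            (by rw [card_conj_smul]))
          rw [conj_smul_eq_map]
          rintro _ ⟨_, ⟨k, hk, rfl⟩, rfl⟩
          exact ⟨φ ⟨a, ha⟩ k, hW ⟨a, ha⟩ _ hk, rfl⟩
        have hle := hMmax.2 ⟨lt_of_le_of_ne (Subgroup.map_subtype_le _) htop, hinv⟩ hMW
        rw [eq_bot_iff]
        intro v hv
        obtain ⟨k, rfl⟩ := QuotientGroup.mk'_surjective _ v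
        rw [Subgroup.mem_bot]
        exact (QuotientGroup.eq_one_iff k).2 (hle ⟨k, hv, rfl⟩)
    have hcomm : ∀ v w : K ⧸ M.subgroupOf K, v * w = w * v := by
      have hp := (hK.to_quotient (M.subgroupOf K))
      have : Nontrivial (Subgroup.center (K ⧸ M.subgroupOf K)) := hp.center_nontrivial
      have hsurj : ∀ a, Function.Surjective (g a) := fun a v => ⟨g a⁻¹ v, by
        rw [← hmul, mul_inv_cancel, hone]⟩
      rcases hirr (Subgroup.center _) (fun a w hw => by
        rw [Subgroup.mem_center_iff] at hw ⊢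
        intro v
        obtain ⟨u, rfl⟩ := hsurj a v
        rw [← map_mul, ← map_mul, hw]) with h | h
      · exact absurd h ((Subgroup.nontrivial_iff_ne_bot _).1 this)
      · intro v w
        exact Subgroup.mem_center_iff.1 (h.ge (Subgroup.mem_top w)) v
    letI : CommGroup (K ⧸ M.subgroupOf K) :=
      { (inferInstance : Group (K ⧸ M.subgroupOf K)) with mul_comm := hcomm }
    obtain ⟨a, ha⟩ := exists_gen_mod_ker g hone hmul hirr
    let B₀ : Subgroup A :=
      { carrier := {x | ∀ v, g x v = v}
        one_mem' := hone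
        mul_mem' := fun {x y} hx hy v => by rw [hmul, hy, hx]
        inv_mem' := fun {x} hx v => by
          conv_lhs => rw [← hx v, ← hmul, inv_mul_cancel, hone] }
    set B := B₀.map A.subtype with hB
    have hBA : B ≤ A := Subgroup.map_subtype_le _
    have hBmem : B ∈ CycQuot A := by
      refine ⟨hBA, a, a.2, le_antisymm (sup_le hBA (Subgroup.zpowers_le.2 a.2)) fun x hx => ?_⟩
      obtain ⟨i, hi⟩ := ha ⟨x, hx⟩
      rw [show x = (x * (a : G) ^ i) * ((a : G) ^ i)⁻¹ by group]
      refine Subgroup.mul_mem_sup ⟨_, hi, ?_⟩ (Subgroup.inv_mem _ (Subgroup.zpow_mem_zpowers _ i))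
      simp
    intro x hx
    obtain ⟨c, hc, hcd⟩ := exists_fixed_in_coset' B K M (hBA.trans hAK)
      (hco.coprime_dvd_left (Subgroup.card_dvd_of_le hBA))
      (Or.inl (isSolvable_of_le hBA (Group.isSolvable_of_comm fun s t => hA.is_comm.comm s t)))
      hMK.le (hBA.trans hAM) hx (by
        rintro _ ⟨b, hb, rfl⟩
        have h1 := hb (mk ⟨x, hx⟩)
        rw [hg] at h1
        have h2 : ((⟨x, hx⟩ : K)⁻¹ * φ b ⟨x, hx⟩) ∈ M.subgroupOf K := QuotientGroup.eq.1 h1.symm
        exact h2)
    have hcJ : c ∈ J := Subgroup.mem_iSup_of_mem B (Subgroup.mem_iSup_of_mem hBmem hc)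
    have := J.mul_mem hcJ (J.inv_mem (hMJ hcd))
    rwa [mul_inv_rev, inv_inv, mul_inv_cancel_left] at this

theorem gen_eq [Finite G] (A K : Subgroup G) (hA : IsMulCommutative A)
    (hAK : A ≤ Subgroup.normalizer (K : Set G)) (hco : (Nat.card A).Coprime (Nat.card K)) :
    (⨆ B ∈ CycQuot A, K ⊓ Subgroup.centralizer (B : Set G)) = K := by
  refine le_antisymm (iSup₂_le fun B _ => inf_le_left) ?_
  set J := ⨆ B ∈ CycQuot A, K ⊓ Subgroup.centralizer (B : Set G)
  rw [← Subgroup.subgroupOf_eq_top]
  refine eq_top_of_forall_sylow_le _ fun p hp => ?_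
  obtain ⟨P, hP, hPA⟩ := exists_invariant_sylow hAK hco
    (Or.inl (Group.isSolvable_of_comm fun s t => hA.is_comm.comm s t)) p
  obtain ⟨Q, hQ⟩ := hP.exists_sylow
  refine ⟨Q, Subgroup.map_le_iff_le_comap.1 ?_⟩
  rw [hQ]
  refine (gen_pgroup A hA _ P rfl hP.isPGroup hPA
    (hco.coprime_dvd_right (Subgroup.card_dvd_of_le hP.1))).trans ?_
  exact iSup₂_mono fun B _ => inf_le_inf_right _ hP.1

theorem gen_commutator_eq [Finite G] (A K : Subgroup G) (hA : IsMulCommutative A)
    (hAK : A ≤ Subgroup.normalizer (K : Set G)) (hco : (Nat.card A).Coprime (Nat.card K)) :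
    (⨆ B ∈ CycQuot A, ⁅K ⊓ Subgroup.centralizer (B : Set G), A⁆) = ⁅K, A⁆ := by
  refine le_antisymm (iSup₂_le fun B _ => Subgroup.commutator_mono inf_le_left le_rfl) ?_
  have hsol : Group.IsSolvable A := Group.isSolvable_of_comm fun s t => hA.is_comm.comm s t
  set J := ⨆ B ∈ CycQuot A, ⁅K ⊓ Subgroup.centralizer (B : Set G), A⁆ with hJ
  have hinv : ∀ B ∈ CycQuot A,
      A ≤ Subgroup.normalizer ((K ⊓ Subgroup.centralizer (B : Set G) : Subgroup G) : Set G) := by
    intro B hB a ha
    refine mem_normalizer_of_conj_smul ?_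
    rw [Subgroup.smul_inf, conj_smul_of_mem_normalizer (hAK ha),
      Subgroup.conj_smul_eq_self_of_mem ?_]
    rw [Subgroup.mem_centralizer_iff]
    intro b hb
    exact congrArg Subtype.val (hA.is_comm.comm ⟨b, hB.1 hb⟩ ⟨a, ha⟩)
  have hAJ : A ≤ Subgroup.normalizer (J : Set G) := fun a ha =>
    normalizer_biSup_le _ _ fun B hB => (commutator_normal_in (hinv B hB)).2.2 ha
  have hCJ : K ⊓ Subgroup.centralizer (A : Set G) ≤ Subgroup.normalizer (J : Set G) := fun c hc =>
    normalizer_biSup_le _ _ fun B hB => (commutator_normal_in (hinv B hB)).2.1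
      ⟨hc.1, Subgroup.centralizer_le (SetLike.coe_subset_coe.2 hB.1) hc.2⟩
  have hKJ : K ≤ J ⊔ (K ⊓ Subgroup.centralizer (A : Set G)) := by
    refine (gen_eq A K hA hAK hco).ge.trans (iSup₂_le fun B hB => ?_)
    refine (commutator_sup_fixed (hinv B hB)
      (hco.coprime_dvd_right (Subgroup.card_dvd_of_le inf_le_left)) (Or.inl hsol)).ge.trans ?_
    exact sup_le_sup (le_iSup_of_le B (le_iSup_of_le hB le_rfl))
      (inf_le_inf_right _ inf_le_left)
  refine Subgroup.commutator_le.2 fun k hk a ha => ?_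
  have hk' : k ∈ ((J ⊔ (K ⊓ Subgroup.centralizer (A : Set G)) : Subgroup G) : Set G) := hKJ hk
  rw [Subgroup.coe_mul_of_right_le_normalizer_left J _ hCJ] at hk'
  obtain ⟨j, hj, c, hc, rfl⟩ := hk'
  have hca : a * c = c * a := Subgroup.mem_centralizer_iff.1 hc.2 a ha
  have : ⁅j * c, a⁆ = j * (a * j⁻¹ * a⁻¹) := by
    rw [commutatorElement_def, mul_inv_rev, mul_assoc j c a, ← hca]
    group
  rw [this]
  exact J.mul_mem hj (conj_mem_of_mem_normalizer (hAJ ha) (J.inv_mem hj))

end Cfsg.Agent.Solv
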