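import Cfsg.Agent.Lib.Solv.Subnormal
import Cfsg.Agent.Lib.Solv.Cores
import Cfsg.Agent.Lib.Local.Basics
import Cfsg.Prelude.Def_Local

/-!
Components, the layer and the generalised Fitting subgroup: components commute with each other and
with normal subgroups not containing them, and `C_G(F*(G)) ≤ F*(G)`.
-/

set_option autoImplicit false
set_option linter.style.haveILetI false

open scoped commutatorElement

namespace Cfsg.Agent.Solv

universe u

variable {G : Type u} [Group G]

theorem qs_nontrivial {H : Type*} [Group H] (h : Cfsg.IsQuasisimple H) : Nontrivial H := by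
  haveI := h.2
  obtain ⟨a, b, hab⟩ := exists_pair_ne (H ⧸ Subgroup.center H)
  obtain ⟨x, rfl⟩ := QuotientGroup.mk_surjective a
  obtain ⟨y, rfl⟩ := QuotientGroup.mk_surjective b
  exact ⟨⟨x, y, fun he => hab (he ▸ rfl)⟩⟩

theorem qs_center_ne_top {H : Type*} [Group H] (h : Cfsg.IsQuasisimple H) :
    Subgroup.center H ≠ ⊤ := fun ht => by
  haveI := h.2
  obtain ⟨a, b, hab⟩ := exists_pair_ne (H ⧸ Subgroup.center H)
  obtain ⟨x, rfl⟩ := QuotientGroup.mk_surjective a
  obtain ⟨y, rfl⟩ := QuotientGroup.mk_surjective b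
  exact hab (QuotientGroup.eq.2 (ht ▸ Subgroup.mem_top _))

theorem qs_normal_le_center_or_top {H : Type*} [Group H] (h : Cfsg.IsQuasisimple H)
    (N : Subgroup H) [hN : N.Normal] : N = ⊤ ∨ N ≤ Subgroup.center H := by
  haveI := h.2
  haveI := h.1
  rcases (hN.map (QuotientGroup.mk' (Subgroup.center H))
    (QuotientGroup.mk'_surjective _)).eq_bot_or_eq_top with h1 | h1
  · refine Or.inr ?_
    rwa [Subgroup.map_eq_bot_iff, QuotientGroup.ker_mk'] at h1
  · refine Or.inl (eq_top_iff.2 ?_)
    have h2 : N ⊔ Subgroup.center H = ⊤ := by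
      rw [← QuotientGroup.ker_mk' (Subgroup.center H), ← Subgroup.comap_map_eq, h1,
        Subgroup.comap_top]
    rw [← Group.IsPerfect.commutator_eq_top (G := H), commutator_def, Subgroup.commutator_le]
    intro x _ y _
    have hx : x ∈ N ⊔ Subgroup.center H := h2 ▸ Subgroup.mem_top x
    obtain ⟨n, hn, z, hz, rfl⟩ := Subgroup.mem_sup_of_normal_left.1 hx
    have e : ⁅n * z, y⁆ = ⁅n, y⁆ := by
      rw [show ⁅n * z, y⁆ = n * (z * y) * z⁻¹ * n⁻¹ * y⁻¹ by simp [commutatorElement_def]; group,
        ← Subgroup.mem_center_iff.1 hz y, commutatorElement_def]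
      group
    rw [e, commutatorElement_def, mul_assoc n y, mul_assoc n]
    exact mul_mem hn (hN.conj_mem _ (inv_mem hn) y)

theorem qs_subnormal {H : Type*} [Group H] (h : Cfsg.IsQuasisimple H) {A : Subgroup H}
    (hA : A.IsSubnormal) : A = ⊤ ∨ A ≤ Subgroup.center H := by
  rcases hA.lt_normal with h1 | ⟨N, hN, hAN, hlt⟩
  · exact Or.inl h1
  · haveI := hN
    exact Or.inr (hAN.trans ((qs_normal_le_center_or_top h N).resolve_left hlt.ne))

theorem qs_self_commutator {K : Subgroup G} (h : Cfsg.IsQuasisimple K) : ⁅K, K⁆ = K :=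
  Subgroup.isPerfect_iff.1 h.1

theorem qs_ne_bot {K : Subgroup G} (h : Cfsg.IsQuasisimple K) : K ≠ ⊥ := fun hb => by
  haveI := qs_nontrivial h
  exact (Subgroup.nontrivial_iff_ne_bot K).1 inferInstance hb

theorem qs_not_le_centralizer {K : Subgroup G} (h : Cfsg.IsQuasisimple K) : ⁅K, K⁆ ≠ ⊥ := by
  rw [qs_self_commutator h]
  exact qs_ne_bot h

/-- A perfect subgroup commutes with anything it centralises after one commutator. -/
theorem commutator_eq_bot_of_perfect {K L : Subgroup G} (hK : ⁅K, K⁆ = K)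
    (h : ⁅⁅K, L⁆, K⁆ = ⊥) : ⁅K, L⁆ = ⊥ := by
  have h1 : ⁅⁅L, K⁆, K⁆ = ⊥ := by rwa [Subgroup.commutator_comm L K]
  have := Subgroup.commutator_commutator_eq_bot_of_rotate h h1
  rwa [hK] at this

theorem component_normal_dichotomy {K : Subgroup G} (hK : Cfsg.IsComponent K) (L : Subgroup G)
    [L.Normal] : K ≤ L ∨ ⁅K, L⁆ = ⊥ := by
  obtain ⟨hsn, hq⟩ := hK
  have up : ∀ A : Subgroup G, A.IsSubnormal → K ≤ A → ⁅K, A ⊓ L⁆ = ⊥ → ⁅K, L⁆ = ⊥ := by
    intro A hA
    induction hA with
    | top => intro _ h; rwa [top_inf_eq] at h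
    | step A B hAB _ hN ih =>
      intro hKA h
      refine ih (hKA.trans hAB) (commutator_eq_bot_of_perfect (qs_self_commutator hq) ?_)
      have hle : ⁅K, B ⊓ L⁆ ≤ A ⊓ L := by
        rw [Subgroup.commutator_le]
        intro k hk x hx
        obtain ⟨hxB, hxL⟩ := Subgroup.mem_inf.1 hx
        have hxn := (Subgroup.normal_subgroupOf_iff_le_normalizer hAB).1 hN hxB
        refine Subgroup.mem_inf.2 ⟨?_, ?_⟩
        · rw [commutatorElement_def, mul_assoc k x, mul_assoc k]
          exact mul_mem (hKA hk) ((Subgroup.mem_normalizer_iff.1 hxn _).1 (inv_mem (hKA hk)))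
        · rw [commutatorElement_def]
          exact mul_mem (Subgroup.Normal.conj_mem inferInstance x hxL k) (inv_mem hxL)
      rw [eq_bot_iff]
      refine (Subgroup.commutator_mono hle le_rfl).trans ?_
      rw [Subgroup.commutator_comm, h]
  rcases qs_normal_le_center_or_top hq (L.subgroupOf K) with h1 | h1
  · exact Or.inl (Subgroup.subgroupOf_eq_top.1 h1)
  · refine Or.inr (up K hsn le_rfl ?_)
    rw [Subgroup.commutator_eq_bot_iff_le_centralizer]
    intro x hx
    refine Subgroup.mem_centralizer_iff.2 fun y hy => ?_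
    obtain ⟨hy1, hy2⟩ := Subgroup.mem_inf.1 hy
    have hyc := h1 (show (⟨y, hy1⟩ : K) ∈ L.subgroupOf K from hy2)
    exact (congrArg Subtype.val (Subgroup.mem_center_iff.1 hyc ⟨x, hx⟩)).symm

theorem component_subgroupOf {K L : Subgroup G} (hK : Cfsg.IsComponent K) (hKL : K ≤ L) :
    Cfsg.IsComponent (K.subgroupOf L) :=
  ⟨isSubnormal_subgroupOf hK.1, Local.isQuasisimple_congr
    (Subgroup.subgroupOfEquivOfLe hKL).symm hK.2⟩

theorem component_of_subgroupOf {K L : Subgroup G} (hL : L.IsSubnormal) (hKL : K ≤ L)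
    (hK : Cfsg.IsComponent (K.subgroupOf L)) : Cfsg.IsComponent K :=
  ⟨Subgroup.IsSubnormal.trans hKL hK.1 hL, Local.isQuasisimple_congr
    (Subgroup.subgroupOfEquivOfLe hKL) hK.2⟩

theorem component_conj {K : Subgroup G} (hK : Cfsg.IsComponent K) (g : G) :
    Cfsg.IsComponent (K.map (MulAut.conj g).toMonoidHom) :=
  ⟨Subgroup.IsSubnormal.map (f := (MulAut.conj g).toMonoidHom) (MulAut.conj g).surjective hK.1,
    Local.isQuasisimple_congr (K.equivMapOfInjective _ (MulAut.conj g).injective) hK.2⟩

/-- A component lies in a subnormal subgroup or centralises it. -/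
theorem component_subnormal_dichotomy {K : Subgroup G} (hK : Cfsg.IsComponent K) {L : Subgroup G}
    (hL : L.IsSubnormal) : K ≤ L ∨ ⁅K, L⁆ = ⊥ := by
  induction hL with
  | top => exact Or.inl le_top
  | step A B hAB hB hN ih =>
    rcases ih with h | h
    · haveI := hN
      rcases component_normal_dichotomy (component_subgroupOf hK h) (A.subgroupOf B) with h1 | h1
      · exact Or.inl fun k hk => h1 (show (⟨k, h hk⟩ : B) ∈ K.subgroupOf B from hk)
      · refine Or.inr ?_
        have h2 := congrArg (Subgroup.map B.subtype) h1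
        rwa [Subgroup.map_commutator, Subgroup.map_subgroupOf_eq_of_le h,
          Subgroup.map_subgroupOf_eq_of_le hAB, Subgroup.map_bot] at h2
    · exact Or.inr (eq_bot_iff.2 (h ▸ Subgroup.commutator_mono le_rfl hAB))

theorem component_le_component {K L : Subgroup G} (hK : Cfsg.IsComponent K)
    (hL : Cfsg.IsComponent L) (h : K ≤ L) : K = L := by
  rcases qs_subnormal hL.2 (component_subgroupOf hK h).1 with h1 | h1
  · exact le_antisymm h (Subgroup.subgroupOf_eq_top.1 h1)
  · exfalso
    refine qs_not_le_centralizer hK.2 ?_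
    rw [Subgroup.commutator_eq_bot_iff_le_centralizer]
    intro x hx
    refine Subgroup.mem_centralizer_iff.2 fun y hy => ?_
    have hyc := h1 (show (⟨y, h hy⟩ : L) ∈ K.subgroupOf L from hy)
    exact (congrArg Subtype.val (Subgroup.mem_center_iff.1 hyc ⟨x, h hx⟩)).symm

/-- Distinct components commute. -/
theorem components_commute {K L : Subgroup G} (hK : Cfsg.IsComponent K) (hL : Cfsg.IsComponent L)
    (hne : K ≠ L) : ⁅K, L⁆ = ⊥ :=
  (component_subnormal_dichotomy hK hL.1).resolve_left fun h =>
    hne (component_le_component hK hL h)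

theorem component_le_layer {K : Subgroup G} (hK : Cfsg.IsComponent K) : K ≤ Cfsg.layer G :=
  le_sSup hK

theorem component_commutes_solvable {K : Subgroup G} (hK : Cfsg.IsComponent K) {S : Subgroup G}
    (hS : S.IsSubnormal) (hsol : Group.IsSolvable S) : ⁅K, S⁆ = ⊥ := by
  refine (component_subnormal_dichotomy hK hS).resolve_left fun h => ?_
  haveI := qs_nontrivial hK.2
  haveI := hK.2.1
  haveI := hsol
  exact Group.IsPerfect.not_isSolvable (G := K)
    (Group.isSolvable_of_isSolvable_injective (Subgroup.inclusion_injective h))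

theorem layer_commutator_solvable {S : Subgroup G} (hS : S.IsSubnormal)
    (hsol : Group.IsSolvable S) : ⁅Cfsg.layer G, S⁆ = ⊥ := by
  rw [Subgroup.commutator_eq_bot_iff_le_centralizer, Cfsg.layer]
  exact sSup_le fun K hK =>
    Subgroup.commutator_eq_bot_iff_le_centralizer.1 (component_commutes_solvable hK hS hsol)

theorem layer_commutator_fitting [Finite G] : ⁅Cfsg.layer G, Cfsg.fittingSubgroup G⁆ = ⊥ :=
  layer_commutator_solvable fittingSubgroup_normal.isSubnormal
    (haveI := fittingSubgroup_nilpotent (G := G); inferInstance)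

theorem layer_perfect : ⁅Cfsg.layer G, Cfsg.layer G⁆ = Cfsg.layer G := by
  refine le_antisymm (Subgroup.commutator_le_self _) (sSup_le fun K hK => ?_)
  rw [← qs_self_commutator hK.2]
  exact Subgroup.commutator_mono (component_le_layer hK) (component_le_layer hK)

theorem centralizer_normal_of_normal (N : Subgroup G) [hN : N.Normal] :
    (Subgroup.centralizer (N : Set G)).Normal := ⟨fun c hc g => by
  refine Subgroup.mem_centralizer_iff.2 fun x hx => ?_
  have h1 := Subgroup.mem_centralizer_iff.1 hc (g⁻¹ * x * g) (by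
    simpa using hN.conj_mem x hx g⁻¹)
  calc x * (g * c * g⁻¹) = g * ((g⁻¹ * x * g) * c) * g⁻¹ := by group
    _ = g * (c * (g⁻¹ * x * g)) * g⁻¹ := by rw [h1]
    _ = g * c * g⁻¹ * x := by group⟩

/-- A subnormal perfect subgroup all of whose proper subnormal subgroups are central is a
component. -/
theorem isComponent_of_minimal {T : Subgroup G} (hT : T.IsSubnormal) (hne : T ≠ ⊥)
    (hperf : ⁅T, T⁆ = T)
    (h : ∀ M : Subgroup T, M.Normal → M ≠ ⊤ → M ≤ Subgroup.center T) :
    Cfsg.IsComponent T := by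
  haveI hP : Group.IsPerfect T := Subgroup.isPerfect_iff.2 hperf
  refine ⟨hT, hP, ?_⟩
  haveI : Nontrivial T := (Subgroup.nontrivial_iff_ne_bot T).2 hne
  have hZ : Subgroup.center T ≠ ⊤ := fun ht =>
    Group.IsPerfect.not_isMulCommutative (G := T)
      ⟨⟨fun a b => (Subgroup.mem_center_iff.1 (ht ▸ Subgroup.mem_top a) b).symm⟩⟩
  haveI : Nontrivial (T ⧸ Subgroup.center T) := QuotientGroup.nontrivial_iff.2 hZ
  refine ⟨fun M hM => ?_⟩
  by_cases h1 : M.comap (QuotientGroup.mk' _) = ⊤
  · exact Or.inr (by rw [← Subgroup.map_comap_eq_self_of_surjective (QuotientGroup.mk'_surjective _) M,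
      h1, Subgroup.map_top_of_surjective _ (QuotientGroup.mk'_surjective _)])
  · refine Or.inl (eq_bot_iff.2 fun x hx => ?_)
    obtain ⟨y, rfl⟩ := QuotientGroup.mk_surjective x
    exact (QuotientGroup.eq_one_iff y).2 (h _ (hM.comap _) h1 hx)

/-- Bender: the generalised Fitting subgroup contains its centralizer. -/
theorem centralizer_gfit_le [Finite G] :
    Subgroup.centralizer (Cfsg.generalizedFittingSubgroup G : Set G) ≤
      Cfsg.generalizedFittingSubgroup G := by
  obtain ⟨F, hF⟩ : ∃ F, F = Cfsg.generalizedFittingSubgroup G := ⟨_, rfl⟩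
  rw [← hF]
  haveI : F.Normal := hF ▸ Local.gfit_normal
  by_contra hne
  obtain ⟨T, ⟨hTsn, hTC, hTF⟩, hmin⟩ := Set.exists_min_image
    {T : Subgroup G | T.IsSubnormal ∧ T ≤ Subgroup.centralizer (F : Set G) ∧ ¬ T ≤ F}
    (fun T : Subgroup G => Nat.card T) (Set.toFinite _)
    ⟨_, (centralizer_normal_of_normal F).isSubnormal, le_rfl, hne⟩
  have hsub : ∀ S : Subgroup G, S.IsSubnormal → S ≤ T → S ≠ T → S ≤ F := fun S h1 h2 h3 => by
    by_contra h4
    exact h3 (Subgroup.eq_of_le_of_card_ge h2 (hmin S ⟨h1, h2.trans hTC, h4⟩))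
  have hperf : ⁅T, T⁆ = T := by
    by_contra hp
    have hn : ((⁅T, T⁆).subgroupOf T).Normal :=
      (Subgroup.normal_subgroupOf_iff_le_normalizer (Subgroup.commutator_le_self T)).2
        fun t ht => Subgroup.mem_normalizer_iff.2 fun x => by
          have key : ∀ t ∈ T, ∀ x ∈ ⁅T, T⁆, t * x * t⁻¹ ∈ ⁅T, T⁆ := fun t ht x hx => by
            have hxT := Subgroup.commutator_le_self T hx
            have := mul_mem (Subgroup.commutator_mem_commutator ht hxT) hx
            rwa [commutatorElement_def, inv_mul_cancel_right] at this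
          refine ⟨key t ht x, fun hx => ?_⟩
          have := key t⁻¹ (inv_mem ht) _ hx
          rwa [inv_inv, ← mul_assoc, ← mul_assoc, inv_mul_cancel, one_mul, inv_mul_cancel_right]
            at this
    have hcomm : ⁅T, T⁆ ≤ F := hsub _ (Subgroup.IsSubnormal.step _ T
      (Subgroup.commutator_le_self T) hTsn hn) (Subgroup.commutator_le_self T) hp
    refine hTF (le_trans ?_ (le_sup_right.trans_eq hF.symm))
    refine subnormal_nilpotent_le_fitting hTsn ((Group.isNilpotent_iff _).2 ⟨2, ?_⟩)
    rw [eq_top_iff]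
    intro x _
    rw [show (2 : ℕ) = 1 + 1 from rfl, Subgroup.mem_upperCentralSeries_succ_iff]
    intro y
    rw [Subgroup.upperCentralSeries_one]
    refine Subgroup.mem_center_iff.2 fun z => Subtype.ext ?_
    exact (Subgroup.mem_centralizer_iff.1 (hTC z.2) _
      (hcomm (Subgroup.commutator_mem_commutator x.2 y.2))).symm
  refine hTF (le_trans (component_le_layer ?_)
    (le_sup_left.trans_eq hF.symm))
  refine isComponent_of_minimal hTsn (fun h => hTF (h ▸ bot_le)) hperf fun M hM hMtop => ?_
  have hle : M.map T.subtype ≤ F := hsub _ (hM.isSubnormal.trans' hTsn) (Subgroup.map_subtype_le M)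
    fun he => hMtop (eq_top_iff.2 fun x _ => by
      have hx : (x : G) ∈ M.map T.subtype := he.symm ▸ x.2
      obtain ⟨y, hy, hyx⟩ := hx
      rwa [← Subtype.ext hyx])
  intro m hm
  refine Subgroup.mem_center_iff.2 fun z => Subtype.ext ?_
  exact (Subgroup.mem_centralizer_iff.1 (hTC z.2) _ (hle (Subgroup.mem_map_of_mem _ hm))).symm

theorem center_component_le_fitting [Finite G] {K : Subgroup G} (hK : Cfsg.IsComponent K) :
    (Subgroup.center K).map K.subtype ≤ Cfsg.fittingSubgroup G := by
  refine subnormal_nilpotent_le_fitting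
    ((inferInstance : (Subgroup.center K).Normal).isSubnormal.trans' hK.1) ?_
  letI : CommGroup (Subgroup.center K) :=
    { (inferInstance : Group (Subgroup.center K)) with
      mul_comm := fun a b => Subtype.ext (Subgroup.mem_center_iff.1 b.2 a) }
  exact (Group.isNilpotent_congr
    ((Subgroup.center K).equivMapOfInjective K.subtype K.subtype_injective)).1 inferInstance

/-- A finite family of pairwise commuting centreless subgroups generates a centreless subgroup. -/
theorem eq_one_of_central_in_commuting [Finite G] (s : Set (Subgroup G))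
    (hcomm : ∀ K ∈ s, ∀ L ∈ s, K ≠ L → ⁅K, L⁆ = ⊥) (hcenter : ∀ K ∈ s, Subgroup.center K = ⊥)
    {z : G} (hz : z ∈ sSup s) (hzc : ∀ K ∈ s, ∀ x ∈ K, x * z = z * x) : z = 1 := by
  classical
  induction hn : s.ncard using Nat.strong_induction_on generalizing s z with
  | _ n ih =>
    rcases s.eq_empty_or_nonempty with rfl | ⟨K, hKs⟩
    · rwa [sSup_empty, Subgroup.mem_bot] at hz
    obtain ⟨t, ht⟩ : ∃ t, t = s \ {K} := ⟨_, rfl⟩
    have hst : sSup s = K ⊔ sSup t := by
      rw [ht, ← sSup_insert, Set.insert_sdiff_singleton, Set.insert_eq_of_mem hKs]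
    have hts : t ⊆ s := ht ▸ Set.sdiff_subset
    have hKc : sSup t ≤ Subgroup.centralizer (K : Set G) := sSup_le fun L hL => by
      rw [← Subgroup.commutator_eq_bot_iff_le_centralizer]
      exact hcomm L (hts hL) K hKs (by rw [ht] at hL; exact hL.2)
    rw [hst, ← SetLike.mem_coe, Subgroup.coe_mul_of_right_le_normalizer_left K (sSup t)
      (hKc.trans fun c hc => Subgroup.mem_normalizer_iff.2 fun x => by
        constructor
        · intro hx
          rwa [← Subgroup.mem_centralizer_iff.1 hc x hx, mul_inv_cancel_right]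
        · intro hx
          have h := Subgroup.mem_centralizer_iff.1 hc _ hx
          rw [mul_assoc (c * x), inv_mul_cancel, mul_one] at h
          have : c * x * c⁻¹ = x := by
            apply mul_left_cancel (a := c)
            rw [← h]
          rwa [← this])] at hz
    obtain ⟨k, hk, w, hw, rfl⟩ := hz
    have hk1 : k = 1 := by
      have hkc : (⟨k, hk⟩ : K) ∈ Subgroup.center K := by
        refine Subgroup.mem_center_iff.2 fun x => Subtype.ext ?_
        have h1 : (x : G) * (k * w) = k * w * x := hzc K hKs x x.2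
        rw [mul_assoc k, ← Subgroup.mem_centralizer_iff.1 (hKc hw) x x.2, ← mul_assoc,
          ← mul_assoc] at h1
        exact mul_right_cancel h1
      rw [hcenter K hKs, Subgroup.mem_bot] at hkc
      exact congrArg Subtype.val hkc
    simp only [hk1, one_mul] at hzc ⊢
    exact ih t.ncard (hn ▸ ht ▸ Set.ncard_sdiff_singleton_lt_of_mem hKs) t
      (fun A hA B hB => hcomm A (hts hA) B (hts hB)) (fun A hA => hcenter A (hts hA)) hw
      (fun A hA => hzc A (hts hA)) rfl

end Cfsg.Agent.Solv
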