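import Cfsg.Agent.Lib.Solv.Cores
import Mathlib.GroupTheory.IsSubnormal

/-!
Subnormal subgroups of finite groups: joins (Wielandt), nilpotent subnormal subgroups lie in the
Fitting subgroup.
-/

set_option autoImplicit false

open scoped Pointwise

namespace Cfsg.Agent.Solv

universe u

variable {G : Type u} [Group G]

theorem isSubnormal_conj {A : Subgroup G} (h : A.IsSubnormal) (g : G) :
    (MulAut.conj g • A).IsSubnormal := by
  rw [conj_smul_eq_map]
  exact h.map (MulAut.conj g).surjective

theorem isSubnormal_subgroupOf {A L : Subgroup G} (h : A.IsSubnormal) :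
    (A.subgroupOf L).IsSubnormal := h.comap L.subtype

theorem isSubnormal_of_le_normal {A N : Subgroup G} [N.Normal] (h : A ≤ N)
    (hA : (A.subgroupOf N).IsSubnormal) : A.IsSubnormal :=
  Subgroup.IsSubnormal.trans h hA (Subgroup.Normal.isSubnormal inferInstance)

theorem isSubnormal_of_isNilpotent [Finite G] [Group.IsNilpotent G] :
    ∀ H : Subgroup G, H.IsSubnormal := by
  intro H
  induction H using WellFoundedGT.induction with
  | _ H ih =>
    by_cases hH : H = ⊤
    · exact hH ▸ Subgroup.IsSubnormal.top
    have hlt := Group.normalizerCondition_of_isNilpotent (G := G) H (lt_top_iff_ne_top.2 hH)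
    exact Subgroup.IsSubnormal.step H _ hlt.le (ih _ hlt)
      (Subgroup.normal_subgroupOf_of_le_normalizer le_rfl)

set_option maxHeartbeats 1000000 in
theorem isSubnormal_sup_aux : ∀ (n : ℕ) {G : Type u} [Group G] [Finite G], Nat.card G = n →
    ∀ A B : Subgroup G, A.IsSubnormal → B.IsSubnormal → (A ⊔ B).IsSubnormal := by
  intro n
  induction n using Nat.strong_induction_on with
  | _ n ih =>
    intro G _ _ hn
    subst hn
    have inside : ∀ K : Subgroup G, K.IsSubnormal → K ≠ ⊤ → ∀ A B : Subgroup G, A ≤ K → B ≤ K →
        A.IsSubnormal → B.IsSubnormal → (A ⊔ B).IsSubnormal := by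
      intro K hK hKt A B hA hB sA sB
      refine Subgroup.IsSubnormal.trans (sup_le hA hB) ?_ hK
      rw [Subgroup.subgroupOf_sup hA hB]
      exact ih _ (card_lt_of_ne_top hKt) rfl _ _ (isSubnormal_subgroupOf sA)
        (isSubnormal_subgroupOf sB)
    -- the case where `B` normalises `A`
    have normcase : ∀ A B : Subgroup G, A.IsSubnormal → B.IsSubnormal →
        B ≤ Subgroup.normalizer (A : Set G) → (A ⊔ B).IsSubnormal := by
      intro A B sA sB hBA
      by_cases hAt : A = ⊤
      · simp [hAt]
      have quot : ∀ (M : Subgroup G) [M.Normal], (M ⊔ B).IsSubnormal := by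
        intro M _
        have := (sB.map (QuotientGroup.mk'_surjective M)).comap (QuotientGroup.mk' M)
        rwa [Subgroup.comap_map_eq, QuotientGroup.ker_mk', sup_comm] at this
      obtain ⟨K, hKn, hAK, hKt⟩ := sA.exists_normal_and_le_and_lt_top_of_ne hAt
      set A₁ := Subgroup.normalClosure (A : Set G) with hA₁
      have hA₁K : A₁ ≤ K := Subgroup.normalClosure_le_normal (N := K) hAK
      by_cases hAB : A₁ ⊔ B = ⊤
      · by_cases hAn : A = A₁
        · rw [hAn]; exact quot A₁
        · have sA' := isSubnormal_subgroupOf (L := A₁) sA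
          have hne : A.subgroupOf A₁ ≠ ⊤ := fun h => hAn
            (le_antisymm Subgroup.le_normalClosure (Subgroup.subgroupOf_eq_top.1 h))
          obtain ⟨L, hLn, hAL, hLt⟩ := sA'.exists_normal_and_le_and_lt_top_of_ne hne
          exfalso
          let L' := L.map A₁.subtype
          have hLA₁ : L' ≤ A₁ := Subgroup.map_subtype_le _
          set R := ⨅ b : B, MulAut.conj (b : G) • L' with hR
          have hAR : A ≤ R := by
            refine le_iInf fun b => ?_
            conv_lhs => rw [← conj_smul_of_mem_normalizer (hBA b.2)]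
            refine Subgroup.pointwise_smul_le_pointwise_smul_iff.2 ?_
            intro a ha
            exact ⟨⟨a, Subgroup.le_normalClosure ha⟩, hAL ha, rfl⟩
          have hA₁L : A₁ ≤ Subgroup.normalizer (L' : Set G) := by
            intro x hx
            refine mem_normalizer_of_conj_smul ?_
            have := congrArg (Subgroup.map A₁.subtype)
              (Subgroup.Normal.conj_smul_eq_self (⟨x, hx⟩ : A₁) L)
            rwa [map_conj_smul] at this
          have hRA₁ : A₁ ≤ Subgroup.normalizer (R : Set G) := by
            intro x hx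
            refine mem_normalizer_of_conj_smul ?_
            have key : ∀ b : B, MulAut.conj x • MulAut.conj (b : G) • L' =
                MulAut.conj (b : G) • L' := by
              intro b
              rw [conj_smul_conj, show x * (b : G) = (b : G) * ((b : G)⁻¹ * x * b) by group,
                ← conj_smul_conj, conj_smul_of_mem_normalizer (hA₁L ?_)]
              exact (inferInstance : A₁.Normal).conj_mem' x hx b
            ext y
            rw [mem_conj_smul, hR, Subgroup.mem_iInf, Subgroup.mem_iInf]
            refine forall_congr' fun b => ?_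
            rw [← mem_conj_smul, key b]
          have hRB : B ≤ Subgroup.normalizer (R : Set G) := by
            intro x hx
            refine mem_normalizer_of_conj_smul ?_
            ext y
            rw [mem_conj_smul, hR, Subgroup.mem_iInf, Subgroup.mem_iInf]
            constructor
            · intro h b
              have h' := h (⟨x⁻¹, B.inv_mem hx⟩ * b)
              rw [mem_conj_smul] at h' ⊢
              convert h' using 1
              rw [Subgroup.coe_mul]
              group
            · intro h b
              have h' := h (⟨x, hx⟩ * b)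
              rw [mem_conj_smul] at h' ⊢
              convert h' using 1
              rw [Subgroup.coe_mul]
              group
          have hRn : R.Normal := by
            rw [← Subgroup.normalizer_eq_top_iff, ← top_le_iff, ← hAB]
            exact sup_le hRA₁ hRB
          have h1 : A₁ ≤ R := Subgroup.normalClosure_le_normal hAR
          have h2 : R ≤ L' := by
            refine (iInf_le _ (1 : B)).trans ?_
            rw [OneMemClass.coe_one, conj_one_smul]
          refine hLt.ne (eq_top_iff.2 fun x _ => ?_)
          obtain ⟨y, hy, hyx⟩ := h2 (h1 x.2)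
          rwa [← Subtype.ext hyx]
      · exact inside _ (quot A₁) hAB A B (Subgroup.le_normalClosure.trans le_sup_left)
          le_sup_right sA sB
    intro A B sA sB
    obtain ⟨C, hAC, hC⟩ := Finite.exists_le_maximal
      (p := fun C : Subgroup G => C.IsSubnormal ∧ C ≤ A ⊔ B) (a := A) ⟨sA, le_sup_left⟩
    by_cases hn : B ≤ Subgroup.normalizer (C : Set G)
    · have h1 := normcase C B hC.1.1 sB hn
      have h2 : C ⊔ B = A ⊔ B :=
        le_antisymm (sup_le hC.1.2 le_sup_right) (sup_le_sup_right hAC B)
      rwa [← h2]
    · exfalso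
      obtain ⟨b, hb, hbn⟩ := SetLike.not_le_iff_exists.1 hn
      have hCt : C ≠ ⊤ := fun h => hn (by rw [h]; exact le_top.trans Subgroup.le_normalizer)
      obtain ⟨K, hKn, hCK, hKt⟩ := hC.1.1.exists_normal_and_le_and_lt_top_of_ne hCt
      have hbC : MulAut.conj b • C ≤ K := by
        rw [← Subgroup.Normal.conj_smul_eq_self b K]
        exact Subgroup.pointwise_smul_le_pointwise_smul_iff.2 hCK
      have h1 := inside K hKn.isSubnormal hKt.ne C (MulAut.conj b • C) hCK hbC hC.1.1
        (isSubnormal_conj hC.1.1 b)
      have h2 : C ⊔ MulAut.conj b • C ≤ C := hC.2 ⟨h1, sup_le hC.1.2 (by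
        rw [← Subgroup.conj_smul_eq_self_of_mem (Subgroup.mem_sup_right hb : b ∈ A ⊔ B)]
        exact Subgroup.pointwise_smul_le_pointwise_smul_iff.2 hC.1.2)⟩ le_sup_left
      exact hbn (mem_normalizer_of_conj_smul
        (Subgroup.eq_of_le_of_card_ge (le_sup_right.trans h2) (by rw [card_conj_smul])))

/-- Wielandt: the join of two subnormal subgroups of a finite group is subnormal. -/
theorem isSubnormal_sup [Finite G] {A B : Subgroup G} (hA : A.IsSubnormal) (hB : B.IsSubnormal) :
    (A ⊔ B).IsSubnormal := isSubnormal_sup_aux _ rfl A B hA hB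

/-- A subgroup maximal among subnormal subgroups inside `M` is normalised by `M`. -/
theorem exists_maximal_subnormal_le [Finite G] {M A : Subgroup G} (hA : A.IsSubnormal)
    (hAM : A ≤ M) : ∃ R : Subgroup G, R.IsSubnormal ∧ A ≤ R ∧ R ≤ M ∧
      M ≤ Subgroup.normalizer (R : Set G) ∧
      ∀ S : Subgroup G, S.IsSubnormal → R ≤ S → S ≤ M → S = R := by
  obtain ⟨R, hAR, hR⟩ := Finite.exists_le_maximal
    (p := fun R : Subgroup G => R.IsSubnormal ∧ R ≤ M) (a := A) ⟨hA, hAM⟩
  refine ⟨R, hR.1.1, hAR, hR.1.2, fun m hm => ?_,
    fun S h1 h2 h3 => le_antisymm (hR.2 ⟨h1, h3⟩ h2) h2⟩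
  have h2 : R ⊔ MulAut.conj m • R ≤ R := hR.2
    ⟨isSubnormal_sup hR.1.1 (isSubnormal_conj hR.1.1 m), sup_le hR.1.2 (by
      rw [← Subgroup.conj_smul_eq_self_of_mem hm]
      exact Subgroup.pointwise_smul_le_pointwise_smul_iff.2 hR.1.2)⟩ le_sup_left
  exact mem_normalizer_of_conj_smul
    (Subgroup.eq_of_le_of_card_ge (le_sup_right.trans h2) (by rw [card_conj_smul]))

theorem fitting_map_equiv {H : Type*} [Group H] (e : G ≃* H) :
    (Cfsg.fittingSubgroup G).map e.toMonoidHom ≤ Cfsg.fittingSubgroup H := by
  rw [Subgroup.map_le_iff_le_comap]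
  refine sSup_le fun N hN => ?_
  rw [← Subgroup.map_le_iff_le_comap]
  have : (N.map e.toMonoidHom).Normal := hN.1.map _ e.surjective
  exact normal_le_fitting (@Group.nilpotent_of_mulEquiv _ _ _ _ hN.2
    (Subgroup.equivMapOfInjective N e.toMonoidHom e.injective))

instance fitting_characteristic : (Cfsg.fittingSubgroup G).Characteristic :=
  Subgroup.characteristic_iff_map_le.2 fun e => fitting_map_equiv e

theorem subnormal_nilpotent_le_fitting_aux : ∀ (n : ℕ) {G : Type u} [Group G] [Finite G],
    Nat.card G = n → ∀ A : Subgroup G, A.IsSubnormal → Group.IsNilpotent A →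
      A ≤ Cfsg.fittingSubgroup G := by
  intro n
  induction n using Nat.strong_induction_on with
  | _ n ih =>
    intro G _ _ hn A hA hAn
    subst hn
    by_cases hAt : A = ⊤
    · subst hAt; exact normal_le_fitting hAn
    obtain ⟨K, hKn, hAK, hKt⟩ := hA.exists_normal_and_le_and_lt_top_of_ne hAt
    have h := ih _ (card_lt_of_ne_top hKt.ne) rfl (A.subgroupOf K) (isSubnormal_subgroupOf hA)
      (@Group.nilpotent_of_mulEquiv _ _ _ _ hAn (Subgroup.subgroupOfEquivOfLe hAK).symm)
    have hn' : ((Cfsg.fittingSubgroup K).map K.subtype).Normal := inferInstance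
    have h2 := (Subgroup.map_mono (f := K.subtype) h).trans
      (normal_le_fitting (@Group.nilpotent_of_mulEquiv _ _ _ _ fittingSubgroup_nilpotent
        (Subgroup.equivMapOfInjective _ K.subtype K.subtype_injective)))
    rwa [Subgroup.map_subgroupOf_eq_of_le hAK] at h2

theorem subnormal_nilpotent_le_fitting [Finite G] {A : Subgroup G} (hA : A.IsSubnormal)
    (hn : Group.IsNilpotent A) : A ≤ Cfsg.fittingSubgroup G :=
  subnormal_nilpotent_le_fitting_aux _ rfl A hA hn

theorem isSubnormal_of_le_fitting [Finite G] {A : Subgroup G}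
    (hA : A ≤ Cfsg.fittingSubgroup G) : A.IsSubnormal :=
  have := fittingSubgroup_normal (G := G)
  have := fittingSubgroup_nilpotent (G := G)
  isSubnormal_of_le_normal hA (isSubnormal_of_isNilpotent _)

end Cfsg.Agent.Solv
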