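import Mathlib
import Cfsg.Prelude.Def_KGroupFacts

/-! Schur multipliers of small groups: two generators, Heisenberg-type covers. -/

set_option autoImplicit false
set_option linter.style.haveILetI false

open scoped commutatorElement

namespace Cfsg.Agent.Solv

universe u

/-- `G` itself as a stem extension with trivial kernel. -/
theorem hasCyclicSchur_one_of {G : Type u} [Group G] [Finite G]
    (h : ∀ (Γ : Type u) [Group Γ] [Finite Γ] (σ : Γ →* G), Cfsg.IsStemExtension σ →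
      ∀ k ∈ σ.ker, k = 1) : Cfsg.HasCyclicSchurMultiplier G 1 := by
  refine ⟨⟨G, inferInstance, inferInstance, MonoidHom.id G,
    ⟨Function.surjective_id, ?_, ?_⟩, ⟨?_⟩⟩, fun Γ _ _ σ hσ => ⟨1, fun y => ⟨1, ?_⟩⟩⟩
  · rw [MonoidHom.ker_id]; exact bot_le
  · rw [MonoidHom.ker_id]; exact bot_le
  · have : Subsingleton (MonoidHom.id G).ker := by rw [MonoidHom.ker_id]; infer_instance
    exact
      { toFun := fun _ => 1
        invFun := fun _ => 1
        left_inv := fun x => Subsingleton.elim _ _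
        right_inv := fun x => Subsingleton.elim _ _
        map_mul' := fun _ _ => Subsingleton.elim _ _ }
  · rw [map_one]
    exact Subtype.ext (h Γ σ hσ _ y.2).symm

/-- A cyclic multiplier: a cover and a bound on all kernels. -/
theorem hasCyclicSchur_of {G : Type u} [Group G] {n : ℕ}
    (hex : ∃ (Γ : Type u) (_ : Group Γ) (_ : Finite Γ) (σ : Γ →* G),
      Cfsg.IsStemExtension σ ∧ Nonempty (σ.ker ≃* Multiplicative (ZMod n)))
    (h : ∀ (Γ : Type u) [Group Γ] [Finite Γ] (σ : Γ →* G), Cfsg.IsStemExtension σ →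
      ∃ g : σ.ker, g ^ n = 1 ∧ ∀ k : σ.ker, k ∈ Subgroup.zpowers g) :
    Cfsg.HasCyclicSchurMultiplier G n := by
  refine ⟨hex, fun Γ _ _ σ hσ => ?_⟩
  obtain ⟨g, hg, hgen⟩ := h Γ σ hσ
  let φ : ZMod n →+ Additive σ.ker := ZMod.lift n ⟨zmultiplesHom _ (Additive.ofMul g), by
    rw [zmultiplesHom_apply, natCast_zsmul, ← ofMul_pow, hg, ofMul_one]⟩
  refine ⟨φ.toMultiplicativeLeft, fun k => ?_⟩
  obtain ⟨i, hi⟩ := hgen k
  have hi : g ^ i = k := hi
  refine ⟨Multiplicative.ofAdd (i : ZMod n), ?_⟩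
  show Additive.toMul (φ (i : ZMod n)) = k
  rw [ZMod.lift_coe, zmultiplesHom_apply, ← ofMul_zpow, toMul_ofMul, hi]

theorem commutator_le_of_gen {Γ : Type*} [Group Γ] (N : Subgroup Γ) [N.Normal] (S : Set Γ)
    (hgen : Subgroup.closure S ⊔ Subgroup.center Γ = ⊤) (hS : ∀ a ∈ S, ∀ b ∈ S, ⁅a, b⁆ ∈ N) :
    commutator Γ ≤ N := by
  set f := QuotientGroup.mk' N with hf
  have hcomm : ∀ a ∈ S, ∀ b ∈ S, f a * f b = f b * f a := fun a ha b hb => by
    rw [← commutatorElement_eq_one_iff_mul_comm, ← map_commutatorElement, hf, QuotientGroup.mk'_apply,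
      QuotientGroup.eq_one_iff]
    exact hS a ha b hb
  have hall : ∀ b ∈ S, ∀ y : Γ, f b * f y = f y * f b := by
    intro b hb y
    have hle : Subgroup.closure S ⊔ Subgroup.center Γ ≤ (Subgroup.centralizer ({f b} : Set (Γ ⧸ N))).comap f := by
      refine sup_le ((Subgroup.closure_le _).2 fun a ha =>
        Subgroup.mem_centralizer_singleton_iff.2 (hcomm a ha b hb)) fun z hz => ?_
      show f z ∈ Subgroup.centralizer ({f b} : Set (Γ ⧸ N))
      rw [Subgroup.mem_centralizer_singleton_iff, ← map_mul, ← map_mul, Subgroup.mem_center_iff.1 hz b]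
    exact (Subgroup.mem_centralizer_singleton_iff.1 (hle (hgen.ge (Subgroup.mem_top y)))).symm
  rw [commutator_def, Subgroup.commutator_le]
  intro x _ y _
  rw [← QuotientGroup.eq_one_iff]
  show f ⁅x, y⁆ = 1
  rw [map_commutatorElement, commutatorElement_eq_one_iff_mul_comm]
  have hle : Subgroup.closure S ⊔ Subgroup.center Γ ≤ (Subgroup.centralizer ({f y} : Set (Γ ⧸ N))).comap f := by
    refine sup_le ((Subgroup.closure_le _).2 fun a ha =>
      Subgroup.mem_centralizer_singleton_iff.2 (hall a ha y)) fun z hz => ?_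
    show f z ∈ Subgroup.centralizer ({f y} : Set (Γ ⧸ N))
    rw [Subgroup.mem_centralizer_singleton_iff, ← map_mul, ← map_mul, Subgroup.mem_center_iff.1 hz y]
  exact Subgroup.mem_centralizer_singleton_iff.1 (hle (hgen.ge (Subgroup.mem_top x)))

theorem closure_sup_center_eq_top {Γ Q : Type*} [Group Γ] [Group Q] (σ : Γ →* Q)
    (hc : σ.ker ≤ Subgroup.center Γ) (S : Set Γ) (hS : Subgroup.closure (σ '' S) = ⊤) :
    Subgroup.closure S ⊔ Subgroup.center Γ = ⊤ := by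
  refine top_le_iff.1 fun y _ => ?_
  have h : σ y ∈ (Subgroup.closure S).map σ := by rw [MonoidHom.map_closure, hS]; exact Subgroup.mem_top _
  obtain ⟨s, hs, hsy⟩ := h
  rw [show y = s * (s⁻¹ * y) by group]
  refine Subgroup.mul_mem_sup hs (hc ?_)
  rw [MonoidHom.mem_ker, map_mul, map_inv, hsy, inv_mul_cancel]

/-- Central extensions of groups of dihedral type. -/
theorem dihedral_type {Γ Q : Type*} [Group Γ] [Group Q] (σ : Γ →* Q) (hσ : Cfsg.IsStemExtension σ)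
    (r s : Q) (hgen : Subgroup.closure ({r, s} : Set Q) = ⊤) (hrs : s * r * s⁻¹ = r⁻¹) :
    ∃ a x z w : Γ, σ a = r ∧ σ x = s ∧ z ∈ Subgroup.center Γ ∧ x * a * x⁻¹ = a⁻¹ * z ∧
      w = a ^ 2 * z⁻¹ ∧ σ w = r ^ 2 ∧ σ.ker ≤ Subgroup.zpowers w := by
  obtain ⟨hsurj, hc, hd⟩ := hσ
  obtain ⟨a, ha⟩ := hsurj r
  obtain ⟨x, hx⟩ := hsurj s
  obtain ⟨z, hz⟩ : ∃ z, z = a * (x * a * x⁻¹) := ⟨_, rfl⟩
  have hzk : z ∈ σ.ker := by
    rw [MonoidHom.mem_ker, hz, map_mul, map_mul, map_mul, map_inv, ha, hx, hrs, mul_inv_cancel]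
  have hzc := hc hzk
  have hzcomm : ∀ y : Γ, Commute z y := fun y => (Subgroup.mem_center_iff.1 hzc y).symm
  have hxa : x * a * x⁻¹ = a⁻¹ * z := by rw [hz]; group
  obtain ⟨w, hw⟩ : ∃ w, w = a ^ 2 * z⁻¹ := ⟨_, rfl⟩
  have hσw : σ w = r ^ 2 := by
    rw [hw, map_mul, map_pow, map_inv, MonoidHom.mem_ker.1 hzk, inv_one, mul_one, ha]
  refine ⟨a, x, z, w, ha, hx, hzc, hxa, hw, hσw, hd.trans ?_⟩
  have hwx : x * w * x⁻¹ = w⁻¹ := by
    have e : x * w * x⁻¹ = (x * a * x⁻¹) ^ 2 * z⁻¹ := by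
      rw [conj_pow, hw, show x * (a ^ 2 * z⁻¹) * x⁻¹ = x * a ^ 2 * (z⁻¹ * x⁻¹) by group,
        ((hzcomm x⁻¹).inv_left).eq]
      group
    rw [e, hxa, (hzcomm a⁻¹).symm.mul_pow, hw, mul_inv_rev, inv_inv, inv_pow,
      mul_assoc ((a ^ 2)⁻¹), show z ^ 2 * z⁻¹ = z by group, (hzcomm (a ^ 2)⁻¹).eq]
  have hwa : a * w * a⁻¹ = w := by
    rw [hw, show a * (a ^ 2 * z⁻¹) * a⁻¹ = a ^ 2 * (a * z⁻¹ * a⁻¹) by group,
      ← ((hzcomm a).inv_left).eq, mul_inv_cancel_right]
  have hS := closure_sup_center_eq_top σ hc {a, x} (by rw [Set.image_pair, ha, hx]; exact hgen)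
  haveI : (Subgroup.zpowers w).Normal := by
    refine Subgroup.normalizer_eq_top_iff.1 (top_le_iff.1 ?_)
    rw [← hS]
    have key : ∀ g : Γ, g * w * g⁻¹ = w ∨ g * w * g⁻¹ = w⁻¹ → g ∈ Subgroup.normalizer ((Subgroup.zpowers w : Subgroup Γ) : Set Γ) := by
      intro g hg
      have : (Subgroup.zpowers w).map (MulAut.conj g).toMonoidHom = Subgroup.zpowers w := by
        rw [MonoidHom.map_zpowers]
        show Subgroup.zpowers (g * w * g⁻¹) = _
        rcases hg with h | h <;> rw [h]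
        rw [Subgroup.zpowers_inv]
      refine Subgroup.mem_normalizer_iff.2 fun y => ?_
      constructor
      · intro hy
        exact this.le ⟨y, hy, rfl⟩
      · intro hy
        obtain ⟨v, hv, hvy⟩ := this.ge hy
        rwa [← show v = y from (MulAut.conj g).injective hvy]
    refine sup_le ((Subgroup.closure_le _).2 ?_) fun c hc' => key c (Or.inl ?_)
    · rintro g (rfl | hg)
      · exact key _ (Or.inl hwa)
      · rw [Set.mem_singleton_iff.1 hg]; exact key _ (Or.inr hwx)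
    · rw [← Subgroup.mem_center_iff.1 hc' w, mul_inv_cancel_right]
  refine commutator_le_of_gen (Subgroup.zpowers w) _ hS ?_
  have hax : ⁅a, x⁆ = w := by
    rw [commutatorElement_def, show a * x * a⁻¹ * x⁻¹ = a * (x * a * x⁻¹)⁻¹ by group, hxa, mul_inv_rev,
      inv_inv, ((hzcomm a).inv_left).eq, hw, pow_two, mul_assoc]
  rintro p (rfl | hp) q (rfl | hq)
  · rw [commutatorElement_self]; exact one_mem _
  · rw [Set.mem_singleton_iff.1 hq, hax]; exact Subgroup.mem_zpowers w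
  · rw [Set.mem_singleton_iff.1 hp, ← commutatorElement_inv, hax]
    exact inv_mem (Subgroup.mem_zpowers w)
  · rw [Set.mem_singleton_iff.1 hp, Set.mem_singleton_iff.1 hq, commutatorElement_self]; exact one_mem _

/-- The common computation: if `a ^ n` commutes with `x` then `w ^ n = 1`. -/
theorem w_pow_eq_one {Γ : Type*} [Group Γ] {a x z w : Γ} {n : ℕ} (hz : z ∈ Subgroup.center Γ)
    (hxa : x * a * x⁻¹ = a⁻¹ * z) (hw : w = a ^ 2 * z⁻¹) (hn : x * a ^ n * x⁻¹ = a ^ n) :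
    w ^ n = 1 := by
  have hzcomm : ∀ y : Γ, Commute z y := fun y => (Subgroup.mem_center_iff.1 hz y).symm
  rw [← conj_pow, hxa, (hzcomm a⁻¹).symm.mul_pow, inv_pow, inv_mul_eq_iff_eq_mul] at hn
  rw [hw, ((hzcomm (a ^ 2)).inv_left.symm).mul_pow, ← pow_mul, two_mul, pow_add, ← hn, inv_pow,
    mul_inv_cancel]

/-- The Heisenberg group of a bilinear map. -/
structure Heis (Q A : Type*) where
  /-- image in `Q` -/
  fst : Q
  /-- central part -/
  snd : A

/-- The group law of the Heisenberg group. -/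
abbrev heisGroup {Q A : Type*} [CommGroup Q] [AddCommGroup A] (β : Q → Q → A)
    (hl : ∀ a b c, β (a * b) c = β a c + β b c) (hr : ∀ a b c, β a (b * c) = β a b + β a c) :
    Group (Heis Q A) :=
  letI : Mul (Heis Q A) := ⟨fun x y => ⟨x.fst * y.fst, x.snd + y.snd + β x.fst y.fst⟩⟩
  letI : One (Heis Q A) := ⟨⟨1, 0⟩⟩
  letI : Inv (Heis Q A) := ⟨fun x => ⟨x.fst⁻¹, -x.snd + β x.fst x.fst⟩⟩
  have h0 : ∀ c, β 1 c = 0 := fun c => by simpa using hl 1 1 c
  Group.ofLeftAxioms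
    (fun x y z => by
      show (⟨x.fst * y.fst * z.fst, x.snd + y.snd + β x.fst y.fst + z.snd + β (x.fst * y.fst) z.fst⟩ : Heis Q A) =
        ⟨x.fst * (y.fst * z.fst), x.snd + (y.snd + z.snd + β y.fst z.fst) + β x.fst (y.fst * z.fst)⟩
      rw [hl, hr, mul_assoc]
      congr 1
      abel)
    (fun x => by
      show (⟨1 * x.fst, 0 + x.snd + β 1 x.fst⟩ : Heis Q A) = x
      rw [one_mul, h0, zero_add, add_zero])
    (fun x => by
      show (⟨x.fst⁻¹ * x.fst, -x.snd + β x.fst x.fst + x.snd + β x.fst⁻¹ x.fst⟩ : Heis Q A) = ⟨1, 0⟩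
      have h := hl x.fst⁻¹ x.fst x.fst
      rw [inv_mul_cancel, h0] at h
      rw [inv_mul_cancel]
      congr 1
      rw [show -x.snd + β x.fst x.fst + x.snd + β x.fst⁻¹ x.fst = β x.fst⁻¹ x.fst + β x.fst x.fst by abel, ← h])

/-- A bilinear map whose antisymmetrization generates gives a stem extension. -/
theorem heis_stem {Q : Type u} {A : Type u} [CommGroup Q] [AddCommGroup A] [Finite Q] [Finite A]
    (β : Q → Q → A) (hl : ∀ a b c, β (a * b) c = β a c + β b c)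
    (hr : ∀ a b c, β a (b * c) = β a b + β a c) (e₁ e₂ : Q)
    (hgen : ∀ t : A, t ∈ AddSubgroup.zmultiples (β e₁ e₂ - β e₂ e₁)) :
    ∃ (Γ : Type u) (_ : Group Γ) (_ : Finite Γ) (σ : Γ →* Q),
      Cfsg.IsStemExtension σ ∧ Nonempty (σ.ker ≃* Multiplicative A) := by
  letI : Group (Heis Q A) := heisGroup β hl hr
  haveI : Finite (Heis Q A) := Finite.of_equiv (Q × A)
    ⟨fun p => ⟨p.1, p.2⟩, fun h => (h.fst, h.snd), fun _ => rfl, fun _ => rfl⟩
  let σ : Heis Q A →* Q := MonoidHom.mk' Heis.fst fun _ _ => rfl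
  have h0l : ∀ c, β 1 c = 0 := fun c => by simpa using hl 1 1 c
  have h0r : ∀ c, β c 1 = 0 := fun c => by simpa using hr c 1 1
  have hmul : ∀ x y : Heis Q A, x * y = ⟨x.fst * y.fst, x.snd + y.snd + β x.fst y.fst⟩ := fun _ _ => rfl
  let ι : Multiplicative A →* Heis Q A := MonoidHom.mk' (fun t => ⟨1, Multiplicative.toAdd t⟩) fun s t => by
    rw [hmul]; simp [h0l]
  have hιinj : Function.Injective ι := fun s t h => congrArg Heis.snd h
  have hker : σ.ker = ι.range := by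
    ext x
    constructor
    · intro hx
      have hx : x.fst = 1 := hx
      exact ⟨Multiplicative.ofAdd x.snd, by cases x; subst hx; rfl⟩
    · rintro ⟨t, rfl⟩; rfl
  refine ⟨Heis Q A, inferInstance, inferInstance, σ, ⟨fun q => ⟨⟨q, 0⟩, rfl⟩, ?_, ?_⟩, ⟨?_⟩⟩
  · rw [hker]
    rintro _ ⟨t, rfl⟩
    rw [Subgroup.mem_center_iff]
    intro y
    show y * (⟨1, Multiplicative.toAdd t⟩ : Heis Q A) = ⟨1, Multiplicative.toAdd t⟩ * y
    rw [hmul, hmul]
    simp [h0l, h0r, add_comm]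
  · rw [hker]
    rintro _ ⟨t, rfl⟩
    obtain ⟨i, hi⟩ := hgen (Multiplicative.toAdd t)
    have hc : ι (Multiplicative.ofAdd (β e₁ e₂ - β e₂ e₁)) = ⁅(⟨e₁, 0⟩ : Heis Q A), ⟨e₂, 0⟩⁆ := by
      rw [commutatorElement_def, eq_mul_inv_iff_mul_eq, eq_mul_inv_iff_mul_eq]
      show (⟨1, β e₁ e₂ - β e₂ e₁⟩ : Heis Q A) * ⟨e₂, 0⟩ * ⟨e₁, 0⟩ = ⟨e₁, 0⟩ * ⟨e₂, 0⟩
      simp only [hmul, h0l]
      simp [mul_comm e₂ e₁]
    have ht : ι t = ι (Multiplicative.ofAdd (β e₁ e₂ - β e₂ e₁)) ^ i := by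
      rw [← map_zpow, ← ofAdd_zsmul]
      exact congrArg ι hi.symm
    rw [ht, hc]
    exact Subgroup.zpow_mem _ (Subgroup.commutator_mem_commutator (Subgroup.mem_top _) (Subgroup.mem_top _)) i
  · exact ((MonoidHom.ofInjective hιinj).trans (MulEquiv.subgroupCongr hker.symm)).symm

end Cfsg.Agent.Solv
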