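import Cfsg.Agent.Lib.Fusion.ThompsonTransferCyclic
import Cfsg.Agent.Lib.Fusion.NPC
import Cfsg.Agent.Lib.Solv.Basic
import Mathlib.GroupTheory.SpecificGroups.Dihedral
import Mathlib.GroupTheory.SpecificGroups.ZGroup

/-!
Classes of involutions in a group with dihedral Sylow 2-subgroups.
-/

set_option autoImplicit false
set_option linter.style.haveILetI false
set_option linter.unusedSectionVars false

namespace Cfsg.Agent.Solv.DihedralClasses

open Cfsg DihedralGroup

variable {m : ℕ}

theorem eq_two_mul_or [NeZero m] (i : ZMod m) : (∃ k, i = k + k) ∨ ∃ k, i = 1 + (k + k) := by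
  rcases Nat.even_or_odd i.val with ⟨k, hk⟩ | ⟨k, hk⟩
  · exact Or.inl ⟨k, by rw [← ZMod.natCast_rightInverse i, hk, Nat.cast_add]⟩
  · refine Or.inr ⟨k, ?_⟩
    rw [← ZMod.natCast_rightInverse i, hk, two_mul, Nat.cast_add, Nat.cast_add, Nat.cast_one]
    ring

theorem one_ne_double (hm : 2 ∣ m) (k : ZMod m) : (1 : ZMod m) ≠ k + k := by
  intro h
  have h1 := congrArg (ZMod.castHom hm (ZMod 2)) h
  rw [map_one, map_add] at h1
  have : ∀ a : ZMod 2, (1 : ZMod 2) ≠ a + a := by decide
  exact this _ h1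

/-- `sr (i + 2k)` is conjugate to `sr i`. -/
theorem conj_sr (i k : ZMod m) : (r (-k) : DihedralGroup m) * sr i * (r (-k))⁻¹ = sr (i + (k + k)) := by
  rw [inv_r, r_mul_sr, sr_mul_r]
  congr 1
  ring

theorem parity_conj (hm : 2 ∣ m) (g : DihedralGroup m) : g * sr 0 * g⁻¹ ≠ sr 1 := by
  cases g with
  | r k =>
    rw [inv_r, r_mul_sr, sr_mul_r]
    intro h
    exact one_ne_double hm (-k) (by linear_combination -(sr.inj h))
  | sr k =>
    rw [inv_sr, sr_mul_sr, r_mul_sr]
    intro h
    exact one_ne_double hm k (by linear_combination -(sr.inj h))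

theorem involution_cases [NeZero m] {x : DihedralGroup m} (hx : x ≠ 1) (h2 : x * x = 1) :
    x = r ((m / 2 : ℕ) : ZMod m) ∨ ∃ i, x = sr i := by
  cases x with
  | sr i => exact Or.inr ⟨i, rfl⟩
  | r i =>
    refine Or.inl ?_
    rw [r_mul_r, DihedralGroup.one_def] at h2
    have h3 : i + i = 0 := r.inj h2
    rw [← ZMod.natCast_rightInverse i, ← Nat.cast_add, ZMod.natCast_eq_zero_iff] at h3
    obtain ⟨c, hc⟩ := h3
    have hlt := ZMod.val_lt i
    have h4 : c < 2 := by
      by_contra h
      have := Nat.mul_le_mul_left m (not_lt.1 h)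
      omega
    rcases (show c = 0 ∨ c = 1 by omega) with rfl | rfl
    · rw [mul_zero] at hc
      exact absurd (by rw [(ZMod.val_eq_zero i).1 (by omega), ← DihedralGroup.one_def]) hx
    · rw [mul_one] at hc
      rw [← ZMod.natCast_rightInverse i, show i.val = m / 2 by omega]

theorem involution_cases' [NeZero m] {x : DihedralGroup m} (hx : orderOf x = 2) :
    x = r ((m / 2 : ℕ) : ZMod m) ∨ ∃ i, x = sr i :=
  involution_cases (fun e => by rw [e, orderOf_one] at hx; omega) (by rw [← pow_two, ← hx, pow_orderOf_eq_one])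

theorem one_add_double_two : ∀ a : ZMod 2, 1 + (a + a) ≠ 0 := by decide

theorem double_two : ∀ a : ZMod 2, a + a ≠ 1 := by decide

/-- The maximal subgroup of rotations. -/
def rotations (m : ℕ) : Subgroup (DihedralGroup m) where
  carrier := {x | ∃ i, x = r i}
  one_mem' := ⟨0, rfl⟩
  mul_mem' := by rintro _ _ ⟨i, rfl⟩ ⟨j, rfl⟩; exact ⟨_, r_mul_r i j⟩
  inv_mem' := by rintro _ ⟨i, rfl⟩; exact ⟨_, inv_r i⟩

/-- The two other maximal subgroups: rotations by even amounts and reflections of parity `ε`. -/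
def halfPart (hm : 2 ∣ m) (ε : ZMod 2) : Subgroup (DihedralGroup m) where
  carrier := {x | match x with
    | .r i => ZMod.castHom hm (ZMod 2) i = 0
    | .sr i => ZMod.castHom hm (ZMod 2) i = ε}
  one_mem' := map_zero _
  mul_mem' := by
    rintro (i | i) (j | j) hi hj <;>
      simp only [Set.mem_ofPred_eq, r_mul_r, r_mul_sr, sr_mul_r, sr_mul_sr] at hi hj ⊢ <;>
      simp [map_add, map_sub, hi, hj]
  inv_mem' := by
    rintro (i | i) hi <;> simp only [Set.mem_ofPred_eq, inv_r, inv_sr] at hi ⊢
    · simp [map_neg, hi]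
    · exact hi

theorem halfPart_index_two (hm : 2 ∣ m) (ε : ZMod 2) : (halfPart hm ε).index = 2 := by
  rw [Subgroup.index_eq_two_iff]
  refine ⟨r 1, fun b => ?_⟩
  have h2 : ∀ a : ZMod 2, Xor' (a + 1 = 0) (a = 0) := by unfold Xor'; decide
  cases b with
  | r i =>
    show Xor' (r i * r 1 ∈ halfPart hm ε) (r i ∈ halfPart hm ε)
    rw [r_mul_r]
    show Xor' (ZMod.castHom hm (ZMod 2) (i + 1) = 0) (ZMod.castHom hm (ZMod 2) i = 0)
    rw [map_add, map_one]
    exact h2 _
  | sr i =>
    show Xor' (sr i * r 1 ∈ halfPart hm ε) (sr i ∈ halfPart hm ε)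
    rw [sr_mul_r]
    show Xor' (ZMod.castHom hm (ZMod 2) (i + 1) = ε) (ZMod.castHom hm (ZMod 2) i = ε)
    rw [map_add, map_one]
    have h3 : ∀ a e : ZMod 2, Xor' (a + 1 = e) (a = e) := by unfold Xor'; decide
    exact h3 _ _

theorem rotations_index_two : (rotations m).index = 2 := by
  rw [Subgroup.index_eq_two_iff]
  refine ⟨sr 0, fun b => ?_⟩
  cases b with
  | r i =>
    refine Or.inr ⟨⟨i, rfl⟩, ?_⟩
    rw [r_mul_sr]
    rintro ⟨j, hj⟩
    cases hj
  | sr i =>
    refine Or.inl ⟨⟨_, sr_mul_sr i 0⟩, ?_⟩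
    rintro ⟨j, hj⟩
    cases hj

variable {G : Type*} [Group G] [Finite G]

/-- An involution outside a maximal subgroup of a Sylow 2-subgroup with no conjugate inside it lies
outside a normal subgroup of index 2. -/
theorem exists_index_two (P : Sylow 2 G) (ι : DihedralGroup m →* G) (hι : Function.Injective ι)
    (hrange : ι.range = (P : Subgroup G)) {M : Subgroup (DihedralGroup m)} (hM : M.index = 2)
    {y : DihedralGroup m} (hy : orderOf y = 2) (hyM : y ∉ M)
    (hno : ∀ g : G, g * ι y * g⁻¹ ∉ M.map ι) :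
    ∃ N : Subgroup G, N.Normal ∧ N.index = 2 ∧ ι y ∉ N := by
  have hTS : M.map ι ≤ (P : Subgroup G) := hrange ▸ (MonoidHom.range_eq_map ι ▸ Subgroup.map_mono le_top)
  have hidx : ((M.map ι).subgroupOf (P : Subgroup G)).index = 2 := by
    show (M.map ι).relIndex (P : Subgroup G) = 2
    rw [← hrange, MonoidHom.range_eq_map, Subgroup.relIndex_map_map_of_injective _ _ hι,
      Subgroup.relIndex_top_right, hM]
  haveI hTn := Subgroup.normal_of_index_eq_two hidx
  have hcard : Nat.card (↥(P : Subgroup G) ⧸ (M.map ι).subgroupOf (P : Subgroup G)) = 2 := by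
    rw [← Subgroup.index_eq_card, hidx]
  haveI : Fact (Nat.Prime 2) := ⟨Nat.prime_two⟩
  have hcyc : IsCyclic (↥(P : Subgroup G) ⧸ (M.map ι).subgroupOf (P : Subgroup G)) :=
    isCyclic_of_prime_card hcard
  have hyo : orderOf (ι y) = 2 := by rw [orderOf_injective ι hι, hy]
  by_contra hcon
  obtain ⟨g, hg, -, -⟩ := Fusion.extremal_transfer_cyclic_of_kills P (M.map ι) hTS hcyc hyo
    (hrange.le ⟨y, rfl⟩) (fun h => hyM ((Subgroup.mem_map_iff_mem hι).1 h)) (fun f => by
      by_contra hf
      refine hcon ⟨f.ker, inferInstance, ?_, fun h => hf (MonoidHom.mem_ker.1 h)⟩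
      have hd : f.ker.index ∣ 2 := by
        have h1 := f.range.card_subgroup_dvd_card
        rw [hcard] at h1
        rwa [Subgroup.index_ker]
      rcases (Nat.dvd_prime Nat.prime_two).1 hd with e | e
      · exact absurd (Subgroup.index_eq_one.1 e ▸ Subgroup.mem_top (ι y) : ι y ∈ f.ker)
          fun h => hf (MonoidHom.mem_ker.1 h)
      · exact e)
  exact hno g hg

variable [NeZero m] {P : Sylow 2 G} {ι : DihedralGroup m →* G}

/-- Conjugacy of the image of an involution reduces to `z`, `s`, `t`. -/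
theorem mk_cases {x : DihedralGroup m} (hx : x ≠ 1) (h2 : x * x = 1) :
    ConjClasses.mk (ι x) = ConjClasses.mk (ι (r ((m / 2 : ℕ) : ZMod m))) ∨
      ConjClasses.mk (ι x) = ConjClasses.mk (ι (sr 0)) ∨
      ConjClasses.mk (ι x) = ConjClasses.mk (ι (sr 1)) := by
  rcases involution_cases hx h2 with rfl | ⟨i, rfl⟩
  · exact Or.inl rfl
  refine Or.inr ?_
  rcases eq_two_mul_or i with ⟨k, rfl⟩ | ⟨k, rfl⟩
  · refine Or.inl (ConjClasses.mk_eq_mk_iff_isConj.2 (isConj_iff.2 ⟨ι (r k), ?_⟩))
    rw [← map_inv, ← map_mul, ← map_mul]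
    congr 1
    rw [inv_r, r_mul_sr, sr_mul_r]; congr 1; ring
  · refine Or.inr (ConjClasses.mk_eq_mk_iff_isConj.2 (isConj_iff.2 ⟨ι (r k), ?_⟩))
    rw [← map_inv, ← map_mul, ← map_mul]
    congr 1
    rw [inv_r, r_mul_sr, sr_mul_r]; congr 1; ring

theorem main (P : Sylow 2 G) (hm4 : 4 ∣ m) (ι : DihedralGroup m →* G) (hι : Function.Injective ι)
    (hrange : ι.range = (P : Subgroup G)) :
    (Nat.card {C : ConjClasses G // ∃ g : G, ConjClasses.mk g = C ∧ orderOf g = 2} = 1 ∧
        ∀ N : Subgroup G, N.Normal → N.index ≠ 2) ∨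
      (Nat.card {C : ConjClasses G // ∃ g : G, ConjClasses.mk g = C ∧ orderOf g = 2} = 2 ∧
        (∃ N : Subgroup G, N.Normal ∧ N.index = 2) ∧ ∀ N : Subgroup G, N.Normal → N.index ≠ 4) ∨
      (Nat.card {C : ConjClasses G // ∃ g : G, ConjClasses.mk g = C ∧ orderOf g = 2} = 3 ∧
        HasNormalPComplement 2 G) := by
  classical
  haveI : Fact (Nat.Prime 2) := ⟨Nat.prime_two⟩
  have hm2 : 2 ∣ m := (dvd_mul_right 2 2).trans hm4
  have hm0 : 0 < m := Nat.pos_of_ne_zero (NeZero.ne m)
  obtain ⟨l, hl⟩ := hm4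
  set z : DihedralGroup m := r ((m / 2 : ℕ) : ZMod m) with hzdef
  set s : DihedralGroup m := sr 0 with hsdef
  set t : DihedralGroup m := sr 1 with htdef
  have hzo : orderOf z = 2 := by
    refine orderOf_eq_prime ?_ ?_
    · rw [pow_two, hzdef, r_mul_r, ← Nat.cast_add, show m / 2 + m / 2 = m by omega, ZMod.natCast_self]
      rfl
    · rw [hzdef, DihedralGroup.one_def]
      intro h
      have h1 := (ZMod.natCast_eq_zero_iff _ _).1 (r.inj h)
      have := Nat.le_of_dvd (by omega) h1
      omega
  have hso : orderOf s = 2 := orderOf_sr 0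
  have hto : orderOf t = 2 := orderOf_sr 1
  -- the classes
  have hset : {C : ConjClasses G | ∃ g : G, ConjClasses.mk g = C ∧ orderOf g = 2} =
      {ConjClasses.mk (ι z), ConjClasses.mk (ι s), ConjClasses.mk (ι t)} := by
    ext C
    simp only [Set.mem_ofPred_eq, Set.mem_insert_iff, Set.mem_singleton_iff]
    constructor
    · rintro ⟨g, rfl, hg⟩
      obtain ⟨c, -, hc⟩ := (Fusion.sylIn_top P).conj_le
        (IsPGroup.of_card (p := 2) (n := 1) (by rw [Nat.card_zpowers, hg, pow_one]) :
          IsPGroup 2 (Subgroup.zpowers g)) le_top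
      have h1 := hc (Fusion.conj_mem_cj (Subgroup.mem_zpowers g))
      rw [← hrange] at h1
      obtain ⟨x, hx⟩ := h1
      have e : ConjClasses.mk g = ConjClasses.mk (ι x) :=
        ConjClasses.mk_eq_mk_iff_isConj.2 (isConj_iff.2 ⟨c, hx.symm⟩)
      have hxo : orderOf x = 2 := by
        rw [← orderOf_injective ι hι x, hx, show c * g * c⁻¹ = (MulAut.conj c).toMonoidHom g by simp,
          orderOf_injective _ (MulAut.conj c).injective, hg]
      rw [e]
      refine mk_cases (fun e1 => ?_) ?_
      · rw [e1, orderOf_one] at hxo; omega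
      · rw [← pow_two, ← hxo, pow_orderOf_eq_one]
    · rintro (rfl | rfl | rfl)
      · exact ⟨_, rfl, by rw [orderOf_injective ι hι, hzo]⟩
      · exact ⟨_, rfl, by rw [orderOf_injective ι hι, hso]⟩
      · exact ⟨_, rfl, by rw [orderOf_injective ι hι, hto]⟩
  have hcardset : Nat.card {C : ConjClasses G // ∃ g : G, ConjClasses.mk g = C ∧ orderOf g = 2} =
      ({ConjClasses.mk (ι z), ConjClasses.mk (ι s), ConjClasses.mk (ι t)} : Set (ConjClasses G)).ncard := by
    rw [← hset, ← Nat.card_coe_set_eq]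
    rfl
  rw [hcardset]
  -- facts on normal subgroups of small index
  have hNP : ∀ N : Subgroup G, N.Normal → (∃ k, N.index = 2 ^ k) → ι s ∈ N → ι t ∈ N → N.index = 1 := by
    intro N _ ⟨k, hk⟩ hsN htN
    have hPN : (P : Subgroup G) ≤ N := by
      rw [← hrange]
      rintro _ ⟨x, rfl⟩
      have hr : ∀ i : ZMod m, ι (r i) ∈ N := fun i => by
        have h1 : ι (r 1) ∈ N := by
          rw [show (r 1 : DihedralGroup m) = s * t by rw [hsdef, htdef, sr_mul_sr, sub_zero], map_mul]
          exact N.mul_mem hsN htN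
        rw [← ZMod.natCast_rightInverse i, ← r_one_pow, map_pow]
        exact N.pow_mem h1 _
      cases x with
      | r i => exact hr i
      | sr i =>
        rw [show (sr i : DihedralGroup m) = s * r i by rw [hsdef, sr_mul_r, zero_add], map_mul]
        exact N.mul_mem hsN (hr i)
    rw [hk]
    rcases k with _ | k
    · rfl
    · exact absurd ((dvd_pow_self 2 (Nat.succ_ne_zero k)).trans
        (hk ▸ Subgroup.index_dvd_of_le hPN)) P.not_dvd_index
  have hconjN : ∀ (N : Subgroup G), N.Normal → ∀ a b : DihedralGroup m,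
      ConjClasses.mk (ι a) = ConjClasses.mk (ι b) → ι b ∈ N → ι a ∈ N := by
    intro N hN a b hab hb
    obtain ⟨c, hc⟩ := isConj_iff.1 (ConjClasses.mk_eq_mk_iff_isConj.1 hab)
    have := hN.conj_mem _ hb c⁻¹
    rwa [← hc, inv_inv, show c⁻¹ * (c * ι a * c⁻¹) * c = ι a by group] at this
  have hz2 : z = (r 1) ^ (m / 2) := by rw [hzdef, r_one_pow]
  have hz_mem : ∀ N : Subgroup G, N.Normal → N.index = 2 → ι z ∈ N := by
    intro N _ hN
    rw [hz2, map_pow, show m / 2 = 2 * l by omega, pow_mul, pow_two]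
    exact N.pow_mem (Subgroup.mul_self_mem_of_index_two hN _) l
  by_cases hs : ConjClasses.mk (ι s) = ConjClasses.mk (ι z) <;>
    by_cases ht : ConjClasses.mk (ι t) = ConjClasses.mk (ι z)
  · refine Or.inl ⟨?_, fun N hN hidx => ?_⟩
    · rw [hs, ht]; simp
    · have := hNP N hN ⟨1, by rw [hidx, pow_one]⟩ (hconjN N hN s z hs (hz_mem N hN hidx))
        (hconjN N hN t z ht (hz_mem N hN hidx))
      omega
  · refine Or.inr (Or.inl ?_)
    have hidx := halfPart_index_two hm2 (0 : ZMod 2)
    obtain ⟨N, hN, hN2, hNt⟩ := exists_index_two P ι hι hrange hidx hto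
      (by
        show ¬ ZMod.castHom hm2 (ZMod 2) 1 = 0
        rw [map_one]; exact one_ne_zero)
      (by
        rintro g ⟨x, hx, hxe⟩
        have hxo : orderOf x = 2 := by
          rw [← orderOf_injective ι hι x, hxe, show g * ι t * g⁻¹ = (MulAut.conj g).toMonoidHom (ι t) by simp,
            orderOf_injective _ (MulAut.conj g).injective, orderOf_injective ι hι, hto]
        have e : ConjClasses.mk (ι t) = ConjClasses.mk (ι x) :=
          ConjClasses.mk_eq_mk_iff_isConj.2 (isConj_iff.2 ⟨g, hxe.symm⟩)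
        refine ht (e.trans ?_)
        rcases involution_cases' hxo with rfl | ⟨i, rfl⟩
        · rfl
        · rcases eq_two_mul_or i with ⟨k, rfl⟩ | ⟨k, rfl⟩
          · refine Eq.trans ?_ hs
            refine ConjClasses.mk_eq_mk_iff_isConj.2 (isConj_iff.2 ⟨ι (r k), ?_⟩)
            rw [← map_inv, ← map_mul, ← map_mul]
            congr 1
            rw [hsdef, inv_r, r_mul_sr, sr_mul_r]; congr 1; ring
          · exfalso
            have hx' : ZMod.castHom hm2 (ZMod 2) (1 + (k + k)) = 0 := hx
            rw [map_add, map_one, map_add] at hx'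
            exact one_add_double_two _ hx')
    refine ⟨?_, ⟨N, hN, hN2⟩, fun K hK hK4 => ?_⟩
    · rw [hs, Set.insert_eq_of_mem (Set.mem_insert _ _), Set.ncard_pair (Ne.symm ht)]
    · haveI := hK
      have hcard : Nat.card (G ⧸ K) = 2 ^ 2 := by rw [← Subgroup.index_eq_card, hK4]; norm_num
      letI : CommGroup (G ⧸ K) := IsPGroup.commGroupOfCardEqPrimeSq hcard
      set π := (QuotientGroup.mk' K).comp ι
      have hπz : π z = 1 := by
        rw [hz2, map_pow, show (r 1 : DihedralGroup m) = s * t by rw [hsdef, htdef, sr_mul_sr, sub_zero],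
          map_mul, show m / 2 = 2 * l by omega, pow_mul, mul_pow, ← map_pow π, ← map_pow π,
          show s ^ 2 = 1 from hso ▸ pow_orderOf_eq_one s, show t ^ 2 = 1 from hto ▸ pow_orderOf_eq_one t,
          map_one, one_mul, one_pow]
      have hzK : ι z ∈ K := (QuotientGroup.eq_one_iff _).1 hπz
      have hsK : ι s ∈ K := hconjN K hK s z hs hzK
      set L := K ⊔ Subgroup.zpowers (ι t) with hL
      have h2 : L.index = 1 := by
        obtain ⟨k, -, hk⟩ := (Nat.dvd_prime_pow Nat.prime_two).1
          (show L.index ∣ 2 ^ 2 from (Subgroup.index_dvd_of_le le_sup_left).trans (hK4 ▸ dvd_rfl))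
        haveI : L.Normal := by
          rw [show L = (L.map (QuotientGroup.mk' K)).comap (QuotientGroup.mk' K) by
            rw [QuotientGroup.comap_map_mk', sup_eq_right.2 (le_sup_left : K ≤ L)]]
          haveI : (L.map (QuotientGroup.mk' K)).Normal := Subgroup.normal_of_isMulCommutative _
          infer_instance
        exact hNP L inferInstance ⟨k, hk⟩ (Subgroup.mem_sup_left hsK)
          (Subgroup.mem_sup_right (Subgroup.mem_zpowers _))
      have h3 := Solv.card_sup_mul_card_inf K (Subgroup.zpowers (ι t))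
      rw [← hL, Subgroup.index_eq_one.1 h2, Subgroup.card_top, Nat.card_zpowers, orderOf_injective ι hι, hto,
        ← K.card_mul_index, hK4] at h3
      have h4 : 0 < Nat.card K := Nat.card_pos
      have h5 : 1 ≤ Nat.card (K ⊓ Subgroup.zpowers (ι t) : Subgroup G) := Nat.card_pos
      nlinarith
  · refine Or.inr (Or.inl ?_)
    have hidx := halfPart_index_two hm2 (1 : ZMod 2)
    obtain ⟨N, hN, hN2, hNs⟩ := exists_index_two P ι hι hrange hidx hso
      (by
        show ¬ ZMod.castHom hm2 (ZMod 2) 0 = 1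
        rw [map_zero]; exact zero_ne_one)
      (by
        rintro g ⟨x, hx, hxe⟩
        have hxo : orderOf x = 2 := by
          rw [← orderOf_injective ι hι x, hxe, show g * ι s * g⁻¹ = (MulAut.conj g).toMonoidHom (ι s) by simp,
            orderOf_injective _ (MulAut.conj g).injective, orderOf_injective ι hι, hso]
        have e : ConjClasses.mk (ι s) = ConjClasses.mk (ι x) :=
          ConjClasses.mk_eq_mk_iff_isConj.2 (isConj_iff.2 ⟨g, hxe.symm⟩)
        refine hs (e.trans ?_)
        rcases involution_cases' hxo with rfl | ⟨i, rfl⟩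
        · rfl
        · rcases eq_two_mul_or i with ⟨k, rfl⟩ | ⟨k, rfl⟩
          · exfalso
            have hx' : ZMod.castHom hm2 (ZMod 2) (k + k) = 1 := hx
            rw [map_add] at hx'
            exact double_two _ hx'
          · refine Eq.trans ?_ ht
            refine ConjClasses.mk_eq_mk_iff_isConj.2 (isConj_iff.2 ⟨ι (r k), ?_⟩)
            rw [← map_inv, ← map_mul, ← map_mul]
            congr 1
            rw [htdef, inv_r, r_mul_sr, sr_mul_r]; congr 1; ring)
    refine ⟨?_, ⟨N, hN, hN2⟩, fun K hK hK4 => ?_⟩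
    · rw [ht, Set.pair_comm (ConjClasses.mk (ι s)), Set.insert_eq_of_mem (Set.mem_insert _ _),
        Set.ncard_pair (Ne.symm hs)]
    · haveI := hK
      have hcard : Nat.card (G ⧸ K) = 2 ^ 2 := by rw [← Subgroup.index_eq_card, hK4]; norm_num
      letI : CommGroup (G ⧸ K) := IsPGroup.commGroupOfCardEqPrimeSq hcard
      set π := (QuotientGroup.mk' K).comp ι
      have hπz : π z = 1 := by
        rw [hz2, map_pow, show (r 1 : DihedralGroup m) = s * t by rw [hsdef, htdef, sr_mul_sr, sub_zero],
          map_mul, show m / 2 = 2 * l by omega, pow_mul, mul_pow, ← map_pow π, ← map_pow π,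
          show s ^ 2 = 1 from hso ▸ pow_orderOf_eq_one s, show t ^ 2 = 1 from hto ▸ pow_orderOf_eq_one t,
          map_one, one_mul, one_pow]
      have hzK : ι z ∈ K := (QuotientGroup.eq_one_iff _).1 hπz
      have htK : ι t ∈ K := hconjN K hK t z ht hzK
      set L := K ⊔ Subgroup.zpowers (ι s) with hL
      have h2 : L.index = 1 := by
        obtain ⟨k, -, hk⟩ := (Nat.dvd_prime_pow Nat.prime_two).1
          (show L.index ∣ 2 ^ 2 from (Subgroup.index_dvd_of_le le_sup_left).trans (hK4 ▸ dvd_rfl))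
        haveI : L.Normal := by
          rw [show L = (L.map (QuotientGroup.mk' K)).comap (QuotientGroup.mk' K) by
            rw [QuotientGroup.comap_map_mk', sup_eq_right.2 (le_sup_left : K ≤ L)]]
          haveI : (L.map (QuotientGroup.mk' K)).Normal := Subgroup.normal_of_isMulCommutative _
          infer_instance
        exact hNP L inferInstance ⟨k, hk⟩ (Subgroup.mem_sup_right (Subgroup.mem_zpowers _))
          (Subgroup.mem_sup_left htK)
      have h3 := Solv.card_sup_mul_card_inf K (Subgroup.zpowers (ι s))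
      rw [← hL, Subgroup.index_eq_one.1 h2, Subgroup.card_top, Nat.card_zpowers, orderOf_injective ι hι, hso,
        ← K.card_mul_index, hK4] at h3
      have h4 : 0 < Nat.card K := Nat.card_pos
      have h5 : 1 ≤ Nat.card (K ⊓ Subgroup.zpowers (ι s) : Subgroup G) := Nat.card_pos
      nlinarith
  · refine Or.inr (Or.inr ?_)
    have hrot : ∀ (y : DihedralGroup m), orderOf y = 2 → ¬ ConjClasses.mk (ι y) = ConjClasses.mk (ι z) →
        ∀ g : G, g * ι y * g⁻¹ ∉ (rotations m).map ι := by
      rintro y hy hyz g ⟨x, ⟨i, hi⟩, hxe⟩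
      subst hi
      have hxo : orderOf (r i : DihedralGroup m) = 2 := by
        rw [← orderOf_injective ι hι, hxe, show g * ι y * g⁻¹ = (MulAut.conj g).toMonoidHom (ι y) by simp,
          orderOf_injective _ (MulAut.conj g).injective, orderOf_injective ι hι, hy]
      refine hyz ((ConjClasses.mk_eq_mk_iff_isConj.2 (isConj_iff.2 ⟨g, hxe.symm⟩)).trans ?_)
      rcases involution_cases' hxo with e | ⟨j, e⟩
      · rw [e]
      · cases e
    have hnotrot : ∀ i : ZMod m, (sr i : DihedralGroup m) ∉ rotations m := by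
      rintro i ⟨j, hj⟩; cases hj
    obtain ⟨A, hA, hA2, hAs⟩ := exists_index_two P ι hι hrange rotations_index_two hso (hnotrot 0)
      (hrot s hso hs)
    obtain ⟨B, hB, hB2, hBt⟩ := exists_index_two P ι hι hrange rotations_index_two hto (hnotrot 1)
      (hrot t hto ht)
    obtain ⟨N, hN, hN2, hNs, hNt⟩ : ∃ N : Subgroup G, N.Normal ∧ N.index = 2 ∧ ι s ∉ N ∧ ι t ∉ N := by
      by_cases hAt : ι t ∈ A
      · by_cases hBs : ι s ∈ B
        · let N : Subgroup G :=
            { carrier := {g | g ∈ A ↔ g ∈ B}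
              one_mem' := iff_of_true A.one_mem B.one_mem
              mul_mem' := fun {a b} ha hb => by
                show a * b ∈ A ↔ a * b ∈ B
                rw [Subgroup.mul_mem_iff_of_index_two hA2, Subgroup.mul_mem_iff_of_index_two hB2]
                exact iff_congr ha hb
              inv_mem' := fun {a} ha => by
                show a⁻¹ ∈ A ↔ a⁻¹ ∈ B
                rw [A.inv_mem_iff, B.inv_mem_iff]
                exact ha }
          have hN2 : N.index = 2 := by
            rw [Subgroup.index_eq_two_iff]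
            refine ⟨ι s, fun b => ?_⟩
            show Xor' (b * ι s ∈ A ↔ b * ι s ∈ B) (b ∈ A ↔ b ∈ B)
            rw [Subgroup.mul_mem_iff_of_index_two hA2, Subgroup.mul_mem_iff_of_index_two hB2]
            unfold Xor'
            by_cases h1 : b ∈ A <;> by_cases h2 : b ∈ B <;> simp [h1, h2, hAs, hBs]
          refine ⟨N, Subgroup.normal_of_index_eq_two hN2, hN2, fun h => hAs (h.2 hBs), fun h => hBt (h.1 hAt)⟩
        · exact ⟨B, hB, hB2, hBs, hBt⟩
      · exact ⟨A, hA, hA2, hAs, hAt⟩
    haveI := hN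
    -- `P ∩ N` is cyclic
    have hPN : (P : Subgroup G) ⊓ N ≤ (rotations m).map ι := by
      rintro _ ⟨hP, hxN⟩
      rw [← hrange] at hP
      obtain ⟨x, rfl⟩ := hP
      refine ⟨x, ?_, rfl⟩
      cases x with
      | r i => exact ⟨i, rfl⟩
      | sr i =>
        exfalso
        rcases eq_two_mul_or i with ⟨k, rfl⟩ | ⟨k, rfl⟩
        · refine hNs (hconjN N hN s (sr (k + k)) ?_ hxN)
          refine ConjClasses.mk_eq_mk_iff_isConj.2 (isConj_iff.2 ⟨ι (r (-k)), ?_⟩)
          rw [← map_inv, ← map_mul, ← map_mul, hsdef, conj_sr, zero_add]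
        · refine hNt (hconjN N hN t (sr (1 + (k + k))) ?_ hxN)
          refine ConjClasses.mk_eq_mk_iff_isConj.2 (isConj_iff.2 ⟨ι (r (-k)), ?_⟩)
          rw [← map_inv, ← map_mul, ← map_mul, htdef, conj_sr]
    haveI : IsCyclic (rotations m) := by
      refine ⟨⟨⟨r 1, 1, rfl⟩, ?_⟩⟩
      rintro ⟨x, i, rfl⟩
      refine ⟨(i.val : ℤ), Subtype.ext ?_⟩
      simp [r_one_pow]
    have hPNcyc : IsCyclic ((P : Subgroup G) ⊓ N : Subgroup G) := by
      haveI : IsCyclic ((rotations m).map ι) :=
        isCyclic_of_surjective (ι.subgroupMap (rotations m)) (ι.subgroupMap_surjective _)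
      exact isCyclic_of_surjective (Subgroup.subgroupOfEquivOfLe hPN).toMonoidHom
        (Subgroup.subgroupOfEquivOfLe hPN).surjective
    have hsyl : Fusion.SylIn 2 ((P : Subgroup G) ⊓ N) N :=
      (Fusion.sylIn_top P).inf_normal le_top (by rw [Subgroup.normalizer_eq_top])
    obtain ⟨Q, hQ⟩ := hsyl.exists_sylow_subgroupOf
    have hQc : IsCyclic Q := by
      rw [hQ]
      haveI := hPNcyc
      exact isCyclic_of_surjective (Subgroup.subgroupOfEquivOfLe (inf_le_right : (P : Subgroup G) ⊓ N ≤ N)).symm.toMonoidHom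
        (Subgroup.subgroupOfEquivOfLe _).symm.surjective
    have hNnpc : HasNormalPComplement 2 N := by
      by_cases hd : 2 ∣ Nat.card N
      · refine Fusion.hnpc_of_normalizer_le_centralizer Q (hQc.normalizer_le_centralizer ?_)
        exact le_antisymm (Nat.minFac_le_of_dvd le_rfl hd)
          (Nat.minFac_prime (fun e => by rw [e] at hd; exact absurd hd (by norm_num))).two_le
      · exact Fusion.hnpc_of_not_dvd hd
    have hG : HasNormalPComplement 2 G := by
      haveI : ((pResidual 2 N).map N.subtype).Normal := inferInstance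
      refine Fusion.hnpc_of_coprime_normal_pgroup_quotient (N := (pResidual 2 N).map N.subtype) ?_ ?_
      · rw [Subgroup.card_map_of_injective N.subtype_injective]; exact Fusion.hnpc_iff.1 hNnpc
      · obtain ⟨k, hk⟩ := IsPGroup.iff_card.1 (Fusion.isPGroup_quotient_pResidual (p := 2) (G := N))
        refine IsPGroup.of_card (n := k + 1) ?_
        rw [← Subgroup.index_eq_card, Subgroup.index_map_subtype, hN2, Subgroup.index_eq_card, hk, pow_succ]
    refine ⟨?_, hG⟩
    have hst : ¬ ConjClasses.mk (ι s) = ConjClasses.mk (ι t) := by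
      intro e
      obtain ⟨K, hK, hKc⟩ := Fusion.hnpc_exists_complement hG P
      haveI := hK
      obtain ⟨c, hc⟩ := isConj_iff.1 (ConjClasses.mk_eq_mk_iff_isConj.1 e)
      set f : DihedralGroup m →* G ⧸ K := (QuotientGroup.mk' K).comp ι with hf
      have hinj : Function.Injective f := by
        rw [injective_iff_map_eq_one]
        intro x hx
        have h1 : ι x ∈ K ⊓ (P : Subgroup G) := ⟨(QuotientGroup.eq_one_iff _).1 hx, hrange ▸ ⟨x, rfl⟩⟩
        rw [disjoint_iff.1 hKc.disjoint, Subgroup.mem_bot] at h1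
        exact hι (h1.trans (map_one ι).symm)
      have hsurj : Function.Surjective f := by
        refine ((Nat.bijective_iff_injective_and_card f).2 ⟨hinj, ?_⟩).2
        rw [← Subgroup.index_eq_card, hKc.symm.index_eq_card, ← hrange]
        exact Nat.card_congr (MonoidHom.ofInjective hι).toEquiv
      obtain ⟨d, hd⟩ := hsurj (QuotientGroup.mk' K c)
      refine parity_conj hm2 d (hinj ?_)
      rw [map_mul, map_mul, map_inv, hd, ← hsdef, ← htdef]
      show QuotientGroup.mk' K c * QuotientGroup.mk' K (ι s) * (QuotientGroup.mk' K c)⁻¹ = QuotientGroup.mk' K (ι t)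
      rw [← map_inv, ← map_mul, ← map_mul, hc]
    rw [Set.ncard_insert_of_notMem (by simp [Ne.symm hs, Ne.symm ht]), Set.ncard_pair hst]

end Cfsg.Agent.Solv.DihedralClasses
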