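import Cfsg.Agent.Lib.Solv.Basic
import Mathlib.GroupTheory.GroupAction.Quotient

/-!
Order of the product set of two subgroups.
-/

set_option autoImplicit false

open scoped Pointwise

namespace Cfsg.Agent.Solv

universe u

variable {G : Type u} [Group G]

theorem card_mul_set_mul_card_inf [Finite G] (H K : Subgroup G) :
    Nat.card ((H : Set G) * (K : Set G) : Set G) * Nat.card (H ⊓ K : Subgroup G) =
      Nat.card H * Nat.card K := by
  set π : G → G ⧸ K := QuotientGroup.mk
  have hpre : π ⁻¹' (π '' (H : Set G)) = (H : Set G) * (K : Set G) := by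
    ext x
    simp only [Set.mem_preimage, Set.mem_image, Set.mem_mul]
    constructor
    · rintro ⟨h, hh, e⟩
      exact ⟨h, hh, h⁻¹ * x, QuotientGroup.eq.1 e, mul_inv_cancel_left h x⟩
    · rintro ⟨h, hh, k, hk, rfl⟩
      exact ⟨h, hh, QuotientGroup.eq.2 (by rwa [inv_mul_cancel_left])⟩
  have h1 := Nat.card_congr (QuotientGroup.preimageMkEquivSubgroupProdSet K (π '' (H : Set G)))
  rw [hpre, Nat.card_prod] at h1
  have horb : π '' (H : Set G) = MulAction.orbit H (π 1) := by
    ext x
    constructor
    · rintro ⟨h, hh, rfl⟩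
      exact ⟨⟨h, hh⟩, by show h • (π 1) = π h; exact congrArg π (mul_one h)⟩
    · rintro ⟨⟨h, hh⟩, rfl⟩
      exact ⟨h, hh, (congrArg π (mul_one h)).symm⟩
  have hst : MulAction.stabilizer H (π 1) = K.subgroupOf H := by
    ext h
    rw [MulAction.mem_stabilizer_iff, Subgroup.mem_subgroupOf]
    show π ((h : G) * 1) = π 1 ↔ (h : G) ∈ K
    rw [mul_one]
    constructor
    · intro e
      have h2 := QuotientGroup.eq.1 e
      rw [mul_one] at h2
      exact K.inv_mem_iff.1 h2
    · intro hk
      refine QuotientGroup.eq.2 ?_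
      rw [mul_one]; exact K.inv_mem hk
  have h2 : Nat.card (π '' (H : Set G)) = (K.subgroupOf H).index := by
    rw [horb, ← hst, MulAction.index_stabilizer, Nat.card_coe_set_eq]
  have h3 := (K.subgroupOf H).card_mul_index
  rw [← Subgroup.inf_subgroupOf_left, card_subgroupOf inf_le_left, Subgroup.inf_subgroupOf_left] at h3
  rw [h1, h2, ← h3]
  ring

end Cfsg.Agent.Solv
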