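import Mathlib
import Cfsg.Prelude.Def_KGroupFacts
import Cfsg.Agent.Lib.Solv.SchurSmall
import Cfsg.Agent.Lib.Lie.StemSylow

/-!
A stem extension has trivial kernel when the kernel meets every derived Sylow subgroup trivially; criteria for
Sylow subgroups which are cyclic, elementary abelian of rank two or semidihedral of order sixteen.
-/

set_option autoImplicit false

open scoped commutatorElement

namespace Cfsg.Agent.Solv.StemLocal

variable {Γ G : Type*} [Group Γ] [Group G]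

/-- Transfer into the abelianised Sylow subgroup. -/
theorem ker_eq_bot [Finite Γ] (σ : Γ →* G) (hσ : Cfsg.IsStemExtension σ)
    (h : ∀ p : ℕ, p.Prime → ∀ P : Sylow p Γ, ∀ x : (P : Subgroup Γ),
      x ∈ commutator (P : Subgroup Γ) → σ x = 1 → x = 1) : σ.ker = ⊥ := by
  obtain ⟨-, hc, hd⟩ := hσ
  by_contra hne
  have h1 : Nat.card σ.ker ≠ 1 := fun e => hne (Subgroup.eq_bot_of_card_eq _ e)
  obtain ⟨p, hp, hdvd⟩ := Nat.exists_prime_and_dvd h1
  haveI := Fact.mk hp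
  obtain ⟨z, hz⟩ := exists_prime_orderOf_dvd_card' p hdvd
  have hzo : orderOf (z : Γ) = p := by rwa [Subgroup.orderOf_coe]
  have hzc : ∀ g : Γ, g * z = z * g := Subgroup.mem_center_iff.1 (hc z.2)
  obtain ⟨P⟩ := (inferInstance : Nonempty (Sylow p Γ))
  haveI : (P : Subgroup Γ).FiniteIndex := inferInstance
  have ht := MonoidHom.transfer_eq_pow (Abelianization.of (G := (P : Subgroup Γ))) (z : Γ) (fun k g _ => by
    rw [mul_assoc, ← (Commute.pow_right (show Commute g (z : Γ) from hzc g) k).eq, inv_mul_cancel_left])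
  have hker : (z : Γ) ∈ (MonoidHom.transfer (Abelianization.of (G := (P : Subgroup Γ)))).ker :=
    Abelianization.commutator_subset_ker _ (hd z.2)
  rw [MonoidHom.mem_ker, ht] at hker
  have hmem := (QuotientGroup.eq_one_iff _).mp hker
  have h2 := congrArg Subtype.val (h p hp P _ hmem (by
    show σ ((z : Γ) ^ (P : Subgroup Γ).index) = 1
    rw [map_pow, show σ (z : Γ) = 1 from z.2, one_pow]))
  have := orderOf_dvd_of_pow_eq_one (show (z : Γ) ^ (P : Subgroup Γ).index = 1 from h2)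
  rw [hzo] at this
  exact P.not_dvd_index this

variable (σ : Γ →* G) (hs : Function.Surjective σ) (hc : σ.ker ≤ Subgroup.center Γ)

include hs hc

theorem image_conj {p : ℕ} [Fact p.Prime] [Finite G] (P : Sylow p Γ) (K : Subgroup G) (hK : IsPGroup p K)
    (hidx : ¬ p ∣ K.index) : ∃ γ : Γ, ∀ x ∈ (P : Subgroup Γ), σ (γ * x * γ⁻¹) ∈ K := by
  obtain ⟨Q, hQ⟩ := (P.isPGroup'.map σ).exists_le_sylow
  obtain ⟨g, hg⟩ := MulAction.exists_smul_eq G Q (hK.toSylow hidx)
  obtain ⟨γ, rfl⟩ := hs g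
  refine ⟨γ, fun x hx => ?_⟩
  have h1 : σ γ * σ x * (σ γ)⁻¹ ∈ ((σ γ • Q : Sylow p G) : Subgroup G) := by
    rw [Sylow.coe_subgroup_smul]
    exact ⟨σ x, hQ ⟨x, hx, rfl⟩, rfl⟩
  rw [hg] at h1
  simpa using h1

theorem comm_rank_two {p : ℕ} [Fact p.Prime] (hp : p ≠ 2) {a b h : G} (ha : a ^ p = 1) (hab : a * b = b * a)
    (h1 : h * a = b * h) (h2 : h * b = a * h) {x y : Γ} (hx : σ x ∈ Subgroup.closure ({a, b} : Set G))
    (hy : σ y ∈ Subgroup.closure ({a, b} : Set G)) : x * y = y * x := by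
  obtain ⟨A, rfl⟩ := hs a
  obtain ⟨B, rfl⟩ := hs b
  obtain ⟨N, rfl⟩ := hs h
  have cen : ∀ k, σ k = 1 → ∀ u : Γ, Commute k u := fun k hk u => (Subgroup.mem_center_iff.1 (hc hk) u).symm
  obtain ⟨c, hcdef⟩ : ∃ c, c = A * B * A⁻¹ * B⁻¹ := ⟨_, rfl⟩
  have hc1 : σ c = 1 := by rw [hcdef]; simp [hab]
  have hcA : A * B = c * (B * A) := by rw [hcdef]; group
  obtain ⟨u, hu, eA⟩ : ∃ u, σ u = 1 ∧ N * A * N⁻¹ = B * u :=
    ⟨B⁻¹ * (N * A * N⁻¹), by simp [h1], (mul_inv_cancel_left _ _).symm⟩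
  obtain ⟨v, hv, eB⟩ : ∃ v, σ v = 1 ∧ N * B * N⁻¹ = A * v :=
    ⟨A⁻¹ * (N * B * N⁻¹), by simp [h2], (mul_inv_cancel_left _ _).symm⟩
  have e1 : B * A = c * (A * B) := by
    have := congrArg (fun w => N * w * N⁻¹) hcA
    try simp only at this
    rw [show N * (A * B) * N⁻¹ = N * A * N⁻¹ * (N * B * N⁻¹) by group,
      show N * (c * (B * A)) * N⁻¹ = N * c * N⁻¹ * (N * B * N⁻¹ * (N * A * N⁻¹)) by group, eA, eB,
      ← (cen c hc1 N).eq, mul_inv_cancel_right,
      show B * u * (A * v) = B * A * (u * v) by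
        rw [mul_assoc B u, ← mul_assoc u A, (cen u hu A).eq]; group,
      show A * v * (B * u) = A * B * (u * v) by
        rw [mul_assoc A v, ← mul_assoc v B, (cen v hv B).eq, (cen u hu v).eq]; group,
      ← mul_assoc c] at this
    exact mul_right_cancel this
  have hc2 : c ^ 2 = 1 := by
    have := hcA
    rw [e1, ← mul_assoc, ← pow_two] at this
    exact (mul_eq_right.mp this.symm)
  have hcp : c ^ p = 1 := by
    have hk : ∀ k : ℕ, A ^ k * B = c ^ k * (B * A ^ k) := by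
      intro k
      induction k with
      | zero => simp
      | succ k ih =>
        rw [pow_succ, mul_assoc, hcA, ← mul_assoc, ← ((cen c hc1 (A ^ k))).eq, mul_assoc,
          ← mul_assoc (A ^ k), ih, pow_succ' c k]
        simp only [mul_assoc]
    have e := hk p
    rw [(cen (A ^ p) (by rw [map_pow, ha]) B).eq] at e
    exact mul_eq_right.mp e.symm
  have hc0 : c = 1 := by
    have h := orderOf_dvd_of_pow_eq_one hc2
    have h' := orderOf_dvd_of_pow_eq_one hcp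
    have hd := Nat.dvd_gcd h h'
    rw [(Nat.coprime_primes Nat.prime_two (Fact.out : p.Prime)).mpr (fun e => hp e.symm), Nat.dvd_one] at hd
    exact orderOf_eq_one_iff.mp hd
  rw [hc0, one_mul] at hcA
  have hpre : ∀ w, σ w ∈ Subgroup.closure ({σ A, σ B} : Set G) →
      w ∈ Subgroup.closure (({A, B} : Set Γ) ∪ σ.ker) := by
    intro w hw
    rw [← Set.image_pair, ← MonoidHom.map_closure] at hw
    obtain ⟨w', hw', e⟩ := hw
    rw [show w = w' * (w'⁻¹ * w) by group, Subgroup.closure_union, Subgroup.closure_eq]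
    exact mul_mem (Subgroup.mem_sup_left hw') (Subgroup.mem_sup_right (by simp [e]))
  have hle : Subgroup.closure (({A, B} : Set Γ) ∪ σ.ker) ≤
      Subgroup.centralizer ((Subgroup.closure (({A, B} : Set Γ) ∪ σ.ker) : Subgroup Γ) : Set Γ) := by
    rw [Subgroup.centralizer_closure, Subgroup.closure_le]
    rintro q ((rfl | rfl) | hq) w ((rfl | rfl) | hw)
    · rfl
    · exact hcA.symm
    · exact (cen w hw _).eq
    · exact hcA
    · rfl
    · exact (cen w hw _).eq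
    · exact ((cen q hq _).eq).symm
    · exact ((cen q hq _).eq).symm
    · exact (cen w hw _).eq
  exact (Subgroup.mem_centralizer_iff.mp (hle (hpre y hy)) x (hpre x hx))

theorem semidihedral {r s : G} (hr : orderOf r = 8) (hs2 : s * s = 1) (hrs : s * r = r ^ 3 * s) {p : ℕ}
    (P : Sylow p Γ) {γ : Γ} (hP : ∀ x ∈ (P : Subgroup Γ), σ (γ * x * γ⁻¹) ∈ Subgroup.closure ({r, s} : Set G))
    (x : (P : Subgroup Γ)) (hx : x ∈ commutator (P : Subgroup Γ)) (hx1 : σ x = 1) : x = 1 := by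
  obtain ⟨R, rfl⟩ := hs r
  obtain ⟨S, rfl⟩ := hs s
  have cen : ∀ k, σ k = 1 → ∀ u : Γ, Commute k u := fun k hk u => (Subgroup.mem_center_iff.1 (hc hk) u).symm
  obtain ⟨z, hz, ez⟩ : ∃ z, σ z = 1 ∧ S * R * S⁻¹ = R ^ 3 * z :=
    ⟨(R ^ 3)⁻¹ * (S * R * S⁻¹), by simp [hrs], (mul_inv_cancel_left _ _).symm⟩
  obtain ⟨w, hw⟩ : ∃ w, w = S * R * S⁻¹ * R⁻¹ := ⟨_, rfl⟩
  have hw' : w = R ^ 2 * z := by rw [hw, ez, mul_assoc, (cen z hz R⁻¹).eq]; group
  have hRw : R * w * R⁻¹ = w := by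
    rw [hw', ← mul_assoc, ← pow_succ', pow_succ, mul_assoc, mul_assoc, ← mul_assoc R z, ← (cen z hz R).eq,
      mul_inv_cancel_right]
  have hSw : S * w * S⁻¹ = w ^ 3 := by
    rw [hw', show S * (R ^ 2 * z) * S⁻¹ = (S * R * S⁻¹) ^ 2 * (S * z * S⁻¹) by rw [conj_pow]; group,
      ← (cen z hz S).eq, mul_inv_cancel_right, ez, (cen z hz _).symm.mul_pow, (cen z hz _).symm.mul_pow,
      ← pow_mul, ← pow_mul, mul_assoc, ← pow_succ]
  have hw4 : w ^ 4 = 1 := by
    have e : S * S * R * (S * S)⁻¹ = R := by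
      rw [(cen (S * S) (by rw [map_mul, hs2]) R).eq, mul_inv_cancel_right]
    rw [show S * S * R * (S * S)⁻¹ = S * (S * R * S⁻¹) * S⁻¹ by group, ez,
      show S * (R ^ 3 * z) * S⁻¹ = (S * R * S⁻¹) ^ 3 * (S * z * S⁻¹) by rw [conj_pow]; group,
      ← (cen z hz S).eq, mul_inv_cancel_right, ez, (cen z hz _).symm.mul_pow, ← pow_mul, mul_assoc, ← pow_succ,
      show R ^ (3 * 3) = R * R ^ 8 by rw [← pow_succ'], mul_assoc] at e
    rw [hw', (cen z hz _).symm.mul_pow, ← pow_mul]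
    exact mul_eq_left.mp e
  obtain ⟨D, hD⟩ : ∃ D : Subgroup Γ, D = Subgroup.closure {R, S} ⊔ σ.ker := ⟨_, rfl⟩
  have hRD : R ∈ D := hD ▸ Subgroup.mem_sup_left (Subgroup.subset_closure (Or.inl rfl))
  have hSD : S ∈ D := hD ▸ Subgroup.mem_sup_left (Subgroup.subset_closure (Or.inr rfl))
  have hwD : w ∈ D := hw ▸ mul_mem (mul_mem (mul_mem hSD hRD) (inv_mem hSD)) (inv_mem hRD)
  have hnorm : D ≤ Subgroup.normalizer ((Subgroup.zpowers w : Subgroup Γ) : Set Γ) := by
    have hfix : ∀ g, (∃ k : ℕ, g * w * g⁻¹ = w ^ k) → (∃ k : ℕ, g⁻¹ * w * g = w ^ k) →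
        g ∈ Subgroup.normalizer ((Subgroup.zpowers w : Subgroup Γ) : Set Γ) := by
      rintro g ⟨k, hk⟩ ⟨l, hl⟩
      rw [Subgroup.mem_normalizer_iff]
      refine fun v => ⟨fun hv => ?_, fun hv => ?_⟩
      · obtain ⟨i, rfl⟩ := Subgroup.mem_zpowers_iff.mp hv
        rw [← conj_zpow, hk]
        exact zpow_mem (pow_mem (Subgroup.mem_zpowers w) k) i
      · obtain ⟨i, hi⟩ := Subgroup.mem_zpowers_iff.mp hv
        rw [show v = g⁻¹ * (g * v * g⁻¹) * g⁻¹⁻¹ by group, ← hi, ← conj_zpow, inv_inv, hl]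
        exact zpow_mem (pow_mem (Subgroup.mem_zpowers w) l) i
    rw [hD, sup_le_iff, Subgroup.closure_le]
    refine ⟨?_, fun k hk => hfix k ⟨1, ?_⟩ ⟨1, ?_⟩⟩
    · rintro g (rfl | rfl)
      · exact hfix _ ⟨1, by rw [pow_one, hRw]⟩ ⟨1, by
          rw [pow_one]
          conv_lhs => rw [← hRw]
          group⟩
      · refine hfix _ ⟨3, hSw⟩ ⟨3, ?_⟩
        have e : w = g⁻¹ * w ^ 3 * g := by rw [← hSw]; group
        have e9 : (w ^ 3) ^ 3 = w := by
          rw [← pow_mul, show 3 * 3 = 4 + (4 + 1) from rfl, pow_add, pow_add, hw4, one_mul, one_mul, pow_one]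
        have := congrArg (fun v => v ^ 3) e
        try simp only at this
        rw [show (g⁻¹ * w ^ 3 * g) ^ 3 = g⁻¹ * (w ^ 3) ^ 3 * g by
          conv_lhs => rw [← inv_inv g, inv_inv g⁻¹, conj_pow]
          rw [inv_inv], e9] at this
        exact this.symm
    · rw [pow_one, (cen k hk w).eq, mul_inv_cancel_right]
    · rw [pow_one, mul_assoc, ← (cen k hk w).eq, inv_mul_cancel_left]
  haveI hN : ((Subgroup.zpowers w).subgroupOf D).Normal :=
    ⟨fun v hv g => (Subgroup.mem_normalizer_iff.mp (hnorm g.2) v.1).mp hv⟩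
  have hcD : ∀ u v : D, ⁅u, v⁆ ∈ (Subgroup.zpowers w).subgroupOf D := by
    suffices commutator D ≤ (Subgroup.zpowers w).subgroupOf D from
      fun u v => this (Subgroup.commutator_mem_commutator (Subgroup.mem_top u) (Subgroup.mem_top v))
    refine Cfsg.Agent.Solv.commutator_le_of_gen _ {u : D | (u : Γ) = R ∨ (u : Γ) = S} ?_ ?_
    · refine top_le_iff.mp fun u _ => ?_
      obtain ⟨K, hK⟩ : ∃ K, K = (Subgroup.closure {u : D | (u : Γ) = R ∨ (u : Γ) = S} ⊔
          Subgroup.center D).map D.subtype := ⟨_, rfl⟩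
      have : D ≤ K := by
        conv_lhs => rw [hD]
        rw [sup_le_iff, Subgroup.closure_le]
        refine ⟨?_, fun k hk => ?_⟩
        · rintro g (rfl | rfl)
          · exact hK ▸ ⟨⟨g, hRD⟩, Subgroup.mem_sup_left (Subgroup.subset_closure (Or.inl rfl)), rfl⟩
          · exact hK ▸ ⟨⟨g, hSD⟩, Subgroup.mem_sup_left (Subgroup.subset_closure (Or.inr rfl)), rfl⟩
        · exact hK ▸ ⟨⟨k, hD ▸ Subgroup.mem_sup_right hk⟩, Subgroup.mem_sup_right
            (Subgroup.mem_center_iff.mpr fun v => Subtype.ext ((cen k hk v).eq).symm), rfl⟩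
      obtain ⟨v, hv, e⟩ := hK ▸ this u.2
      exact Subtype.ext e ▸ hv
    · intro u hu v hv
      rw [Subgroup.mem_subgroupOf]
      rcases hu with hu | hu <;> rcases hv with hv | hv <;>
        simp only [commutatorElement_def, Subgroup.coe_mul, Subgroup.coe_inv, hu, hv]
      · simp
      · rw [show R * S * R⁻¹ * S⁻¹ = w⁻¹ by rw [hw]; group]
        exact inv_mem (Subgroup.mem_zpowers w)
      · rw [← hw]; exact Subgroup.mem_zpowers w
      · simp
  have hin : ∀ u ∈ (P : Subgroup Γ), γ * u * γ⁻¹ ∈ D := by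
    intro u hu
    have := hP u hu
    rw [← Set.image_pair, ← MonoidHom.map_closure] at this
    obtain ⟨v, hv, e⟩ := this
    rw [hD, show γ * u * γ⁻¹ = v * (v⁻¹ * (γ * u * γ⁻¹)) by group]
    refine mul_mem (Subgroup.mem_sup_left hv) (Subgroup.mem_sup_right ?_)
    rw [MonoidHom.mem_ker, map_mul, map_inv, e, inv_mul_cancel]
  obtain ⟨f, hf⟩ : ∃ f : (P : Subgroup Γ) →* D, ∀ u, (f u : Γ) = γ * u * γ⁻¹ :=
    ⟨MonoidHom.mk' (fun u => ⟨γ * u * γ⁻¹, hin u u.2⟩) (fun u v => Subtype.ext (by simp)), fun u => rfl⟩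
  have hle : commutator (P : Subgroup Γ) ≤ ((Subgroup.zpowers w).subgroupOf D).comap f := by
    rw [commutator_eq_closure, Subgroup.closure_le]
    rintro _ ⟨u, v, rfl⟩
    rw [SetLike.mem_coe, Subgroup.mem_comap, map_commutatorElement]
    exact hcD _ _
  have hxw := hle hx
  rw [Subgroup.mem_comap, Subgroup.mem_subgroupOf, hf] at hxw
  obtain ⟨k, hk⟩ := Subgroup.mem_zpowers_iff.mp hxw
  have e := congrArg σ hk
  rw [map_zpow, hw', map_mul, hz, mul_one, map_mul, map_mul, hx1, mul_one, map_inv, mul_inv_cancel, map_pow,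
    ← zpow_natCast (σ R), ← zpow_mul] at e
  have h8 := orderOf_dvd_iff_zpow_eq_one.mpr e
  rw [hr] at h8
  obtain ⟨m, rfl⟩ : (4 : ℤ) ∣ k := by omega
  rw [zpow_mul, show (w ^ (4 : ℤ)) = 1 by exact_mod_cast hw4, one_zpow] at hk
  refine Subtype.ext ?_
  have := congrArg (fun v => γ⁻¹ * v * γ) hk
  simpa [mul_assoc] using this.symm

end Cfsg.Agent.Solv.StemLocal
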