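import Cfsg.Agent.Lib.Solv.BrauerReynoldsOdd

/-!
With a negative exceptional sign there are two exceptional characters, or the automiser has
order two.
-/

set_option autoImplicit false

namespace Cfsg.Agent.Solv.BReyn

open Cfsg Cfsg.Agent.Char
open scoped ComplexConjugate

universe u

/-- The sum of a character over a translate of a conjugacy class. -/
theorem sum_class_mul {G : Type u} [Group G] [Fintype G] (χ : IrrCharacter G) (g h : G)
    [DecidablePred fun x : G => IsConj g x] :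
    ∑ x : G with IsConj g x, (χ : G → ℂ) (x * h) =
      (Nat.card {x : G // IsConj g x} : ℂ) * (χ : G → ℂ) g * (χ : G → ℂ) h / (χ : G → ℂ) 1 := by
  obtain ⟨k, ρ, hρ, hχ⟩ := χ.2
  haveI := hρ
  have h1 := congrArg (fun T : Module.End ℂ (Fin k → ℂ) => LinearMap.trace ℂ _ (T * ρ h))
    (classSum_eq_omega ρ g)
  simp only [Finset.sum_mul, map_sum, ← map_mul, smul_mul_assoc, map_smul, smul_eq_mul,
    ← Module.End.one_eq_id, one_mul] at h1
  rw [← hχ]
  refine Eq.trans ?_ (h1.trans ?_)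
  · exact Finset.sum_congr (by ext x; simp) fun x _ => rfl
  · rw [omega]
    show _ / _ * ρ.character h = _
    rw [div_mul_eq_mul_div]

variable {G : Type u} [Group G] [Fintype G] {p : ℕ} [Fact p.Prime] {P : Sylow p G} {n e t : ℕ}
  {M : Ideal AlgInt} {X Y : Finset (IrrCharacter G)} {a : IrrCharacter G → ℤ} {δ : ℤ}

namespace MinusData

variable {m : ℕ} {θ₀ : IrrCharacter G} {s : G} [Fintype ↥(Subgroup.zpowers s)]
  {c : IrrCharacter G → IrrCharacter ↥(Subgroup.zpowers s) → ℕ}
  (H : MinusData M P n e t m X Y a δ θ₀ s c)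
include H

open scoped Classical in
theorem sum_conj_mul (χ : IrrCharacter G) (l : IrrCharacter ↥(Subgroup.zpowers s)) :
    ∑ w ∈ Finset.univ.erase (1 : ↥(Subgroup.zpowers s)),
      conj ((χ : G → ℂ) (w : G)) * (l : ↥(Subgroup.zpowers s) → ℂ) w =
        (e : ℂ) * c χ l - (fx P χ : ℂ) := by
  have hall : ∑ w : ↥(Subgroup.zpowers s),
      conj (∑ l', (c χ l' : ℂ) * (l' : ↥(Subgroup.zpowers s) → ℂ) w) *
        (l : ↥(Subgroup.zpowers s) → ℂ) w = (e : ℂ) * c χ l := by
    simp only [map_sum, map_mul, map_natCast, Finset.sum_mul, mul_assoc]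
    rw [Finset.sum_comm]
    simp only [← Finset.mul_sum]
    rw [Finset.sum_eq_single l]
    · have h2 := irr_self l.2
      rw [classInner, inv_mul_eq_iff_eq_mul₀ (Nat.cast_ne_zero.mpr Nat.card_pos.ne'), mul_one,
        H.cardE] at h2
      rw [Finset.sum_congr rfl (g := fun w => (l : ↥(Subgroup.zpowers s) → ℂ) w *
        conj ((l : ↥(Subgroup.zpowers s) → ℂ) w)) fun w _ => mul_comm _ _, h2, mul_comm]
    · intro l' _ hne
      have h2 := irrC_orth l l'
      rw [if_neg (Ne.symm hne), classInner, mul_eq_zero] at h2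
      rw [Finset.sum_congr rfl (g := fun w => (l : ↥(Subgroup.zpowers s) → ℂ) w *
        conj ((l' : ↥(Subgroup.zpowers s) → ℂ) w)) fun w _ => mul_comm _ _,
        h2.resolve_left (inv_ne_zero (Nat.cast_ne_zero.mpr Nat.card_pos.ne')), mul_zero]
    · exact fun h' => absurd (Finset.mem_univ _) h'
  rw [← Finset.add_sum_erase _ _ (Finset.mem_univ (1 : ↥(Subgroup.zpowers s)))] at hall
  simp only [map_sum, map_mul, map_natCast, lin_one, map_one, mul_one] at hall
  rw [← Nat.cast_sum, H.sumc] at hall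
  rw [Finset.sum_congr rfl (g := fun w => conj (∑ l', (c χ l' : ℂ) *
      (l' : ↥(Subgroup.zpowers s) → ℂ) w) * (l : ↥(Subgroup.zpowers s) → ℂ) w) fun w hw => by
    rw [H.valc χ w (Finset.ne_of_mem_erase hw)]]
  simp only [map_sum, map_mul, map_natCast]
  linear_combination hall

open scoped Classical in
/-- The column relation at an involution of the complement. -/
theorem involution_relation (w : ↥(Subgroup.zpowers s)) (hw : w ≠ 1) (hw2 : w * w = 1)
    (huniq : ∀ v : ↥(Subgroup.zpowers s), v ≠ 1 → v * v = 1 → v = w)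
    (l : IrrCharacter ↥(Subgroup.zpowers s)) :
    (Nat.card (Subgroup.centralizer ({(w : G)} : Set G)) : ℂ) * (l : ↥(Subgroup.zpowers s) → ℂ) w =
      (e : ℂ) * ((if l = one' _ then (n : ℂ) + 1 else 0) +
        ∑ χ ∈ Xp X a, (χ : G → ℂ) (w : G) * c χ l + (t : ℂ) * (θ₀ : G → ℂ) (w : G) * c θ₀ l) := by
  have h1 : ∑ v ∈ Finset.univ.erase (1 : ↥(Subgroup.zpowers s)),
      (∑ χ : IrrCharacter G, (χ : G → ℂ) (w : G) * conj ((χ : G → ℂ) (v : G))) *
        (l : ↥(Subgroup.zpowers s) → ℂ) v =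
      (Nat.card (Subgroup.centralizer ({(w : G)} : Set G)) : ℂ) *
        (l : ↥(Subgroup.zpowers s) → ℂ) w := by
    rw [Finset.sum_eq_single w]
    · rw [second_orth, if_pos (IsConj.refl _), ← card_conjClass_mul_centralizer (w : G),
        Nat.cast_mul, mul_comm (Nat.card {x : G // IsConj (w : G) x} : ℂ), mul_div_assoc,
        div_self (Nat.cast_ne_zero.mpr (card_conjClass_ne_zero _)), mul_one]
    · intro v hv hvw
      rw [second_orth, if_neg, zero_mul]
      intro hc
      refine hvw (huniq v (Finset.ne_of_mem_erase hv) (Subtype.ext ?_))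
      obtain ⟨g, hg⟩ := isConj_iff.mp hc
      rw [Subgroup.coe_mul, ← hg, ← sq, conj_pow, sq, ← Subgroup.coe_mul, hw2]
      simp
    · exact fun h => absurd (Finset.mem_erase.mpr ⟨hw, Finset.mem_univ _⟩) h
  rw [← h1, Finset.sum_congr rfl fun v hv => by rw [H.gram w v hw (Finset.ne_of_mem_erase hv)]]
  simp only [add_mul, Finset.sum_add_distrib, Finset.sum_mul, mul_assoc]
  rw [Finset.sum_comm]
  simp only [← Finset.mul_sum, H.sum_conj_mul]
  have hl : ∑ v ∈ Finset.univ.erase (1 : ↥(Subgroup.zpowers s)),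
      (l : ↥(Subgroup.zpowers s) → ℂ) v = (e : ℂ) * (if l = one' _ then 1 else 0) - 1 := by
    rw [Finset.sum_erase_eq_sub (Finset.mem_univ _), lin_one]
    congr 1
    split_ifs with h
    · subst h
      simp only [one'_apply, Finset.sum_const, Finset.card_univ, nsmul_one, mul_one,
        ← Nat.card_eq_fintype_card, H.cardE]
    · have h2 := irrC_orth l (one' _)
      rw [if_neg h, classInner, mul_eq_zero] at h2
      simpa [one'_apply] using h2.resolve_left (inv_ne_zero (Nat.cast_ne_zero.mpr Nat.card_pos.ne'))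
  rw [one_mul, hl, H.fxY θ₀ H.mem, Finset.sum_congr rfl (s₁ := Xp X a)
    (g := fun χ => (χ : G → ℂ) (w : G) * ((e : ℂ) * c χ l - ((n : ℂ) + 1))) fun χ hχ => by
      rw [H.data.fx_Xp hχ]; push_cast; ring]
  simp only [mul_sub, Finset.sum_sub_distrib, ← Finset.sum_mul]
  rw [Finset.sum_congr rfl (s₁ := Xp X a)
    (g := fun χ => (e : ℂ) * ((χ : G → ℂ) (w : G) * c χ l)) fun χ _ => by ring, ← Finset.mul_sum]
  split_ifs with hcase
  · linear_combination -((n : ℂ) + 1) * H.rel_E w hw - (θ₀ : G → ℂ) (w : G) * H.tm_cast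
  · linear_combination -((n : ℂ) + 1) * H.rel_E w hw - (θ₀ : G → ℂ) (w : G) * H.tm_cast

omit H in
theorem sq_eq_one_cases {x : ℂ} (h : x * x = 1) : x = 1 ∨ x = -1 :=
  mul_self_eq_one_iff.mp h

/-- The values at the involution of the complement. -/
theorem involution_values (w : ↥(Subgroup.zpowers s)) (hw : w ≠ 1) (hw2 : w * w = 1)
    (huniq : ∀ v : ↥(Subgroup.zpowers s), v ≠ 1 → v * v = 1 → v = w) :
    Nat.card (Subgroup.centralizer ({(w : G)} : Set G)) = e * (n + 1) ∧ m = 1 ∧
      ∃ σ : IrrCharacter G → ℤ, (∀ χ ∈ Xp X a, (σ χ = 1 ∨ σ χ = -1) ∧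
          (χ : G → ℂ) (w : G) = (t : ℂ) * σ χ) ∧
        ∃ τ : ℤ, (τ = 1 ∨ τ = -1) ∧ (θ₀ : G → ℂ) (w : G) = τ ∧
          (t : ℤ) * ∑ χ ∈ Xp X a, σ χ + τ = -1 := by
  classical
  have he0 : (e : ℂ) ≠ 0 := Nat.cast_ne_zero.mpr (by have := H.data.two_le; omega)
  set C := Nat.card (Subgroup.centralizer ({(w : G)} : Set G)) with hC
  have hC1 : C = e * (n + 1) := by
    have h := H.involution_relation w hw hw2 huniq (one' _)
    have h2 := H.mult (one' _)
    rw [if_pos rfl] at h2 h
    rw [one'_apply, mul_one, show c θ₀ (one' _) = 0 by omega,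
      Finset.sum_eq_zero fun χ hχ => by
        rw [(Finset.sum_eq_zero_iff).mp (show ∑ χ ∈ Xp X a, c χ (one' _) = 0 by omega) χ hχ]
        simp] at h
    have h3 : (C : ℂ) = ((e * (n + 1) : ℕ) : ℂ) := by
      push_cast at h ⊢
      linear_combination h
    exact_mod_cast h3
  have hsgn : ∀ l : IrrCharacter ↥(Subgroup.zpowers s), ∃ z : ℤ, (z = 1 ∨ z = -1) ∧
      (l : ↥(Subgroup.zpowers s) → ℂ) w = z := by
    intro l
    obtain ⟨f, hf⟩ := exists_hom_of_degree_one (irr_isCharacter l.2) (lin_one l)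
    have h2 : (l : ↥(Subgroup.zpowers s) → ℂ) w * (l : ↥(Subgroup.zpowers s) → ℂ) w = 1 := by
      rw [hf]
      show ((f w : ℂˣ) : ℂ) * ((f w : ℂˣ) : ℂ) = 1
      rw [← Units.val_mul, ← map_mul, hw2, map_one, Units.val_one]
    rcases sq_eq_one_cases h2 with h | h
    · exact ⟨1, Or.inl rfl, by simp [h]⟩
    · exact ⟨-1, Or.inr rfl, by simp [h]⟩
  choose z hz1 hz using hsgn
  haveI : Nonempty (IrrCharacter ↥(Subgroup.zpowers s)) := ⟨one' _⟩
  choose! L hL using fun χ (hχ : χ ∈ Xp X a) => H.exists_pos (Or.inl hχ)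
  obtain ⟨L₀, hL₀⟩ := H.exists_pos (χ := θ₀) (Or.inr rfl)
  have hχ : ∀ χ ∈ Xp X a, (χ : G → ℂ) (w : G) = ((n : ℂ) + 1) * z (L χ) := by
    intro χ hχ
    obtain ⟨h1, h2, h3, h4⟩ := H.single hχ (hL χ hχ)
    have h := H.involution_relation w hw hw2 huniq (L χ)
    rw [if_neg h1, h3, Finset.sum_eq_single χ (fun ψ hψ hne => by rw [h4 ψ hψ hne]; simp)
      (fun h' => absurd hχ h'), h2, hz, ← hC, hC1] at h
    push_cast at h
    refine mul_left_cancel₀ he0 ?_
    linear_combination -h
  have hθ : (θ₀ : G → ℂ) (w : G) = (m : ℂ) * z L₀ := by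
    obtain ⟨h1, h2, h4⟩ := H.single_exc hL₀
    have h := H.involution_relation w hw hw2 huniq L₀
    rw [if_neg h1, h2, Finset.sum_eq_zero fun ψ hψ => by rw [h4 ψ hψ]; simp, hz, ← hC, hC1] at h
    push_cast at h
    refine mul_left_cancel₀ (mul_ne_zero he0 (Nat.cast_ne_zero.mpr H.data.t_pos.ne')) ?_
    linear_combination -h - ((e : ℂ) * (z L₀ : ℂ)) * H.tm_cast
  have hrel := H.rel_E w hw
  rw [Finset.sum_congr rfl hχ, ← Finset.mul_sum, hθ] at hrel
  have hrel' : ((n : ℤ) + 1) * ∑ χ ∈ Xp X a, z (L χ) + (m : ℤ) * z L₀ = -1 := by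
    have h3 : ((((n : ℤ) + 1) * ∑ χ ∈ Xp X a, z (L χ) + (m : ℤ) * z L₀ : ℤ) : ℂ) =
        ((-1 : ℤ) : ℂ) := by
      push_cast
      exact hrel
    exact_mod_cast h3
  have hnt : ((n : ℤ) + 1) = (t : ℤ) * m := by exact_mod_cast H.tm.symm
  have hm1 : m = 1 := by
    have h4 : (m : ℤ) ∣ 1 := ⟨-((t : ℤ) * ∑ χ ∈ Xp X a, z (L χ) + z L₀),
      by rw [hnt] at hrel'; linear_combination hrel'⟩
    exact_mod_cast Int.eq_one_of_dvd_one (Int.natCast_nonneg m) h4
  subst hm1
  rw [Nat.cast_one, mul_one] at hnt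
  refine ⟨hC1, rfl, fun χ => z (L χ), fun χ hχ' => ⟨hz1 _, ?_⟩, z L₀, hz1 _, ?_, ?_⟩
  · rw [hχ χ hχ', show (n : ℂ) + 1 = t by exact_mod_cast hnt]
  · rw [hθ, Nat.cast_one, one_mul]
  · rw [hnt, Nat.cast_one, one_mul] at hrel'
    exact hrel'

/-- The alternatives for a negative sign. -/
theorem even_cases : (t = 2 ∧ n = 1) ∨ (e = 2 ∧ n + 1 = t ∧
    Nat.card (Subgroup.centralizer ({s} : Set G)) = p - 1 ∧
    ∀ x ∈ Subgroup.centralizer ({s} : Set G), x ≠ 1 → x * x = 1 ∧ IsConj s x) := by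
  classical
  have D := H.data
  have hp := D.hp
  obtain ⟨k, hk⟩ := H.even_e
  have hk0 : 0 < k := by have := D.two_le; omega
  set w : ↥(Subgroup.zpowers s) := ⟨s ^ k, Subgroup.npow_mem_zpowers s k⟩ with hwdef
  have hsw : (w : G) = s ^ k := rfl
  have hw : w ≠ 1 := fun h =>
    pow_ne_one_of_lt_orderOf hk0.ne' (by rw [H.ord]; omega) (congrArg Subtype.val h)
  have hw2 : w * w = 1 := Subtype.ext (by
    show s ^ k * s ^ k = 1
    rw [← pow_add, ← hk, ← H.ord, pow_orderOf_eq_one])
  have huniq : ∀ v : ↥(Subgroup.zpowers s), v ≠ 1 → v * v = 1 → v = w := by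
    rintro ⟨v, hv⟩ hv1 hv2
    obtain ⟨l, rfl⟩ := (Submonoid.mem_powers_iff _ _).mp (mem_powers_iff_mem_zpowers.mpr hv)
    have h1 : e ∣ l + l := by
      rw [← H.ord, orderOf_dvd_iff_pow_eq_one, pow_add]
      exact congrArg Subtype.val hv2
    obtain ⟨d, hd⟩ := h1
    have hkl : k * d = l := by
      have : k * d + k * d = l + l := by rw [hd, hk]; ring
      omega
    refine Subtype.ext (show s ^ l = s ^ k from ?_)
    rcases Nat.even_or_odd d with ⟨r, hr⟩ | ⟨r, hr⟩
    · exact absurd (Subtype.ext (show s ^ l = 1 by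
        rw [← orderOf_dvd_iff_pow_eq_one, H.ord, ← hkl, hr, hk]; exact ⟨r, by ring⟩)) hv1
    · rw [← hkl, hr, show k * (2 * r + 1) = e * r + k by rw [hk]; ring, pow_add, pow_mul, ← H.ord,
        pow_orderOf_eq_one, one_pow, one_mul]
  obtain ⟨hC, rfl, σ, hσ, τ, hτ, hθ, hrel⟩ := H.involution_values w hw hw2 huniq
  have hnt : n + 1 = t := by rw [← H.tm, mul_one]
  have ht2 : 2 ≤ t := by have := D.n_pos; omega
  by_cases ht : t = 2
  · exact Or.inl ⟨ht, by omega⟩
  have hτ' : τ = -1 := by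
    refine hτ.resolve_left fun h1 => ht ?_
    rw [h1] at hrel
    have h4 : (t : ℤ) ∣ 2 := ⟨-∑ χ ∈ Xp X a, σ χ, by linear_combination hrel⟩
    have h5 : t ∣ 2 := by exact_mod_cast h4
    have := Nat.le_of_dvd two_pos h5
    omega
  have hσ0 : ∑ χ ∈ Xp X a, σ χ = 0 := by
    rw [hτ'] at hrel
    exact (mul_eq_zero.mp (show (t : ℤ) * ∑ χ ∈ Xp X a, σ χ = 0 by linarith)).resolve_left
      (by omega)
  set C := Subgroup.centralizer ({(w : G)} : Set G) with hCdef
  rw [hnt] at hC
  have hp1 : p - 1 = e * t := by have := D.et; omega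
  -- the class multiplication coefficient
  set K : Finset G := Finset.univ.filter fun x => IsConj (w : G) x with hK
  set Q : Finset G := Finset.univ.filter fun x => IsConj (w : G) x ∧ IsConj (x * w) (w : G) with hQ
  have hKc : K.card = Nat.card {x : G // IsConj (w : G) x} := by
    rw [Nat.card_eq_fintype_card, Fintype.card_subtype]
  have hcl := card_conjClass_mul_centralizer (w : G)
  rw [hC, D.card_eq, ← hKc] at hcl
  have hsum : ∑ x ∈ K, ∑ χ : IrrCharacter G, (χ : G → ℂ) (x * w) * conj ((χ : G → ℂ) w) =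
      (Nat.card G : ℂ) / (K.card : ℂ) * (Q.card : ℂ) := by
    simp only [second_orth, ← hKc]
    rw [Finset.sum_ite, Finset.sum_const_zero, add_zero, Finset.sum_const, nsmul_eq_mul, hK,
      Finset.filter_filter, mul_comm]
  rw [Finset.sum_comm] at hsum
  simp only [← Finset.sum_mul, hK, sum_class_mul, ← hKc] at hsum
  have hterm : ∑ χ : IrrCharacter G, (χ : G → ℂ) w * (χ : G → ℂ) w * conj ((χ : G → ℂ) w) /
      (χ : G → ℂ) 1 = 1 - (t : ℂ) * t / ((n : ℂ) * p + 1) + (n : ℂ) / p := by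
    rw [D.sum_split, one'_apply, one'_apply, map_one,
      Finset.sum_congr rfl (s₁ := Xp X a)
        (g := fun χ => (t : ℂ) * t * t / ((n : ℂ) * p + 1) * (σ χ : ℂ)) fun χ hχ => by
          rw [(hσ χ hχ).2, (D.mem_Xp hχ).2.2, map_mul, map_natCast, map_intCast]
          rcases (hσ χ hχ).1 with h | h <;> rw [h] <;> push_cast <;> ring,
      ← Finset.mul_sum, ← Int.cast_sum, hσ0,
      Finset.sum_eq_zero (s := Xm X a) fun χ hχ => by
        rw [H.Xm_zero hχ w hw]; simp,
      Finset.sum_congr rfl (s₁ := Y) (g := fun _ => -((1 : ℂ) / (θ₀ : G → ℂ) 1))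
        fun θ hθ' => by
          rw [H.valY hθ' (H.reg w), H.valY hθ' H.reg_one, hθ, hτ']; push_cast
          rw [map_neg, map_one]; ring,
      Finset.sum_congr rfl (s₁ := Out X Y) (g := fun χ => (fx P χ : ℂ) ^ 2 / (p : ℂ))
        fun χ hχ => by
          have hk : (fx P χ : ℂ) ≠ 0 := fun h0 => val_one_ne χ (by
            have := D.deg_out hχ
            rw [h0, mul_zero, val_one] at this
            exact this)
          rw [H.out_val hχ w hw, D.deg_out hχ, map_natCast]
          field_simp,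
      ← Finset.sum_div, H.sum_out_sq, Finset.sum_const, nsmul_eq_mul, D.cardY]
    have hy := H.deg_Y H.mem
    have hθ1 : (θ₀ : G → ℂ) 1 ≠ 0 := irr_one_ne_zero θ₀.2
    have hN : ((n : ℂ) * p + 1) ≠ 0 := by
      exact_mod_cast (Nat.succ_ne_zero (n * p))
    push_cast
    rw [← hy]
    field_simp
    ring
  have hQc : (Q.card : ℂ) = ((t : ℂ) - 1) * e := by
    have hK0 : (K.card : ℂ) ≠ 0 := Nat.cast_ne_zero.mpr (by rw [hKc]; exact card_conjClass_ne_zero _)
    have hKC : (K.card : ℂ) * ((e : ℂ) * t) = (p : ℂ) * e * ((n : ℂ) * p + 1) := by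
      exact_mod_cast hcl
    have h1 : (K.card : ℂ) * (1 - (t : ℂ) * t / ((n : ℂ) * p + 1) + (n : ℂ) / p) =
        (Nat.card G : ℂ) / (K.card : ℂ) * (Q.card : ℂ) := by
      rw [← hsum, ← hterm, Finset.mul_sum]
      exact Finset.sum_congr rfl fun χ _ => by ring
    rw [D.card_eq] at h1
    push_cast at h1
    have hN : ((n : ℂ) * p + 1) ≠ 0 := by exact_mod_cast (Nat.succ_ne_zero (n * p))
    have hp0 : (p : ℂ) ≠ 0 := Nat.cast_ne_zero.mpr hp.ne_zero
    have he0 : (e : ℂ) ≠ 0 := Nat.cast_ne_zero.mpr (by have := D.two_le; omega)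
    have ht0 : (t : ℂ) ≠ 0 := Nat.cast_ne_zero.mpr D.t_pos.ne'
    have hn : (n : ℂ) = (t : ℂ) - 1 := by rw [← hnt]; push_cast; ring
    have het : (e : ℂ) * t + 1 = p := by exact_mod_cast D.et
    have hKv : (K.card : ℂ) = (p : ℂ) * ((n : ℂ) * p + 1) / t := by
      rw [eq_div_iff ht0]
      refine mul_left_cancel₀ he0 ?_
      linear_combination hKC
    have h2 : (Q.card : ℂ) = (K.card : ℂ) * (1 - (t : ℂ) * t / ((n : ℂ) * p + 1) + (n : ℂ) / p) *
        (K.card : ℂ) / ((p : ℂ) * e * ((n : ℂ) * p + 1)) := by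
      rw [eq_div_iff (mul_ne_zero (mul_ne_zero hp0 he0) hN)]
      rw [div_mul_eq_mul_div, eq_div_iff hK0] at h1
      linear_combination -h1
    rw [h2, hKv]
    generalize hNv : (n : ℂ) * p + 1 = N at hN ⊢
    field_simp
    rw [← hNv, hn, ← het]
    ring
  have hQsub : ∀ x ∈ Q, x ∈ C ∧ x ∉ Subgroup.zpowers s := by
    intro x hx
    rw [hQ, Finset.mem_filter] at hx
    obtain ⟨-, hx1, hx2⟩ := hx
    have hsq : ∀ y : G, IsConj (w : G) y → y * y = 1 := by
      intro y hy
      obtain ⟨g, rfl⟩ := isConj_iff.mp hy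
      rw [← sq, conj_pow, sq, ← Subgroup.coe_mul, hw2]
      simp
    have h1 := hsq x hx1
    have h2 := hsq (x * w) hx2.symm
    have hw2' : (w : G) * w = 1 := congrArg Subtype.val hw2
    refine ⟨?_, fun hxs => ?_⟩
    · rw [hCdef, Subgroup.mem_centralizer_singleton_iff]
      calc x * (w : G) = x * w * ((x * w) * (x * w)) * 1 := by rw [h2]; group
        _ = (x * w) * ((x * w) * (x * w)) * 1 := by rw [mul_assoc]
        _ = x⁻¹⁻¹ * (w : G) := by rw [h2]; group
        _ = _ := by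
          rw [inv_inv]
          have h3 : x * (w : G) = ((x * w : G))⁻¹ := (inv_eq_of_mul_eq_one_left h2).symm
          rw [h3, mul_inv_rev, inv_eq_of_mul_eq_one_left h1, inv_eq_of_mul_eq_one_left hw2']
    · have hx1' : x ≠ 1 := fun h => hw (Subtype.ext (isConj_one_left.mp (h ▸ hx1)))
      have := huniq ⟨x, hxs⟩ (fun h => hx1' (congrArg Subtype.val h)) (Subtype.ext h1)
      rw [show x = (w : G) from congrArg Subtype.val this, hw2'] at hx2
      exact hw (Subtype.ext (isConj_one_right.mp hx2))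
  have hsC : Subgroup.zpowers s ≤ C := by
    rw [hCdef, Subgroup.zpowers_le, Subgroup.mem_centralizer_singleton_iff, hsw]
    exact (Commute.self_pow s k).eq
  -- every element of `C` outside the complement is counted
  have hall : ∀ x ∈ C, x ∉ Subgroup.zpowers s → x ∈ Q := by
    set S : Finset G := Finset.univ.filter fun x => x ∈ C ∧ x ∉ Subgroup.zpowers s with hS
    have hsub : Q ⊆ S := fun x hx => Finset.mem_filter.mpr ⟨Finset.mem_univ _, hQsub x hx⟩
    have hScard : S.card + e = e * t := by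
      have h1 : S = (Finset.univ.filter fun x => x ∈ C) \
          (Finset.univ.filter fun x => x ∈ Subgroup.zpowers s) := by
        ext x; simp [hS]
      rw [h1, Finset.card_sdiff_of_subset (fun x hx => by
        simp only [Finset.mem_filter, Finset.mem_univ, true_and] at hx ⊢
        exact hsC hx),
        ← Fintype.card_subtype, ← Fintype.card_subtype, ← Nat.card_eq_fintype_card,
        ← Nat.card_eq_fintype_card, hC, H.cardE]
      have : e ≤ e * t := Nat.le_mul_of_pos_right e D.t_pos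
      omega
    have hQn : Q.card + e = e * t := by
      have : ((Q.card + e : ℕ) : ℂ) = ((e * t : ℕ) : ℂ) := by
        push_cast; rw [hQc]; ring
      exact_mod_cast this
    have heq := Finset.eq_of_subset_of_card_le hsub (by omega)
    intro x hx hxs
    rw [heq]
    exact Finset.mem_filter.mpr ⟨Finset.mem_univ _, hx, hxs⟩
  have hinv : ∀ x ∈ C, x ∉ Subgroup.zpowers s → x * x = 1 ∧ IsConj (w : G) x := by
    intro x hx hxs
    have h := hall x hx hxs
    rw [hQ, Finset.mem_filter] at h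
    obtain ⟨g, hg⟩ := isConj_iff.mp h.2.1
    refine ⟨?_, h.2.1⟩
    rw [← hg, ← sq, conj_pow, sq, ← Subgroup.coe_mul, hw2]
    simp
  have he2 : e = 2 := by
    by_contra hne
    obtain ⟨x, hxC, hx⟩ : ∃ x ∈ C, x ∉ Subgroup.zpowers s := by
      by_contra hno
      push Not at hno
      have h1 := Subgroup.card_le_of_le hno
      rw [hC, H.cardE] at h1
      have : e * 2 ≤ e * t := Nat.mul_le_mul_left e ht2
      omega
    obtain ⟨x', hx'C, hx', hxx'⟩ : ∃ x' ∈ C, x' ∉ Subgroup.zpowers s ∧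
        x * x' ∉ Subgroup.zpowers s := by
      by_contra hno
      push Not at hno
      have hsub : (Finset.univ.filter fun y => y ∈ C) ⊆
          (Finset.univ.filter fun y => y ∈ Subgroup.zpowers s) ∪
          (Finset.univ.filter fun y => y ∈ Subgroup.zpowers s).image fun y => x⁻¹ * y := by
        intro y hy
        rw [Finset.mem_filter] at hy
        rw [Finset.mem_union, Finset.mem_image, Finset.mem_filter]
        by_cases hys : y ∈ Subgroup.zpowers s
        · exact Or.inl ⟨Finset.mem_univ _, hys⟩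
        · exact Or.inr ⟨x * y, Finset.mem_filter.mpr ⟨Finset.mem_univ _, hno y hy.2 hys⟩, by group⟩
      have h1 := (Finset.card_le_card hsub).trans (Finset.card_union_le _ _)
      have h2 := Finset.card_image_le (s := Finset.univ.filter fun y => y ∈ Subgroup.zpowers s)
        (f := fun y => x⁻¹ * y)
      rw [← Fintype.card_subtype, ← Fintype.card_subtype, ← Nat.card_eq_fintype_card,
        ← Nat.card_eq_fintype_card, hC, H.cardE] at h1
      rw [← Fintype.card_subtype, ← Nat.card_eq_fintype_card, H.cardE] at h2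
      have : e * 3 ≤ e * t := Nat.mul_le_mul_left e (by omega)
      omega
    have hconj : ∀ y ∈ C, y ∉ Subgroup.zpowers s → y * s * y = s⁻¹ := by
      intro y hy hys
      have h1 := (hinv y hy hys).1
      have h2 := (hinv (y * s) (C.mul_mem hy (hsC (Subgroup.mem_zpowers s))) fun h =>
        hys (by simpa using mul_mem h (inv_mem (Subgroup.mem_zpowers s)))).1
      calc y * s * y = y * s * y * s * s⁻¹ := by group
        _ = (y * s) * (y * s) * s⁻¹ := by group
        _ = _ := by rw [h2, one_mul]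
    have h1 := hconj x hxC hx
    have h2 := hconj x' hx'C hx'
    have h3 := hconj (x * x') (C.mul_mem hxC hx'C) hxx'
    have ha := (hinv x hxC hx).1
    have hb := (hinv x' hx'C hx').1
    have hc := (hinv (x * x') (C.mul_mem hxC hx'C) hxx').1
    have hcomm : x * x' = x' * x := by
      have h : (x * x')⁻¹ = x * x' := inv_eq_of_mul_eq_one_left hc
      rw [← h, mul_inv_rev, inv_eq_of_mul_eq_one_left ha, inv_eq_of_mul_eq_one_left hb]
    have h4 : x * x' * s * (x * x') = s := by
      calc x * x' * s * (x * x') = x * x' * s * (x' * x) := by rw [← hcomm]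
        _ = x * (x' * s * x') * x := by group
        _ = x * s⁻¹ * x := by rw [h2]
        _ = (x⁻¹ * s * x⁻¹)⁻¹ := by group
        _ = (x * s * x)⁻¹ := by rw [inv_eq_of_mul_eq_one_left ha]
        _ = s := by rw [h1, inv_inv]
    have h5 : s * s = 1 := by
      rw [h4] at h3
      nth_rewrite 2 [h3]
      exact mul_inv_cancel s
    have := orderOf_dvd_of_pow_eq_one (show s ^ 2 = 1 by rw [sq]; exact h5)
    rw [H.ord] at this
    have := Nat.le_of_dvd two_pos this
    have := D.two_le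
    omega
  have hk1 : k = 1 := by omega
  have hws : (w : G) = s := by rw [hsw, hk1, pow_one]
  refine Or.inr ⟨he2, hnt, ?_, fun x hx hx1 => ?_⟩
  · rw [← hws, ← hCdef, hC, hp1]
  · rw [← hws, ← hCdef] at hx
    rw [← hws]
    by_cases hxs : x ∈ Subgroup.zpowers s
    · have h2 : (⟨x, hxs⟩ : ↥(Subgroup.zpowers s)) * ⟨x, hxs⟩ = 1 := by
        refine Subtype.ext (show x * x = 1 from ?_)
        rw [← sq, ← orderOf_dvd_iff_pow_eq_one, ← he2, ← H.ord]
        exact orderOf_dvd_of_mem_zpowers hxs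
      have := huniq ⟨x, hxs⟩ (fun h => hx1 (congrArg Subtype.val h)) h2
      refine ⟨congrArg Subtype.val h2, ?_⟩
      rw [show x = (w : G) from congrArg Subtype.val this]
    · exact hinv x hx hxs

end MinusData

end Cfsg.Agent.Solv.BReyn
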