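import Mathlib

/-!
Arithmetic for the theorems of Brauer and Reynolds on groups with a Sylow subgroup of prime order.
-/

set_option autoImplicit false

namespace Cfsg.Agent.Solv.BReyn

/-- The exceptional numbers `n`. -/
def Exceptional (p n : ℕ) : Prop :=
  ∃ h u : ℕ, 0 < h ∧ 0 < u ∧ n * (u + 1) = h * u * p + u ^ 2 + u + h

theorem not_exceptional {p n : ℕ} (h : 2 * n < p + 3) : ¬ Exceptional p n := by
  rintro ⟨a, u, ha, hu, he⟩
  have h1 : 2 * n * (u + 1) + (u + 1) ≤ (p + 3) * (u + 1) :=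
    calc 2 * n * (u + 1) + (u + 1) = (2 * n + 1) * (u + 1) := by ring
      _ ≤ _ := Nat.mul_le_mul_right _ h
  have h2 : u * p ≤ a * u * p :=
    Nat.mul_le_mul_right p (Nat.le_mul_of_pos_left u ha)
  have h3 : p + (u - 1) * p = u * p := by
    obtain ⟨v, rfl⟩ : ∃ v, u = v + 1 := ⟨u - 1, by omega⟩
    rw [Nat.add_sub_cancel]; ring
  have h4 : u ≤ u ^ 2 := Nat.le_self_pow two_ne_zero u
  nlinarith

/-- A divisor `≡ 1` of `N (p - 1)`, for `N = n p + 1`, is `1` or `N`. -/
theorem dvd_cases {p n d : ℕ} (hp : p.Prime) (hF : ¬ Exceptional p n) (hd1 : (d : ZMod p) = 1)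
    (hd : d ∣ (n * p + 1) * (p - 1)) : d = 1 ∨ d = n * p + 1 := by
  haveI := Fact.mk hp
  obtain ⟨c, hc⟩ := hd
  have hp2 := hp.two_le
  have hc1 : ((c + 1 : ℕ) : ZMod p) = 0 := by
    have h := congrArg (fun x : ℕ => (x : ZMod p)) hc
    push_cast [Nat.cast_sub (show 1 ≤ p by omega)] at h
    rw [ZMod.natCast_self, hd1] at h
    push_cast
    linear_combination -h
  have hcp : p ≤ c + 1 := Nat.le_of_dvd c.succ_pos ((ZMod.natCast_eq_zero_iff _ _).mp hc1)
  have hle : d ≤ n * p + 1 := by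
    refine Nat.le_of_mul_le_mul_right ?_ (show 0 < p - 1 by omega)
    rw [hc]
    exact Nat.mul_le_mul_left _ (by omega)
  rcases eq_or_lt_of_le hle with h | hlt
  · exact Or.inr h
  left
  by_contra hne
  obtain ⟨u, hu⟩ : ∃ u, d = u * p + 1 := by
    have h1 : d % p = 1 := by
      have := congrArg ZMod.val hd1
      rwa [ZMod.val_natCast, ZMod.val_one] at this
    exact ⟨d / p, by rw [← h1]; exact (Nat.div_add_mod' d p).symm⟩
  have hu0 : 0 < u := Nat.pos_of_ne_zero fun h => hne (by rw [hu, h, zero_mul])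
  have hpz : (2 : ℤ) ≤ p := by exact_mod_cast hp2
  have hcz : ((n : ℤ) * p + 1) * ((p : ℤ) - 1) = (d : ℤ) * c := by
    have := congrArg (fun x : ℕ => (x : ℤ)) hc
    push_cast [Nat.cast_sub (show 1 ≤ p by omega)] at this
    exact this
  have hdz : (d : ℤ) = u * p + 1 := by exact_mod_cast hu
  obtain ⟨b, hb⟩ : (d : ℤ) ∣ ((n : ℤ) * p + 1) * (u + 1) :=
    ⟨(n : ℤ) * p + 1 - u * c, by linear_combination (-(u : ℤ)) * hcz - ((n : ℤ) * p + 1) * hdz⟩
  obtain ⟨k, hk⟩ : (p : ℤ) ∣ b - (u + 1) :=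
    ⟨(n : ℤ) * (u + 1) - u * b, by linear_combination (-b) * hdz - hb⟩
  have hlt' : (d : ℤ) < (n : ℤ) * p + 1 := by exact_mod_cast hlt
  have hb1 : (u : ℤ) + 1 < b := by
    by_contra hle'
    push Not at hle'
    have : (d : ℤ) * b ≤ (d : ℤ) * ((u : ℤ) + 1) :=
      mul_le_mul_of_nonneg_left hle' (by positivity)
    nlinarith
  have hk0 : 0 < k := by
    by_contra hle'
    push Not at hle'
    nlinarith
  lift k to ℕ using hk0.le
  refine hF ⟨k, u, by exact_mod_cast hk0, hu0, ?_⟩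
  have hb' : b = (u : ℤ) + 1 + p * k := by linear_combination hk
  have : (p : ℤ) * ((n : ℤ) * (u + 1)) = (p : ℤ) * ((k : ℤ) * u * p + u ^ 2 + u + k) := by
    rw [hb', hdz] at hb
    linear_combination hb
  exact_mod_cast mul_left_cancel₀ (show (p : ℤ) ≠ 0 by omega) this

theorem deg_plus {p n x e t : ℕ} (hp : p.Prime) (hF : ¬ Exceptional p n) (het : e * t + 1 = p)
    (hx : (x : ZMod p) = 1) (hd : x ∣ (n * p + 1) * e) : x = 1 ∨ x = n * p + 1 := by
  refine dvd_cases hp hF hx (hd.trans (Nat.mul_dvd_mul_left _ ⟨t, ?_⟩))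
  omega

theorem deg_minus {p n x e t : ℕ} (hp : p.Prime) (hF : ¬ Exceptional p n) (het : e * t + 1 = p)
    (hx : (x : ZMod p) = -1) (hd : x ∣ (n * p + 1) * e) :
    x = p - 1 ∨ (x = (p - 1) * (n * p + 1) ∧ t = 1) := by
  haveI := Fact.mk hp
  have hp2 := hp.two_le
  have hpe : p - 1 = e * t := by omega
  obtain ⟨c, hc⟩ := hd
  have hct : x * (c * t) = (n * p + 1) * (p - 1) := by rw [hpe, ← mul_assoc, ← hc, mul_assoc]
  have hc1 : ((c * t : ℕ) : ZMod p) = 1 := by
    have h := congrArg (fun v : ℕ => (v : ZMod p)) hct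
    push_cast [Nat.cast_sub (show 1 ≤ p by omega)] at h
    rw [ZMod.natCast_self, hx] at h
    push_cast
    linear_combination -h
  rcases dvd_cases hp hF hc1 ⟨x, by rw [← hct, mul_comm]⟩ with h | h
  · right
    refine ⟨by rw [h, mul_one] at hct; rw [hct, mul_comm], Nat.eq_one_of_mul_eq_one_left h⟩
  · left
    rw [h, mul_comm (n * p + 1)] at hct
    exact Nat.eq_of_mul_eq_mul_right (Nat.succ_pos _) hct

theorem deg_exc_plus {p n y e t : ℕ} (hp : p.Prime) (hF : ¬ Exceptional p n) (het : e * t + 1 = p)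
    (hy : (y : ZMod p) = e) (hd : y ∣ (n * p + 1) * e) : y = e ∨ y = (n * p + 1) * e := by
  haveI := Fact.mk hp
  have he : (e : ZMod p) ≠ 0 := fun h => by
    have h1 := congrArg (fun v : ℕ => (v : ZMod p)) het
    push_cast at h1
    rw [ZMod.natCast_self, h, zero_mul, zero_add] at h1
    exact one_ne_zero h1
  obtain ⟨b, hb⟩ := hd
  have hb1 : (b : ZMod p) = 1 := by
    have h := congrArg (fun v : ℕ => (v : ZMod p)) hb
    push_cast at h
    rw [ZMod.natCast_self, hy] at h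
    refine mul_left_cancel₀ he ?_
    linear_combination -h
  have hpe : p - 1 = e * t := by omega
  rcases dvd_cases hp hF hb1 (by rw [hpe, ← mul_assoc, hb]; exact ⟨y * t, by ring⟩) with h | h
  · right; rw [hb, h, mul_one]
  · left
    rw [h, mul_comm (n * p + 1)] at hb
    exact (Nat.eq_of_mul_eq_mul_right (Nat.succ_pos _) hb).symm

theorem deg_exc_minus {p n y e t : ℕ} (hp : p.Prime) (hF : ¬ Exceptional p n) (het : e * t + 1 = p)
    (hy : (y : ZMod p) = -e) (hd : y ∣ (n * p + 1) * e) : y = 1 ∨ y * t = n * p + 1 := by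
  haveI := Fact.mk hp
  have h0 : ((y * t : ℕ) : ZMod p) = 1 := by
    have h := congrArg (fun v : ℕ => (v : ZMod p)) het
    push_cast at h ⊢
    rw [ZMod.natCast_self] at h
    rw [hy]
    linear_combination -h
  have hpe : p - 1 = e * t := by omega
  rcases dvd_cases hp hF h0 (by rw [hpe, ← mul_assoc]; exact Nat.mul_dvd_mul_right hd t) with h | h
  · exact Or.inl (Nat.eq_one_of_mul_eq_one_right h)
  · exact Or.inr h

/-- No degree `(p - 1) N` occurs when the exceptional sign is positive. -/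
theorem no_big_plus {p e i j k : ℤ} {N y : ℤ} (he : 2 ≤ e) (hep : e ≤ p - 1) (hN : 2 ≤ N)
    (hi : 0 ≤ i) (hj : 0 ≤ j) (hk : 0 ≤ k) (hsum : i + j + k = e - 1)
    (hy : y = e ∨ y = N * e) (hrel : y = 1 + i * N - j * (p - 1) - k * ((p - 1) * N)) :
    k = 0 ∧ y = e := by
  have hyN : y = e := by
    rcases hy with h | h
    · exact h
    exfalso
    have : 0 ≤ k * ((p - 1) * N) := mul_nonneg hk (mul_nonneg (by omega) (by omega))
    have : 0 ≤ j * (p - 1) := mul_nonneg hj (by omega)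
    have : i * N ≤ (e - 1) * N := mul_le_mul_of_nonneg_right (by omega) (by omega)
    nlinarith
  refine ⟨?_, hyN⟩
  by_contra hk0
  have hk1 : 1 ≤ k := by omega
  have h1 : p - 1 ≤ k * (p - 1) := le_mul_of_one_le_left (by omega) hk1
  have h2 : (i + 1) * N ≤ k * (p - 1) * N := mul_le_mul_of_nonneg_right (by omega) (by omega)
  have : 0 ≤ j * (p - 1) := mul_nonneg hj (by omega)
  nlinarith

/-- No degree `(p - 1) N` occurs when the exceptional sign is negative and `t = 1`. -/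
theorem no_big_minus {p i j k : ℤ} {N : ℤ} (hp : 3 ≤ p) (hN : 2 ≤ N) (hi : 0 ≤ i) (hj : 0 ≤ j)
    (hk : 0 ≤ k) (hsum : i + j + k = p - 2)
    (hrel : -N = 1 + i * N - j * (p - 1) - k * ((p - 1) * N)) : k = 0 := by
  by_contra hk0
  have hk1 : 1 ≤ k := by omega
  have h1 : p - 1 ≤ k * (p - 1) := le_mul_of_one_le_left (by omega) hk1
  have h2 : (i + 2) * N ≤ k * (p - 1) * N := mul_le_mul_of_nonneg_right (by omega) (by omega)
  have : 0 ≤ j * (p - 1) := mul_nonneg hj (by omega)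
  nlinarith

theorem case_plus {p n e i j : ℤ} (hp : p ≠ 0) (hsum : i + j = e - 1)
    (hrel : e = 1 + i * (n * p + 1) - j * (p - 1)) : i * (n + 1) = e - 1 := by
  have h : p * (i * (n + 1)) = p * (e - 1) := by
    linear_combination -hrel + (p - 1) * hsum
  exact mul_left_cancel₀ hp h

theorem case_minus {p n e t y i j : ℤ} (hp : p ≠ 0) (hsum : i + j = e - 1) (het : e * t + 1 = p)
    (hy : y * t = n * p + 1) (hrel : -y = 1 + i * (n * p + 1) - j * (p - 1)) :
    (n + 1) * (t * i + 1) = t * (e - 1) := by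
  have h : p * ((n + 1) * (t * i + 1)) = p * (t * (e - 1)) := by
    linear_combination t * (-hrel) + (t * (p - 1)) * hsum - hy - het
  exact mul_left_cancel₀ hp h

end Cfsg.Agent.Solv.BReyn
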