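import Cfsg.Agent.Lib.Char.PrimeSylowPrincipal
import Cfsg.Agent.Lib.Char.TwoDegreesPrime
import Cfsg.Agent.Lib.Char.SmallDegreeCentralizer
import Cfsg.Agent.Lib.Solv.BrauerReynoldsArith

/-!
The degrees in the principal block of a perfect group with a Sylow subgroup of prime order and
non-exceptional Sylow number.
-/

set_option autoImplicit false

namespace Cfsg.Agent.Solv.BReyn

open Cfsg Cfsg.Agent.Char
open scoped ComplexConjugate

universe u

variable {G : Type u} [Group G] [Fintype G] {p : ℕ} [Fact p.Prime] {P : Sylow p G} {n : ℕ}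

/-- The standing hypotheses. -/
structure Hyp (P : Sylow p G) (n : ℕ) : Prop where
  perf : commutator G = ⊤
  card : Nat.card P = p
  count : Nat.card (Sylow p G) = n * p + 1
  noexc : ¬ Exceptional p n
  core : ∀ K : Subgroup G, K.Normal → ¬ p ∣ Nat.card K → K = ⊥

theorem hom_eq_one (hperf : commutator G = ⊤) {A : Type*} [CommGroup A] (f : G →* A) (g : G) :
    f g = 1 :=
  MonoidHom.mem_ker.mp (Abelianization.commutator_subset_ker f (hperf ▸ Subgroup.mem_top g))

theorem eq_one_of_deg_one (hperf : commutator G = ⊤) (χ : IrrCharacter G)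
    (h : charDegree (χ : G → ℂ) = 1) : (χ : G → ℂ) = fun _ => 1 := by
  have hd : deg (χ : G → ℂ) = 1 := h
  obtain ⟨l, hl⟩ := exists_hom_of_degree_one (irr_isCharacter χ.2)
    (by rw [char_one_eq_deg (irr_isCharacter χ.2), hd, Nat.cast_one])
  funext g
  rw [hl]
  show ((l g : ℂˣ) : ℂ) = 1
  rw [hom_eq_one hperf l g, Units.val_one]

theorem val_one (χ : IrrCharacter G) : (χ : G → ℂ) 1 = (charDegree (χ : G → ℂ) : ℂ) :=
  char_one_eq_deg (irr_isCharacter χ.2)

theorem val_one_ne (χ : IrrCharacter G) : (charDegree (χ : G → ℂ) : ℂ) ≠ 0 :=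
  Nat.cast_ne_zero.mpr (deg_pos χ.2).ne'

variable (H : Hyp P n)
include H

theorem Hyp.not_normal : ¬ (P : Subgroup G).Normal := by
  intro hN
  have hp : p.Prime := Fact.out
  haveI : IsCyclic ↥(P : Subgroup G) := isCyclic_of_prime_card H.card
  haveI := hN
  have hconj : ∀ g, MulAut.conjNormal (H := (P : Subgroup G)) g = 1 := by
    intro g
    obtain ⟨ψ, hψ⟩ : ∃ ψ : G →* (ZMod (Nat.card ↥(P : Subgroup G)))ˣ, ∀ g,
        ψ g = IsCyclic.mulAutMulEquiv ↥(P : Subgroup G)
          (MulAut.conjNormal (H := (P : Subgroup G)) g) :=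
      ⟨(IsCyclic.mulAutMulEquiv ↥(P : Subgroup G)).toMonoidHom.comp MulAut.conjNormal, fun _ => rfl⟩
    have h := hψ g
    rw [hom_eq_one H.perf ψ g] at h
    exact (MulEquiv.map_eq_one_iff _).mp h.symm
  have hle : Subgroup.normalizer ((P : Subgroup G) : Set G) ≤
      Subgroup.centralizer ((P : Subgroup G) : Set G) := fun g _ => by
    rw [Subgroup.mem_centralizer_iff]
    intro b hb
    have h := congrArg (fun f : MulAut ↥(P : Subgroup G) => ((f ⟨b, hb⟩ : ↥(P : Subgroup G)) : G))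
      (hconj g)
    simp only [MulAut.conjNormal_apply, MulAut.one_apply] at h
    calc b * g = g * b * g⁻¹ * g := by rw [h]
      _ = g * b := by group
  haveI : IsMulCommutative ↥(P : Subgroup G) := IsCyclic.commutative
  letI : CommGroup ↥(P : Subgroup G) := IsCyclic.commGroup
  have hker : (MonoidHom.transferSylow P hle).ker = ⊤ := by
    rw [eq_top_iff]
    intro g _
    exact hom_eq_one H.perf (MonoidHom.transferSylow P hle) g
  refine MonoidHom.not_dvd_card_ker_transferSylow P hle ?_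
  rw [hker, Subgroup.card_top]
  have := Subgroup.card_subgroup_dvd_card (P : Subgroup G)
  rwa [H.card] at this

theorem Hyp.one_lt_count : 2 ≤ n * p + 1 := by
  rcases Nat.eq_zero_or_pos n with h | h
  · exfalso
    refine H.not_normal (Subgroup.normalizer_eq_top_iff.mp ?_)
    have h1 := Sylow.card_eq_index_normalizer P
    rw [H.count, h, zero_mul, zero_add] at h1
    exact Subgroup.index_eq_one.mp h1.symm
  · have := Nat.mul_pos h (Fact.out : p.Prime).pos
    omega

theorem Hyp.le_of_normal (K : Subgroup G) [K.Normal] (hK : K ≠ ⊥) : (P : Subgroup G) ≤ K := by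
  have hp : p.Prime := Fact.out
  have hdvd : p ∣ Nat.card K := by_contra fun h => hK (H.core K inferInstance h)
  obtain ⟨⟨x, hx⟩, hxo⟩ := exists_prime_orderOf_dvd_card' p hdvd
  rw [Subgroup.orderOf_mk] at hxo
  have hQ : IsPGroup p (Subgroup.zpowers x) :=
    IsPGroup.of_card (n := 1) (by rw [Nat.card_zpowers, hxo, pow_one])
  obtain ⟨Q, hQle⟩ := hQ.exists_le_sylow
  have hQc : Nat.card Q = p := (Sylow.card_eq_multiplicity Q).trans
    ((Sylow.card_eq_multiplicity P).symm.trans H.card)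
  have hQe : Subgroup.zpowers x = (Q : Subgroup G) :=
    Subgroup.eq_of_le_of_card_ge hQle (by
      rw [Nat.card_zpowers, hxo, show Nat.card ↥(Q : Subgroup G) = p from hQc])
  obtain ⟨c, hc⟩ := MulAction.exists_smul_eq G Q P
  intro y hy
  rw [← hc, Sylow.coe_subgroup_smul, ← hQe] at hy
  obtain ⟨w, hw, rfl⟩ := hy
  exact (inferInstance : K.Normal).conj_mem w (Subgroup.zpowers_le.mpr hx hw) c

theorem Hyp.exists_nonOne : ∃ y, y ∈ nonOne P := by
  have hp : p.Prime := Fact.out
  have : Nontrivial ↥(P : Subgroup G) := by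
    rw [← Finite.one_lt_card_iff_nontrivial, show Nat.card ↥(P : Subgroup G) = p from H.card]
    exact hp.one_lt
  obtain ⟨y, hy⟩ := exists_ne (1 : ↥(P : Subgroup G))
  exact ⟨y, mem_nonOne.mpr fun e1 => hy (Subtype.ext e1)⟩

/-- The order of the automiser. -/
theorem Hyp.exists_index : ∃ e t : ℕ, 2 ≤ e ∧ 0 < t ∧ e * t + 1 = p ∧
    (Subgroup.centralizer ((P : Subgroup G) : Set G)).relIndex
      (Subgroup.normalizer ((P : Subgroup G) : Set G)) = e := by
  set e := (Subgroup.centralizer ((P : Subgroup G) : Set G)).relIndex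
      (Subgroup.normalizer ((P : Subgroup G) : Set G)) with he
  haveI := (frobSylow_of_prime H.card).finite_dual.1
  haveI : Fintype (↥(P : Subgroup G) →* ℂˣ) := Fintype.ofFinite _
  obtain ⟨r, rep, idx, hr0, hcount, -⟩ := (frobSylow_of_prime H.card).exists_orbit_index
  rw [H.card] at hcount
  refine ⟨e, r, ?_, hr0, by rw [mul_comm]; exact hcount, rfl⟩
  have he0 : e ≠ 0 := fun h => by
    rw [← he, h, mul_zero] at hcount
    exact (Fact.out : p.Prime).ne_one (by omega)
  have he1 : e ≠ 1 := fun h => by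
    have hle := Subgroup.relIndex_eq_one.mp h
    haveI : IsCyclic ↥(P : Subgroup G) := isCyclic_of_prime_card H.card
    haveI : IsMulCommutative ↥(P : Subgroup G) := IsCyclic.commutative
    letI : CommGroup ↥(P : Subgroup G) := IsCyclic.commGroup
    refine MonoidHom.not_dvd_card_ker_transferSylow P hle ?_
    rw [show (MonoidHom.transferSylow P hle).ker = ⊤ from eq_top_iff.mpr fun g _ =>
      hom_eq_one H.perf (MonoidHom.transferSylow P hle) g, Subgroup.card_top]
    have := Subgroup.card_subgroup_dvd_card (P : Subgroup G)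
    rwa [H.card] at this
  omega

theorem Hyp.card_class {e : ℕ} (he : (Subgroup.centralizer ((P : Subgroup G) : Set G)).relIndex
      (Subgroup.normalizer ((P : Subgroup G) : Set G)) = e)
    {y : ↥(P : Subgroup G)} (hy : (y : G) ≠ 1) :
    Nat.card {x : G // IsConj (y : G) x} = (n * p + 1) * e := by
  rw [card_conjClass_eq_index, ← centralizer_zpowers_eq, eq_zpowers_of_prime_sylow H.card y.2 hy,
    ← H.count, Sylow.card_eq_index_normalizer P, ← he, Nat.mul_comm]
  exact (Subgroup.relIndex_mul_index (Subgroup.centralizer_le_normalizer _)).symm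

omit H

/-- The principal block with the trivial character among the non-exceptional ones. -/
theorem exists_principal_one_mem {M : Ideal AlgInt} (hM : IsPModular p M) (hP : Nat.card P = p)
    {e t : ℕ} (he : (Subgroup.centralizer ((P : Subgroup G) : Set G)).relIndex
      (Subgroup.normalizer ((P : Subgroup G) : Set G)) = e) (he2 : 2 ≤ e) (ht : 0 < t)
    (het : e * t + 1 = p) :
    ∃ (X Y : Finset (IrrCharacter G)) (a : IrrCharacter G → ℤ) (δ : ℤ),
      PrimePrincipal M P e X Y a δ ∧ (⟨fun _ => 1, isIrrCharacter_one⟩ : IrrCharacter G) ∈ X ∧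
        a ⟨fun _ => 1, isIrrCharacter_one⟩ = 1 ∧ Y.card = t := by
  classical
  have hp : p.Prime := Fact.out
  obtain ⟨X, Y, a, δ, h⟩ := exists_prime_principal hM hP he
  have hYc : Y.card = t := by
    rw [h.cardY, show p - 1 = t * e by rw [mul_comm]; omega, Nat.mul_div_cancel _ (by omega)]
  set one : IrrCharacter G := ⟨fun _ => 1, isIrrCharacter_one⟩ with hone
  have hdone : charDegree (one : G → ℂ) = 1 := by simp [charDegree, hone]
  have hdvd : ∀ {a b : ℤ}, a ≡ b [ZMOD p] → |b - a| < p → a = b := by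
    intro a b hab hlt
    have h1 := Int.eq_zero_of_abs_lt_dvd (Int.modEq_iff_dvd.mp hab) hlt
    omega
  have hpe : (e : ℤ) + 1 ≤ p := by
    have : e ≤ e * t := Nat.le_mul_of_pos_right e ht
    omega
  by_cases hX : one ∈ X
  · refine ⟨X, Y, a, δ, h, hX, ?_, hYc⟩
    have h2 := h.a_congr one hX
    rw [hdone] at h2
    rcases h.a_sign one hX with e1 | e1
    · exact e1
    · exfalso
      rw [e1] at h2
      have := hdvd h2 (by rw [abs_lt]; omega)
      omega
  have hY : one ∈ Y :=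
    ((h.mem_iff one).mp (sameBlock_refl (pmod_prime hM) (fun _ : G => (1 : ℂ)))).resolve_left hX
  have h2 := h.congrY one hY
  rw [hdone] at h2
  push_cast at h2
  have hδ : δ = -1 := h.sign.resolve_left fun e1 => by
    rw [e1, one_mul] at h2
    have := hdvd h2 (by rw [abs_lt]; omega)
    omega
  have hep : e + 1 = p := by
    rw [hδ, neg_one_mul] at h2
    obtain ⟨c, hc⟩ := Int.modEq_iff_dvd.mp h2
    have h3 : p ∣ e + 1 := by
      have : (p : ℤ) ∣ (e : ℤ) + 1 := ⟨-c, by linear_combination -hc⟩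
      exact_mod_cast this
    have := Nat.le_of_dvd (by omega) h3
    omega
  have ht1 : t = 1 := by nlinarith
  have hYone : Y = {one} := by
    refine (Finset.eq_of_subset_of_card_le (Finset.singleton_subset_iff.mpr hY) ?_).symm
    rw [hYc, ht1, Finset.card_singleton]
  obtain ⟨χ, hχ⟩ : X.Nonempty := Finset.card_pos.mp (by rw [h.cardX]; omega)
  have hχone : χ ≠ one := fun e1 => hX (e1 ▸ hχ)
  refine ⟨insert one (X.erase χ), {χ}, Function.update a one 1, -a χ, ?_,
    Finset.mem_insert_self _ _, Function.update_self _ _ _, by rw [Finset.card_singleton, ht1]⟩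
  have hua : ∀ ψ ∈ X.erase χ, Function.update a one 1 ψ = a ψ := fun ψ hψ =>
    Function.update_of_ne (fun e1 : ψ = one => hX (e1 ▸ Finset.mem_of_mem_erase hψ)) _ _
  refine ⟨fun ψ => ?_, ?_, ?_, ?_, fun ψ hψ => ?_, fun ψ hψ => ?_, fun ψ hψ y hy => ?_, ?_,
    fun θ hθ => ?_, fun θ hθ θ' hθ' g _ => ?_, fun θ hθ g hg => ?_⟩
  · rw [h.mem_iff, hYone, Finset.mem_singleton, Finset.mem_insert, Finset.mem_singleton,
      Finset.mem_erase]
    constructor
    · rintro (h' | h')
      · by_cases e1 : ψ = χ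
        · exact Or.inr e1
        · exact Or.inl (Or.inr ⟨e1, h'⟩)
      · exact Or.inl (Or.inl h')
    · rintro ((h' | ⟨-, h'⟩) | rfl)
      · exact Or.inr h'
      · exact Or.inl h'
      · exact Or.inl hχ
  · rw [Finset.disjoint_singleton_right, Finset.mem_insert, Finset.mem_erase]
    simp [hχone]
  · rw [Finset.card_insert_of_notMem fun e1 => hX (Finset.mem_of_mem_erase e1),
      Finset.card_erase_of_mem hχ, h.cardX]
    omega
  · rw [Finset.card_singleton, ← hep, Nat.add_sub_cancel, Nat.div_self (by omega)]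
  · rcases Finset.mem_insert.mp hψ with rfl | hψ
    · exact Or.inl (Function.update_self _ _ _)
    · rw [hua ψ hψ]; exact h.a_sign ψ (Finset.mem_of_mem_erase hψ)
  · rcases Finset.mem_insert.mp hψ with rfl | hψ
    · rw [Function.update_self, hdone]; rfl
    · rw [hua ψ hψ]; exact h.a_congr ψ (Finset.mem_of_mem_erase hψ)
  · rcases Finset.mem_insert.mp hψ with rfl | hψ
    · rw [Function.update_self]; simp [hone]
    · rw [hua ψ hψ]; exact h.a_val ψ (Finset.mem_of_mem_erase hψ) y hy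
  · rcases h.a_sign χ hχ with e1 | e1 <;> simp [e1]
  · rw [Finset.mem_singleton.mp hθ]
    refine (h.a_congr χ hχ).trans (Int.modEq_iff_dvd.mpr ⟨-a χ, ?_⟩)
    rw [show (e : ℤ) = (p : ℤ) - 1 by omega]
    ring
  · rw [Finset.mem_singleton.mp hθ, Finset.mem_singleton.mp hθ']
  · rw [Finset.mem_singleton.mp hθ, Finset.sum_insert fun e1 => hX (Finset.mem_of_mem_erase e1),
      Function.update_self, Finset.sum_congr rfl fun ψ hψ => by rw [hua ψ hψ]]
    have h3 := h.rel one hY g hg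
    rw [hδ, ← Finset.add_sum_erase X _ hχ] at h3
    push_cast at h3 ⊢
    simp only [hone, mul_one] at h3 ⊢
    linear_combination h3

/-- The sum of the exceptional characters on `P`. -/
theorem sum_exc {M : Ideal AlgInt} (hM : IsPModular p M) (hP : Nat.card P = p) {e : ℕ}
    {X Y : Finset (IrrCharacter G)} {a : IrrCharacter G → ℤ} {δ : ℤ}
    (h : PrimePrincipal M P e X Y a δ) (hY : Y.Nonempty) {y : ↥(P : Subgroup G)}
    (hy : y ∈ nonOne P) : ∑ θ ∈ Y, (θ : G → ℂ) (y : G) = -(δ : ℂ) := by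
  classical
  have hp : p.Prime := Fact.out
  obtain ⟨θ₀, hθ₀⟩ := hY
  have hsing : p ∣ orderOf (y : G) := by
    rw [← Nat.card_zpowers, eq_zpowers_of_prime_sylow hP y.2 (mem_nonOne.mp hy)]
    exact hP.symm ▸ dvd_rfl
  have h1reg : ¬ p ∣ orderOf (1 : G) := by rw [orderOf_one]; exact hp.not_dvd_one
  have h0 := weak_orthogonality hM (isPBlock_principalBlock M) h1reg hsing
  rw [finsum_mem_irr, show Finset.univ.filter (fun χ => χ ∈ principalBlock M G) = X ∪ Y by
    ext χ; simp [h.mem_iff], Finset.sum_union h.disj] at h0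
  have h2 := h.rel θ₀ hθ₀ 1 h1reg
  rw [val_one] at h2
  rw [Finset.sum_congr rfl (g := fun χ : IrrCharacter G => (a χ : ℂ) * (χ : G → ℂ) 1) fun χ hχ => by
      rw [h.a_val χ hχ y hy, map_intCast, mul_comm], ← h2,
    Finset.sum_congr rfl (s₁ := Y) (g := fun θ : IrrCharacter G => (charDegree (θ₀ : G → ℂ) : ℂ) * conj ((θ : G → ℂ) y))
      fun θ hθ => by rw [h.regY θ hθ θ₀ hθ₀ 1 h1reg, val_one], ← Finset.mul_sum] at h0
  have h3 : ((δ : ℂ) + ∑ θ ∈ Y, conj ((θ : G → ℂ) y)) = 0 := by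
    refine mul_left_cancel₀ (val_one_ne θ₀) ?_
    linear_combination h0
  rw [← map_sum] at h3
  have h4 := congrArg (starRingEnd ℂ) (eq_neg_of_add_eq_zero_right h3)
  rwa [Complex.conj_conj, map_neg, map_intCast] at h4

theorem nat_dvd_of_integral {N x : ℕ} (hx : x ≠ 0) {b : ℤ} (hb : b = 1 ∨ b = -1)
    (h : IsIntegral ℤ ((N : ℂ) * b / x)) : x ∣ N := by
  obtain ⟨z, hz⟩ := isIntegral_rat_cast_imp (q := (N : ℚ) * b / x) (by push_cast; exact h)
  rw [eq_div_iff (Nat.cast_ne_zero.mpr hx)] at hz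
  have h3 : (N : ℤ) * b = z * x := by exact_mod_cast hz.symm
  have h4 : (x : ℤ) ∣ (N : ℤ) := by
    rcases hb with rfl | rfl
    · exact ⟨z, by linarith [h3]⟩
    · exact ⟨-z, by linarith [h3]⟩
  exact_mod_cast h4

/-- The self-centralising situation with the degrees of the principal block. -/
structure Data (M : Ideal AlgInt) (P : Sylow p G) (n e t : ℕ) (X Y : Finset (IrrCharacter G))
    (a : IrrCharacter G → ℤ) (δ : ℤ) : Prop where
  hyp : Hyp P n
  modular : IsPModular p M
  pp : PrimePrincipal M P e X Y a δ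
  self : Subgroup.centralizer ((P : Subgroup G) : Set G) = (P : Subgroup G)
  index : (Subgroup.centralizer ((P : Subgroup G) : Set G)).relIndex
    (Subgroup.normalizer ((P : Subgroup G) : Set G)) = e
  two_le : 2 ≤ e
  t_pos : 0 < t
  et : e * t + 1 = p
  one_mem : (⟨fun _ => 1, isIrrCharacter_one⟩ : IrrCharacter G) ∈ X
  one_sign : a ⟨fun _ => 1, isIrrCharacter_one⟩ = 1
  cardY : Y.card = t
  degX : ∀ χ ∈ X, χ ≠ ⟨fun _ => 1, isIrrCharacter_one⟩ →
    (a χ = 1 ∧ charDegree (χ : G → ℂ) = n * p + 1) ∨ (a χ = -1 ∧ charDegree (χ : G → ℂ) = p - 1)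
  degY : (δ = 1 ∧ ∀ θ ∈ Y, charDegree (θ : G → ℂ) = e) ∨
    (δ = -1 ∧ ∀ θ ∈ Y, charDegree (θ : G → ℂ) * t = n * p + 1)
  faithful : δ = 1 → ∀ θ ∈ Y, ∀ g : G, (θ : G → ℂ) g = (θ : G → ℂ) 1 → g = 1

theorem kerC_eq_bot_of (H : Hyp P n) {χ : IrrCharacter G} {y : ↥(P : Subgroup G)}
    (h : (χ : G → ℂ) (y : G) ≠ (χ : G → ℂ) 1) : TwoDeg.kerC χ = ⊥ := by
  by_contra hne
  have h1 := H.le_of_normal (TwoDeg.kerC χ) hne y.2 1
  rw [mul_one] at h1
  exact h h1

theorem faithful_of_kerC_eq_bot {χ : IrrCharacter G} (hk : TwoDeg.kerC χ = ⊥) (g : G)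
    (hg : (χ : G → ℂ) g = (χ : G → ℂ) 1) : g = 1 := by
  have := TwoDeg.mem_kerC_of_eq χ hg
  rwa [hk, Subgroup.mem_bot] at this

theorem kerC_exc_eq_bot (H : Hyp P n) {M : Ideal AlgInt} {e : ℕ}
    {X Y : Finset (IrrCharacter G)} {a : IrrCharacter G → ℤ} {δ : ℤ}
    (h : PrimePrincipal M P e X Y a δ) {y : ↥(P : Subgroup G)}
    (hne : ¬ ∀ θ ∈ Y, (θ : G → ℂ) (y : G) = (θ : G → ℂ) 1) {θ : IrrCharacter G} (hθ : θ ∈ Y) :
    TwoDeg.kerC θ = ⊥ := by
  have hp : p.Prime := Fact.out
  obtain ⟨R, hR⟩ : ∃ R, R = Subgroup.normalClosure {g : G | g ∈ TwoDeg.kerC θ ∧ ¬ p ∣ orderOf g} :=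
    ⟨_, rfl⟩
  haveI : R.Normal := hR ▸ Subgroup.normalClosure_normal
  have hR0 : R = ⊥ := by
    by_contra hR0
    refine hne fun θ' hθ' => ?_
    have hle : R ≤ TwoDeg.kerC θ' := by
      rw [hR]
      refine Subgroup.normalClosure_le_normal ?_
      rintro g ⟨hg, hg'⟩
      refine TwoDeg.mem_kerC_of_eq θ' ?_
      have h1 : ¬ p ∣ orderOf (1 : G) := by rw [orderOf_one]; exact hp.not_dvd_one
      rw [h.regY θ' hθ' θ hθ g hg', h.regY θ' hθ' θ hθ 1 h1]
      have := hg 1
      rwa [mul_one] at this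
    have h1 := hle (H.le_of_normal R hR0 y.2) 1
    rwa [mul_one] at h1
  by_contra hk
  have hPK := H.le_of_normal (TwoDeg.kerC θ) hk
  have hpg : IsPGroup p (TwoDeg.kerC θ) := by
    rw [IsPGroup.iff_orderOf]
    intro g
    have hne' : orderOf g ≠ 0 := (orderOf_pos g).ne'
    refine ⟨_, Nat.eq_prime_pow_of_unique_prime_dvd hne' fun {q} hq hqg => ?_⟩
    by_contra hqp
    obtain ⟨m, hm⟩ := hqg
    have hm0 : m ≠ 0 := fun h0 => hne' (by rw [hm, h0, mul_zero])
    have ho : orderOf (g ^ m) = q := by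
      rw [orderOf_pow_of_dvd hm0 ⟨q, by rw [hm, mul_comm]⟩, hm,
        Nat.mul_div_cancel _ (Nat.pos_of_ne_zero hm0)]
    have hmem : ((g ^ m : TwoDeg.kerC θ) : G) ∈ R := by
      rw [hR]
      refine Subgroup.subset_normalClosure ⟨(g ^ m).2, ?_⟩
      rw [Subgroup.orderOf_coe, ho]
      exact fun hd => hqp ((Nat.prime_dvd_prime_iff_eq hp hq).mp hd).symm
    rw [hR0, Subgroup.mem_bot] at hmem
    have : orderOf (g ^ m) = 1 := by
      rw [orderOf_eq_one_iff]; exact Subtype.ext hmem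
    exact hq.ne_one (ho.symm.trans this)
  refine H.not_normal ?_
  rw [← P.is_maximal' hpg hPK]
  infer_instance

theorem exists_data (H : Hyp P n) : ∃ (M : Ideal AlgInt) (e t : ℕ)
    (X Y : Finset (IrrCharacter G)) (a : IrrCharacter G → ℤ) (δ : ℤ),
      Data M P n e t X Y a δ := by
  classical
  have hp : p.Prime := Fact.out
  obtain ⟨M, hM⟩ := exists_pModular hp
  obtain ⟨e, t, he2, ht, het, he⟩ := H.exists_index
  obtain ⟨X, Y, a, δ, h, h1X, hone, hYc⟩ := exists_principal_one_mem hM H.card he he2 ht het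
  set one : IrrCharacter G := ⟨fun _ => 1, isIrrCharacter_one⟩ with hone'
  have hN2 := H.one_lt_count
  have hp3 : 3 ≤ p := by nlinarith
  obtain ⟨y, hy⟩ := H.exists_nonOne
  have hy1 := mem_nonOne.mp hy
  have hcl := H.card_class he hy1
  have hY : Y.Nonempty := Finset.card_pos.mp (by omega)
  obtain ⟨θ, hθ⟩ := hY
  have hS := sum_exc hM H.card h ⟨θ, hθ⟩ hy
  have hdY : ∀ θ' ∈ Y, charDegree (θ' : G → ℂ) = charDegree (θ : G → ℂ) := fun θ' hθ' => by
    have h1 := h.regY θ' hθ' θ hθ 1 (by rw [orderOf_one]; exact hp.not_dvd_one)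
    rw [val_one, val_one] at h1
    exact_mod_cast h1
  set yd := charDegree (θ : G → ℂ) with hyd
  -- the possible degrees of the non-exceptional characters
  have hXdeg : ∀ χ ∈ X, χ ≠ one →
      (a χ = 1 ∧ charDegree (χ : G → ℂ) = n * p + 1) ∨ (a χ = -1 ∧
        (charDegree (χ : G → ℂ) = p - 1 ∨
          (charDegree (χ : G → ℂ) = (p - 1) * (n * p + 1) ∧ t = 1))) := by
    intro χ hχ hne
    have hx1 : charDegree (χ : G → ℂ) ≠ 1 := fun h1 =>
      hne (Subtype.ext (eq_one_of_deg_one H.perf χ h1))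
    have hint := omega_isIntegral χ.2 (y : G)
    rw [omega, h.a_val χ hχ y hy, val_one, hcl] at hint
    have hdvd := nat_dvd_of_integral (deg_pos χ.2).ne' (h.a_sign χ hχ) hint
    have hcg : ((charDegree (χ : G → ℂ) : ℤ) : ZMod p) = ((a χ : ℤ) : ZMod p) :=
      (ZMod.intCast_eq_intCast_iff _ _ _).mpr (h.a_congr χ hχ)
    rw [Int.cast_natCast] at hcg
    rcases h.a_sign χ hχ with e1 | e1 <;> rw [e1] at hcg <;> push_cast at hcg
    · exact Or.inl ⟨e1, (deg_plus hp H.noexc het hcg hdvd).resolve_left hx1⟩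
    · exact Or.inr ⟨e1, deg_minus hp H.noexc het hcg hdvd⟩
  have hcgY : ((yd : ℕ) : ZMod p) = ((δ : ℤ) : ZMod p) * (e : ZMod p) := by
    have h1 := (ZMod.intCast_eq_intCast_iff _ _ _).mpr (h.congrY θ hθ)
    push_cast at h1
    exact h1
  have hydvd : yd ∣ (n * p + 1) * e := by
    have hint : IsIntegral ℤ (∑ θ' ∈ Y, omega (θ' : G → ℂ) (y : G)) :=
      IsIntegral.sum _ fun θ' _ => omega_isIntegral θ'.2 _
    rw [Finset.sum_congr rfl (g := fun θ' : IrrCharacter G =>
        (((n * p + 1) * e : ℕ) : ℂ) * (θ' : G → ℂ) y / (yd : ℂ)) fun θ' hθ' => by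
          rw [omega, hcl, val_one, hdY θ' hθ'],
      ← Finset.sum_div, ← Finset.mul_sum, hS, ← Int.cast_neg] at hint
    exact nat_dvd_of_integral (deg_pos θ.2).ne'
      (by rcases h.sign with e1 | e1 <;> simp [e1]) hint
  have hrel : δ * (yd : ℤ) = 1 + ∑ χ ∈ X.erase one, a χ * (charDegree (χ : G → ℂ) : ℤ) := by
    have h2 := h.rel θ hθ 1 (by rw [orderOf_one]; exact hp.not_dvd_one)
    rw [← Finset.add_sum_erase X _ h1X, hone] at h2
    simp only [val_one] at h2
    have hdone : charDegree (one : G → ℂ) = 1 := by simp [charDegree, hone']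
    rw [hdone] at h2
    have h3 : ((δ * (yd : ℤ) : ℤ) : ℂ) =
        ((1 + ∑ χ ∈ X.erase one, a χ * (charDegree (χ : G → ℂ) : ℤ) : ℤ) : ℂ) := by
      push_cast
      rw [hyd, h2]
      simp
    exact_mod_cast h3
  -- there is no degree `(p - 1) N`
  set A := (X.erase one).filter fun χ => a χ = 1 with hA
  set B := (X.erase one).filter fun χ => ¬ a χ = 1 ∧ charDegree (χ : G → ℂ) = p - 1 with hB
  set C := (X.erase one).filter fun χ => ¬ a χ = 1 ∧ ¬ charDegree (χ : G → ℂ) = p - 1 with hC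
  have hsplit : ∀ F : IrrCharacter G → ℤ, ∑ χ ∈ X.erase one, F χ =
      ∑ χ ∈ A, F χ + ∑ χ ∈ B, F χ + ∑ χ ∈ C, F χ := by
    intro F
    rw [← Finset.sum_filter_add_sum_filter_not (X.erase one) (fun χ => a χ = 1), add_assoc]
    congr 1
    rw [← Finset.sum_filter_add_sum_filter_not ((X.erase one).filter fun χ => ¬ a χ = 1)
      (fun χ => charDegree (χ : G → ℂ) = p - 1), Finset.filter_filter, Finset.filter_filter]
  have hmem : ∀ χ ∈ X.erase one,
      (a χ = 1 ∧ charDegree (χ : G → ℂ) = n * p + 1) ∨ (a χ = -1 ∧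
        (charDegree (χ : G → ℂ) = p - 1 ∨
          (charDegree (χ : G → ℂ) = (p - 1) * (n * p + 1) ∧ t = 1))) := fun χ hχ =>
    hXdeg χ (Finset.mem_of_mem_erase hχ) (Finset.ne_of_mem_erase hχ)
  have hcnt : (A.card : ℤ) + B.card + C.card = (e : ℤ) - 1 := by
    have h1 := hsplit fun _ => 1
    simp only [Finset.sum_const, nsmul_one, Finset.card_erase_of_mem h1X, h.cardX] at h1
    omega
  have hrel' : δ * (yd : ℤ) = 1 + (A.card : ℤ) * ((n : ℤ) * p + 1) - B.card * ((p : ℤ) - 1) -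
      C.card * (((p : ℤ) - 1) * ((n : ℤ) * p + 1)) := by
    rw [hrel, hsplit]
    rw [Finset.sum_congr rfl (s₁ := A) (g := fun _ => ((n : ℤ) * p + 1)) fun χ hχ => by
        rw [hA, Finset.mem_filter] at hχ
        rcases hmem χ hχ.1 with ⟨-, h2⟩ | ⟨h2, -⟩
        · rw [hχ.2, h2]; push_cast; ring
        · omega,
      Finset.sum_congr rfl (s₁ := B) (g := fun _ => -((p : ℤ) - 1)) fun χ hχ => by
        rw [hB, Finset.mem_filter] at hχ
        rcases hmem χ hχ.1 with ⟨h2, -⟩ | ⟨h2, -⟩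
        · exact absurd h2 hχ.2.1
        · rw [hχ.2.2, h2]; push_cast [Nat.cast_sub (show 1 ≤ p by omega)]; ring,
      Finset.sum_congr rfl (s₁ := C) (g := fun _ => -(((p : ℤ) - 1) * ((n : ℤ) * p + 1))) fun χ hχ => by
        rw [hC, Finset.mem_filter] at hχ
        rcases hmem χ hχ.1 with ⟨h2, -⟩ | ⟨h2, h3 | ⟨h3, -⟩⟩
        · exact absurd h2 hχ.2.1
        · exact absurd h3 hχ.2.2
        · rw [h3, h2]; push_cast [Nat.cast_sub (show 1 ≤ p by omega)]; ring]
    simp only [Finset.sum_const, nsmul_eq_mul]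
    ring
  have hepz : (e : ℤ) ≤ (p : ℤ) - 1 := by
    have : e ≤ e * t := Nat.le_mul_of_pos_right e ht
    omega
  have hNz : (2 : ℤ) ≤ (n : ℤ) * p + 1 := by exact_mod_cast hN2
  have hkey : C = ∅ ∧ ((δ = 1 ∧ yd = e) ∨ (δ = -1 ∧ yd * t = n * p + 1)) := by
    rw [← Finset.card_eq_zero]
    rcases h.sign with e1 | e1 <;> rw [e1] at hcgY hrel' <;> push_cast at hcgY
    · rw [one_mul] at hcgY
      have hy2 := deg_exc_plus hp H.noexc het hcgY hydvd
      obtain ⟨h1, h2⟩ := no_big_plus (p := (p : ℤ)) (e := (e : ℤ)) (i := (A.card : ℤ))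
        (j := (B.card : ℤ)) (k := (C.card : ℤ)) (N := (n : ℤ) * p + 1) (y := (yd : ℤ))
        (by omega) hepz hNz (by omega) (by omega) (by omega) hcnt
        (hy2.imp (fun h => by rw [h]) (fun h => by rw [h]; push_cast; rfl))
        (by rw [← hrel', one_mul])
      exact ⟨by omega, Or.inl ⟨e1, by omega⟩⟩
    · rw [neg_one_mul] at hcgY
      have hy2 : yd * t = n * p + 1 := (deg_exc_minus hp H.noexc het hcgY hydvd).resolve_left
        fun h1 => Finset.disjoint_left.mp h.disj h1X (by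
          rw [show one = θ from Subtype.ext (eq_one_of_deg_one H.perf θ h1).symm]; exact hθ)
      refine ⟨?_, Or.inr ⟨e1, hy2⟩⟩
      by_contra hk
      have ht1 : t = 1 := by
        obtain ⟨χ, hχ⟩ := Finset.card_pos.mp (Nat.pos_of_ne_zero hk)
        rw [hC, Finset.mem_filter] at hχ
        rcases hmem χ hχ.1 with ⟨h2, -⟩ | ⟨-, h3 | ⟨-, h3⟩⟩
        · exact absurd h2 hχ.2.1
        · exact absurd h3 hχ.2.2
        · exact h3
      rw [ht1, mul_one] at hy2
      subst ht1
      refine hk ?_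
      have := no_big_minus (p := (p : ℤ)) (i := (A.card : ℤ))
        (j := (B.card : ℤ)) (k := (C.card : ℤ)) (N := (n : ℤ) * p + 1) (by omega) hNz (by omega)
        (by omega) (by omega) (by omega) (by rw [← hrel', hy2]; push_cast; ring)
      omega
  have hdegX : ∀ χ ∈ X, χ ≠ one →
      (a χ = 1 ∧ charDegree (χ : G → ℂ) = n * p + 1) ∨
        (a χ = -1 ∧ charDegree (χ : G → ℂ) = p - 1) := by
    intro χ hχ hne
    rcases hXdeg χ hχ hne with h' | ⟨h2, h3⟩
    · exact Or.inl h'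
    · refine Or.inr ⟨h2, by_contra fun h4 => ?_⟩
      have : χ ∈ C := Finset.mem_filter.mpr ⟨Finset.mem_erase.mpr ⟨hne, hχ⟩, by omega, h4⟩
      rw [hkey.1] at this
      simp at this
  have hexc : δ = 1 → yd = e → ¬ ∀ θ' ∈ Y, (θ' : G → ℂ) (y : G) = (θ' : G → ℂ) 1 := by
    intro hd hye hall
    rw [Finset.sum_congr rfl (g := fun _ => ((e : ℕ) : ℂ)) fun θ' hθ' => by
      rw [hall θ' hθ', val_one, hdY θ' hθ', hye], Finset.sum_const, nsmul_eq_mul, hd] at hS
    have h2 : (((Y.card : ℤ) * e : ℤ) : ℂ) = ((-1 : ℤ) : ℂ) := by push_cast at hS ⊢; exact hS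
    have h3 : ((Y.card : ℤ) * e) = -1 := by exact_mod_cast h2
    have : 0 ≤ (Y.card : ℤ) * e := mul_nonneg (Int.natCast_nonneg _) (Int.natCast_nonneg _)
    omega
  have hfaith : δ = 1 → ∀ θ' ∈ Y, ∀ g : G, (θ' : G → ℂ) g = (θ' : G → ℂ) 1 → g = 1 := by
    intro hd θ' hθ'
    refine faithful_of_kerC_eq_bot (kerC_exc_eq_bot H h (y := y) ?_ hθ')
    exact hexc hd ((hkey.2.resolve_right fun h' => by omega).2)
  -- a faithful character of small degree
  have hC : IsPGroup p (Subgroup.centralizer ((P : Subgroup G) : Set G)) := by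
    rcases hkey.2 with ⟨hd, hye⟩ | ⟨hd, hye⟩
    · exact centralizer_sylow_isPGroup_of_small_degree hM H.perf P θ
        ((h.mem_iff θ).mpr (Or.inr hθ)) (hfaith hd θ hθ) (by rw [← hyd, hye]; omega)
    · obtain ⟨χ, hχ, hneg⟩ : ∃ χ ∈ X.erase one, a χ = -1 := by
        by_contra hno
        push Not at hno
        have hBC : (B.card : ℤ) = 0 ∧ C.card = 0 := by
          refine ⟨?_, by rw [hkey.1, Finset.card_empty]⟩
          rw [Int.natCast_eq_zero, Finset.card_eq_zero, hB, Finset.filter_eq_empty_iff]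
          intro χ hχ
          rcases hmem χ hχ with ⟨h2, -⟩ | ⟨h2, -⟩
          · exact fun h3 => h3.1 h2
          · exact absurd h2 (hno χ hχ)
        rw [hBC.1, hBC.2, hd] at hrel'
        have : 0 ≤ (A.card : ℤ) * ((n : ℤ) * p + 1) := mul_nonneg (Int.natCast_nonneg _) (by omega)
        push_cast at hrel'
        omega
      have hχX := Finset.mem_of_mem_erase hχ
      have hdeg := ((hdegX χ hχX (Finset.ne_of_mem_erase hχ)).resolve_left fun h' => by omega).2
      refine centralizer_sylow_isPGroup_of_small_degree hM H.perf P χ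
        ((h.mem_iff χ).mpr (Or.inl hχX)) (faithful_of_kerC_eq_bot (kerC_eq_bot_of H (y := y) ?_))
        (by rw [hdeg]; omega)
      rw [h.a_val χ hχX y hy, hneg, val_one, hdeg]
      intro hh
      have h2 : ((-1 : ℤ) : ℂ) = (((p - 1 : ℕ) : ℤ) : ℂ) := by push_cast at hh ⊢; exact hh
      have h3 := Int.cast_injective h2
      omega
  have hself : Subgroup.centralizer ((P : Subgroup G) : Set G) = (P : Subgroup G) :=
    P.is_maximal' hC (frobSylow_of_prime H.card).le_centralizer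
  exact ⟨M, e, t, X, Y, a, δ, H, hM, h, hself, he, he2, ht, het, h1X, hone, hYc, hdegX,
    hkey.2.imp (fun h' => ⟨h'.1, fun θ' hθ' => (hdY θ' hθ').trans h'.2⟩)
      (fun h' => ⟨h'.1, fun θ' hθ' => by rw [hdY θ' hθ']; exact h'.2⟩), hfaith⟩

end Cfsg.Agent.Solv.BReyn
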