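import Cfsg.Agent.Lib.Fusion.CyclicMaximal
import Cfsg.Agent.Lib.Fusion.Dihedral
import Cfsg.Agent.Lib.Solv.Basic
import Cfsg.Agent.Lib.Local.ElemAb
import Cfsg.Prelude.Def_PLocal
import Cfsg.Prelude.Def_CaseTheorems

/-! p-groups with a self-centralizing cyclic normal subgroup. -/

set_option autoImplicit false
set_option linter.style.haveILetI false

namespace Cfsg.Agent.Solv.CyclicSelf

variable {G : Type*} [Group G] [Finite G] {p : ℕ} [hp : Fact p.Prime]

/-- data: a generator of a self-centralising normal cyclic subgroup of order `p ^ n` -/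
structure Data (p n : ℕ) (u : G) : Prop where
  pg : IsPGroup p G
  ord : orderOf u = p ^ n
  two_le : 2 ≤ n
  conj : ∀ x : G, ∃ m : ℤ, x * u * x⁻¹ = u ^ m
  self : ∀ x : G, Commute x u → x ∈ Subgroup.zpowers u

variable {n : ℕ} {u : G}

theorem Data.dvd (D : Data p n u) (k : ℤ) : u ^ k = 1 ↔ ((p : ℤ) ^ n) ∣ k := by
  rw [← orderOf_dvd_iff_zpow_eq_one, D.ord, Nat.cast_pow]

theorem Data.pow_conj (D : Data p n u) {x : G} {m : ℤ} (hm : x * u * x⁻¹ = u ^ m) :
    ∀ k : ℕ, x ^ k * u * (x ^ k)⁻¹ = u ^ (m ^ k) := by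
  intro k
  induction k with
  | zero => simp
  | succ k ih =>
    rw [pow_succ' x, mul_inv_rev, show x * x ^ k * u * ((x ^ k)⁻¹ * x⁻¹) =
      x * (x ^ k * u * (x ^ k)⁻¹) * x⁻¹ by group, ih, ← conj_zpow, hm, ← zpow_mul, pow_succ']

theorem Data.mod_p (D : Data p n u) {x : G} {m : ℤ} (hm : x * u * x⁻¹ = u ^ m) : (p : ℤ) ∣ m - 1 := by
  obtain ⟨k, hk⟩ := D.pg x
  have h := D.pow_conj hm (p ^ k)
  rw [hk, one_mul, inv_one, mul_one] at h
  have h1 : u ^ (m ^ p ^ k - 1) = 1 := by rw [zpow_sub_one, ← h, mul_inv_cancel]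
  rw [D.dvd] at h1
  have h2 : (p : ℤ) ∣ m ^ p ^ k - 1 :=
    (dvd_pow_self _ (by have := D.two_le; omega)).trans h1
  rw [← ZMod.intCast_zmod_eq_zero_iff_dvd] at h2 ⊢
  push_cast at h2 ⊢
  rwa [ZMod.pow_card_pow] at h2

/-- the element of order p in U -/
def z0 (p n : ℕ) (u : G) : G := u ^ ((p : ℤ) ^ (n - 1))

theorem Data.pP (D : Data p n u) : (p : ℤ) * (p : ℤ) ^ (n - 1) = (p : ℤ) ^ n := by
  rw [← pow_succ', Nat.sub_add_cancel (by have := D.two_le; omega)]

theorem Data.z_central (D : Data p n u) (x : G) : Commute x (z0 p n u) := by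
  obtain ⟨m, hm⟩ := D.conj x
  obtain ⟨t, ht⟩ := D.mod_p hm
  refine mul_inv_eq_iff_eq_mul.1 ?_
  rw [z0, ← conj_zpow, hm, ← zpow_mul, ← mul_inv_eq_one, ← zpow_sub, D.dvd,
    show m * (p : ℤ) ^ (n - 1) - (p : ℤ) ^ (n - 1) = (m - 1) * (p : ℤ) ^ (n - 1) by ring, ht,
    mul_right_comm, D.pP]
  exact dvd_mul_right _ _

theorem Data.z_order (D : Data p n u) : orderOf (z0 p n u) = p := by
  refine orderOf_eq_prime ?_ ?_
  · rw [z0, ← zpow_natCast (u ^ _), ← zpow_mul, mul_comm, D.pP, D.dvd]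
  · rw [z0, Ne, D.dvd]
    intro h
    have h' : p ^ n ∣ p ^ (n - 1) := by exact_mod_cast h
    have := (Nat.pow_dvd_pow_iff_le_right hp.out.one_lt).1 h'
    have := D.two_le
    omega

/-- elements centralising `u ^ p` -/
theorem Data.mem_iff (D : Data p n u) {y : G} :
    y ∈ Subgroup.centralizer (Cfsg.powerClosure p 1 (Subgroup.zpowers u) : Set G) ↔ Commute y (u ^ p) := by
  constructor
  · intro h
    exact (Subgroup.mem_centralizer_iff.1 h (u ^ p)
      (Subgroup.subset_closure ⟨u, Subgroup.mem_zpowers u, by rw [pow_one]⟩)).symm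
  · intro h
    have hle : Cfsg.powerClosure p 1 (Subgroup.zpowers u) ≤ Subgroup.centralizer ({y} : Set G) := by
      unfold Cfsg.powerClosure
      rw [Subgroup.closure_le]
      rintro _ ⟨x, hx, rfl⟩
      obtain ⟨s, rfl⟩ := Subgroup.mem_zpowers_iff.1 hx
      rw [SetLike.mem_coe, Subgroup.mem_centralizer_singleton_iff, pow_one, ← zpow_natCast (u ^ s),
        ← zpow_mul, mul_comm, zpow_mul, zpow_natCast]
      exact (h.zpow_right s).eq.symm
    rw [Subgroup.mem_centralizer_iff]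
    exact fun g hg => (Subgroup.mem_centralizer_singleton_iff.1 (hle hg))

theorem Data.exp_of_mem (D : Data p n u) {y : G} (hy : Commute y (u ^ p)) :
    ∃ k : ℤ, y * u * y⁻¹ = u ^ (1 + k * (p : ℤ) ^ (n - 1)) := by
  obtain ⟨m, hm⟩ := D.conj y
  have h1 : y * u ^ p * y⁻¹ = u ^ p := by rw [hy.eq, mul_assoc, mul_inv_cancel, mul_one]
  rw [← conj_pow, hm, ← zpow_natCast (u ^ m), ← zpow_mul, ← zpow_natCast u p, ← mul_inv_eq_one,
    ← zpow_sub, D.dvd, ← D.pP, show m * (p : ℤ) - p = (p : ℤ) * (m - 1) by ring] at h1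
  obtain ⟨k, hk⟩ := (mul_dvd_mul_iff_left (Int.natCast_ne_zero.2 hp.out.ne_zero)).1 h1
  exact ⟨k, by rw [hm]; congr 1; linarith [hk]⟩

theorem Data.mem_of_exp (D : Data p n u) {y : G} {k : ℤ}
    (h : y * u * y⁻¹ = u ^ (1 + k * (p : ℤ) ^ (n - 1))) : Commute y (u ^ p) := by
  refine mul_inv_eq_iff_eq_mul.1 ?_
  rw [← conj_pow, h, ← zpow_natCast, ← zpow_mul, ← zpow_natCast u p, ← mul_inv_eq_one, ← zpow_sub, D.dvd,
    show (1 + k * (p : ℤ) ^ (n - 1)) * (p : ℤ) - p = k * ((p : ℤ) * (p : ℤ) ^ (n - 1)) by ring, D.pP]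
  exact dvd_mul_left _ _

/-- the twist: p-th powers in the coset `U y` -/
theorem Data.coset_pow (D : Data p n u) (h3 : p = 2 → 3 ≤ n) {y : G} {k : ℤ}
    (h : y * u * y⁻¹ = u ^ (1 + k * (p : ℤ) ^ (n - 1))) :
    ∃ w : ℤ, ((p : ℤ) ^ (n - 1) ∣ w * w - 1) ∧ ∀ s : ℤ, (u ^ s * y) ^ p = u ^ (s * ((p : ℤ) * w)) * y ^ p := by
  set P := (p : ℤ) ^ (n - 1) with hP
  have hn := D.two_le
  have hPP : (p : ℤ) ^ n ∣ P * P := by
    rw [hP, ← pow_add]; exact pow_dvd_pow _ (by omega)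
  have hpw : ∀ j : ℕ, (p : ℤ) ^ n ∣ (1 + k * P) ^ j - (1 + j * (k * P)) := by
    intro j
    induction j with
    | zero => simp
    | succ j ih =>
      have e : (1 + k * P) ^ (j + 1) - (1 + ((j + 1 : ℕ) : ℤ) * (k * P)) =
          ((1 + k * P) ^ j - (1 + j * (k * P))) * (1 + k * P) + (j * k * k) * (P * P) := by
        push_cast; ring
      rw [e]
      exact dvd_add (Dvd.dvd.mul_right ih _) (hPP.mul_left _)
  have hsum : ∀ q : ℕ, (p : ℤ) ^ n ∣
      (∑ j ∈ Finset.range q, (1 + k * P) ^ j) - (q + (∑ j ∈ Finset.range q, (j : ℤ)) * (k * P)) := by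
    intro q
    induction q with
    | zero => simp
    | succ q ih =>
      rw [Finset.sum_range_succ, Finset.sum_range_succ]
      have e : (∑ j ∈ Finset.range q, (1 + k * P) ^ j) + (1 + k * P) ^ q -
          (((q + 1 : ℕ) : ℤ) + ((∑ j ∈ Finset.range q, (j : ℤ)) + q) * (k * P)) =
          ((∑ j ∈ Finset.range q, (1 + k * P) ^ j) - (q + (∑ j ∈ Finset.range q, (j : ℤ)) * (k * P))) +
          ((1 + k * P) ^ q - (1 + q * (k * P))) := by push_cast; ring
      rw [e]; exact dvd_add ih (hpw q)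
  obtain ⟨w, hw, hww⟩ : ∃ w : ℤ, (p : ℤ) ^ n ∣
      ((p : ℤ) + (∑ j ∈ Finset.range p, (j : ℤ)) * (k * P)) - p * w ∧ P ∣ w * w - 1 := by
    rcases hp.out.eq_two_or_odd' with h2 | ⟨t, ht⟩
    · obtain ⟨r, hr⟩ : ∃ r, n - 1 = r + 2 := ⟨n - 3, by have := h3 h2; omega⟩
      refine ⟨1 + k * (p : ℤ) ^ (r + 1), ?_, ?_⟩
      · subst h2
        have e : ((2 : ℕ) : ℤ) + (∑ j ∈ Finset.range 2, (j : ℤ)) * (k * P) -
            ((2 : ℕ) : ℤ) * (1 + k * ((2 : ℕ) : ℤ) ^ (r + 1)) = 0 := by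
          rw [hP, hr, Finset.sum_range_succ, Finset.sum_range_succ, Finset.sum_range_zero]
          push_cast; ring
        rw [e]; exact dvd_zero _
      · subst h2
        exact ⟨k + k * k * ((2 : ℕ) : ℤ) ^ r, by rw [hP, hr]; push_cast; ring⟩
    · refine ⟨1, ?_, by simp⟩
      have hs : (∑ j ∈ Finset.range p, (j : ℤ)) = (p : ℤ) * t := by
        have h0 := Finset.sum_range_id_mul_two p
        have h1 : (∑ j ∈ Finset.range p, j) = p * t := by
          have : (∑ j ∈ Finset.range p, j) * 2 = p * t * 2 := by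
            rw [h0, show p - 1 = 2 * t by omega]; ring
          omega
        rw [← Nat.cast_sum, h1]; push_cast; rfl
      rw [hs]
      refine ⟨(t : ℤ) * k, ?_⟩
      rw [← D.pP]; ring
  refine ⟨w, hww, fun s => ?_⟩
  rw [twist_pow h]
  congr 1
  rw [← mul_inv_eq_one, ← zpow_sub, D.dvd, ← mul_sub]
  refine Dvd.dvd.mul_left ?_ _
  have := dvd_add (hsum p) hw
  simpa using this

theorem Data.omega (D : Data p n u) (h3 : p = 2 → 3 ≤ n)
    (hex : ∃ x, Commute x (u ^ p) ∧ x ∉ Subgroup.zpowers u) :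
    (Subgroup.zpowers u).relIndex (Subgroup.centralizer (Cfsg.powerClosure p 1 (Subgroup.zpowers u) : Set G)) = p ∧
    ∃ E : Subgroup G, Cfsg.omegaOne p (Subgroup.centralizer (Cfsg.powerClosure p 1 (Subgroup.zpowers u) : Set G)) = E ∧
      Cfsg.IsElementaryAbelian p E ∧ Nat.card E = p ^ 2 ∧ E.Normal ∧
      ∀ F : Subgroup G, F.Normal → Cfsg.IsElementaryAbelian p F → Nat.card F = p ^ 2 → F ≤ E := by
  set U := Subgroup.zpowers u with hU
  set M := Subgroup.centralizer (Cfsg.powerClosure p 1 U : Set G) with hM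
  set P := (p : ℤ) ^ (n - 1) with hP
  set z := z0 p n u with hz
  have hp0 : (p : ℤ) ≠ 0 := Int.natCast_ne_zero.2 hp.out.ne_zero
  have hUM : U ≤ M := fun y hy => by
    obtain ⟨s, rfl⟩ := Subgroup.mem_zpowers_iff.1 hy
    exact D.mem_iff.2 (((Commute.refl u).zpow_left s).pow_right p)
  have hd : ∀ y ∈ M, ∃ k : ℤ, y * u * y⁻¹ * u⁻¹ = z ^ k := by
    intro y hy
    obtain ⟨k, hk⟩ := D.exp_of_mem (D.mem_iff.1 hy)
    refine ⟨k, ?_⟩
    rw [hk, hz, z0, ← zpow_mul, ← zpow_sub_one]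
    congr 1; ring
  let δ : M →* G := MonoidHom.mk' (fun y => (y : G) * u * (y : G)⁻¹ * u⁻¹) (fun y y' => by
    obtain ⟨k, hk⟩ := hd y y.2
    obtain ⟨k', hk'⟩ := hd y' y'.2
    show (y : G) * y' * u * ((y : G) * y')⁻¹ * u⁻¹ = _
    rw [hk, hk']
    calc (y : G) * y' * u * ((y : G) * y')⁻¹ * u⁻¹ = (y : G) * (y' * u * (y' : G)⁻¹ * u⁻¹) * u * (y : G)⁻¹ * u⁻¹ := by group
      _ = z ^ k' * ((y : G) * u * (y : G)⁻¹ * u⁻¹) := by
        rw [hk', ((D.z_central (y : G)).zpow_right k').eq, hz]; group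
      _ = z ^ k * z ^ k' := by rw [hk, ← zpow_add, ← zpow_add, add_comm]
    )
  have hker : δ.ker = U.subgroupOf M := by
    ext y
    rw [MonoidHom.mem_ker, Subgroup.mem_subgroupOf]
    show (y : G) * u * (y : G)⁻¹ * u⁻¹ = 1 ↔ _
    rw [mul_inv_eq_one, mul_inv_eq_iff_eq_mul]
    refine ⟨fun e => D.self _ e, fun e => ?_⟩
    obtain ⟨s, hs⟩ := Subgroup.mem_zpowers_iff.1 e
    rw [← hs]; exact ((Commute.refl u).zpow_left s).eq
  have hidx : U.relIndex M = p := by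
    rw [Subgroup.relIndex, ← hker, Subgroup.index_ker]
    have hle : δ.range ≤ Subgroup.zpowers z := by
      rintro _ ⟨y, rfl⟩
      obtain ⟨k, hk⟩ := hd y y.2
      exact Subgroup.mem_zpowers_iff.2 ⟨k, hk.symm⟩
    have hd' := Subgroup.card_dvd_of_le hle
    rw [Nat.card_zpowers, hz, D.z_order] at hd'
    rcases (Nat.dvd_prime hp.out).1 hd' with h | h
    · exfalso
      obtain ⟨x, hx, hxU⟩ := hex
      have hm : δ ⟨x, D.mem_iff.2 hx⟩ ∈ δ.range := ⟨_, rfl⟩
      rw [Subgroup.eq_bot_of_card_eq _ h, Subgroup.mem_bot, ← MonoidHom.mem_ker, hker] at hm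
      exact hxU hm
    · exact h
  haveI hUn : U.Normal := ⟨fun a ha g => by
    obtain ⟨s, rfl⟩ := Subgroup.mem_zpowers_iff.1 ha
    obtain ⟨m, hm⟩ := D.conj g
    rw [← conj_zpow, hm, ← zpow_mul]
    exact Subgroup.mem_zpowers_iff.2 ⟨_, rfl⟩⟩
  obtain ⟨x, hx, hxU⟩ := hex
  have hxp : x ^ p ∈ U := by
    have := (U.subgroupOf M).pow_index_mem ⟨x, D.mem_iff.2 hx⟩
    rw [show (U.subgroupOf M).index = p from hidx] at this
    exact this
  obtain ⟨kx, hkx⟩ := D.exp_of_mem hx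
  have hpk : ¬ (p : ℤ) ∣ kx := by
    rintro ⟨t, rfl⟩
    apply hxU
    refine D.self x (mul_inv_eq_iff_eq_mul.1 ?_)
    rw [hkx, zpow_add, zpow_one, mul_eq_left, D.dvd, ← D.pP]
    exact ⟨t, by ring⟩
  obtain ⟨c, hc⟩ := Subgroup.mem_zpowers_iff.1 hxp
  obtain ⟨e, he⟩ : (p : ℤ) ∣ c := by
    have h1 : x * u ^ c * x⁻¹ = u ^ c := by
      rw [hc, ((Commute.refl x).pow_right p).eq, mul_assoc, mul_inv_cancel, mul_one]
    rw [← conj_zpow, hkx, ← zpow_mul, ← mul_inv_eq_one, ← zpow_sub, D.dvd, ← D.pP,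
      show (1 + kx * P) * c - c = (kx * c) * P by ring, mul_dvd_mul_iff_right (pow_ne_zero _ hp0)] at h1
    exact ((Nat.prime_iff_prime_int.1 hp.out).dvd_or_dvd h1).resolve_left hpk
  obtain ⟨w, hww, hw⟩ := D.coset_pow h3 hkx
  obtain ⟨t, ht⟩ := hww
  set b := u ^ (-e * w) * x with hb
  have hbp : b ^ p = 1 := by
    rw [hb, hw, ← hc, he, ← zpow_add, D.dvd, ← D.pP]
    exact ⟨-e * t, by linear_combination (-(p : ℤ) * e) * ht⟩
  have hbM : b ∈ M := mul_mem (hUM (Subgroup.mem_zpowers_iff.2 ⟨_, rfl⟩)) (D.mem_iff.2 hx)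
  have hbU : b ∉ U := fun h => hxU ((mul_mem_cancel_left (Subgroup.mem_zpowers_iff.2 ⟨_, rfl⟩)).1 h)
  have hzU : z ∈ U := Subgroup.mem_zpowers_iff.2 ⟨_, rfl⟩
  have hzp : z ^ p = 1 := by
    conv_lhs => rw [← D.z_order]
    exact pow_orderOf_eq_one z
  set E := Subgroup.zpowers z ⊔ Subgroup.zpowers b with hE
  have hEab : Cfsg.IsElementaryAbelian p E := Local.elemAb_sup (Local.elemAb_zpowers hzp)
    (Local.elemAb_zpowers hbp) (by
      intro a ha c hc'
      obtain ⟨i, rfl⟩ := Subgroup.mem_zpowers_iff.1 ha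
      exact (((D.z_central c).symm).zpow_left i).eq)
  have hEM : E ≤ M := sup_le (Subgroup.zpowers_le.2 (hUM hzU)) (Subgroup.zpowers_le.2 hbM)
  have homega : Cfsg.omegaOne p M = E := by
    refine le_antisymm ((Subgroup.closure_le _).2 ?_)
      (fun a ha => Subgroup.subset_closure ⟨hEM ha, hEab.2 a ha⟩)
    rintro y ⟨hy, hyp⟩
    obtain ⟨j, s, hys⟩ : ∃ (j : ℕ) (s : ℤ), y = u ^ s * b ^ j := by
      haveI : (U.subgroupOf M).Normal := hUn.comap _
      haveI : Fact (Nat.card (M ⧸ U.subgroupOf M)).Prime := ⟨by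
        rw [← Subgroup.index_eq_card, show (U.subgroupOf M).index = p from hidx]; exact hp.out⟩
      have hgen : ((⟨y, hy⟩ : M) : M ⧸ U.subgroupOf M) ∈ Submonoid.powers ((⟨b, hbM⟩ : M) : M ⧸ U.subgroupOf M) := by
        rw [mem_powers_iff_mem_zpowers, zpowers_eq_top_of_prime_card (G := M ⧸ U.subgroupOf M) rfl]
        · exact Subgroup.mem_top _
        · exact fun h => hbU ((QuotientGroup.eq_one_iff (⟨b, hbM⟩ : M)).1 h)
      obtain ⟨j, hj⟩ := hgen
      have hm : y * (b ^ j)⁻¹ ∈ U := by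
        have hj' : ((⟨b, hbM⟩ ^ j : M) : M ⧸ U.subgroupOf M) = ((⟨y, hy⟩ : M) : M ⧸ U.subgroupOf M) := by
          rw [← hj]; rfl
        have h1 := QuotientGroup.eq.1 hj'
        rw [Subgroup.mem_subgroupOf] at h1
        have h2 : (b ^ j)⁻¹ * y ∈ U := by simpa using h1
        have e : y * (b ^ j)⁻¹ = b ^ j * ((b ^ j)⁻¹ * y) * (b ^ j)⁻¹ := by group
        rw [e]; exact hUn.conj_mem _ h2 _
      obtain ⟨s, hs⟩ := Subgroup.mem_zpowers_iff.1 hm
      exact ⟨j, s, by rw [hs]; group⟩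
    obtain ⟨kj, hkj⟩ := D.exp_of_mem (D.mem_iff.1 (pow_mem hbM j))
    obtain ⟨v, ⟨t', ht'⟩, hv⟩ := D.coset_pow h3 hkj
    have h1 : u ^ (s * ((p : ℤ) * v)) = 1 := by
      rw [hys, hv, ← pow_mul, mul_comm j, pow_mul, hbp, one_pow, mul_one] at hyp
      exact hyp
    rw [D.dvd, ← D.pP, show s * ((p : ℤ) * v) = (p : ℤ) * (s * v) by ring, mul_dvd_mul_iff_left hp0] at h1
    obtain ⟨r, hr⟩ := h1
    have hs : s = P * (r * v - s * t') := by linear_combination v * hr - s * ht'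
    rw [hys, hs, zpow_mul]
    exact mul_mem (Subgroup.mem_sup_left (Subgroup.mem_zpowers_iff.2 ⟨_, rfl⟩))
      (Subgroup.mem_sup_right (pow_mem (Subgroup.mem_zpowers b) j))
  have hMn : M.Normal := by
    refine ⟨fun a ha g => D.mem_iff.2 (mul_inv_eq_iff_eq_mul.1 ?_)⟩
    obtain ⟨m, hm⟩ := D.conj g⁻¹
    rw [inv_inv] at hm
    have hc1 : Commute a (g⁻¹ * u ^ p * g) := by
      have : g⁻¹ * u ^ p * g = (u ^ p) ^ m := by
        have e : (g⁻¹ * u * g⁻¹⁻¹) ^ p = g⁻¹ * u ^ p * g⁻¹⁻¹ := conj_pow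
        rw [inv_inv, hm] at e
        rw [← e, ← zpow_natCast (u ^ m), ← zpow_mul, mul_comm, zpow_mul, zpow_natCast]
      rw [this]; exact (D.mem_iff.1 ha).zpow_right m
    calc g * a * g⁻¹ * u ^ p * (g * a * g⁻¹)⁻¹ = g * (a * (g⁻¹ * u ^ p * g)) * a⁻¹ * g⁻¹ := by group
      _ = g * ((g⁻¹ * u ^ p * g) * a) * a⁻¹ * g⁻¹ := by rw [hc1.eq]
      _ = u ^ p := by group
  have hEn : E.Normal := by
    refine ⟨fun a ha g => ?_⟩
    rw [← homega]
    exact Subgroup.subset_closure ⟨hMn.conj_mem a (hEM ha) g, by rw [conj_pow, hEab.2 a ha, mul_one, mul_inv_cancel]⟩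
  refine ⟨hidx, E, homega, hEab, ?_, hEn, fun F hF hFe hFc => ?_⟩
  · haveI : (Subgroup.zpowers z).Normal := ⟨fun a ha g => by
      obtain ⟨i, rfl⟩ := Subgroup.mem_zpowers_iff.1 ha
      rw [((D.z_central g).zpow_right i).eq, mul_assoc, mul_inv_cancel, mul_one]
      exact Subgroup.mem_zpowers_iff.2 ⟨i, rfl⟩⟩
    have hb1 : b ≠ 1 := fun e => hbU (e ▸ one_mem U)
    rw [hE, card_sup_of_inf_eq_bot _ _ ?_, Nat.card_zpowers, Nat.card_zpowers, hz, D.z_order,
      orderOf_eq_prime hbp hb1, pow_two]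
    rw [eq_bot_iff]
    rintro a ⟨ha1, ha2⟩
    by_contra ha
    have hao : orderOf a = p := orderOf_eq_prime ((Local.elemAb_zpowers hbp).2 a ha2) fun e => ha (Subgroup.mem_bot.2 e)
    have heq : Subgroup.zpowers a = Subgroup.zpowers b :=
      Subgroup.eq_of_le_of_card_ge (Subgroup.zpowers_le.2 ha2) (by
        rw [Nat.card_zpowers, Nat.card_zpowers, hao, orderOf_eq_prime hbp hb1])
    exact hbU (Subgroup.zpowers_le.2 hzU (Subgroup.zpowers_le.2 ha1 (heq.ge (Subgroup.mem_zpowers b))))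
  · rw [← homega]
    intro y hy
    refine Subgroup.subset_closure ⟨D.mem_iff.2 ?_, hFe.2 y hy⟩
    have hm : y * u * y⁻¹ * u⁻¹ ∈ F := by
      have e : y * u * y⁻¹ * u⁻¹ = y * (u * y⁻¹ * u⁻¹) := by group
      rw [e]; exact mul_mem hy (hF.conj_mem _ (inv_mem hy) u)
    obtain ⟨m, hmy⟩ := D.conj y
    have hyu : (y * u * y⁻¹) ^ p = u ^ p := by
      have h1 := hFe.2 _ hm
      rw [hmy, ← zpow_sub_one] at h1
      rw [hmy]
      calc (u ^ m) ^ p = (u ^ (m - 1)) ^ p * u ^ p := by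
            rw [← ((Commute.refl u).zpow_left (m - 1)).mul_pow, ← zpow_add_one, sub_add_cancel]
        _ = u ^ p := by rw [h1, one_mul]
    rw [conj_pow, mul_inv_eq_iff_eq_mul] at hyu
    exact hyu

theorem exists_step (D : Data p n u) (hne : Subgroup.zpowers u ≠ ⊤) :
    ∃ x : G, x ∉ Subgroup.zpowers u ∧ x ^ p ∈ Subgroup.zpowers u := by
  classical
  obtain ⟨g, -, hg⟩ := SetLike.exists_of_lt (lt_top_iff_ne_top.2 hne)
  have h : ∃ k : ℕ, g ^ p ^ k ∈ Subgroup.zpowers u := by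
    obtain ⟨k, hk⟩ := D.pg g; exact ⟨k, hk ▸ one_mem _⟩
  have h0 : Nat.find h ≠ 0 := fun e => hg (by
    have := Nat.find_spec h
    rwa [e, pow_zero, pow_one] at this)
  refine ⟨g ^ p ^ (Nat.find h - 1), Nat.find_min h (by omega), ?_⟩
  rw [← pow_mul, ← pow_succ, Nat.sub_add_cancel (Nat.one_le_iff_ne_zero.2 h0)]
  exact Nat.find_spec h

theorem mem_of_odd (D : Data p n u) (hp2 : p ≠ 2) {x : G} (hx : x ^ p ∈ Subgroup.zpowers u) :
    Commute x (u ^ p) := by
  obtain ⟨m, hm⟩ := D.conj x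
  have h1 := D.pow_conj hm p
  obtain ⟨c, hc⟩ := Subgroup.mem_zpowers_iff.1 hx
  rw [← hc, ((Commute.refl u).zpow_left c).eq, mul_assoc, mul_inv_cancel, mul_one] at h1
  have h2 : (p : ℤ) ^ n ∣ m ^ p - 1 := by rw [← D.dvd, zpow_sub_one, ← h1, mul_inv_cancel]
  obtain ⟨b₀, hb₀⟩ := D.mod_p hm
  obtain ⟨t, ht⟩ := odd_sq_dvd_geom_sum₂_sub (R := ℤ) (a := 1) (b := b₀)
    (hp.out.eq_two_or_odd'.resolve_left hp2)
  simp only [one_pow, mul_one] at ht
  rw [show (1 : ℤ) + (p : ℤ) * b₀ = m by linarith [hb₀]] at ht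
  set S := ∑ x ∈ Finset.range p, m ^ x with hS
  have hS' : S = (p : ℤ) * (1 + p * t) := by linear_combination ht
  have h3 : (p : ℤ) ^ (n - 1) ∣ m - 1 := by
    have e : m ^ p - 1 = (p : ℤ) * ((m - 1) * (1 + p * t)) := by
      rw [← geom_sum_mul m p, ← hS, hS']; ring
    rw [e, ← D.pP, mul_dvd_mul_iff_left (Int.natCast_ne_zero.2 hp.out.ne_zero)] at h2
    exact (IsCoprime.pow_left ⟨-t, 1, by ring⟩).dvd_of_dvd_mul_right h2
  obtain ⟨k, hk⟩ := h3
  exact D.mem_of_exp (k := k) (by rw [hm]; congr 1; linarith [hk])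

/-- dihedral, quaternion or semidihedral -/
def LeftCase (G : Type*) [Group G] : Prop :=
  (∃ m : ℕ, Nonempty (G ≃* DihedralGroup m)) ∨ (∃ m : ℕ, Nonempty (G ≃* QuaternionGroup m)) ∨ Cfsg.IsQuasiDihedral G

theorem two_case {G : Type*} [Group G] [Finite G] {n : ℕ} {u : G} [Fact (Nat.Prime 2)] (D : Data 2 n u)
    (hne : Subgroup.zpowers u ≠ ⊤) (h : 3 ≤ n → ∀ x, Commute x (u ^ 2) → x ∈ Subgroup.zpowers u) :
    Nat.card G = 2 ^ (n + 1) ∧ LeftCase G := by
  set U := Subgroup.zpowers u with hU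
  haveI hUn : U.Normal := ⟨fun a ha g => by
    obtain ⟨s, rfl⟩ := Subgroup.mem_zpowers_iff.1 ha
    obtain ⟨m, hm⟩ := D.conj g
    rw [← conj_zpow, hm, ← zpow_mul]
    exact Subgroup.mem_zpowers_iff.2 ⟨_, rfl⟩⟩
  have hn := D.two_le
  have hodd : ∀ {x : G} {m : ℤ}, x * u * x⁻¹ = u ^ m → m % 2 = 1 := fun {x m} hm => by
    have := D.mod_p hm
    push_cast at this
    omega
  have hmin : ∀ x : G, ∀ m : ℤ, x * u * x⁻¹ = u ^ m → (2 : ℤ) ^ n ∣ m * m - 1 →
      (2 : ℤ) ^ (n - 1) ∣ m - 1 ∨ (2 : ℤ) ^ (n - 1) ∣ m + 1 := by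
    intro x m hm h2
    obtain ⟨q, hq⟩ : ∃ q : ℤ, m = 2 * q + 1 := ⟨(m - 1) / 2, by have := hodd hm; omega⟩
    obtain ⟨r, hr⟩ : ∃ r, n = r + 2 := ⟨n - 2, by omega⟩
    subst hr
    rw [show m * m - 1 = 2 * 2 * (q * (q + 1)) by rw [hq]; ring, show (2 : ℤ) ^ (r + 2) = 2 * 2 * 2 ^ r by ring,
      mul_dvd_mul_iff_left (by norm_num : (2 * 2 : ℤ) ≠ 0)] at h2
    rw [show r + 2 - 1 = r + 1 by omega, pow_succ']
    rcases Int.even_or_odd' q with ⟨j, rfl | rfl⟩
    · left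
      have hcop : IsCoprime ((2 : ℤ) ^ r) (2 * j + 1) := IsCoprime.pow_left ⟨-j, 1, by ring⟩
      obtain ⟨v, hv⟩ := hcop.dvd_of_dvd_mul_right h2
      exact ⟨v, by rw [hq, hv]; ring⟩
    · right
      have hcop : IsCoprime ((2 : ℤ) ^ r) (2 * j + 1) := IsCoprime.pow_left ⟨-j, 1, by ring⟩
      obtain ⟨v, hv⟩ := hcop.dvd_of_dvd_mul_left h2
      exact ⟨v, by rw [hq]; linear_combination (2 : ℤ) * hv⟩
  have hcent : ∀ x : G, ∀ m : ℤ, x * u * x⁻¹ = u ^ m → (2 : ℤ) ^ (n - 1) ∣ m - 1 → x ∈ U ∨ n = 2 := by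
    intro x m hm hd
    by_cases hn2 : n = 2
    · exact Or.inr hn2
    left
    obtain ⟨k, hk⟩ := hd
    refine h (by omega) x (D.mem_of_exp (k := k) ?_)
    rw [hm]; push_cast; congr 1; linarith [hk]
  have hsqU : ∀ x : G, x ^ 2 ∈ U := by
    intro x
    classical
    by_contra hx2
    have hex : ∃ k : ℕ, (x ^ 2) ^ 2 ^ k ∈ U := by
      obtain ⟨k, hk⟩ := D.pg (x ^ 2); exact ⟨k, hk ▸ one_mem _⟩
    have hk0 : Nat.find hex ≠ 0 := fun e => hx2 (by
      have := Nat.find_spec hex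
      rwa [e, pow_zero, pow_one] at this)
    set y := x ^ 2 ^ (Nat.find hex - 1) with hy
    have hyU : y ^ 2 ∉ U := by
      rw [hy, ← pow_mul, mul_comm, pow_mul]
      exact Nat.find_min hex (by omega)
    have hy4 : (y ^ 2) ^ 2 ∈ U := by
      obtain ⟨k, hk⟩ : ∃ k, Nat.find hex = k + 1 := ⟨Nat.find hex - 1, by omega⟩
      have h2 := Nat.find_spec hex
      rw [hk, ← pow_mul] at h2
      rw [hy, hk, ← pow_mul, ← pow_mul, Nat.add_sub_cancel,
        show 2 ^ k * (2 * 2) = 2 * 2 ^ (k + 1) by ring]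
      exact h2
    obtain ⟨m, hm⟩ := D.conj y
    have hm2 := D.pow_conj hm 2
    obtain ⟨c, hc⟩ := Subgroup.mem_zpowers_iff.1 hy4
    have h4 := D.pow_conj hm2 2
    rw [← hc, ((Commute.refl u).zpow_left c).eq, mul_assoc, mul_inv_cancel, mul_one] at h4
    have hd : (2 : ℤ) ^ n ∣ m ^ 2 * m ^ 2 - 1 := by
      have : u ^ ((m ^ 2) ^ 2 - 1) = 1 := by rw [zpow_sub_one, ← h4, mul_inv_cancel]
      rw [D.dvd] at this
      push_cast at this
      rwa [pow_two (m ^ 2)] at this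
    obtain ⟨q, hq⟩ : ∃ q : ℤ, m = 2 * q + 1 := ⟨(m - 1) / 2, by have := hodd hm; omega⟩
    rcases hmin _ _ hm2 hd with h1 | h1
    · rcases hcent _ _ hm2 h1 with h5 | h5
      · exact hyU h5
      · apply hyU
        refine D.self _ (mul_inv_eq_iff_eq_mul.1 ?_)
        rw [hm2]
        have h6 : (4 : ℤ) ∣ m ^ 2 - 1 := ⟨q * q + q, by rw [hq]; ring⟩
        have h7 : u ^ (m ^ 2 - 1) = 1 := by rw [D.dvd, h5]; push_cast; simpa using h6
        rwa [zpow_sub_one, mul_inv_eq_one] at h7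
    · rcases Nat.lt_or_ge n 3 with hn3 | hn3
      · apply hyU
        have hn2 : n = 2 := by omega
        refine D.self _ (mul_inv_eq_iff_eq_mul.1 ?_)
        rw [hm2]
        have h6 : (4 : ℤ) ∣ m ^ 2 - 1 := ⟨q * q + q, by rw [hq]; ring⟩
        have h7 : u ^ (m ^ 2 - 1) = 1 := by rw [D.dvd, hn2]; push_cast; simpa using h6
        rwa [zpow_sub_one, mul_inv_eq_one] at h7
      · have h4' : (4 : ℤ) ∣ m ^ 2 + 1 := (pow_dvd_pow 2 (show 2 ≤ n - 1 by omega)).trans h1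
        rw [hq, show (2 * q + 1) ^ 2 + 1 = 4 * (q * q + q) + 2 by ring] at h4'
        omega
  have hidx : U.index = 2 := by
    obtain ⟨x, hxU, -⟩ := exists_step D hne
    rw [Subgroup.index_eq_two_iff]
    refine ⟨x, fun y => ?_⟩
    by_cases hy : y ∈ U
    · exact Or.inr ⟨hy, fun hh => hxU ((mul_mem_cancel_left hy).1 hh)⟩
    · refine Or.inl ⟨?_, hy⟩
      have key : ∀ g : G, g ∉ U → ∃ m : ℤ, g * u * g⁻¹ = u ^ m ∧ (2 : ℤ) ^ (n - 1) ∣ m + 1 := by
        intro g hg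
        obtain ⟨m, hm⟩ := D.conj g
        obtain ⟨c, hc⟩ := Subgroup.mem_zpowers_iff.1 (hsqU g)
        have h2 := D.pow_conj hm 2
        rw [← hc, ((Commute.refl u).zpow_left c).eq, mul_assoc, mul_inv_cancel, mul_one] at h2
        have hd : (2 : ℤ) ^ n ∣ m * m - 1 := by
          have : u ^ (m ^ 2 - 1) = 1 := by rw [zpow_sub_one, ← h2, mul_inv_cancel]
          rw [D.dvd] at this
          push_cast at this
          rwa [pow_two] at this
        rcases hmin g m hm hd with h1 | h1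
        · rcases hcent g m hm h1 with h5 | h5
          · exact absurd h5 hg
          · refine ⟨m, hm, ?_⟩
            subst h5
            norm_num at h1 ⊢
            omega
        · exact ⟨m, hm, h1⟩
      obtain ⟨m, hm, hmd⟩ := key x hxU
      obtain ⟨m', hm', hmd'⟩ := key y hy
      have hyx : y * x * u * (y * x)⁻¹ = u ^ (m' * m) := by
        calc y * x * u * (y * x)⁻¹ = y * (x * u * x⁻¹) * y⁻¹ := by group
          _ = u ^ (m' * m) := by rw [hm, ← conj_zpow, hm', ← zpow_mul]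
      have hd : (2 : ℤ) ^ (n - 1) ∣ m' * m - 1 := by
        have e : m' * m - 1 = (m' + 1) * m - (m + 1) := by ring
        rw [e]; exact dvd_sub (hmd'.mul_right m) hmd
      rcases hcent _ _ hyx hd with h5 | h5
      · exact h5
      · refine D.self _ (mul_inv_eq_iff_eq_mul.1 ?_)
        rw [hyx]
        have h6 : (4 : ℤ) ∣ m' * m - 1 := by
          subst h5
          norm_num at hmd hmd'
          obtain ⟨a1, ha1⟩ := hmd
          obtain ⟨a2, ha2⟩ := hmd'
          -- both exponents are congruent to -1 modulo 4 as they act nontrivially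
          have hx4 : (4 : ℤ) ∣ m + 1 := by
            by_contra hh
            have h4m : (4 : ℤ) ∣ m - 1 := by omega
            exact hxU (D.self _ (mul_inv_eq_iff_eq_mul.1 (by
              rw [hm]
              have h7 : u ^ (m - 1) = 1 := by rw [D.dvd]; push_cast; simpa using h4m
              rwa [zpow_sub_one, mul_inv_eq_one] at h7)))
          have hy4 : (4 : ℤ) ∣ m' + 1 := by
            by_contra hh
            have h4m : (4 : ℤ) ∣ m' - 1 := by omega
            exact hy (D.self _ (mul_inv_eq_iff_eq_mul.1 (by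
              rw [hm']
              have h7 : u ^ (m' - 1) = 1 := by rw [D.dvd]; push_cast; simpa using h4m
              rwa [zpow_sub_one, mul_inv_eq_one] at h7)))
          have e : m' * m - 1 = (m' + 1) * m - (m + 1) := by ring
          rw [e]; exact dvd_sub (hy4.mul_right m) hx4
        have h7 : u ^ (m' * m - 1) = 1 := by rw [D.dvd, h5]; push_cast; simpa using h6
        rwa [zpow_sub_one, mul_inv_eq_one] at h7
  have hcard : Nat.card G = 2 ^ (n + 1) := by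
    rw [← U.card_mul_index, hidx, hU, Nat.card_zpowers, D.ord, pow_succ]
  refine ⟨hcard, ?_⟩
  have hna : ∃ x y : G, x * y ≠ y * x := by
    obtain ⟨g, -, hg⟩ := SetLike.exists_of_lt (lt_top_iff_ne_top.2 hne)
    exact ⟨g, u, fun e => hg (D.self g e)⟩
  obtain ⟨a, b, hao, hb, hcase⟩ := Fusion.cyclic_maximal_two (N := n) hn hcard U inferInstance hidx hna
  set A := Subgroup.zpowers a with hA
  have hAidx : A.index = 2 := by
    have := A.card_mul_index
    rw [hA, Nat.card_zpowers, hao, hcard, pow_succ] at this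
    exact Nat.eq_of_mul_eq_mul_left (Nat.two_pow_pos n) this
  have hform : ∀ g : G, ∃ i : ℤ, g = a ^ i ∨ g = a ^ i * b := by
    intro g
    by_cases hg : g ∈ A
    · obtain ⟨i, hi⟩ := Subgroup.mem_zpowers_iff.1 hg
      exact ⟨i, Or.inl hi.symm⟩
    · have hm : g * b⁻¹ ∈ A :=
        (Subgroup.mul_mem_iff_of_index_two hAidx).2 (iff_of_false hg fun hh => hb (inv_mem_iff.1 hh))
      obtain ⟨i, hi⟩ := Subgroup.mem_zpowers_iff.1 hm
      exact ⟨i, Or.inr (by rw [hi, inv_mul_cancel_right])⟩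
  rcases hcase with ⟨hb2, hinv⟩ | ⟨hb2, hinv⟩ | ⟨hN3, hb2, hconj⟩ | ⟨hN3, hb2, hconj⟩
  · left
    have hb1 : b ≠ 1 := fun e => hb (e ▸ one_mem _)
    have hbo : orderOf b = 2 := orderOf_eq_prime hb2 hb1
    have hab2 : (b * a) ^ 2 = 1 := by
      calc (b * a) ^ 2 = (b * a * b⁻¹) * b ^ 2 * a := by rw [pow_two, pow_two]; group
        _ = 1 := by rw [hinv, hb2, mul_one, inv_mul_cancel]
    have hbao : orderOf (b * a) = 2 := by
      refine orderOf_eq_prime hab2 fun e => hb ?_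
      rw [eq_inv_of_mul_eq_one_left e]; exact inv_mem (Subgroup.mem_zpowers a)
    have hne' : b ≠ b * a := fun e => by
      have := mul_eq_left.1 e.symm
      rw [this, orderOf_one] at hao
      exact absurd hao (Nat.one_lt_two_pow (by omega)).ne
    obtain ⟨e⟩ := Fusion.closure_pair_equiv_dihedral hbo hbao hne'
    have htop : Subgroup.closure ({b, b * a} : Set G) = ⊤ := by
      rw [eq_top_iff]
      intro g _
      have hbm : b ∈ Subgroup.closure ({b, b * a} : Set G) := Subgroup.subset_closure (by simp)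
      have ham : a ∈ Subgroup.closure ({b, b * a} : Set G) := by
        have h1 : b * a ∈ Subgroup.closure ({b, b * a} : Set G) := Subgroup.subset_closure (by simp)
        have := mul_mem (inv_mem hbm) h1
        rwa [inv_mul_cancel_left] at this
      obtain ⟨i, rfl | rfl⟩ := hform g
      · exact zpow_mem ham i
      · exact mul_mem (zpow_mem ham i) hbm
    exact ⟨_, ⟨(Subgroup.topEquiv.symm.trans (MulEquiv.subgroupCongr htop.symm)).trans e⟩⟩
  · right; left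
    have hu : UniqueOrderP 2 G := by
      have hz : ∀ g : G, g ^ 2 = 1 → g ∈ A := by
        intro g hg
        obtain ⟨i, rfl | rfl⟩ := hform g
        · exact Subgroup.mem_zpowers_iff.2 ⟨i, rfl⟩
        · exfalso
          have e : (a ^ i * b) ^ 2 = a ^ i * (b * a ^ i * b⁻¹) * b ^ 2 := by rw [pow_two, pow_two]; group
          rw [e, ← conj_zpow, hinv, inv_zpow, mul_inv_cancel, one_mul, hb2] at hg
          have := orderOf_dvd_of_pow_eq_one hg
          rw [hao] at this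
          have := (Nat.pow_dvd_pow_iff_le_right (by norm_num)).1 this
          omega
      intro x y hx hy hy1
      by_cases hx1 : x = 1
      · rw [hx1]; exact one_mem _
      have hsub : ∀ g : G, g ^ 2 = 1 → g ∈ Subgroup.zpowers (a ^ ((2 : ℤ) ^ (n - 1))) := by
        intro g hg
        obtain ⟨i, rfl⟩ := Subgroup.mem_zpowers_iff.1 (hz g hg)
        rw [← zpow_natCast (a ^ i), ← zpow_mul, ← orderOf_dvd_iff_zpow_eq_one, hao] at hg
        obtain ⟨t, ht⟩ := hg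
        obtain ⟨r, hr⟩ : ∃ r, n = r + 1 := ⟨n - 1, by omega⟩
        subst hr
        push_cast at ht
        refine Subgroup.mem_zpowers_iff.2 ⟨t, ?_⟩
        rw [← zpow_mul, Nat.add_sub_cancel]
        congr 1
        have e : (2 : ℤ) * ((2 : ℤ) ^ r * t) = 2 * i := by linear_combination -ht
        linarith
      have hcy : Nat.card (Subgroup.zpowers y) = 2 := by rw [Nat.card_zpowers, orderOf_eq_prime hy hy1]
      have heq : Subgroup.zpowers y = Subgroup.zpowers (a ^ ((2 : ℤ) ^ (n - 1))) := by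
        refine Subgroup.eq_of_le_of_card_ge (Subgroup.zpowers_le.2 (hsub y hy)) ?_
        rw [hcy, Nat.card_zpowers]
        refine orderOf_le_of_pow_eq_one (by norm_num) ?_
        rw [← zpow_natCast, ← zpow_mul, ← orderOf_dvd_iff_zpow_eq_one, hao]
        push_cast
        rw [← pow_succ, Nat.sub_add_cancel (by omega)]
      exact heq ▸ hsub x hx
    rcases cyclic_or_quaternion D.pg hu with hc | ⟨-, k, hk⟩
    · exfalso
      obtain ⟨x, y, hxy⟩ := hna
      haveI := hc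
      exact hxy ((IsCyclic.commGroup (α := G)).mul_comm x y)
    · exact ⟨_, hk⟩
  · exfalso
    obtain ⟨g, -, hg⟩ := SetLike.exists_of_lt (lt_top_iff_ne_top.2 hne)
    refine hg (h hN3 g ?_)
    obtain ⟨r, hr⟩ : ∃ r, n - 1 = r + 1 := ⟨n - 2, by omega⟩
    have hba : Commute b (a ^ (2 : ℤ)) := by
      refine mul_inv_eq_iff_eq_mul.1 ?_
      rw [← conj_zpow, hconj, ← zpow_natCast, ← zpow_mul, ← mul_inv_eq_one, ← zpow_sub, ← orderOf_dvd_iff_zpow_eq_one,
        hao]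
      push_cast
      exact ⟨1, by rw [show n = r + 2 by omega, show r + 2 - 1 = r + 1 by omega]; ring⟩
    have hza : ∀ v : G, Commute v (a ^ (2 : ℤ)) := by
      intro v
      obtain ⟨i, rfl | rfl⟩ := hform v
      · exact (Commute.refl a).zpow_zpow i 2
      · exact ((Commute.refl a).zpow_zpow i 2).mul_left hba
    obtain ⟨i, hi | hi⟩ := hform u
    · rw [hi, ← zpow_natCast, ← zpow_mul, mul_comm, zpow_mul]
      exact (hza g).zpow_right i
    · have e : (a ^ i * b) ^ 2 = (a ^ (2 : ℤ)) ^ (i * (1 + 2 ^ r)) := by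
        calc (a ^ i * b) ^ 2 = a ^ i * (b * a ^ i * b⁻¹) * b ^ 2 := by rw [pow_two, pow_two]; group
          _ = (a ^ (2 : ℤ)) ^ (i * (1 + 2 ^ r)) := by
            rw [← conj_zpow, hconj, hb2, mul_one, ← zpow_natCast, ← zpow_mul, ← zpow_add, ← zpow_mul, hr]
            congr 1; push_cast; ring
      rw [hi, e]
      exact (hza g).zpow_right _
  · right; right
    refine ⟨n, hN3, hcard, a, b, hao, orderOf_eq_prime hb2 (fun e => hb (e ▸ one_mem _)), hconj⟩

end Cfsg.Agent.Solv.CyclicSelf
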