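import Cfsg.Agent.Lib.Solv.LCS
import Cfsg.Agent.Lib.Solv.PGroupPhi
import Cfsg.Agent.Lib.Perm.Huppert

/-!
`p`-groups of maximal class, in particular for `p = 2`.
-/

set_option autoImplicit false
set_option linter.style.haveILetI false

open scoped commutatorElement

namespace Cfsg.Agent.Solv

universe u

variable {G : Type u} [Group G] [Finite G] {p : ℕ} [hp : Fact p.Prime]

theorem commutator_index_ge_sq (hG : IsPGroup p G) {n : ℕ} (hn : Nat.card G = p ^ n) (h2 : 2 ≤ n) :
    p ^ 2 ≤ (commutator G).index := by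
  by_contra hlt
  obtain ⟨k, hk⟩ := hG.index (commutator G)
  rw [hk] at hlt
  have hk1 : k ≤ 1 := by
    by_contra h
    exact hlt (Nat.pow_le_pow_right hp.out.pos (by omega))
  obtain ⟨x, hx⟩ : ∃ x : G, Subgroup.zpowers x ⊔ commutator G = ⊤ := by
    haveI : IsCyclic (G ⧸ commutator G) := by
      rcases (show k = 0 ∨ k = 1 by omega) with rfl | rfl
      · haveI : Subsingleton (G ⧸ commutator G) :=
          (Nat.card_eq_one_iff_unique.1 (by rw [← Subgroup.index_eq_card, hk, pow_zero])).1
        infer_instance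
      · exact isCyclic_of_prime_card (p := p) (by rw [← Subgroup.index_eq_card, hk, pow_one])
    obtain ⟨g, hg⟩ := IsCyclic.exists_generator (α := G ⧸ commutator G)
    obtain ⟨x, rfl⟩ := QuotientGroup.mk'_surjective (commutator G) g
    refine ⟨x, eq_top_iff.2 fun y _ => ?_⟩
    obtain ⟨j, hj⟩ := hg y
    have hj' : ((x ^ j : G) : G ⧸ commutator G) = y := hj
    rw [QuotientGroup.eq] at hj'
    rw [show y = x ^ j * ((x ^ j)⁻¹ * y) by group]
    exact mul_mem (Subgroup.mem_sup_left (zpow_mem (Subgroup.mem_zpowers x) j)) (Subgroup.mem_sup_right hj')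
  have htop : Subgroup.zpowers x = ⊤ := frattini_nongenerating (eq_top_iff.2 (hx.symm.trans_le
    (sup_le_sup_left (commutator_le_frattini_pgroup hG) _)))
  have hbot : commutator G = ⊥ := by
    rw [commutator_eq_bot_iff_center_eq_top, eq_top_iff, ← htop, Subgroup.zpowers_le]
    refine Subgroup.mem_center_iff.2 fun g => ?_
    obtain ⟨j, rfl⟩ := Subgroup.mem_zpowers_iff.1 (htop.ge (Subgroup.mem_top g))
    exact ((Commute.refl x).zpow_left j).eq
  rw [hbot, Subgroup.index_bot, hn] at hk
  have := Nat.pow_right_injective hp.out.two_le hk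
  omega

theorem lcs_card_le (hG : IsPGroup p G) {n : ℕ} (hn : Nat.card G = p ^ n) (h2 : 2 ≤ n) :
    ∀ i : ℕ, 1 ≤ i → (⊤ : Subgroup G).lowerCentralSeries i = ⊥ ∨
      Nat.card ((⊤ : Subgroup G).lowerCentralSeries i) * p ^ (i + 1) ≤ p ^ n := by
  intro i hi
  induction i, hi using Nat.le_induction with
  | base =>
    right
    rw [Subgroup.lowerCentralSeries_succ, Subgroup.lowerCentralSeries_zero, ← commutator_def, ← hn,
      ← (commutator G).card_mul_index]
    exact Nat.mul_le_mul_left _ (commutator_index_ge_sq hG hn h2)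
  | succ i _ ih =>
    haveI := hG.isNilpotent
    by_cases hb : (⊤ : Subgroup G).lowerCentralSeries i = ⊥
    · left
      rw [Subgroup.lowerCentralSeries_succ, hb, Subgroup.commutator_bot_left]
    · right
      haveI := lowerCentralSeries_normal' (⊤ : Subgroup G) i
      have hlt := commutator_top_lt _ hb
      rw [← Subgroup.lowerCentralSeries_succ] at hlt
      have h1 := ih.resolve_left hb
      obtain ⟨a, ha⟩ := (hG.to_subgroup ((⊤ : Subgroup G).lowerCentralSeries (i + 1))).exists_card_eq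
      obtain ⟨b, hb'⟩ := (hG.to_subgroup ((⊤ : Subgroup G).lowerCentralSeries i)).exists_card_eq
      have hab : a < b := by
        by_contra h
        refine hlt.ne (Subgroup.eq_of_le_of_card_ge hlt.le ?_)
        rw [ha, hb']; exact Nat.pow_le_pow_right hp.out.pos (not_lt.1 h)
      rw [hb', ← pow_add, Nat.pow_le_pow_iff_right hp.out.one_lt] at h1
      rw [ha, ← pow_add]
      exact Nat.pow_le_pow_right hp.out.pos (by omega)

theorem lcs_eq_bot (hG : IsPGroup p G) {n : ℕ} (hn : Nat.card G = p ^ n) (h2 : 2 ≤ n) :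
    (⊤ : Subgroup G).lowerCentralSeries (n - 1) = ⊥ := by
  refine (lcs_card_le hG hn h2 (n - 1) (by omega)).elim id fun h => ?_
  rw [show n - 1 + 1 = n by omega] at h
  exact Subgroup.card_eq_one.1 (le_antisymm
    (Nat.le_of_mul_le_mul_right (by rwa [one_mul]) (pow_pos hp.out.pos n)) Nat.card_pos)

theorem lcs_pred_ne_bot_of_quotient (Z : Subgroup G) [Z.Normal] {j : ℕ}
    (h : (⊤ : Subgroup (G ⧸ Z)).lowerCentralSeries j ≠ ⊥) (hZ : Subgroup.center G ≤ Z) :
    (⊤ : Subgroup G).lowerCentralSeries (j + 1) ≠ ⊥ := by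
  intro hbot
  refine h ?_
  rw [← Subgroup.map_top_of_surjective (QuotientGroup.mk' Z) (QuotientGroup.mk'_surjective Z),
    ← Subgroup.map_lowerCentralSeries, eq_bot_iff]
  rintro _ ⟨x, hx, rfl⟩
  refine (QuotientGroup.eq_one_iff x).2 (hZ (Subgroup.mem_center_iff.2 fun g => ?_))
  have h1 : ⁅x, g⁆ ∈ (⊤ : Subgroup G).lowerCentralSeries (j + 1) := by
    rw [Subgroup.lowerCentralSeries_succ]
    exact Subgroup.commutator_mem_commutator hx (Subgroup.mem_top g)
  rw [hbot, Subgroup.mem_bot, commutatorElement_eq_one_iff_mul_comm] at h1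
  exact h1.symm

theorem lcs_ne_bot_of_small_centralizer : ∀ (n : ℕ) {G : Type u} [Group G] [Finite G],
    Nat.card G = p ^ (n + 2) → (∃ t : G, Nat.card (Subgroup.centralizer ({t} : Set G)) ≤ p ^ 2) →
      (⊤ : Subgroup G).lowerCentralSeries n ≠ ⊥ := by
  intro n
  induction n with
  | zero =>
    intro G _ _ hn _ h
    rw [Subgroup.lowerCentralSeries_zero] at h
    have h1 := Subgroup.card_top (G := G)
    rw [h, Subgroup.card_bot, hn] at h1
    exact absurd h1.symm (Nat.one_lt_pow (by omega) hp.out.one_lt).ne'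
  | succ n ih =>
    intro G _ _ hn ⟨t, ht⟩
    have hG : IsPGroup p G := IsPGroup.of_card hn
    have htZ : t ∉ Subgroup.center G := fun h => by
      have h1 : Subgroup.centralizer ({t} : Set G) = ⊤ :=
        eq_top_iff.2 fun g _ => Subgroup.mem_centralizer_singleton_iff.2 (Subgroup.mem_center_iff.1 h g)
      rw [h1, Subgroup.card_top, hn, Nat.pow_le_pow_iff_right hp.out.one_lt] at ht
      omega
    have hlt : Subgroup.center G < Subgroup.centralizer ({t} : Set G) := by
      refine lt_of_le_of_ne (Subgroup.center_le_centralizer _) fun h => htZ ?_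
      rw [h]
      exact Subgroup.mem_centralizer_singleton_iff.2 rfl
    haveI : Nontrivial G := by
      rw [← Finite.one_lt_card_iff_nontrivial, hn]
      exact Nat.one_lt_pow (by omega) hp.out.one_lt
    obtain ⟨a, ha⟩ := (hG.to_subgroup (Subgroup.center G)).exists_card_eq
    have ha1 : a = 1 := by
      haveI := hG.center_nontrivial
      have h1 : 1 < Nat.card (Subgroup.center G) := Finite.one_lt_card
      obtain ⟨c, hc⟩ := (hG.to_subgroup (Subgroup.centralizer ({t} : Set G))).exists_card_eq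
      have h2 : a < c := by
        by_contra h
        exact hlt.ne (Subgroup.eq_of_le_of_card_ge hlt.le (by
          rw [ha, hc]; exact Nat.pow_le_pow_right hp.out.pos (not_lt.1 h)))
      rw [hc, Nat.pow_le_pow_iff_right hp.out.one_lt] at ht
      rcases Nat.eq_zero_or_pos a with rfl | h3
      · rw [ha, pow_zero] at h1; omega
      · omega
    subst ha1
    have hq : Nat.card (G ⧸ Subgroup.center G) = p ^ (n + 2) := by
      have h1 := Subgroup.card_eq_card_quotient_mul_card_subgroup (Subgroup.center G)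
      rw [hn, ha, pow_succ, pow_one] at h1
      exact (Nat.eq_of_mul_eq_mul_right hp.out.pos h1).symm
    refine lcs_pred_ne_bot_of_quotient _ (ih hq ⟨(t : G ⧸ Subgroup.center G), ?_⟩) le_rfl
    -- the centralizer of the image has order at most `p ^ 2`
    obtain ⟨π, hπ⟩ : ∃ π, π = QuotientGroup.mk' (Subgroup.center G) := ⟨_, rfl⟩
    obtain ⟨D, hD⟩ : ∃ D, D = (Subgroup.centralizer ({(t : G ⧸ Subgroup.center G)} : Set _)).comap π :=
      ⟨_, rfl⟩
    have hmem : ∀ g : D, ⁅(g : G), t⁆ ∈ Subgroup.center G := fun g => by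
      have hg : π g * π t = π t * π g := by
        have hg := Subgroup.mem_centralizer_singleton_iff.1 (Subgroup.mem_comap.1 ((le_of_eq hD) g.2))
        rw [hπ] at hg ⊢; exact hg
      rw [← QuotientGroup.eq_one_iff]
      show QuotientGroup.mk' (Subgroup.center G) ⁅(g : G), t⁆ = 1
      rw [← hπ, map_commutatorElement, commutatorElement_eq_one_iff_mul_comm]
      exact hg
    let f : D →* Subgroup.center G := MonoidHom.mk' (fun g => ⟨⁅(g : G), t⁆, hmem g⟩) fun g h => by
      refine Subtype.ext ?_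
      show ⁅((g * h : D) : G), t⁆ = ⁅(g : G), t⁆ * ⁅(h : G), t⁆
      have hc := Subgroup.mem_center_iff.1 (hmem h) (g : G)
      rw [Subgroup.coe_mul]
      calc ⁅(g : G) * h, t⁆ = ((g : G) * ⁅(h : G), t⁆) * (g : G)⁻¹ * ⁅(g : G), t⁆ := by
            simp only [commutatorElement_def]; group
        _ = ⁅(h : G), t⁆ * ⁅(g : G), t⁆ := by rw [hc, mul_inv_cancel_right]
        _ = _ := (Subgroup.mem_center_iff.1 (hmem h) _).symm
    have hk : f.ker = (Subgroup.centralizer ({t} : Set G)).subgroupOf D := by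
      ext g
      rw [MonoidHom.mem_ker, Subgroup.mem_subgroupOf, Subgroup.mem_centralizer_singleton_iff]
      exact ⟨fun h => commutatorElement_eq_one_iff_mul_comm.1 (congrArg Subtype.val h),
        fun h => Subtype.ext (commutatorElement_eq_one_iff_mul_comm.2 h)⟩
    have hDle : Nat.card D ≤ p ^ 3 := by
      rw [← f.ker.card_mul_index, Subgroup.index_ker, hk]
      calc _ ≤ p ^ 2 * p := Nat.mul_le_mul ((Nat.card_le_card_of_injective
              (fun g : (Subgroup.centralizer ({t} : Set G)).subgroupOf D =>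
                (⟨((g : D) : G), g.2⟩ : Subgroup.centralizer ({t} : Set G)))
              fun g h e => Subtype.ext (Subtype.ext (congrArg Subtype.val e :))).trans ht)
            ((Subgroup.card_le_card_group f.range).trans (le_of_eq (by rw [ha, pow_one])))
        _ = p ^ 3 := by ring
    have hcard : Nat.card D =
        Nat.card (Subgroup.center G) * Nat.card (Subgroup.centralizer ({(t : G ⧸ Subgroup.center G)} : Set _)) := by
      have h := Subgroup.card_mul_index ((Subgroup.center G).subgroupOf D)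
      have h2 : (Subgroup.center G).relIndex D = Nat.card (D.map π) := by
        have h3 := Subgroup.relIndex_ker D π
        rwa [hπ, QuotientGroup.ker_mk', ← hπ] at h3
      have hle : Subgroup.center G ≤ D := fun z hz => by
        rw [hD, Subgroup.mem_comap, hπ]
        show (z : G ⧸ Subgroup.center G) ∈ _
        rw [(QuotientGroup.eq_one_iff z).2 hz]
        exact one_mem _
      rw [← h, Nat.card_congr (Subgroup.subgroupOfEquivOfLe hle).toEquiv]
      congr 1
      show (Subgroup.center G).relIndex D = _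
      rw [h2, hD, hπ, Subgroup.map_comap_eq_self_of_surjective (QuotientGroup.mk'_surjective _)]
    rw [hcard, ha, pow_one, show p ^ 3 = p * p ^ 2 by ring] at hDle
    exact Nat.le_of_mul_le_mul_left hDle hp.out.pos

/-- A `2`-group of maximal class has a cyclic subgroup of index `2`. -/
theorem exists_cyclic_index_two : ∀ (n : ℕ) {G : Type u} [Group G] [Finite G],
    Nat.card G = 2 ^ (n + 3) → (⊤ : Subgroup G).lowerCentralSeries (n + 1) ≠ ⊥ →
      ∃ x : G, orderOf x = 2 ^ (n + 2) := by
  haveI : Fact (Nat.Prime 2) := ⟨Nat.prime_two⟩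
  intro n
  induction n with
  | zero =>
    intro G _ _ hn hne
    by_contra hcon
    push Not at hcon
    refine hne ?_
    rw [Subgroup.lowerCentralSeries_succ, Subgroup.lowerCentralSeries_zero, Subgroup.commutator_eq_bot_iff_le_centralizer]
    have hsq : ∀ g : G, g * g = 1 := fun g => by
      obtain ⟨k, hk, hk'⟩ := (Nat.dvd_prime_pow Nat.prime_two).1 (hn ▸ orderOf_dvd_natCard g)
      have h2 : k ≤ 1 := by
        rcases (show k ≤ 1 ∨ k = 2 ∨ k = 3 by omega) with h | rfl | rfl
        · exact h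
        · exact absurd hk' (hcon g)
        · exact absurd (show orderOf (g ^ 2) = 2 ^ (0 + 2) by
            rw [orderOf_pow, hk']; norm_num) (hcon _)
      rw [← pow_two]
      exact orderOf_dvd_iff_pow_eq_one.1 (hk' ▸ pow_dvd_pow 2 h2 |>.trans (by norm_num))
    intro a _
    refine Subgroup.mem_centralizer_iff.2 fun b _ => ?_
    calc b * a = (a * a) * (b * a) * (b * b) := by rw [hsq, hsq, one_mul, mul_one]
      _ = a * ((a * b) * (a * b)) * b := by group
      _ = a * b := by rw [hsq, mul_one]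
  | succ n ih =>
    intro G _ _ hn hne
    have hG : IsPGroup 2 G := IsPGroup.of_card hn
    haveI : Nontrivial G := by
      rw [← Finite.one_lt_card_iff_nontrivial, hn]
      exact Nat.one_lt_pow (by omega) (by norm_num)
    haveI := hG.center_nontrivial
    obtain ⟨a, ha⟩ := (hG.to_subgroup (Subgroup.center G)).exists_card_eq
    obtain ⟨b, hb⟩ := hG.index (Subgroup.center G)
    have hab : a + b = n + 4 := by
      have h := (Subgroup.center G).card_mul_index
      rw [ha, hb, hn, ← pow_add] at h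
      exact Nat.pow_right_injective (le_refl 2) h
    have ha0 : 1 ≤ a := by
      by_contra h
      have h1 : 1 < Nat.card (Subgroup.center G) := Finite.one_lt_card
      rw [ha, show a = 0 by omega, pow_zero] at h1
      omega
    have hqne : (⊤ : Subgroup (G ⧸ Subgroup.center G)).lowerCentralSeries (n + 1) ≠ ⊥ := fun h => hne (by
      rw [Subgroup.lowerCentralSeries_succ, eq_bot_iff, Subgroup.commutator_le]
      intro x hx g _
      have hx' : QuotientGroup.mk' (Subgroup.center G) x ∈
          (⊤ : Subgroup (G ⧸ Subgroup.center G)).lowerCentralSeries (n + 1) := by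
        rw [← Subgroup.map_top_of_surjective _ (QuotientGroup.mk'_surjective (Subgroup.center G)),
          ← Subgroup.map_lowerCentralSeries]
        exact ⟨x, hx, rfl⟩
      rw [h, Subgroup.mem_bot] at hx'
      rw [Subgroup.mem_bot, commutatorElement_eq_one_iff_mul_comm]
      exact (Subgroup.mem_center_iff.1 ((QuotientGroup.eq_one_iff x).1 hx') g).symm)
    have hqc : Nat.card (G ⧸ Subgroup.center G) = 2 ^ b := by rw [← Subgroup.index_eq_card, hb]
    have hb3 : b = n + 3 := by
      by_contra hne'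
      refine hqne ?_
      rcases Nat.lt_or_ge b 2 with h | h
      · rcases (show b = 0 ∨ b = 1 by omega) with rfl | rfl
        · haveI : Subsingleton (G ⧸ Subgroup.center G) := (Nat.card_eq_one_iff_unique.1 (by simpa using hqc)).1
          exact Subsingleton.elim _ _
        · haveI : IsCyclic (G ⧸ Subgroup.center G) := isCyclic_of_prime_card (p := 2) (by simpa using hqc)
          letI : CommGroup (G ⧸ Subgroup.center G) := IsCyclic.commGroup
          refine eq_bot_iff.2 (((⊤ : Subgroup (G ⧸ Subgroup.center G)).lowerCentralSeries_antitone (show 1 ≤ n + 1 by omega)).trans ?_)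
          rw [Subgroup.lowerCentralSeries_succ, Subgroup.commutator_le]
          intro x _ y _
          rw [Subgroup.mem_bot, commutatorElement_eq_one_iff_mul_comm]
          exact mul_comm x y
      · exact eq_bot_iff.2 (((⊤ : Subgroup (G ⧸ Subgroup.center G)).lowerCentralSeries_antitone (show b - 1 ≤ n + 1 by omega)).trans
          (lcs_eq_bot (IsPGroup.of_card hqc) hqc h).le)
    obtain ⟨xb, hxb⟩ := ih (by rw [hqc, hb3]) hqne
    obtain ⟨x, rfl⟩ := QuotientGroup.mk'_surjective (Subgroup.center G) xb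
    obtain ⟨k, hk⟩ := (IsPGroup.iff_orderOf.1 hG) x
    have h1 : n + 2 ≤ k := by
      have := hxb ▸ orderOf_map_dvd (QuotientGroup.mk' (Subgroup.center G)) x
      rw [hk] at this
      exact (Nat.pow_dvd_pow_iff_le_right (by norm_num)).1 this
    rcases h1.lt_or_eq with h1 | h1
    · refine ⟨x ^ 2 ^ (k - (n + 1 + 2)), ?_⟩
      rw [orderOf_pow, hk, Nat.gcd_eq_right (pow_dvd_pow 2 (by omega)), Nat.pow_div (by omega) (by norm_num)]
      congr 1
      omega
    -- now `x ^ 2` generates a normal subgroup meeting the centre trivially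
    exfalso
    subst h1
    obtain ⟨X, hX⟩ : ∃ X, X = (Subgroup.zpowers (QuotientGroup.mk' (Subgroup.center G) x)).comap
        (QuotientGroup.mk' (Subgroup.center G)) := ⟨_, rfl⟩
    have hidx : (Subgroup.zpowers (QuotientGroup.mk' (Subgroup.center G) x)).index = 2 := by
      have h := (Subgroup.zpowers (QuotientGroup.mk' (Subgroup.center G) x)).card_mul_index
      rw [Nat.card_zpowers, hxb, hqc, hb3, pow_succ 2 (n + 2)] at h
      exact Nat.eq_of_mul_eq_mul_left (pow_pos two_pos _) h
    haveI := Subgroup.normal_of_index_eq_two hidx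
    haveI : X.Normal := hX ▸ Subgroup.Normal.comap inferInstance _
    have hz2 : ∀ z ∈ Subgroup.center G, z ^ 2 = 1 := fun z hz => by
      refine orderOf_dvd_iff_pow_eq_one.1 ?_
      have h1 := (Subgroup.orderOf_mk z hz).symm ▸ orderOf_dvd_natCard (⟨z, hz⟩ : Subgroup.center G)
      rw [ha, show a = 1 by omega, pow_one] at h1
      exact h1
    have hXsq : ∀ y ∈ X, y ^ 2 ∈ Subgroup.zpowers (x ^ 2) := by
      intro y hy
      rw [hX, Subgroup.mem_comap] at hy
      obtain ⟨j, hj⟩ := Subgroup.mem_zpowers_iff.1 hy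
      rw [← map_zpow] at hj
      have hz : (x ^ j)⁻¹ * y ∈ Subgroup.center G := QuotientGroup.eq.1 hj
      refine ⟨j, ?_⟩
      have hc : Commute (x ^ j) ((x ^ j)⁻¹ * y) := Subgroup.mem_center_iff.1 hz (x ^ j)
      show (x ^ 2) ^ j = y ^ 2
      calc (x ^ 2) ^ j = (x ^ j) ^ 2 * ((x ^ j)⁻¹ * y) ^ 2 := by
            rw [hz2 _ hz, mul_one, ← zpow_natCast x 2, ← zpow_natCast (x ^ j) 2, ← zpow_mul, ← zpow_mul, mul_comm]
        _ = (x ^ j * ((x ^ j)⁻¹ * y)) ^ 2 := (hc.mul_pow 2).symm
        _ = y ^ 2 := by rw [mul_inv_cancel_left]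
    haveI : (Subgroup.zpowers (x ^ 2)).Normal := by
      refine ⟨fun w hw g => ?_⟩
      obtain ⟨j, rfl⟩ := Subgroup.mem_zpowers_iff.1 hw
      have hxX : g * x * g⁻¹ ∈ X := Subgroup.Normal.conj_mem inferInstance x
        (hX ▸ Subgroup.mem_zpowers (QuotientGroup.mk' (Subgroup.center G) x)) g
      rw [← conj_zpow, ← conj_pow]
      exact Subgroup.zpow_mem _ (hXsq _ hxX) j
    have hsq : orderOf (x ^ 2) = 2 ^ (n + 1) := by
      rw [orderOf_pow, hk, Nat.gcd_eq_right (dvd_pow_self 2 (by omega)), pow_succ 2 (n + 1),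
        Nat.mul_div_cancel _ two_pos]
    have hne1 : Subgroup.zpowers (x ^ 2) ≠ ⊥ := by
      rw [Ne, Subgroup.zpowers_eq_bot, ← orderOf_eq_one_iff, hsq]
      exact (Nat.one_lt_pow (by omega) (by norm_num)).ne'
    haveI := hG.isNilpotent
    haveI := (Subgroup.nontrivial_iff_ne_bot _).2 hne1
    obtain ⟨w, hwX, hwZ, hw1⟩ := Perm.exists_ne_one_center hG (Subgroup.zpowers (x ^ 2))
    obtain ⟨j, rfl⟩ := Subgroup.mem_zpowers_iff.1 hwX
    refine hw1 ?_
    -- the image of `x` has the same order as `x`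
    have hq1 : QuotientGroup.mk' (Subgroup.center G) ((x ^ 2) ^ j) = 1 := (QuotientGroup.eq_one_iff _).2 hwZ
    rw [← zpow_natCast, ← zpow_mul, map_zpow, ← orderOf_dvd_iff_zpow_eq_one, hxb, ← hk,
      orderOf_dvd_iff_zpow_eq_one, zpow_mul, zpow_natCast] at hq1
    exact hq1

/-- In a `2`-group of maximal class the centralizer of an element outside the cyclic subgroup of index
`2` meets it in elements of order at most `2`. -/
theorem sq_eq_one_of_commute {n : ℕ} (hn : Nat.card G = 2 ^ (n + 3))
    (hne : (⊤ : Subgroup G).lowerCentralSeries (n + 1) ≠ ⊥) {x g : G} (hx : orderOf x = 2 ^ (n + 2))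
    (hg : g ∉ Subgroup.zpowers x) (j : ℤ) (hj : Commute g (x ^ j)) : (x ^ j) ^ 2 = 1 := by
  haveI : Fact (Nat.Prime 2) := ⟨Nat.prime_two⟩
  have hG : IsPGroup 2 G := IsPGroup.of_card hn
  have hidx : (Subgroup.zpowers x).index = 2 := by
    have h := (Subgroup.zpowers x).card_mul_index
    rw [Nat.card_zpowers, hx, hn, pow_succ 2 (n + 2)] at h
    exact Nat.eq_of_mul_eq_mul_left (pow_pos two_pos _) h
  haveI := Subgroup.normal_of_index_eq_two hidx
  let f : Subgroup.zpowers x →* G := MonoidHom.mk' (fun y => ⁅g, (y : G)⁆) fun y z => by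
    have hc : ⁅g, (z : G)⁆ ∈ Subgroup.zpowers x := by
      rw [commutatorElement_def, mul_assoc, mul_assoc, ← mul_assoc (z : G) g⁻¹,
        ← mul_assoc g, ← mul_assoc g]
      exact mul_mem (Subgroup.Normal.conj_mem inferInstance _ z.2 g) (inv_mem z.2)
    have hcy : Commute (y : G) ⁅g, (z : G)⁆ := congrArg Subtype.val
      (IsMulCommutative.is_comm.comm y (⟨_, hc⟩ : Subgroup.zpowers x))
    show ⁅g, ((y * z : Subgroup.zpowers x) : G)⁆ = ⁅g, (y : G)⁆ * ⁅g, (z : G)⁆
    calc ⁅g, ((y * z : Subgroup.zpowers x) : G)⁆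
        = ⁅g, (y : G)⁆ * ((y : G) * ⁅g, (z : G)⁆ * (y : G)⁻¹) := by
          rw [Subgroup.coe_mul, commutatorElement_def, commutatorElement_def, commutatorElement_def]; group
      _ = _ := by rw [hcy.eq, mul_inv_cancel_right]
  obtain ⟨N, hN⟩ : ∃ N, N = f.range := ⟨_, rfl⟩
  have hx0 : x ∈ Subgroup.zpowers x := Subgroup.mem_zpowers x
  have hNeq : N = Subgroup.zpowers ⁅g, x⁆ := by
    rw [hN]
    refine le_antisymm ?_ (Subgroup.zpowers_le.2 ⟨⟨x, hx0⟩, rfl⟩)
    rintro _ ⟨⟨y, hy⟩, rfl⟩
    obtain ⟨i, rfl⟩ := Subgroup.mem_zpowers_iff.1 hy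
    refine ⟨i, ?_⟩
    have h1 := map_zpow f ⟨x, hx0⟩ i
    exact h1.symm.trans (congrArg f (Subtype.ext (SubgroupClass.coe_zpow _ i)))
  have hNx : N ≤ Subgroup.zpowers x := by
    rw [hNeq, Subgroup.zpowers_le, commutatorElement_def, show g * x * g⁻¹ * x⁻¹ = (g * x * g⁻¹) * x⁻¹ from rfl]
    exact mul_mem (Subgroup.Normal.conj_mem inferInstance _ hx0 g) (inv_mem hx0)
  have hgen : ∀ h : G, ∃ (i : ℤ) (e : ℕ), h = x ^ i * g ^ e := by
    intro h
    by_cases hh : h ∈ Subgroup.zpowers x
    · obtain ⟨i, rfl⟩ := Subgroup.mem_zpowers_iff.1 hh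
      exact ⟨i, 0, by simp⟩
    · have h1 := Subgroup.mul_mem_iff_of_index_two hidx (a := h) (b := g⁻¹)
      obtain ⟨i, hi⟩ := Subgroup.mem_zpowers_iff.1 (h1.2 (iff_of_false hh (fun h' => hg (inv_mem_iff.1 h'))))
      exact ⟨i, 1, by rw [hi, pow_one, inv_mul_cancel_right]⟩
  haveI hNn : N.Normal := by
    refine ⟨fun y hy h => ?_⟩
    obtain ⟨i, e, rfl⟩ := hgen h
    have hcx : ∀ z ∈ N, x ^ i * z * (x ^ i)⁻¹ = z := fun z hz => by
      obtain ⟨l, rfl⟩ := Subgroup.mem_zpowers_iff.1 (hNx hz)
      rw [((Commute.refl x).zpow_zpow i l).eq, mul_inv_cancel_right]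
    have hcg : ∀ m : ℕ, g ^ m * y * (g ^ m)⁻¹ ∈ N := by
      intro m
      induction m with
      | zero => simpa using hy
      | succ m ih =>
        have h1 : ⁅g, g ^ m * y * (g ^ m)⁻¹⁆ ∈ N := by
          rw [hN]; exact ⟨⟨_, hNx ih⟩, rfl⟩
        have e : g ^ (m + 1) * y * (g ^ (m + 1))⁻¹ = ⁅g, g ^ m * y * (g ^ m)⁻¹⁆ * (g ^ m * y * (g ^ m)⁻¹) := by
          rw [commutatorElement_def, pow_succ']; group
        rw [e]
        exact mul_mem h1 ih
    rw [show x ^ i * g ^ e * y * (x ^ i * g ^ e)⁻¹ = x ^ i * (g ^ e * y * (g ^ e)⁻¹) * (x ^ i)⁻¹ by group,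
      hcx _ (hcg e)]
    exact hcg e
  obtain ⟨π, hπ⟩ : ∃ π, π = QuotientGroup.mk' N := ⟨_, rfl⟩
  have hcomm : ⁅(⊤ : Subgroup G), ⊤⁆ ≤ N := by
    rw [← QuotientGroup.ker_mk' N, ← Subgroup.map_eq_bot_iff, Subgroup.map_commutator,
      Subgroup.map_top_of_surjective _ (QuotientGroup.mk'_surjective N),
      Subgroup.commutator_eq_bot_iff_le_centralizer]
    have hxg : Commute (π g) (π x) := by
      show π g * π x = π x * π g
      rw [← commutatorElement_eq_one_iff_mul_comm, ← map_commutatorElement, hπ, QuotientGroup.mk'_apply,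
        QuotientGroup.eq_one_iff, hN]
      exact ⟨⟨x, hx0⟩, rfl⟩
    intro a _
    refine Subgroup.mem_centralizer_iff.2 fun b _ => ?_
    obtain ⟨a, rfl⟩ := QuotientGroup.mk'_surjective N a
    obtain ⟨b, rfl⟩ := QuotientGroup.mk'_surjective N b
    obtain ⟨i, e, rfl⟩ := hgen a
    obtain ⟨i', e', rfl⟩ := hgen b
    rw [← hπ, map_mul π, map_mul π, map_zpow, map_zpow, map_pow, map_pow]
    exact (((Commute.refl (π x)).zpow_zpow i' i).mul_right ((hxg.symm.zpow_left i').pow_right e)).mul_left
      (((hxg.zpow_right i).pow_left e').mul_right ((Commute.refl (π g)).pow_pow e' e))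
  have hNcard : 2 ^ (n + 1) ≤ Nat.card N := by
    have key : ∀ d : ℕ, d ≤ n → 2 ^ (d + 1) ≤ Nat.card ((⊤ : Subgroup G).lowerCentralSeries (n + 1 - d)) := by
      intro d hd
      haveI := hG.isNilpotent
      induction d with
      | zero =>
        rw [Nat.sub_zero, zero_add, pow_one]
        exact Subgroup.one_lt_card_iff_ne_bot _ |>.2 hne
      | succ d ihd =>
        have h1 := ihd (by omega)
        obtain ⟨i, hi⟩ : ∃ i, n + 1 - (d + 1) = i := ⟨_, rfl⟩
        rw [show n + 1 - d = i + 1 by omega] at h1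
        rw [hi]
        haveI := lowerCentralSeries_normal' (⊤ : Subgroup G) i
        have hb : (⊤ : Subgroup G).lowerCentralSeries i ≠ ⊥ := fun hb => by
          rw [Subgroup.lowerCentralSeries_succ, hb, Subgroup.commutator_bot_left, Subgroup.card_bot] at h1
          exact absurd h1 (not_le.2 (Nat.one_lt_pow (by omega) (by norm_num)))
        have hlt := commutator_top_lt _ hb
        rw [← Subgroup.lowerCentralSeries_succ] at hlt
        obtain ⟨a, ha⟩ := (hG.to_subgroup ((⊤ : Subgroup G).lowerCentralSeries (i + 1))).exists_card_eq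
        obtain ⟨b, hb'⟩ := (hG.to_subgroup ((⊤ : Subgroup G).lowerCentralSeries i)).exists_card_eq
        have hab : a < b := by
          by_contra h
          refine hlt.ne (Subgroup.eq_of_le_of_card_ge hlt.le ?_)
          rw [ha, hb']; exact Nat.pow_le_pow_right two_pos (not_lt.1 h)
        rw [ha, Nat.pow_le_pow_iff_right (by norm_num)] at h1
        rw [hb']
        exact Nat.pow_le_pow_right two_pos (by omega)
    have h := key n le_rfl
    rw [show n + 1 - n = 1 by omega, Subgroup.lowerCentralSeries_succ, Subgroup.lowerCentralSeries_zero] at h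
    exact h.trans (Subgroup.card_le_of_le hcomm)
  rw [hNeq, Nat.card_zpowers] at hNcard
  have hxj : ⁅g, x⁆ ^ j = 1 := by
    refine (map_zpow f ⟨x, hx0⟩ j).symm.trans ?_
    show ⁅g, ((⟨x, hx0⟩ ^ j : Subgroup.zpowers x) : G)⁆ = 1
    rw [SubgroupClass.coe_zpow, commutatorElement_eq_one_iff_mul_comm]
    exact hj.eq
  rw [← zpow_natCast, ← zpow_mul, ← orderOf_dvd_iff_zpow_eq_one, hx]
  rw [← orderOf_dvd_iff_zpow_eq_one] at hxj
  have hdvd : orderOf ⁅g, x⁆ ∣ 2 ^ (n + 3) := hn ▸ orderOf_dvd_natCard _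
  obtain ⟨k, -, hk⟩ := (Nat.dvd_prime_pow Nat.prime_two).1 hdvd
  rw [hk, Nat.pow_le_pow_iff_right (by norm_num)] at hNcard
  rw [hk] at hxj
  push_cast
  rw [pow_succ _ (n + 1)]
  refine mul_dvd_mul_right ((pow_dvd_pow 2 hNcard).trans ?_) 2
  exact_mod_cast hxj

end Cfsg.Agent.Solv
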