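import Cfsg.Agent.Lib.Solv.Cores
import Cfsg.Agent.Lib.Solv.Hall
import Cfsg.Agent.Lib.Char.Burnside

/-!
Solvability from prime-power class sizes: abelian subgroups of prime power index, groups whose
`p`-regular classes have `p`-power size.
-/

set_option autoImplicit false

open scoped Pointwise

namespace Cfsg.Agent.Solv

universe u

variable {G : Type u} [Group G]

theorem class_ncard (x : G) [Finite G] :
    (ConjClasses.mk x).carrier.ncard = (Subgroup.centralizer ({x} : Set G)).index := by
  rw [← Cfsg.Agent.Char.card_conjClass_eq_index, ← Nat.card_coe_set_eq]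
  exact Nat.card_congr (Equiv.subtypeEquivRight fun y => by
    rw [ConjClasses.mem_carrier_iff_mk_eq, ConjClasses.mk_eq_mk_iff_isConj, isConj_comm])

theorem relIndex_dvd_index_normal [Finite G] (C N : Subgroup G) [N.Normal] :
    C.relIndex N ∣ C.index := by
  have h1 : C.relIndex N * Nat.card (N ⊓ C : Subgroup G) = Nat.card N := by
    have := Subgroup.relIndex_mul_relIndex (⊥ : Subgroup G) (N ⊓ C) N bot_le inf_le_left
    rw [Subgroup.relIndex_bot_left, Subgroup.relIndex_bot_left, Subgroup.inf_relIndex_left] at this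
    rw [mul_comm, this]
  have h2 := card_sup_mul_card_inf N C
  rw [← h1] at h2
  have h3 : Nat.card (N ⊔ C : Subgroup G) = C.relIndex N * Nat.card C := by
    refine Nat.eq_of_mul_eq_mul_right (Nat.card_pos (α := (N ⊓ C : Subgroup G))) ?_
    rw [h2]; ring
  have h4 := (N ⊔ C).card_subgroup_dvd_card
  rw [h3, ← C.card_mul_index, mul_comm] at h4
  exact Nat.dvd_of_mul_dvd_mul_left Nat.card_pos h4

theorem isSolvable_of_normal_quotient (N : Subgroup G) [N.Normal]
    (h1 : Group.IsSolvable N) (h2 : Group.IsSolvable (G ⧸ N)) : Group.IsSolvable G :=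
  Group.isSolvable_of_ker_le_range N.subtype (QuotientGroup.mk' N)
    (by simp [QuotientGroup.ker_mk'])

theorem isSolvable_of_prime_card {G : Type*} [Group G] (h : (Nat.card G).Prime) :
    Group.IsSolvable G := by
  have := Fact.mk h
  have : IsCyclic G := isCyclic_of_prime_card rfl
  exact isSolvable_of_comm fun a b => mul_comm' a b

theorem isSolvable_of_isPGroup {G : Type*} [Group G] [Finite G] {p : ℕ} [Fact p.Prime]
    (h : IsPGroup p G) : Group.IsSolvable G :=
  have := h.isNilpotent
  inferInstance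

theorem exists_normal_of_not_simple [Nontrivial G] (hs : ¬ IsSimpleGroup G) :
    ∃ N : Subgroup G, N.Normal ∧ N ≠ ⊥ ∧ N ≠ ⊤ := by
  by_contra hne
  push Not at hne
  exact hs ⟨fun H hH => or_iff_not_imp_left.mpr (hne H hH)⟩

/-- A group with an abelian subgroup of prime power index is solvable. -/
theorem isSolvable_of_abelian_pow_index {p : ℕ} (hp : p.Prime) :
    ∀ (n : ℕ) (G : Type u) [Group G] [Finite G], Nat.card G = n → ∀ (A : Subgroup G),
      IsMulCommutative A → (∃ k : ℕ, A.index = p ^ k) → Group.IsSolvable G := by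
  intro n
  induction n using Nat.strong_induction_on with
  | _ n ih =>
    intro G _ _ hn A hA hidx
    obtain ⟨k, hk⟩ := hidx
    have := Fact.mk hp
    rcases subsingleton_or_nontrivial G with h | h
    · infer_instance
    by_cases hs : IsSimpleGroup G
    · by_cases hAb : A = ⊥
      · subst hAb
        rw [Subgroup.index_bot] at hk
        exact isSolvable_of_isPGroup (IsPGroup.of_card hk)
      · obtain ⟨a, ha, ha1⟩ := (Subgroup.ne_bot_iff_exists_ne_one.1 hAb)
          |> fun ⟨a, ha⟩ => (⟨(a : G), a.2, fun e => ha (Subtype.ext e)⟩ : ∃ a : G, a ∈ A ∧ a ≠ 1)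
        have hle : A ≤ Subgroup.centralizer ({a} : Set G) := fun x hx =>
          Subgroup.mem_centralizer_singleton_iff.2
            (congrArg Subtype.val (hA.is_comm.comm ⟨x, hx⟩ ⟨a, ha⟩))
        obtain ⟨i, -, hi⟩ := (Nat.dvd_prime_pow hp).1 (hk ▸ Subgroup.index_dvd_of_le hle)
        exact isSolvable_of_prime_card (Cfsg.Agent.Char.prime_card_of_prime_power_class hp ha1 hi)
    · obtain ⟨N, hN, hNb, hNt⟩ := exists_normal_of_not_simple hs
      refine isSolvable_of_normal_quotient N
        (ih _ (hn ▸ card_lt_of_ne_top hNt) N rfl (A.subgroupOf N) ?_ ?_)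
        (ih _ (hn ▸ card_quotient_lt N hNb) (G ⧸ N) rfl (A.map (QuotientGroup.mk' N)) ?_ ?_)
      · exact ⟨⟨fun x y => Subtype.ext (Subtype.ext
          (congrArg Subtype.val (hA.is_comm.comm ⟨_, x.2⟩ ⟨_, y.2⟩) :))⟩⟩
      · obtain ⟨i, -, hi⟩ := (Nat.dvd_prime_pow hp).1 (hk ▸ relIndex_dvd_index_normal A N)
        exact ⟨i, hi⟩
      · refine ⟨⟨?_⟩⟩
        rintro ⟨_, x, hx, rfl⟩ ⟨_, y, hy, rfl⟩
        refine Subtype.ext ?_
        show QuotientGroup.mk' N x * QuotientGroup.mk' N y
          = QuotientGroup.mk' N y * QuotientGroup.mk' N x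
        rw [← map_mul, ← map_mul]
        exact congrArg _ (congrArg Subtype.val (hA.is_comm.comm ⟨x, hx⟩ ⟨y, hy⟩))
      · obtain ⟨i, -, hi⟩ := (Nat.dvd_prime_pow hp).1
          (hk ▸ Subgroup.index_map_dvd A (QuotientGroup.mk'_surjective N))
        exact ⟨i, hi⟩

/-- Every `p`-regular element has `p`-power class size. -/
def PClass (p : ℕ) (G : Type u) [Group G] : Prop :=
  ∀ x : G, (orderOf x).Coprime p → ∃ k : ℕ, (Subgroup.centralizer ({x} : Set G)).index = p ^ k

theorem PClass.subgroup [Finite G] {p : ℕ} (hp : p.Prime) (h : PClass p G) (N : Subgroup G)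
    [N.Normal] : PClass p N := by
  intro x hx
  rw [← Subgroup.orderOf_coe] at hx
  obtain ⟨k, hk⟩ := h x hx
  have e : Subgroup.centralizer ({x} : Set N)
      = (Subgroup.centralizer ({(x : G)} : Set G)).subgroupOf N := by
    ext y
    simp [Subgroup.mem_subgroupOf, Subgroup.mem_centralizer_singleton_iff, Subtype.ext_iff]
  obtain ⟨i, -, hi⟩ := (Nat.dvd_prime_pow hp).1
    (hk ▸ relIndex_dvd_index_normal (Subgroup.centralizer ({(x : G)} : Set G)) N)
  exact ⟨i, e ▸ hi⟩

theorem exists_preg_lift [Finite G] {p : ℕ} [Fact p.Prime] (N : Subgroup G) [N.Normal]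
    (q : G ⧸ N) (hq : (orderOf q).Coprime p) :
    ∃ y : G, (orderOf y).Coprime p ∧ QuotientGroup.mk' N y = q := by
  have hp : p.Prime := Fact.out
  obtain ⟨x, rfl⟩ := QuotientGroup.mk'_surjective N q
  set a := (orderOf x).factorization p
  obtain ⟨s, hs⟩ := exists_pow_eq_self_of_coprime
    (x := QuotientGroup.mk' N x) (n := p ^ a) ((hq.symm).pow_left a)
  refine ⟨(x ^ p ^ a) ^ s, ?_, by rw [map_pow, map_pow, hs]⟩
  refine Nat.Coprime.coprime_dvd_left (orderOf_pow_dvd s) ?_
  rw [orderOf_pow_of_dvd (pow_ne_zero _ hp.ne_zero) (Nat.ordProj_dvd _ _)]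
  exact (Nat.coprime_ordCompl hp (orderOf_pos x).ne').symm

theorem PClass.quotient [Finite G] {p : ℕ} [Fact p.Prime] (h : PClass p G) (N : Subgroup G)
    [N.Normal] : PClass p (G ⧸ N) := by
  intro q hq
  obtain ⟨y, hy, rfl⟩ := exists_preg_lift N q hq
  obtain ⟨k, hk⟩ := h y hy
  have hle : (Subgroup.centralizer ({y} : Set G)).map (QuotientGroup.mk' N) ≤
      Subgroup.centralizer ({QuotientGroup.mk' N y} : Set (G ⧸ N)) := by
    rintro _ ⟨c, hc, rfl⟩
    rw [Subgroup.mem_centralizer_singleton_iff, ← map_mul, ← map_mul,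
      Subgroup.mem_centralizer_singleton_iff.1 hc]
  obtain ⟨i, -, hi⟩ := (Nat.dvd_prime_pow (Fact.out : p.Prime)).1 (hk ▸
    (Subgroup.index_dvd_of_le hle).trans
      (Subgroup.index_map_dvd _ (QuotientGroup.mk'_surjective N)))
  exact ⟨i, hi⟩

theorem isSolvable_of_pClass {p : ℕ} (hp : p.Prime) :
    ∀ (n : ℕ) (G : Type u) [Group G] [Finite G], Nat.card G = n → PClass p G →
      Group.IsSolvable G := by
  intro n
  induction n using Nat.strong_induction_on with
  | _ n ih =>
    intro G _ _ hn hP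
    have := Fact.mk hp
    rcases subsingleton_or_nontrivial G with h | h
    · infer_instance
    by_cases hs : IsSimpleGroup G
    · by_cases hx : ∀ x : G, (orderOf x).Coprime p → x = 1
      · refine isSolvable_of_isPGroup (p := p) fun g => ⟨(orderOf g).factorization p, hx _ ?_⟩
        rw [orderOf_pow_of_dvd (pow_ne_zero _ hp.ne_zero) (Nat.ordProj_dvd _ _)]
        exact (Nat.coprime_ordCompl hp (orderOf_pos g).ne').symm
      · push Not at hx
        obtain ⟨x, hxp, hx1⟩ := hx
        obtain ⟨k, hk⟩ := hP x hxp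
        exact isSolvable_of_prime_card (Cfsg.Agent.Char.prime_card_of_prime_power_class hp hx1 hk)
    · obtain ⟨N, hN, hNb, hNt⟩ := exists_normal_of_not_simple hs
      exact isSolvable_of_normal_quotient N
        (ih _ (hn ▸ card_lt_of_ne_top hNt) N rfl (hP.subgroup hp N))
        (ih _ (hn ▸ card_quotient_lt N hNb) (G ⧸ N) rfl (hP.quotient N))

end Cfsg.Agent.Solv
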