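import Cfsg.Agent.Lib.Solv.CoverTIMain
import Cfsg.Agent.S1477
import Cfsg.Agent.S1479
import Cfsg.Agent.S1483
import Cfsg.Agent.S1473
import Cfsg.Agent.Lib.OddLocal.CNKernels
import Cfsg.Agent.Lib.Solv.ClassPow

/-!
# The odd CN theorem of Feit, Hall and Thompson
-/

set_option autoImplicit false
set_option linter.unusedSectionVars false

open Cfsg

namespace Cfsg.Agent.Solv

universe u

variable {G : Type u} [Group G] [Finite G]

/-- There is no minimal simple CN group of odd order. -/
theorem not_minSimpleOdd_cn (hG : Cfsg.IsMinSimpleOddOrder G) (hCN : Cfsg.IsCNGroup G) : False := by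
  classical
  haveI := Fintype.ofFinite G
  have h79 := (S1479.result hG hCN).1
  let A := {H : Subgroup G // OddLocal.CNMin.IsMaxNilpotent H}
  haveI : Finite A := Subtype.finite
  let st : Setoid A :=
    { r := fun H H' => ∃ g : G, H'.1 = H.1.map (MulAut.conj g).toMonoidHom
      iseqv :=
        { refl := fun H => ⟨1, by ext x; simp [Subgroup.mem_map]⟩
          symm := by
            rintro H H' ⟨g, hg⟩
            refine ⟨g⁻¹, ?_⟩
            rw [hg, Subgroup.map_map]
            ext x
            simp [Subgroup.mem_map, mul_assoc]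
          trans := by
            rintro H H' H'' ⟨g, hg⟩ ⟨g', hg'⟩
            refine ⟨g' * g, ?_⟩
            rw [hg', hg, Subgroup.map_map]
            ext x
            simp [Subgroup.mem_map, mul_assoc] } }
  let K : Quotient st → Subgroup G := fun q => q.out.1
  haveI : Fintype (Quotient st) := Fintype.ofFinite _
  have hne : ∀ q, K q ≠ ⊥ := fun q => OddLocal.CNMin.maxNilpotent_ne_bot hG q.out.2
  have hTI : ∀ q, ∀ g : G, g ∉ Subgroup.normalizer (K q : Set G) → ∀ k ∈ K q, g * k * g⁻¹ ∈ K q → k = 1 := by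
    intro q g hg k hk hk'
    by_contra hk1
    obtain ⟨-, hti, -, -⟩ := h79 (K q) q.out.2.1 q.out.2.2
    have hne' : (K q).map (MulAut.conj g).toMonoidHom ≠ K q := fun h => hg (by
      rw [Subgroup.mem_normalizer_iff]
      intro x
      constructor
      · intro hx
        rw [← h]
        exact ⟨x, hx, by simp⟩
      · intro hx
        obtain ⟨y, hy, hyx⟩ : g * x * g⁻¹ ∈ (K q).map (MulAut.conj g).toMonoidHom := by rw [h]; exact hx
        have : y = x := by simpa using hyx
        rwa [this] at hy)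
    have h := (hti g hne').le (Subgroup.mem_inf.2 ⟨hk', k, hk, by simp⟩)
    rw [Subgroup.mem_bot, conj_eq_one_iff] at h
    exact hk1 h
  have hC : ∀ q, ∀ k ∈ K q, k ≠ 1 → Subgroup.centralizer ({k} : Set G) ≤ K q := fun q =>
    (S1477.result hCN (K q) q.out.2.1 q.out.2.2).2.2 (h79 (K q) q.out.2.1 q.out.2.2).2.1
  have hKN : ∀ q, K q < Subgroup.normalizer (K q : Set G) := by
    intro q
    obtain ⟨-, -, -, E, hE, hE1, -⟩ := h79 (K q) q.out.2.1 q.out.2.2
    refine lt_of_le_of_ne Subgroup.le_normalizer fun h => hE1 ?_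
    rw [← inf_eq_right.2 (le_of_le_of_eq hE.2.1 h.symm)]
    exact hE.2.2.1
  have hcop : ∀ q r, q ≠ r → (Nat.card (K q)).Coprime (Nat.card (K r)) := by
    intro q r hqr
    refine ((S1483.result hG hCN).1 (K q) (K r) q.out.2 r.out.2).resolve_left fun h => hqr ?_
    rw [← q.out_eq, ← r.out_eq]
    exact Quotient.sound h
  have hcover : ∀ y : G, y ≠ 1 → ∃ q, ∃ x : G, x * y * x⁻¹ ∈ K q := by
    intro y _
    obtain ⟨H, hle, hH⟩ : ∃ H : Subgroup G, Subgroup.zpowers y ≤ H ∧ OddLocal.CNMin.IsMaxNilpotent H := by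
      obtain ⟨H, h1, h2⟩ := OddLocal.CNMin.exists_maxNilpotent_ge (OddLocal.CNMin.zpowers_nilpotent y)
      first
        | exact ⟨H, h1, h2⟩
        | exact ⟨H, h2, h1⟩
    obtain ⟨g, hg⟩ : ∃ g : G, (Quotient.mk st ⟨H, hH⟩).out.1 = H.map (MulAut.conj g).toMonoidHom :=
      Setoid.symm (Quotient.mk_out (s := st) (⟨H, hH⟩ : A))
    exact ⟨Quotient.mk st ⟨H, hH⟩, g, by
      show _ ∈ (Quotient.mk st ⟨H, hH⟩).out.1
      rw [hg]
      exact ⟨y, hle (Subgroup.mem_zpowers y), by simp⟩⟩
  haveI : Nontrivial (Quotient st) := by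
    by_contra hnt
    rw [not_nontrivial_iff_subsingleton] at hnt
    haveI := hG.2.1.toNontrivial
    obtain ⟨y₀, hy₀⟩ := exists_ne (1 : G)
    obtain ⟨q₀, -⟩ := hcover y₀ hy₀
    have hco := (h79 (K q₀) q₀.out.2.1 q₀.out.2.2).1
    have hidx : (K q₀).index ≠ 1 := fun h => by
      rw [Subgroup.index_eq_one] at h
      exact OddLocal.CNMin.nilpotent_ne_top hG q₀.out.2.1 h
    obtain ⟨r, hr, hrd⟩ := Nat.exists_prime_and_dvd hidx
    haveI := Fact.mk hr
    obtain ⟨z, hz⟩ := exists_prime_orderOf_dvd_card' r (hrd.trans (Subgroup.index_dvd_card _))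
    obtain ⟨q, x, hx⟩ := hcover z fun h => hr.ne_one (by rw [← hz, h, orderOf_one])
    rw [Subsingleton.elim q q₀] at hx
    have hord : r ∣ Nat.card (K q₀) := by
      rw [← hz, (show SemiconjBy x z (x * z * x⁻¹) by simp [SemiconjBy, mul_assoc]).orderOf_eq x,
        ← Subgroup.orderOf_mk _ hx]
      exact orderOf_dvd_natCard _
    exact hr.ne_one (Nat.eq_one_of_dvd_coprimes hco hord hrd)
  exact CoverTI.false_of_cover hG.1 K hTI hC hne hKN hcop hcover

/-- A CN group of odd order is solvable. -/
theorem isSolvable_of_odd_cn (hodd : Odd (Nat.card G)) (hCN : Cfsg.IsCNGroup G) : Group.IsSolvable G := by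
  induction hn : Nat.card G using Nat.strong_induction_on generalizing G with
  | _ n ih =>
    subst hn
    by_contra hns
    have hsub : ∀ H : Subgroup G, H ≠ ⊤ → Group.IsSolvable H := fun H hH =>
      ih _ (lt_of_le_of_ne (Subgroup.card_le_card_group H) fun h => hH (Subgroup.eq_top_of_card_eq H h))
        (hodd.of_dvd_nat (Subgroup.card_subgroup_dvd_card H)) (OddLocal.CN.subgroup hCN H) rfl
    haveI : Nontrivial G := by
      by_contra h
      rw [not_nontrivial_iff_subsingleton] at h
      exact hns (Group.isSolvable_of_comm fun a b => Subsingleton.elim _ _)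
    have hsimple : IsSimpleGroup G := by
      refine ⟨fun N hN => ?_⟩
      by_contra h
      push Not at h
      haveI := hN
      have hNs := hsub N h.2
      have hlt : Nat.card (G ⧸ N) < Nat.card G := by
        rw [← N.index_eq_card]
        conv_rhs => rw [← N.card_mul_index]
        exact lt_mul_left (Nat.pos_of_ne_zero Subgroup.index_ne_zero_of_finite)
          (N.one_lt_card_iff_ne_bot.2 h.1)
      have hQ : Group.IsSolvable (G ⧸ N) := ih _ hlt
        (hodd.of_dvd_nat (Subgroup.card_quotient_dvd_card N)) (S1473.result hCN N hNs) rfl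
      exact hns (isSolvable_of_normal_quotient N hNs hQ)
    refine not_minSimpleOdd_cn ⟨hodd, hsimple, fun h => ?_, hsub⟩ hCN
    exact hns (Group.isSolvable_of_comm fun a b => mul_comm' a b)

end Cfsg.Agent.Solv
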