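import Cfsg.Agent.Lib.Solv.ClassPow

/-!
Wielandt: three solvable subgroups of pairwise coprime indices force solvability; converse Hall.
-/

set_option autoImplicit false

open scoped Pointwise

namespace Cfsg.Agent.Solv

universe u

variable {G : Type u} [Group G]

theorem index_dvd_relIndex_of_coprime [Finite G] {H K : Subgroup G}
    (h : H.index.Coprime K.index) : H.index ∣ H.relIndex K := by
  have h1 : (H ⊓ K).index = H.relIndex K * K.index := by
    rw [← Subgroup.inf_relIndex_right H K, Subgroup.relIndex_mul_index inf_le_right]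
  exact h.dvd_of_dvd_mul_right (h1 ▸ Subgroup.index_dvd_of_le inf_le_left)

theorem orbit_eq_univ_of_coprime [Finite G] {H K : Subgroup G} (h : H.index.Coprime K.index) :
    MulAction.orbit K ((1 : G) : G ⧸ H) = Set.univ := by
  refine Set.eq_of_subset_of_ncard_le (Set.subset_univ _) ?_
  have hst : MulAction.stabilizer K ((1 : G) : G ⧸ H) = H.subgroupOf K := by
    ext k
    rw [MulAction.mem_stabilizer_iff, Subgroup.mem_subgroupOf]
    show ((k : G) • ((1 : G) : G ⧸ H)) = _ ↔ _
    rw [← MulAction.mem_stabilizer_iff, MulAction.stabilizer_quotient]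
  rw [← MulAction.index_stabilizer, hst, Set.ncard_univ, ← Subgroup.index_eq_card]
  exact Nat.le_of_dvd (Nat.pos_of_ne_zero Subgroup.index_ne_zero_of_finite)
    (index_dvd_relIndex_of_coprime h)

theorem exists_mul_of_coprime_index [Finite G] {H K : Subgroup G}
    (h : H.index.Coprime K.index) (g : G) : ∃ k ∈ K, ∃ x ∈ H, g = k * x := by
  have hg : ((g : G) : G ⧸ H) ∈ MulAction.orbit K ((1 : G) : G ⧸ H) := by
    rw [orbit_eq_univ_of_coprime h]; trivial
  obtain ⟨k, hk⟩ := hg
  refine ⟨k, k.2, (k : G)⁻¹ * g, ?_, by group⟩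
  have hk' : (((k : G) * 1 : G) : G ⧸ H) = (g : G ⧸ H) := hk
  rw [mul_one] at hk'
  exact QuotientGroup.eq.1 hk'

theorem relIndex_eq_of_coprime [Finite G] {H K : Subgroup G} (h : H.index.Coprime K.index) :
    H.relIndex K = H.index := by
  have hst : MulAction.stabilizer K ((1 : G) : G ⧸ H) = H.subgroupOf K := by
    ext k
    rw [MulAction.mem_stabilizer_iff, Subgroup.mem_subgroupOf]
    show ((k : G) • ((1 : G) : G ⧸ H)) = _ ↔ _
    rw [← MulAction.mem_stabilizer_iff, MulAction.stabilizer_quotient]
  show (H.subgroupOf K).index = H.index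
  rw [← hst, MulAction.index_stabilizer, orbit_eq_univ_of_coprime h, Set.ncard_univ,
    Subgroup.index_eq_card]

theorem three_solvable : ∀ (n : ℕ) (G : Type u) [Group G] [Finite G], Nat.card G = n →
    ∀ A B C : Subgroup G, Group.IsSolvable A → Group.IsSolvable B → Group.IsSolvable C →
      A.index.Coprime B.index → A.index.Coprime C.index → B.index.Coprime C.index →
      Group.IsSolvable G := by
  intro n
  induction n using Nat.strong_induction_on with
  | _ n ih =>
    intro G _ _ hn A B C hA hB hC hAB hAC hBC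
    by_cases hAb : A = ⊥
    · subst hAb
      rw [Subgroup.index_bot] at hAB
      have : B.index = 1 := Nat.eq_one_of_dvd_coprimes hAB B.index_dvd_card dvd_rfl
      rw [Subgroup.index_eq_one] at this
      subst this
      exact Group.isSolvable_of_surjective (f := (⊤ : Subgroup G).subtype)
        (fun x => ⟨⟨x, trivial⟩, rfl⟩)
    have : Nontrivial A := (Subgroup.nontrivial_iff_ne_bot A).2 hAb
    obtain ⟨M₀, hM₀, hM₀b, hmin⟩ := exists_minimal_normal (G := A)
    obtain ⟨-, p, hp, -, hpg⟩ :=
      minimal_normal_elementaryAbelian M₀ inferInstance hM₀b hmin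
    have := Fact.mk hp
    set M := M₀.map A.subtype with hM
    have hMp : IsPGroup p M := hpg.map _
    have hMb : M ≠ ⊥ := by
      rw [hM, Ne, Subgroup.map_eq_bot_iff_of_injective _ A.subtype_injective]; exact hM₀b
    -- one of `B`, `C` has index prime to `p`
    obtain ⟨K, hK, hAK, hKp⟩ : ∃ K : Subgroup G, Group.IsSolvable K ∧
        A.index.Coprime K.index ∧ ¬ p ∣ K.index := by
      by_cases hBp : p ∣ B.index
      · exact ⟨C, hC, hAC, fun h => hp.ne_one (Nat.eq_one_of_dvd_coprimes hBC hBp h)⟩
      · exact ⟨B, hB, hAB, hBp⟩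
    -- a conjugate of `K` contains `M`
    obtain ⟨R⟩ : Nonempty (Sylow p K) := inferInstance
    have hR : Nat.card ((R : Subgroup K).map K.subtype) = p ^ (Nat.card G).factorization p := by
      rw [card_map_subtype, R.card_eq_multiplicity, ← K.card_mul_index,
        Nat.factorization_mul Nat.card_pos.ne' Subgroup.index_ne_zero_of_finite, Finsupp.add_apply,
        Nat.factorization_eq_zero_of_not_dvd hKp, add_zero]
    obtain ⟨S, hS⟩ := hMp.exists_le_sylow
    obtain ⟨g, hg⟩ := MulAction.exists_smul_eq G (Sylow.ofCard _ hR) S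
    have hMK : M ≤ MulAut.conj g • K := by
      refine hS.trans ?_
      rw [← hg]
      show MulAut.conj g • (R : Subgroup K).map K.subtype ≤ _
      exact Subgroup.pointwise_smul_le_pointwise_smul_iff.2 (Subgroup.map_subtype_le _)
    set K' := MulAut.conj g • K with hK'
    have hK's : Group.IsSolvable K' := by
      rw [hK', conj_smul_eq_map]; exact isSolvable_map _ hK
    have hKidx : K'.index = K.index := by
      rw [hK', conj_smul_eq_map]; exact Subgroup.index_map_equiv K (MulAut.conj g)
    have hall : ∀ x : G, MulAut.conj x • M ≤ K' := by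
      intro x
      obtain ⟨k, hk, a, ha, rfl⟩ := exists_mul_of_coprime_index (hKidx ▸ hAK : A.index.Coprime K'.index) x
      have hMa : MulAut.conj a • M = M := by
        have h1 := congrArg (Subgroup.map A.subtype)
          (Subgroup.Normal.conj_smul_eq_self (⟨a, ha⟩ : A) M₀)
        rwa [map_conj_smul, ← hM] at h1
      rw [← conj_smul_conj, hMa, ← Subgroup.conj_smul_eq_self_of_mem hk]
      exact Subgroup.pointwise_smul_le_pointwise_smul_iff.2 hMK
    set N := Subgroup.normalClosure (M : Set G) with hN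
    have hNK : N ≤ K' := by
      rw [hN, Subgroup.normalClosure, Subgroup.closure_le]
      intro y hy
      obtain ⟨m, hm, hmy⟩ := Group.mem_conjugatesOfSet_iff.1 hy
      obtain ⟨c, rfl⟩ := isConj_iff.1 hmy
      exact hall c (mem_conj_smul.2 (by simpa [mul_assoc] using hm))
    have hNb : N ≠ ⊥ := fun h => hMb (eq_bot_iff.2 (h ▸ Subgroup.le_normalClosure))
    refine isSolvable_of_normal_quotient N (isSolvable_of_le hNK hK's) ?_
    have hd : ∀ X : Subgroup G, (X.map (QuotientGroup.mk' N)).index ∣ X.index := fun X =>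
      Subgroup.index_map_dvd X (QuotientGroup.mk'_surjective N)
    exact ih _ (hn ▸ card_quotient_lt N hNb) (G ⧸ N) rfl _ _ _ (isSolvable_map _ hA)
      (isSolvable_map _ hB) (isSolvable_map _ hC)
      ((hAB.coprime_dvd_left (hd A)).coprime_dvd_right (hd B))
      ((hAC.coprime_dvd_left (hd A)).coprime_dvd_right (hd C))
      ((hBC.coprime_dvd_left (hd B)).coprime_dvd_right (hd C))

/-- The converse of Hall's theorem. -/
theorem isSolvable_of_complements : ∀ (n : ℕ) (G : Type u) [Group G] [Finite G], Nat.card G = n →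
    (∀ p : ℕ, p.Prime → ∃ H : Subgroup G, H.index = p ^ (Nat.card G).factorization p) →
    Group.IsSolvable G := by
  intro n
  induction n using Nat.strong_induction_on with
  | _ n ih =>
    intro G _ _ hn h
    by_cases h3 : (Nat.card G).primeFactors.card ≤ 2
    · obtain ⟨p, q, hp, hq, hpq⟩ : ∃ p q : ℕ, p.Prime ∧ q.Prime ∧
          ∀ r ∈ (Nat.card G).primeFactors, r = p ∨ r = q := by
        have hpr : ∀ r ∈ (Nat.card G).primeFactors, r.Prime := fun r => Nat.prime_of_mem_primeFactors
        rcases Nat.lt_or_ge (Nat.card G).primeFactors.card 1 with h0 | h1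
        · exact ⟨2, 2, Nat.prime_two, Nat.prime_two, fun r hr =>
            absurd (Finset.card_pos.2 ⟨r, hr⟩) (by omega)⟩
        rcases Nat.lt_or_ge (Nat.card G).primeFactors.card 2 with h2 | h2
        · obtain ⟨a, ha⟩ := Finset.card_eq_one.1 (by omega : (Nat.card G).primeFactors.card = 1)
          rw [ha] at hpr ⊢
          exact ⟨a, a, hpr a (by simp), hpr a (by simp), fun r hr => Or.inl (by simpa using hr)⟩
        · obtain ⟨a, b, -, hab⟩ :=
            Finset.card_eq_two.1 (by omega : (Nat.card G).primeFactors.card = 2)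
          rw [hab] at hpr ⊢
          exact ⟨a, b, hpr a (by simp), hpr b (by simp), fun r hr => by simpa using hr⟩
      exact Cfsg.Agent.Char.isSolvable_of_two_primes hp hq _ rfl fun r hr hd =>
        hpq r (Nat.mem_primeFactors.2 ⟨hr, hd, Nat.card_pos.ne'⟩)
    have hsol : ∀ p ∈ (Nat.card G).primeFactors, ∀ H : Subgroup G,
        H.index = p ^ (Nat.card G).factorization p → Group.IsSolvable H := by
      intro p hp H hH
      obtain ⟨hpp, hpd, -⟩ := Nat.mem_primeFactors.1 hp
      have hHlt : Nat.card H < n := by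
        rw [← hn, ← H.card_mul_index, hH]
        exact lt_mul_of_one_lt_right Nat.card_pos
          (Nat.one_lt_pow (hpp.factorization_pos_of_dvd Nat.card_pos.ne' hpd).ne' hpp.one_lt)
      refine ih _ hHlt H rfl fun q hq => ?_
      have hf : (Nat.card H).factorization q + (p ^ (Nat.card G).factorization p).factorization q
          = (Nat.card G).factorization q := by
        rw [← Finsupp.add_apply,
          ← Nat.factorization_mul Nat.card_pos.ne' (pow_ne_zero _ hpp.ne_zero), ← hH, H.card_mul_index]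
      rw [hpp.factorization_pow] at hf
      by_cases hqp : q = p
      · subst hqp
        rw [Finsupp.single_eq_same] at hf
        exact ⟨⊤, by rw [Subgroup.index_top, show (Nat.card H).factorization q = 0 by omega, pow_zero]⟩
      · obtain ⟨K, hK⟩ := h q hq
        rw [Finsupp.single_eq_of_ne hqp, add_zero] at hf
        refine ⟨K.subgroupOf H, ?_⟩
        show K.relIndex H = _
        rw [relIndex_eq_of_coprime (hK ▸ hH ▸ Nat.coprime_pow_primes _ _ hq hpp hqp), hK, hf]
    obtain ⟨a, ha, b, hb, c, hc, hab, hac, hbc⟩ :=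
      Finset.two_lt_card.1 (by omega : 2 < (Nat.card G).primeFactors.card)
    have pa := Nat.prime_of_mem_primeFactors ha
    have pb := Nat.prime_of_mem_primeFactors hb
    have pc := Nat.prime_of_mem_primeFactors hc
    obtain ⟨A, hA⟩ := h a pa
    obtain ⟨B, hB⟩ := h b pb
    obtain ⟨C, hC⟩ := h c pc
    exact three_solvable _ G rfl A B C (hsol a ha A hA) (hsol b hb B hB) (hsol c hc C hC)
      (hA ▸ hB ▸ Nat.coprime_pow_primes _ _ pa pb hab)
      (hA ▸ hC ▸ Nat.coprime_pow_primes _ _ pa pc hac)
      (hB ▸ hC ▸ Nat.coprime_pow_primes _ _ pb pc hbc)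

theorem inf_index_of_coprime [Finite G] {H K : Subgroup G} (h : H.index.Coprime K.index) :
    (H ⊓ K).index = H.index * K.index := by
  rw [← Subgroup.relIndex_mul_index (inf_le_right : H ⊓ K ≤ K), Subgroup.inf_relIndex_right,
    relIndex_eq_of_coprime h]

theorem card_set_mul (H K : Subgroup G) (h : H ⊓ K = ⊥) :
    Nat.card ((H : Set G) * (K : Set G) : Set G) = Nat.card H * Nat.card K := by
  rw [← Nat.card_prod]
  symm
  refine Nat.card_eq_of_bijective (fun x : H × K =>
    (⟨(x.1 : G) * x.2, Set.mul_mem_mul x.1.2 x.2.2⟩ : ((H : Set G) * (K : Set G) : Set G))) ⟨?_, ?_⟩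
  · rintro ⟨⟨a, ha⟩, ⟨b, hb⟩⟩ ⟨⟨a', ha'⟩, ⟨b', hb'⟩⟩ e
    have e' : a * b = a' * b' := congrArg Subtype.val e
    have hm : a'⁻¹ * a ∈ H ⊓ K := by
      refine ⟨H.mul_mem (H.inv_mem ha') ha, ?_⟩
      have : a'⁻¹ * a = b' * b⁻¹ := by
        rw [eq_mul_inv_iff_mul_eq, mul_assoc, e', inv_mul_cancel_left]
      show a'⁻¹ * a ∈ K
      rw [this]; exact K.mul_mem hb' (K.inv_mem hb)
    rw [h, Subgroup.mem_bot, inv_mul_eq_one] at hm
    subst hm
    have := mul_left_cancel e'
    subst this
    rfl
  · rintro ⟨_, a, ha, b, hb, rfl⟩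
    exact ⟨(⟨a, ha⟩, ⟨b, hb⟩), rfl⟩

theorem exists_subgroup_eq_mul (H K : Subgroup G) (h : (H : Set G) * (K : Set G) = (K : Set G) * H) :
    ∃ L : Subgroup G, (L : Set G) = (H : Set G) * (K : Set G) := by
  refine ⟨{ carrier := (H : Set G) * (K : Set G), one_mem' := ?_, mul_mem' := ?_, inv_mem' := ?_ }, rfl⟩
  · intro a b ha hb
    have : a * b ∈ ((H : Set G) * (K : Set G)) * ((H : Set G) * (K : Set G)) := Set.mul_mem_mul ha hb
    rwa [mul_assoc, ← mul_assoc (K : Set G), ← h, mul_assoc, coe_mul_coe, ← mul_assoc, coe_mul_coe]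
      at this
  · exact ⟨1, H.one_mem, 1, K.one_mem, one_mul 1⟩
  · rintro _ ⟨a, ha, b, hb, rfl⟩
    rw [mul_inv_rev, h]
    exact Set.mul_mem_mul (K.inv_mem hb) (H.inv_mem ha)

end Cfsg.Agent.Solv
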