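import Cfsg.Agent.Lib.Solv.BrauerReynoldsPlus
import Cfsg.Agent.Lib.Solv.BrauerReynoldsEven
import Cfsg.Agent.S0732
import Cfsg.Agent.S4706
import Cfsg.Agent.Lib.Lead.GLBasic

/-!
Recognition of `PSL(2,p)` and `SL(2,2^m)` from the permutation actions.
-/

set_option autoImplicit false

namespace Cfsg.Agent.Solv.BReyn

open Cfsg Cfsg.Agent.Char
open scoped commutatorElement

universe u

/-- The conclusion of the theorems of Brauer and Reynolds. -/
def Concl (p : ℕ) (G : Type*) [Group G] : Prop :=
  (∃ (F : Type) (_ : Field F) (_ : Fintype F), Fintype.card F = p ∧ 3 < p ∧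
    Nonempty (G ≃* Matrix.ProjectiveSpecialLinearGroup (Fin 2) F)) ∨
  (∃ (m : ℕ) (F : Type) (_ : Field F) (_ : Fintype F), Fintype.card F = 2 ^ m ∧ p = 2 ^ m + 1 ∧
    3 < p ∧ Nonempty (G ≃* Matrix.SpecialLinearGroup (Fin 2) F))

theorem center_eq_bot_two_pow {m : ℕ} (hm : m ≠ 0) (F : Type) [Field F] [Fintype F]
    (hF : Fintype.card F = 2 ^ m) :
    Subgroup.center (Matrix.SpecialLinearGroup (Fin 2) F) = ⊥ := by
  classical
  haveI : Nonempty (Fin 2) := ⟨0⟩
  rw [← Subgroup.card_eq_one, Lead.GLBasic.card_center_SL, hF]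
  refine Nat.coprime_iff_gcd_eq_one.1 (Nat.coprime_two_left.2 ⟨2 ^ (m - 1) - 1, ?_⟩)
  obtain ⟨k, rfl⟩ := Nat.exists_eq_succ_of_ne_zero hm
  rw [Nat.succ_sub_one, pow_succ]
  have := Nat.one_le_two_pow (n := k)
  omega

theorem sl_to_psl {G : Type*} [Group G] {m : ℕ} (hm : m ≠ 0) (F : Type) [Field F] [Fintype F]
    (hF : Fintype.card F = 2 ^ m) (h : Nonempty (G ≃* Matrix.SpecialLinearGroup (Fin 2) F)) :
    Nonempty (G ≃* Matrix.ProjectiveSpecialLinearGroup (Fin 2) F) := by
  classical
  obtain ⟨i⟩ := h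
  refine ⟨i.trans (MulEquiv.ofBijective (QuotientGroup.mk' _) ⟨?_, QuotientGroup.mk'_surjective _⟩)⟩
  rw [← MonoidHom.ker_eq_bot_iff, QuotientGroup.ker_mk']
  exact center_eq_bot_two_pow hm F hF

/-- `σ` is `x ↦ a φ(x) + b`. -/
def HasLin {R : Type u} [Ring R] (σ : Equiv.Perm R) (a : Rˣ) (φ : R ≃+* R) : Prop :=
  ∃ b : R, ∀ x, σ x = (a : R) * φ x + b

theorem hasLin_mul {R : Type u} [Ring R] {σ τ : Equiv.Perm R} {a c : Rˣ} {φ ψ : R ≃+* R}
    (hσ : HasLin σ a φ) (hτ : HasLin τ c ψ) :
    HasLin (σ * τ) (a * Units.map (φ : R →* R) c) (φ * ψ) := by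
  obtain ⟨b, hb⟩ := hσ
  obtain ⟨d, hd⟩ := hτ
  refine ⟨(a : R) * φ d + b, fun x => ?_⟩
  rw [Equiv.Perm.mul_apply, hd, hb, map_add, map_mul, mul_add, ← mul_assoc, add_assoc]
  rfl

theorem hasLin_inv {R : Type u} [Ring R] {σ : Equiv.Perm R} {a : Rˣ} {φ : R ≃+* R}
    (hσ : HasLin σ a φ) : HasLin σ⁻¹ (Units.map (φ.symm : R →* R) a⁻¹) φ⁻¹ := by
  obtain ⟨b, hb⟩ := hσ
  refine ⟨-(φ.symm (((a⁻¹ : Rˣ) : R) * b)), fun x => ?_⟩
  apply σ.injective
  rw [Equiv.Perm.inv_def, Equiv.apply_symm_apply, hb]
  show x = (a : R) * φ ((φ.symm ((a⁻¹ : Rˣ) : R)) * φ.symm x + -(φ.symm (((a⁻¹ : Rˣ) : R) * b))) + b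
  simp [mul_add, ← mul_assoc]

theorem ringEquiv_one_apply {R : Type u} [Ring R] (x : R) : (1 : R ≃+* R) x = x := rfl

/-- A perfect group of semi-affine maps of a finite field of characteristic two is trivial. -/
theorem subsingleton_of_semiaffine {G : Type*} [Group G] (hperf : commutator G = ⊤) {q : ℕ}
    (ψ : G →* Equiv.Perm (GaloisField 2 q)) (hinj : Function.Injective ψ)
    (hmem : ∀ g, ψ g ∈ semiaffineGroup (GaloisField 2 q)) : Subsingleton G := by
  have hcomm : ∀ φ χ : GaloisField 2 q ≃+* GaloisField 2 q, φ * χ * φ⁻¹ * χ⁻¹ = 1 := by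
    intro φ χ
    rw [mul_inv_eq_one, mul_inv_eq_iff_eq_mul]
    let A : (GaloisField 2 q ≃+* GaloisField 2 q) → (GaloisField 2 q ≃ₐ[ZMod 2] GaloisField 2 q) :=
      fun f => AlgEquiv.ofRingEquiv (f := f) fun x =>
        RingHom.congr_fun (RingHom.ext_zmod ((f : GaloisField 2 q →+* GaloisField 2 q).comp
          (algebraMap (ZMod 2) (GaloisField 2 q))) (algebraMap (ZMod 2) (GaloisField 2 q))) x
    haveI : IsMulCommutative (GaloisField 2 q ≃ₐ[ZMod 2] GaloisField 2 q) :=
      IsCyclic.isMulCommutative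
    refine RingEquiv.ext fun x => ?_
    have h := congrArg (fun f : GaloisField 2 q ≃ₐ[ZMod 2] GaloisField 2 q => f x)
      (IsMulCommutative.is_comm.comm (A φ) (A χ))
    exact h
  have hlin : ∀ g, ∃ a φ, HasLin (ψ g) a φ := fun g => by
    obtain ⟨a, b, φ, h⟩ := hmem g
    exact ⟨a, φ, b, h⟩
  have h1 : ∀ g, ∃ a, HasLin (ψ g) a 1 := by
    let K : Subgroup G :=
      { carrier := {g | ∃ a, HasLin (ψ g) a 1}
        one_mem' := ⟨1, 0, fun x => by simp⟩
        mul_mem' := by
          rintro g h ⟨a, ha⟩ ⟨c, hc⟩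
          refine ⟨a * Units.map ((1 : GaloisField 2 q ≃+* GaloisField 2 q) :
            GaloisField 2 q →* GaloisField 2 q) c, ?_⟩
          rw [map_mul]
          simpa using hasLin_mul ha hc
        inv_mem' := by
          rintro g ⟨a, ha⟩
          have := hasLin_inv ha
          rw [← map_inv, inv_one] at this
          exact ⟨_, this⟩ }
    have hle : commutator G ≤ K := by
      rw [commutator_def, Subgroup.commutator_le]
      intro g _ h _
      obtain ⟨a, φ, ha⟩ := hlin g
      obtain ⟨c, χ, hc⟩ := hlin h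
      have := hasLin_mul (hasLin_mul (hasLin_mul ha hc) (hasLin_inv ha)) (hasLin_inv hc)
      rw [hcomm] at this
      show ∃ a, HasLin (ψ ⁅g, h⁆) a 1
      rw [commutatorElement_def, map_mul, map_mul, map_mul, map_inv, map_inv]
      exact ⟨_, this⟩
    intro g
    exact hle (hperf ▸ Subgroup.mem_top g)
  have h2 : ∀ g, HasLin (ψ g) 1 1 := by
    let K : Subgroup G :=
      { carrier := {g | HasLin (ψ g) 1 1}
        one_mem' := ⟨0, fun x => by simp⟩
        mul_mem' := by
          intro g h ha hc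
          have := hasLin_mul ha hc
          simpa [map_mul] using this
        inv_mem' := by
          intro g ha
          have := hasLin_inv ha
          simpa [map_inv] using this }
    have hle : commutator G ≤ K := by
      rw [commutator_def, Subgroup.commutator_le]
      intro g _ h _
      obtain ⟨a, b, ha⟩ := h1 g
      obtain ⟨c, d, hc⟩ := h1 h
      refine ⟨ψ ⁅g, h⁆ 0, fun x => ?_⟩
      have key : ∀ y, ψ (g * h) y = ψ (h * g) y + ((a : GaloisField 2 q) * d + b -
          ((c : GaloisField 2 q) * b + d)) := fun y => by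
        simp only [map_mul, Equiv.Perm.mul_apply, ha, hc, ringEquiv_one_apply]
        ring
      have key2 : ∀ z, ψ ⁅g, h⁆ z = z + ((a : GaloisField 2 q) * d + b -
          ((c : GaloisField 2 q) * b + d)) := fun z => by
        have h3 := key (ψ (h * g)⁻¹ z)
        rw [← Equiv.Perm.mul_apply, ← map_mul, ← Equiv.Perm.mul_apply (ψ (h * g)), ← map_mul,
          mul_inv_cancel, map_one, Equiv.Perm.one_apply] at h3
        rw [← h3, commutatorElement_def, show g * h * g⁻¹ * h⁻¹ = g * h * (h * g)⁻¹ by group]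
      rw [key2, key2 0, zero_add]
      simp
    intro g
    exact hle (hperf ▸ Subgroup.mem_top g)
  have h3 : ∀ g h : G, g * h = h * g := fun g h => hinj (by
    obtain ⟨b, hb⟩ := h2 g
    obtain ⟨d, hd⟩ := h2 h
    refine Equiv.ext fun x => ?_
    simp only [map_mul, Equiv.Perm.mul_apply, hb, hd, Units.val_one, one_mul, ringEquiv_one_apply]
    ring)
  have h4 : commutator G = ⊥ := by
    rw [eq_bot_iff, commutator_def, Subgroup.commutator_le]
    intro g _ h _
    rw [Subgroup.mem_bot, commutatorElement_eq_one_iff_mul_comm]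
    exact h3 g h
  exact ⟨fun g h => by
    have hg : g ∈ (⊥ : Subgroup G) := by rw [← h4, hperf]; trivial
    have hh : h ∈ (⊥ : Subgroup G) := by rw [← h4, hperf]; trivial
    rw [Subgroup.mem_bot.mp hg, Subgroup.mem_bot.mp hh]⟩

variable {G : Type u} [Group G] [Fintype G] {p : ℕ} [Fact p.Prime] {P : Sylow p G} {n e t : ℕ}
  {M : Ideal AlgInt} {X Y : Finset (IrrCharacter G)} {a : IrrCharacter G → ℤ} {δ : ℤ}

namespace Data

variable (D : Data M P n e t X Y a δ)
include D

/-- `p + 1` Sylow subgroups and two exceptional characters give `PSL(2,p)`. -/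
theorem psl_concl (ht : t = 2) (hn : n = 1) : Concl p G := by
  classical
  subst ht hn
  have hp := D.hp
  have het := D.et
  haveI : Fintype (Sylow p G) := Fintype.ofFinite _
  set f : G →* Equiv.Perm (Sylow p G) := MulAction.toPermHom G (Sylow p G) with hf
  have hinj : Function.Injective f := by
    rw [← MonoidHom.ker_eq_bot_iff]
    by_contra hne
    have hle := D.hyp.le_of_normal f.ker hne
    have hall : ∀ Q : Sylow p G, Q = P := by
      intro Q
      have hPN : (P : Subgroup G) ≤ Subgroup.normalizer ((Q : Subgroup G) : Set G) := by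
        intro y hy
        have := congrArg (fun σ : Equiv.Perm (Sylow p G) => σ Q) (MonoidHom.mem_ker.mp (hle hy))
        exact Sylow.smul_eq_iff_mem_normalizer.mp this
      have h1 := P.2.inf_normalizer_sylow Q
      exact Sylow.ext (P.3 Q.2 (((le_inf le_rfl hPN).trans h1.le).trans inf_le_right))
    haveI : Subsingleton (Sylow p G) := ⟨fun Q R => (hall Q).trans (hall R).symm⟩
    have h1 := D.hyp.count
    rw [Nat.card_of_subsingleton P, one_mul] at h1
    have := hp.two_le
    omega
  haveI : MulAction.IsPretransitive f.range (Sylow p G) := ⟨fun Q R => by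
    obtain ⟨g, hg⟩ := MulAction.exists_smul_eq G Q R
    exact ⟨⟨f g, g, rfl⟩, hg⟩⟩
  have hcardα : Fintype.card (Sylow p G) = p + 1 := by
    rw [← Nat.card_eq_fintype_card, D.hyp.count, one_mul]
  have hcard : Nat.card f.range = (p + 1) * p * e := by
    rw [← Nat.card_congr (MonoidHom.ofInjective hinj).toEquiv, D.card_eq]
    ring
  have hp3 : 3 < p := by have := D.two_le; omega
  rcases S0732.result hp hcardα f.range hcard (by omega) with ⟨h, -⟩ | ⟨-, ⟨i⟩⟩ | ⟨q, -, -, -, ε, hε⟩
  · exfalso; omega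
  · exact Or.inl ⟨ZMod p, inferInstance, inferInstance, ZMod.card p, hp3,
      ⟨(MonoidHom.ofInjective hinj).trans i⟩⟩
  · exfalso
    have hss := subsingleton_of_semiaffine D.hyp.perf
      ((ε.permCongrHom.toMonoidHom).comp f)
      (fun g h hgh => hinj (ε.permCongrHom.injective hgh))
      (fun g => hε ⟨f g, g, rfl⟩)
    have h1 := Nat.card_of_subsingleton (1 : G)
    rw [D.card_eq] at h1
    have := (Nat.eq_one_of_mul_eq_one_left h1)
    omega

/-- The involution centraliser of order `p - 1` gives `SL(2, 2^m)`. -/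
theorem sl_concl {s : G} (he : e = 2) (hn : n + 1 = t)
    (hC : Nat.card (Subgroup.centralizer ({s} : Set G)) = p - 1)
    (hall : ∀ x ∈ Subgroup.centralizer ({s} : Set G), x ≠ 1 → x * x = 1 ∧ IsConj s x)
    (hn1 : 1 ≤ n) : Concl p G := by
  classical
  subst he hn
  have hp := D.hp
  have het := D.et
  have hp3 : 3 < p := by omega
  set Q := Subgroup.centralizer ({s} : Set G) with hQdef
  have hs : s ∈ Q := Subgroup.mem_centralizer_singleton_iff.mpr rfl
  have hcomm : ∀ x ∈ Q, ∀ y ∈ Q, x * y = y * x := by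
    intro x hx y hy
    have hsq : ∀ z ∈ Q, z * z = 1 := fun z hz => by
      by_cases h : z = 1
      · rw [h, one_mul]
      · exact (hall z hz h).1
    have h1 := inv_eq_of_mul_eq_one_left (hsq (x * y) (Q.mul_mem hx hy))
    rw [mul_inv_rev, inv_eq_of_mul_eq_one_left (hsq x hx), inv_eq_of_mul_eq_one_left (hsq y hy)] at h1
    exact h1.symm
  have hs1 : s ≠ 1 := fun h => by
    have h1 : Q = ⊤ := by
      rw [hQdef, h]; exact eq_top_iff.mpr fun g _ => by simp [Subgroup.mem_centralizer_singleton_iff]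
    rw [h1, Subgroup.card_top, D.card_eq] at hC
    have : p ≤ p * 2 * (n * p + 1) := by
      rw [mul_assoc]; exact Nat.le_mul_of_pos_right p (Nat.mul_pos two_pos (Nat.succ_pos _))
    omega
  set N := Subgroup.normalizer (Q : Set G) with hNdef
  have hQN : Q ≤ N := Subgroup.le_normalizer
  have hfuse : ∀ x ∈ Q, x ≠ 1 → ∃ g ∈ N, g * s * g⁻¹ = x := by
    intro x hx hx1
    obtain ⟨g, hg⟩ := isConj_iff.mp (hall x hx hx1).2
    refine ⟨g, ?_, hg⟩
    have hCx : Q = Subgroup.centralizer ({x} : Set G) := by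
      refine Subgroup.eq_of_le_of_card_ge (fun y hy => Subgroup.mem_centralizer_singleton_iff.mpr
        (hcomm y hy x hx)) (le_of_eq ?_)
      have h1 := card_conjClass_mul_centralizer x
      have h2 := card_conjClass_mul_centralizer s
      rw [show Nat.card {y : G // IsConj x y} = Nat.card {y : G // IsConj s y} from
        Nat.card_congr (Equiv.subtypeEquivRight fun y =>
          ⟨fun h => (hall x hx hx1).2.trans h, fun h => (hall x hx hx1).2.symm.trans h⟩)] at h1
      exact Nat.eq_of_mul_eq_mul_left (Nat.pos_of_ne_zero (card_conjClass_ne_zero s))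
        (h1.trans h2.symm)
    rw [hNdef, Subgroup.mem_normalizer_iff]
    intro y
    conv_rhs => rw [hCx]
    rw [hQdef, Subgroup.mem_centralizer_singleton_iff, Subgroup.mem_centralizer_singleton_iff, ← hg]
    constructor
    · intro h
      calc g * y * g⁻¹ * (g * s * g⁻¹) = g * (y * s) * g⁻¹ := by group
        _ = g * (s * y) * g⁻¹ := by rw [h]
        _ = _ := by group
    · intro h
      calc y * s = g⁻¹ * (g * y * g⁻¹ * (g * s * g⁻¹)) * g := by group
        _ = g⁻¹ * (g * s * g⁻¹ * (g * y * g⁻¹)) * g := by rw [h]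
        _ = _ := by group
  haveI : Fintype N := Fintype.ofFinite _
  have hNcard : Nat.card N = (p - 2) * (p - 1) := by
    rw [← card_conjClass_mul_centralizer (⟨s, hQN hs⟩ : N)]
    congr 1
    · rw [Nat.card_congr (α := {y : N // IsConj (⟨s, hQN hs⟩ : N) y}) (β := {x : Q // x ≠ 1})
        { toFun := fun x => ⟨⟨((x : N) : G), by
            obtain ⟨g, hg⟩ := isConj_iff.mp x.2
            rw [← hg, Subgroup.coe_mul, Subgroup.coe_mul, Subgroup.coe_inv]
            exact ((Subgroup.mem_normalizer_iff.mp g.2) s).mp hs⟩, fun h => by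
            obtain ⟨g, hg⟩ := isConj_iff.mp x.2
            have h1 : ((x : N) : G) = 1 := congrArg Subtype.val h
            rw [← hg, Subgroup.coe_mul, Subgroup.coe_mul, Subgroup.coe_inv] at h1
            exact hs1 (conj_eq_one_iff.mp h1)⟩
          invFun := fun x => ⟨⟨((x : Q) : G), hQN (x : Q).2⟩, by
            obtain ⟨g, hgN, hg⟩ := hfuse ((x : Q) : G) (x : Q).2 fun h => x.2 (Subtype.ext h)
            exact isConj_iff.mpr ⟨⟨g, hgN⟩, Subtype.ext hg⟩⟩
          left_inv := fun x => rfl
          right_inv := fun x => rfl },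
        Nat.card_eq_fintype_card, Fintype.card_subtype_compl, Fintype.card_subtype_eq,
        ← Nat.card_eq_fintype_card, hC]
      omega
    · rw [← hC]
      exact Nat.card_congr
        { toFun := fun x => ⟨((x : N) : G), Subgroup.mem_centralizer_singleton_iff.mpr
            (congrArg Subtype.val (Subgroup.mem_centralizer_singleton_iff.mp x.2))⟩
          invFun := fun x => ⟨⟨(x : G), hQN x.2⟩, Subgroup.mem_centralizer_singleton_iff.mpr
            (Subtype.ext (Subgroup.mem_centralizer_singleton_iff.mp x.2 : (x : G) * s = s * x))⟩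
          left_inv := fun x => rfl
          right_inv := fun x => rfl }
  have hindex : N.index = p := by
    have h1 := Subgroup.card_mul_index N
    rw [D.card_eq, hNcard] at h1
    have h2 : n * p + 1 = (n + 1) * (p - 2) := by
      have h3 : (p - 2 : ℕ) = 2 * (n + 1) - 1 := by omega
      rw [← het]
      zify [show 2 ≤ 2 * (n + 1) + 1 by omega]
      ring
    rw [h2] at h1
    refine Nat.eq_of_mul_eq_mul_left (show 0 < (p - 2) * (p - 1) from
      Nat.mul_pos (by omega) (by omega)) (h1.trans ?_)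
    rw [show p - 1 = 2 * (n + 1) by omega]
    ring
  haveI : Fintype (G ⧸ N) := Fintype.ofFinite _
  set f : G →* Equiv.Perm (G ⧸ N) := MulAction.toPermHom G (G ⧸ N) with hf
  have hinj : Function.Injective f := by
    rw [← MonoidHom.ker_eq_bot_iff]
    by_contra hne
    have hle := D.hyp.le_of_normal f.ker hne
    have hPN : (P : Subgroup G) ≤ N := by
      intro y hy
      have := congrArg (fun σ : Equiv.Perm (G ⧸ N) => σ ((1 : G) : G ⧸ N))
        (MonoidHom.mem_ker.mp (hle hy))
      have h1 : ((y * 1 : G) : G ⧸ N) = ((1 : G) : G ⧸ N) := this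
      rw [mul_one, QuotientGroup.eq] at h1
      simpa using h1
    have h1 := Subgroup.card_dvd_of_le hPN
    rw [show Nat.card ↥(P : Subgroup G) = p from D.hyp.card, hNcard] at h1
    rcases hp.dvd_mul.mp h1 with h2 | h2
    · have := Nat.le_of_dvd (by omega) h2; omega
    · have := Nat.le_of_dvd (by omega) h2; omega
  have hα : Fintype.card (G ⧸ N) = p := by
    rw [← Nat.card_eq_fintype_card]; exact hindex
  set E := MonoidHom.ofInjective hinj with hE
  let P' : Sylow p f.range := P.mapSurjective (f := E.toMonoidHom) E.surjective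
  have hP'N : Nat.card (Subgroup.normalizer ((P' : Subgroup f.range) : Set f.range)) = 2 * p := by
    have h1 : (Subgroup.normalizer ((P : Subgroup G) : Set G)).map E.toMonoidHom =
        Subgroup.normalizer ((P' : Subgroup f.range) : Set f.range) :=
      Subgroup.map_equiv_normalizer_eq _ E
    rw [← h1, Nat.card_congr ((Subgroup.normalizer ((P : Subgroup G) : Set G)).equivMapOfInjective
      E.toMonoidHom E.injective).toEquiv.symm, D.card_normalizer, mul_comm]
  rcases S4706.result (by omega) hα f.range P' hP'N with h | ⟨b, F, iF, iF', hpb, hF, ⟨i⟩⟩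
  · exfalso
    refine D.hyp.not_normal ?_
    have h1 : (P : Subgroup G) = (P' : Subgroup f.range).comap E.toMonoidHom := by
      show _ = ((P : Subgroup G).map E.toMonoidHom).comap E.toMonoidHom
      exact (Subgroup.comap_map_eq_self_of_injective (f := E.toMonoidHom) E.injective (P : Subgroup G)).symm
    rw [h1]
    exact h.comap _
  · exact Or.inr ⟨b, F, iF, iF', hF, hpb, hp3, ⟨E.trans i⟩⟩

end Data

/-- The theorem for groups without a normal `p'`-subgroup. -/
theorem main (H : Hyp P n) : Concl p G := by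
  classical
  obtain ⟨M, e, t, X, Y, a, δ, D⟩ := exists_data H
  rcases D.pp.sign with hδ | hδ
  · exact D.psl_concl (D.plus_t hδ) (D.plus_n hδ)
  · obtain ⟨m, θ₀, s, i, c, hm⟩ := exists_minusData D hδ
    letI := i
    rcases hm.even_cases with ⟨h1, h2⟩ | ⟨h1, h2, h3, h4⟩
    · exact D.psl_concl h1 h2
    · exact D.sl_concl h1 h2 h3 h4 D.n_pos

end Cfsg.Agent.Solv.BReyn
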