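import Cfsg.Agent.Lib.Solv.ClassPow
import Mathlib.GroupTheory.SpecificGroups.Cyclic
import Mathlib.RingTheory.Int.Basic

/-!
Frobenius' theorem on the number of solutions of `g ^ m = 1`.
-/

set_option autoImplicit false

namespace Cfsg.Agent.Solv

universe u

variable {G : Type u} [Group G]

/-- Solutions among the commuting elements correspond to solutions in the central quotient. -/
theorem card_centralizer_solutions [Finite G] {u : G} {q r : ℕ} (hu : orderOf u = q) (hqr : q.Coprime r)
    [(Subgroup.zpowers u).subgroupOf (Subgroup.centralizer ({u} : Set G)) |>.Normal] :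
    Nat.card {v : G // v ∈ Subgroup.centralizer ({u} : Set G) ∧ v ^ r = 1} =
      Nat.card {c : (Subgroup.centralizer ({u} : Set G)) ⧸
        (Subgroup.zpowers u).subgroupOf (Subgroup.centralizer ({u} : Set G)) // c ^ r = 1} := by
  set C := Subgroup.centralizer ({u} : Set G) with hC
  set U := (Subgroup.zpowers u).subgroupOf C
  obtain ⟨y, x, hxy⟩ : IsCoprime (q : ℤ) (r : ℤ) := Int.isCoprime_iff_gcd_eq_one.2 hqr
  refine Nat.card_eq_of_bijective
    (fun v => ⟨((⟨v.1, v.2.1⟩ : C) : C ⧸ U), ?_⟩) ⟨?_, ?_⟩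
  · rw [← QuotientGroup.mk_pow, QuotientGroup.eq_one_iff, Subgroup.mem_subgroupOf, Subgroup.coe_pow]
    show v.1 ^ r ∈ Subgroup.zpowers u
    rw [v.2.2]; exact Subgroup.one_mem _
  · rintro ⟨v, hv, hvr⟩ ⟨w, hw, hwr⟩ h
    have h1 := QuotientGroup.eq.1 (congrArg Subtype.val h)
    obtain ⟨i, hi⟩ := (h1 : v⁻¹ * w ∈ Subgroup.zpowers u)
    have hi : u ^ i = v⁻¹ * w := hi
    have hcv : Commute u v := (Subgroup.mem_centralizer_singleton_iff.1 hv).symm
    have hwe : w = v * u ^ i := by rw [hi, mul_inv_cancel_left]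
    have hr1 : (u ^ i) ^ r = 1 := by
      have h2 := hwr
      rw [hwe, ((hcv.zpow_left i).symm).mul_pow, hvr, one_mul] at h2
      exact h2
    have hq1 : (u ^ i) ^ q = 1 := by
      rw [← zpow_natCast, ← zpow_mul, mul_comm, zpow_mul, zpow_natCast, ← hu, pow_orderOf_eq_one, one_zpow]
    have h3 := (pow_gcd_eq_one (a := u ^ i)).2 ⟨hq1, hr1⟩
    rw [hqr, pow_one] at h3
    exact Subtype.ext (by show v = w; rw [hwe, h3, mul_one])
  · rintro ⟨c, hc⟩
    obtain ⟨⟨w, hw⟩, rfl⟩ := QuotientGroup.mk_surjective c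
    have hwr : w ^ r ∈ Subgroup.zpowers u := by
      rw [← QuotientGroup.mk_pow, QuotientGroup.eq_one_iff, Subgroup.mem_subgroupOf, Subgroup.coe_pow] at hc
      exact hc
    refine ⟨⟨w ^ (y * q), C.zpow_mem hw _, ?_⟩, Subtype.ext ?_⟩
    · obtain ⟨i, hi⟩ := hwr
      have hi : u ^ i = w ^ r := hi
      rw [← zpow_natCast, ← zpow_mul, show y * (q : ℤ) * r = r * (y * q) by ring, zpow_mul, zpow_natCast,
        ← hi, ← zpow_mul, show i * (y * (q : ℤ)) = q * (i * y) by ring, zpow_mul, zpow_natCast, ← hu,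
        pow_orderOf_eq_one, one_zpow]
    · show ((⟨w ^ (y * (q : ℤ)), _⟩ : C) : C ⧸ U) = ((⟨w, hw⟩ : C) : C ⧸ U)
      rw [show (⟨w ^ (y * (q : ℤ)), C.zpow_mem hw _⟩ : C) = (⟨w, hw⟩ : C) ^ (y * (q : ℤ)) from rfl,
        QuotientGroup.mk_zpow]
      conv_rhs => rw [← zpow_one ((⟨w, hw⟩ : C) : C ⧸ U), ← hxy, zpow_add]
      rw [mul_comm x, zpow_mul _ (r : ℤ), zpow_natCast _ r, hc, one_zpow, mul_one]

/-- Elements whose order has `p`-part exactly `q` as products of commuting parts. -/
theorem card_ppart [Finite G] {p b r : ℕ} [Fact p.Prime] (hr : ¬ p ∣ r) :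
    Nat.card {g : G // g ^ (p ^ (b + 1) * r) = 1 ∧ g ^ (p ^ b * r) ≠ 1} =
      Nat.card (Σ u : {u : G // orderOf u = p ^ (b + 1)},
        {v : G // v ∈ Subgroup.centralizer ({u.1} : Set G) ∧ v ^ r = 1}) := by
  have hp : p.Prime := Fact.out
  set q := p ^ (b + 1) with hq
  obtain ⟨y, x, hxy⟩ : IsCoprime (q : ℤ) (r : ℤ) :=
    Int.isCoprime_iff_gcd_eq_one.2 ((hp.coprime_iff_not_dvd.2 hr).pow_left _)
  have hne : ∀ z : G, orderOf z = q → z ^ (p ^ b) ≠ 1 := fun z hz h => by
    have h1 := orderOf_dvd_of_pow_eq_one h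
    rw [hz, hq] at h1
    have := (Nat.pow_dvd_pow_iff_le_right hp.one_lt).1 h1
    omega
  symm
  refine Nat.card_eq_of_bijective (fun t => ⟨t.1.1 * t.2.1, ?_, ?_⟩) ⟨?_, ?_⟩
  · obtain ⟨⟨u, hu⟩, ⟨v, hv, hvr⟩⟩ := t
    have hc : Commute u v := (Subgroup.mem_centralizer_singleton_iff.1 hv).symm
    show (u * v) ^ (q * r) = 1
    rw [hc.mul_pow, pow_mul, ← hu, pow_orderOf_eq_one, one_pow, one_mul, mul_comm, pow_mul, hvr, one_pow]
  · obtain ⟨⟨u, hu⟩, ⟨v, hv, hvr⟩⟩ := t
    have hc : Commute u v := (Subgroup.mem_centralizer_singleton_iff.1 hv).symm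
    show (u * v) ^ (p ^ b * r) ≠ 1
    rw [hc.mul_pow, mul_comm (p ^ b), pow_mul v, hvr, one_pow, mul_one]
    intro h
    refine hne u hu ?_
    have h1 : (u ^ p ^ b) ^ r = 1 := by rw [← pow_mul, mul_comm]; exact h
    have h2 : (u ^ p ^ b) ^ p = 1 := by rw [← pow_mul, ← pow_succ, ← hq, ← hu, pow_orderOf_eq_one]
    have h3 := (pow_gcd_eq_one (a := u ^ p ^ b)).2 ⟨h2, h1⟩
    rwa [(hp.coprime_iff_not_dvd.2 hr : p.gcd r = 1), pow_one] at h3
  · rintro ⟨⟨u, hu⟩, ⟨v, hv, hvr⟩⟩ ⟨⟨u', hu'⟩, ⟨v', hv', hvr'⟩⟩ h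
    have h : u * v = u' * v' := congrArg Subtype.val h
    have key : ∀ u v : G, orderOf u = q → v ∈ Subgroup.centralizer ({u} : Set G) → v ^ r = 1 →
        (u * v) ^ (x * (r : ℤ)) = u := by
      intro u v hu hv hvr
      have hc : Commute u v := (Subgroup.mem_centralizer_singleton_iff.1 hv).symm
      have e1 : v ^ (x * (r : ℤ)) = 1 := by rw [mul_comm, zpow_mul, zpow_natCast, hvr, one_zpow]
      have e2 : u ^ (y * (q : ℤ)) = 1 := by
        rw [mul_comm, zpow_mul, zpow_natCast, ← hu, pow_orderOf_eq_one, one_zpow]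
      rw [hc.mul_zpow, e1, mul_one]
      conv_rhs => rw [← zpow_one u, ← hxy, zpow_add, e2, one_mul]
    have huu : u = u' := by rw [← key u v hu hv hvr, h, key u' v' hu' hv' hvr']
    subst huu
    have hvv : v = v' := mul_left_cancel h
    subst hvv
    rfl
  · rintro ⟨g, hg, hgm⟩
    have hqu : (g ^ (x * (r : ℤ))) ^ q = 1 := by
      rw [← zpow_natCast, ← zpow_mul, show x * (r : ℤ) * q = ((q * r : ℕ) : ℤ) * x by push_cast; ring,
        zpow_mul, zpow_natCast, hg, one_zpow]
    have hou : orderOf (g ^ (x * (r : ℤ))) = q := by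
      refine orderOf_eq_prime_pow ?_ hqu
      intro h
      refine hgm ?_
      rw [← zpow_natCast, ← zpow_mul] at h
      have h2 : g ^ ((((q * r : ℕ) : ℤ)) * (y * (p ^ b : ℕ))) = 1 := by
        rw [zpow_mul, zpow_natCast, hg, one_zpow]
      rw [← zpow_natCast, show ((p ^ b * r : ℕ) : ℤ) = x * r * (p ^ b : ℕ) * r + ((q * r : ℕ) : ℤ) * (y * (p ^ b : ℕ)) by
        push_cast; linear_combination -((p : ℤ) ^ b * r) * hxy, zpow_add, h2, mul_one, zpow_mul, h, one_zpow]
    refine ⟨⟨⟨_, hou⟩, ⟨g ^ (y * (q : ℤ)), ?_, ?_⟩⟩, Subtype.ext ?_⟩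
    · exact Subgroup.mem_centralizer_singleton_iff.2 ((Commute.refl g).zpow_zpow _ _).eq
    · rw [← zpow_natCast, ← zpow_mul, show y * (q : ℤ) * r = ((q * r : ℕ) : ℤ) * y by push_cast; ring,
        zpow_mul, zpow_natCast, hg, one_zpow]
    · show g ^ (x * (r : ℤ)) * g ^ (y * (q : ℤ)) = g
      rw [← zpow_add, add_comm, hxy, zpow_one]

theorem totient_dvd_card_of_order [Finite G] {d : ℕ} (S : Set G)
    (hS : ∀ g ∈ S, d ∣ orderOf g) (hcl : ∀ g ∈ S, ∀ h, Subgroup.zpowers h = Subgroup.zpowers g → h ∈ S) :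
    Nat.totient d ∣ Nat.card S := by
  classical
  have := Fintype.ofFinite G
  rw [Nat.card_coe_set_eq, Set.ncard_eq_toFinset_card',
    Finset.card_eq_sum_card_fiberwise (f := fun g : G => Subgroup.zpowers g)
      (t := S.toFinset.image fun g => Subgroup.zpowers g) (fun g hg => Finset.mem_image_of_mem _ hg)]
  refine Finset.dvd_sum fun D hD => ?_
  obtain ⟨g, hg, rfl⟩ := Finset.mem_image.1 hD
  rw [Set.mem_toFinset] at hg
  refine (Nat.totient_dvd_of_dvd (hS g hg)).trans (dvd_of_eq ?_)
  have := Fintype.ofFinite (Subgroup.zpowers g)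
  rw [← IsCyclic.card_orderOf_eq_totient (α := Subgroup.zpowers g) (d := orderOf g)
    (by rw [Fintype.card_eq_nat_card, Nat.card_zpowers])]
  refine Finset.card_bij (fun h _ => (h : G)) ?_ (fun a _ b _ e => Subtype.ext e) ?_
  · intro h hh
    rw [Finset.mem_filter] at hh
    have he : Subgroup.zpowers (h : G) = Subgroup.zpowers g :=
      Subgroup.eq_of_le_of_card_ge (Subgroup.zpowers_le.2 h.2)
        (by rw [Nat.card_zpowers, Nat.card_zpowers, Subgroup.orderOf_coe, hh.2])
    exact Finset.mem_filter.2 ⟨Set.mem_toFinset.2 (hcl g hg _ he), he⟩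
  · intro h hh
    rw [Finset.mem_filter] at hh
    refine ⟨⟨h, hh.2 ▸ Subgroup.mem_zpowers h⟩, Finset.mem_filter.2 ⟨Finset.mem_univ _, ?_⟩, rfl⟩
    rw [Subgroup.orderOf_mk, ← Nat.card_zpowers, hh.2, Nat.card_zpowers]

theorem frobenius_aux (n : ℕ) : ∀ {G : Type u} [Group G] [Finite G], Nat.card G = n →
    ∀ m : ℕ, m ∣ n → m ∣ Nat.card {g : G // g ^ m = 1} := by
  induction n using Nat.strong_induction_on with
  | _ n ih =>
    intro G _ _ hn
    suffices h : ∀ k m : ℕ, m * k = n → m ∣ Nat.card {g : G // g ^ m = 1} by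
      rintro m ⟨k, hk⟩; exact h k m hk.symm
    intro k
    induction k using Nat.strong_induction_on with
    | _ k ihk =>
      intro m hmk
      have hn0 : 0 < n := hn ▸ Nat.card_pos
      by_cases hk1 : k = 1
      · subst hk1
        rw [mul_one] at hmk
        subst hmk
        rw [Nat.card_congr (Equiv.subtypeUnivEquiv fun g : G => hn ▸ pow_card_eq_one'), hn]
      obtain ⟨p, hp, k', rfl⟩ := Nat.exists_prime_and_dvd hk1
      have hk' : 0 < k' := Nat.pos_of_ne_zero fun h => by subst h; simp at hmk; omega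
      have hbig := ihk k' (lt_mul_of_one_lt_left hk' hp.one_lt) (m * p) (by rw [← hmk, mul_assoc])
      have := Fact.mk hp
      have hm0 : m ≠ 0 := by rintro rfl; simp at hmk; omega
      obtain ⟨b, r, hr, rfl⟩ := Nat.exists_eq_pow_mul_and_not_dvd hm0 p hp.ne_one
      have hmp : p ^ b * r * p = p ^ (b + 1) * r := by rw [pow_succ]; ring
      rw [hmp] at hbig
      set S : Set G := {g | g ^ (p ^ (b + 1) * r) = 1 ∧ g ^ (p ^ b * r) ≠ 1}
      have hsum : Nat.card {g : G // g ^ (p ^ (b + 1) * r) = 1} =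
          Nat.card {g : G // g ^ (p ^ b * r) = 1} + Nat.card S := by
        have hdis : Disjoint {g : G | g ^ (p ^ b * r) = 1} S := Set.disjoint_left.2 fun g h1 h2 => h2.2 h1
        have he : {g : G | g ^ (p ^ (b + 1) * r) = 1} = {g : G | g ^ (p ^ b * r) = 1} ∪ S := by
          ext g
          simp only [Set.mem_union, Set.mem_ofPred_eq, S]
          constructor
          · intro h; by_cases h' : g ^ (p ^ b * r) = 1 <;> simp [h, h']
          · rintro (h | h)
            · rw [show p ^ (b + 1) * r = p ^ b * r * p by rw [pow_succ]; ring, pow_mul, h, one_pow]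
            · exact h.1
        show Nat.card ({g : G | g ^ (p ^ (b + 1) * r) = 1} : Set G) =
          Nat.card ({g : G | g ^ (p ^ b * r) = 1} : Set G) + Nat.card S
        rw [Nat.card_coe_set_eq, Nat.card_coe_set_eq, Nat.card_coe_set_eq, he]
        exact Set.ncard_union_eq hdis (Set.toFinite _) (Set.toFinite _)
      suffices hS : p ^ b * r ∣ Nat.card S by
        have h1 : p ^ b * r ∣ Nat.card {g : G // g ^ (p ^ (b + 1) * r) = 1} :=
          (mul_dvd_mul_right (pow_dvd_pow p (Nat.le_succ b)) r).trans hbig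
        rw [hsum] at h1
        exact (Nat.dvd_add_left hS).1 h1
      have hcopr : p.Coprime r := hp.coprime_iff_not_dvd.2 hr
      refine (hcopr.pow_left b).mul_dvd_of_dvd_of_dvd ?_ ?_
      · -- the `p`-part
        refine Dvd.dvd.trans ?_ (totient_dvd_card_of_order (d := p ^ (b + 1)) S ?_ ?_)
        · rw [Nat.totient_prime_pow_succ hp]; exact dvd_mul_right _ _
        · rintro g ⟨hg, hgm⟩
          by_contra hno
          refine hgm (orderOf_dvd_iff_pow_eq_one.1 ?_)
          have hd := orderOf_dvd_of_pow_eq_one hg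
          obtain ⟨c, c', hc', hcc⟩ := Nat.exists_eq_pow_mul_and_not_dvd (orderOf_pos g).ne' p hp.ne_one
          rw [hcc] at hd hno ⊢
          have hcb : c ≤ b := by
            by_contra h
            exact hno ((pow_dvd_pow p (by omega)).mul_right c')
          have hc'r : c' ∣ r :=
            ((hp.coprime_iff_not_dvd.2 hc').pow_left (b + 1)).symm.dvd_of_dvd_mul_left
              ((dvd_mul_left c' _).trans hd)
          exact mul_dvd_mul (pow_dvd_pow p hcb) hc'r
        · rintro g ⟨hg, hgm⟩ h hh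
          have ho : orderOf h = orderOf g := by rw [← Nat.card_zpowers, hh, Nat.card_zpowers]
          exact ⟨orderOf_dvd_iff_pow_eq_one.1 (ho ▸ orderOf_dvd_iff_pow_eq_one.2 hg),
            fun e => hgm (orderOf_dvd_iff_pow_eq_one.1 (ho ▸ orderOf_dvd_iff_pow_eq_one.2 e))⟩
      · -- the part prime to `p`
        classical
        have := Fintype.ofFinite G
        have : Fintype {u : G // orderOf u = p ^ (b + 1)} := Fintype.ofFinite _
        rw [show Nat.card S = _ from card_ppart (G := G) (p := p) (b := b) hr, Nat.card_sigma]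
        rw [← Finset.sum_fiberwise_of_maps_to
          (g := fun u : {u : G // orderOf u = p ^ (b + 1)} => ConjClasses.mk u.1)
          (t := Finset.univ.image fun u : {u : G // orderOf u = p ^ (b + 1)} => ConjClasses.mk u.1)
          (fun u _ => Finset.mem_image_of_mem _ (Finset.mem_univ u))]
        refine Finset.dvd_sum fun K hK => ?_
        obtain ⟨u, -, rfl⟩ := Finset.mem_image.1 hK
        set C := Subgroup.centralizer ({u.1} : Set G) with hC
        have hconst : ∀ w ∈ Finset.univ.filter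
            (fun w : {u : G // orderOf u = p ^ (b + 1)} => ConjClasses.mk w.1 = ConjClasses.mk u.1),
            Nat.card {v : G // v ∈ Subgroup.centralizer ({w.1} : Set G) ∧ v ^ r = 1} =
              Nat.card {v : G // v ∈ C ∧ v ^ r = 1} := by
          intro w hw
          rw [Finset.mem_filter, ConjClasses.mk_eq_mk_iff_isConj, isConj_iff] at hw
          obtain ⟨-, c, hc⟩ := hw
          refine Nat.card_congr ((MulAut.conj c).toEquiv.subtypeEquiv fun v => ?_)
          show _ ↔ c * v * c⁻¹ ∈ C ∧ (c * v * c⁻¹) ^ r = 1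
          rw [hC, Subgroup.mem_centralizer_singleton_iff, Subgroup.mem_centralizer_singleton_iff, ← hc,
            conj_pow, conj_eq_one_iff]
          constructor
          · rintro ⟨h1, h2⟩
            exact ⟨by rw [show c * v * c⁻¹ * (c * w.1 * c⁻¹) = c * (v * w.1) * c⁻¹ by group, h1]; group, h2⟩
          · rintro ⟨h1, h2⟩
            refine ⟨?_, h2⟩
            rw [show c * v * c⁻¹ * (c * w.1 * c⁻¹) = c * (v * w.1) * c⁻¹ by group,
              show c * w.1 * c⁻¹ * (c * v * c⁻¹) = c * (w.1 * v) * c⁻¹ by group] at h1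
            exact mul_left_cancel (mul_right_cancel h1)
        rw [Finset.sum_congr rfl hconst, Finset.sum_const, smul_eq_mul]
        have hfib : (Finset.univ.filter
            (fun w : {u : G // orderOf u = p ^ (b + 1)} => ConjClasses.mk w.1 = ConjClasses.mk u.1)).card =
            C.index := by
          rw [hC, ← class_ncard u.1, Set.ncard_eq_toFinset_card']
          refine Finset.card_bij (fun w _ => w.1) ?_ (fun a _ b _ e => Subtype.ext e) ?_
          · intro w hw
            rw [Finset.mem_filter] at hw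
            rw [Set.mem_toFinset, ConjClasses.mem_carrier_iff_mk_eq]
            exact hw.2
          · intro g hg
            rw [Set.mem_toFinset, ConjClasses.mem_carrier_iff_mk_eq] at hg
            obtain ⟨c, hc⟩ := isConj_iff.1 (ConjClasses.mk_eq_mk_iff_isConj.1 hg)
            have : orderOf g = p ^ (b + 1) := by
              rw [← u.2, ← hc]
              exact (MulEquiv.orderOf_eq (MulAut.conj c) g).symm
            exact ⟨⟨g, this⟩, Finset.mem_filter.2 ⟨Finset.mem_univ _, hg⟩, rfl⟩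
        rw [hfib]
        have hle : Subgroup.zpowers u.1 ≤ C :=
          Subgroup.zpowers_le.2 (Subgroup.mem_centralizer_singleton_iff.2 rfl)
        have hUn : ((Subgroup.zpowers u.1).subgroupOf C).Normal := ⟨fun t ht g => by
          obtain ⟨i, hi⟩ := (ht : (t : G) ∈ Subgroup.zpowers u.1)
          refine ⟨i, ?_⟩
          show u.1 ^ i = (g : G) * t * (g : G)⁻¹
          have hi : u.1 ^ i = t := hi
          rw [← hi, (Commute.zpow_right (Subgroup.mem_centralizer_singleton_iff.1 g.2) i).eq,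
            mul_inv_cancel_right]⟩
        rw [card_centralizer_solutions u.2 (hcopr.pow_left _)]
        set Q := C ⧸ (Subgroup.zpowers u.1).subgroupOf C
        have hcard : p ^ (b + 1) * Nat.card Q = Nat.card C := by
          rw [← Subgroup.index_eq_card, ← ((Subgroup.zpowers u.1).subgroupOf C).card_mul_index,
            card_subgroupOf hle, Nat.card_zpowers, u.2]
        have hlt : Nat.card Q < n := by
          refine lt_of_lt_of_le ?_ (hn ▸ Subgroup.card_le_card_group C)
          rw [← hcard]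
          exact lt_mul_of_one_lt_left Nat.card_pos (Nat.one_lt_pow (Nat.succ_ne_zero b) hp.one_lt)
        have hrn : r ∣ C.index * Nat.card Q := by
          have h1 : p ^ (b + 1) * r ∣ p ^ (b + 1) * (C.index * Nat.card Q) := by
            rw [mul_left_comm, hcard, mul_comm C.index, C.card_mul_index, hn]
            exact ⟨k', by rw [← hmk]; ring⟩
          exact Nat.dvd_of_mul_dvd_mul_left (pow_pos hp.pos _) h1
        have h2 : r ∣ C.index * r.gcd (Nat.card Q) := by
          rw [← Nat.gcd_mul_left]; exact Nat.dvd_gcd (dvd_mul_left _ _) hrn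
        refine h2.trans (mul_dvd_mul_left _ ?_)
        rw [Nat.card_congr (Equiv.subtypeEquivRight fun c : Q =>
          (⟨fun h => pow_gcd_eq_one.2 ⟨h, pow_card_eq_one'⟩, fun h => by
            obtain ⟨t, ht⟩ := Nat.gcd_dvd_left r (Nat.card Q)
            rw [ht, pow_mul, h, one_pow]⟩ : c ^ r = 1 ↔ c ^ r.gcd (Nat.card Q) = 1))]
        exact ih _ hlt rfl _ (Nat.gcd_dvd_right _ _)

theorem frobenius_dvd [Finite G] (m : ℕ) (hm : m ∣ Nat.card G) :
    m ∣ Nat.card {g : G // g ^ m = 1} := frobenius_aux _ rfl m hm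

end Cfsg.Agent.Solv
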