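import Cfsg.Agent.Lib.Solv.AutomizerPrimes.Basic

/-!
Extensions of `p`-solvable groups by `p`-solvable groups.
-/

set_option autoImplicit false

namespace Cfsg.Agent.Solv

open Cfsg

universe u

theorem isPSolvable_top_step {p : ℕ} [Fact p.Prime] {G : Type*} [Group G]
    (h : IsPGroup p G ∨ (Nat.card G).Coprime p) [Finite G] : IsPSolvable p G := by
  refine ⟨1, fun i => if i = 0 then ⊥ else ⊤, by simp, by simp, fun i j hij => ?_, fun i => ?_, fun i => ?_⟩
  · fin_cases i <;> fin_cases j <;> simp_all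
  · dsimp only; split_ifs <;> infer_instance
  · fin_cases i
    rcases h with h | h
    · obtain ⟨m, hm⟩ := IsPGroup.iff_card.1 h
      exact Or.inl ⟨m, by simpa [Subgroup.relIndex_bot_left] using hm⟩
    · exact Or.inr (by simpa [Subgroup.relIndex_bot_left] using h)

/-- `p`-solvability passes through extensions. -/
theorem isPSolvable_of_extension {p : ℕ} [Fact p.Prime] : ∀ {G : Type u} [Group G] [Finite G] (N : Subgroup G)
    [N.Normal], IsPSolvable p ↥N → IsPSolvable p (G ⧸ N) → IsPSolvable p G := by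
  suffices h : ∀ (n : ℕ) {G : Type u} [Group G] [Finite G] (N : Subgroup G) [N.Normal], Nat.card G = n →
      IsPSolvable p ↥N → IsPSolvable p (G ⧸ N) → IsPSolvable p G from fun {G} _ _ N _ => h _ N rfl
  intro n
  induction n using Nat.strong_induction_on with
  | _ n ih =>
  intro G _ _ N _ hn hN hQ
  rcases eq_or_ne N ⊥ with rfl | hne
  · exact Local.FS.isPSolvable_of_equiv (QuotientGroup.quotientBot (G := G)) hQ
  obtain ⟨M₀, hM₀, hM₀ne, hM₀t⟩ : ∃ M₀ : Subgroup N, M₀.Normal ∧ M₀ ≠ ⊥ ∧
      (IsPGroup p M₀ ∨ (Nat.card M₀).Coprime p) := by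
    obtain ⟨m, H, h0, hl, -, hnor, hstep⟩ := hN
    by_contra hno
    have key : ∀ i : Fin (m + 1), H i = ⊥ := by
      intro i
      induction i using Fin.induction with
      | zero => exact h0
      | succ i hi =>
        by_contra hb
        refine hno ⟨H i.succ, hnor _, hb, ?_⟩
        rcases hstep i with ⟨k, hk⟩ | hc
        · rw [hi, Subgroup.relIndex_bot_left] at hk
          exact Or.inl (IsPGroup.of_card hk)
        · rw [hi, Subgroup.relIndex_bot_left] at hc
          exact Or.inr hc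
    have h1 := hl.symm.trans (key _)
    exact hne ((Subgroup.eq_bot_iff_forall _).2 fun x hx =>
      congrArg Subtype.val (Subgroup.mem_bot.1 (h1.le (Subgroup.mem_top (⟨x, hx⟩ : N)))))
  obtain ⟨M₁, hM₁c, hM₁t, hle⟩ : ∃ M₁ : Subgroup N, M₁.Characteristic ∧
      (IsPGroup p M₁ ∨ (Nat.card M₁).Coprime p) ∧ M₀ ≤ M₁ := by
    rcases hM₀t with h | h
    · exact ⟨pCore p N, inferInstance, Or.inl (Fusion.isPGroup_pCore p N), Fusion.le_pCore h⟩
    · exact ⟨pPrimeCore p N, inferInstance, Or.inr (Fusion.card_pPrimeCore_coprime p N), Fusion.le_pPrimeCore h⟩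
  obtain ⟨M, hM⟩ : ∃ M, M = M₁.map N.subtype := ⟨_, rfl⟩
  haveI : M.Normal := hM ▸ ConjAct.normal_of_characteristic_of_normal
  have hcard : Nat.card M = Nat.card M₁ := hM ▸ Subgroup.card_map_of_injective N.subtype_injective
  have hMne : M ≠ ⊥ := fun h => hM₀ne (le_bot_iff.1 (hle.trans
    ((Subgroup.map_eq_bot_iff_of_injective _ N.subtype_injective).1 (hM ▸ h)).le))
  haveI : (N.map (QuotientGroup.mk' M)).Normal := Subgroup.Normal.map inferInstance _ (QuotientGroup.mk'_surjective M)
  have hlt : Nat.card (G ⧸ M) < n := by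
    have h1 := Subgroup.card_eq_card_quotient_mul_card_subgroup M
    have h2 : 1 < Nat.card M := (Subgroup.one_lt_card_iff_ne_bot M).2 hMne
    have h3 : 0 < Nat.card (G ⧸ M) := Nat.card_pos
    nlinarith
  have hN' : IsPSolvable p ↥(N.map (QuotientGroup.mk' M)) :=
    isPSolvable_map Fact.out hN ((QuotientGroup.mk' M).subgroupMap N) ((QuotientGroup.mk' M).subgroupMap_surjective N)
  have hMN : M ≤ N := hM ▸ Subgroup.map_subtype_le _
  have hQ' : IsPSolvable p ((G ⧸ M) ⧸ N.map (QuotientGroup.mk' M)) :=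
    Local.FS.isPSolvable_of_equiv (QuotientGroup.quotientQuotientEquivQuotient M N hMN).symm hQ
  have hGM := ih _ hlt (G := G ⧸ M) (N.map (QuotientGroup.mk' M)) rfl hN' hQ'
  rcases hM₁t with h | h
  · refine Local.FS.isPSolvable_of_pgroup_quotient M ?_ hGM
    rw [hM]; exact h.map _
  · exact AutomizerPrimes.isPSolvable_of_coprime_quotient M (hcard ▸ h) hGM

end Cfsg.Agent.Solv
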