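import Cfsg.Agent.Lib.Solv.OneClassBasic

/-!
# Solvability when `G' \ N` is one class

A Sylow subgroup shows that `N` has a normal `p`-complement on which `g` acts fixed-point-freely,
and that `g` has order `p`, or order dividing four when `p = 2`.
-/

set_option autoImplicit false
set_option linter.unusedSectionVars false
set_option linter.style.haveILetI false

open scoped commutatorElement

namespace Cfsg.Agent.Solv.OneClass.Data

universe u

variable {G : Type u} [Group G] [Finite G] {N : Subgroup G} [N.Normal] {g : G}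

omit [Finite G] in
/-- Powers of a product in class two. -/
theorem mul_pow_class_two {c a b : G} (hc : ∀ x, Commute c x) (hba : b * a = c * (a * b)) (n : ℕ) :
    (a * b) ^ n = a ^ n * b ^ n * c ^ (n.choose 2) := by
  have hb : ∀ n : ℕ, b ^ n * a = c ^ n * (a * b ^ n) := by
    intro n
    induction n with
    | zero => simp
    | succ n ih =>
      calc b ^ (n + 1) * a = b ^ n * (b * a) := by rw [pow_succ, mul_assoc]
        _ = b ^ n * c * (a * b) := by rw [hba, mul_assoc]
        _ = c * (b ^ n * a) * b := by rw [← (hc (b ^ n)).eq]; group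
        _ = c * (c ^ n * (a * b ^ n)) * b := by rw [ih]
        _ = c ^ (n + 1) * (a * b ^ (n + 1)) := by rw [pow_succ' c n, pow_succ b n]; simp only [mul_assoc]
  induction n with
  | zero => simp
  | succ n ih =>
    have hch : (n + 1).choose 2 = n + n.choose 2 := by
      rw [show (2 : ℕ) = 1 + 1 from rfl, Nat.choose_succ_succ, Nat.choose_one_right]
    calc (a * b) ^ (n + 1) = a ^ n * b ^ n * (c ^ (n.choose 2) * (a * b)) := by rw [pow_succ, ih, mul_assoc]
      _ = a ^ n * (b ^ n * a) * (b * c ^ (n.choose 2)) := by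
          rw [((hc (a * b)).pow_left _).eq]; simp only [mul_assoc]
      _ = a ^ n * (c ^ n * (a * b ^ n)) * (b * c ^ (n.choose 2)) := by rw [hb]
      _ = a ^ n * ((a * b ^ n) * c ^ n) * (b * c ^ (n.choose 2)) := by rw [((hc (a * b ^ n)).pow_left n).eq]
      _ = a ^ n * (a * b ^ n) * (c ^ n * b) * c ^ (n.choose 2) := by simp only [mul_assoc]
      _ = a ^ n * (a * b ^ n) * (b * c ^ n) * c ^ (n.choose 2) := by rw [((hc b).pow_left n).eq]
      _ = a ^ (n + 1) * b ^ (n + 1) * c ^ ((n + 1).choose 2) := by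
          rw [hch, pow_succ a n, pow_succ b n, pow_add]; simp only [mul_assoc]

/-- The Sylow data. -/
structure Setup (_d : Data N g) (p : ℕ) (S : Sylow p G) : Prop where
  exp : ∀ a ∈ commutator G, a ^ p ∈ N
  two : N.relIndex (commutator G) = 2 → p = 2
  cent_le : Subgroup.centralizer ({g} : Set G) ≤ (S : Subgroup G)
  card : Nat.card (S : Subgroup G) =
    Nat.card (Subgroup.centralizer ({g} : Set G)) * Nat.card (N.subgroupOf (S : Subgroup G))
  le : 2 < N.relIndex (commutator G) → (S : Subgroup G) ≤ commutator G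

variable (d : Data N g)
include d

theorem card_cent_two (hm : N.relIndex (commutator G) = 2) :
    Nat.card (Subgroup.centralizer ({g} : Set G)) = N.index := by
  have h := d.card_cent
  rw [hm, show (2 : ℕ) - 1 = 1 from rfl, mul_one] at h
  rw [h, ← Subgroup.relIndex_mul_index d.le, hm, mul_comm]

theorem card_cent_gt (hm : 2 < N.relIndex (commutator G)) :
    Nat.card (Subgroup.centralizer ({g} : Set G)) = N.relIndex (commutator G) := by
  have h := d.card_cent
  rw [d.index_eq hm, mul_comm (N.relIndex (commutator G) - 1)] at h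
  exact Nat.eq_of_mul_eq_mul_right (by omega) h

theorem exists_setup : ∃ (p : ℕ) (_ : Fact p.Prime) (S : Sylow p G), d.Setup p S := by
  obtain ⟨p, hp, hexp⟩ := d.exists_prime
  haveI : Fact p.Prime := ⟨hp⟩
  have hpg : IsPGroup p (↥(commutator G) ⧸ N.subgroupOf (commutator G)) := by
    intro q
    induction q using QuotientGroup.induction_on with | H a =>
    refine ⟨1, ?_⟩
    rw [pow_one, ← QuotientGroup.mk_pow, QuotientGroup.eq_one_iff, Subgroup.mem_subgroupOf,
      Subgroup.coe_pow]
    exact hexp a a.2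
  obtain ⟨k, hk⟩ := IsPGroup.iff_card.mp hpg
  rw [← Subgroup.index_eq_card] at hk
  change N.relIndex (commutator G) = p ^ k at hk
  have h2 := d.m_ge_two
  have htwo : N.relIndex (commutator G) = 2 → p = 2 := by
    intro hm
    have hk0 : k ≠ 0 := fun h => by rw [h, pow_zero] at hk; omega
    have : p ∣ 2 := by rw [← hm, hk]; exact dvd_pow_self p hk0
    exact (Nat.prime_dvd_prime_iff_eq hp Nat.prime_two).1 this
  set C := Nat.card (Subgroup.centralizer ({g} : Set G)) with hC
  obtain ⟨j, t, hCj, hidx, hpt⟩ : ∃ j t, C = p ^ j ∧ N.index = C * t ∧ ¬ p ∣ t := by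
    rcases eq_or_lt_of_le h2 with hm | hm
    · have hp2 : p = 2 := htwo hm.symm
      haveI : Fact (Nat.Prime 2) := ⟨Nat.prime_two⟩
      obtain ⟨j, hj⟩ := IsPGroup.iff_card.mp (d.two_group hm.symm)
      refine ⟨j, 1, ?_, ?_, hp.not_dvd_one⟩
      · rw [hC, d.card_cent_two hm.symm, Subgroup.index_eq_card, hj, hp2]
      · rw [mul_one, hC, d.card_cent_two hm.symm]
    · refine ⟨k, (commutator G).index, by rw [hC, d.card_cent_gt hm, hk], ?_, ?_⟩
      · rw [hC, d.card_cent_gt hm, Subgroup.relIndex_mul_index d.le]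
      · rw [d.index_eq hm, hk]
        intro hdvd
        have hk0 : k ≠ 0 := fun h => by rw [h, pow_zero] at hk; omega
        have hpk : p ∣ p ^ k := dvd_pow_self p hk0
        have hpos := Nat.one_le_pow k p hp.pos
        have : p ∣ 1 := by simpa [show p ^ k - (p ^ k - 1) = 1 by omega] using Nat.dvd_sub hpk hdvd
        exact hp.not_dvd_one this
  obtain ⟨S, hS⟩ := (IsPGroup.of_card hCj).exists_le_sylow
  refine ⟨p, ⟨hp⟩, S, hexp, htwo, hS, ?_, fun hm => ?_⟩
  · obtain ⟨a, ha⟩ := IsPGroup.iff_card.mp S.isPGroup'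
    obtain ⟨b, hb⟩ := IsPGroup.iff_card.mp (S.isPGroup'.to_subgroup (N.subgroupOf (S : Subgroup G)))
    have h3 := (N.subgroupOf (S : Subgroup G)).card_mul_index
    obtain ⟨r, hr⟩ := IsPGroup.index (S.isPGroup') (N.subgroupOf (S : Subgroup G))
    rw [ha, hb, hr, ← pow_add] at h3
    have hab : b + r = a := Nat.pow_right_injective hp.two_le h3
    have hrd : p ^ r ∣ N.index := hr ▸ Subgroup.relIndex_dvd_index_of_normal N (S : Subgroup G)
    rw [hidx, hCj] at hrd
    have hrj : r ≤ j := (Nat.pow_dvd_pow_iff_le_right hp.one_lt).1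
      (((hp.coprime_iff_not_dvd.2 hpt).pow_left r).dvd_of_dvd_mul_right hrd)
    have hbd : p ^ b ∣ Nat.card N := by
      rw [← hb, ← Subgroup.inf_subgroupOf_right,
        Nat.card_congr (Subgroup.subgroupOfEquivOfLe (inf_le_right : N ⊓ (S : Subgroup G) ≤ S)).toEquiv]
      exact Subgroup.card_dvd_of_le inf_le_left
    have h4 : p ^ (j + b) ∣ Nat.card G := by
      rw [← N.card_mul_index, hidx, hCj, pow_add, mul_comm (p ^ j) (p ^ b)]
      exact mul_dvd_mul hbd (dvd_mul_right _ _)
    have h5 : j + b ≤ a := by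
      rw [S.card_eq_multiplicity] at ha
      have := (hp.pow_dvd_iff_le_factorization Nat.card_pos.ne').1 h4
      rwa [Nat.pow_right_injective hp.two_le ha] at this
    rw [ha, hb, ← hC, hCj, ← pow_add]
    congr 1
    omega
  · intro x hx
    obtain ⟨r, hr⟩ := IsPGroup.index S.isPGroup' ((commutator G).subgroupOf (S : Subgroup G))
    have hrd : p ^ r ∣ (commutator G).index :=
      hr ▸ Subgroup.relIndex_dvd_index_of_normal (commutator G) (S : Subgroup G)
    have hr0 : r = 0 := by
      by_contra hne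
      rw [d.index_eq hm, hk] at hrd
      have hk0 : k ≠ 0 := fun h => by rw [h, pow_zero] at hk; omega
      have h6 : p ∣ p ^ k - 1 := (dvd_pow_self p hne).trans hrd
      have hpos := Nat.one_le_pow k p hp.pos
      have : p ∣ 1 := by
        simpa [show p ^ k - (p ^ k - 1) = 1 by omega] using Nat.dvd_sub (dvd_pow_self p hk0) h6
      exact hp.not_dvd_one this
    rw [hr0, pow_zero, Subgroup.index_eq_one] at hr
    exact Subgroup.subgroupOf_eq_top.1 hr hx

variable {p : ℕ} [hp : Fact p.Prime] {S : Sylow p G} (hS : d.Setup p S)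
include hS

theorem g_mem : g ∈ (S : Subgroup G) := hS.cent_le (Subgroup.mem_centralizer_singleton_iff.2 rfl)

theorem comm_mem {s a : G} (hs : s ∈ (S : Subgroup G)) (ha : a ∈ commutator G) : ⁅s, a⁆ ∈ N := by
  rcases eq_or_lt_of_le d.m_ge_two with hm | hm
  · exact d.central_two hm.symm ha s
  · exact d.comm_le (hS.le hm hs) ha

/-- The classes in `S` outside `N` are cosets of `S ∩ N`. -/
theorem orbit {a : G} (haS : a ∈ (S : Subgroup G)) (haD : a ∈ commutator G) (haN : a ∉ N)
    {n : G} (hn : n ∈ N) (hnS : n ∈ (S : Subgroup G)) :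
    ∃ s ∈ (S : Subgroup G), s * a * s⁻¹ = a * n := by
  set A := (Subgroup.centralizer ({a} : Set G)).subgroupOf (S : Subgroup G) with hA
  have hAle : Nat.card A ≤ Nat.card (Subgroup.centralizer ({g} : Set G)) := by
    have h1 : Nat.card A ≤ Nat.card (Subgroup.centralizer ({a} : Set G)) := by
      rw [hA, ← Subgroup.inf_subgroupOf_right,
        Nat.card_congr (Subgroup.subgroupOfEquivOfLe (inf_le_right :
          Subgroup.centralizer ({a} : Set G) ⊓ (S : Subgroup G) ≤ S)).toEquiv]
      exact Subgroup.card_le_of_le inf_le_left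
    have h2 := Cfsg.Agent.Char.card_conjClass_mul_centralizer g
    have h3 := Cfsg.Agent.Char.card_conjClass_mul_centralizer a
    have hga : IsConj g a := (d.union a haD).resolve_left haN
    have h4 : Nat.card {x : G // IsConj g x} = Nat.card {x : G // IsConj a x} :=
      Nat.card_congr (Equiv.subtypeEquivRight fun x => ⟨fun h => hga.symm.trans h, fun h => hga.trans h⟩)
    rw [← h2, h4] at h3
    haveI : Nonempty {x : G // IsConj a x} := ⟨⟨a, IsConj.refl a⟩⟩
    exact h1.trans (Nat.eq_of_mul_eq_mul_left Nat.card_pos h3).le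
  have hval : ∀ s : (S : Subgroup G), a⁻¹ * ((s : G) * a * (s : G)⁻¹) ∈ N ∧
      a⁻¹ * ((s : G) * a * (s : G)⁻¹) ∈ (S : Subgroup G) := by
    intro s
    refine ⟨?_, (S : Subgroup G).mul_mem ((S : Subgroup G).inv_mem haS)
      ((S : Subgroup G).mul_mem ((S : Subgroup G).mul_mem s.2 haS) ((S : Subgroup G).inv_mem s.2))⟩
    have h := (inferInstance : N.Normal).conj_mem _ (d.comm_mem hS s.2 haD) a⁻¹
    have he : a⁻¹ * ((s : G) * a * (s : G)⁻¹) = a⁻¹ * ⁅(s : G), a⁆ * a⁻¹⁻¹ := by
      simp only [commutatorElement_def]; group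
    rw [he]
    exact h
  let F : (S : Subgroup G) ⧸ A → N.subgroupOf (S : Subgroup G) :=
    Quotient.lift (fun s => ⟨⟨_, (hval s).2⟩, (hval s).1⟩) fun s t h => by
      have h := Subgroup.mem_centralizer_singleton_iff.1 (Subgroup.mem_subgroupOf.1 (QuotientGroup.leftRel_apply.1 h))
      simp only [Subgroup.coe_mul, InvMemClass.coe_inv] at h
      refine Subtype.ext (Subtype.ext ?_)
      show a⁻¹ * ((s : G) * a * (s : G)⁻¹) = a⁻¹ * ((t : G) * a * (t : G)⁻¹)
      calc a⁻¹ * ((s : G) * a * (s : G)⁻¹)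
          = a⁻¹ * ((s : G) * (a * ((s : G)⁻¹ * t)) * (t : G)⁻¹) := by group
        _ = a⁻¹ * ((s : G) * ((s : G)⁻¹ * t * a) * (t : G)⁻¹) := by rw [h]
        _ = _ := by group
  have hinj : Function.Injective F := by
    intro q r h
    induction q using QuotientGroup.induction_on with | H s =>
    induction r using QuotientGroup.induction_on with | H t =>
    have h : a⁻¹ * ((s : G) * a * (s : G)⁻¹) = a⁻¹ * ((t : G) * a * (t : G)⁻¹) :=
      congrArg (fun x : N.subgroupOf (S : Subgroup G) => ((x : (S : Subgroup G)) : G)) h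
    have h := mul_left_cancel h
    refine QuotientGroup.eq.2 (Subgroup.mem_subgroupOf.2 (Subgroup.mem_centralizer_singleton_iff.2 ?_))
    simp only [Subgroup.coe_mul, InvMemClass.coe_inv]
    calc (s : G)⁻¹ * t * a = (s : G)⁻¹ * ((t : G) * a * (t : G)⁻¹) * t := by group
      _ = (s : G)⁻¹ * ((s : G) * a * (s : G)⁻¹) * t := by rw [h]
      _ = a * ((s : G)⁻¹ * t) := by group
  have hle : Nat.card (N.subgroupOf (S : Subgroup G)) ≤ Nat.card ((S : Subgroup G) ⧸ A) := by
    have h1 := A.card_mul_index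
    rw [hS.card, Subgroup.index_eq_card] at h1
    refine Nat.le_of_mul_le_mul_left ?_ (Nat.card_pos (α := Subgroup.centralizer ({g} : Set G)))
    rw [← h1]
    exact Nat.mul_le_mul_right _ hAle
  obtain ⟨q, hq⟩ := (hinj.bijective_of_nat_card_le hle).2 ⟨⟨n, hnS⟩, hn⟩
  induction q using QuotientGroup.induction_on with | H s =>
  refine ⟨s, s.2, ?_⟩
  have : a⁻¹ * ((s : G) * a * (s : G)⁻¹) = n :=
    congrArg (fun x : N.subgroupOf (S : Subgroup G) => ((x : (S : Subgroup G)) : G)) hq
  rw [← this, mul_inv_cancel_left]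

theorem inf_le_frattini : N ⊓ (S : Subgroup G) ≤ (frattini S).map (S : Subgroup G).subtype := by
  rintro n ⟨hn, hnS⟩
  obtain ⟨s, hs, he⟩ := d.orbit hS (d.g_mem hS) d.mem d.nmem hn hnS
  refine ⟨⁅(⟨g, d.g_mem hS⟩ : (S : Subgroup G))⁻¹, ⟨s, hs⟩⁆,
    Cfsg.Agent.Solv.commutatorElement_mem_frattini S.isPGroup' _ _, ?_⟩
  show g⁻¹ * s * g⁻¹⁻¹ * s⁻¹ = n
  rw [inv_inv]
  calc g⁻¹ * s * g * s⁻¹ = g⁻¹ * (s * g * s⁻¹) := by group
    _ = n := by rw [he, inv_mul_cancel_left]

theorem pow_of_conj {a : G} (haD : a ∈ commutator G) (haN : a ∉ N) {k : ℕ} (h : a ^ k = 1) : g ^ k = 1 := by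
  obtain ⟨y, hy⟩ := isConj_iff.1 ((d.union a haD).resolve_left haN)
  rw [← hy, conj_pow, conj_eq_one_iff] at h
  exact h

/-- The case `[G' : N] > 2`. -/
theorem key_gt (hm : 2 < N.relIndex (commutator G)) : g ^ p = 1 ∨ (p = 2 ∧ g ^ 4 = 1) := by
  set P := (S : Subgroup G) with hP
  have hPD := hS.le hm
  have hcomm : commutator P = N.subgroupOf P := by
    refine le_antisymm ?_ ?_
    · rw [commutator_def, Subgroup.commutator_le]
      exact fun a _ b _ => d.comm_le (hPD a.2) (hPD b.2)
    · intro n hn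
      obtain ⟨s, hs, he⟩ := d.orbit hS (d.g_mem hS) d.mem d.nmem hn n.2
      have hc : n = ⁅(⟨g, d.g_mem hS⟩ : P)⁻¹, ⟨s, hs⟩⁆ := Subtype.ext (by
        show (n : G) = g⁻¹ * s * g⁻¹⁻¹ * s⁻¹
        rw [inv_inv]
        calc (n : G) = g⁻¹ * (s * g * s⁻¹) := by rw [he, inv_mul_cancel_left]; rfl
          _ = _ := by group)
      rw [hc, commutator_def]
      exact Subgroup.commutator_mem_commutator (Subgroup.mem_top _) (Subgroup.mem_top _)
  have hmemc : ∀ a : P, a ∈ commutator P ↔ (a : G) ∈ N := fun a => by rw [hcomm, Subgroup.mem_subgroupOf]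
  have hidx : (commutator P).index = N.relIndex (commutator G) := by
    have h1 := (commutator P).card_mul_index
    rw [hS.card, d.card_cent_gt hm] at h1
    rw [hcomm] at h1 ⊢
    rw [mul_comm] at h1
    exact Nat.eq_of_mul_eq_mul_right Nat.card_pos h1
  have hpair : Camina.Pair (commutator P) := by
    intro a ha n hn
    rw [hmemc] at ha hn
    obtain ⟨s, hs, he⟩ := d.orbit hS a.2 (hPD a.2) ha hn n.2
    exact ⟨⟨s, hs⟩, Subtype.ext he⟩
  have hexp : ∀ a : P, a ^ p ∈ commutator P := fun a => by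
    rw [hmemc, Subgroup.coe_pow]; exact hS.exp _ (hPD a.2)
  let Φ : Set (MulAut P) := {φ | ∃ x : G, ∀ a : P, (φ a : G) = x * a * x⁻¹}
  have htrans : ∀ a b : P, a ∉ commutator P → b ∉ commutator P → ∃ φ ∈ Φ, (φ a)⁻¹ * b ∈ commutator P := by
    intro a b ha hb
    rw [hmemc] at ha hb
    obtain ⟨y, hy⟩ := isConj_iff.1
      (((d.union _ (hPD a.2)).resolve_left ha).symm.trans ((d.union _ (hPD b.2)).resolve_left hb))
    have hy' : y ∈ Subgroup.normalizer (P : Set G) ⊔ commutator G :=
      (Sylow.normalizer_sup_eq_top' S hPD).ge (Subgroup.mem_top y)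
    obtain ⟨x, hx, z, hz, rfl⟩ := Subgroup.mem_sup_of_normal_right.1 hy'
    have hxP : ∀ a' ∈ P, MulAut.conj x a' ∈ P := fun a' ha' => ((Subgroup.mem_normalizer_iff.1 hx) a').1 ha'
    refine ⟨Cfsg.Agent.Lead.FpfFour.restrict (MulAut.conj x) P hxP, ⟨x, fun a' => rfl⟩, ?_⟩
    rw [hmemc, Subgroup.coe_mul, Subgroup.coe_inv, Cfsg.Agent.Lead.FpfFour.restrict_val, MulAut.conj_apply]
    have h1 := (inferInstance : N.Normal).conj_mem _ (d.comm_le (inv_mem (hPD a.2)) hz) x
    have he : (x * (a : G) * x⁻¹)⁻¹ * (b : G) = x * ⁅(a : G)⁻¹, z⁆ * x⁻¹ := by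
      rw [← hy]
      simp only [commutatorElement_def]; group
    rw [he]
    exact h1
  have hcomm2 : ∀ φ ∈ Φ, ∀ ψ ∈ Φ, ∀ a : P, (φ (ψ a))⁻¹ * ψ (φ a) ∈ commutator P := by
    rintro φ ⟨x, hx⟩ ψ ⟨y, hy⟩ a
    rw [hmemc, Subgroup.coe_mul, Subgroup.coe_inv, hx, hy, hy, hx]
    have hz : (x * y)⁻¹ * (y * x) ∈ commutator G := by
      have : (x * y)⁻¹ * (y * x) = ⁅y⁻¹, x⁻¹⁆ := by simp only [commutatorElement_def]; group
      rw [this, commutator_def]
      exact Subgroup.commutator_mem_commutator (Subgroup.mem_top _) (Subgroup.mem_top _)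
    have h1 := (inferInstance : N.Normal).conj_mem _ (d.comm_le (inv_mem (hPD a.2)) hz) (x * y)
    convert h1 using 1
    simp only [commutatorElement_def]; group
  have hclass := CaminaTwo.class_two S.isPGroup' hpair hexp Φ htrans hcomm2
  have hcenter : commutator P ≤ Subgroup.center P := fun z hz => Subgroup.mem_center_iff.2 fun w => by
    have := Subgroup.commutator_mem_commutator hz (Subgroup.mem_top w)
    rw [hclass, Subgroup.mem_bot, commutatorElement_eq_one_iff_mul_comm] at this
    exact this.symm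
  have hcom : ∀ a b : P, ∀ w, Commute ⁅b, a⁆ w := fun a b w =>
    ((Subgroup.mem_center_iff.1 (hcenter (by
      rw [commutator_def]
      exact Subgroup.commutator_mem_commutator (Subgroup.mem_top b) (Subgroup.mem_top a)))) w).symm
  have hba : ∀ a b : P, b * a = ⁅b, a⁆ * (a * b) := fun a b => by
    simp only [commutatorElement_def]; group
  have hcp : ∀ a b : P, ⁅b, a⁆ ^ p = 1 := by
    intro a b
    have h : ∀ n : ℕ, b ^ n * a * (b ^ n)⁻¹ * a⁻¹ = ⁅b, a⁆ ^ n := by
      intro n
      induction n with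
      | zero => simp
      | succ n ih =>
        calc b ^ (n + 1) * a * (b ^ (n + 1))⁻¹ * a⁻¹
            = b * (b ^ n * a * (b ^ n)⁻¹ * a⁻¹) * b⁻¹ * (b * a * b⁻¹ * a⁻¹) := by
              rw [pow_succ' b n]; group
          _ = b * ⁅b, a⁆ ^ n * b⁻¹ * ⁅b, a⁆ := by rw [ih, commutatorElement_def b a]
          _ = ⁅b, a⁆ ^ (n + 1) := by
              rw [← ((hcom a b b).pow_left n).eq, mul_inv_cancel_right, pow_succ]
    rw [← h p, ← commutatorElement_def, commutatorElement_eq_one_iff_mul_comm]
    exact (Subgroup.mem_center_iff.1 (hcenter (hexp b)) a).symm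
  by_cases hp2 : p = 2
  · right
    refine ⟨hp2, ?_⟩
    subst hp2
    have hD : ∀ z ∈ commutator P, z ^ 2 = 1 := by
      intro z hz
      rw [commutator_eq_closure] at hz
      have hcl : ∀ w ∈ Subgroup.closure (commutatorSet P), w ^ 2 = 1 ∧ ∀ v, Commute w v := by
        intro w hw
        induction hw using Subgroup.closure_induction with
        | mem w hw =>
          obtain ⟨b, a, rfl⟩ := hw
          exact ⟨hcp a b, hcom a b⟩
        | one => exact ⟨one_pow 2, Commute.one_left⟩
        | mul u v _ _ ihu ihv =>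
          exact ⟨by rw [(ihu.2 v).mul_pow, ihu.1, ihv.1, one_mul], fun w => (ihu.2 w).mul_left (ihv.2 w)⟩
        | inv u _ ihu => exact ⟨by rw [inv_pow, ihu.1, inv_one], fun w => (ihu.2 w).inv_left⟩
      exact (hcl z hz).1
    have h1 := congrArg Subtype.val (hD _ (hexp ⟨g, d.g_mem hS⟩))
    rw [← pow_mul] at h1
    simpa using h1
  left
  -- the `p`th power map is a homomorphism with small image
  have hodd : 2 < p := lt_of_le_of_ne hp.out.two_le (Ne.symm hp2)
  let π : P →* P := MonoidHom.mk' (fun a => a ^ p) fun a b => by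
    obtain ⟨r, hr⟩ := hp.out.dvd_choose_self (k := 2) (by norm_num) hodd
    rw [mul_pow_class_two (hcom a b) (hba a b) p, hr, pow_mul, hcp, one_pow, mul_one]
  have hr : π.range ≤ commutator P := by rintro _ ⟨a, rfl⟩; exact hexp a
  by_contra hne
  have hker : π.ker ≤ commutator P := by
    intro a ha
    rw [hmemc]
    by_contra haN
    refine hne (d.pow_of_conj hS (hPD a.2) haN ?_)
    have : a ^ p = 1 := ha
    exact congrArg Subtype.val this
  have h1 := π.ker.card_mul_index
  rw [Subgroup.index_ker] at h1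
  have h2 := Subgroup.card_le_of_le hr
  have h3 := Subgroup.card_le_of_le hker
  have h4 := (commutator P).card_mul_index
  have hgP : (⟨g, d.g_mem hS⟩ : P) ∉ commutator P := fun h => d.nmem ((hmemc _).1 h)
  have h5 := CaminaTwo.central_bound S.isPGroup' hpair hcenter le_rfl hgP
  have hpos : 0 < Nat.card (commutator P) := Nat.card_pos
  have h6 : Nat.card π.ker * Nat.card π.range ≤ Nat.card (commutator P) * Nat.card (commutator P) :=
    Nat.mul_le_mul h3 h2
  nlinarith [h1, h4, h5, h6, hodd, hpos]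

/-- The case `[G' : N] = 2`. -/
theorem key_two (hm : N.relIndex (commutator G) = 2) : g ^ 4 = 1 := by
  have hp2 := hS.two hm
  subst hp2
  set P := (S : Subgroup G) with hP
  set π := QuotientGroup.mk' N with hπ
  have hC := d.card_cent_two hm
  -- `P` covers `G/N`
  have hmap : P.map π = ⊤ := by
    refine Subgroup.eq_top_of_card_eq _ ?_
    rw [← Subgroup.index_eq_card]
    have h1 : Nat.card (P.map π) = N.relIndex P := by
      conv_rhs => rw [← QuotientGroup.ker_mk' N, ← hπ, Subgroup.relIndex_ker]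
    have h2 := (N.subgroupOf P).card_mul_index
    rw [hS.card, hC, mul_comm N.index] at h2
    rw [h1]
    exact Nat.eq_of_mul_eq_mul_left Nat.card_pos h2
  have hlift : ∀ y : G, ∃ s ∈ P, π s = π y := fun y => by
    have : π y ∈ P.map π := hmap ▸ Subgroup.mem_top _
    exact this
  have hsur : Function.Surjective π := QuotientGroup.mk'_surjective N
  have hker : ∀ {x : G}, π x = 1 ↔ x ∈ N := fun {x} => QuotientGroup.eq_one_iff x
  set V := (commutator G).map π with hV
  have hVcard : Nat.card V = 2 := by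
    have h1 := V.card_mul_index
    rw [hV, Subgroup.index_map_eq _ hsur (by rw [hπ, QuotientGroup.ker_mk']; exact d.le), ← hV,
      ← Subgroup.index_eq_card, ← Subgroup.relIndex_mul_index d.le, hm] at h1
    exact Nat.eq_of_mul_eq_mul_right (Nat.pos_of_ne_zero Subgroup.index_ne_zero_of_finite) h1
  have hVcen : ∀ v ∈ V, ∀ t, Commute v t := by
    rintro _ ⟨v, hv, rfl⟩ t
    obtain ⟨t, rfl⟩ := hsur t
    refine Commute.symm ?_
    show π t * π v = π v * π t
    rw [← commutatorElement_eq_one_iff_mul_comm, ← map_commutatorElement, hker]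
    exact d.central_two hm hv t
  have hcV : ∀ a b : G ⧸ N, ⁅a, b⁆ ∈ V := by
    intro a b
    obtain ⟨a, rfl⟩ := hsur a
    obtain ⟨b, rfl⟩ := hsur b
    exact ⟨⁅a, b⁆, Subgroup.commutator_mem_commutator (Subgroup.mem_top a) (Subgroup.mem_top b),
      map_commutatorElement _ _ _⟩
  have hnonab : ¬ ∀ a b : G ⧸ N, a * b = b * a := fun h => d.nmem (by
    have hle : commutator G ≤ N := by
      rw [commutator_def, Subgroup.commutator_le]
      intro a _ b _
      rw [← hker, map_commutatorElement, commutatorElement_eq_one_iff_mul_comm]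
      exact h _ _
    exact hle d.mem)
  have hmemV : ∀ x : G, π x ∈ V ↔ x ∈ commutator G := d.mk_mem_iff
  -- an element commuting with more than a maximal subgroup lies in `V`
  have hbig : ∀ x : G ⧸ N, (commutator G).index < Nat.card (Subgroup.centralizer ({x} : Set (G ⧸ N))) →
      x ∈ V := by
    intro x hx
    obtain ⟨x, rfl⟩ := hsur x
    rw [hmemV]
    by_contra hxD
    exact absurd (d.cent x hxD) (by rw [hπ, QuotientGroup.mk'_apply] at hx; omega)
  have hTcard : Nat.card (G ⧸ N) = 2 * (commutator G).index := by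
    rw [← Subgroup.index_eq_card, ← Subgroup.relIndex_mul_index d.le, hm]
  rcases Nat.lt_or_ge 4 (commutator G).index with hc | hc
  · -- `γ₃(P) = γ₄(P)`, so `P ∩ N = 1`
    set L1 := commutator P with hL1
    set L2 := ⁅L1, (⊤ : Subgroup P)⁆ with hL2
    set L3 := ⁅L2, (⊤ : Subgroup P)⁆ with hL3
    have hL1D : ∀ u : P, u ∈ L1 → (u : G) ∈ commutator G := by
      intro u hu
      have : L1.map P.subtype ≤ commutator G := by
        rw [hL1, commutator_def, Subgroup.map_commutator, commutator_def]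
        exact Subgroup.commutator_mono le_top le_top
      exact this ⟨u, hu, rfl⟩
    have hL2N : L2 ≤ N.subgroupOf P := by
      rw [hL2, Subgroup.commutator_le]
      intro u hu h _
      rw [Subgroup.mem_subgroupOf, ← inv_mem_iff, ← Subgroup.coe_inv, commutatorElement_inv]
      exact d.central_two hm (hL1D u hu) h
    obtain ⟨a, haL1, haN⟩ : ∃ a : P, a ∈ L1 ∧ (a : G) ∉ N := by
      by_contra h
      push Not at h
      refine hnonab fun x y => ?_
      obtain ⟨x, rfl⟩ := hsur x
      obtain ⟨y, rfl⟩ := hsur y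
      obtain ⟨s, hs, hse⟩ := hlift x
      obtain ⟨t, ht, hte⟩ := hlift y
      rw [← hse, ← hte, ← commutatorElement_eq_one_iff_mul_comm, ← map_commutatorElement, hker]
      exact h ⁅(⟨s, hs⟩ : P), ⟨t, ht⟩⁆
        (by rw [hL1, commutator_def]; exact Subgroup.commutator_mem_commutator (Subgroup.mem_top _) (Subgroup.mem_top _))
    have hNL2 : N.subgroupOf P ≤ L2 := by
      intro n hn
      obtain ⟨s, hs, he⟩ := d.orbit hS a.2 (hL1D a haL1) haN hn n.2
      have hc : n = ⁅a⁻¹, (⟨s, hs⟩ : P)⁆ := Subtype.ext (by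
        show (n : G) = (a : G)⁻¹ * s * (a : G)⁻¹⁻¹ * s⁻¹
        rw [inv_inv]
        calc (n : G) = (a : G)⁻¹ * (s * a * s⁻¹) := by rw [he, inv_mul_cancel_left]; rfl
          _ = _ := by group)
      rw [hc, hL2]
      exact Subgroup.commutator_mem_commutator (inv_mem haL1) (Subgroup.mem_top _)
    have hL23 : L2 ≤ L3 := by
      rw [hL2, Subgroup.commutator_le]
      intro u hu h _
      by_cases huN : (u : G) ∈ N
      · exact Subgroup.commutator_mem_commutator (hNL2 huN) (Subgroup.mem_top h)
      obtain ⟨x, y, hxy, hxh, hyh⟩ : ∃ x y : G ⧸ N, ⁅x, y⁆ ≠ 1 ∧ Commute (π h) x ∧ Commute (π h) y := by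
        by_contra hcon
        push Not at hcon
        set U := Subgroup.centralizer ({π (h : G)} : Set (G ⧸ N)) with hU
        have hUab : ∀ a ∈ U, ∀ b ∈ U, a * b = b * a := by
          intro a ha b hb
          by_contra hab
          exact hcon a b (fun e => hab (commutatorElement_eq_one_iff_mul_comm.1 e))
            (Subgroup.mem_centralizer_singleton_iff.1 ha).symm (Subgroup.mem_centralizer_singleton_iff.1 hb).symm
        by_cases hhD : (h : G) ∈ commutator G
        · refine hnonab fun a b => hUab a ?_ b ?_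
          · exact Subgroup.mem_centralizer_singleton_iff.2 (hVcen _ ((hmemV h).2 hhD) a).symm
          · exact Subgroup.mem_centralizer_singleton_iff.2 (hVcen _ ((hmemV h).2 hhD) b).symm
        have hUc : Nat.card U = (commutator G).index := d.cent h hhD
        obtain ⟨t, ht⟩ : ∃ t, t ∉ U := by
          by_contra h'
          push Not at h'
          exact hnonab fun a b => hUab a (h' a) b (h' b)
        let f : U →* (G ⧸ N) := MonoidHom.mk' (fun u => ⁅t, (u : G ⧸ N)⁆) fun u v => by
          show ⁅t, (u : G ⧸ N) * v⁆ = ⁅t, (u : G ⧸ N)⁆ * ⁅t, (v : G ⧸ N)⁆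
          have h1 : ⁅t, (u : G ⧸ N) * v⁆ =
              ⁅t, (u : G ⧸ N)⁆ * ((u : G ⧸ N) * ⁅t, (v : G ⧸ N)⁆ * (u : G ⧸ N)⁻¹) := by
            simp only [commutatorElement_def]; group
          rw [h1, ← (hVcen _ (hcV t v) (u : G ⧸ N)).eq, mul_inv_cancel_right]
        have hfr : f.range ≤ V := by rintro _ ⟨u, rfl⟩; exact hcV _ _
        have hfk : f.ker.map U.subtype ≤ V := by
          rintro _ ⟨u, hu, rfl⟩
          refine hbig _ ?_
          rw [← hUc]
          refine lt_of_le_of_ne (Subgroup.card_le_of_le fun a ha =>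
            Subgroup.mem_centralizer_singleton_iff.2 (hUab a ha u u.2)) fun heq => ?_
          have hle : U ≤ Subgroup.centralizer ({(u : G ⧸ N)} : Set (G ⧸ N)) := fun a ha =>
            Subgroup.mem_centralizer_singleton_iff.2 (hUab a ha u u.2)
          have := Subgroup.eq_of_le_of_card_ge hle heq.ge
          refine ht (this ▸ Subgroup.mem_centralizer_singleton_iff.2 ?_)
          exact commutatorElement_eq_one_iff_mul_comm.1 hu
        have h1 := f.ker.card_mul_index
        rw [Subgroup.index_ker, hUc] at h1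
        have h2 := Subgroup.card_le_of_le hfr
        have h3 := Subgroup.card_le_of_le hfk
        rw [Nat.card_congr (f.ker.equivMapOfInjective _ U.subtype_injective).toEquiv.symm, hVcard] at h3
        rw [hVcard] at h2
        have := Nat.mul_le_mul h3 h2
        omega
      obtain ⟨x, rfl⟩ := hsur x
      obtain ⟨y, rfl⟩ := hsur y
      obtain ⟨x', hx', hxe⟩ := hlift x
      obtain ⟨y', hy', hye⟩ := hlift y
      rw [← hxe, ← hye] at hxy
      rw [← hxe] at hxh
      rw [← hye] at hyh
      set X : P := ⟨x', hx'⟩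
      set Y : P := ⟨y', hy'⟩
      have hXY : (⁅X, Y⁆ : P) ∈ L1 := by
        rw [hL1, commutator_def]; exact Subgroup.commutator_mem_commutator (Subgroup.mem_top _) (Subgroup.mem_top _)
      have hXYN : ((⁅X, Y⁆ : P) : G) ∉ N := fun hN => hxy (by
        rw [← map_commutatorElement, hker]; exact hN)
      have hl : ⁅X, Y⁆⁻¹ * u ∈ L2 := by
        refine hNL2 ?_
        rw [Subgroup.mem_subgroupOf, Subgroup.coe_mul, Subgroup.coe_inv]
        exact (Subgroup.mul_mem_iff_of_index_two (H := N.subgroupOf (commutator G)) hm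
          (a := ⟨((⁅X, Y⁆ : P) : G)⁻¹, inv_mem (hL1D _ hXY)⟩) (b := ⟨(u : G), hL1D u hu⟩)).2
          (iff_of_false (fun hN => hXYN (inv_mem_iff.1 hN)) huN)
      have hhX : ⁅h, X⁆ ∈ L2 := hNL2 (by
        rw [Subgroup.mem_subgroupOf, ← hker]
        show π ⁅(h : G), x'⁆ = 1
        rw [map_commutatorElement, commutatorElement_eq_one_iff_mul_comm]
        exact hxh)
      have hhY : ⁅h, Y⁆ ∈ L2 := hNL2 (by
        rw [Subgroup.mem_subgroupOf, ← hker]
        show π ⁅(h : G), y'⁆ = 1
        rw [map_commutatorElement, commutatorElement_eq_one_iff_mul_comm]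
        exact hyh)
      -- compute in `P/L3`, where `L2` is central
      set ρ := QuotientGroup.mk' L3 with hρ
      have hρcen : ∀ z ∈ L2, ∀ w, Commute (ρ z) w := by
        intro z hz w
        induction w using QuotientGroup.induction_on with | H w =>
        show ρ z * ρ w = ρ w * ρ z
        rw [← commutatorElement_eq_one_iff_mul_comm, ← map_commutatorElement]
        exact (QuotientGroup.eq_one_iff _).2 (Subgroup.commutator_mem_commutator hz (Subgroup.mem_top w))
      have hconj : ρ h * ρ ⁅X, Y⁆ * (ρ h)⁻¹ = ρ ⁅X, Y⁆ := by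
        have e1 : ρ h * ρ X * (ρ h)⁻¹ = ρ ⁅h, X⁆ * ρ X := by
          rw [← map_inv, ← map_mul, ← map_mul, ← map_mul]; simp only [commutatorElement_def]; group
        have e2 : ρ h * ρ Y * (ρ h)⁻¹ = ρ ⁅h, Y⁆ * ρ Y := by
          rw [← map_inv, ← map_mul, ← map_mul, ← map_mul]; simp only [commutatorElement_def]; group
        have e3 : ∀ z w, (∀ q, Commute z q) → (∀ q, Commute w q) → ∀ a b : P ⧸ L3,
            ⁅z * a, w * b⁆ = ⁅a, b⁆ := by
          intro z w hz hw a b
          calc ⁅z * a, w * b⁆ = z * (a * w) * b * a⁻¹ * (z⁻¹ * b⁻¹) * w⁻¹ := by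
                simp only [commutatorElement_def]; group
            _ = z * (w * a) * b * a⁻¹ * (b⁻¹ * z⁻¹) * w⁻¹ := by rw [(hw a).eq, ((hz b⁻¹).inv_left).eq]
            _ = (z * w) * ⁅a, b⁆ * (w * z)⁻¹ := by simp only [commutatorElement_def]; group
            _ = _ := by
              rw [← (hz w).eq, (((hz ⁅a, b⁆).mul_left (hw ⁅a, b⁆))).eq, mul_inv_cancel_right]
        calc ρ h * ρ ⁅X, Y⁆ * (ρ h)⁻¹ = ⁅ρ h * ρ X * (ρ h)⁻¹, ρ h * ρ Y * (ρ h)⁻¹⁆ := by
              rw [map_commutatorElement]; simp only [commutatorElement_def]; group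
          _ = ⁅ρ X, ρ Y⁆ := by rw [e1, e2, e3 _ _ (hρcen _ hhX) (hρcen _ hhY)]
          _ = _ := (map_commutatorElement _ _ _).symm
      have h1 : ρ ⁅u, h⁆ = 1 := by
        rw [map_commutatorElement, commutatorElement_eq_one_iff_mul_comm,
          show u = ⁅X, Y⁆ * (⁅X, Y⁆⁻¹ * u) by group, map_mul]
        have hc1 : Commute (ρ ⁅X, Y⁆) (ρ h) := by
          show ρ ⁅X, Y⁆ * ρ h = ρ h * ρ ⁅X, Y⁆
          conv_lhs => rw [← hconj, inv_mul_cancel_right]
        exact (hc1.mul_left (hρcen _ hl _)).eq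
      exact (QuotientGroup.eq_one_iff _).1 h1
    haveI := S.isPGroup'.isNilpotent
    have hbot := CaminaTwo.eq_bot_of_commutator_eq (H := L2) hL23
    have h2 : g ^ 2 = 1 := by
      have : (⟨g, d.g_mem hS⟩ : P) ^ 2 ∈ (⊥ : Subgroup P) :=
        hbot ▸ hNL2 (show g ^ 2 ∈ N from hS.exp g d.mem)
      exact congrArg Subtype.val (Subgroup.mem_bot.1 this)
    rw [show (4 : ℕ) = 2 * 2 from rfl, pow_mul, h2, one_pow]
  -- a square outside `N`
  obtain ⟨x, hxN⟩ : ∃ x : G, x ^ 2 ∉ N := by
    by_contra h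
    push Not at h
    refine hnonab fun a b => ?_
    have hinv : ∀ a : G ⧸ N, a⁻¹ = a := fun a => by
      obtain ⟨a, rfl⟩ := hsur a
      rw [inv_eq_iff_mul_eq_one, ← map_mul, hker, ← pow_two]
      exact h a
    calc a * b = (a * b)⁻¹ := (hinv _).symm
      _ = b⁻¹ * a⁻¹ := mul_inv_rev a b
      _ = b * a := by rw [hinv, hinv]
  obtain ⟨x', hx', hxe⟩ := hlift x
  have hx'N : x' ^ 2 ∉ N := by
    rw [← hker, map_pow, hxe, ← map_pow, hker]; exact hxN
  have hx'D : x' ^ 2 ∈ commutator G := by
    rw [← hmemV]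
    refine hbig _ ?_
    have htop : Subgroup.centralizer ({π (x' ^ 2)} : Set (G ⧸ N)) = ⊤ := by
      rw [eq_top_iff]
      intro t _
      rw [Subgroup.mem_centralizer_singleton_iff]
      set e := ⁅t, π x'⁆ with he
      have hev := hcV t (π x')
      have he2 : e ^ 2 = 1 := by
        obtain ⟨w, hw, hwe⟩ := hev
        rw [he, ← hwe, ← map_pow, hker]
        exact hS.exp w hw
      have h1 : t * π x' * t⁻¹ = e * π x' := by rw [he, commutatorElement_def]; group
      have h2 : t * (π x') ^ 2 * t⁻¹ = (π x') ^ 2 := by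
        rw [← conj_pow, h1, (hVcen _ hev (π x')).mul_pow, he2, one_mul]
      rw [map_pow]
      calc t * (π x') ^ 2 = t * (π x') ^ 2 * t⁻¹ * t := by group
        _ = (π x') ^ 2 * t := by rw [h2]
    rw [htop, Subgroup.card_top, hTcard]
    have := Nat.pos_of_ne_zero (Subgroup.index_ne_zero_of_finite (H := commutator G))
    omega
  refine d.pow_of_conj hS hx'D hx'N ?_
  rw [← pow_mul]
  have hxC : x' ∈ Subgroup.centralizer ({x' ^ 2} : Set G) :=
    Subgroup.mem_centralizer_singleton_iff.2 (Commute.self_pow x' 2).eq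
  have hCeq : Nat.card (Subgroup.centralizer ({x' ^ 2} : Set G)) = N.index := by
    have h2 := Cfsg.Agent.Char.card_conjClass_mul_centralizer g
    have h3 := Cfsg.Agent.Char.card_conjClass_mul_centralizer (x' ^ 2)
    have hga : IsConj g (x' ^ 2) := (d.union _ hx'D).resolve_left hx'N
    have h4 : Nat.card {y : G // IsConj g y} = Nat.card {y : G // IsConj (x' ^ 2) y} :=
      Nat.card_congr (Equiv.subtypeEquivRight fun y => ⟨fun h => hga.symm.trans h, fun h => hga.trans h⟩)
    rw [← h2, h4, hC] at h3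
    haveI : Nonempty {y : G // IsConj (x' ^ 2) y} := ⟨⟨x' ^ 2, IsConj.refl _⟩⟩
    exact Nat.eq_of_mul_eq_mul_left Nat.card_pos h3
  haveI : Fact (Nat.Prime 2) := ⟨Nat.prime_two⟩
  obtain ⟨j, hj⟩ := IsPGroup.iff_card.mp (d.two_group hm)
  have h8 : N.index ∣ 2 ^ 3 := by
    rw [Subgroup.index_eq_card, hj]
    refine Nat.pow_dvd_pow 2 ((Nat.pow_le_pow_iff_right (show 1 < 2 by norm_num)).1 ?_)
    rw [← hj, hTcard]; norm_num; omega
  have : orderOf x' ∣ 8 := by
    refine Nat.dvd_trans ?_ h8
    rw [← hCeq, ← Subgroup.orderOf_mk x' hxC]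
    exact orderOf_dvd_natCard _
  exact orderOf_dvd_iff_pow_eq_one.1 this

omit hS in
/-- **Solvability.** -/
theorem isSolvable : Group.IsSolvable G := by
  obtain ⟨p, _, S, hS⟩ := d.exists_setup
  set R : Subgroup N := Cfsg.pResidual p N with hR
  have hco : (Nat.card R).Coprime p :=
    Fusion.hnpc_iff.1 (Fusion.hnpc_normal_of_frattini N S (d.inf_le_frattini hS))
  set M : Subgroup G := R.map N.subtype with hM
  haveI : M.Normal := ConjAct.normal_of_characteristic_of_normal
  have hMcard : Nat.card M = Nat.card R :=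
    Nat.card_congr (R.equivMapOfInjective _ N.subtype_injective).toEquiv.symm
  have hfix : M ⊓ Subgroup.centralizer ({g} : Set G) = ⊥ := by
    refine Subgroup.inf_eq_bot_of_coprime ?_
    obtain ⟨j, hj⟩ := IsPGroup.iff_card.mp (S.isPGroup'.to_le hS.cent_le)
    rw [hMcard, hj]
    exact hco.pow_right j
  have hMs : Group.IsSolvable M := by
    have hfp : g ^ p = 1 ∨ g ^ 4 = 1 := by
      rcases eq_or_lt_of_le d.m_ge_two with hm | hm
      · exact Or.inr (d.key_two hS hm.symm)
      · exact (d.key_gt hS hm).imp id (·.2)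
    rcases hfp with h | h
    · haveI := Solv.fpf_nilpotent M g (Fact.out : p.Prime) h
        (by rw [Subgroup.normalizer_eq_top]; exact Subgroup.mem_top g) hfix
      infer_instance
    · refine FpfFourSolvable.isSolvable (σ := MulAut.conjNormal g) (fun x hx => ?_) ?_
      · have hxc : (x : G) ∈ M ⊓ Subgroup.centralizer ({g} : Set G) := by
          refine ⟨x.2, Subgroup.mem_centralizer_singleton_iff.2 ?_⟩
          have h' := congrArg Subtype.val hx
          rw [MulAut.conjNormal_apply, mul_inv_eq_iff_eq_mul] at h'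
          exact h'.symm
        rw [hfix, Subgroup.mem_bot] at hxc
        exact Subtype.ext hxc
      · rw [← map_pow, h, map_one]
  have hNs : Group.IsSolvable N := by
    haveI : Group.IsSolvable R :=
      Group.isSolvable_of_surjective (f := (R.equivMapOfInjective _ N.subtype_injective).symm.toMonoidHom)
        (MulEquiv.surjective _)
    haveI := (Fusion.isPGroup_quotient_pResidual (p := p) (G := N)).isNilpotent
    exact Group.isSolvable_of_ker_le_range R.subtype (QuotientGroup.mk' R)
      (by rw [QuotientGroup.ker_mk', Subgroup.range_subtype])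
  have hDs : Group.IsSolvable (commutator G) := by
    haveI : Group.IsSolvable (N.subgroupOf (commutator G)) :=
      Group.isSolvable_of_surjective (f := (Subgroup.subgroupOfEquivOfLe d.le).symm.toMonoidHom)
        (MulEquiv.surjective _)
    haveI : Group.IsSolvable (↥(commutator G) ⧸ N.subgroupOf (commutator G)) :=
      Group.isSolvable_of_comm fun a b => by
        induction a using QuotientGroup.induction_on with | H a =>
        induction b using QuotientGroup.induction_on with | H b =>
        rw [← QuotientGroup.mk'_apply, ← QuotientGroup.mk'_apply, ← commutatorElement_eq_one_iff_mul_comm,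
          ← map_commutatorElement, QuotientGroup.mk'_apply, QuotientGroup.eq_one_iff]
        exact d.comm_le a.2 b.2
    exact Group.isSolvable_of_ker_le_range (N.subgroupOf (commutator G)).subtype
      (QuotientGroup.mk' (N.subgroupOf (commutator G)))
      (by rw [QuotientGroup.ker_mk', Subgroup.range_subtype])
  haveI : Group.IsSolvable (G ⧸ commutator G) :=
    Group.isSolvable_of_comm (G := Abelianization G) fun a b => mul_comm a b
  exact Group.isSolvable_of_ker_le_range (commutator G).subtype (QuotientGroup.mk' (commutator G))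
    (by rw [QuotientGroup.ker_mk', Subgroup.range_subtype])

end Cfsg.Agent.Solv.OneClass.Data
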