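import Cfsg.Agent.Lib.Perm.Fpf.QuatAut
import Cfsg.Agent.Lib.Solv.Basic

/-!
Recognition of `GL(2,3)`: a group of order `48` with a self-centralising normal quaternion subgroup of
order `8` and an involution outside it.
-/

set_option autoImplicit false
set_option linter.style.haveILetI false

namespace Cfsg.Agent.Solv.GL23

open QuaternionGroup

/-- The reference transposition. -/
def σ0 : Equiv.Perm (Fin 4) := Equiv.swap 0 1

/-- The reference three-cycle. -/
def τ0 : Equiv.Perm (Fin 4) := Equiv.swap 0 1 * Equiv.swap 1 2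

theorem perm_facts : ∀ σ : Equiv.Perm (Fin 4), σ * σ = 1 → σ ≠ 1 →
    (∃ ρ : Equiv.Perm (Fin 4), ρ * σ * ρ⁻¹ = σ0) ∨
      ∃ a b : Equiv.Perm (Fin 4), a * a * a = 1 ∧ b * b * b = 1 ∧ σ = a * b := by
  decide +kernel

theorem ref_facts : σ0 * σ0 = 1 ∧ τ0 ^ 3 = 1 ∧ σ0 * τ0 * σ0⁻¹ = τ0⁻¹ ∧
    ∀ i : Fin 3, τ0 ^ i.1 * σ0 ≠ 1 ∧ (τ0 ^ i.1 = 1 → i = 0) := by
  decide +kernel

theorem ref_inj : ∀ (i j : Fin 3) (a b : Bool),
    τ0 ^ i.1 * (bif a then σ0 else 1) = τ0 ^ j.1 * (bif b then σ0 else 1) → i = j ∧ a = b := by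
  decide +kernel

theorem a_two_central : ∀ w : QuaternionGroup 2, w * a 2 = a 2 * w := by decide +kernel

theorem center_card : Nat.card (Subgroup.center (QuaternionGroup 2)) = 2 := by
  have h : (Subgroup.center (QuaternionGroup 2) : Set (QuaternionGroup 2)) = {1, a 2} := by
    ext x
    simp only [SetLike.mem_coe, Subgroup.mem_center_iff, Set.mem_insert_iff, Set.mem_singleton_iff]
    revert x
    decide +kernel
  rw [← SetLike.coe_sort_coe, Nat.card_coe_set_eq, h, Set.ncard_pair]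
  decide +kernel

universe u

set_option maxHeartbeats 1000000 in
/-- Any such group is determined up to isomorphism. -/
theorem iso_semidirect {K : Type u} [Group K] [Finite K] (hK : Nat.card K = 48) (Q : Subgroup K)
    [Q.Normal] (e : QuaternionGroup 2 ≃* Q) (hC : Subgroup.centralizer (Q : Set K) ≤ Q)
    {t : K} (ht : orderOf t = 2) (htQ : t ∉ Q)
    (φ : MulAut (QuaternionGroup 2) →* Equiv.Perm (Fin 4)) (hφ : Function.Injective φ) :
    Nonempty ((QuaternionGroup 2) ⋊[((Subgroup.closure {σ0, τ0}).comap φ).subtype]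
      ((Subgroup.closure {σ0, τ0}).comap φ) ≃* K) := by
  classical
  haveI : Finite (MulAut (QuaternionGroup 2)) := Finite.of_injective φ hφ
  have hQ8 : Nat.card Q = 8 := by
    rw [← Nat.card_congr e.toEquiv, Nat.card_eq_fintype_card, QuaternionGroup.card]
  -- the action
  obtain ⟨ψ, hψ⟩ : ∃ ψ : K →* MulAut (QuaternionGroup 2), ∀ k q,
      ((e (ψ k q) : Q) : K) = k * (e q : K) * k⁻¹ := by
    refine ⟨(MulAut.congr e.symm).toMonoidHom.comp MulAut.conjNormal, fun k q => ?_⟩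
    show ((e (e.symm (MulAut.conjNormal k (e.symm.symm q)))) : K) = _
    rw [MulEquiv.apply_symm_apply, MulAut.conjNormal_apply]
    rfl
  have hker : ∀ k, ψ k = 1 ↔ k ∈ Subgroup.centralizer (Q : Set K) := by
    intro k
    rw [Subgroup.mem_centralizer_iff]
    constructor
    · intro h q hq
      obtain ⟨q', hq'⟩ := e.surjective ⟨q, hq⟩
      have := hψ k q'
      rw [h, MulAut.one_apply, hq'] at this
      exact mul_inv_eq_iff_eq_mul.1 this.symm |>.symm
    · intro h
      refine MulEquiv.ext fun q => e.injective (Subtype.ext ?_)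
      rw [MulAut.one_apply, hψ, ← h _ (e q).2, mul_inv_cancel_right]
  have hkerle : ψ.ker ≤ Q := fun k hk => hC ((hker k).1 (MonoidHom.mem_ker.1 hk))
  have hker2 : Nat.card ψ.ker = 2 := by
    have h1 : ψ.ker = (Subgroup.center (QuaternionGroup 2)).map (Q.subtype.comp e.toMonoidHom) := by
      ext k
      rw [MonoidHom.mem_ker, hker]
      constructor
      · intro h
        obtain ⟨q, hq⟩ := e.surjective ⟨k, hC h⟩
        refine ⟨q, Subgroup.mem_center_iff.2 fun r => e.injective (Subtype.ext ?_), congrArg Subtype.val hq⟩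
        rw [map_mul, map_mul, Subgroup.coe_mul, Subgroup.coe_mul, hq]
        exact Subgroup.mem_centralizer_iff.1 h _ (e r).2
      · rintro ⟨q, hq, rfl⟩
        refine Subgroup.mem_centralizer_iff.2 fun r hr => ?_
        obtain ⟨r', hr'⟩ := e.surjective ⟨r, hr⟩
        have h2 := Subgroup.mem_center_iff.1 hq r'
        have h3 : e r' * e q = e q * e r' := by rw [← map_mul, ← map_mul, h2]
        rw [hr'] at h3
        exact congrArg Subtype.val h3
    rw [h1, Subgroup.card_map_of_injective (show Function.Injective (Q.subtype.comp e.toMonoidHom) from Q.subtype_injective.comp e.injective), center_card]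
  obtain ⟨Φ, hΦdef⟩ : ∃ Φ, Φ = φ.comp ψ := ⟨_, rfl⟩
  have hΦker : Φ.ker = ψ.ker := by
    ext k
    rw [MonoidHom.mem_ker, MonoidHom.mem_ker, hΦdef, MonoidHom.comp_apply]
    exact ⟨fun h => hφ (h.trans (map_one φ).symm), fun h => by rw [h, map_one]⟩
  have hsurj : Function.Surjective Φ := by
    have h1 := Φ.ker.card_eq_card_quotient_mul_card_subgroup
    rw [Nat.card_congr (QuotientGroup.quotientKerEquivRange Φ).toEquiv, hΦker, hker2, hK] at h1
    rw [← MonoidHom.range_eq_top]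
    refine Subgroup.eq_top_of_card_eq _ ?_
    rw [Nat.card_perm, Nat.card_fin]
    show Nat.card Φ.range = 24
    omega
  have hφs : Function.Surjective φ := fun π => by
    obtain ⟨k, hk⟩ := hsurj π
    exact ⟨ψ k, by rw [← hk, hΦdef]; rfl⟩
  -- the image of the involution
  have ht2 : t * t = 1 := by rw [← sq, ← ht, pow_orderOf_eq_one]
  have hQK : Nat.card (K ⧸ Q) = 6 := by
    have := Q.card_eq_card_quotient_mul_card_subgroup
    rw [hQ8, hK] at this
    omega
  haveI := Fact.mk Nat.prime_three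
  have hnot : ¬ ∃ a b : Equiv.Perm (Fin 4), a * a * a = 1 ∧ b * b * b = 1 ∧ Φ t = a * b := by
    rintro ⟨a, b, ha, hb, hab⟩
    obtain ⟨a', rfl⟩ := hsurj a
    obtain ⟨b', rfl⟩ := hsurj b
    obtain ⟨P⟩ := (inferInstance : Nonempty (Sylow 3 (K ⧸ Q)))
    have hP3 : Nat.card (P : Subgroup (K ⧸ Q)) = 3 := by
      rw [P.card_eq_multiplicity, hQK, show (6 : ℕ) = 3 ^ 1 * 2 by rfl,
        Nat.factorization_mul (by norm_num) (by norm_num), Finsupp.add_apply,
        Nat.Prime.factorization_pow Nat.prime_three, Finsupp.single_eq_same,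
        Nat.factorization_eq_zero_of_not_dvd (by norm_num), pow_one]
    haveI hPn : (P : Subgroup (K ⧸ Q)).Normal := Subgroup.normal_of_index_eq_two (by
      have := (P : Subgroup (K ⧸ Q)).card_mul_index
      rw [hP3, hQK] at this
      omega)
    have mem3 : ∀ c : K, Φ c * Φ c * Φ c = 1 → QuotientGroup.mk' Q c ∈ (P : Subgroup (K ⧸ Q)) := by
      intro c hc
      have h3 : (QuotientGroup.mk' Q c) ^ 3 = 1 := by
        rw [← map_pow, QuotientGroup.mk'_apply, QuotientGroup.eq_one_iff]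
        refine hkerle (hΦker ▸ MonoidHom.mem_ker.2 ?_)
        rw [map_pow, pow_succ, pow_succ, pow_one, hc]
      have hpg : IsPGroup 3 (Subgroup.zpowers (QuotientGroup.mk' Q c)) := fun w => ⟨1, by
        obtain ⟨j, hj⟩ := w.2
        refine Subtype.ext ?_
        rw [SubmonoidClass.coe_pow, ← hj, pow_one]
        show ((QuotientGroup.mk' Q c) ^ j) ^ 3 = 1
        rw [← zpow_natCast, ← zpow_mul, mul_comm, zpow_mul, zpow_natCast, h3, one_zpow]⟩
      obtain ⟨P', hP'⟩ := hpg.exists_le_sylow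
      haveI : Subsingleton (Sylow 3 (K ⧸ Q)) := ⟨fun x y => by
        have := Sylow.unique_of_normal P hPn
        exact Subsingleton.elim _ _⟩
      rw [Subsingleton.elim P' P] at hP'
      exact hP' (Subgroup.mem_zpowers _)
    have hd : t * (a' * b')⁻¹ ∈ Q := hkerle (hΦker ▸ MonoidHom.mem_ker.2 (by
      rw [map_mul, map_inv, map_mul, ← hab, mul_inv_cancel]))
    have h1 : QuotientGroup.mk' Q t ∈ (P : Subgroup (K ⧸ Q)) := by
      rw [show QuotientGroup.mk' Q t = QuotientGroup.mk' Q (a' * b') from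
        (mul_inv_eq_one.1 (by rw [← map_inv, ← map_mul]; exact (QuotientGroup.eq_one_iff _).2 hd)), map_mul]
      exact mul_mem (mem3 a' ha) (mem3 b' hb)
    have h2 : orderOf (QuotientGroup.mk' Q t) ∣ 3 := hP3 ▸ Subgroup.orderOf_dvd_natCard _ h1
    have h3 : orderOf (QuotientGroup.mk' Q t) ∣ 2 := ht ▸ orderOf_map_dvd _ t
    exact htQ ((QuotientGroup.eq_one_iff t).1 (orderOf_eq_one_iff.1
      (Nat.eq_one_of_dvd_coprimes (by norm_num) h2 h3)))
  have htker : Φ t ≠ 1 := fun h => htQ (hkerle (hΦker ▸ MonoidHom.mem_ker.2 h))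
  obtain ⟨ρ, hρσ⟩ := (perm_facts (Φ t) (by rw [← map_mul, ht2, map_one]) htker).resolve_right hnot
  obtain ⟨τ, hρτ⟩ : ∃ τ, ρ * τ * ρ⁻¹ = τ0 := ⟨ρ⁻¹ * τ0 * ρ, by group⟩
  obtain ⟨α, hα⟩ := hφs ρ⁻¹
  -- change the identification
  obtain ⟨ι, hι⟩ : ∃ ι : QuaternionGroup 2 →* K, ι = Q.subtype.comp (e.toMonoidHom.comp α.toMonoidHom) :=
    ⟨_, rfl⟩
  have hιinj : Function.Injective ι := by
    rw [hι]; exact Q.subtype_injective.comp (e.injective.comp α.injective)
  have hιQ : ∀ q, ι q ∈ Q := fun q => by rw [hι]; exact (e (α q)).2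
  have hact : ∀ k q, ι ((α⁻¹ * ψ k * α) q) = k * ι q * k⁻¹ := fun k q => by
    rw [hι]
    show ((e (α (α⁻¹ (ψ k (α q))))) : K) = k * (e (α q) : K) * k⁻¹
    rw [show α (α⁻¹ (ψ k (α q))) = (α * α⁻¹) (ψ k (α q)) from rfl, mul_inv_cancel, MulAut.one_apply, hψ]
  have hφψ : ∀ k, φ (α⁻¹ * ψ k * α) = ρ * Φ k * ρ⁻¹ := fun k => by
    rw [map_mul, map_mul, map_inv, hα, inv_inv, hΦdef, MonoidHom.comp_apply]
  -- the element of order three
  obtain ⟨y, hy⟩ := hsurj τ
  have hτ3 : τ ^ 3 = 1 := by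
    refine (MulAut.conj ρ).injective ?_
    rw [map_pow, map_one, MulAut.conj_apply, hρτ]
    exact ref_facts.2.1
  have hy6 : y ^ 6 = 1 := by
    have h : y ^ 3 ∈ ψ.ker := hΦker ▸ MonoidHom.mem_ker.2 (by rw [map_pow, hy, hτ3])
    have := pow_card_eq_one' (x := (⟨_, h⟩ : ψ.ker))
    rw [hker2] at this
    have := congrArg Subtype.val this
    simpa [← pow_mul] using this
  obtain ⟨x, hx⟩ : ∃ x, x = y ^ 4 := ⟨_, rfl⟩
  have hx3 : x ^ 3 = 1 := by rw [hx, ← pow_mul, show 4 * 3 = 6 * 2 by rfl, pow_mul, hy6, one_pow]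
  have hΦx : Φ x = τ := by
    rw [hx, map_pow, hy, pow_succ, hτ3, one_mul]
  have hinv : t * x * t⁻¹ = x⁻¹ := by
    obtain ⟨c, hc⟩ : ∃ c, c = x * (t * x * t⁻¹) := ⟨_, rfl⟩
    have hcφ : Φ c = 1 := by
      refine (MulAut.conj ρ).injective ?_
      have hc1 : Φ c = τ * (Φ t * τ * (Φ t)⁻¹) := by
        rw [hc, ← hΦx]; simp only [map_mul, map_inv]
      rw [hc1, map_one, MulAut.conj_apply]
      calc ρ * (τ * (Φ t * τ * (Φ t)⁻¹)) * ρ⁻¹
          = (ρ * τ * ρ⁻¹) * ((ρ * Φ t * ρ⁻¹) * (ρ * τ * ρ⁻¹) * (ρ * Φ t * ρ⁻¹)⁻¹) := by group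
        _ = 1 := by rw [hρσ, hρτ, ref_facts.2.2.1, mul_inv_cancel]
    have hcker : c ∈ ψ.ker := hΦker ▸ MonoidHom.mem_ker.2 hcφ
    have hc2 : c ^ 2 = 1 := by
      have := pow_card_eq_one' (x := (⟨_, hcker⟩ : ψ.ker))
      rw [hker2] at this
      exact congrArg Subtype.val this
    -- `c` is central
    have hcc : ∀ k : K, Commute k c := fun k => by
      by_cases h1 : c = 1
      · rw [h1]; exact Commute.one_right k
      obtain ⟨u, v, -, huv⟩ := Nat.card_eq_two_iff.1 hker2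
      have hmem : k * c * k⁻¹ ∈ ψ.ker := (MonoidHom.normal_ker ψ).conj_mem c hcker k
      have hall : ∀ w w' : ψ.ker, w ≠ 1 → w' ≠ 1 → w = w' := by
        intro w w' hw hw'
        have h1' : (1 : ψ.ker) = u ∨ (1 : ψ.ker) = v := by
          have := huv.symm ▸ Set.mem_univ (1 : ψ.ker); simpa using this
        have hw1 : w = u ∨ w = v := by have := huv.symm ▸ Set.mem_univ w; simpa using this
        have hw1' : w' = u ∨ w' = v := by have := huv.symm ▸ Set.mem_univ w'; simpa using this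
        rcases h1' with h | h <;> rcases hw1 with h' | h' <;> rcases hw1' with h'' | h'' <;>
          simp_all
      have := congrArg Subtype.val (hall ⟨_, hmem⟩ ⟨_, hcker⟩
        (fun e1 => h1 (conj_eq_one_iff.1 (congrArg Subtype.val e1))) (fun e1 => h1 (congrArg Subtype.val e1)))
      exact mul_inv_eq_iff_eq_mul.1 this
    have h5 : x⁻¹ * c = t * x * t⁻¹ := by rw [hc]; group
    have h6 : (x⁻¹ * c) ^ 3 = 1 := by
      rw [h5, conj_pow, hx3, mul_one, mul_inv_cancel]
    rw [(hcc x⁻¹).mul_pow, inv_pow, hx3, inv_one, one_mul, pow_succ, hc2, one_mul] at h6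
    rw [← h5, h6, mul_one]
  obtain ⟨D, hD⟩ : ∃ D : Subgroup K, D = Subgroup.closure {t, x} := ⟨_, rfl⟩
  have htinv : t⁻¹ = t := inv_eq_of_mul_eq_one_right ht2
  have htx : t * x = x⁻¹ * t := mul_inv_eq_iff_eq_mul.1 hinv
  have hxx : x⁻¹ = x ^ 2 := inv_eq_of_mul_eq_one_right (by rw [← pow_succ', hx3])
  have hform : ∀ d ∈ D, ∃ i : Fin 3, d = x ^ i.1 ∨ d = x ^ i.1 * t := by
    intro d hd
    have step : ∀ g h : K, (∃ i : Fin 3, g = x ^ i.1 ∨ g = x ^ i.1 * t) → (h = t ∨ h = x) →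
        ∃ i : Fin 3, g * h = x ^ i.1 ∨ g * h = x ^ i.1 * t := by
      intro g h hg hh
      obtain ⟨i, hg⟩ := hg
      have hred : ∀ n : ℕ, ∃ j : Fin 3, x ^ n = x ^ j.1 := fun n => ⟨⟨n % 3, Nat.mod_lt _ (by norm_num)⟩,
        by rw [← Nat.div_add_mod n 3, pow_add, pow_mul, hx3, one_pow, one_mul]; simp⟩
      rcases hg with rfl | rfl <;> rcases hh with rfl | rfl
      · exact ⟨i, Or.inr rfl⟩
      · obtain ⟨j, hj⟩ := hred (i.1 + 1)
        exact ⟨j, Or.inl (by rw [← hj, pow_succ])⟩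
      · exact ⟨i, Or.inl (by rw [mul_assoc, ht2, mul_one])⟩
      · obtain ⟨j, hj⟩ := hred (i.1 + 2)
        exact ⟨j, Or.inr (by rw [mul_assoc, htx, hxx, ← mul_assoc, ← hj, pow_add])⟩
    rw [hD] at hd
    refine Subgroup.closure_induction_right ?_ ?_ ?_ hd
    · exact ⟨0, Or.inl (pow_zero x).symm⟩
    · intro g _ h hh ih
      exact step g h ih (by simpa using hh)
    · intro g _ h hh ih
      have hh' : h = t ∨ h = x := by simpa using hh
      rcases hh' with rfl | rfl
      · rw [htinv]; exact step g _ ih (Or.inl rfl)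
      · rw [hxx, sq, ← mul_assoc]
        exact step _ _ (step g _ ih (Or.inr rfl)) (Or.inr rfl)
  obtain ⟨Δ, hΔ⟩ : ∃ Δ : Subgroup (MulAut (QuaternionGroup 2)),
      Δ = (Subgroup.closure {σ0, τ0}).comap φ := ⟨_, rfl⟩
  rw [← hΔ]
  obtain ⟨ψ', hψ'⟩ : ∃ ψ' : K →* MulAut (QuaternionGroup 2), ∀ k, ψ' k = α⁻¹ * ψ k * α :=
    ⟨(MulAut.conj α⁻¹).toMonoidHom.comp ψ, fun k => by simp [MulAut.conj_apply]⟩
  have hgens : φ (ψ' t) = σ0 ∧ φ (ψ' x) = τ0 := by
    rw [hψ', hψ', hφψ, hφψ, hΦx, hρσ, hρτ]; exact ⟨rfl, rfl⟩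
  have himg : D.map ψ' = Δ := by
    refine Subgroup.map_injective hφ ?_
    rw [hΔ, Subgroup.map_comap_eq_self_of_surjective hφs, hD, MonoidHom.map_closure, MonoidHom.map_closure,
      Set.image_pair, Set.image_pair, hgens.1, hgens.2]
  have hinj : ∀ d ∈ D, ψ' d = 1 → d = 1 := by
    intro d hd h1
    obtain ⟨i, hi⟩ := hform d hd
    have h2 := congrArg φ h1
    rcases hi with rfl | rfl
    · rw [map_pow, map_pow, hgens.2, map_one] at h2
      rw [(ref_facts.2.2.2 i).2 h2]; simp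
    · rw [map_mul, map_mul, map_pow, map_pow, hgens.1, hgens.2, map_one] at h2
      exact absurd h2 (ref_facts.2.2.2 i).1
  obtain ⟨r, hr⟩ : ∃ r : D →* Δ, ∀ d, ((r d : Δ) : MulAut (QuaternionGroup 2)) = ψ' d :=
    ⟨(ψ'.comp D.subtype).codRestrict Δ (fun d => himg ▸ Subgroup.mem_map_of_mem _ d.2), fun _ => rfl⟩
  have hrb : Function.Bijective r := by
    refine ⟨(injective_iff_map_eq_one r).2 fun d hd => Subtype.ext (hinj d d.2 ?_), fun δ => ?_⟩
    · rw [← hr, hd]; rfl
    · have hmem : (δ : MulAut (QuaternionGroup 2)) ∈ D.map ψ' := by rw [himg]; exact δ.2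
      obtain ⟨d, hd, hde⟩ := hmem
      exact ⟨⟨d, hd⟩, Subtype.ext ((hr _).trans hde)⟩
  obtain ⟨s, hs⟩ : ∃ s : Δ →* K, ∀ δ, s δ ∈ D ∧ ψ' (s δ) = δ := by
    refine ⟨D.subtype.comp (MulEquiv.ofBijective r hrb).symm.toMonoidHom, fun δ => ⟨Subtype.prop _, ?_⟩⟩
    show ψ' (((MulEquiv.ofBijective r hrb).symm δ : D) : K) = δ
    rw [← hr]
    exact congrArg Subtype.val ((MulEquiv.ofBijective r hrb).apply_symm_apply δ)
  let f : (QuaternionGroup 2) ⋊[Δ.subtype] Δ →* K := SemidirectProduct.lift ι s (fun δ =>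
    MonoidHom.ext fun q => by
      show ι ((δ : MulAut (QuaternionGroup 2)) q) = s δ * ι q * (s δ)⁻¹
      rw [← (hs δ).2, hψ', hact])
  have hfinj : Function.Injective f := by
    rw [injective_iff_map_eq_one]
    rintro ⟨q, δ⟩ h
    have h' : ι q * s δ = 1 := h
    have hsQ : s δ ∈ Q := by
      rw [eq_inv_of_mul_eq_one_right h']; exact inv_mem (hιQ q)
    have hs1 : s δ = 1 := by
      obtain ⟨i, hi | hi⟩ := hform _ (hs δ).1
      · have h3 : orderOf (s δ) ∣ 3 := orderOf_dvd_of_pow_eq_one (by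
          rw [hi, ← pow_mul, mul_comm, pow_mul, hx3, one_pow])
        have h8 : orderOf (s δ) ∣ 8 := hQ8 ▸ Subgroup.orderOf_dvd_natCard _ hsQ
        exact orderOf_eq_one_iff.1 (Nat.eq_one_of_dvd_coprimes (by norm_num) h3 h8)
      · exfalso
        -- an involution of `Q` lies in the kernel of the action
        have hsq : (s δ) * (s δ) = 1 := by
          have hcj : t * x ^ i.1 * t⁻¹ = (x ^ i.1)⁻¹ := by rw [← conj_pow, hinv, inv_pow]
          calc s δ * s δ = x ^ i.1 * (t * x ^ i.1 * t⁻¹) * (t * t) := by rw [hi]; group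
            _ = 1 := by rw [hcj, ht2, mul_inv_cancel, one_mul]
        obtain ⟨q', hq'⟩ := e.surjective ⟨s δ, hsQ⟩
        have hq2 : q' * q' = 1 := e.injective (Subtype.ext (by
          rw [map_mul, Subgroup.coe_mul, hq', map_one, OneMemClass.coe_one]; exact hsq))
        have hne : s δ ≠ 1 := fun h1 => by
          have h2 := congrArg (fun k => φ (ψ' k)) hi
          simp only [h1, map_one, map_mul, map_pow, hgens.1, hgens.2] at h2
          exact (ref_facts.2.2.2 i).1 h2.symm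
        have hq1 : q' ≠ 1 := fun h1 => hne (by
          have := congrArg Subtype.val hq'
          rw [h1, map_one] at this
          exact this.symm)
        have hqa : q' = a 2 := Cfsg.Agent.Perm.Fpf.QuatAut.gen_facts.2.2.2 q' hq1 hq2
        have hcen : s δ ∈ ψ.ker := by
          rw [MonoidHom.mem_ker, hker, Subgroup.mem_centralizer_iff]
          intro w hw
          obtain ⟨w', hw'⟩ := e.surjective ⟨w, hw⟩
          have h2 : w' * q' = q' * w' := by rw [hqa]; exact a_two_central w'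
          have h3 := congrArg e h2
          rw [map_mul, map_mul, hw', hq'] at h3
          exact congrArg Subtype.val h3
        have hψ1 : ψ' (s δ) = 1 := by rw [hψ', MonoidHom.mem_ker.1 hcen, mul_one, inv_mul_cancel]
        exact hne (hinj _ (hs δ).1 hψ1)
    have hδ : δ = 1 := Subtype.ext (by rw [← (hs δ).2, hs1, map_one]; rfl)
    rw [hs1, mul_one] at h'
    rw [(injective_iff_map_eq_one ι).1 hιinj q h', hδ]
    rfl
  haveI : Finite ((QuaternionGroup 2) ⋊[Δ.subtype] Δ) := Finite.of_equiv _ SemidirectProduct.equivProd.symm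
  refine ⟨MulEquiv.ofBijective f (Function.Injective.bijective_of_nat_card_le hfinj ?_)⟩
  rw [hK, Nat.card_congr SemidirectProduct.equivProd, Nat.card_prod, Nat.card_eq_fintype_card,
    QuaternionGroup.card]
  have h6 : 6 ≤ Nat.card Δ := by
    rw [← Nat.card_congr (Equiv.ofBijective r hrb)]
    have hxD : x ∈ D := hD ▸ Subgroup.subset_closure (by simp : x ∈ ({t, x} : Set K))
    have htD : t ∈ D := hD ▸ Subgroup.subset_closure (by simp : t ∈ ({t, x} : Set K))
    have hbD : ∀ b : Bool, (bif b then t else 1) ∈ D := fun b => by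
      cases b
      · exact D.one_mem
      · exact htD
    let g : Fin 3 × Bool → D := fun p =>
      ⟨x ^ p.1.1 * (bif p.2 then t else 1), D.mul_mem (D.pow_mem hxD p.1.1) (hbD p.2)⟩
    have hval : ∀ p : Fin 3 × Bool, φ (ψ' (g p : K)) = τ0 ^ p.1.1 * (bif p.2 then σ0 else 1) := by
      rintro ⟨i, a⟩
      show φ (ψ' (x ^ i.1 * (bif a then t else 1))) = _
      cases a
      · simp only [cond_false, map_mul, map_pow, map_one, hgens.2]
      · simp only [cond_true, map_mul, map_pow, hgens.1, hgens.2]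
    have hg : Function.Injective g := by
      intro p p' h
      have h2 := congrArg (fun d : D => φ (ψ' (d : K))) h
      simp only [hval] at h2
      obtain ⟨h3, h4⟩ := ref_inj _ _ _ _ h2
      exact Prod.ext h3 h4
    have := Nat.card_le_card_of_injective g hg
    simpa using this
  omega

end Cfsg.Agent.Solv.GL23
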