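import Mathlib

/-! 2-Engel groups (every element commutes with its conjugates): `[x,y,z]^3 = 1`;
groups with a fixed-point-free automorphism of order 3 are 2-Engel. -/

set_option autoImplicit false

namespace Cfsg.Agent.Solv.EngelTwo

variable {H : Type*} [Group H]

/-- right-handed commutator -/
def rc (a b : H) : H := a⁻¹ * b⁻¹ * a * b

theorem mul_eq (a b : H) : a * b = b * a * rc a b := by simp only [rc]; group

theorem rc_inv (a b : H) : (rc a b)⁻¹ = rc b a := by simp only [rc]; group

theorem rc_eq_one {a b : H} (h : Commute a b) : rc a b = 1 := by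
  rw [rc, mul_assoc _ a b, h.eq]; group

theorem commute_of_rc {a b : H} (h : rc a b = 1) : Commute a b := by
  have := mul_eq a b
  rw [h, mul_one] at this
  exact this

theorem rc_mem_left {N : Subgroup H} [N.Normal] {a : H} (ha : a ∈ N) (b : H) : rc a b ∈ N := by
  have : rc a b = a⁻¹ * (b⁻¹ * a * b⁻¹⁻¹) := by simp only [rc]; group
  rw [this]
  exact mul_mem (inv_mem ha) (‹N.Normal›.conj_mem a ha b⁻¹)

theorem rc_mem_right {N : Subgroup H} [N.Normal] (a : H) {b : H} (hb : b ∈ N) : rc a b ∈ N := by
  rw [← rc_inv b a]; exact inv_mem (rc_mem_left hb a)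

section
variable (hE : ∀ x g : H, Commute x (g * x * g⁻¹))
include hE

theorem closure_comm {x a b : H} (ha : a ∈ Subgroup.normalClosure {x})
    (hb : b ∈ Subgroup.normalClosure {x}) : Commute a b := by
  have key : ∀ c ∈ Group.conjugatesOfSet ({x} : Set H), ∀ d ∈ Group.conjugatesOfSet ({x} : Set H),
      Commute c d := by
    intro c hc d hd
    simp only [Group.mem_conjugatesOfSet_iff, Set.mem_singleton_iff, exists_eq_left] at hc hd
    obtain ⟨g, rfl⟩ := isConj_iff.1 hc
    obtain ⟨k, rfl⟩ := isConj_iff.1 hd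
    have h1 := (hE x (g⁻¹ * k)).map (MulAut.conj g)
    simp only [MulAut.conj_apply] at h1
    have e : g * (g⁻¹ * k * x * (g⁻¹ * k)⁻¹) * g⁻¹ = k * x * k⁻¹ := by group
    rwa [e] at h1
  unfold Subgroup.normalClosure at ha hb
  induction ha using Subgroup.closure_induction with
  | mem c hc =>
    induction hb using Subgroup.closure_induction with
    | mem d hd => exact key c hc d hd
    | one => exact Commute.one_right c
    | mul d e _ _ h1 h2 => exact h1.mul_right h2
    | inv d _ h => exact h.inv_right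
  | one => exact Commute.one_left b
  | mul c e _ _ h1 h2 => exact h1.mul_left h2
  | inv c _ h => exact h.inv_left

theorem self_mem (x : H) : x ∈ Subgroup.normalClosure ({x} : Set H) :=
  Subgroup.subset_normalClosure (Set.mem_singleton x)

theorem triple_commute (x y z : H) :
    Commute (rc (rc x y) z) y ∧ Commute (rc (rc x y) z) z :=
  ⟨closure_comm hE (rc_mem_left (rc_mem_right x (self_mem hE y)) z) (self_mem hE y),
    closure_comm hE (rc_mem_right (rc x y) (self_mem hE z)) (self_mem hE z)⟩

theorem swap_right (x y z : H) : rc (rc x z) y = (rc (rc x y) z)⁻¹ := by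
  set P := rc x y with hP
  set Q := rc x z with hQ
  set f := rc P z with hf
  set f' := rc Q y with hf'
  have hPx : P ∈ Subgroup.normalClosure ({x} : Set H) := rc_mem_left (self_mem hE x) y
  have hQx : Q ∈ Subgroup.normalClosure ({x} : Set H) := rc_mem_left (self_mem hE x) z
  have hPy : Commute P y := closure_comm hE (rc_mem_right x (self_mem hE y)) (self_mem hE y)
  have hQz : Commute Q z := closure_comm hE (rc_mem_right x (self_mem hE z)) (self_mem hE z)
  have hx0 : Commute (rc x (y * z)) (y * z) :=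
    closure_comm hE (rc_mem_right x (self_mem hE (y * z))) (self_mem hE (y * z))
  have e : rc x (y * z) = Q * P * f := by simp only [hQ, hP, hf, rc]; group
  rw [e] at hx0
  have hfy : Commute f y := (triple_commute hE x y z).1
  have hfz : Commute f z := (triple_commute hE x y z).2
  have hf'z : Commute f' z := (triple_commute hE x z y).1
  have h1 : Q * P * f * y = y * (Q * f' * P * f) := by
    calc Q * P * f * y = Q * P * (y * f) := by rw [mul_assoc _ f y, hfy.eq]
      _ = Q * (P * y) * f := by group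
      _ = Q * y * P * f := by rw [hPy.eq]; group
      _ = y * Q * f' * P * f := by rw [mul_eq Q y]
      _ = y * (Q * f' * P * f) := by group
  have h2 : Q * f' * P * f * z = z * (Q * f' * P * f * f) := by
    calc Q * f' * P * f * z = Q * f' * P * (z * f) := by rw [mul_assoc _ f z, hfz.eq]
      _ = Q * f' * (P * z) * f := by group
      _ = Q * f' * (z * P * f) * f := by rw [mul_eq P z]
      _ = Q * (f' * z) * (P * f * f) := by group
      _ = Q * z * (f' * (P * f * f)) := by rw [hf'z.eq]; group
      _ = z * (Q * f' * P * f * f) := by rw [hQz.eq]; group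
  have h3 : (y * z) * (Q * f' * P * f * f) = (y * z) * (Q * P * f) := by
    rw [← hx0.eq, ← mul_assoc (Q * P * f), h1, mul_assoc y (Q * f' * P * f) z, h2, mul_assoc]
  have h4 := mul_left_cancel h3
  have hcP : Commute f' P := closure_comm hE (rc_mem_left hQx y) hPx
  have h5 : Q * P * (f' * f * f) = Q * P * (1 * f) := by
    rw [one_mul, ← h4, mul_assoc Q f' P, hcP.eq]; group
  exact eq_inv_of_mul_eq_one_left (mul_right_cancel (mul_left_cancel h5))

theorem swap_left (x y z : H) : rc (rc y x) z = (rc (rc x y) z)⁻¹ := by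
  have hP : Commute (rc x y) (rc (rc x y) z) :=
    closure_comm hE (rc_mem_left (self_mem hE x) y) (rc_mem_left (rc_mem_left (self_mem hE x) y) z)
  have e : rc (rc x y)⁻¹ z = rc x y * (rc (rc x y) z)⁻¹ * (rc x y)⁻¹ := by simp only [rc]; group
  rw [← rc_inv x y, e, hP.inv_right.eq, mul_assoc, mul_inv_cancel, mul_one]

theorem triple_cube (x y z : H) : rc (rc x y) z ^ 3 = 1 := by
  set f := rc (rc x y) z with hf
  have hinv : ∀ a b c : H, b⁻¹ * rc (rc a b⁻¹) c * b = (rc (rc a b) c)⁻¹ := by
    intro a b c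
    have hPb : Commute (rc a b) b :=
      closure_comm hE (rc_mem_right a (self_mem hE b)) (self_mem hE b)
    have e : rc a b⁻¹ = (rc a b)⁻¹ := by
      have e1 : rc a b⁻¹ = b * (rc a b)⁻¹ * b⁻¹ := by simp only [rc]; group
      rw [e1, hPb.symm.inv_right.eq, mul_assoc, mul_inv_cancel, mul_one]
    have hfb : Commute (rc (rc a b) c) b := (triple_commute hE a b c).1
    rw [e, rc_inv a b, swap_left hE a b c, mul_assoc, hfb.inv_left.eq, ← mul_assoc, inv_mul_cancel,
      one_mul]
  have hw : (y⁻¹ * rc (rc x y⁻¹) z * y) * (z⁻¹ * rc (rc y z⁻¹) x * z) *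
      (x⁻¹ * rc (rc z x⁻¹) y * x) = 1 := by
    simp only [rc]; group
  rw [hinv, hinv, hinv] at hw
  have e1 : rc (rc y z) x = f := by
    rw [swap_right hE y x z, swap_left hE x y z, inv_inv]
  have e2 : rc (rc z x) y = f := by
    rw [swap_left hE x z y, swap_right hE x y z, inv_inv]
  rw [e1, e2, ← hf] at hw
  have : (f ^ 3)⁻¹ = 1 := by rw [← hw]; group
  exact inv_eq_one.1 this

end

/-- A fixed-point-free automorphism of order 3 forces the 2-Engel condition. -/
theorem engel_of_fpf [Finite H] (σ : H ≃* H) (h3 : ∀ u, σ (σ (σ u)) = u)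
    (hfix : ∀ u, σ u = u → u = 1) :
    (∀ u, u * σ u * σ (σ u) = 1) ∧ ∀ x g : H, Commute x (g * x * g⁻¹) := by
  have hsurj : Function.Surjective fun v : H => v⁻¹ * σ v := by
    refine Finite.injective_iff_surjective.1 fun a b h => ?_
    have : σ (b * a⁻¹) = b * a⁻¹ := by
      rw [map_mul, map_inv]
      calc σ b * (σ a)⁻¹ = b * (b⁻¹ * σ b) * (σ a)⁻¹ := by group
        _ = b * (a⁻¹ * σ a) * (σ a)⁻¹ := by rw [← h]
        _ = b * a⁻¹ := by group
    exact (mul_inv_eq_one.1 (hfix _ this)).symm
  have hsum : ∀ u, u * σ u * σ (σ u) = 1 := by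
    intro u
    obtain ⟨v, rfl⟩ := hsurj u
    simp only [map_mul, map_inv, h3]
    group
  have hc : ∀ u, Commute u (σ u) := by
    intro u
    have a := eq_inv_of_mul_eq_one_right (hsum u)
    have b := eq_inv_of_mul_eq_one_right (hsum u⁻¹)
    simp only [map_inv, mul_inv_rev, inv_inv] at a b
    rw [a, mul_inv_rev, inv_inv, inv_inv] at b
    exact b
  have hw : ∀ u w, Commute u (w * σ u * w⁻¹) := by
    intro u w
    obtain ⟨v, rfl⟩ := hsurj w
    have h1 := (hc (v * u * v⁻¹)).map (MulAut.conj v⁻¹)
    simp only [MulAut.conj_apply] at h1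
    rw [map_mul σ, map_mul σ, map_inv σ] at h1
    have e1 : v⁻¹ * (v * u * v⁻¹) * v⁻¹⁻¹ = u := by group
    rw [e1] at h1
    simpa only [mul_inv_rev, inv_inv, mul_assoc] using h1
  refine ⟨hsum, fun x g => ?_⟩
  have hw2 : ∀ u w, Commute u (w * σ (σ u) * w⁻¹) := by
    intro u w
    have h1 := (hw (σ (σ u)) w⁻¹).map (MulAut.conj w)
    simp only [MulAut.conj_apply, h3] at h1
    have e : w * (w⁻¹ * u * w⁻¹⁻¹) * w⁻¹ = u := by group
    rw [e] at h1
    exact h1.symm
  have e2 : σ x * σ (σ x) = x⁻¹ := eq_inv_of_mul_eq_one_right (by rw [← mul_assoc]; exact hsum x)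
  have h3 := ((hw x g).mul_right (hw2 x g)).inv_right
  have e3 : ((g * σ x * g⁻¹) * (g * σ (σ x) * g⁻¹))⁻¹ = g * x * g⁻¹ := by
    have : (g * σ x * g⁻¹) * (g * σ (σ x) * g⁻¹) = g * (σ x * σ (σ x)) * g⁻¹ := by group
    rw [this, e2]; group
  rwa [e3] at h3

end Cfsg.Agent.Solv.EngelTwo
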