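import Cfsg.Agent.Lib.Solv.BrauerReynoldsIdent
import Cfsg.Agent.Lib.Solv.Cores
import Cfsg.Agent.Lib.Classical.Dickson.Tools
import Cfsg.Prelude.Def_CaseTheorems

/-!
Passing to the quotient by the `p'`-core.
-/

set_option autoImplicit false

namespace Cfsg.Agent.Solv.BReyn

open Cfsg

universe u

variable {G : Type u} [Group G] [Finite G] {p : ℕ} [Fact p.Prime]

theorem not_exceptional_zero : ¬ Exceptional p 0 := by
  rintro ⟨h, u, hh, hu, he⟩
  omega

theorem reduce (hperf : commutator G = ⊤) (P : Sylow p G) (hP : Nat.card P = p) {n : ℕ}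
    (hn : Nat.card (Sylow p G) = n * p + 1) (hF : ¬ Exceptional p n)
    (K : Subgroup G) [hK : K.Normal] (hKp : ¬ p ∣ Nat.card K)
    (hmax : ∀ L : Subgroup G, L.Normal → ¬ p ∣ Nat.card L → L ≤ K) :
    Concl p (G ⧸ K) ∧ K ≤ Subgroup.normalizer ((P : Subgroup G) : Set G) := by
  classical
  have hp : p.Prime := Fact.out
  haveI : Fintype (G ⧸ K) := Fintype.ofFinite _
  have hsurj : Function.Surjective (QuotientGroup.mk' K) := QuotientGroup.mk'_surjective K
  set P' : Sylow p (G ⧸ K) := P.mapSurjective hsurj with hP'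
  have hP'e : (P' : Subgroup (G ⧸ K)) = (P : Subgroup G).map (QuotientGroup.mk' K) := rfl
  have hcard : Nat.card P' = p := by
    have hinf : (P : Subgroup G) ⊓ K = ⊥ := by
      refine Subgroup.card_eq_one.mp (Nat.Coprime.eq_one_of_dvd ?_
        (Subgroup.card_dvd_of_le (inf_le_right : (P : Subgroup G) ⊓ K ≤ K)))
      exact Nat.Coprime.coprime_dvd_left (Subgroup.card_dvd_of_le inf_le_left)
        (by rw [show Nat.card ↥(P : Subgroup G) = p from hP]; exact hp.coprime_iff_not_dvd.mpr hKp)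
    show Nat.card ↥((P : Subgroup G).map (QuotientGroup.mk' K)) = p
    rw [← Subgroup.relIndex_ker, QuotientGroup.ker_mk']
    rw [← Subgroup.inf_relIndex_right, inf_comm, hinf, Subgroup.relIndex_bot_left]
    exact hP
  have hperf' : commutator (G ⧸ K) = ⊤ := by
    rw [eq_top_iff, ← Subgroup.map_top_of_surjective _ hsurj, ← hperf, commutator_def,
      Subgroup.map_commutator, commutator_def]
    exact Subgroup.commutator_mono le_top le_top
  have hcore : ∀ L : Subgroup (G ⧸ K), L.Normal → ¬ p ∣ Nat.card L → L = ⊥ := by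
    intro L hL hLp
    have hle : L.comap (QuotientGroup.mk' K) ≤ K := by
      refine hmax _ (hL.comap _) fun hd => ?_
      rw [show Nat.card (L.comap (QuotientGroup.mk' K)) = Nat.card K * Nat.card L from
        (Nat.card_congr (QuotientGroup.preimageMkEquivSubgroupProdSet K (L : Set (G ⧸ K)))).trans
          (Nat.card_prod _ _)] at hd
      rcases hp.dvd_mul.mp hd with h | h
      · exact hKp h
      · exact hLp h
    rw [← Subgroup.map_comap_eq_self_of_surjective hsurj L, Subgroup.map_eq_bot_iff,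
      QuotientGroup.ker_mk']
    exact hle
  obtain ⟨n', hn'⟩ : ∃ n', Nat.card (Sylow p (G ⧸ K)) = n' * p + 1 := by
    refine ⟨Nat.card (Sylow p (G ⧸ K)) / p, ?_⟩
    have h := card_sylow_modEq_one p (G ⧸ K)
    rw [Nat.ModEq, Nat.mod_eq_of_lt hp.one_lt] at h
    conv_lhs => rw [← Nat.div_add_mod' (Nat.card (Sylow p (G ⧸ K))) p, h]
  have hdvd : n' * p + 1 ∣ n * p + 1 := by
    rw [← hn', ← hn, Sylow.card_eq_index_normalizer P', Sylow.card_eq_index_normalizer P]
    refine (Subgroup.index_dvd_of_le ?_).trans (Subgroup.index_map_dvd (H := Subgroup.normalizer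
      ((P : Subgroup G) : Set G)) hsurj)
    show _ ≤ Subgroup.normalizer (((P : Subgroup G).map (QuotientGroup.mk' K) : Subgroup (G ⧸ K)) : Set (G ⧸ K))
    exact Subgroup.le_normalizer_map _
  have hcases : n' = 0 ∨ n' = n := by
    rcases dvd_cases hp hF (d := n' * p + 1) (by push_cast; rw [ZMod.natCast_self]; ring)
      (hdvd.mul_right _) with h | h
    · exact Or.inl ((Nat.mul_eq_zero.mp (by omega)).resolve_right hp.ne_zero)
    · exact Or.inr (Nat.eq_of_mul_eq_mul_right hp.pos (by omega))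
  have hH : Hyp P' n' := ⟨hperf', hcard, hn', by
    rcases hcases with rfl | rfl
    · exact not_exceptional_zero
    · exact hF, hcore⟩
  have hn'n : n' = n := hcases.resolve_left fun h => by
    have := hH.one_lt_count
    rw [h, zero_mul] at this
    omega
  refine ⟨main hH, ?_⟩
  set N' := (Subgroup.normalizer ((P' : Subgroup (G ⧸ K)) : Set (G ⧸ K))).comap (QuotientGroup.mk' K)
    with hN'
  have hle : Subgroup.normalizer ((P : Subgroup G) : Set G) ≤ N' := by
    rw [hN', ← Subgroup.map_le_iff_le_comap, hP'e]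
    exact Subgroup.le_normalizer_map _
  have hidx : N'.index = (Subgroup.normalizer ((P : Subgroup G) : Set G)).index := by
    rw [hN', Subgroup.index_comap_of_surjective _ hsurj]
    have h1 := Sylow.card_eq_index_normalizer P
    have h2 := Sylow.card_eq_index_normalizer P'
    rw [hn] at h1
    rw [hn', hn'n] at h2
    exact h2.symm.trans h1
  have heq : Subgroup.normalizer ((P : Subgroup G) : Set G) = N' := by
    refine Subgroup.eq_of_le_of_card_ge hle (le_of_eq ?_)
    have h1 := Subgroup.card_mul_index N'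
    rw [hidx, ← Subgroup.card_mul_index (Subgroup.normalizer ((P : Subgroup G) : Set G))] at h1
    exact Nat.eq_of_mul_eq_mul_right (Nat.pos_of_ne_zero Subgroup.index_ne_zero_of_finite) h1
  intro k hk
  rw [heq, hN', Subgroup.mem_comap, QuotientGroup.mk'_apply, (QuotientGroup.eq_one_iff k).mpr hk]
  exact Subgroup.one_mem _

theorem core_spec :
    ¬ p ∣ Nat.card (pPrimeCore p G) ∧
      ∀ L : Subgroup G, L.Normal → ¬ p ∣ Nat.card L → L ≤ pPrimeCore p G := by
  have hp : p.Prime := Fact.out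
  refine ⟨fun h => ?_, fun L hL hLp => ?_⟩
  · exact hp.coprime_iff_not_dvd.mp (pPrimeCore_coprime (G := G) p).symm h
  · haveI := hL
    exact normal_le_pPrimeCore (p := p) ((hp.coprime_iff_not_dvd.mpr hLp).symm)

theorem exists_count : ∃ n, Nat.card (Sylow p G) = n * p + 1 := by
  have hp : p.Prime := Fact.out
  refine ⟨Nat.card (Sylow p G) / p, ?_⟩
  have h := card_sylow_modEq_one p G
  rw [Nat.ModEq, Nat.mod_eq_of_lt hp.one_lt] at h
  conv_lhs => rw [← Nat.div_add_mod' (Nat.card (Sylow p G)) p, h]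

/-- The order of a group in the conclusion. -/
theorem Concl.card (h : Concl p G) :
    2 * Nat.card G = p * (p ^ 2 - 1) ∨ Nat.card G = p * (p - 1) * (p - 2) := by
  rcases h with ⟨F, iF, iF', hF, hp3, ⟨i⟩⟩ | ⟨m, F, iF, iF', hF, hpm, hp3, hi⟩
  · left
    have h1 := Cfsg.Agent.Classical.Dickson.card_psl F
    have h2 : Nat.gcd 2 (Fintype.card F - 1) = 2 := by
      refine Nat.gcd_eq_left ?_
      obtain ⟨k, hk⟩ := (Fact.out : p.Prime).odd_of_ne_two (by omega)
      rw [hF, hk]
      exact ⟨k, by omega⟩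
    rw [h2, hF] at h1
    rw [Nat.card_congr i.toEquiv, mul_comm]
    exact h1
  · right
    have hm : m ≠ 0 := fun h => by rw [h, pow_zero] at hpm; omega
    obtain ⟨i⟩ := sl_to_psl hm F hF hi
    have h1 := Cfsg.Agent.Classical.Dickson.card_psl F
    have h2 : Nat.gcd 2 (Fintype.card F - 1) = 1 := by
      rw [hF]
      refine Nat.coprime_iff_gcd_eq_one.1 (Nat.coprime_two_left.2 ⟨2 ^ (m - 1) - 1, ?_⟩)
      obtain ⟨k, rfl⟩ := Nat.exists_eq_succ_of_ne_zero hm
      rw [Nat.succ_sub_one, pow_succ]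
      have := Nat.one_le_two_pow (n := k)
      omega
    rw [h2, mul_one, hF] at h1
    rw [Nat.card_congr i.toEquiv, h1]
    generalize hq : 2 ^ m = q at hpm ⊢
    subst hpm
    obtain ⟨r, rfl⟩ : ∃ r, q = r + 1 := ⟨q - 1, by omega⟩
    rw [show (r + 1) ^ 2 - 1 = r * (r + 2) by rw [Nat.sub_eq_iff_eq_add (by nlinarith)]; ring,
      show r + 1 + 1 - 2 = r by omega, show r + 1 + 1 - 1 = r + 1 by omega]
    ring

theorem Concl.congr {H : Type*} [Group H] (h : Concl p G) (i : H ≃* G) : Concl p H := by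
  rcases h with ⟨F, iF, iF', hF, hp3, ⟨j⟩⟩ | ⟨m, F, iF, iF', hF, hpm, hp3, ⟨j⟩⟩
  · exact Or.inl ⟨F, iF, iF', hF, hp3, ⟨i.trans j⟩⟩
  · exact Or.inr ⟨m, F, iF, iF', hF, hpm, hp3, ⟨i.trans j⟩⟩

/-- In both variants of the statements with `PSL` in place of `SL`. -/
theorem Concl.psl (h : Concl p G) :
    (∃ (F : Type) (_ : Field F) (_ : Fintype F), Fintype.card F = p ∧ 3 < p ∧
      Nonempty (G ≃* Matrix.ProjectiveSpecialLinearGroup (Fin 2) F)) ∨
    (∃ (m : ℕ) (F : Type) (_ : Field F) (_ : Fintype F), Fintype.card F = 2 ^ m ∧ p = 2 ^ m + 1 ∧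
      3 < p ∧ Nonempty (G ≃* Matrix.ProjectiveSpecialLinearGroup (Fin 2) F)) := by
  rcases h with h | ⟨m, F, iF, iF', hF, hpm, hp3, hi⟩
  · exact Or.inl h
  · exact Or.inr ⟨m, F, iF, iF', hF, hpm, hp3,
      sl_to_psl (fun h => by rw [h, pow_zero] at hpm; omega) F hF hi⟩

/-- A prime above the cube root of the order gives a Sylow subgroup of prime order. -/
theorem large_prime (hperf : commutator G = ⊤) (hdvd : p ∣ Nat.card G) (hbig : Nat.card G < p ^ 3) (P : Sylow p G)
    (hP : ¬ (P : Subgroup G).Normal) :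
    Nat.card P = p ∧ ∀ n, Nat.card (Sylow p G) = n * p + 1 → 2 * n < p + 3 := by
  have hp : p.Prime := Fact.out
  obtain ⟨k, hk⟩ := IsPGroup.iff_card.mp P.2
  have hk1 : 1 ≤ k := by
    by_contra h
    have h1 := P.dvd_card_of_dvd_card hdvd
    rw [hk, show k = 0 by omega, pow_zero] at h1
    exact hp.not_dvd_one h1
  have hN : 2 ≤ (Subgroup.normalizer ((P : Subgroup G) : Set G)).index := by
    rcases Nat.lt_or_ge (Subgroup.normalizer ((P : Subgroup G) : Set G)).index 2 with h | h
    · exfalso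
      refine hP (Subgroup.normalizer_eq_top_iff.mp (Subgroup.index_eq_one.mp ?_))
      have h0 := Subgroup.index_ne_zero_of_finite (H := Subgroup.normalizer ((P : Subgroup G) : Set G))
      omega
    · exact h
  have hmul := Subgroup.card_mul_index (Subgroup.normalizer ((P : Subgroup G) : Set G))
  obtain ⟨n, hn⟩ := exists_count (G := G) (p := p)
  rw [Sylow.card_eq_index_normalizer P] at hn
  have hn' : (Subgroup.normalizer ((P : Subgroup G) : Set G)).index = n * p + 1 := hn
  have hn1 : 1 ≤ n := by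
    by_contra h
    rw [hn', show n = 0 by omega, zero_mul] at hN
    omega
  have hPN : Nat.card P ∣ Nat.card (Subgroup.normalizer ((P : Subgroup G) : Set G)) :=
    Subgroup.card_dvd_of_le Subgroup.le_normalizer
  have hle := Nat.le_of_dvd Nat.card_pos hPN
  rw [hn'] at hmul
  have h1 : p + 1 ≤ n * p + 1 := by
    have := Nat.le_mul_of_pos_left p hn1
    omega
  have hk2 : k = 1 := by
    by_contra h
    have h2 : p ^ 2 ≤ Nat.card P := by rw [hk]; exact Nat.pow_le_pow_right hp.pos (by omega)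
    have h3 := Nat.mul_le_mul (h2.trans hle) h1
    have h4 : p ^ 3 ≤ p ^ 2 * (p + 1) := by rw [pow_succ p 2]; exact Nat.mul_le_mul_left _ (by omega)
    omega
  subst hk2
  rw [pow_one] at hk
  refine ⟨hk, fun n' hn'' => ?_⟩
  rw [Sylow.card_eq_index_normalizer P] at hn''
  obtain rfl : n' = n := Nat.eq_of_mul_eq_mul_right hp.pos (by omega)
  obtain ⟨r, hr⟩ := hPN
  have hr2 : 1 ≤ r := by
    rcases Nat.eq_zero_or_pos r with h | h
    · rw [h, mul_zero] at hr; exact absurd hr Nat.card_pos.ne'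
    · exact h
  rw [hr, hk] at hmul
  by_contra hlt
  rcases Nat.lt_or_ge r 2 with h2 | h2
  · obtain rfl : r = 1 := by omega
    have hNP : (P : Subgroup G) = Subgroup.normalizer ((P : Subgroup G) : Set G) :=
      Subgroup.eq_of_le_of_card_ge Subgroup.le_normalizer (by rw [hr, mul_one])
    haveI : IsCyclic ↥(P : Subgroup G) := isCyclic_of_prime_card hk
    haveI : IsMulCommutative ↥(P : Subgroup G) := IsCyclic.isMulCommutative
    letI : CommGroup ↥(P : Subgroup G) := IsCyclic.commGroup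
    have hle' : Subgroup.normalizer ((P : Subgroup G) : Set G) ≤
        Subgroup.centralizer ((P : Subgroup G) : Set G) := by
      conv_lhs => rw [← hNP]
      exact Subgroup.le_centralizer _
    haveI : Fintype G := Fintype.ofFinite G
    refine MonoidHom.not_dvd_card_ker_transferSylow P hle' ?_
    rw [show (MonoidHom.transferSylow P hle').ker = ⊤ from eq_top_iff.mpr fun g _ =>
      hom_eq_one hperf (MonoidHom.transferSylow P hle') g, Subgroup.card_top]
    exact hdvd
  · rw [← hmul] at hbig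
    have h3 : p * 2 * (n' * p + 1) ≤ p * r * (n' * p + 1) :=
      Nat.mul_le_mul_right _ (Nat.mul_le_mul_left _ h2)
    nlinarith

end Cfsg.Agent.Solv.BReyn

namespace Cfsg.Agent.Solv.BReyn

variable {G : Type*} [Group G] [Finite G] {p : ℕ} [Fact p.Prime]

theorem commute_of_le_normalizer (P : Sylow p G) (K : Subgroup G) [K.Normal]
    (hKp : ¬ p ∣ Nat.card K) (hK : K ≤ Subgroup.normalizer ((P : Subgroup G) : Set G)) {k y : G}
    (hk : k ∈ K) (hy : y ∈ (P : Subgroup G)) : k * y = y * k := by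
  have hp : p.Prime := Fact.out
  have h1 : k * y * k⁻¹ * y⁻¹ ∈ (P : Subgroup G) :=
    Subgroup.mul_mem _ ((Subgroup.mem_normalizer_iff.mp (hK hk) y).mp hy) (Subgroup.inv_mem _ hy)
  have h2 : k * y * k⁻¹ * y⁻¹ ∈ K := by
    rw [show k * y * k⁻¹ * y⁻¹ = k * (y * k⁻¹ * y⁻¹) by group]
    exact K.mul_mem hk ((inferInstance : K.Normal).conj_mem _ (K.inv_mem hk) y)
  obtain ⟨j, hj⟩ := IsPGroup.iff_card.mp P.2
  have h3 : Subgroup.zpowers (k * y * k⁻¹ * y⁻¹) ≤ ⊥ := by
    rw [le_bot_iff, ← Subgroup.card_eq_one]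
    refine Nat.Coprime.eq_one_of_dvd ?_ (Subgroup.card_dvd_of_le (Subgroup.zpowers_le.mpr h2))
    refine Nat.Coprime.coprime_dvd_left (Subgroup.card_dvd_of_le (Subgroup.zpowers_le.mpr h1)) ?_
    rw [hj]
    exact Nat.Coprime.pow_left _ (hp.coprime_iff_not_dvd.mpr hKp)
  have h4 := Subgroup.mem_bot.mp (h3 (Subgroup.mem_zpowers _))
  rw [mul_inv_eq_one, mul_inv_eq_iff_eq_mul] at h4
  exact h4

end Cfsg.Agent.Solv.BReyn
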