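import Cfsg.Agent.Lib.Solv.Basic
import Mathlib.GroupTheory.Sylow
import Mathlib.GroupTheory.SpecificGroups.Cyclic

/-!
Conjugating p-subgroups into a Sylow subgroup; coprime action on a cyclic p-group.
-/

set_option autoImplicit false

open scoped Pointwise

namespace Cfsg.Agent.Solv

universe u

variable {G : Type u} [Group G]

theorem exists_le_conj_sylow [Finite G] {p : ℕ} [Fact p.Prime] {R : Subgroup G} (hR : IsPGroup p R)
    (P : Sylow p G) : ∃ g : G, R ≤ MulAut.conj g • (P : Subgroup G) := by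
  obtain ⟨Q, hQ⟩ := hR.exists_le_sylow
  obtain ⟨g, rfl⟩ := MulAction.exists_smul_eq G P Q
  exact ⟨g, hQ⟩

theorem eq_sylow_of_le [Finite G] {p : ℕ} [Fact p.Prime] (P : Sylow p G) {g : G}
    (h : (P : Subgroup G) ≤ MulAut.conj g • (P : Subgroup G)) :
    MulAut.conj g • (P : Subgroup G) = P :=
  (Subgroup.eq_of_le_of_card_ge h (card_conj_smul _ _).le).symm

/-- An element of order prime to `p` normalizing a cyclic `p`-group and fixing a nontrivial
element of it centralizes it. -/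
theorem centralizes_cyclic [Finite G] {p : ℕ} [Fact p.Prime] {D : Subgroup G} (hD : IsPGroup p D)
    (hcyc : IsCyclic D) {c : G} (hc : c ∈ Subgroup.normalizer (D : Set G))
    (hco : (orderOf c).Coprime p) {x : G} (hxD : x ∈ D) (hx1 : x ≠ 1) (hcx : c * x = x * c) :
    ∀ d ∈ D, c * d = d * c := by
  have hp : p.Prime := Fact.out
  letI : CommGroup D := IsCyclic.commGroup
  let φ : D →* D :=
    { toFun := fun d => ⟨c * d * c⁻¹, (Subgroup.mem_normalizer_iff.1 hc _).1 d.2⟩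
      map_one' := Subtype.ext (by simp)
      map_mul' := fun a b => Subtype.ext (by simp [mul_assoc]) }
  let ψ : D →* D :=
    { toFun := fun d => d⁻¹ * φ d
      map_one' := by simp
      map_mul' := fun a b => by rw [map_mul, mul_inv, mul_mul_mul_comm] }
  suffices hψ : ψ.range = ⊥ by
    intro d hd
    have h1 : ψ ⟨d, hd⟩ ∈ ψ.range := ⟨_, rfl⟩
    rw [hψ, Subgroup.mem_bot] at h1
    have h2 : d = c * d * c⁻¹ := congrArg Subtype.val (inv_mul_eq_one.1 h1)
    exact (eq_mul_inv_iff_mul_eq.1 h2).symm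
  by_contra hne
  have hexp : ∀ {z : D}, z ≠ 1 → ∃ k : ℕ, orderOf z = p ^ (k + 1) := by
    intro z hz
    obtain ⟨k, hk⟩ := IsPGroup.iff_orderOf.1 hD z
    rcases k with _ | k
    · exact absurd (orderOf_eq_one_iff.1 (by simpa using hk)) hz
    · exact ⟨k, hk⟩
  obtain ⟨⟨z, hzr⟩, hz1⟩ := Subgroup.ne_bot_iff_exists_ne_one.1 hne
  have hz1 : z ≠ 1 := fun e => hz1 (Subtype.ext e)
  obtain ⟨k, hk⟩ := hexp hz1
  obtain ⟨j, hj⟩ := hexp (show (⟨x, hxD⟩ : D) ≠ 1 from fun e => hx1 (congrArg Subtype.val e))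
  set z₁ : D := z ^ p ^ k
  set x₁ : D := (⟨x, hxD⟩ : D) ^ p ^ j
  have ho : ∀ {w : D} {k : ℕ}, orderOf w = p ^ (k + 1) → orderOf (w ^ p ^ k) = p := by
    intro w k hw
    rw [orderOf_pow_of_dvd (pow_ne_zero _ hp.ne_zero) (hw ▸ pow_dvd_pow p (Nat.le_succ k)), hw,
      pow_succ, Nat.mul_div_cancel_left _ (pow_pos hp.pos k)]
  have hker : ∀ w : D, orderOf w = p → Subgroup.zpowers w = (powMonoidHom p : D →* D).ker := by
    intro w hw
    refine Subgroup.eq_of_le_of_card_ge (Subgroup.zpowers_le.2 (orderOf_dvd_iff_pow_eq_one.1 hw.dvd)) ?_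
    rw [IsCyclic.card_powMonoidHom_ker, Nat.card_zpowers, hw]
    exact Nat.gcd_le_right _ hp.pos
  have hfix : φ z₁ = z₁ := by
    obtain ⟨i, hi⟩ := ((hker x₁ (ho hj)).trans (hker z₁ (ho hk)).symm).ge (Subgroup.mem_zpowers z₁)
    have hi : x₁ ^ i = z₁ := hi
    have hxf : φ (⟨x, hxD⟩ : D) = ⟨x, hxD⟩ := Subtype.ext (by
      show c * x * c⁻¹ = x
      rw [hcx, mul_inv_cancel_right])
    rw [← hi, map_zpow, map_pow, hxf]
  obtain ⟨d, hd⟩ := Subgroup.pow_mem _ hzr (p ^ k) (x := z)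
  have hd : ψ d = z₁ := hd
  have hd' : φ d = d * z₁ := by
    rw [← hd]; exact (mul_inv_cancel_left d (φ d)).symm
  have hit : ∀ i : ℕ, c ^ i * (d : G) * (c ^ i)⁻¹ = d * (z₁ : G) ^ i := by
    intro i
    induction i with
    | zero => simp
    | succ i ih =>
      have h1 : c * (d : G) * c⁻¹ = d * z₁ := congrArg Subtype.val hd'
      have h2 : c * (z₁ : G) * c⁻¹ = z₁ := congrArg Subtype.val hfix
      calc c ^ (i + 1) * (d : G) * (c ^ (i + 1))⁻¹ = c * (c ^ i * (d : G) * (c ^ i)⁻¹) * c⁻¹ := by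
            rw [pow_succ' c, mul_inv_rev]; group
        _ = (c * (d : G) * c⁻¹) * (c * (z₁ : G) ^ i * c⁻¹) := by rw [ih]; group
        _ = d * (z₁ : G) * (z₁ : G) ^ i := by rw [h1, ← conj_pow, h2]
        _ = _ := by rw [pow_succ', mul_assoc]
  have h3 := hit (orderOf c)
  rw [pow_orderOf_eq_one, one_mul, inv_one, mul_one, left_eq_mul, ← orderOf_dvd_iff_pow_eq_one,
    Subgroup.orderOf_coe, ho hk] at h3
  exact hp.ne_one (Nat.eq_one_of_dvd_coprimes hco h3 dvd_rfl)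

end Cfsg.Agent.Solv
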