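import Cfsg.Agent.Lib.Solv.WielandtProduct
import Cfsg.Agent.S0560

/-!
Kegel's theorem: a product of two nilpotent subgroups is solvable.
-/

set_option autoImplicit false
set_option linter.style.haveILetI false
set_option linter.unusedSectionVars false

open scoped Pointwise

namespace Cfsg.Agent.Solv.Fct

universe u

variable {G : Type u} [Group G] [Finite G]

theorem part_unique {A : Subgroup G} (hA : Group.IsNilpotent A) {p : ℕ} [Fact p.Prime] (P : Sylow p A) :
    (P : Subgroup A).map A.subtype = part A p := by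
  refine Subgroup.eq_of_le_of_card_ge ?_ (by rw [part_card, card_map_subtype, P.card_eq_multiplicity])
  rintro _ ⟨x, hx, rfl⟩
  refine mem_part hA x.2 ?_
  obtain ⟨k, hk⟩ := IsPGroup.iff_orderOf.1 P.2 ⟨x, hx⟩
  exact ⟨k, by rw [Subgroup.orderOf_mk, ← Subgroup.orderOf_coe] at hk; exact hk⟩

theorem part_conj_smul {A : Subgroup G} (hA : Group.IsNilpotent A) {p : ℕ} [Fact p.Prime] {a : G} (ha : a ∈ A) :
    MulAut.conj a • part A p = part A p :=
  conj_smul_of_mem_normalizer (le_normalizer_part hA p ha)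

/-- permutes with every conjugate of `B` -/
def Perm (A B : Subgroup G) : Prop :=
  ∀ x : G, ∀ b ∈ MulAut.conj x • B, ∀ a ∈ A, ∃ a' ∈ A, ∃ b' ∈ MulAut.conj x • B, b * a = a' * b'

theorem perm_part {A B : Subgroup G} (hA : Group.IsNilpotent A) (hB : Group.IsNilpotent B)
    (hAB : ∀ g : G, ∃ a ∈ A, ∃ b ∈ B, g = a * b) (p : ℕ) [Fact p.Prime] : Perm (part A p) (part B p) := by
  obtain ⟨P, Q, R, hR⟩ := S0560.result A B hAB p
  rw [part_unique hA P, part_unique hB Q] at hR
  intro x y hy a ha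
  obtain ⟨a0, ha0, b0, hb0, rfl⟩ := hAB x
  rw [← conj_smul_conj, part_conj_smul hB hb0] at hy ⊢
  rw [mem_conj_smul] at hy
  obtain ⟨c, hc, d, hd, e⟩ := S0566.perm_comm hR _ hy (a0⁻¹ * a * a0⁻¹⁻¹) (part_conj hA (A.inv_mem ha0) ha)
  refine ⟨a0 * c * a0⁻¹, part_conj hA ha0 hc, a0 * d * a0⁻¹, ?_, ?_⟩
  · rw [mem_conj_smul]
    simpa [mul_assoc] using hd
  · calc y * a = a0 * (a0⁻¹ * y * a0 * (a0⁻¹ * a * a0⁻¹⁻¹)) * a0⁻¹ := by group
      _ = _ := by rw [e]; group

/-- a product of two `p`-subgroups which is a subgroup is a `p`-group -/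
theorem isPGroup_of_product {A B S : Subgroup G} {p : ℕ} [Fact p.Prime] (hA : IsPGroup p A) (hB : IsPGroup p B)
    (h : (S : Set G) = (A : Set G) * (B : Set G)) : IsPGroup p S := by
  have hAS : A ≤ S := fun a ha => by rw [← SetLike.mem_coe, h]; exact ⟨a, ha, 1, one_mem _, mul_one a⟩
  have hBS : B ≤ S := fun b hb => by rw [← SetLike.mem_coe, h]; exact ⟨1, one_mem _, b, hb, one_mul b⟩
  obtain ⟨P, hP⟩ := (hA.of_equiv (Subgroup.subgroupOfEquivOfLe hAS).symm).exists_le_sylow
  obtain ⟨Q, hQ⟩ := (hB.of_equiv (Subgroup.subgroupOfEquivOfLe hBS).symm).exists_le_sylow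
  obtain ⟨v, hv⟩ := MulAction.exists_smul_eq S P Q
  obtain ⟨a, ha, b, hb, e⟩ : ∃ a ∈ A, ∃ b ∈ B, (v : G) = b * a := by
    have h1 : ((v : G))⁻¹ ∈ (S : Set G) := S.inv_mem v.2
    rw [h] at h1
    obtain ⟨a, ha, b, hb, e⟩ := h1
    have e' : a * b = (v : G)⁻¹ := e
    exact ⟨a⁻¹, A.inv_mem ha, b⁻¹, B.inv_mem hb, by rw [← mul_inv_rev, e', inv_inv]⟩
  have hBP : B.subgroupOf S ≤ (P : Subgroup S) := by
    intro y hy
    have hv' : (Q : Subgroup S) = MulAut.conj v • (P : Subgroup S) := by rw [← hv]; rfl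
    have hbS : b ∈ S := hBS hb
    have haS : a ∈ S := hAS ha
    have h1 : (⟨b, hbS⟩ : S) * y * ⟨b, hbS⟩⁻¹ ∈ (Q : Subgroup S) :=
      hQ (show b * (y : G) * b⁻¹ ∈ B from B.mul_mem (B.mul_mem hb hy) (B.inv_mem hb))
    rw [hv', mem_conj_smul] at h1
    have hva : v = ⟨b, hbS⟩ * ⟨a, haS⟩ := Subtype.ext e
    have haP : (⟨a, haS⟩ : S) ∈ (P : Subgroup S) := hP ha
    rw [hva] at h1
    have h2 := mul_mem (mul_mem haP h1) (inv_mem haP)
    convert h2 using 1
    group
  have htop : (P : Subgroup S) = ⊤ := by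
    rw [eq_top_iff]
    intro w _
    have h1 : (w : G) ∈ (S : Set G) := w.2
    rw [h] at h1
    obtain ⟨a, ha, b, hb, e⟩ := h1
    have : w = ⟨a, hAS ha⟩ * ⟨b, hBS hb⟩ := Subtype.ext e.symm
    rw [this]
    exact mul_mem (hP ha) (hBP hb)
  have := P.2
  rw [htop] at this
  exact this.of_equiv Subgroup.topEquiv

/-- two `p`-subgroups all whose conjugates permute centralize the normal closures, unless `O_p` is non-trivial -/
theorem perm_centralizes {A B : Subgroup G} {p : ℕ} [Fact p.Prime] (hA : IsPGroup p A) (hB : IsPGroup p B)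
    (h : Perm A B) (hcore : ∀ T : Subgroup G, T.Normal → IsPGroup p T → T = ⊥) :
    A ≤ Subgroup.centralizer (Subgroup.normalClosure (B : Set G) : Set G) := by
  obtain ⟨Z, hAZ, ⟨hZp, hZ⟩, hmax⟩ := Finite.exists_le_maximal
    (p := fun X : Subgroup G => IsPGroup p X ∧ Perm X B) (a := A) ⟨hA, h⟩
  obtain ⟨N, hN⟩ : ∃ N, N = Subgroup.normalClosure (B : Set G) := ⟨_, rfl⟩
  haveI hNn : N.Normal := hN ▸ inferInstance
  have hle : N ≤ Subgroup.normalizer (Z : Set G) := by
    rw [hN]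
    refine (Subgroup.closure_le _).2 fun z hz => ?_
    obtain ⟨b, hb, hc⟩ := Group.mem_conjugatesOfSet_iff.1 hz
    obtain ⟨x, rfl⟩ := isConj_iff.1 hc
    obtain ⟨y, hy⟩ : ∃ y, y = x * b * x⁻¹ := ⟨_, rfl⟩
    rw [← hy]
    have hyB : y ∈ MulAut.conj x • B := by
      rw [hy, mem_conj_smul]; simpa [mul_assoc] using hb
    obtain ⟨S, hS⟩ := S0566.exists_subgroup_of_perm (hZ x)
    have hSp : IsPGroup p S := isPGroup_of_product hZp (hB.of_equiv (Subgroup.equivSMul (MulAut.conj x) B)) hS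
    have hZS : Z ≤ S := fun a ha => by rw [← SetLike.mem_coe, hS]; exact ⟨a, ha, 1, one_mem _, mul_one a⟩
    have hyS : y ∈ S := by rw [← SetLike.mem_coe, hS]; exact ⟨1, one_mem _, y, hyB, one_mul y⟩
    have hle : Z ⊔ MulAut.conj y • Z ≤ Z := by
      refine hmax ⟨hSp.to_le (sup_le hZS ?_), fun z => ?_⟩ le_sup_left
      · rw [← Subgroup.conj_smul_eq_self_of_mem hyS]
        exact Subgroup.pointwise_smul_le_pointwise_smul_iff.2 hZS
      · refine S0566.sup_perm (hZ z) fun b hb a ha => ?_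
        rw [mem_conj_smul] at ha
        obtain ⟨a', ha', b', hb', h3⟩ := hZ (y⁻¹ * z) (y⁻¹ * b * y)
          (by rw [mem_conj_smul] at hb ⊢; simpa [mul_assoc] using hb) _ ha
        refine ⟨y * a' * y⁻¹, by rw [mem_conj_smul]; simpa [mul_assoc] using ha',
          y * b' * y⁻¹, by rw [mem_conj_smul] at hb' ⊢; simpa [mul_assoc] using hb', ?_⟩
        calc b * a = y * ((y⁻¹ * b * y) * (y⁻¹ * a * y)) * y⁻¹ := by group
          _ = _ := by rw [h3]; group
    exact mem_normalizer_of_conj_smul (Subgroup.eq_of_le_of_card_ge (le_sup_right.trans hle)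
      (card_conj_smul y Z).ge)
  -- the intersection
  obtain ⟨I, hI⟩ : ∃ I, I = Z ⊓ N := ⟨_, rfl⟩
  have hIN : I ≤ N := hI ▸ inf_le_right
  haveI hIn : (I.subgroupOf N).Normal := by
    refine ⟨fun i hi n => ?_⟩
    rw [Subgroup.mem_subgroupOf, hI] at hi ⊢
    exact Subgroup.mem_inf.2 ⟨(Subgroup.mem_normalizer_iff.1 (hle n.2) _).1 (Subgroup.mem_inf.1 hi).1,
      (n * i * n⁻¹ : N).2⟩
  have hIp : IsPGroup p (I.subgroupOf N) := (hZp.to_le (hI ▸ inf_le_left)).of_equiv (Subgroup.subgroupOfEquivOfLe hIN).symm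
  have hcl : Subgroup.normalClosure (I : Set G) ≤ (Cfsg.pCore p N).map N.subtype := by
    refine (Subgroup.closure_le _).2 fun z hz => ?_
    obtain ⟨i, hi, hc⟩ := Group.mem_conjugatesOfSet_iff.1 hz
    obtain ⟨g, rfl⟩ := isConj_iff.1 hc
    have hgI : MulAut.conj g • I ≤ N := fun w hw => by
      rw [mem_conj_smul] at hw
      have := hNn.conj_mem _ (hIN hw) g
      simpa [mul_assoc] using this
    haveI : ((MulAut.conj g • I).subgroupOf N).Normal := by
      refine ⟨fun w hw n => ?_⟩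
      rw [Subgroup.mem_subgroupOf, mem_conj_smul] at hw ⊢
      have hn : g⁻¹ * (n : G) * g⁻¹⁻¹ ∈ N := hNn.conj_mem _ n.2 g⁻¹
      have := hIn.conj_mem ⟨_, hIN hw⟩ hw ⟨_, hn⟩
      rw [Subgroup.mem_subgroupOf] at this
      convert this using 1
      simp only [Subgroup.coe_mul, Subgroup.coe_inv]
      group
    have hp : IsPGroup p ((MulAut.conj g • I).subgroupOf N) :=
      ((hZp.to_le (hI ▸ inf_le_left)).of_equiv (Subgroup.equivSMul (MulAut.conj g) I)).of_equiv
        (Subgroup.subgroupOfEquivOfLe hgI).symm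
    have hmem : g * i * g⁻¹ ∈ MulAut.conj g • I := by
      rw [mem_conj_smul]; simpa [mul_assoc] using hi
    exact ⟨⟨_, hgI hmem⟩, normal_le_pCore hp hmem, rfl⟩
  have hIb : I = ⊥ := le_bot_iff.1 (Subgroup.le_normalClosure.trans
    (hcore _ inferInstance (((pCore_isPGroup p).map N.subtype).to_le hcl)).le)
  rw [← hN]
  intro a ha
  rw [Subgroup.mem_centralizer_iff]
  intro n hn
  have h1 : n * a * n⁻¹ * a⁻¹ ∈ I := by
    rw [hI]
    refine Subgroup.mem_inf.2 ⟨Z.mul_mem ((Subgroup.mem_normalizer_iff.1 (hle hn) a).1 (hAZ ha)) (Z.inv_mem (hAZ ha)), ?_⟩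
    rw [show n * a * n⁻¹ * a⁻¹ = n * (a * n⁻¹ * a⁻¹) by group]
    exact N.mul_mem hn (hNn.conj_mem _ (N.inv_mem hn) a)
  rw [hIb, Subgroup.mem_bot] at h1
  exact mul_inv_eq_iff_eq_mul.1 (mul_inv_eq_one.1 h1)

/-- Kegel-Wielandt -/
theorem kegel : ∀ (n : ℕ) (G : Type u) [Group G] [Finite G] (A B : Subgroup G), Nat.card G = n →
    Group.IsNilpotent A → Group.IsNilpotent B → (∀ g : G, ∃ a ∈ A, ∃ b ∈ B, g = a * b) →
    Group.IsSolvable G := by
  intro n
  induction n using Nat.strong_induction_on with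
  | _ n ih =>
    intro G _ _ A B hn hA hB hAB
    subst hn
    by_cases hc : (Nat.card A).Coprime (Nat.card B)
    · exact solvable _ G A B rfl ⟨hAB, hc, hA, hB⟩
    by_contra hns
    have hquot : ∀ T : Subgroup G, [T.Normal] → T ≠ ⊥ → Group.IsSolvable (G ⧸ T) := by
      intro T _ hT
      let f := QuotientGroup.mk' T
      refine ih _ (card_quotient_lt T hT) _ (A.map f) (B.map f) rfl
        (Group.nilpotent_of_surjective _ (f.subgroupMap_surjective A))
        (Group.nilpotent_of_surjective _ (f.subgroupMap_surjective B)) fun x => ?_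
      obtain ⟨g, rfl⟩ := QuotientGroup.mk'_surjective T x
      obtain ⟨a, ha, b, hb, rfl⟩ := hAB g
      exact ⟨f a, ⟨a, ha, rfl⟩, f b, ⟨b, hb, rfl⟩, map_mul f a b⟩
    have hsolv : ∀ T : Subgroup G, T.Normal → Group.IsSolvable T → T = ⊥ := by
      intro T hT hTs
      by_contra hne
      haveI := hquot T hne
      exact hns (Group.isSolvable_of_ker_le_range T.subtype (QuotientGroup.mk' T)
        (by rw [QuotientGroup.ker_mk', Subgroup.range_subtype]))
    obtain ⟨p, hp, hpA, hpB⟩ := Nat.Prime.not_coprime_iff_dvd.1 hc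
    haveI := Fact.mk hp
    have hAC := perm_centralizes (part_pgroup A p) (part_pgroup B p) (perm_part hA hB hAB p)
      (fun T hT hTp => hsolv T hT (by haveI := hTp.isNilpotent; infer_instance))
    obtain ⟨N, hN⟩ : ∃ N, N = Subgroup.normalClosure (part B p : Set G) := ⟨_, rfl⟩
    rw [← hN] at hAC
    haveI hNn : N.Normal := hN ▸ inferInstance
    have hNb : N ≠ ⊥ := fun e => part_ne_bot B hpB (le_bot_iff.1 (e ▸ hN ▸ Subgroup.le_normalClosure))
    obtain ⟨C, hC⟩ : ∃ C, C = Subgroup.centralizer (N : Set G) := ⟨_, rfl⟩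
    haveI hCn : C.Normal := hC ▸ inferInstance
    have hCb : C ≠ ⊥ := fun e => part_ne_bot A hpA (le_bot_iff.1 (hAC.trans (hC ▸ e).le))
    have hinf : N ⊓ C = ⊥ := by
      refine hsolv _ inferInstance (Group.isSolvable_of_comm fun x y => Subtype.ext ?_)
      have h1 := (Subgroup.mem_inf.1 y.2).2
      have h1' := (SetLike.ext_iff.1 hC _).1 h1
      exact Subgroup.mem_centralizer_iff.1 h1' x (Subgroup.mem_inf.1 x.2).1
    haveI := hquot N hNb
    haveI := hquot C hCb
    refine hns (Group.isSolvable_of_isSolvable_injective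
      (f := (QuotientGroup.mk' N).prod (QuotientGroup.mk' C)) ?_)
    rw [← MonoidHom.ker_eq_bot_iff, MonoidHom.ker_prod, QuotientGroup.ker_mk', QuotientGroup.ker_mk', hinf]

theorem normal_inf_center' {P : Type*} [Group P] [Finite P] {p : ℕ} [Fact p.Prime] (hP : IsPGroup p P)
    (N : Subgroup P) [N.Normal] (hN : N ≠ ⊥) : ∃ z ∈ N, z ≠ 1 ∧ ∀ g, g * z = z * g := by
  obtain ⟨k, hk⟩ := IsPGroup.iff_card.1 (hP.to_subgroup N)
  have hk0 : k ≠ 0 := fun h0 => hN (Subgroup.eq_bot_of_card_eq _ (by rw [hk, h0, pow_zero]))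
  have hP' : IsPGroup p (ConjAct P) := hP.of_equiv ConjAct.toConjAct
  obtain ⟨b, hb, hb1⟩ := hP'.exists_fixed_point_of_prime_dvd_card_of_fixed_point ↥N
    (hk ▸ dvd_pow_self p hk0) (a := 1) (by intro g; exact smul_one g)
  refine ⟨b, b.2, fun e => hb1 (Subtype.ext e).symm, fun g => ?_⟩
  have := congrArg Subtype.val (hb (ConjAct.toConjAct g))
  rw [ConjAct.Subgroup.val_conj_smul, ConjAct.toConjAct_smul] at this
  exact mul_inv_eq_iff_eq_mul.1 this

/-- one of the factors lies in a proper normal subgroup -/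
theorem exists_normal : ∀ (n : ℕ) (G : Type u) [Group G] [Finite G] (A B : Subgroup G), Nat.card G = n →
    Group.IsNilpotent A → Group.IsNilpotent B → (∀ g : G, ∃ a ∈ A, ∃ b ∈ B, g = a * b) → (A ≠ ⊤ ∨ B ≠ ⊤) →
    ∃ N : Subgroup G, N.Normal ∧ N ≠ ⊤ ∧ (A ≤ N ∨ B ≤ N) := by
  intro n
  induction n using Nat.strong_induction_on with
  | _ n ih =>
    intro G _ _ A B hn hA hB hAB hne
    subst hn
    have hnil : ∀ X Y : Subgroup G, X = ⊤ → Group.IsNilpotent X → Y ≠ ⊤ → ∃ N : Subgroup G, N.Normal ∧ N ≠ ⊤ ∧ Y ≤ N := by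
      intro X Y e hX hY
      subst e
      haveI : Group.IsNilpotent G := Group.nilpotent_of_mulEquiv Subgroup.topEquiv
      obtain ⟨N, hN, hle⟩ := (eq_top_or_exists_le_coatom Y).resolve_left hY
      exact ⟨N, Subgroup.NormalizerCondition.normal_of_coatom N Group.normalizerCondition_of_isNilpotent hN, hN.1, hle⟩
    by_cases hAt : A = ⊤
    · obtain ⟨N, h1, h2, h3⟩ := hnil A B hAt hA (hne.resolve_left fun h => h hAt)
      exact ⟨N, h1, h2, Or.inr h3⟩
    by_cases hBt : B = ⊤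
    · obtain ⟨N, h1, h2, h3⟩ := hnil B A hBt hB hAt
      exact ⟨N, h1, h2, Or.inl h3⟩
    by_contra hno
    have hquot : ∀ T : Subgroup G, [T.Normal] → T ≠ ⊥ → A ⊔ T = ⊤ ∧ B ⊔ T = ⊤ := by
      intro T _ hT
      by_contra hh
      let f := QuotientGroup.mk' T
      have key : ∀ X : Subgroup G, X.map f = ⊤ → X ⊔ T = ⊤ := fun X e => by
        have := Subgroup.comap_map_eq f X
        rw [e, Subgroup.comap_top, QuotientGroup.ker_mk'] at this
        exact this.symm
      obtain ⟨N, hN, hNt, hor⟩ := ih _ (card_quotient_lt T hT) _ (A.map f) (B.map f) rfl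
        (Group.nilpotent_of_surjective _ (f.subgroupMap_surjective A))
        (Group.nilpotent_of_surjective _ (f.subgroupMap_surjective B)) (fun x => by
          obtain ⟨g, rfl⟩ := QuotientGroup.mk'_surjective T x
          obtain ⟨a, ha, b, hb, rfl⟩ := hAB g
          exact ⟨f a, ⟨a, ha, rfl⟩, f b, ⟨b, hb, rfl⟩, map_mul f a b⟩)
        (not_and_or.1 fun ⟨e1, e2⟩ => hh ⟨key A e1, key B e2⟩)
      refine hno ⟨N.comap f, inferInstance, fun e => hNt ?_, hor.imp Subgroup.map_le_iff_le_comap.1 Subgroup.map_le_iff_le_comap.1⟩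
      rw [← Subgroup.map_comap_eq_self_of_surjective (QuotientGroup.mk'_surjective T) N, e,
        Subgroup.map_top_of_surjective _ (QuotientGroup.mk'_surjective T)]
    haveI : Nontrivial G := by
      by_contra h
      rw [not_nontrivial_iff_subsingleton] at h
      exact hAt (Subsingleton.elim _ _)
    obtain ⟨M, hMn, hMb, hmin⟩ := exists_minimal_normal (G := G)
    haveI := hMn
    haveI := kegel _ G A B rfl hA hB hAB
    obtain ⟨hMab, p, hp, -, hMp⟩ := minimal_normal_elementaryAbelian M inferInstance hMb hmin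
    haveI := Fact.mk hp
    have hMcomm : ∀ x ∈ M, ∀ y ∈ M, x * y = y * x := fun x hx y hy =>
      congrArg Subtype.val (hMab.is_comm.comm ⟨x, hx⟩ ⟨y, hy⟩)
    -- either factor has order prime to `p`
    have key : ∀ X : Subgroup G, Group.IsNilpotent X → X ≠ ⊤ → X ⊔ M = ⊤ →
        (∀ T : Subgroup G, [T.Normal] → T ≠ ⊥ → X ⊔ T = ⊤) → ¬ p ∣ Nat.card X := by
      intro X hX hXt hXM hXT hd
      -- a subgroup normalised by `X` and centralised or normalised by `M` is normal
      have normal_of : ∀ T : Subgroup G, X ≤ Subgroup.normalizer (T : Set G) → M ≤ Subgroup.normalizer (T : Set G) →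
          T.Normal := fun T h1 h2 => Subgroup.normalizer_eq_top_iff.1 (top_le_iff.1 (hXM ▸ sup_le h1 h2))
      have hCT : X ⊓ Subgroup.centralizer (M : Set G) = ⊥ := by
        haveI : (X ⊓ Subgroup.centralizer (M : Set G)).Normal := normal_of _
          (fun x hx => Subgroup.mem_normalizer_fintype fun y hy => Subgroup.mem_inf.2
            ⟨X.mul_mem (X.mul_mem hx (Subgroup.mem_inf.1 hy).1) (X.inv_mem hx),
              (inferInstance : (Subgroup.centralizer (M : Set G)).Normal).conj_mem _ (Subgroup.mem_inf.1 hy).2 x⟩)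
          (fun m hm => Subgroup.mem_normalizer_fintype fun y hy => by
            rw [Subgroup.mem_centralizer_iff.1 (Subgroup.mem_inf.1 hy).2 m hm, mul_inv_cancel_right]
            exact hy)
        by_contra hne'
        exact hXt (by rw [← hXT _ hne', sup_eq_left.2 inf_le_left])
      obtain ⟨P, hP⟩ : ∃ P, P = part X p := ⟨_, rfl⟩
      have hMP : M ≤ Subgroup.normalizer (M : Set G) := Subgroup.le_normalizer
      have hPM : P ≤ Subgroup.normalizer (M : Set G) := by
        rw [Subgroup.normalizer_eq_top_iff.2 hMn]; exact le_top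
      have hU : IsPGroup p (M ⊔ P : Subgroup G) := hMp.to_sup_of_normal_left (hP ▸ part_pgroup X p)
      haveI : (M.subgroupOf (M ⊔ P)).Normal := hMn.subgroupOf _
      obtain ⟨z, hz, hz1, hzc⟩ := normal_inf_center' hU (M.subgroupOf (M ⊔ P)) (fun e => hMb (by
        rw [Subgroup.subgroupOf_eq_bot, disjoint_iff, inf_of_le_left le_sup_left] at e
        exact e))
      obtain ⟨F, hF⟩ : ∃ F, F = M ⊓ Subgroup.centralizer (P : Set G) := ⟨_, rfl⟩
      haveI : F.Normal := by
        refine normal_of F (fun x hx => Subgroup.mem_normalizer_fintype fun y hy => ?_)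
          (fun m hm => Subgroup.mem_normalizer_fintype fun y hy => ?_)
        · rw [hF] at hy ⊢
          refine Subgroup.mem_inf.2 ⟨hMn.conj_mem _ (Subgroup.mem_inf.1 hy).1 x, Subgroup.mem_centralizer_iff.2 fun q hq => ?_⟩
          have hq' : x⁻¹ * q * x⁻¹⁻¹ ∈ P := hP ▸ part_conj hX (X.inv_mem hx) (hP ▸ hq)
          have h1 := Subgroup.mem_centralizer_iff.1 (Subgroup.mem_inf.1 hy).2 _ hq'
          calc q * (x * y * x⁻¹) = x * (x⁻¹ * q * x⁻¹⁻¹ * y) * x⁻¹ := by group
            _ = x * (y * (x⁻¹ * q * x⁻¹⁻¹)) * x⁻¹ := by rw [h1]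
            _ = x * y * x⁻¹ * q := by group
        · rw [hMcomm m hm y (hF ▸ hy : y ∈ M ⊓ _).1, mul_inv_cancel_right]
          exact hy
      have hFb : F ≠ ⊥ := fun e => hz1 (Subtype.ext (Subgroup.mem_bot.1 (e ▸ hF ▸ Subgroup.mem_inf.2
        ⟨hz, Subgroup.mem_centralizer_iff.2 fun q hq =>
          congrArg Subtype.val (hzc ⟨q, Subgroup.mem_sup_right hq⟩)⟩)))
      have hFM : F = M := (hmin F inferInstance (hF ▸ inf_le_left)).resolve_left hFb
      refine part_ne_bot X hd (le_bot_iff.1 (hCT ▸ le_inf (part_le X p) ?_))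
      intro q hq
      rw [Subgroup.mem_centralizer_iff]
      intro m hm
      exact (Subgroup.mem_centralizer_iff.1 (Subgroup.mem_inf.1 (hF ▸ hFM.ge hm :
        m ∈ M ⊓ Subgroup.centralizer (P : Set G))).2 q (hP ▸ hq)).symm
    have hkA := key A hA hAt (hquot M hMb).1 fun T _ hT => (hquot T hT).1
    have hkB := key B hB hBt (hquot M hMb).2 fun T _ hT => (hquot T hT).2
    obtain ⟨P, Q, R, hR⟩ := S0560.result A B hAB p
    have hbot : ∀ X : Subgroup G, ¬ p ∣ Nat.card X → part X p = ⊥ := fun X h => Subgroup.card_eq_one.1 (by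
      rw [part_card, Nat.factorization_eq_zero_of_not_dvd h, pow_zero])
    rw [part_unique hA P, part_unique hB Q, hbot A hkA, hbot B hkB] at hR
    have hRb : (R : Subgroup G) = ⊥ := le_bot_iff.1 fun x hx => by
      have h1 : x ∈ (((⊥ : Subgroup G) : Set G) * ((⊥ : Subgroup G) : Set G)) := hR ▸ hx
      obtain ⟨a, ha, b, hb, rfl⟩ := h1
      exact (⊥ : Subgroup G).mul_mem ha hb
    have hpG : p ∣ Nat.card G := by
      obtain ⟨k, hk⟩ := IsPGroup.iff_card.1 hMp
      have hk0 : k ≠ 0 := fun h0 => hMb (Subgroup.eq_bot_of_card_eq _ (by rw [hk, h0, pow_zero]))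
      exact (dvd_pow_self p hk0).trans (hk ▸ Subgroup.card_subgroup_dvd_card M)
    exact R.not_dvd_index (by rw [hRb, Subgroup.index_bot]; exact hpG)

end Cfsg.Agent.Solv.Fct
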