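import Mathlib
import Cfsg.Agent.S3360
import Cfsg.Agent.Lib.Solv.Hall

/-!
Solvable linear groups containing the scalars, transitive on nonzero vectors and on planes.
-/

set_option autoImplicit false
set_option linter.style.haveILetI false

open scoped Pointwise

namespace Cfsg.Agent.Solv.PlaneTransitive

open Module

universe u

variable {p : ℕ} [hp : Fact p.Prime] {V : Type u} [AddCommGroup V] [Module (ZMod p) V]

theorem card_aut (n : ℕ) (hn : n ≠ 0) :
    Nat.card (GaloisField p n ≃+* GaloisField p n) = n := by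
  have e : (GaloisField p n ≃+* GaloisField p n) ≃
      (GaloisField p n ≃ₐ[ZMod p] GaloisField p n) :=
    { toFun := fun σ => AlgEquiv.ofRingEquiv (f := σ) (fun x => by
        rw [← RingEquiv.coe_toRingHom, ← RingHom.comp_apply]
        exact RingHom.congr_fun (RingHom.ext_zmod _ _) x)
      invFun := fun σ => σ.toRingEquiv
      left_inv := fun σ => by ext; rfl
      right_inv := fun σ => by ext; rfl }
  rw [Nat.card_congr e, IsGalois.card_aut_eq_finrank, GaloisField.finrank p hn]

variable [Finite V]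

theorem card_span_singleton {a : V} (ha : a ≠ 0) :
    Nat.card (Submodule.span (ZMod p) {a}) = p := by
  rw [Module.natCard_eq_pow_finrank (K := ZMod p), finrank_span_singleton ha, pow_one,
    Nat.card_zmod]

theorem card_span_pair {a b : V} (ha : a ≠ 0) (hb : b ∉ Submodule.span (ZMod p) {a}) :
    Nat.card (Submodule.span (ZMod p) ({a, b} : Set V)) = p ^ 2 := by
  have hli : LinearIndependent (ZMod p) ![a, b] :=
    (LinearIndependent.pair_iff' ha).2 fun c hc => hb (Submodule.mem_span_singleton.2 ⟨c, hc⟩)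
  have h := finrank_span_eq_card hli
  rw [Matrix.range_cons_cons_empty, Fintype.card_fin] at h
  rw [Module.natCard_eq_pow_finrank (K := ZMod p), h, Nat.card_zmod]

theorem card_pairs (W : Submodule (ZMod p) V) :
    Nat.card {q : V × V // q.1 ∈ W ∧ q.2 ∈ W ∧ q.1 ≠ 0 ∧ q.2 ∉ Submodule.span (ZMod p) {q.1}} =
      (Nat.card W - 1) * (Nat.card W - p) := by
  classical
  have : Fintype V := Fintype.ofFinite V
  let e : {q : V × V // q.1 ∈ W ∧ q.2 ∈ W ∧ q.1 ≠ 0 ∧ q.2 ∉ Submodule.span (ZMod p) {q.1}} ≃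
      Σ a : {a : V // a ∈ W ∧ a ≠ 0}, {b : V // b ∈ W ∧ b ∉ Submodule.span (ZMod p) {a.1}} :=
    { toFun := fun q => ⟨⟨q.1.1, q.2.1, q.2.2.2.1⟩, ⟨q.1.2, q.2.2.1, q.2.2.2.2⟩⟩
      invFun := fun t => ⟨(t.1.1, t.2.1), t.1.2.1, t.2.2.1, t.1.2.2, t.2.2.2⟩
      left_inv := fun q => rfl
      right_inv := fun t => rfl }
  rw [Nat.card_congr e, Nat.card_sigma]
  have hin : ∀ a : {a : V // a ∈ W ∧ a ≠ 0},
      Nat.card {b : V // b ∈ W ∧ b ∉ Submodule.span (ZMod p) {a.1}} = Nat.card W - p := by
    intro a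
    have hle : (Submodule.span (ZMod p) {a.1} : Set V) ⊆ W :=
      fun _ hx => (Submodule.span_le.2 (Set.singleton_subset_iff.2 a.2.1)) hx
    have h := Set.ncard_sdiff_add_ncard_of_subset hle (Set.toFinite _)
    simp only [← Nat.card_coe_set_eq] at h
    have h2 : Nat.card (Submodule.span (ZMod p) {a.1} : Set V) = p := card_span_singleton a.2.2
    rw [h2] at h
    change Nat.card ↑((W : Set V) \ _) + p = Nat.card W at h
    exact Nat.eq_sub_of_add_eq h
  rw [Finset.sum_congr rfl fun a _ => hin a, Finset.sum_const, Finset.card_univ, smul_eq_mul]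
  congr 1
  have h := Set.ncard_sdiff_singleton_add_one (show (0 : V) ∈ (W : Set V) from W.zero_mem)
    (Set.toFinite _)
  simp only [← Nat.card_coe_set_eq] at h
  rw [← Nat.card_eq_fintype_card]
  exact Nat.eq_sub_of_add_eq h

variable (X : Subgroup (V ≃ₗ[ZMod p] V))

/-- The orbit equation on planes. -/
theorem card_planes {n : ℕ} (hn : 2 ≤ n) (hcard : Nat.card V = p ^ n)
    (htr : ∀ W₁ W₂ : Submodule (ZMod p) V, Nat.card W₁ = p ^ 2 → Nat.card W₂ = p ^ 2 →
      ∃ g ∈ X, W₁.map (g : V →ₗ[ZMod p] V) = W₂)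
    (hsc : ∀ c : (ZMod p)ˣ, DistribMulAction.toLinearEquiv (ZMod p) V c ∈ X) :
    ∃ N : ℕ, (p ^ n - 1) * (p ^ n - p) = N * ((p ^ 2 - 1) * (p ^ 2 - p)) ∧
      N * (p - 1) ∣ Nat.card X := by
  classical
  have : Fintype V := Fintype.ofFinite V
  haveI : Nontrivial V := Finite.one_lt_card_iff_nontrivial.1
    (hcard ▸ one_lt_pow₀ hp.out.one_lt (by omega))
  haveI : Finite (V ≃ₗ[ZMod p] V) := Finite.of_injective (fun f => (f : V → V)) DFunLike.coe_injective
  obtain ⟨a₀, ha₀⟩ := exists_ne (0 : V)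
  obtain ⟨b₀, hb₀⟩ : ∃ b : V, b ∉ Submodule.span (ZMod p) {a₀} := by
    by_contra! h
    have h1 : Nat.card (Submodule.span (ZMod p) {a₀}) = Nat.card V := by
      rw [(Submodule.eq_top_iff'.2 h : Submodule.span (ZMod p) {a₀} = ⊤)]
      exact Nat.card_congr Submodule.topEquiv.toEquiv
    rw [card_span_singleton ha₀, hcard] at h1
    have h2 : p ^ 1 < p ^ n := Nat.pow_lt_pow_right hp.out.one_lt (by omega)
    rw [pow_one, ← h1] at h2
    exact lt_irrefl _ h2
  set W₀ := Submodule.span (ZMod p) ({a₀, b₀} : Set V) with hW₀d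
  have hW₀ : Nat.card W₀ = p ^ 2 := card_span_pair ha₀ hb₀
  let act : X → Set V → Set V := fun g S => (g : V ≃ₗ[ZMod p] V) '' S
  letI : MulAction X (Set V) :=
    { smul := act
      one_smul := fun S => Set.image_id S
      mul_smul := fun g h S => by
        show ((g * h : X) : V ≃ₗ[ZMod p] V) '' S =
          (g : V ≃ₗ[ZMod p] V) '' ((h : V ≃ₗ[ZMod p] V) '' S)
        rw [Set.image_image]; rfl }
  have hact : ∀ (g : X) (S : Set V), g • S = (g : V ≃ₗ[ZMod p] V) '' S := fun _ _ => rfl
  set O := MulAction.orbit X (W₀ : Set V)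
  have hO : ∀ S : O, ∃ W : Submodule (ZMod p) V, (W : Set V) = S ∧ Nat.card W = p ^ 2 := by
    rintro ⟨_, g, rfl⟩
    refine ⟨W₀.map ((g : V ≃ₗ[ZMod p] V) : V →ₗ[ZMod p] V), Submodule.map_coe _ _, ?_⟩
    rw [← hW₀]
    exact Nat.card_congr ((g : V ≃ₗ[ZMod p] V).submoduleMap W₀).symm.toEquiv
  choose W hW hWc using hO
  let pr : {q : V × V // q.1 ≠ 0 ∧ q.2 ∉ Submodule.span (ZMod p) {q.1}} → O := fun q =>
    ⟨(Submodule.span (ZMod p) ({q.1.1, q.1.2} : Set V) : Set V), by
      obtain ⟨g, hg, hgW⟩ := htr W₀ _ hW₀ (card_span_pair q.2.1 q.2.2)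
      exact ⟨⟨g, hg⟩, by
        show (⟨g, hg⟩ : X) • (W₀ : Set V) = _
        rw [hact, ← hgW, Submodule.map_coe]; rfl⟩⟩
  have hfib : ∀ S : O, Nat.card {q // pr q = S} = (p ^ 2 - 1) * (p ^ 2 - p) := by
    intro S
    rw [← hWc S, ← card_pairs (W S)]
    refine Nat.card_congr
      { toFun := fun q => ⟨q.1.1, ?_, ?_, q.1.2.1, q.1.2.2⟩
        invFun := fun q => ⟨⟨q.1, q.2.2.2.1, q.2.2.2.2⟩, Subtype.ext ?_⟩
        left_inv := fun q => rfl
        right_inv := fun q => rfl }
    · rw [← SetLike.mem_coe, hW, ← congrArg Subtype.val q.2]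
      exact Submodule.subset_span (by simp)
    · rw [← SetLike.mem_coe, hW, ← congrArg Subtype.val q.2]
      exact Submodule.subset_span (by simp)
    · show ((Submodule.span (ZMod p) ({q.1.1, q.1.2} : Set V)) : Set V) = S
      rw [← hW S]
      refine congrArg _ (SetLike.coe_injective (Set.eq_of_subset_of_ncard_le
        (SetLike.coe_subset_coe.2 (Submodule.span_le.2 ?_)) ?_ (Set.toFinite _)))
      · rintro x (rfl | rfl)
        · exact q.2.1
        · exact q.2.2.1
      · rw [← Nat.card_coe_set_eq, ← Nat.card_coe_set_eq]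
        exact ((hWc S).trans (card_span_pair q.2.2.2.1 q.2.2.2.2).symm).le
  haveI : Fintype X := Fintype.ofFinite _
  haveI : Fintype O := Fintype.ofFinite _
  haveI : Fintype (MulAction.stabilizer X (W₀ : Set V)) := Fintype.ofFinite _
  refine ⟨Nat.card O, ?_, ?_⟩
  · have h1 : (p ^ n - 1) * (p ^ n - p) =
        Nat.card {q : V × V // q.1 ≠ 0 ∧ q.2 ∉ Submodule.span (ZMod p) {q.1}} := by
      have htop : Nat.card (⊤ : Submodule (ZMod p) V) = p ^ n :=
        (Nat.card_congr Submodule.topEquiv.toEquiv).trans hcard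
      rw [← htop, ← card_pairs (⊤ : Submodule (ZMod p) V)]
      exact Nat.card_congr (Equiv.subtypeEquivRight fun q => by simp)
    rw [h1, ← Nat.card_congr (Equiv.sigmaFiberEquiv pr), Nat.card_sigma,
      Finset.sum_congr rfl fun S _ => hfib S, Finset.sum_const, Finset.card_univ, smul_eq_mul,
      Nat.card_eq_fintype_card]
  · let s : (ZMod p)ˣ → MulAction.stabilizer X (W₀ : Set V) := fun c =>
      ⟨⟨_, hsc c⟩, by
        rw [MulAction.mem_stabilizer_iff, hact]
        refine Set.eq_of_subset_of_ncard_le ?_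
          (Set.ncard_image_of_injective _ (LinearEquiv.injective _)).ge (Set.toFinite _)
        rintro _ ⟨v, hv, rfl⟩
        exact W₀.smul_mem (c : ZMod p) hv⟩
    let sh : (ZMod p)ˣ →* MulAction.stabilizer X (W₀ : Set V) :=
      { toFun := s
        map_one' := Subtype.ext (Subtype.ext (LinearEquiv.ext fun v => one_smul _ v))
        map_mul' := fun c d =>
          Subtype.ext (Subtype.ext (LinearEquiv.ext fun v => mul_smul c d v)) }
    have hinj : Function.Injective sh := by
      intro c d hcd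
      have h : (c : ZMod p) • a₀ = (d : ZMod p) • a₀ := LinearEquiv.congr_fun
        (congrArg (fun t : MulAction.stabilizer X (W₀ : Set V) =>
          ((t : X) : V ≃ₗ[ZMod p] V)) hcd) a₀
      exact Units.ext (smul_left_injective (ZMod p) ha₀ h)
    have hd := Subgroup.card_dvd_of_injective sh hinj
    rw [Nat.card_eq_fintype_card (α := (ZMod p)ˣ), ZMod.card_units p] at hd
    have horb := MulAction.card_orbit_mul_card_stabilizer_eq_card_group X (W₀ : Set V)
    simp only [← Nat.card_eq_fintype_card] at horb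
    rw [← horb]
    exact mul_dvd_mul_left _ hd

/-- Semilinear maps of a field with `p ^ n` elements. -/
def IsSemi {n : ℕ} (e : V ≃+ GaloisField p n) (g : V ≃ₗ[ZMod p] V) : Prop :=
  ∃ (a : GaloisField p n) (σ : GaloisField p n ≃+* GaloisField p n), ∀ v, e (g v) = a * σ (e v)

variable {n : ℕ} {e : V ≃+ GaloisField p n}

theorem a_ne_zero {g : V ≃ₗ[ZMod p] V} {a : GaloisField p n}
    {σ : GaloisField p n ≃+* GaloisField p n} (h : ∀ v, e (g v) = a * σ (e v)) : a ≠ 0 := by
  intro ha
  have h1 := h (e.symm 1)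
  rw [ha, zero_mul, map_eq_zero_iff e e.injective, map_eq_zero_iff g g.injective,
    map_eq_zero_iff e.symm e.symm.injective] at h1
  exact one_ne_zero h1

theorem card_units_galois (hn : n ≠ 0) : Nat.card (GaloisField p n)ˣ = p ^ n - 1 := by
  rw [Nat.card_units, GaloisField.card p n hn]

theorem semi_pow {g : V ≃ₗ[ZMod p] V} {a : GaloisField p n}
    {σ : GaloisField p n ≃+* GaloisField p n} (h : ∀ v, e (g v) = a * σ (e v)) :
    ∀ k : ℕ, ∃ b : GaloisField p n, b ≠ 0 ∧ ∀ v, e ((g ^ k) v) = b * (σ ^ k) (e v) := by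
  intro k
  induction k with
  | zero => exact ⟨1, one_ne_zero, fun v => by simp⟩
  | succ k ih =>
    obtain ⟨b, hb, hb'⟩ := ih
    refine ⟨b * (σ ^ k) a, mul_ne_zero hb ((map_ne_zero_iff _ (RingEquiv.injective _)).2
      (a_ne_zero h)), fun v => ?_⟩
    rw [pow_succ, pow_succ]
    show e ((g ^ k) (g v)) = _
    rw [hb', h, map_mul, ← mul_assoc]
    rfl

/-- A semilinear map of order prime to `n` is linear. -/
theorem linear_of_pow {g : V ≃ₗ[ZMod p] V} (hn : n ≠ 0) {a : GaloisField p n}
    {σ : GaloisField p n ≃+* GaloisField p n} (h : ∀ v, e (g v) = a * σ (e v)) {m : ℕ}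
    (hm : g ^ m = 1) (hmn : m.Coprime n) : σ = 1 := by
  haveI : Finite (GaloisField p n ≃+* GaloisField p n) :=
    Finite.of_injective (fun f => (f : GaloisField p n → GaloisField p n)) DFunLike.coe_injective
  obtain ⟨b, -, hb⟩ := semi_pow h m
  rw [hm] at hb
  have hb1 : b = 1 := by
    have h1 := hb (e.symm 1)
    rw [show (1 : V ≃ₗ[ZMod p] V) (e.symm 1) = e.symm 1 from rfl, e.apply_symm_apply, map_one,
      mul_one] at h1
    exact h1.symm
  have hs : σ ^ m = 1 := by
    refine RingEquiv.ext fun x => ?_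
    have h1 := hb (e.symm x)
    rw [show (1 : V ≃ₗ[ZMod p] V) (e.symm x) = e.symm x from rfl, e.apply_symm_apply, hb1,
      one_mul] at h1
    exact h1.symm
  have hd : orderOf σ ∣ Nat.gcd m n := Nat.dvd_gcd (orderOf_dvd_of_pow_eq_one hs)
    ((orderOf_dvd_natCard σ).trans (card_aut (p := p) n hn).dvd)
  rw [hmn, Nat.dvd_one, orderOf_eq_one_iff] at hd
  exact hd

/-- The order of a semilinear map divides `n * (p ^ n - 1)`. -/
theorem orderOf_dvd (hn : n ≠ 0) {g : V ≃ₗ[ZMod p] V} (hg : IsSemi e g) :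
    orderOf g ∣ n * (p ^ n - 1) := by
  obtain ⟨a, σ, h⟩ := hg
  haveI : Finite (GaloisField p n ≃+* GaloisField p n) :=
    Finite.of_injective (fun f => (f : GaloisField p n → GaloisField p n)) DFunLike.coe_injective
  have hpow := semi_pow h
  obtain ⟨b, hb, hb'⟩ := hpow n
  have hσ : σ ^ n = 1 := by
    have := pow_card_eq_one' (x := σ)
    rwa [card_aut n hn] at this
  refine orderOf_dvd_of_pow_eq_one ?_
  have h2 : ∀ (j : ℕ) v, e (((g ^ n) ^ j) v) = b ^ j * e v := by
    intro j
    induction j with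
    | zero => intro v; simp
    | succ j ih =>
      intro v
      rw [pow_succ, pow_succ]
      show e (((g ^ n) ^ j) ((g ^ n) v)) = _
      rw [ih, hb', hσ, ← mul_assoc]
      rfl
  rw [pow_mul]
  refine LinearEquiv.ext fun v => e.injective ?_
  rw [h2]
  have h3 : Units.mk0 b hb ^ (p ^ n - 1) = 1 := by
    rw [← card_units_galois hn]; exact pow_card_eq_one'
  have h4 := congrArg Units.val h3
  rw [Units.val_pow_eq_pow_val, Units.val_mk0, Units.val_one] at h4
  rw [h4, one_mul]
  rfl

theorem card_le (hn : n ≠ 0) (hX : ∀ g ∈ X, IsSemi e g) :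
    Nat.card X ≤ (p ^ n - 1) * n := by
  choose a σ h using hX
  haveI : Finite (GaloisField p n ≃+* GaloisField p n) :=
    Finite.of_injective (fun f => (f : GaloisField p n → GaloisField p n)) DFunLike.coe_injective
  calc Nat.card X ≤ Nat.card ((GaloisField p n)ˣ × (GaloisField p n ≃+* GaloisField p n)) := by
        refine Nat.card_le_card_of_injective
          (fun g => (Units.mk0 (a g.1 g.2) (a_ne_zero (h g.1 g.2)), σ g.1 g.2)) ?_
        intro g g' hgg
        rw [Prod.mk.injEq] at hgg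
        refine Subtype.ext (LinearEquiv.ext fun v => e.injective ?_)
        rw [h g.1 g.2, h g'.1 g'.2, hgg.2, show a g.1 g.2 = a g'.1 g'.2 from
          congrArg Units.val hgg.1]
    _ = (p ^ n - 1) * n := by rw [Nat.card_prod, card_units_galois hn, card_aut n hn]

theorem arith {n : ℕ} (hn : 4 ≤ n) {p : ℕ} (hp : 2 ≤ p)
    (h : p ^ (n - 1) - 1 ≤ n * (p ^ 2 - 1)) : n = 5 ∧ p = 2 ∨ n = 4 ∧ p ≤ 3 := by
  have hn5 : n ≤ 5 := by
    by_contra! hlt
    have h1 : n + 1 ≤ 2 ^ (n - 3) := by
      obtain ⟨k, rfl⟩ : ∃ k, n = k + 6 := ⟨n - 6, by omega⟩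
      rw [show k + 6 - 3 = k + 3 by omega]
      clear h hn hlt
      induction k with
      | zero => norm_num
      | succ k ih => rw [show k + 1 + 3 = (k + 3) + 1 by ring, pow_succ]; omega
    have h2 : (n + 1) * p ^ 2 ≤ p ^ (n - 1) := by
      rw [show n - 1 = (n - 3) + 2 by omega, pow_add]
      exact Nat.mul_le_mul_right _ (h1.trans (Nat.pow_le_pow_left hp _))
    have hp2 : 1 ≤ p ^ 2 := Nat.one_le_pow _ _ (by omega)
    have h3 : n * (p ^ 2 - 1) + 1 < p ^ (n - 1) := by
      have : n * (p ^ 2 - 1) + n = n * p ^ 2 := by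
        have := Nat.le_mul_of_pos_right n (show 0 < p ^ 2 by omega)
        rw [Nat.mul_sub, mul_one]; omega
      nlinarith
    omega
  interval_cases n
  · refine Or.inr ⟨rfl, ?_⟩
    by_contra! hlt
    have h3 : 4 * p ^ 2 ≤ p ^ 3 := by
      rw [pow_succ' p 2]; exact Nat.mul_le_mul_right _ hlt
    have : 1 ≤ p ^ 2 := Nat.one_le_pow _ _ (by omega)
    norm_num at h
    omega
  · refine Or.inl ⟨rfl, ?_⟩
    by_contra hne
    have h3 : 9 * p ^ 2 ≤ p ^ 4 := by
      rw [show p ^ 4 = p ^ 2 * p ^ 2 by ring]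
      exact Nat.mul_le_mul_right _ ((by norm_num : 9 ≤ 3 ^ 2).trans
        (Nat.pow_le_pow_left (show 3 ≤ p by omega) 2))
    have : 1 ≤ p ^ 2 := Nat.one_le_pow _ _ (by omega)
    norm_num at h
    omega

theorem mem_fix {W : Type*} [AddCommGroup W] [Module (ZMod 3) W] [Finite W]
    (hW : Nat.card W = 81) {r : ℕ} [Fact r.Prime] (g : W ≃ₗ[ZMod 3] W) (hg : g ^ r = 1) :
    ∃ k, k ≤ 4 ∧ 3 ^ k ≡ 81 [MOD r] ∧ Nat.card {v : W // g v = v} = 3 ^ k := by
  let F : Submodule (ZMod 3) W :=
    LinearMap.ker ((g : W →ₗ[ZMod 3] W) - LinearMap.id)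
  have hF : ∀ v, v ∈ F ↔ g v = v := fun v => by simp [F, sub_eq_zero]
  have hFc : Nat.card {v : W // g v = v} = Nat.card F :=
    Nat.card_congr (Equiv.subtypeEquivRight fun v => (hF v).symm)
  refine ⟨Module.finrank (ZMod 3) F, ?_, ?_, ?_⟩
  · refine (Submodule.finrank_le F).trans ?_
    have h := Module.natCard_eq_pow_finrank (K := ZMod 3) (V := W)
    rw [hW, Nat.card_zmod] at h
    exact (Nat.pow_right_injective (le_refl 2) |> fun _ =>
      ((Nat.pow_right_injective (show 2 ≤ 3 by norm_num)) (show 3 ^ 4 = _ from h))).ge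
  · have hcF : Nat.card F = 3 ^ Module.finrank (ZMod 3) F := by
      rw [Module.natCard_eq_pow_finrank (K := ZMod 3), Nat.card_zmod]
    rw [← hcF, ← hW, ← hFc]
    have hp : IsPGroup r (Subgroup.zpowers g) := by
      rcases (Nat.dvd_prime Fact.out).1 (orderOf_dvd_of_pow_eq_one hg) with h | h
      · exact IsPGroup.of_card (n := 0) (by rw [Nat.card_zpowers, h, pow_zero])
      · exact IsPGroup.of_card (n := 1) (by rw [Nat.card_zpowers, h, pow_one])
    have h := hp.card_modEq_card_fixedPoints W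
    refine (Nat.ModEq.trans ?_ h.symm)
    refine congrArg (· % r) (Nat.card_congr (Equiv.subtypeEquivRight fun v => ?_))
    constructor
    · rintro hv ⟨_, i, rfl⟩
      exact Subgroup.zpow_mem (MulAction.stabilizer (W ≃ₗ[ZMod 3] W) v) hv i
    · exact fun hv => hv ⟨g, Subgroup.mem_zpowers g⟩
  · rw [hFc, Module.natCard_eq_pow_finrank (K := ZMod 3), Nat.card_zmod]

/-- No element of order five centralizes one of order thirteen in `GL(4,3)`. -/
theorem not_commute_five_thirteen {W : Type*} [AddCommGroup W] [Module (ZMod 3) W] [Finite W]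
    (hW : Nat.card W = 81) {a b : W ≃ₗ[ZMod 3] W} (ha : orderOf a = 5) (hb : orderOf b = 13)
    (hc : Commute a b) : False := by
  haveI : Fact (Nat.Prime 5) := ⟨by norm_num⟩
  haveI : Fact (Nat.Prime 13) := ⟨by norm_num⟩
  have hfull : ∀ g : W ≃ₗ[ZMod 3] W, Nat.card {v : W // g v = v} = 81 → g = 1 := by
    intro g hg
    refine LinearEquiv.ext fun v => ?_
    by_contra hv
    have : Nat.card {v : W // g v = v} < Nat.card W :=
      Finite.card_subtype_lt (p := fun x => g x = x) hv
    omega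
  obtain ⟨k, hk, hkm, hkc⟩ := mem_fix (r := 13) hW b (by rw [← hb, pow_orderOf_eq_one])
  have hk1 : k = 1 := by
    interval_cases k <;> first | rfl | (exfalso; simp [Nat.ModEq] at hkm; done) | skip
    rw [hfull b (by rw [hkc]; norm_num), orderOf_one] at hb
    norm_num at hb
  subst hk1
  let T := {v : W // b v = v}
  let φ : T → T := fun v => ⟨a v.1, by
    show b (a v.1) = a v.1
    have h := LinearEquiv.congr_fun hc.eq v.1
    rw [LinearEquiv.mul_apply, LinearEquiv.mul_apply, v.2] at h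
    exact h.symm⟩
  haveI : Fintype T := Fintype.ofFinite T
  classical
  obtain ⟨v, hv⟩ : ∃ v : T, v.1 ≠ 0 := by
    by_contra! h
    have : Subsingleton T := ⟨fun x y => Subtype.ext ((h x).trans (h y).symm)⟩
    have h1 : Nat.card T ≤ 1 := Finite.card_le_one_iff_subsingleton.2 this
    rw [hkc] at h1
    norm_num at h1
  have hφ5 : ∀ x : T, φ^[5] x = x := by
    intro x
    apply Subtype.ext
    have e : ∀ j, (φ^[j] x).1 = (a ^ j) x.1 := by
      intro j
      induction j with
      | zero => rfl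
      | succ j ih =>
        rw [Function.iterate_succ_apply', pow_succ', LinearEquiv.mul_apply, ← ih]
    rw [e, ← ha, pow_orderOf_eq_one]; rfl
  have hav : a v.1 = v.1 := by
    have h3 : Nat.card T = 3 := hkc
    have hz : φ ⟨0, map_zero b⟩ = ⟨0, map_zero b⟩ := Subtype.ext (map_zero a)
    have hne : -v.1 ≠ v.1 := fun e => hv (by
      have h : (2 : ZMod 3) • v.1 = 0 := by rw [two_smul]; nth_rw 1 [← e]; exact neg_add_cancel _
      exact (smul_eq_zero.1 h).resolve_left (by decide))
    let nv : T := ⟨-v.1, by rw [map_neg, v.2]⟩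
    have hcases : ∀ x : T, x = ⟨0, map_zero b⟩ ∨ x = v ∨ x = nv := by
      intro x
      by_contra! hx
      have h4 : ({⟨0, map_zero b⟩, v, nv, x} : Finset T).card = 4 := by
        rw [Finset.card_insert_of_notMem, Finset.card_insert_of_notMem,
          Finset.card_insert_of_notMem, Finset.card_singleton]
        · simpa using hx.2.2.symm
        · simp only [Finset.mem_insert, Finset.mem_singleton, not_or]
          exact ⟨fun e => hne (congrArg Subtype.val e).symm, hx.2.1.symm⟩
        · simp only [Finset.mem_insert, Finset.mem_singleton, not_or]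
          exact ⟨fun e => hv (congrArg Subtype.val e).symm,
            fun e => hv (neg_eq_zero.1 (congrArg Subtype.val e).symm), hx.1.symm⟩
      have h5 := Finset.card_le_univ ({⟨0, map_zero b⟩, v, nv, x} : Finset T)
      rw [← Nat.card_eq_fintype_card, h3, h4] at h5
      omega
    rcases hcases (φ v) with h | h | h
    · exact absurd ((map_eq_zero_iff a a.injective).1 (congrArg Subtype.val h)) hv
    · exact congrArg Subtype.val h
    · exfalso
      have hn : φ nv = v := Subtype.ext (by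
        show a (-v.1) = v.1
        rw [map_neg, show a v.1 = -v.1 from congrArg Subtype.val h, neg_neg])
      have h5 := hφ5 v
      simp only [Function.iterate_succ, Function.iterate_zero, Function.comp, id, h, hn] at h5
      exact hne (congrArg Subtype.val h5)
  obtain ⟨j, hj, hjm, hjc⟩ := mem_fix (r := 5) hW a (by rw [← ha, pow_orderOf_eq_one])
  have hj4 : j = 4 := by
    interval_cases j <;> first | rfl | (exfalso; simp [Nat.ModEq] at hjm; done) | skip
    exfalso
    haveI : Subsingleton {v : W // a v = v} := Finite.card_le_one_iff_subsingleton.1 (by rw [hjc]; rfl)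
    exact hv (congrArg Subtype.val (Subsingleton.elim (⟨v.1, hav⟩ : {v : W // a v = v})
      ⟨0, map_zero a⟩))
  subst hj4
  rw [hfull a (by rw [hjc]; norm_num), orderOf_one] at ha
  norm_num at ha

/-- A solvable group of linear maps of `F_3^4` has order not divisible by `65`. -/
theorem not_dvd_sixty_five {W : Type*} [AddCommGroup W] [Module (ZMod 3) W] [Finite W]
    (hW : Nat.card W = 81) (X : Subgroup (W ≃ₗ[ZMod 3] W)) (hsol : Group.IsSolvable X) :
    ¬ 65 ∣ Nat.card X := by
  intro h65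
  haveI : Finite (W ≃ₗ[ZMod 3] W) :=
    Finite.of_injective (fun f => (f : W → W)) DFunLike.coe_injective
  have hr : Module.finrank (ZMod 3) W = 4 := by
    have h := Module.natCard_eq_pow_finrank (K := ZMod 3) (V := W)
    rw [hW, Nat.card_zmod] at h
    exact ((Nat.pow_right_injective (show 2 ≤ 3 by norm_num)) (show 3 ^ 4 = _ from h)).symm
  let b := Module.finBasisOfFinrankEq (ZMod 3) W hr
  let i : (W ≃ₗ[ZMod 3] W) ≃* GL (Fin 4) (ZMod 3) :=
    (LinearMap.GeneralLinearGroup.generalLinearEquiv (ZMod 3) W).symm.trans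
      (Units.mapEquiv (LinearMap.toMatrixAlgEquiv b).toMulEquiv)
  have hGL : Nat.card (W ≃ₗ[ZMod 3] W) = 80 * 78 * 72 * 54 := by
    rw [Nat.card_congr i.toEquiv, Matrix.card_GL_field]
    simp [Fin.prod_univ_four]
  have hXd : Nat.card X ∣ 80 * 78 * 72 * 54 := hGL ▸ Subgroup.card_subgroup_dvd_card X
  obtain ⟨k, hk⟩ := h65
  have hco : Nat.Coprime 65 k := by
    rw [show (65 : ℕ) = 5 * 13 from rfl]
    refine Nat.Coprime.mul_left ((Nat.Prime.coprime_iff_not_dvd (by norm_num)).2 ?_)
      ((Nat.Prime.coprime_iff_not_dvd (by norm_num)).2 ?_)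
    · intro hd
      have : 5 * 65 ∣ 80 * 78 * 72 * 54 := by
        refine dvd_trans ?_ hXd
        rw [hk, mul_comm 5 65]; exact mul_dvd_mul_left _ hd
      norm_num at this
    · intro hd
      have : 13 * 65 ∣ 80 * 78 * 72 * 54 := by
        refine dvd_trans ?_ hXd
        rw [hk, mul_comm 13 65]; exact mul_dvd_mul_left _ hd
      norm_num at this
  obtain ⟨H, hH⟩ := hall_exists hsol hk hco
  haveI : Fact (Nat.Prime 5) := ⟨by norm_num⟩
  haveI : Fact (Nat.Prime 13) := ⟨by norm_num⟩
  have key : ∀ (r s : ℕ), [Fact r.Prime] → r * s = 65 → r ≠ 1 → s.Prime → s % r ≠ 1 →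
      ¬ r ∣ s → ∃ S : Subgroup H, S.Normal ∧ Nat.card S = r := by
    intro r s _ hrs _ hs hmod hrs'
    obtain ⟨S⟩ : Nonempty (Sylow r H) := inferInstance
    have hcS : Nat.card S = r := by
      rw [S.card_eq_multiplicity, hH, ← hrs, Nat.factorization_mul (Nat.Prime.ne_zero Fact.out)
        hs.ne_zero, Finsupp.add_apply, Nat.Prime.factorization_self Fact.out,
        Nat.factorization_eq_zero_of_not_dvd hrs', add_zero, pow_one]
    have hidx : (S : Subgroup H).index = s := by
      have := (S : Subgroup H).card_mul_index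
      rw [hcS, hH, ← hrs] at this
      exact Nat.eq_of_mul_eq_mul_left (Nat.Prime.pos Fact.out) this
    have h1 : Nat.card (Sylow r H) ∣ s := hidx ▸ S.card_dvd_index
    have h2 : Nat.card (Sylow r H) % r = 1 := by
      have := card_sylow_modEq_one r H
      rwa [Nat.ModEq, Nat.one_mod_eq_one.2 (Nat.Prime.ne_one Fact.out)] at this
    rcases (Nat.dvd_prime hs).1 h1 with h | h
    · haveI : Subsingleton (Sylow r H) := Finite.card_le_one_iff_subsingleton.1 h.le
      exact ⟨S, Sylow.normal_of_subsingleton S, hcS⟩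
    · rw [h] at h2; exact absurd h2 hmod
  obtain ⟨A, hAn, hA⟩ := key 5 13 (by norm_num) (by norm_num) (by norm_num) (by norm_num)
    (by norm_num)
  obtain ⟨B, hBn, hB⟩ := key 13 5 (by norm_num) (by norm_num) (by norm_num) (by norm_num)
    (by norm_num)
  obtain ⟨a, ha⟩ := exists_prime_orderOf_dvd_card' (G := A) 5 (by rw [hA])
  obtain ⟨c, hc⟩ := exists_prime_orderOf_dvd_card' (G := B) 13 (by rw [hB])
  have hdis : Disjoint A B := disjoint_iff.2
    (Subgroup.inf_eq_bot_of_coprime (by rw [hA, hB]; norm_num))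
  have hcm := (Subgroup.commute_of_normal_of_disjoint A B hAn hBn hdis _ _ a.2 c.2).map
    (X.subtype.comp H.subtype)
  refine not_commute_five_thirteen hW ?_ ?_ hcm
  · show orderOf (((a : H) : X) : W ≃ₗ[ZMod 3] W) = 5
    rw [Subgroup.orderOf_coe, Subgroup.orderOf_coe, Subgroup.orderOf_coe, ha]
  · show orderOf (((c : H) : X) : W ≃ₗ[ZMod 3] W) = 13
    rw [Subgroup.orderOf_coe, Subgroup.orderOf_coe, Subgroup.orderOf_coe, hc]

theorem classify {n : ℕ} (hn : 3 ≤ n) (hcard : Nat.card V = p ^ n)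
    (X : Subgroup (V ≃ₗ[ZMod p] V)) (hsol : Group.IsSolvable X)
    (htr1 : ∀ v w : V, v ≠ 0 → w ≠ 0 → ∃ g ∈ X, g v = w)
    (htr : ∀ W₁ W₂ : Submodule (ZMod p) V, Nat.card W₁ = p ^ 2 → Nat.card W₂ = p ^ 2 →
      ∃ g ∈ X, W₁.map (g : V →ₗ[ZMod p] V) = W₂)
    (hsc : ∀ c : (ZMod p)ˣ, DistribMulAction.toLinearEquiv (ZMod p) V c ∈ X) :
    ∃ e : V ≃+ GaloisField p n, (∀ g ∈ X, IsSemi e g) ∧
      ((n = 3 ∧ (p = 2 → (Nat.card X = 7 ∧ ∀ g ∈ X, ∃ a : GaloisField p n, ∀ v, e (g v) = a * e v)
          ∨ Nat.card X = 21)) ∨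
        (n = 5 ∧ p = 2 ∧ Nat.card X = 155)) := by
  haveI : Finite (V ≃ₗ[ZMod p] V) :=
    Finite.of_injective (fun f => (f : V → V)) DFunLike.coe_injective
  haveI : Nontrivial V := Finite.one_lt_card_iff_nontrivial.1
    (hcard ▸ one_lt_pow₀ hp.out.one_lt (by omega))
  obtain ⟨N, hN, hNd⟩ := card_planes X (by omega) hcard htr hsc
  rcases S3360.result p hsol X.subtype Subtype.val_injective (fun v w hv hw => by
    obtain ⟨g, hg, h⟩ := htr1 v w hv hw; exact ⟨⟨g, hg⟩, h⟩) with ⟨F, iF, iFF, e, he⟩ | hexc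
  swap
  · exfalso
    rw [hcard] at hexc
    have hpn : p = 3 ∧ n = 4 := by
      have hbase : ∀ q m : ℕ, q.Prime → 0 < m → p ^ n = q ^ m → p = q ∧ n = m := by
        intro q m hq hm e
        have hpq : p = q := (Nat.prime_dvd_prime_iff_eq hp.out hq).1
          (hp.out.dvd_of_dvd_pow (e ▸ dvd_pow_self p (by omega)))
        subst hpq
        exact ⟨rfl, Nat.pow_right_injective hp.out.two_le e⟩
      simp only [Set.mem_insert_iff, Set.mem_singleton_iff] at hexc
      rcases hexc with h | h | h | h | h | h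
      · obtain ⟨-, rfl⟩ := hbase 3 2 Nat.prime_three two_pos h; omega
      · obtain ⟨-, rfl⟩ := hbase 5 2 Nat.prime_five two_pos h; omega
      · obtain ⟨-, rfl⟩ := hbase 7 2 (by norm_num) two_pos h; omega
      · obtain ⟨-, rfl⟩ := hbase 11 2 (by norm_num) two_pos h; omega
      · obtain ⟨-, rfl⟩ := hbase 23 2 (by norm_num) two_pos h; omega
      · exact hbase 3 4 Nat.prime_three (by norm_num) h
    obtain ⟨rfl, rfl⟩ := hpn
    have hN' : N = 130 := by norm_num at hN; omega
    subst hN'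
    exact not_dvd_sixty_five (by rw [hcard]; norm_num) X hsol
      (dvd_trans (by norm_num) hNd)
  letI := iF
  letI := iFF
  haveI : Fintype (GaloisField p n) := Fintype.ofFinite _
  let r : F ≃+* GaloisField p n := FiniteField.ringEquivOfCardEq (by
    rw [← Nat.card_eq_fintype_card, ← Nat.card_eq_fintype_card, ← Nat.card_congr e.toEquiv, hcard,
      GaloisField.card p n (by omega)])
  set e' : V ≃+ GaloisField p n := e.trans r.toAddEquiv
  have hsemi : ∀ g ∈ X, IsSemi e' g := by
    intro g hg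
    obtain ⟨a, σ, h⟩ := he ⟨g, hg⟩
    refine ⟨r a, (r.symm.trans σ).trans r, fun v => ?_⟩
    show r (e (g v)) = r a * r (σ (r.symm (r (e v))))
    rw [r.symm_apply_apply, ← map_mul]
    exact congrArg r (h v)
  refine ⟨e', hsemi, ?_⟩
  have hn0 : n ≠ 0 := by omega
  have hle := card_le X hn0 hsemi
  have hord : ∀ r : ℕ, r.Prime → r ∣ Nat.card X → r ∣ n * (p ^ n - 1) := by
    intro r hr hd
    haveI := Fact.mk hr
    obtain ⟨g, hg⟩ := exists_prime_orderOf_dvd_card' r hd
    rw [← hg, ← Subgroup.orderOf_coe]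
    exact orderOf_dvd hn0 (hsemi _ g.2)
  have hXpos : 0 < Nat.card X := Nat.card_pos
  rcases Nat.lt_or_ge n 4 with hlt | hge
  · obtain rfl : n = 3 := by omega
    refine Or.inl ⟨rfl, ?_⟩
    rintro rfl
    have hN' : N = 7 := by norm_num at hN; omega
    subst hN'
    norm_num at hNd hle
    have h2 : ¬ 2 ∣ Nat.card X := fun h => absurd (hord 2 Nat.prime_two h) (by norm_num)
    rcases (show Nat.card X = 7 ∨ Nat.card X = 21 by omega) with h7 | h21
    · refine Or.inl ⟨h7, fun g hg => ?_⟩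
      obtain ⟨a, σ, h⟩ := hsemi g hg
      have hσ : σ = 1 := linear_of_pow hn0 h (m := 7) (by
        have := pow_card_eq_one' (x := (⟨g, hg⟩ : X))
        rw [h7] at this
        exact congrArg Subtype.val this) (by norm_num)
      exact ⟨a, fun v => by rw [h, hσ]; rfl⟩
    · exact Or.inr h21
  · have hp2 := hp.out.two_le
    have hq : 2 ≤ p ^ (n - 1) := le_trans hp2 (Nat.le_self_pow (by omega) p)
    have hineq : p ^ (n - 1) - 1 ≤ n * (p ^ 2 - 1) := by
      have h1 : N * (p - 1) ≤ (p ^ n - 1) * n := (Nat.le_of_dvd hXpos hNd).trans hle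
      have hpp : p ^ 2 - p = p * (p - 1) := by rw [Nat.mul_sub, mul_one, pow_two]
      have hpn : p ^ n - p = p * (p ^ (n - 1) - 1) := by
        rw [Nat.mul_sub, mul_one, ← pow_succ', show n - 1 + 1 = n by omega]
      have h3 : (p ^ n - 1) * (p * (p - 1)) * (p ^ (n - 1) - 1) ≤
          (p ^ n - 1) * (p * (p - 1)) * (n * (p ^ 2 - 1)) :=
        calc (p ^ n - 1) * (p * (p - 1)) * (p ^ (n - 1) - 1)
            = (p - 1) * ((p ^ n - 1) * (p ^ n - p)) := by rw [hpn]; ring
          _ = (N * (p - 1)) * ((p ^ 2 - 1) * (p ^ 2 - p)) := by rw [hN]; ring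
          _ ≤ ((p ^ n - 1) * n) * ((p ^ 2 - 1) * (p ^ 2 - p)) := Nat.mul_le_mul_right _ h1
          _ = _ := by rw [hpp]; ring
      refine Nat.le_of_mul_le_mul_left h3 (Nat.mul_pos ?_ (Nat.mul_pos (by omega) (by omega)))
      have := Nat.one_lt_pow hn0 hp.out.one_lt
      omega
    rcases arith hge hp2 hineq with ⟨rfl, rfl⟩ | ⟨rfl, hp3⟩
    · refine Or.inr ⟨rfl, rfl, ?_⟩
      have hN' : N = 155 := by norm_num at hN; omega
      subst hN'
      norm_num at hNd hle
      omega
    · exfalso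
      rcases (show p = 2 ∨ p = 3 by omega) with rfl | rfl
      · have hN' : N = 35 := by norm_num at hN; omega
        subst hN'
        exact absurd (hord 7 (by norm_num) (dvd_trans (by norm_num) hNd)) (by norm_num)
      · have hN' : N = 130 := by norm_num at hN; omega
        subst hN'
        exact absurd (hord 13 (by norm_num) (dvd_trans (by norm_num) hNd)) (by norm_num)

end Cfsg.Agent.Solv.PlaneTransitive
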