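import Mathlib
import Cfsg.Prelude.Def_Transfer
import Cfsg.Prelude.Def_Perm
import Cfsg.Prelude.Def_CaseTheorems
import Cfsg.Agent.Lib.Solv.PlaneTransitive
import Cfsg.Agent.Lib.Solv.Cores

/-!
The normalizer of an elementary abelian Sylow subgroup of rank at least three in a group in which
`p`-subgroups of equal order are conjugate.
-/

set_option autoImplicit false
set_option linter.style.haveILetI false

open scoped Pointwise

namespace Cfsg.Agent.Solv.EqualOrderAffine

open Cfsg

universe u

variable {G : Type u} [Group G] [Finite G] {p : ℕ} [hp : Fact p.Prime]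

/-- Fusion of subgroups of an abelian Sylow subgroup is controlled by its normalizer. -/
theorem exists_normalizer_conj (P : Sylow p G) (hab : ∀ a ∈ (P : Subgroup G), ∀ b ∈ (P : Subgroup G),
    a * b = b * a) {H K : Subgroup G} (hH : H ≤ P) (hK : K ≤ P) {g : G}
    (hg : K = H.map (MulAut.conj g).toMonoidHom) :
    ∃ m ∈ Subgroup.normalizer ((P : Subgroup G) : Set G),
      K = H.map (MulAut.conj m).toMonoidHom := by
  have hconj : ∀ (c : G) (R : Sylow p G) (r : G), r ∈ ((c • R : Sylow p G) : Subgroup G) ↔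
      c⁻¹ * r * c ∈ (R : Subgroup G) := by
    intro c R r
    rw [Sylow.coe_subgroup_smul, Subgroup.mem_pointwise_smul_iff_inv_smul_mem]
    simp [MulAut.smul_def, MulAut.conj_apply]
  have hPC : (P : Subgroup G) ≤ Subgroup.centralizer (K : Set G) := fun x hx =>
    Subgroup.mem_centralizer_iff.2 fun k hk => hab k (hK hk) x hx
  have hPgC : ((g • P : Sylow p G) : Subgroup G) ≤ Subgroup.centralizer (K : Set G) := by
    intro x hx
    rw [hconj] at hx
    refine Subgroup.mem_centralizer_iff.2 fun k hk => ?_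
    rw [SetLike.mem_coe, hg] at hk
    obtain ⟨h, hh, rfl⟩ := hk
    show g * h * g⁻¹ * x = x * (g * h * g⁻¹)
    calc g * h * g⁻¹ * x = g * (h * (g⁻¹ * x * g)) * g⁻¹ := by group
      _ = g * (g⁻¹ * x * g * h) * g⁻¹ := by rw [hab h (hH hh) _ hx]
      _ = x * (g * h * g⁻¹) := by group
  obtain ⟨c, hc⟩ := MulAction.exists_smul_eq (Subgroup.centralizer (K : Set G))
    ((g • P).subtype hPgC) (P.subtype hPC)
  have hmem : ((c : G) * g) • P = P := by
    refine Sylow.ext (SetLike.ext fun x => ?_)
    rw [hconj]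
    constructor
    · intro hx
      have hxC : x ∈ Subgroup.centralizer (K : Set G) := by
        have h1 : (c : G)⁻¹ * x * c ∈ Subgroup.centralizer (K : Set G) := hPgC (by
          rw [hconj]; simpa [mul_assoc] using hx)
        have := mul_mem (mul_mem c.2 h1) (inv_mem c.2)
        simpa [mul_assoc] using this
      have h2 : (⟨x, hxC⟩ : Subgroup.centralizer (K : Set G)) ∈
          ((c • (g • P).subtype hPgC : Sylow p _) : Subgroup _) := by
        rw [Sylow.coe_subgroup_smul, Subgroup.mem_pointwise_smul_iff_inv_smul_mem]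
        rw [Sylow.coe_subtype, Subgroup.mem_subgroupOf, hconj]
        simpa [MulAut.smul_def, mul_assoc] using hx
      rw [hc] at h2
      exact h2
    · intro hx
      have h2 : (⟨x, hPC hx⟩ : Subgroup.centralizer (K : Set G)) ∈
          ((c • (g • P).subtype hPgC : Sylow p _) : Subgroup _) := by
        rw [hc]; exact hx
      rw [Sylow.coe_subgroup_smul, Subgroup.mem_pointwise_smul_iff_inv_smul_mem,
        Sylow.coe_subtype, Subgroup.mem_subgroupOf, hconj] at h2
      simpa [MulAut.smul_def, mul_assoc] using h2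
  refine ⟨c * g, Sylow.smul_eq_iff_mem_normalizer.1 hmem, ?_⟩
  refine hg.trans (SetLike.ext fun x => ?_)
  have hcK : ∀ y ∈ H, (c : G) * (g * y * g⁻¹) * (c : G)⁻¹ = g * y * g⁻¹ := by
    intro y hy
    have := Subgroup.mem_centralizer_iff.1 c.2 (g * y * g⁻¹)
      (by rw [SetLike.mem_coe, hg]; exact ⟨y, hy, rfl⟩)
    rw [← this, mul_inv_cancel_right]
  constructor
  · rintro ⟨y, hy, rfl⟩
    exact ⟨y, hy, by
      show (c * g : G) * y * (c * g : G)⁻¹ = g * y * g⁻¹
      rw [← hcK y hy]; group⟩
  · rintro ⟨y, hy, rfl⟩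
    exact ⟨y, hy, by
      show g * y * g⁻¹ = (c * g : G) * y * (c * g : G)⁻¹
      rw [← hcK y hy]; group⟩

variable {R : Type*} [Ring R]

theorem card_semiaffine_le [Finite R] {a b : ℕ} (ha : Nat.card Rˣ = a)
    (hb : Nat.card (R ≃+* R) = b) : Nat.card (semiaffineGroup R) ≤ a * Nat.card R * b := by
  haveI : Finite (R ≃+* R) :=
    Finite.of_injective (fun f => (f : R → R)) DFunLike.coe_injective
  let f : Rˣ × R × (R ≃+* R) → semiaffineGroup R := fun q =>
    ⟨(q.2.2.toEquiv.trans (Units.mulLeft q.1)).trans (Equiv.addRight q.2.1),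
      q.1, q.2.1, q.2.2, fun x => rfl⟩
  have hf : Function.Surjective f := by
    rintro ⟨σ, a, b, φ, h⟩
    exact ⟨(a, b, φ), Subtype.ext (Equiv.ext fun x => (h x).symm)⟩
  refine (Nat.card_le_card_of_surjective f hf).trans (le_of_eq ?_)
  rw [Nat.card_prod, Nat.card_prod, ha, hb]; ring

theorem card_affine_le [Finite R] {a : ℕ} (ha : Nat.card Rˣ = a) :
    Nat.card (affineGroup R) ≤ a * Nat.card R := by
  let f : Rˣ × R → affineGroup R := fun q =>
    ⟨(Units.mulLeft q.1).trans (Equiv.addRight q.2), q.1, q.2, fun x => rfl⟩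
  have hf : Function.Surjective f := by
    rintro ⟨σ, a, b, h⟩
    exact ⟨(a, b), Subtype.ext (Equiv.ext fun x => (h x).symm)⟩
  refine (Nat.card_le_card_of_surjective f hf).trans (le_of_eq ?_)
  rw [Nat.card_prod, ha]

theorem main (hC : ∀ H K : Subgroup G, IsPGroup p H → IsPGroup p K → Nat.card H = Nat.card K →
      ∃ g : G, K = H.map (MulAut.conj g).toMonoidHom) (P : Sylow p G) (n : ℕ) (hn : 3 ≤ n)
    (hel : IsElementaryAbelian p (P : Subgroup G)) (hcard : Nat.card P = p ^ n)
    (N : Subgroup G) (hN : N = Subgroup.normalizer ((P : Subgroup G) : Set G))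
    (hsolv : Group.IsSolvable (N ⧸ pPrimeCore p N)) :
    (n = 3 ∧ (∃ f : N ⧸ pPrimeCore p N →* semiaffineGroup (GaloisField p 3), Function.Injective f) ∧
      (p = 2 → Nonempty (N ⧸ pPrimeCore p N ≃* semiaffineGroup (GaloisField p 3)) ∨
               Nonempty (N ⧸ pPrimeCore p N ≃* affineGroup (GaloisField p 3)))) ∨
    (n = 5 ∧ p = 2 ∧ Nonempty (N ⧸ pPrimeCore p N ≃* semiaffineGroup (GaloisField p 5))) := by
  classical
  subst hN
  set N := Subgroup.normalizer ((P : Subgroup G) : Set G)
  have hPN : (P : Subgroup G) ≤ N := Subgroup.le_normalizer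
  letI : CommGroup (P : Subgroup G) :=
    { (inferInstance : Group (P : Subgroup G)) with mul_comm := hel.1.is_comm.comm }
  have hpz : ∀ v : Additive (P : Subgroup G), p • v = 0 := fun v => by
    apply Additive.toMul.injective
    rw [toMul_nsmul, toMul_zero]
    exact Subtype.ext (by rw [SubmonoidClass.coe_pow]; exact hel.2 _ (Additive.toMul v).2)
  letI : Module (ZMod p) (Additive (P : Subgroup G)) := AddCommGroup.zmodModule (n := p) hpz
  have hV : Nat.card (Additive (P : Subgroup G)) = p ^ n := (Nat.card_congr Additive.toMul).trans hcard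
  let c : N →* MulAut (P : Subgroup G) := Subgroup.normalizerMonoidHom (P : Subgroup G)
  let ρa : N → (Additive (P : Subgroup G)) ≃+ (Additive (P : Subgroup G)) := fun m =>
    { toFun := fun v => Additive.ofMul (c m (Additive.toMul v))
      invFun := fun v => Additive.ofMul ((c m).symm (Additive.toMul v))
      left_inv := fun v => congrArg Additive.ofMul ((c m).symm_apply_apply _)
      right_inv := fun v => congrArg Additive.ofMul ((c m).apply_symm_apply _)
      map_add' := fun v w => congrArg Additive.ofMul (map_mul (c m) _ _) }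
  let ρ : N →* ((Additive (P : Subgroup G)) ≃ₗ[ZMod p] (Additive (P : Subgroup G))) :=
    { toFun := fun m => (ρa m).toLinearEquiv fun k v => ZMod.map_smul (ρa m).toAddMonoidHom k v
      map_one' := LinearEquiv.ext fun v => by simp [ρa]
      map_mul' := fun a b => LinearEquiv.ext fun v => by simp [ρa, LinearEquiv.mul_apply]; rfl }
  let val : (Additive (P : Subgroup G)) → G := fun v => ((Additive.toMul v : (P : Subgroup G)) : G)
  have hval : Function.Injective val := fun v w h => Additive.toMul.injective (Subtype.ext h)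
  have hρ : ∀ (m : N) (v : (Additive (P : Subgroup G))), val (ρ m v) = (m : G) * val v * (m : G)⁻¹ := fun m v => rfl
  have hρ1 : ∀ m : N, ρ m = 1 ↔ ∀ x ∈ (P : Subgroup G), (m : G) * x * (m : G)⁻¹ = x := by
    intro m
    constructor
    · intro h x hx
      have := hρ m (Additive.ofMul ⟨x, hx⟩)
      rw [h] at this
      exact this.symm
    · intro h
      exact LinearEquiv.ext fun v => hval ((hρ m v).trans (h _ (Additive.toMul v).2))
  set P' : Subgroup N := (P : Subgroup G).subgroupOf N with hP'd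
  haveI hP'n : P'.Normal := Subgroup.normal_in_normalizer
  have hP'c : Nat.card P' = p ^ n :=
    (Nat.card_congr (Subgroup.subgroupOfEquivOfLe hPN).toEquiv).trans hcard
  have hidx : ¬ p ∣ P'.index := fun h => P.not_dvd_index
    (h.trans ((Subgroup.relIndex_mul_index hPN) ▸ Dvd.intro _ rfl))
  have hK : pPrimeCore p N ≤ ρ.ker := by
    intro k hk
    rw [MonoidHom.mem_ker, hρ1]
    intro x hx
    have hd : Disjoint (pPrimeCore p N) P' := disjoint_iff.2 (Subgroup.inf_eq_bot_of_coprime (by
      rw [hP'c]; exact (pPrimeCore_coprime p).pow_right n))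
    have h := congrArg Subtype.val (Subgroup.commute_of_normal_of_disjoint _ _
      (pPrimeCore_normal p) hP'n hd k ⟨x, hPN hx⟩ hk hx).eq
    rw [mul_inv_eq_iff_eq_mul]
    exact h
  haveI := pPrimeCore_normal (G := N) p
  let s : (ZMod p)ˣ →* ((Additive (P : Subgroup G)) ≃ₗ[ZMod p] (Additive (P : Subgroup G))) := DistribMulAction.toModuleAut (ZMod p) (Additive (P : Subgroup G))
  let ρb : N ⧸ pPrimeCore p N →* ((Additive (P : Subgroup G)) ≃ₗ[ZMod p] (Additive (P : Subgroup G))) := QuotientGroup.lift _ ρ hK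
  have hcm : ∀ q u, Commute (ρb q) (s u) := fun q u =>
    LinearEquiv.ext fun v => (ρb q).map_smul (u : ZMod p) v
  let f : (N ⧸ pPrimeCore p N) × (ZMod p)ˣ →* ((Additive (P : Subgroup G)) ≃ₗ[ZMod p] (Additive (P : Subgroup G))) := ρb.noncommCoprod s hcm
  haveI := hsolv
  have hXsol : Group.IsSolvable f.range :=
    solvable_of_surjective (f := f.rangeRestrict) f.rangeRestrict_surjective
  have hρX : ∀ m : N, ρ m ∈ f.range := fun m => ⟨(QuotientGroup.mk' _ m, 1), by
    show ρb (QuotientGroup.mk' _ m) * s 1 = ρ m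
    rw [map_one, mul_one]; rfl⟩
  have hsc : ∀ u : (ZMod p)ˣ, DistribMulAction.toLinearEquiv (ZMod p) (Additive (P : Subgroup G)) u ∈ f.range := fun u =>
    ⟨(1, u), by
      show ρb 1 * s u = _
      rw [map_one, one_mul]; rfl⟩
  -- subgroups of equal order are conjugate in the normalizer
  let sub : AddSubgroup (Additive (P : Subgroup G)) → Subgroup G := fun W =>
    (AddSubgroup.toSubgroup' W).map (P : Subgroup G).subtype
  have hsubc : ∀ W : AddSubgroup (Additive (P : Subgroup G)), Nat.card (sub W) = Nat.card W := fun W =>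
    (Solv.card_map_subtype _).trans (Nat.card_congr
      { toFun := fun x => ⟨Additive.ofMul x.1, x.2⟩
        invFun := fun x => ⟨Additive.toMul x.1, x.2⟩
        left_inv := fun x => rfl
        right_inv := fun x => rfl })
  have hmove : ∀ W₁ W₂ : AddSubgroup (Additive (P : Subgroup G)), Nat.card W₁ = Nat.card W₂ →
      ∃ m : N, ∀ w : (Additive (P : Subgroup G)), w ∈ W₂ ↔ ∃ v ∈ W₁, ρ m v = w := by
    intro W₁ W₂ hW
    obtain ⟨g, hg⟩ := hC (sub W₁) (sub W₂) ((P.isPGroup'.to_subgroup _).map _)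
      ((P.isPGroup'.to_subgroup _).map _) (by rw [hsubc, hsubc, hW])
    obtain ⟨m, hm, hmK⟩ := exists_normalizer_conj P (fun a ha b hb =>
      congrArg Subtype.val (hel.1.is_comm.comm ⟨a, ha⟩ ⟨b, hb⟩))
      (Subgroup.map_subtype_le _) (Subgroup.map_subtype_le _) hg
    refine ⟨⟨m, hm⟩, fun w => ?_⟩
    have hw : w ∈ W₂ ↔ val w ∈ sub W₂ := by
      refine ⟨fun h => ⟨Additive.toMul w, h, rfl⟩, ?_⟩
      rintro ⟨x, hx, hxw⟩
      rwa [← show Additive.ofMul x = w from hval hxw]
    rw [hw, show sub W₂ = _ from hmK]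
    constructor
    · rintro ⟨_, ⟨x, hx, rfl⟩, hxw⟩
      exact ⟨Additive.ofMul x, hx, hval ((hρ _ _).trans hxw)⟩
    · rintro ⟨v, hv, rfl⟩
      refine ⟨val v, ⟨Additive.toMul v, hv, rfl⟩, ?_⟩
      exact (hρ ⟨m, hm⟩ v).symm
  have htr1 : ∀ v w : (Additive (P : Subgroup G)), v ≠ 0 → w ≠ 0 → ∃ g ∈ f.range, g v = w := by
    intro v w hv hw
    obtain ⟨m, hm⟩ := hmove (Submodule.span (ZMod p) {v}).toAddSubgroup
      (Submodule.span (ZMod p) {w}).toAddSubgroup
      ((PlaneTransitive.card_span_singleton hv).trans (PlaneTransitive.card_span_singleton hw).symm)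
    obtain ⟨v', hv', hvw⟩ := (hm w).1 (Submodule.mem_span_singleton_self w)
    obtain ⟨k, rfl⟩ := Submodule.mem_span_singleton.1 hv'
    have hk : k ≠ 0 := fun e => hw (by rw [← hvw, e, zero_smul, map_zero])
    refine ⟨ρ m * DistribMulAction.toLinearEquiv (ZMod p) (Additive (P : Subgroup G)) (Units.mk0 k hk),
      f.range.mul_mem (hρX m) (hsc _), ?_⟩
    exact hvw
  have htr : ∀ W₁ W₂ : Submodule (ZMod p) (Additive (P : Subgroup G)), Nat.card W₁ = p ^ 2 → Nat.card W₂ = p ^ 2 →
      ∃ g ∈ f.range, W₁.map (g : (Additive (P : Subgroup G)) →ₗ[ZMod p] (Additive (P : Subgroup G))) = W₂ := by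
    intro W₁ W₂ h1 h2
    obtain ⟨m, hm⟩ := hmove W₁.toAddSubgroup W₂.toAddSubgroup (h1.trans h2.symm)
    exact ⟨ρ m, hρX m, SetLike.ext fun w => ((hm w).trans Submodule.mem_map.symm).symm⟩
  obtain ⟨e, hsemi, hres⟩ := PlaneTransitive.classify hn hV f.range hXsol htr1 htr hsc
  -- the affine representation
  obtain ⟨H, hH⟩ := Subgroup.exists_right_complement'_of_coprime (N := P')
    (hP'c ▸ ((hp.out.coprime_iff_not_dvd.2 hidx).pow_left n))
  let F := GaloisField p n
  haveI : Finite F := inferInstance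
  let tr : P' → Equiv.Perm F := fun u =>
    Equiv.addRight (e (Additive.ofMul ⟨((u : N) : G), u.2⟩))
  let T : P' →* Equiv.Perm F :=
    { toFun := tr
      map_one' := Equiv.ext fun x => by
        show x + e (Additive.ofMul ⟨((1 : N) : G), _⟩) = x
        rw [show Additive.ofMul (⟨((1 : N) : G), (1 : P').2⟩ : (P : Subgroup G)) = 0 from rfl,
          map_zero, add_zero]
      map_mul' := fun a b => Equiv.ext fun x => by
        show x + e (Additive.ofMul ⟨((a * b : P') : N).1, _⟩) =
          x + e (Additive.ofMul ⟨((b : N) : G), b.2⟩) + e (Additive.ofMul ⟨((a : N) : G), a.2⟩)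
        rw [add_assoc, ← map_add]
        congr 2
        refine Additive.toMul.injective (Subtype.ext ?_)
        show ((a : N) : G) * ((b : N) : G) = ((b : N) : G) * ((a : N) : G)
        exact congrArg Subtype.val
          (hel.1.is_comm.comm (⟨_, a.2⟩ : (P : Subgroup G)) ⟨_, b.2⟩) }
  let L : N →* Equiv.Perm F :=
    { toFun := fun m => (e.symm.toEquiv.trans (ρ m).toEquiv).trans e.toEquiv
      map_one' := Equiv.ext fun x => by simp
      map_mul' := fun a b => Equiv.ext fun x => by simp }
  have hTL : ∀ (m : N) (u : P') (x : F),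
      L m (T u x) = T ⟨m * u * m⁻¹, hP'n.conj_mem _ u.2 m⟩ (L m x) := by
    intro m u x
    show e (ρ m (e.symm (x + e (Additive.ofMul ⟨_, u.2⟩)))) =
      e (ρ m (e.symm x)) + e (Additive.ofMul ⟨_, _⟩)
    rw [map_add, e.symm_apply_apply, map_add, map_add]
    rfl
  let φ : N →* Equiv.Perm F := (SemidirectProduct.lift T (L.comp H.subtype) (fun h =>
    MonoidHom.ext fun u => Equiv.ext fun x => by
      simp only [MonoidHom.comp_apply, MulEquiv.toMonoidHom_eq_coe, MonoidHom.coe_coe,
        MulAut.conj_apply, Equiv.Perm.mul_apply]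
      rw [hTL]
      congr 1
      exact ((L (h : N)).apply_symm_apply x).symm)).comp
    (SemidirectProduct.mulEquivSubgroup hH).symm.toMonoidHom
  have hφ : ∀ (u : P') (h : H), φ ((u : N) * h) = T u * L h := by
    intro u h
    have h1 : (SemidirectProduct.mulEquivSubgroup hH).symm ((u : N) * h) = ⟨u, h⟩ :=
      (MulEquiv.symm_apply_eq _).2 rfl
    simp only [φ, MonoidHom.comp_apply, MulEquiv.toMonoidHom_eq_coe, MonoidHom.coe_coe]
    rw [h1]; rfl
  have hdec : ∀ m : N, ∃ (u : P') (h : H), (u : N) * h = m := fun m => by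
    obtain ⟨⟨u, h⟩, hm⟩ := (hH.existsUnique m).exists
    exact ⟨u, h, hm⟩
  have hT1 : ∀ u : P', T u (0 : F) = e (Additive.ofMul ⟨((u : N) : G), u.2⟩) :=
    fun u => zero_add _
  have hL0 : ∀ m : N, L m (0 : F) = 0 := fun m => by simp [L]
  have hφ0 : ∀ (u : P') (h : H), φ ((u : N) * h) = 1 → u = 1 ∧ ρ h = 1 := by
    intro u h h1
    rw [hφ] at h1
    have h2 : T u (L h (0 : F)) = 0 := Equiv.congr_fun h1 0
    rw [hL0, hT1, map_eq_zero_iff e e.injective] at h2
    have hu : u = 1 := Subtype.ext (Subtype.ext (congrArg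
      (fun v : (Additive (P : Subgroup G)) => ((Additive.toMul v : (P : Subgroup G)) : G)) h2))
    refine ⟨hu, LinearEquiv.ext fun v => e.injective ?_⟩
    rw [hu, map_one, one_mul] at h1
    have h3 : L h (e v) = e v := Equiv.congr_fun h1 (e v)
    simpa [L] using h3
  have hker : φ.ker = pPrimeCore p N := by
    refine le_antisymm (normal_le_pPrimeCore ?_) fun k hk => ?_
    · have hbot : φ.ker ⊓ P' = ⊥ := (Subgroup.eq_bot_iff_forall _).2 fun x ⟨h1, h2⟩ => by
        have := hφ0 ⟨x, h2⟩ 1 (by simpa using h1)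
        exact congrArg Subtype.val this.1
      have hd : Nat.card φ.ker ∣ P'.index := by
        have hinj : Function.Injective ((QuotientGroup.mk' P').comp φ.ker.subtype) := by
          rw [injective_iff_map_eq_one]
          intro x hx
          refine Subtype.ext ?_
          have : (x : N) ∈ φ.ker ⊓ P' := ⟨x.2, (QuotientGroup.eq_one_iff _).1 hx⟩
          rwa [hbot, Subgroup.mem_bot] at this
        exact P'.index_eq_card ▸ Subgroup.card_dvd_of_injective _ hinj
      exact (hp.out.coprime_iff_not_dvd.2 fun h => hidx (h.trans hd)).symm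
    · obtain ⟨u, h, rfl⟩ := hdec k
      have hρk := hK hk
      rw [MonoidHom.mem_ker, map_mul,
        show ρ (u : N) = 1 from (hρ1 _).2 fun x hx => by
          rw [mul_inv_eq_iff_eq_mul]
          exact congrArg Subtype.val (hel.1.is_comm.comm ⟨_, u.2⟩ (⟨x, hx⟩ : (P : Subgroup G))),
        one_mul] at hρk
      have hL : L h = 1 := Equiv.ext fun x => by simp [L, hρk]
      have h1 : φ ((u : N) * h) = T u := by rw [hφ, hL, mul_one]
      have ho : orderOf (T u) = 1 := by
        refine Nat.eq_one_of_dvd_coprimes ((pPrimeCore_coprime (G := N) p).symm.pow_left n)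
          ((orderOf_map_dvd T u).trans (hP'c ▸ orderOf_dvd_natCard u)) ?_
        rw [← h1]
        exact (orderOf_map_dvd φ _).trans (Subgroup.orderOf_dvd_natCard _ hk)
      rw [MonoidHom.mem_ker, h1]
      exact orderOf_eq_one_iff.1 ho
  let iso : N ⧸ pPrimeCore p N ≃* φ.range :=
    (QuotientGroup.quotientMulEquivOfEq hker.symm).trans
      (QuotientGroup.quotientKerEquivRange φ)
  -- the range
  have hn0 : n ≠ 0 := by omega
  have hsemiL : ∀ m : N, ∃ (a : Fˣ) (σ : F ≃+* F), ∀ x, L m x = a * σ x := by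
    intro m
    obtain ⟨a, σ, h⟩ := hsemi _ (hρX m)
    exact ⟨Units.mk0 a (PlaneTransitive.a_ne_zero h), σ, fun x => by
      show e (ρ m (e.symm x)) = _
      rw [h, e.apply_symm_apply]; rfl⟩
  have hle : φ.range ≤ semiaffineGroup F := by
    rintro _ ⟨m, rfl⟩
    obtain ⟨u, h, rfl⟩ := hdec m
    rw [hφ]
    refine Subgroup.mul_mem _ ?_ ?_
    · exact ⟨1, _, RingEquiv.refl F, fun x => by
        show x + _ = ((1 : Fˣ) : F) * x + _
        rw [Units.val_one, one_mul]⟩
    · obtain ⟨a, σ, hL⟩ := hsemiL h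
      exact ⟨a, 0, σ, fun x => by rw [hL, add_zero]⟩
  have hcardR : p = 2 → Nat.card φ.range = p ^ n * Nat.card f.range := by
    rintro rfl
    have hf : f.range = ρ.range := by
      refine le_antisymm ?_ ?_
      · rintro _ ⟨⟨q, u⟩, rfl⟩
        obtain ⟨m, rfl⟩ := QuotientGroup.mk'_surjective _ q
        refine ⟨m, ?_⟩
        show ρ m = ρb _ * s u
        rw [Subsingleton.elim u 1, map_one, mul_one]; rfl
      · rintro _ ⟨m, rfl⟩; exact hρX m
    rw [hf, ← hV, ← Nat.card_prod]
    refine (Nat.card_congr (Equiv.ofBijective (fun q : (Additive (P : Subgroup G)) × ρ.range => (⟨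
      Equiv.trans ((e.symm.toEquiv.trans (q.2 : (Additive (P : Subgroup G)) ≃ₗ[ZMod 2] (Additive (P : Subgroup G))).toEquiv).trans e.toEquiv)
        (Equiv.addRight (e q.1)), by
      obtain ⟨m, hm⟩ := q.2.2
      obtain ⟨u, h, rfl⟩ := hdec m
      refine ⟨(⟨⟨val q.1, hPN (Additive.toMul q.1).2⟩, (Additive.toMul q.1).2⟩ : P') * (h : N), ?_⟩
      rw [hφ]
      rw [map_mul, show ρ (u : N) = 1 from (hρ1 _).2 fun x hx => by
          rw [mul_inv_eq_iff_eq_mul]
          exact congrArg Subtype.val (hel.1.is_comm.comm ⟨_, u.2⟩ (⟨x, hx⟩ : (P : Subgroup G))),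
        one_mul] at hm
      rw [← hm]
      rfl⟩ : φ.range)) ⟨?_, ?_⟩)).symm
    · intro q q' hq
      have h1 : ∀ x : F, e ((q.2 : (Additive (P : Subgroup G)) ≃ₗ[ZMod 2] (Additive (P : Subgroup G))) (e.symm x)) + e q.1 =
          e ((q'.2 : (Additive (P : Subgroup G)) ≃ₗ[ZMod 2] (Additive (P : Subgroup G))) (e.symm x)) + e q'.1 :=
        fun x => Equiv.congr_fun (congrArg Subtype.val hq) x
      have h2 : q.1 = q'.1 := e.injective (by simpa using h1 0)
      refine Prod.ext h2 (Subtype.ext (LinearEquiv.ext fun v => e.injective ?_))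
      simpa [h2] using h1 (e v)
    · rintro ⟨_, m, rfl⟩
      obtain ⟨u, h, rfl⟩ := hdec m
      exact ⟨(Additive.ofMul ⟨_, u.2⟩, ⟨ρ h, h, rfl⟩), Subtype.ext (hφ u h).symm⟩
  haveI : Finite (semiaffineGroup F) := inferInstance
  have hunits : Nat.card Fˣ = p ^ n - 1 := PlaneTransitive.card_units_galois hn0
  have hF : Nat.card F = p ^ n := GaloisField.card p n hn0
  have hfull : Nat.card (semiaffineGroup F) ≤ Nat.card φ.range → φ.range = semiaffineGroup F :=
    fun h => Subgroup.eq_of_le_of_card_ge hle h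
  rcases hres with ⟨rfl, h2⟩ | ⟨rfl, rfl, h5⟩
  · refine Or.inl ⟨rfl, ⟨(Subgroup.inclusion hle).comp iso.toMonoidHom,
      (Subgroup.inclusion_injective hle).comp iso.injective⟩, ?_⟩
    rintro rfl
    rcases h2 rfl with ⟨h7, hlin⟩ | h21
    · right
      have hle' : φ.range ≤ affineGroup F := by
        rintro _ ⟨m, rfl⟩
        obtain ⟨u, h, rfl⟩ := hdec m
        rw [hφ]
        refine Subgroup.mul_mem _ ?_ ?_
        · exact ⟨1, _, fun x => by
            show x + _ = ((1 : Fˣ) : F) * x + _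
            rw [Units.val_one, one_mul]⟩
        · obtain ⟨a, ha⟩ := hlin _ (hρX (h : N))
          refine ⟨Units.mk0 a (PlaneTransitive.a_ne_zero (σ := RingEquiv.refl F) ha), 0,
            fun x => ?_⟩
          show e (ρ h (e.symm x)) = _
          rw [ha, e.apply_symm_apply, add_zero]; rfl
      refine ⟨iso.trans (MulEquiv.subgroupCongr (Subgroup.eq_of_le_of_card_ge hle' ?_))⟩
      refine (card_affine_le hunits).trans ?_
      rw [hcardR rfl, hF, h7]
      norm_num
    · left
      refine ⟨iso.trans (MulEquiv.subgroupCongr (hfull ?_))⟩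
      refine (card_semiaffine_le hunits (PlaneTransitive.card_aut 3 hn0)).trans ?_
      rw [hcardR rfl, hF, h21]
      norm_num
  · refine Or.inr ⟨rfl, rfl, ⟨iso.trans (MulEquiv.subgroupCongr (hfull ?_))⟩⟩
    refine (card_semiaffine_le hunits (PlaneTransitive.card_aut 5 hn0)).trans ?_
    rw [hcardR rfl, hF, h5]
    norm_num

end Cfsg.Agent.Solv.EqualOrderAffine
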