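import Cfsg.Agent.Lib.Char.Jordan

/-!
# Blichfeldt's lemma on elements whose eigenvalues lie close to one of them

If the eigenvalues of a unitary element `z` all have distance less than one from the eigenvalue `ε`, every
conjugate of `z` stabilizes the eigenspace of `ε`. In a simple group this makes `z` scalar, so trivial.
-/

set_option autoImplicit false
set_option linter.style.haveILetI false

open Cfsg Cfsg.Agent.Char Module
open scoped ComplexConjugate InnerProductSpace

namespace Cfsg.Agent.Solv.Arc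

universe u v

variable {G : Type u} [Group G] [Finite G] {V : Type v} [NormedAddCommGroup V]
  [InnerProductSpace ℂ V] [FiniteDimensional ℂ V] (U : G →* (V →L[ℂ] V))
  (hU : ∀ g v, ‖U g v‖ = ‖v‖)

omit [Finite G] [InnerProductSpace ℂ V] [FiniteDimensional ℂ V] in
theorem mul_apply' [NormedSpace ℂ V] (U : G →* (V →L[ℂ] V)) (a b : G) (v : V) :
    U (a * b) v = U a (U b v) := by
  rw [map_mul]; rfl

include hU in
theorem preserves_eigenspace {z : G} {ε : ℂ} {r : ℝ} (hε : ‖ε‖ = 1) (hr0 : 0 ≤ r) (hr : r < 1)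
    (hop : ∀ v, ‖U z v - ε • v‖ ≤ r * ‖v‖) (x : G) {w : V} (hw : U z w = ε • w) :
    U z (U (x * z * x⁻¹) w) = ε • U (x * z * x⁻¹) w := by
  classical
  haveI := Fintype.ofFinite G
  let W : Submodule ℂ V :=
    { carrier := {v | U z v = ε • v}
      zero_mem' := by simp
      add_mem' := fun {a b} ha hb => by
        show U z (a + b) = ε • (a + b); rw [map_add, ha, hb, smul_add]
      smul_mem' := fun c {a} ha => by
        show U z (c • a) = ε • c • a; rw [map_smul, ha, smul_comm] }
  set b := finBasis ℂ W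
  have hεε : conj ε * ε = 1 := by
    rw [Complex.conj_mul', hε]; norm_num
  -- the deviation of an element from the stabilizer of `W`
  set δ : V → ℝ := fun v => ‖U z v - ε • v‖ with hδ
  set D : G → ℝ := fun g => ∑ j, δ (U g (b j : V)) with hD
  have hD0 : ∀ g, 0 ≤ D g := fun g => Finset.sum_nonneg fun j _ => norm_nonneg _
  have hz0 : ∀ g, D g = 0 → ∀ v ∈ W, U g v ∈ W := by
    intro g hg v hv
    have hj : ∀ j, U g (b j : V) ∈ W := fun j => by
      have := (Finset.sum_eq_zero_iff_of_nonneg fun i _ => norm_nonneg _).mp hg j (Finset.mem_univ _)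
      exact sub_eq_zero.mp (norm_eq_zero.mp this)
    have hc := congrArg W.subtype (b.sum_repr ⟨v, hv⟩)
    simp only [map_sum, map_smul, Submodule.coe_subtype] at hc
    rw [← hc, map_sum]
    exact W.sum_mem fun j _ => by rw [map_smul]; exact W.smul_mem _ (hj j)
  have hbW : ∀ j, U z (b j : V) = ε • (b j : V) := fun j => (b j).2
  have hinv : ∀ v : V, ‖U z⁻¹ v - conj ε • v‖ = δ v := by
    intro v
    have h1 : U z (U z⁻¹ v - conj ε • v) = (-conj ε) • (U z v - ε • v) := by
      rw [map_sub, map_smul, ← mul_apply', mul_inv_cancel, map_one, smul_sub, smul_smul, neg_mul,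
        hεε, neg_smul, neg_smul, one_smul]
      show v - conj ε • U z v = _
      abel
    have h2 := congrArg norm h1
    rw [hU, norm_smul, norm_neg, Complex.norm_conj, hε, one_mul] at h2
    exact h2
  have hcontr : ∀ g, D (g * z * g⁻¹) ≤ r * D g⁻¹ ∧ D (g * z * g⁻¹)⁻¹ ≤ r * D g⁻¹ := by
    intro g
    rw [hD]
    simp only [Finset.mul_sum]
    constructor <;> refine Finset.sum_le_sum fun j _ => ?_
    · have e : U (g * z * g⁻¹) (b j : V) - ε • (b j : V) =
          U g (U z (U g⁻¹ (b j : V)) - ε • U g⁻¹ (b j : V)) := by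
        rw [map_sub, map_smul, ← mul_apply', ← mul_apply', ← mul_apply', mul_inv_cancel, map_one]
        rfl
      have e' : U z (U (g * z * g⁻¹) (b j : V)) - ε • U (g * z * g⁻¹) (b j : V) =
          U z (U (g * z * g⁻¹) (b j : V) - ε • (b j : V)) -
            ε • (U (g * z * g⁻¹) (b j : V) - ε • (b j : V)) := by
        rw [map_sub, map_smul, hbW, smul_sub]; abel
      calc δ (U (g * z * g⁻¹) (b j : V)) ≤ r * ‖U (g * z * g⁻¹) (b j : V) - ε • (b j : V)‖ := by
            simp only [hδ]; rw [e']; exact hop _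
        _ = r * δ (U g⁻¹ (b j : V)) := by rw [e, hU]
    · have e : U (g * z * g⁻¹)⁻¹ (b j : V) - conj ε • (b j : V) =
          U g (U z⁻¹ (U g⁻¹ (b j : V)) - conj ε • U g⁻¹ (b j : V)) := by
        rw [map_sub, map_smul, ← mul_apply', ← mul_apply', ← mul_apply', mul_inv_cancel, map_one,
          mul_inv_rev, mul_inv_rev, inv_inv, mul_assoc]
        rfl
      have e' : U z (U (g * z * g⁻¹)⁻¹ (b j : V)) - ε • U (g * z * g⁻¹)⁻¹ (b j : V) =
          U z (U (g * z * g⁻¹)⁻¹ (b j : V) - conj ε • (b j : V)) -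
            ε • (U (g * z * g⁻¹)⁻¹ (b j : V) - conj ε • (b j : V)) := by
        rw [map_sub, map_smul, hbW, smul_sub, smul_comm]; abel
      calc δ (U (g * z * g⁻¹)⁻¹ (b j : V))
            ≤ r * ‖U (g * z * g⁻¹)⁻¹ (b j : V) - conj ε • (b j : V)‖ := by
            simp only [hδ]; rw [e']; exact hop _
        _ = r * δ (U g⁻¹ (b j : V)) := by rw [e, hU, hinv]
  -- stabilizing `W` at the next step forces stabilizing it now
  have hback : ∀ c, D ((c * z * c⁻¹) * z * (c * z * c⁻¹)⁻¹) = 0 →
      D (c * z * c⁻¹) = 0 ∧ D (c * z * c⁻¹)⁻¹ = 0 := by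
    intro c h0
    set g := c * z * c⁻¹ with hg
    have hgop : ∀ v, ‖U g v - ε • v‖ ≤ r * ‖v‖ := by
      intro v
      have e : U g v - ε • v = U c (U z (U c⁻¹ v) - ε • U c⁻¹ v) := by
        rw [map_sub, map_smul, ← mul_apply', ← mul_apply', ← mul_apply', mul_inv_cancel, map_one, hg]
        rfl
      rw [e, hU]
      exact (hop _).trans_eq (by rw [hU])
    have hle : ∀ u ∈ W, U g⁻¹ u ∈ W := by
      intro u hu
      set w := U z (U g⁻¹ u) - ε • U g⁻¹ u with hwdef
      have hm : U (g * z * g⁻¹) u ∈ W := hz0 _ h0 u hu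
      have hgw : U g w ∈ W := by
        have e : U g w = U (g * z * g⁻¹) u - ε • u := by
          rw [hwdef, map_sub, map_smul, ← mul_apply', ← mul_apply', ← mul_apply', mul_inv_cancel,
            map_one]
          rfl
        rw [e]
        exact W.sub_mem hm (W.smul_mem _ hu)
      have horth : ∀ y ∈ W, ⟪w, y⟫_ℂ = 0 := by
        intro y hy
        have h1 := U_inner U hU z (U g⁻¹ u) y
        rw [show U z y = ε • y from hy, inner_smul_right] at h1
        rw [hwdef, inner_sub_left, inner_smul_left, ← h1, ← mul_assoc, hεε, one_mul, sub_self]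
      have hw0 : w = 0 := by
        by_contra hne
        have h2 : ‖U g w - ε • w‖ ^ 2 = 2 * ‖w‖ ^ 2 := by
          rw [@norm_sub_sq ℂ, inner_smul_right, ← inner_conj_symm, horth _ hgw, map_zero, mul_zero,
            map_zero, mul_zero, sub_zero, norm_smul, hε, one_mul, hU]
          ring
        have h3 := pow_le_pow_left₀ (norm_nonneg _) (hgop w) 2
        rw [h2, mul_pow] at h3
        have h4 : 0 < ‖w‖ ^ 2 := by positivity
        have h5 : r ^ 2 < 1 := by nlinarith
        nlinarith
      exact sub_eq_zero.mp hw0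
    have hinvD : D g⁻¹ = 0 := Finset.sum_eq_zero fun j _ => by
      simp only [hδ]; rw [norm_eq_zero, sub_eq_zero]; exact hle _ (b j).2
    refine ⟨Finset.sum_eq_zero fun j _ => ?_, hinvD⟩
    simp only [hδ]; rw [norm_eq_zero, sub_eq_zero]
    have hmap : ∀ k : ℕ, ∀ u ∈ W, U (g⁻¹ ^ k) u ∈ W := by
      intro k
      induction k with
      | zero => intro u hu; rw [pow_zero, map_one]; exact hu
      | succ k ih => intro u hu; rw [pow_succ, mul_apply']; exact ih _ (hle u hu)
    have e : g = g⁻¹ ^ (orderOf g - 1) := by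
      rw [inv_pow]
      refine eq_inv_of_mul_eq_one_left ?_
      rw [← pow_succ', Nat.sub_add_cancel (orderOf_pos g), pow_orderOf_eq_one]
    exact e ▸ hmap _ _ (b j).2
  -- minimize the deviation
  let E : G → ℝ := fun c => max (D (c * z * c⁻¹)) (D (c * z * c⁻¹)⁻¹)
  by_contra hx
  have hxE : E x ≠ 0 := by
    intro h
    have h1 : D (x * z * x⁻¹) = 0 := le_antisymm ((le_max_left _ _).trans_eq h) (hD0 _)
    exact hx (hz0 _ h1 w hw)
  obtain ⟨c, hc, hmin⟩ := (Finset.univ.filter fun c => E c ≠ 0).exists_min_image E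
    ⟨x, Finset.mem_filter.mpr ⟨Finset.mem_univ _, hxE⟩⟩
  have hcE := (Finset.mem_filter.mp hc).2
  set g := c * z * c⁻¹ with hg
  have hEc : 0 < E c := lt_of_le_of_ne ((hD0 _).trans (le_max_left _ _)) (Ne.symm hcE)
  have hlt : E g < E c := by
    refine lt_of_le_of_lt (max_le (hcontr g).1 (hcontr g).2) ?_
    calc r * D g⁻¹ ≤ r * E c := mul_le_mul_of_nonneg_left (le_max_right _ _) hr0
      _ < E c := mul_lt_of_lt_one_left hEc hr
  by_cases hg0 : E g = 0
  · obtain ⟨h1, h2⟩ := hback c (le_antisymm ((le_max_left _ _).trans_eq hg0) (hD0 _))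
    exact hcE (by simp only [E]; rw [h1, h2, max_self])
  · exact absurd (hmin g (Finset.mem_filter.mpr ⟨Finset.mem_univ _, hg0⟩)) (not_le.mpr hlt)

include hU in
/-- The distance of a unitary element from a scalar, read off its eigenvalues. -/
theorem exists_bound (z : G) (ε : ℂ)
    (h : ∀ (μ : ℂ) (v : V), v ≠ 0 → U z v = μ • v → ‖μ - ε‖ < 1) :
    ∃ r : ℝ, 0 ≤ r ∧ r < 1 ∧ ∀ v, ‖U z v - ε • v‖ ≤ r * ‖v‖ := by
  classical
  let H := Subgroup.zpowers z
  haveI : Fintype H := Fintype.ofFinite _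
  have hH : ∀ x ∈ H, ∀ y ∈ H, x * y = y * x := fun x hx y hy =>
    congrArg Subtype.val (IsMulCommutative.is_comm.comm (⟨x, hx⟩ : H) ⟨y, hy⟩)
  let a : H := ⟨z, Subgroup.mem_zpowers z⟩
  set L := Finset.univ.filter fun l : IrrCharacter H => subEigProj U H l ≠ 0 with hL
  have hnorm : ∀ l ∈ L, ‖(l : H → ℂ) a - ε‖ < 1 := by
    intro l hl
    obtain ⟨v, hv⟩ : ∃ v, subEigProj U H l v ≠ 0 := by
      by_contra hh
      push Not at hh
      exact (Finset.mem_filter.mp hl).2 (ContinuousLinearMap.ext hh)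
    exact h _ _ hv (eigProj_eigen U H hH l a v)
  obtain ⟨r, hr0, hr1, hr⟩ : ∃ r : ℝ, 0 ≤ r ∧ r < 1 ∧ ∀ l ∈ L, ‖(l : H → ℂ) a - ε‖ ≤ r := by
    rcases L.eq_empty_or_nonempty with he | he
    · exact ⟨0, le_rfl, zero_lt_one, by simp [he]⟩
    · obtain ⟨l, hl, hmax⟩ := L.exists_max_image (fun l => ‖(l : H → ℂ) a - ε‖) he
      exact ⟨_, norm_nonneg _, hnorm l hl, hmax⟩
  refine ⟨r, hr0, hr1, fun v => le_of_pow_le_pow_left₀ two_ne_zero (by positivity) ?_⟩
  have e : U z v - ε • v = ∑ l : IrrCharacter H, ((l : H → ℂ) a - ε) • subEigProj U H l v := by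
    simp only [sub_smul, Finset.sum_sub_distrib, ← Finset.smul_sum, sum_eigProj U H hH]
    congr 1
    conv_lhs => rw [← sum_eigProj U H hH v, map_sum]
    exact Finset.sum_congr rfl fun l _ => eigProj_eigen U H hH l a v
  have e2 := norm_sum_eigProj U hU H hH (fun _ => 1) v
  simp only [one_smul, sum_eigProj U H hH, norm_one, one_pow, one_mul] at e2
  rw [e, norm_sum_eigProj U hU H hH, mul_pow, e2, Finset.mul_sum]
  refine Finset.sum_le_sum fun l _ => ?_
  by_cases hl : l ∈ L
  · exact mul_le_mul_of_nonneg_right (pow_le_pow_left₀ (norm_nonneg _) (hr l hl) 2) (sq_nonneg _)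
  · have : subEigProj U H l = 0 := by simpa [L] using hl
    simp [this]

omit [InnerProductSpace ℂ V] [FiniteDimensional ℂ V] in
theorem invariant_of_arc [InnerProductSpace ℂ V] [FiniteDimensional ℂ V] {m : ℕ}
    (ρ : Representation ℂ G (Fin m → ℂ)) (e : (Fin m → ℂ) ≃ₗ[ℂ] V)
    (hnorm : ∀ g v, ‖e (ρ g v)‖ = ‖e v‖) {z : G} {ε : ℂ} (hε : ‖ε‖ = 1)
    (hnear : ∀ (μ : ℂ) (v : Fin m → ℂ), v ≠ 0 → ρ z v = μ • v → ‖μ - ε‖ < 1)
    (x : G) (v : Fin m → ℂ) (hv : ρ z v = ε • v) :
    ρ z (ρ (x * z * x⁻¹) v) = ε • ρ (x * z * x⁻¹) v := by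
  let U : G →* (V →L[ℂ] V) :=
    { toFun := fun g => LinearMap.toContinuousLinearMap (e.toLinearMap ∘ₗ (ρ g) ∘ₗ e.symm.toLinearMap)
      map_one' := by ext1 x; simp
      map_mul' := fun a b => by ext1 x; simp }
  have hUe : ∀ g v, U g (e v) = e (ρ g v) := fun g v => by
    show e (ρ g (e.symm (e v))) = _
    rw [e.symm_apply_apply]
  have hU : ∀ g y, ‖U g y‖ = ‖y‖ := by
    intro g y
    obtain ⟨w, rfl⟩ := e.surjective y
    rw [hUe, hnorm]
  obtain ⟨r, hr0, hr1, hop⟩ := exists_bound U hU z ε (by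
    intro μ y hy hμ
    obtain ⟨w, rfl⟩ := e.surjective y
    rw [hUe, ← map_smul] at hμ
    exact hnear μ w (fun h => hy (by rw [h, map_zero])) (e.injective hμ))
  have h1 := preserves_eigenspace U hU hε hr0 hr1 hop x (w := e v) (by rw [hUe, hv, map_smul])
  rw [hUe, hUe, ← map_smul] at h1
  exact e.injective h1

/-- **Blichfeldt.** In a faithful irreducible representation of a non-abelian simple group no nontrivial element
has all its eigenvalues at distance less than one from one of them. -/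
theorem eigen_far [IsSimpleGroup G] (hnc : ¬ ∀ a b : G, a * b = b * a) {m : ℕ}
    (ρ : Representation ℂ G (Fin m → ℂ)) (hρ : ρ.IsIrreducible) (hinj : ∀ g, ρ g = 1 → g = 1)
    {z : G} (hz : z ≠ 1) {ε : ℂ} {v₀ : Fin m → ℂ} (hv₀ : v₀ ≠ 0) (hev : ρ z v₀ = ε • v₀)
    (hε : ‖ε‖ = 1) :
    ∃ (μ : ℂ) (v : Fin m → ℂ), v ≠ 0 ∧ ρ z v = μ • v ∧ 1 ≤ ‖μ - ε‖ := by
  classical
  by_contra hcon
  push Not at hcon
  letI := Fintype.ofFinite G
  have hinv := invariant_of_arc (V := LinearMap.range (unitEmb ρ)) ρ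
    (LinearEquiv.ofInjective (unitEmb ρ) (unitEmb_injective ρ))
    (fun g v => by rw [Submodule.coe_norm, Submodule.coe_norm, LinearEquiv.ofInjective_apply,
      LinearEquiv.ofInjective_apply, norm_unitEmb]) hε hcon (z := z)
  -- the eigenspace is invariant
  let K : Subgroup G :=
    { carrier := {g | ∀ v, ρ z v = ε • v → ρ z (ρ g v) = ε • ρ g v}
      one_mem' := fun v h => by simpa using h
      mul_mem' := fun {a b} ha hb v h => by rw [map_mul]; exact ha _ (hb v h)
      inv_mem' := fun {a} ha v h => by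
        have : ∀ k : ℕ, ∀ v, ρ z v = ε • v → ρ z (ρ (a ^ k) v) = ε • ρ (a ^ k) v := by
          intro k
          induction k with
          | zero => intro v h; simpa using h
          | succ k ih => intro v h; rw [pow_succ, map_mul]; exact ih _ (ha v h)
        have e' : a⁻¹ = a ^ (orderOf a - 1) := by
          refine inv_eq_of_mul_eq_one_right ?_
          rw [← pow_succ', Nat.sub_add_cancel (orderOf_pos a), pow_orderOf_eq_one]
        rw [e']; exact this _ v h }
  have hK : Subgroup.normalClosure {z} ≤ K := by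
    rw [Subgroup.normalClosure, Subgroup.closure_le]
    intro g hg
    obtain ⟨a, ha, hag⟩ := Group.mem_conjugatesOfSet_iff.mp hg
    obtain rfl := Set.mem_singleton_iff.mp ha
    obtain ⟨x, rfl⟩ := isConj_iff.mp hag
    exact fun v h => hinv x v h
  have htop : Subgroup.normalClosure ({z} : Set G) = ⊤ := by
    rcases (Subgroup.normalClosure_normal (s := ({z} : Set G))).eq_bot_or_eq_top with h | h
    · exact absurd (by simpa [h] using Subgroup.subset_normalClosure (Set.mem_singleton z)) hz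
    · exact h
  rw [htop] at hK
  let S : Subrepresentation ρ :=
    ⟨{ carrier := {v | ρ z v = ε • v}
       zero_mem' := by simp
       add_mem' := fun {a b} ha hb => by
         show ρ z (a + b) = ε • (a + b); rw [map_add, ha, hb, smul_add]
       smul_mem' := fun c {a} ha => by
         show ρ z (c • a) = ε • c • a; rw [map_smul, ha, smul_comm] },
      fun g v hv => hK (Subgroup.mem_top g) v hv⟩
  rcases hρ.eq_bot_or_eq_top S with hb | ht
  · have : v₀ ∈ S.toSubmodule := hev
    rw [show S.toSubmodule = ⊥ from congrArg Subrepresentation.toSubmodule hb] at this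
    exact hv₀ this
  have hscal : ∀ v, ρ z v = ε • v := fun v => by
    have : v ∈ S.toSubmodule := by
      rw [show S.toSubmodule = ⊤ from congrArg Subrepresentation.toSubmodule ht]; trivial
    exact this
  have hzc : z ∈ Subgroup.center G := Subgroup.mem_center_iff.mpr fun g => by
    have h1 : ρ (g * z) = ρ (z * g) := LinearMap.ext fun v => by
      rw [map_mul, map_mul, Module.End.mul_apply, Module.End.mul_apply, hscal, hscal, map_smul]
    refine (inv_mul_eq_one.mp (hinj _ ?_)).symm
    rw [map_mul, h1, ← map_mul, inv_mul_cancel, map_one]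
  rcases (inferInstance : (Subgroup.center G).Normal).eq_bot_or_eq_top with h | h
  · exact hz (by simpa [h] using hzc)
  · exact hnc fun a b => (Subgroup.mem_center_iff.mp (h ▸ Subgroup.mem_top b) a)

end Cfsg.Agent.Solv.Arc
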