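import Cfsg.Agent.Lib.Solv.SuzukiCA
import Cfsg.Agent.Lib.Solv.ClassPow
import Mathlib.GroupTheory.Abelianization.Defs

/-!
Suzuki's theorem, global part: the parity and norm argument.
-/

set_option autoImplicit false
set_option linter.style.haveILetI false
set_option linter.unusedSectionVars false

open scoped ComplexConjugate Pointwise

namespace Cfsg.Agent.Solv.SuzukiCA

open Cfsg Cfsg.Agent.Char

variable {G : Type*} [Group G] [Fintype G]

theorem isCCT_centralizer (hCA : ∀ x : G, x ≠ 1 → ∀ a ∈ Subgroup.centralizer ({x} : Set G),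
      ∀ b ∈ Subgroup.centralizer ({x} : Set G), a * b = b * a) {x : G} (hx : x ≠ 1) :
    IsCCT (Subgroup.centralizer ({x} : Set G)) := by
  have hxx : x ∈ Subgroup.centralizer ({x} : Set G) := Subgroup.mem_centralizer_singleton_iff.2 rfl
  refine ⟨hCA x hx, fun h => hx (Subgroup.mem_bot.1 (h ▸ hxx)), fun a ha ha1 => le_antisymm ?_ ?_⟩
  · intro u hu
    rw [Subgroup.mem_centralizer_singleton_iff]
    have hxa : x ∈ Subgroup.centralizer ({a} : Set G) :=
      Subgroup.mem_centralizer_singleton_iff.2 (Subgroup.mem_centralizer_singleton_iff.1 ha).symm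
    exact hCA a ha1 u hu x hxa
  · intro u hu
    rw [Subgroup.mem_centralizer_singleton_iff]
    exact hCA x hx u hu a ha

theorem IsCCT.conj {A : Subgroup G} (hA : IsCCT A) (g : G) : IsCCT (MulAut.conj g • A) := by
  have hmem : ∀ u : G, u ∈ MulAut.conj g • A ↔ g⁻¹ * u * g ∈ A := fun u => mem_conj_smul
  refine ⟨fun a ha b hb => ?_, fun h => hA.ne_bot ?_, fun a ha ha1 => ?_⟩
  · rw [hmem] at ha hb
    have := hA.comm _ ha _ hb
    calc a * b = g * ((g⁻¹ * a * g) * (g⁻¹ * b * g)) * g⁻¹ := by group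
      _ = g * ((g⁻¹ * b * g) * (g⁻¹ * a * g)) * g⁻¹ := by rw [this]
      _ = b * a := by group
  · rw [eq_bot_iff]
    intro a ha
    have h1 : g * a * g⁻¹ ∈ MulAut.conj g • A := by
      rw [hmem]; simpa [mul_assoc] using ha
    rw [h, Subgroup.mem_bot] at h1
    rw [Subgroup.mem_bot]
    calc a = g⁻¹ * (g * a * g⁻¹) * g := by group
      _ = 1 := by rw [h1]; group
  · rw [hmem] at ha
    have h1 : g⁻¹ * a * g ≠ 1 := fun e => ha1 (by
      calc a = g * (g⁻¹ * a * g) * g⁻¹ := by group
        _ = 1 := by rw [e]; group)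
    ext u
    rw [hmem]
    rw [show (g⁻¹ * u * g ∈ A) ↔ g⁻¹ * u * g ∈ Subgroup.centralizer ({g⁻¹ * a * g} : Set G) by
      rw [hA.cent _ ha h1], Subgroup.mem_centralizer_singleton_iff,
      Subgroup.mem_centralizer_singleton_iff]
    constructor
    · intro h
      calc g⁻¹ * u * g * (g⁻¹ * a * g) = g⁻¹ * (u * a) * g := by group
        _ = g⁻¹ * (a * u) * g := by rw [h]
        _ = _ := by group
    · intro h
      calc u * a = g * (g⁻¹ * u * g * (g⁻¹ * a * g)) * g⁻¹ := by group
        _ = g * (g⁻¹ * a * g * (g⁻¹ * u * g)) * g⁻¹ := by rw [h]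
        _ = _ := by group

theorem inner_expand (a b : IrrCharacter G → ℤ) :
    classInner (∑ Y, (a Y : ℂ) • (Y : G → ℂ)) (∑ Y, (b Y : ℂ) • (Y : G → ℂ)) =
      ((∑ Y, a Y * b Y : ℤ) : ℂ) := by
  classical
  rw [classInner_sum_left, Int.cast_sum]
  refine Finset.sum_congr rfl fun χ _ => ?_
  rw [classInner_smul_left, classInner_sum_right, Finset.sum_eq_single χ]
  · rw [classInner_smul_right, irr_self χ.2, mul_one, map_intCast, Int.cast_mul]
  · intro ψ _ hne
    rw [classInner_smul_right, irrC_orth, if_neg hne.symm, mul_zero]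
  · simp

theorem sum_mul_dd (f : IrrCharacter G → ℤ) (Z : IrrCharacter G) : ∑ Y, f Y * dd Y Z = f Z := by
  classical
  rw [Finset.sum_eq_single Z]
  · rw [dd_self, mul_one]
  · intro Y _ h; rw [dd_ne h, mul_zero]
  · simp

/-- A perfect group of odd order with abelian centralisers is trivial. -/
theorem subsingleton_of_perfect (hodd : Odd (Nat.card G)) (hperf : commutator G = ⊤)
    (hCA : ∀ x : G, x ≠ 1 → ∀ a ∈ Subgroup.centralizer ({x} : Set G),
      ∀ b ∈ Subgroup.centralizer ({x} : Set G), a * b = b * a) : Subsingleton G := by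
  classical
  by_contra hns
  rw [not_subsingleton_iff_nontrivial] at hns
  let T := {A : Subgroup G // IsCCT A}
  let cl : {x : G // x ≠ 1} → T := fun x => ⟨_, isCCT_centralizer hCA x.2⟩
  have hcl : ∀ (x : {x : G // x ≠ 1}) (A : T), cl x = A ↔ (x : G) ∈ A.1 := by
    intro x A
    constructor
    · intro h
      rw [← h]
      exact Subgroup.mem_centralizer_singleton_iff.2 rfl
    · intro h
      exact Subtype.ext (A.2.cent _ h x.2)
  letI setd : Setoid T :=
    { r := fun A B => ∃ g : G, MulAut.conj g • A.1 = B.1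
      iseqv :=
        { refl := fun A => ⟨1, conj_one_smul _⟩
          symm := fun {A B} ⟨g, hg⟩ => ⟨g⁻¹, by rw [← hg, conj_smul_conj, inv_mul_cancel, conj_one_smul]⟩
          trans := fun {A B C} ⟨g, hg⟩ ⟨h, hh⟩ => ⟨h * g, by rw [← conj_smul_conj, hg, hh]⟩ } }
  haveI : Finite T := inferInstance
  haveI := Fintype.ofFinite T
  haveI : Finite (Quotient setd) := Quotient.finite _
  haveI := Fintype.ofFinite (Quotient setd)
  let R : Quotient setd → Subgroup G := fun o => o.out.1
  have hR : ∀ o, IsCCT (R o) := fun o => o.out.2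
  let F : ∀ o, Family (R o) := fun o => (family_exists (hR o) hodd).some
  let e : Quotient setd → ℕ := fun o => (R o).relIndex (Subgroup.normalizer (R o : Set G))
  let n : Quotient setd → ℕ := fun o => Nat.card {A : T // Quotient.mk setd A = o}
  have hn : ∀ o, (n o : ℝ) * ((Nat.card (R o) : ℝ) * e o) = Nat.card G := by
    intro o
    have key := Solv.card_eq_mul_of_fibres (α := G) (β := {A : T // Quotient.mk setd A = o})
      (fun g => ⟨⟨MulAut.conj g • R o, (hR o).conj g⟩, by
        conv_rhs => rw [← Quotient.out_eq o]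
        exact (Quotient.sound (s := setd) (a := o.out)
          (b := ⟨MulAut.conj g • R o, (hR o).conj g⟩) ⟨g, rfl⟩).symm⟩)
      (k := Nat.card (Subgroup.normalizer (R o : Set G))) (by
        rintro ⟨B, hB⟩
        obtain ⟨g0, hg0⟩ := Quotient.exact ((Quotient.out_eq o).trans hB.symm)
        refine Nat.card_congr
          { toFun := fun g => ⟨g0⁻¹ * g.1, ?_⟩
            invFun := fun u => ⟨g0 * u.1, ?_⟩
            left_inv := fun g => by simp
            right_inv := fun u => by simp }
        · refine mem_normalizer_of_conj_smul ?_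
          have h1 : MulAut.conj g.1 • R o = B.1 := congrArg (fun t => t.1.1) g.2
          rw [← conj_smul_conj, h1, ← hg0, conj_smul_conj, inv_mul_cancel, conj_one_smul]
        · refine Subtype.ext (Subtype.ext ?_)
          show MulAut.conj (g0 * u.1) • R o = B.1
          rw [← conj_smul_conj, conj_smul_of_mem_normalizer u.2]
          exact hg0)
    have hN : Nat.card (Subgroup.normalizer (R o : Set G)) = Nat.card (R o) * e o := by
      rw [← ((R o).subgroupOf (Subgroup.normalizer (R o : Set G))).card_mul_index,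
        Nat.card_congr (Subgroup.subgroupOfEquivOfLe Subgroup.le_normalizer).toEquiv]
      rfl
    rw [hN] at key
    exact_mod_cast key.symm
  have hsum : ∀ f : G → ℝ, (∀ g x : G, f (x * g * x⁻¹) = f g) →
      ∑ g, f g = f 1 + ∑ o, (n o : ℝ) * punctured (R o) f := by
    intro f hf
    rw [← Finset.sum_add_sum_compl {(1 : G)} f, Finset.sum_singleton]
    congr 1
    rw [Finset.sum_subtype (p := fun x : G => x ≠ 1) _ (by simp) f,
      ← Finset.sum_fiberwise (Finset.univ : Finset {x : G // x ≠ 1}) cl,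
      ← Finset.sum_fiberwise (Finset.univ : Finset T) (fun A => Quotient.mk setd A)]
    refine Finset.sum_congr rfl fun o _ => ?_
    rw [Finset.sum_congr rfl (g := fun _ => punctured (R o) f), Finset.sum_const, nsmul_eq_mul]
    · congr 1
      simp only [n]
      rw [Nat.card_eq_fintype_card, Fintype.card_subtype]
    · intro A hA
      obtain ⟨g, hg⟩ := Quotient.exact ((Quotient.out_eq o).trans (Finset.mem_filter.1 hA).2.symm)
      have hg' : MulAut.conj g • R o = A.1 := hg
      have h1 : ∑ x ∈ (Finset.univ : Finset {x : G // x ≠ 1}) with cl x = A, f x =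
          ∑ x : G, if x ∈ A.1 ∧ x ≠ 1 then f x else 0 := by
        rw [← Finset.sum_filter]
        refine Finset.sum_bij (fun x _ => (x : G)) (fun x hx => ?_) (fun x _ y _ h => Subtype.ext h)
          (fun x hx => ?_) (fun x _ => rfl)
        · exact Finset.mem_filter.2 ⟨Finset.mem_univ _, (hcl x A).1 (Finset.mem_filter.1 hx).2, x.2⟩
        · obtain ⟨-, hxA, hx1⟩ := Finset.mem_filter.1 hx
          exact ⟨⟨x, hx1⟩, Finset.mem_filter.2 ⟨Finset.mem_univ _, (hcl _ A).2 hxA⟩, rfl⟩
      rw [h1, punctured]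
      refine Fintype.sum_equiv (MulAut.conj g⁻¹).toEquiv _ _ fun x => ?_
      show _ = if (g⁻¹ * x * g⁻¹⁻¹ ∈ R o ∧ g⁻¹ * x * g⁻¹⁻¹ ≠ 1) then f (g⁻¹ * x * g⁻¹⁻¹) else 0
      rw [hf]
      have e1 : x ∈ A.1 ↔ g⁻¹ * x * g⁻¹⁻¹ ∈ R o := by rw [inv_inv, ← hg', mem_conj_smul]
      have e2 : x = 1 ↔ g⁻¹ * x * g⁻¹⁻¹ = 1 := conj_eq_one_iff.symm
      simp only [e1, e2, Ne]
  -- two families are orthogonal
  have horth : ∀ i k, i ≠ k → ∀ a b, ∑ Y, ((F i).r Y - (F i).eps * dd Y ((F i).mu a)) *
      ((F k).r Y - (F k).eps * dd Y ((F k).mu b)) = 0 := by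
    intro i k hik a b
    have h1 : classInner ((F i).Phi a) ((F k).Phi b) = 0 := by
      rw [classInner, Finset.sum_eq_zero fun g _ => ?_, mul_zero]
      by_contra hne
      obtain ⟨hg1, x, hx⟩ := (F i).support a g (fun h => hne (by rw [h, zero_mul]))
      obtain ⟨-, y, hy⟩ := (F k).support b g (fun h => hne (by rw [h, map_zero, mul_zero]))
      have hx' : cl ⟨g, hg1⟩ = ⟨MulAut.conj x • R i, (hR i).conj x⟩ := (hcl _ _).2 (mem_conj_smul.2 hx)
      have hy' : cl ⟨g, hg1⟩ = ⟨MulAut.conj y • R k, (hR k).conj y⟩ := (hcl _ _).2 (mem_conj_smul.2 hy)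
      refine hik ?_
      rw [← Quotient.out_eq i, ← Quotient.out_eq k]
      refine (Quotient.sound (s := setd) (a := i.out) (b := cl ⟨g, hg1⟩) ?_).trans (Quotient.sound (s := setd) (a := cl ⟨g, hg1⟩) (b := k.out) ?_)
      · exact ⟨x, (congrArg Subtype.val hx').symm⟩
      · refine ⟨y⁻¹, ?_⟩
        rw [congrArg Subtype.val hy', conj_smul_conj, inv_mul_cancel, conj_one_smul]
    rw [(F i).expand, (F k).expand, inner_expand] at h1
    exact_mod_cast h1
  have hexpand : ∀ i k, i ≠ k → ∀ a b, ∑ Y, (F i).r Y * (F k).r Y - (F k).eps * (F i).r ((F k).mu b) -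
      (F i).eps * (F k).r ((F i).mu a) + (F i).eps * (F k).eps * dd ((F k).mu b) ((F i).mu a) = 0 := by
    intro i k hik a b
    have h := horth i k hik a b
    simp only [sub_mul, mul_sub, Finset.sum_sub_distrib] at h
    have e1 : ∑ Y, (F i).r Y * ((F k).eps * dd Y ((F k).mu b)) = (F k).eps * (F i).r ((F k).mu b) := by
      rw [← sum_mul_dd (fun Y => (F i).r Y) ((F k).mu b), Finset.mul_sum]
      exact Finset.sum_congr rfl fun Y _ => by ring
    have e2 : ∑ Y, (F i).eps * dd Y ((F i).mu a) * (F k).r Y = (F i).eps * (F k).r ((F i).mu a) := by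
      rw [← sum_mul_dd (fun Y => (F k).r Y) ((F i).mu a), Finset.mul_sum]
      exact Finset.sum_congr rfl fun Y _ => by ring
    have e3 : ∑ Y, (F i).eps * dd Y ((F i).mu a) * ((F k).eps * dd Y ((F k).mu b)) =
        (F i).eps * (F k).eps * dd ((F k).mu b) ((F i).mu a) := by
      rw [← sum_mul_dd (fun Y => dd Y ((F i).mu a)) ((F k).mu b), Finset.mul_sum]
      exact Finset.sum_congr rfl fun Y _ => by ring
    rw [e1, e2, e3] at h
    linear_combination h
  have hdisj : ∀ i k, i ≠ k → ∀ a b, (F i).mu a ≠ (F k).mu b := by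
    intro i k hik a b hab
    haveI : Nontrivial (Fin (F i).w) := Fin.nontrivial_iff_two_le.2 (F i).two_le
    haveI : Nontrivial (Fin (F k).w) := Fin.nontrivial_iff_two_le.2 (F k).two_le
    obtain ⟨a', ha'⟩ := exists_ne a
    obtain ⟨b', hb'⟩ := exists_ne b
    have h1 := hexpand i k hik a b
    have h2 := hexpand i k hik a' b
    have h3 := hexpand i k hik a b'
    have h4 := hexpand i k hik a' b'
    rw [show dd ((F k).mu b) ((F i).mu a) = 1 by rw [hab, dd_self]] at h1
    rw [show dd ((F k).mu b) ((F i).mu a') = 0 from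
      dd_ne (fun h => ha' ((F i).mu_inj (hab.trans h)).symm)] at h2
    rw [show dd ((F k).mu b') ((F i).mu a) = 0 from
      dd_ne (fun h => hb' ((F k).mu_inj (h.trans hab)))] at h3
    have h5 : (F i).eps * (F k).eps * (1 + dd ((F k).mu b') ((F i).mu a')) = 0 := by
      linear_combination h1 - h2 - h3 + h4
    have h6 : 0 ≤ dd ((F k).mu b') ((F i).mu a') := by
      by_cases h : (F k).mu b' = (F i).mu a'
      · rw [h, dd_self]; norm_num
      · rw [dd_ne h]
    rcases (F i).heps with hi | hi <;> rcases (F k).heps with hk | hk <;> rw [hi, hk] at h5 <;> omega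
  have hSodd : ∀ i k, Odd (∑ Y, (F i).r Y * (F k).r Y) := by
    intro i k
    rw [Int.odd_iff]
    have h2 : ((∑ Y, (F i).r Y * (F k).r Y : ℤ) : ZMod 2) = 1 := by
      rw [← Finset.add_sum_erase _ _ (Finset.mem_univ (oneChar : IrrCharacter G)), (F i).r_one, (F k).r_one]
      push_cast
      rw [add_eq_left]
      refine Finset.sum_involution (fun Y _ => irrConj Y) (fun Y _ => ?_) (fun Y hY _ h => ?_)
        (fun Y hY => ?_) (fun Y _ => irrConj_irrConj Y)
      · rw [(F i).r_conj, (F k).r_conj]; exact CharTwo.add_self_eq_zero _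
      · exact Finset.ne_of_mem_erase hY (Subtype.ext (irrConj_eq_self_iff_one hodd Y h))
      · refine Finset.mem_erase.2 ⟨fun h => Finset.ne_of_mem_erase hY ?_, Finset.mem_univ _⟩
        rw [← irrConj_irrConj Y, h]
        exact Subtype.ext (funext fun g => by simp [oneChar])
    rw [← Int.cast_one, ZMod.intCast_eq_intCast_iff'] at h2
    simpa using h2
  -- the family with smallest `e`
  haveI : Nonempty (Quotient setd) := by
    obtain ⟨x, hx⟩ := exists_ne (1 : G)
    exact ⟨Quotient.mk setd (cl ⟨x, hx⟩)⟩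
  obtain ⟨j, -, hjmin⟩ := Finset.exists_min_image (Finset.univ : Finset (Quotient setd)) e Finset.univ_nonempty
  let z0 : Fin (F j).w := ⟨0, by have := (F j).two_le; omega⟩
  let Y := (F j).mu z0
  let In : Finset (Quotient setd) := Finset.univ.filter fun i => i ≠ j ∧ ∀ a, Odd ((F j).r ((F i).mu a))
  have hout : ∀ i, i ≠ j → i ∉ In → (Nat.card (R i) : ℝ) - 1 ≤
      punctured (R i) (fun g => Complex.normSq ((Y : G → ℂ) g)) := by
    intro i hij hiIn
    refine (F i).bound_out Y (fun ⟨a, ha⟩ => hdisj i j hij a z0 ha) ?_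
    obtain ⟨a, ha⟩ : ∃ a, ¬ Odd ((F j).r ((F i).mu a)) := by
      by_contra hno
      push Not at hno
      exact hiIn (Finset.mem_filter.2 ⟨Finset.mem_univ _, hij, hno⟩)
    have h := hexpand i j hij a z0
    rw [dd_ne (Ne.symm (hdisj i j hij a z0)), mul_zero, add_zero] at h
    have hS := hSodd i j
    rw [Int.odd_iff] at hS
    rw [Int.not_odd_iff] at ha
    intro h0
    rw [show (F i).r ((F j).mu z0) = 0 from h0] at h
    rcases (F i).heps with h' | h' <;> rw [h'] at h <;> omega
  have hIn : ∑ i ∈ In, ((F i).w : ℤ) + 1 ≤ e j := by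
    obtain ⟨k, hk⟩ := (F j).own z0
    let J := In.biUnion fun i => Finset.univ.image (F i).mu
    have hJ : ∀ Z ∈ J, ∃ i ∈ In, ∃ a, (F i).mu a = Z := fun Z hZ => by
      obtain ⟨i, hi, hZ'⟩ := Finset.mem_biUnion.1 hZ
      obtain ⟨a, -, ha⟩ := Finset.mem_image.1 hZ'
      exact ⟨i, hi, a, ha⟩
    have hJcard : (J.card : ℤ) = ∑ i ∈ In, ((F i).w : ℤ) := by
      rw [Finset.card_biUnion]
      · push_cast
        refine Finset.sum_congr rfl fun i _ => ?_
        rw [Finset.card_image_of_injective _ (F i).mu_inj, Finset.card_univ, Fintype.card_fin]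
      · intro i _ i' _ hne
        rw [Function.onFun, Finset.disjoint_left]
        intro Z hZ hZ'
        obtain ⟨a, -, rfl⟩ := Finset.mem_image.1 hZ
        obtain ⟨a', -, ha'⟩ := Finset.mem_image.1 hZ'
        exact hdisj i' i hne.symm a' a ha'
    have hk1 : (F j).mu k ∉ J := fun h => by
      obtain ⟨i, hi, a, ha⟩ := hJ _ h
      exact hdisj i j (Finset.mem_filter.1 hi).2.1 a k ha
    have hone : oneChar ∉ insert ((F j).mu k) J := fun h => by
      rcases Finset.mem_insert.1 h with h | h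
      · exact (F j).mu_ne_one k h.symm
      · obtain ⟨i, -, a, ha⟩ := hJ _ h
        exact (F i).mu_ne_one a ha
    have hterm : ∀ Z ∈ insert oneChar (insert ((F j).mu k) J),
        (1 : ℤ) ≤ ((F j).r Z - (F j).eps * dd Z ((F j).mu z0)) ^ 2 := by
      intro Z hZ
      rw [pow_two]
      refine (zero_add (1 : ℤ)).symm.le.trans (Int.add_one_le_iff.2 (mul_self_pos.2 ?_))
      rcases Finset.mem_insert.1 hZ with rfl | hZ
      · rw [(F j).r_one, dd_ne (Ne.symm ((F j).mu_ne_one z0))]; simp
      rcases Finset.mem_insert.1 hZ with rfl | hZ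
      · exact hk
      obtain ⟨i, hi, a, rfl⟩ := hJ _ hZ
      rw [dd_ne (hdisj i j (Finset.mem_filter.1 hi).2.1 a z0), mul_zero, sub_zero]
      intro h0
      have := (Finset.mem_filter.1 hi).2.2 a
      rw [h0] at this
      exact absurd this (by simp)
    have h1 := Finset.card_nsmul_le_sum _ _ _ hterm
    have h2 := Finset.sum_le_univ_sum_of_nonneg (s := insert oneChar (insert ((F j).mu k) J))
      (f := fun Z => ((F j).r Z - (F j).eps * dd Z ((F j).mu z0)) ^ 2) (fun Z => sq_nonneg _)
    rw [(F j).norm_eq] at h2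
    rw [Finset.card_insert_of_notMem hone, Finset.card_insert_of_notMem hk1, nsmul_one] at h1
    push_cast at h1
    show ∑ i ∈ In, ((F i).w : ℤ) + 1 ≤ ((R j).relIndex (Subgroup.normalizer (R j : Set G)) : ℤ)
    omega
  -- the degree is at least two
  have hY2 : (4 : ℝ) ≤ Complex.normSq ((Y : G → ℂ) 1) := by
    rw [char_one_eq_deg (irr_isCharacter Y.2), Complex.normSq_natCast]
    have h1 := deg_pos Y.2
    have h2 : deg (Y : G → ℂ) ≠ 1 := by
      intro hd
      obtain ⟨l, hl⟩ := exists_hom_of_degree_one (irr_isCharacter Y.2)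
        (by rw [char_one_eq_deg (irr_isCharacter Y.2), hd, Nat.cast_one])
      refine (F j).mu_ne_one z0 (Subtype.ext ?_)
      funext g
      have hg : g ∈ l.ker := Abelianization.commutator_subset_ker l (hperf.ge (Subgroup.mem_top g))
      show (Y : G → ℂ) g = 1
      rw [hl]
      simp [MonoidHom.mem_ker.1 hg]
    have h3 : (2 : ℝ) ≤ deg (Y : G → ℂ) := by exact_mod_cast (show 2 ≤ deg (Y : G → ℂ) by omega)
    nlinarith
  -- the two countings
  have hG1 : (Nat.card G : ℝ) = 1 + ∑ o, (n o : ℝ) * ((Nat.card (R o) : ℝ) - 1) := by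
    have h := hsum (fun _ => 1) (fun _ _ => rfl)
    rw [Finset.sum_const, Finset.card_univ, nsmul_one, ← Nat.card_eq_fintype_card] at h
    rw [h]
    congr 1
    refine Finset.sum_congr rfl fun o _ => ?_
    congr 1
    rw [punctured, Finset.sum_boole]
    have h1 : Finset.univ.filter (fun g => g ∈ R o ∧ g ≠ 1) =
        (Finset.univ.filter (fun g => g ∈ R o)).erase 1 := by
      ext g; simp [and_comm]
    rw [h1, Finset.card_erase_of_mem (by simp), ← Fintype.card_subtype, ← Nat.card_eq_fintype_card]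
    rw [Nat.cast_sub Nat.card_pos, Nat.cast_one]
  have hG2 : (Nat.card G : ℝ) = Complex.normSq ((Y : G → ℂ) 1) +
      ∑ o, (n o : ℝ) * punctured (R o) (fun g => Complex.normSq ((Y : G → ℂ) g)) := by
    rw [← hsum (fun g => Complex.normSq ((Y : G → ℂ) g)) (fun g x => by
      simp only [isClassFunction_character (irr_isCharacter Y.2) g x])]
    have h := irr_self Y.2
    rw [classInner, inv_mul_eq_one₀ (Nat.cast_ne_zero.2 Nat.card_pos.ne')] at h
    apply Complex.ofReal_injective
    rw [Complex.ofReal_natCast, h, Complex.ofReal_sum]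
    exact Finset.sum_congr rfl fun g _ => Complex.mul_conj _
  have hpn : ∀ o, 0 ≤ (n o : ℝ) * punctured (R o) (fun g => Complex.normSq ((Y : G → ℂ) g)) := by
    intro o
    refine mul_nonneg (Nat.cast_nonneg _) (Finset.sum_nonneg fun g _ => ?_)
    split_ifs <;> [exact Complex.normSq_nonneg _; exact le_rfl]
  set D := Finset.univ.filter fun i => i ≠ j ∧ i ∉ In with hD
  have hjD : j ∉ D := by simp [hD]
  have hjIn : j ∉ In := fun h => (Finset.mem_filter.1 h).2.1 rfl
  have hpart : ∀ f : Quotient setd → ℝ, ∑ o, f o = f j + ∑ o ∈ In, f o + ∑ o ∈ D, f o := by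
    intro f
    rw [← Finset.sum_filter_add_sum_filter_not Finset.univ (fun i => i = j ∨ i ∈ In) f]
    congr 1
    · rw [show Finset.univ.filter (fun i => i = j ∨ i ∈ In) = insert j In by ext; simp,
        Finset.sum_insert hjIn]
    · congr 1; ext i; simp [hD]
  rw [hpart] at hG1 hG2
  have hD' : ∑ o ∈ D, (n o : ℝ) * ((Nat.card (R o) : ℝ) - 1) ≤
      ∑ o ∈ D, (n o : ℝ) * punctured (R o) (fun g => Complex.normSq ((Y : G → ℂ) g)) := by
    refine Finset.sum_le_sum fun o ho => ?_
    obtain ⟨h1, h2⟩ := (Finset.mem_filter.1 ho).2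
    exact mul_le_mul_of_nonneg_left (hout o h1 h2) (Nat.cast_nonneg _)
  have hInpos : 0 ≤ ∑ o ∈ In, (n o : ℝ) * punctured (R o) (fun g => Complex.normSq ((Y : G → ℂ) g)) :=
    Finset.sum_nonneg fun o _ => hpn o
  have he0 : ∀ o, 1 ≤ e o := fun o => Nat.one_le_iff_ne_zero.2 Subgroup.index_ne_zero_of_finite
  set ej : ℝ := (e j : ℝ) with hej
  have hej1 : 1 ≤ ej := by rw [hej]; exact_mod_cast he0 j
  set g : ℝ := (Nat.card G : ℝ) with hg
  have hg0 : 0 ≤ g := Nat.cast_nonneg _
  have hIn' : ∑ o ∈ In, (n o : ℝ) * ((Nat.card (R o) : ℝ) - 1) ≤ g * (ej - 1) / (2 * ej + 1) := by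
    have h1 : ∀ o, (n o : ℝ) * ((Nat.card (R o) : ℝ) - 1) ≤ g / (2 * ej + 1) * ((F o).w : ℝ) := by
      intro o
      have ha : (Nat.card (R o) : ℝ) = (F o).w * e o + 1 := by exact_mod_cast (F o).card_eq
      have hwo : (2 : ℝ) ≤ (F o).w := by exact_mod_cast (F o).two_le
      have heo : ej ≤ e o := by rw [hej]; exact_mod_cast hjmin o (Finset.mem_univ _)
      rw [div_mul_eq_mul_div, le_div_iff₀ (by linarith), ← hn o, ha, add_sub_cancel_right]
      have hno : (0 : ℝ) ≤ n o := Nat.cast_nonneg _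
      have : 2 * ej + 1 ≤ (F o).w * e o + 1 := by nlinarith
      nlinarith [mul_nonneg hno (mul_nonneg (show (0 : ℝ) ≤ (F o).w by linarith) (show (0 : ℝ) ≤ e o by linarith))]
    refine (Finset.sum_le_sum fun o _ => h1 o).trans ?_
    rw [← Finset.mul_sum, mul_div_right_comm]
    refine mul_le_mul_of_nonneg_left ?_ (div_nonneg hg0 (by linarith))
    have h3 : (((∑ i ∈ In, ((F i).w : ℤ)) + 1 : ℤ) : ℝ) ≤ ((e j : ℤ) : ℝ) := Int.cast_le.2 hIn
    push_cast at h3
    linarith
  have hjown : (n j : ℝ) * ((Nat.card (R j) : ℝ) * ej - ej ^ 2) ≤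
      (n j : ℝ) * punctured (R j) (fun g => Complex.normSq ((Y : G → ℂ) g)) :=
    mul_le_mul_of_nonneg_left ((F j).bound_own z0) (Nat.cast_nonneg _)
  have ha : (Nat.card (R j) : ℝ) = (F j).w * ej + 1 := by rw [hej]; exact_mod_cast (F j).card_eq
  have hgj : (n j : ℝ) * (((F j).w * ej + 1) * ej) = g := by rw [← ha, hej]; exact hn j
  rw [ha] at hG1 hjown
  have hwj : (2 : ℝ) ≤ (F j).w := by exact_mod_cast (F j).two_le
  have hkey : (n j : ℝ) * ((F j).w * ej + ej ^ 2) + g * (ej - 1) / (2 * ej + 1) ≤ g := by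
    rw [← sub_nonneg]
    have : g - ((n j : ℝ) * ((F j).w * ej + ej ^ 2) + g * (ej - 1) / (2 * ej + 1)) =
        (n j : ℝ) * ej * (((F j).w - 2) * (ej ^ 2 - 1)) / (2 * ej + 1) := by
      rw [← hgj]
      field_simp
      ring
    rw [this]
    refine div_nonneg (mul_nonneg (mul_nonneg (Nat.cast_nonneg _) (by linarith)) (mul_nonneg (by linarith) ?_)) (by linarith)
    nlinarith
  nlinarith

/-- Suzuki's CA theorem for odd order. -/
theorem isSolvable_of_odd : ∀ (n : ℕ) {H : Type*} [Group H] [Finite H], Nat.card H = n → Odd (Nat.card H) →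
    (∀ x : H, x ≠ 1 → ∀ a ∈ Subgroup.centralizer ({x} : Set H),
      ∀ b ∈ Subgroup.centralizer ({x} : Set H), a * b = b * a) → Group.IsSolvable H := by
  intro n
  induction n using Nat.strong_induction_on with
  | _ n ih =>
    intro H _ _ hn hodd hCA
    haveI := Fintype.ofFinite H
    by_cases hperf : commutator H = ⊤
    · haveI := subsingleton_of_perfect hodd hperf hCA
      infer_instance
    · refine isSolvable_of_normal_quotient (commutator H) ?_ ?_
      · refine ih (Nat.card (commutator H)) ?_ rfl (hodd.of_dvd_nat (Subgroup.card_subgroup_dvd_card _)) ?_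
        · rw [← hn]; exact card_lt_of_ne_top hperf
        · intro x hx a ha b hb
          rw [Subgroup.mem_centralizer_singleton_iff] at ha hb
          refine Subtype.ext (hCA (x : H) (fun h => hx (Subtype.ext h)) a ?_ b ?_)
          · exact Subgroup.mem_centralizer_singleton_iff.2 (congrArg Subtype.val ha)
          · exact Subgroup.mem_centralizer_singleton_iff.2 (congrArg Subtype.val hb)
      · exact isSolvable_of_comm (fun a b => mul_comm (G := Abelianization H) a b)

end Cfsg.Agent.Solv.SuzukiCA
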