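import Cfsg.Agent.Lib.Lie.SuborbitKernels

/-!
A primitive group in which the two point stabiliser induces on the suborbit a group with trivial
Fitting subgroup: the two point stabiliser then has trivial Fitting subgroup.
-/

set_option autoImplicit false
set_option linter.style.haveILetI false
open MulAction
open scoped Pointwise

namespace Cfsg.Agent.Solv.ArcFit

open Cfsg.Agent.Lie.TW

universe u v

variable {G : Type u} {Ω : Type v} [Group G] [MulAction G Ω] [Finite G]

theorem pc_conj_mem {r : ℕ} (D : Subgroup G) (k : G) {E : Subgroup G}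
    (hE : ∀ x, x ∈ E ↔ k⁻¹ * x * k ∈ D) {x : G} (hx : x ∈ pc r D) : k * x * k⁻¹ ∈ pc r E := by
  let e : D ≃* E :=
    { toFun := fun y => ⟨k * y * k⁻¹, (hE _).2 (by simpa [mul_assoc] using y.2)⟩
      invFun := fun y => ⟨k⁻¹ * y * k, (hE _).1 y.2⟩
      left_inv := fun y => Subtype.ext (by simp [mul_assoc])
      right_inv := fun y => Subtype.ext (by simp [mul_assoc])
      map_mul' := fun y z => Subtype.ext (by simp [mul_assoc]) }
  obtain ⟨y, hy, rfl⟩ := hx
  have key : (Cfsg.pCore r D).map e.toMonoidHom ≤ Cfsg.pCore r E := by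
    rw [Cfsg.pCore, sSup_eq_iSup, Subgroup.map_iSup]
    refine iSup_le fun N => ?_
    rw [Subgroup.map_iSup]
    exact iSup_le fun hN => le_sSup ⟨hN.1.map _ e.surjective, hN.2.map _⟩
  exact ⟨e y, key ⟨y, hy, rfl⟩, rfl⟩

/-- A normal `r`-subgroup of the two point stabiliser fixes the suborbit pointwise. -/
theorem le_K₁ (a b : Ω)
    (hF : Cfsg.fittingSubgroup ↥(((stabilizer G b).subgroupOf (stabilizer G a)).map (toPermHom (stabilizer G a) (orbit (stabilizer G a) b))) = ⊥)
    [Finite Ω] {r : ℕ} [Fact r.Prime] : pc r (stabilizer G a ⊓ stabilizer G b) ≤ K₁ a b := by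
  set D : Subgroup G := stabilizer G a ⊓ stabilizer G b with hD
  set f := toPermHom (stabilizer G a) (orbit (stabilizer G a) b) with hf
  set X := ((stabilizer G b).subgroupOf (stabilizer G a)).map f with hX
  set Y := ((pc r D).subgroupOf (stabilizer G a)).map f with hY
  have hYH : pc r D ≤ stabilizer G a := (pc_le r D).trans inf_le_left
  have hYX : Y ≤ X := Subgroup.map_mono fun x hx => ((pc_le r D) hx).2
  haveI : (Y.subgroupOf X).Normal := by
    refine ⟨fun y hy x => ?_⟩
    obtain ⟨y₀, hy₀, hye⟩ := (show (y : Equiv.Perm _) ∈ Y from hy)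
    obtain ⟨x₀, hx₀, hxe⟩ := x.2
    refine ⟨x₀ * y₀ * x₀⁻¹, ?_, ?_⟩
    · show (x₀ : G) * y₀ * (x₀ : G)⁻¹ ∈ pc r D
      exact conj_mem_of_normalizer (pc_normal r D (show (x₀ : G) ∈ D from ⟨x₀.2, hx₀⟩)) hy₀
    · rw [map_mul, map_mul, map_inv, hye, hxe]; rfl
  have hp : IsPGroup r (Y.subgroupOf X) :=
    (((pc_isPGroup r D).comap_of_injective _ (stabilizer G a).subtype_injective).map f).comap_of_injective _ X.subtype_injective
  have hbot : Y.subgroupOf X = ⊥ := le_bot_iff.1 (hF ▸ Solv.normal_le_fitting hp.isNilpotent)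
  intro x hx
  have hfx : f ⟨x, hYH hx⟩ = 1 := by
    have hm : f ⟨x, hYH hx⟩ ∈ Y := ⟨_, hx, rfl⟩
    have : (⟨_, hYX hm⟩ : X) ∈ Y.subgroupOf X := hm
    rw [hbot, Subgroup.mem_bot] at this
    exact congrArg Subtype.val this
  rw [mem_K₁]
  refine ⟨hYH hx, fun h hh => ?_⟩
  exact congrArg Subtype.val (Equiv.congr_fun hfx ⟨h • b, ⟨⟨h, hh⟩, rfl⟩⟩)

variable [Finite Ω] [FaithfulSMul G Ω]

/-- The two point stabiliser has no normal `r`-subgroup. -/
theorem pc_ar_eq_bot (hprim : IsPreprimitive G Ω) (a b : Ω) (h2 : 2 ≤ Nat.card (orbit (stabilizer G a) b))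
    (hF : Cfsg.fittingSubgroup ↥(((stabilizer G b).subgroupOf (stabilizer G a)).map (toPermHom (stabilizer G a) (orbit (stabilizer G a) b))) = ⊥)
    (r : ℕ) [Fact r.Prime] : pc r (stabilizer G a ⊓ stabilizer G b) = ⊥ := by
  haveI := hprim.toIsPretransitive
  have c := cfg hprim a b h2
  set H := stabilizer G a with hH
  set K := stabilizer G b with hK
  set U := pc r (H ⊓ K) with hU
  have hUA : U ≤ K₁ a b := le_K₁ a b hF
  have hAD : K₁ a b ≤ H ⊓ K := c.A_le
  -- `U` is the `r`-core of the first kernel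
  have hUeq : U = pc r (K₁ a b) := by
    refine le_antisymm (le_pc_of_normal hUA (hAD.trans (pc_normal r _)) (pc_isPGroup r _)) ?_
    refine le_pc_of_snIn ((snIn_of_normal hAD (fun d hd => c.A_norm hd.1)).trans
      (snIn_of_normal (pc_le r _) (pc_normal r _))) (pc_isPGroup r _)
  have hUH : H ≤ Subgroup.normalizer (U : Set G) := by
    intro h hh
    refine mem_normalizer_of_conj fun x hx => ?_
    rw [hUeq] at hx ⊢
    refine pc_conj_mem (K₁ a b) h (fun y => ⟨fun hy => ?_, fun hy => ?_⟩) hx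
    · have := conj_mem_of_normalizer (c.A_norm (inv_mem hh)) hy
      rwa [inv_inv] at this
    · have := conj_mem_of_normalizer (c.A_norm hh) hy
      simpa [mul_assoc] using this
  obtain ⟨g, hg⟩ := exists_smul_eq G a b
  set V := U.map (MulAut.conj g).toMonoidHom with hV
  have hVK : K ≤ Subgroup.normalizer (V : Set G) := by
    intro k hk
    refine mem_normalizer_of_conj fun x hx => ?_
    obtain ⟨u, hu, rfl⟩ := hx
    have hm : g⁻¹ * k * g ∈ H := by
      rw [hH, mem_stabilizer_iff, mul_smul, mul_smul, hg, mem_stabilizer_iff.1 hk, ← hg, inv_smul_smul]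
    refine ⟨(g⁻¹ * k * g) * u * (g⁻¹ * k * g)⁻¹, conj_mem_of_normalizer (hUH hm) hu, ?_⟩
    simp [mul_assoc]
  have hVleK : V ≤ K := by
    rintro _ ⟨u, hu, rfl⟩
    show g * u * g⁻¹ ∈ stabilizer G b
    rw [mem_stabilizer_iff, mul_smul, mul_smul, ← hg, inv_smul_smul, mem_stabilizer_iff.1 ((hAD (hUA hu)).1)]
  have hVp : IsPGroup r V := (pc_isPGroup r _).map _
  have hVU : V ⊓ H ≤ U := by
    refine le_pc_of_normal (le_inf inf_le_right (inf_le_left.trans hVleK)) (fun d hd => ?_) (hVp.to_le inf_le_left)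
    exact mem_normalizer_of_conj fun x hx =>
      ⟨conj_mem_of_normalizer (hVK hd.2) hx.1, H.mul_mem (H.mul_mem hd.1 hx.2) (H.inv_mem hd.1)⟩
  by_contra hne
  have hUleH : U ≤ H := (pc_le r _).trans inf_le_left
  have hN : Subgroup.normalizer (U : Set G) = H := c.normH U hne hUleH hUH
  have hUV : U ≤ Subgroup.normalizer (V : Set G) := ((pc_le r _).trans inf_le_right).trans hVK
  have hS := (pc_isPGroup r (H ⊓ K)).to_sup_of_normal_right' hVp hUV
  have htop : U.subgroupOf (U ⊔ V) = ⊤ := by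
    by_contra hlt
    haveI := hS.isNilpotent
    obtain ⟨⟨x, hxS⟩, hxN, hxU⟩ :=
      SetLike.exists_of_lt (Group.normalizerCondition_of_isNilpotent _ (lt_top_iff_ne_top.2 hlt))
    apply hxU
    show x ∈ U
    have hxH : x ∈ H := by
      rw [← hN]
      exact mem_normalizer_of_conj fun y hy =>
        (Subgroup.mem_normalizer_iff.1 hxN ⟨y, Subgroup.mem_sup_left hy⟩).1 hy
    have hx' : x ∈ ((U : Set G) * (V : Set G)) := by
      rw [← Subgroup.coe_mul_of_left_le_normalizer_right _ _ hUV]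
      exact hxS
    obtain ⟨u, hu, w, hw, rfl⟩ := hx'
    have hwH : w ∈ H := by
      have := H.mul_mem (H.inv_mem (hUleH hu)) hxH
      simpa using this
    exact mul_mem hu (hVU ⟨hw, hwH⟩)
  have hle : V ≤ U := fun x hx => by
    have : (⟨x, Subgroup.mem_sup_right hx⟩ : (U ⊔ V : Subgroup G)) ∈ U.subgroupOf (U ⊔ V) :=
      htop ▸ Subgroup.mem_top _
    exact this
  have he : V = U := Subgroup.eq_of_le_of_card_ge hle
    (Nat.card_congr (U.equivMapOfInjective _ (MulAut.conj g).injective).toEquiv).le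
  exact hne (c.eq_bot hUleH ((pc_le r _).trans inf_le_right) hUH (he ▸ hVK))

/-- The stabiliser is bounded in this situation. -/
theorem main (hprim : IsPreprimitive G Ω) (a b : Ω) (d : ℕ) (hd : Nat.card (orbit (stabilizer G a) b) = d) (h2 : 2 ≤ d)
    (hF : Cfsg.fittingSubgroup ↥(((stabilizer G b).subgroupOf (stabilizer G a)).map (toPermHom (stabilizer G a) (orbit (stabilizer G a) b))) = ⊥) :
    Cfsg.fittingSubgroup ↥(stabilizer G a ⊓ stabilizer G b : Subgroup G) = ⊥ ∧
      Nat.card (stabilizer G a) ∣ d.factorial * ((d - 1).factorial) ^ d := by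
  have h2' : 2 ≤ Nat.card (orbit (stabilizer G a) b) := hd ▸ h2
  refine ⟨?_, card_dvd_of_bot hprim a b d hd ?_⟩
  · rw [Solv.fitting_eq_iSup_pCore]
    refine le_bot_iff.1 (iSup_le fun q => ?_)
    haveI := Fact.mk q.2
    exact ((Subgroup.map_eq_bot_iff_of_injective _ (Subgroup.subtype_injective _)).1 (pc_ar_eq_bot hprim a b h2' hF q)).le
  · by_contra h
    push Not at h
    have c := cfg hprim a b h2'
    obtain ⟨p, hp, hor, -⟩ := Cfsg.Agent.Lie.TW.main c h.1 h.2
    haveI := Fact.mk hp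
    have hb := pc_ar_eq_bot hprim a b h2' hF p
    rcases hor with hp' | hp'
    · exact h.1 (le_bot_iff.1 (hb ▸ le_pc_of_normal ((c.A₂_le.trans inf_le_left).trans c.A_le) (inf_le_left.trans c.A₂_norm) hp'))
    · exact h.2 (le_bot_iff.1 (hb ▸ le_pc_of_normal ((c.B₂_le.trans inf_le_left).trans c.A_le) (inf_le_right.trans c.B₂_norm) hp'))

end Cfsg.Agent.Solv.ArcFit
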