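import Mathlib
import Cfsg.Agent.Lib.Solv.Basic
import Cfsg.Agent.Lib.Solv.PGroupPhi
import Cfsg.Agent.Lib.Fusion.NPC

/-!
Groups in which every non-abelian subgroup is self-normalizing: normal subgroups, Sylow subgroups.
-/

set_option autoImplicit false
set_option linter.style.haveILetI false

open scoped Pointwise commutatorElement

namespace Cfsg.Agent.Solv.SelfNorm

universe u

/-- Elementwise commutativity. -/
def Ab {G : Type*} [Group G] (H : Subgroup G) : Prop := ∀ a ∈ H, ∀ b ∈ H, a * b = b * a

/-- Every non-abelian subgroup is self-normalizing. -/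
def SN (G : Type*) [Group G] : Prop :=
  ∀ H : Subgroup G, ¬ Ab H → Subgroup.normalizer (H : Set G) = H

variable {G : Type u} [Group G]

theorem ab_iff (H : Subgroup G) : Ab H ↔ IsMulCommutative H :=
  ⟨fun h => ⟨⟨fun a b => Subtype.ext (h a a.2 b b.2)⟩⟩,
    fun h a ha b hb => congrArg Subtype.val (h.is_comm.comm ⟨a, ha⟩ ⟨b, hb⟩)⟩

theorem Ab.mono {H K : Subgroup G} (h : Ab K) (hle : H ≤ K) : Ab H :=
  fun a ha b hb => h a (hle ha) b (hle hb)

theorem Ab.top_of_subsingleton [Subsingleton G] (H : Subgroup G) : Ab H :=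
  fun _ _ _ _ => Subsingleton.elim _ _

theorem ab_of_isCyclic (H : Subgroup G) [IsCyclic H] : Ab H :=
  fun a ha b hb => congrArg Subtype.val ((IsCyclic.commGroup (α := H)).mul_comm ⟨a, ha⟩ ⟨b, hb⟩)

theorem SN.eq_of_normal (hG : SN G) {H L : Subgroup G} (hH : ¬ Ab H) (hle : H ≤ L)
    (hn : L ≤ Subgroup.normalizer (H : Set G)) : H = L :=
  le_antisymm hle (hn.trans (hG H hH).le)

theorem SN.ab_of_normal (hG : SN G) {H L : Subgroup G} (hne : H ≠ L) (hle : H ≤ L)
    (hn : L ≤ Subgroup.normalizer (H : Set G)) : Ab H := by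
  by_contra h
  exact hne (hG.eq_of_normal h hle hn)

theorem SN.ab_normal (hG : SN G) {N : Subgroup G} [N.Normal] (hne : N ≠ ⊤) : Ab N :=
  hG.ab_of_normal hne le_top (by rw [Subgroup.normalizer_eq_top])

theorem mem_normalizer_map {H : Type*} [Group H] (f : H →* G) {K : Subgroup H} {x : H}
    (hx : x ∈ Subgroup.normalizer (K : Set H)) :
    f x ∈ Subgroup.normalizer ((K.map f : Subgroup G) : Set G) := by
  rw [Subgroup.mem_normalizer_iff] at hx ⊢
  intro h
  constructor
  · rintro ⟨k, hk, rfl⟩
    exact ⟨x * k * x⁻¹, (hx k).1 hk, by simp⟩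
  · rintro ⟨k, hk, hkx⟩
    refine ⟨x⁻¹ * k * x, (hx _).2 (by simpa [mul_assoc] using hk), ?_⟩
    rw [map_mul, map_mul, map_inv, hkx]
    group

theorem SN.sub (hG : SN G) (L : Subgroup G) : SN L := by
  intro H hH
  refine le_antisymm (fun x hx => ?_) Subgroup.le_normalizer
  have h1 : ¬ Ab (H.map L.subtype) := fun h => hH fun a ha b hb =>
    Subtype.ext (h _ (Subgroup.mem_map_of_mem _ ha) _ (Subgroup.mem_map_of_mem _ hb))
  have h2 := mem_normalizer_map L.subtype hx
  rw [hG _ h1] at h2
  obtain ⟨y, hy, hyx⟩ := h2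
  rwa [← Subtype.ext hyx]

theorem SN.quot (hG : SN G) (N : Subgroup G) [N.Normal] : SN (G ⧸ N) := by
  intro H hH
  refine le_antisymm (fun x hx => ?_) Subgroup.le_normalizer
  obtain ⟨y, rfl⟩ := QuotientGroup.mk'_surjective N x
  have h1 : ¬ Ab (H.comap (QuotientGroup.mk' N)) := fun h => hH fun a ha b hb => by
    obtain ⟨a, rfl⟩ := QuotientGroup.mk'_surjective N a
    obtain ⟨b, rfl⟩ := QuotientGroup.mk'_surjective N b
    rw [← map_mul, ← map_mul, h a ha b hb]
  have h2 : y ∈ Subgroup.normalizer ((H.comap (QuotientGroup.mk' N) : Subgroup G) : Set G) := by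
    rw [Subgroup.mem_normalizer_iff] at hx ⊢
    intro h
    rw [Subgroup.mem_comap, Subgroup.mem_comap, hx, map_mul, map_mul, map_inv]
  rw [hG _ h1] at h2
  exact h2

variable [Finite G]

theorem coatom_over_commutator (h : commutator G ≠ ⊤) :
    ∃ M : Subgroup G, M.Normal ∧ commutator G ≤ M ∧ M.index.Prime := by
  obtain ⟨M, hM, hle⟩ := (eq_top_or_exists_le_coatom (commutator G)).resolve_left h
  haveI hn : M.Normal := Subgroup.Normal.of_commutator_le _ hle
  refine ⟨M, hn, hle, ?_⟩
  haveI : IsMulCommutative (G ⧸ M) := ⟨⟨fun a b => by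
    obtain ⟨a, rfl⟩ := QuotientGroup.mk'_surjective M a
    obtain ⟨b, rfl⟩ := QuotientGroup.mk'_surjective M b
    rw [← map_mul, ← map_mul]
    refine QuotientGroup.eq.2 (hle ?_)
    rw [show (a * b)⁻¹ * (b * a) = ⁅b⁻¹, a⁻¹⁆ by rw [_root_.commutatorElement_def]; group]
    exact Subgroup.commutator_mem_commutator (Subgroup.mem_top _) (Subgroup.mem_top _)⟩⟩
  letI : CommGroup (G ⧸ M) :=
    { (inferInstance : Group (G ⧸ M)) with mul_comm := mul_comm' }
  haveI : Nontrivial (G ⧸ M) := QuotientGroup.nontrivial_iff.2 hM.1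
  haveI : IsSimpleGroup (G ⧸ M) := ⟨fun K _ => by
    rcases hM.le_iff.1 (show M ≤ K.comap (QuotientGroup.mk' M) from fun x hx => by
      rw [Subgroup.mem_comap, show QuotientGroup.mk' M x = 1 from (QuotientGroup.eq_one_iff x).2 hx]
      exact one_mem K) with e | e
    · right
      rw [← Subgroup.map_comap_eq_self_of_surjective (QuotientGroup.mk'_surjective M) K, e,
        ← MonoidHom.range_eq_map, MonoidHom.range_eq_top.2 (QuotientGroup.mk'_surjective M)]
    · left
      rw [← Subgroup.map_comap_eq_self_of_surjective (QuotientGroup.mk'_surjective M) K, e,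
        QuotientGroup.map_mk'_self]⟩
  exact Subgroup.index_eq_card M ▸ IsSimpleGroup.prime_card

/-- Elements of order prime to the index of a normal subgroup lie in it. -/
theorem mem_of_coprime_index {M : Subgroup G} [M.Normal] {x : G}
    (h : (orderOf x).Coprime M.index) : x ∈ M := by
  rw [← QuotientGroup.eq_one_iff, ← orderOf_eq_one_iff]
  exact Nat.eq_one_of_dvd_coprimes h (orderOf_map_dvd (QuotientGroup.mk' M) x)
    (M.index_eq_card ▸ orderOf_dvd_natCard _)

omit [Finite G] in
theorem mem_center_of_two {M₁ M₂ : Subgroup G} [M₁.Normal] (h : M₁ ⊔ M₂ = ⊤) (hM₁ : Ab M₁)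
    (hM₂ : Ab M₂) {x : G} (h1 : x ∈ M₁) (h2 : x ∈ M₂) : x ∈ Subgroup.center G := by
  rw [Subgroup.mem_center_iff]
  intro g
  obtain ⟨a, ha, b, hb, rfl⟩ := Subgroup.mem_sup_of_normal_left.1 (h ▸ Subgroup.mem_top g)
  rw [mul_assoc, hM₂ b hb x h2, ← mul_assoc, hM₁ a ha x h1, mul_assoc]

variable {p : ℕ} [hp : Fact p.Prime]

/-- A nonabelian `p`-group with the property has a central subgroup of index at most `p ^ 2`. -/
theorem center_index (hP : IsPGroup p G) (hG : SN G) (hna : ¬ Ab (⊤ : Subgroup G)) :
    ∃ K : Subgroup G, K ≤ Subgroup.center G ∧ K.index ≤ p ^ 2 ∧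
      ∀ T : Subgroup G, T ≠ ⊤ → Ab T := by
  have hco : ∀ M : Subgroup G, IsCoatom M → Ab M := fun M hM => by
    haveI := coatom_normal hP hM
    exact hG.ab_normal hM.1
  have hprop : ∀ T : Subgroup G, T ≠ ⊤ → Ab T := fun T hT => by
    obtain ⟨M, hM, hle⟩ := (eq_top_or_exists_le_coatom T).resolve_left hT
    exact (hco M hM).mono hle
  haveI : Nontrivial G := by
    by_contra h
    haveI := not_nontrivial_iff_subsingleton.1 h
    exact hna (Ab.top_of_subsingleton _)
  obtain ⟨M₁, hM₁, -⟩ := (eq_top_or_exists_le_coatom (⊥ : Subgroup G)).resolve_left bot_ne_top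
  obtain ⟨x, -, hx⟩ := SetLike.exists_of_lt (lt_top_iff_ne_top.2 hM₁.1)
  have hzx : Subgroup.zpowers x ≠ ⊤ := fun h => hna (by
    rw [← h]; exact ab_of_isCyclic _)
  obtain ⟨M₂, hM₂, hle⟩ := (eq_top_or_exists_le_coatom _).resolve_left hzx
  have hne : M₁ ≠ M₂ := fun e => hx (e ▸ hle (Subgroup.mem_zpowers x))
  haveI := coatom_normal hP hM₁
  refine ⟨M₁ ⊓ M₂, fun y hy => mem_center_of_two ((hM₁.lt_iff).1 ?_) (hco _ hM₁) (hco _ hM₂)
    hy.1 hy.2, ?_, hprop⟩
  · refine lt_of_le_of_ne le_sup_left fun e => ?_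
    exact hne ((hM₂.le_iff.1 (le_sup_right.trans_eq e.symm)).resolve_left hM₁.1)
  · refine Subgroup.index_inf_le.trans (le_of_eq ?_)
    rw [coatom_index hP hM₁, coatom_index hP hM₂, pow_two]

omit [Finite G] in
theorem false_of_perfect_cyclic_sylow [Finite G] (hperf : commutator G = ⊤)
    (P : Sylow 2 G) (hP : Nat.card P ≤ 2) : ¬ 2 ∣ Nat.card G := by
  intro h2
  haveI : Fact (Nat.Prime 2) := ⟨Nat.prime_two⟩
  have hP2 : Nat.card P = 2 := le_antisymm hP (Nat.le_of_dvd Nat.card_pos (P.dvd_card_of_dvd_card h2))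
  have hc : IsCyclic P := isCyclic_of_prime_card hP2
  have hmin : (Nat.card G).minFac = 2 := le_antisymm (Nat.minFac_le_of_dvd le_rfl h2)
    (Nat.minFac_prime (fun h1 => by rw [h1] at h2; norm_num at h2)).two_le
  have hK := IsCyclic.isComplement' hmin hc
  set W := (MonoidHom.transferSylow P (hc.normalizer_le_centralizer hmin)).ker
  have hidx : W.index = 2 := hK.symm.index_eq_card.trans hP2
  haveI : IsCyclic (G ⧸ W) :=
    isCyclic_of_prime_card (p := 2) (by rw [← Subgroup.index_eq_card, hidx])
  have hle : commutator G ≤ W := by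
    rw [_root_.commutator_def, Subgroup.commutator_le]
    intro a _ b _
    rw [← QuotientGroup.eq_one_iff]
    show QuotientGroup.mk' W ⁅a, b⁆ = 1
    rw [_root_.commutatorElement_def, map_mul, map_mul, map_mul, map_inv, map_inv,
      (IsCyclic.commGroup (α := G ⧸ W)).mul_comm (QuotientGroup.mk' W a), mul_inv_cancel_right,
      mul_inv_cancel]
  rw [hperf, top_le_iff] at hle
  rw [hle, Subgroup.index_top] at hidx
  omega

variable [IsSimpleGroup G]

theorem not_pgroup (hna : ¬ Ab (⊤ : Subgroup G)) : ¬ IsPGroup p G := by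
  intro h
  haveI := h.center_nontrivial
  rcases IsSimpleGroup.eq_bot_or_eq_top_of_normal (Subgroup.center G) inferInstance with e | e
  · exact Subgroup.nontrivial_iff_ne_bot _ |>.1 inferInstance e
  · exact hna fun a _ b _ => Subgroup.mem_center_iff.1 (e ▸ Subgroup.mem_top b) a

theorem no_complement (hna : ¬ Ab (⊤ : Subgroup G)) (hd : p ∣ Nat.card G) :
    ¬ HasNormalPComplement p G := by
  rintro ⟨P, N, hN, hc⟩
  rcases IsSimpleGroup.eq_bot_or_eq_top_of_normal N hN with e | e
  · subst e
    exact not_pgroup (p := p) hna fun g => by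
      have := P.isPGroup' ⟨g, (Subgroup.isComplement'_bot_left.1 hc) ▸ Subgroup.mem_top g⟩
      obtain ⟨k, hk⟩ := this
      exact ⟨k, congrArg Subtype.val hk⟩
  · subst e
    have h1 := P.dvd_card_of_dvd_card hd
    rw [show (P : Subgroup G) = ⊥ from Subgroup.isComplement'_top_left.1 hc, Subgroup.card_bot,
      Nat.dvd_one] at h1
    exact hp.out.ne_one h1

theorem exists_noncentralizer (hna : ¬ Ab (⊤ : Subgroup G)) (hd : p ∣ Nat.card G) :
    ∃ (Q : Subgroup G), IsPGroup p Q ∧ ∃ g ∈ Subgroup.normalizer (Q : Set G),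
      (orderOf g).Coprime p ∧ g ∉ Subgroup.centralizer (Q : Set G) := by
  obtain ⟨P⟩ : Nonempty (Sylow p G) := inferInstance
  by_contra! hall
  exact no_complement hna hd (Fusion.hnpc_of_centralize (Fusion.sylIn_top P) fun Q hQ g hg hgp =>
    hall Q (P.isPGroup'.to_le hQ) g hg hgp)

/-- The Sylow subgroups are abelian, for `p = 2` or if the proper subgroups are solvable. -/
theorem sylow_ab (hG : SN G) (hna : ¬ Ab (⊤ : Subgroup G))
    (hp2 : p = 2 ∨ ∀ L : Subgroup G, L ≠ ⊤ → Group.IsSolvable L) (P : Sylow p G) :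
    Ab (P : Subgroup G) := by
  by_contra hPna
  have hall : ∀ R : Sylow p G, ¬ Ab (R : Subgroup G) := fun R h => hPna fun a ha b hb => by
    have e := P.equiv R
    exact congrArg Subtype.val (e.injective (a₁ := (⟨a, ha⟩ : (P : Subgroup G)) * ⟨b, hb⟩)
      (a₂ := ⟨b, hb⟩ * ⟨a, ha⟩) (by
        rw [map_mul, map_mul]
        exact Subtype.ext (h _ (e ⟨a, ha⟩).2 _ (e ⟨b, hb⟩).2)))
  have hnaR : ∀ R : Sylow p G, ¬ Ab (⊤ : Subgroup (R : Subgroup G)) := fun R h =>
    hall R fun a ha b hb =>
      congrArg Subtype.val (h ⟨a, ha⟩ (Subgroup.mem_top _) ⟨b, hb⟩ (Subgroup.mem_top _))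
  have hd : p ∣ Nat.card G := by
    obtain ⟨k, hk⟩ := IsPGroup.iff_card.1 P.isPGroup'
    rcases Nat.eq_zero_or_pos k with rfl | hk0
    · exfalso
      haveI : Subsingleton (P : Subgroup G) :=
        Finite.card_le_one_iff_subsingleton.1 (by rw [hk, pow_zero])
      exact hnaR P (Ab.top_of_subsingleton _)
    · exact (hk ▸ dvd_pow_self p hk0.ne').trans (Subgroup.card_subgroup_dvd_card _)
  obtain ⟨Q₀, hQ₀⟩ := exists_noncentralizer hna hd
  obtain ⟨Q, -, ⟨hQp, g, hgN, hgo, hgC⟩, hmax⟩ := Finite.exists_le_maximal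
    (p := fun Q : Subgroup G => IsPGroup p Q ∧ ∃ g ∈ Subgroup.normalizer (Q : Set G),
      (orderOf g).Coprime p ∧ g ∉ Subgroup.centralizer (Q : Set G)) hQ₀
  set L := Subgroup.normalizer (Q : Set G) with hL
  obtain ⟨T⟩ : Nonempty (Sylow p L) := inferInstance
  set TG := (T : Subgroup L).map L.subtype with hTG
  have hTp : IsPGroup p TG := T.isPGroup'.map _
  obtain ⟨R, hR⟩ := hTp.exists_le_sylow
  have hQT : Q ≤ TG := by
    intro x hx
    haveI : (Q.subgroupOf L).Normal := Subgroup.normal_in_normalizer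
    have h1 : Q.subgroupOf L ≤ (T : Subgroup L) :=
      le_sup_right.trans (T.is_maximal' (IsPGroup.to_sup_of_normal_right T.isPGroup'
        (hQp.of_equiv (Subgroup.subgroupOfEquivOfLe Subgroup.le_normalizer).symm)) le_sup_left).le
    exact ⟨⟨x, Subgroup.le_normalizer hx⟩, h1 hx, rfl⟩
  obtain ⟨K, hK, hKi, hprop⟩ := center_index R.isPGroup' (hG.sub _) (hnaR R)
  have hproper : ∀ H : Subgroup G, H ≤ R → H ≠ R → Ab H := fun H hH hne a ha b hb =>
    congrArg Subtype.val (hprop (H.subgroupOf R) (fun h => hne (le_antisymm hH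
      (Subgroup.subgroupOf_eq_top.1 h))) ⟨a, hH ha⟩ ha ⟨b, hH hb⟩ hb)
  have hQR : Q ≠ R := by
    intro e
    subst e
    have hg1 : g ∈ (R : Subgroup G) := hG _ (hall R) ▸ hgN
    obtain ⟨k, hk⟩ := IsPGroup.iff_orderOf.1 R.isPGroup' ⟨g, hg1⟩
    rw [Subgroup.orderOf_mk] at hk
    have : g = 1 := orderOf_eq_one_iff.1
      (Nat.eq_one_of_dvd_coprimes (hgo.pow_right k) dvd_rfl hk.dvd)
    exact hgC (this ▸ one_mem _)
  set C := Subgroup.centralizer (Q : Set G) with hC
  have hCL : C ≤ L := Subgroup.centralizer_le_normalizer _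
  have hLC : L ≤ Subgroup.normalizer (C : Set G) := by
    intro x hx
    rw [Subgroup.mem_normalizer_iff]
    intro y
    constructor <;> intro hy <;> rw [hC, Subgroup.mem_centralizer_iff] at hy ⊢ <;> intro q hq
    · have h2 : x⁻¹ * q * x ∈ Q := (Subgroup.mem_normalizer_iff.1 hx _).2 (by simpa [mul_assoc] using hq)
      have h3 := hy _ h2
      calc q * (x * y * x⁻¹) = x * ((x⁻¹ * q * x) * y) * x⁻¹ := by group
        _ = x * (y * (x⁻¹ * q * x)) * x⁻¹ := by rw [h3]
        _ = x * y * x⁻¹ * q := by group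
    · have h2 : x * q * x⁻¹ ∈ Q := (Subgroup.mem_normalizer_iff.1 hx q).1 hq
      have h3 := hy _ h2
      calc q * y = x⁻¹ * ((x * q * x⁻¹) * (x * y * x⁻¹)) * x := by group
        _ = x⁻¹ * ((x * y * x⁻¹) * (x * q * x⁻¹)) * x := by rw [h3]
        _ = y * q := by group
  have hCab : Ab C := hG.ab_of_normal (fun e => hgC (e ▸ hgN)) hCL hLC
  by_cases hT : TG = R
  · have hRL : (R : Subgroup G) ≤ L := hT ▸ Subgroup.map_subtype_le _
    by_cases hperf : commutator L = ⊤
    · rcases hp2 with rfl | hsol
      · haveI : (C.subgroupOf L).Normal := Subgroup.normal_subgroupOf_of_le_normalizer hLC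
        set Y := L ⧸ C.subgroupOf L
        have hperfY : commutator Y = ⊤ := by
          rw [_root_.commutator_def, ← MonoidHom.range_eq_top.2
            (QuotientGroup.mk'_surjective (C.subgroupOf L)), MonoidHom.range_eq_map,
            ← Subgroup.map_commutator, ← _root_.commutator_def, hperf]
        set PY := T.mapSurjective (QuotientGroup.mk'_surjective (C.subgroupOf L))
        -- compare the image with the index of `C` in `R`
        have hcard : Nat.card PY ∣ (C.subgroupOf R).index := by
          let f : (R : Subgroup G) →* Y :=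
            (QuotientGroup.mk' (C.subgroupOf L)).comp (Subgroup.inclusion hRL)
          have hf : f.range = (PY : Subgroup Y) := by
            show _ = (T : Subgroup L).map (QuotientGroup.mk' _)
            rw [MonoidHom.range_comp]
            congr 1
            refine SetLike.ext fun x => ⟨?_, fun hx => ?_⟩
            · rintro ⟨r, rfl⟩
              obtain ⟨y, hy, hyr⟩ := (hT.symm ▸ r.2 : (r : G) ∈ TG)
              rwa [show Subgroup.inclusion hRL r = y from Subtype.ext hyr.symm]
            · exact ⟨⟨x, hT ▸ Subgroup.mem_map_of_mem _ hx⟩, Subtype.ext rfl⟩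
          have hk : f.ker = C.subgroupOf R := by
            ext r
            rw [MonoidHom.mem_ker]
            exact QuotientGroup.eq_one_iff _
          rw [show Nat.card PY = Nat.card f.range by rw [hf], ← hk, Subgroup.index_ker]
        by_cases h4 : (C.subgroupOf R).index ≤ 2
        · have hYodd := false_of_perfect_cyclic_sylow hperfY PY
            ((Nat.le_of_dvd (Nat.pos_of_ne_zero Subgroup.index_ne_zero_of_finite) hcard).trans h4)
          -- odd order: `R` centralizes `Q`
          refine hall R (hCab.mono fun x hx => ?_)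
          have h1 : QuotientGroup.mk' (C.subgroupOf L) ⟨x, hRL hx⟩ = 1 := by
            rw [← orderOf_eq_one_iff]
            obtain ⟨k, hk⟩ := IsPGroup.iff_orderOf.1 R.isPGroup' ⟨x, hx⟩
            rw [Subgroup.orderOf_mk] at hk
            refine Nat.eq_one_of_dvd_coprimes
              ((Nat.prime_two.coprime_iff_not_dvd.2 hYodd).pow_left k) ?_ (orderOf_dvd_natCard _)
            rw [← hk, ← Subgroup.orderOf_mk x (hRL hx)]
            exact orderOf_map_dvd _ _
          exact Subgroup.mem_subgroupOf.1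
            ((QuotientGroup.eq_one_iff (N := C.subgroupOf L) (⟨x, hRL hx⟩ : L)).1 h1)
        · have hKC : K ≤ C.subgroupOf R := by
            intro z hz
            rw [Subgroup.mem_subgroupOf, hC, Subgroup.mem_centralizer_iff]
            intro q hq
            exact congrArg Subtype.val
              (Subgroup.mem_center_iff.1 (hK hz) ⟨q, hR (hQT hq)⟩)
          have hidxeq : (C.subgroupOf R).index = K.index := by
            refine le_antisymm (Nat.le_of_dvd (Nat.pos_of_ne_zero Subgroup.index_ne_zero_of_finite)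
              (Subgroup.index_dvd_of_le hKC)) ?_
            obtain ⟨j, hj⟩ := R.isPGroup'.index (C.subgroupOf R)
            rw [hj] at h4 ⊢
            refine hKi.trans ?_
            by_contra! hlt
            have : j < 2 := (Nat.pow_lt_pow_iff_right (by norm_num)).1 hlt
            interval_cases j <;> simp at h4
          have hKeq : K = C.subgroupOf R := by
            refine Subgroup.eq_of_le_of_card_ge hKC (le_of_eq ?_)
            have h1 := K.card_mul_index
            have h2 := (C.subgroupOf R).card_mul_index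
            rw [hidxeq, ← h1] at h2
            exact Nat.eq_of_mul_eq_mul_right (Nat.pos_of_ne_zero Subgroup.index_ne_zero_of_finite) h2
          refine hall R (hCab.mono fun x hx => ?_)
          rw [hC, Subgroup.mem_centralizer_iff]
          intro q hq
          have hqK : (⟨q, hR (hQT hq)⟩ : (R : Subgroup G)) ∈ K := by
            rw [hKeq, Subgroup.mem_subgroupOf, hC, Subgroup.mem_centralizer_iff]
            intro q' hq'
            exact hproper Q (hQT.trans hR) hQR q' hq' q hq
          exact (congrArg Subtype.val (Subgroup.mem_center_iff.1 (hK hqK) ⟨x, hx⟩)).symm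
      · haveI := hsol L (fun e => by
          rcases IsSimpleGroup.eq_bot_or_eq_top_of_normal Q (Subgroup.normalizer_eq_top_iff.1 e)
            with h | h
          · exact hgC (by rw [hC, h]; simp [Subgroup.mem_centralizer_iff])
          · exact not_pgroup (p := p) hna fun x => by
              obtain ⟨k, hk⟩ := hQp ⟨x, h ▸ Subgroup.mem_top x⟩
              exact ⟨k, congrArg Subtype.val hk⟩)
        haveI : Subsingleton L := by
          by_contra hnt
          haveI := not_subsingleton_iff_nontrivial.1 hnt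
          exact (Group.IsSolvable.commutator_lt_top_of_nontrivial L).ne hperf
        exact hall R fun a ha b hb => by
          have h1 : (⟨a, hRL ha⟩ : L) = 1 := Subsingleton.elim _ _
          rw [show a = 1 from congrArg Subtype.val h1, one_mul, mul_one]
    · obtain ⟨M, hMn, hMc, hq⟩ := coatom_over_commutator hperf
      haveI := hMn
      have hMab : Ab M := (hG.sub L).ab_normal fun e => by
        rw [e, Subgroup.index_top] at hq; exact Nat.not_prime_one hq
      by_cases hqp : M.index = p
      · -- `g` centralizes `Q`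
        have hgM : (⟨g, hgN⟩ : L) ∈ M := mem_of_coprime_index (by
          rw [Subgroup.orderOf_mk, hqp]; exact hgo)
        refine hgC ?_
        rw [hC, Subgroup.mem_centralizer_iff]
        intro x hx
        set gL : L := ⟨g, hgN⟩
        set xL : L := ⟨x, Subgroup.le_normalizer hx⟩
        set m : L := gL * xL * gL⁻¹ * xL⁻¹
        have hmM : m ∈ M := by
          rw [show m = gL * (xL * gL⁻¹ * xL⁻¹) by simp only [m]; group]
          exact M.mul_mem hgM (hMn.conj_mem _ (M.inv_mem hgM) xL)
        have hgm : Commute gL m := hMab _ hgM _ hmM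
        have hiter : ∀ i : ℕ, gL ^ i * xL * (gL ^ i)⁻¹ = m ^ i * xL := by
          intro i
          induction i with
          | zero => simp
          | succ i ih =>
            calc gL ^ (i + 1) * xL * (gL ^ (i + 1))⁻¹ = gL * (gL ^ i * xL * (gL ^ i)⁻¹) * gL⁻¹ := by
                  rw [pow_succ']; group
              _ = gL * m ^ i * xL * gL⁻¹ := by rw [ih]; group
              _ = m ^ i * (gL * xL * gL⁻¹) := by rw [(hgm.pow_right i).eq]; group
              _ = m ^ i * (m * xL) := by simp only [m]; group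
              _ = m ^ (i + 1) * xL := by rw [pow_succ]; group
        have h1 := hiter (orderOf gL)
        rw [pow_orderOf_eq_one] at h1
        have hm1 : m ^ orderOf gL = 1 := by simpa using h1.symm
        have hmQ : (m : G) ∈ Q := Q.mul_mem ((Subgroup.mem_normalizer_iff.1 hgN x).1 hx)
          (Q.inv_mem hx)
        obtain ⟨k, hk⟩ := IsPGroup.iff_orderOf.1 hQp ⟨(m : G), hmQ⟩
        rw [Subgroup.orderOf_mk, Subgroup.orderOf_coe] at hk
        have hm : m = 1 := orderOf_eq_one_iff.1 (Nat.eq_one_of_dvd_coprimes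
          ((show (orderOf gL).Coprime p by rw [Subgroup.orderOf_mk]; exact hgo).pow_right k)
          (orderOf_dvd_of_pow_eq_one hm1) hk.dvd)
        have h2 : g * x * g⁻¹ * x⁻¹ = 1 := congrArg Subtype.val hm
        rw [mul_inv_eq_one, mul_inv_eq_iff_eq_mul] at h2
        exact h2.symm
      · refine hall R fun a ha b hb => ?_
        have hmem : ∀ c (hc : c ∈ (R : Subgroup G)), (⟨c, hRL hc⟩ : L) ∈ M := fun c hc => by
          refine mem_of_coprime_index ?_
          obtain ⟨k, hk⟩ := IsPGroup.iff_orderOf.1 R.isPGroup' ⟨c, hc⟩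
          rw [Subgroup.orderOf_mk] at hk ⊢
          rw [hk]
          exact ((Nat.coprime_primes hp.out hq).2 (Ne.symm hqp)).pow_left k
        exact congrArg Subtype.val (hMab _ (hmem a ha) _ (hmem b hb))
  · -- `TG` is abelian, hence normal in `L`, hence equal to `Q`
    have hTab : Ab TG := hproper TG hR hT
    have hTC : TG ≤ C := fun x hx => by
      rw [hC, Subgroup.mem_centralizer_iff]
      exact fun q hq => hTab q (hQT hq) x hx
    have hTn : L ≤ Subgroup.normalizer (TG : Set G) := by
      intro x hx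
      refine mem_normalizer_of_conj_smul (Subgroup.eq_of_le_of_card_ge ?_ (card_conj_smul x TG).ge)
      intro y hy
      rw [mem_conj_smul] at hy
      -- `y` is a `p`-element of the abelian group `C`
      have hyC : y ∈ C := by
        have := (Subgroup.mem_normalizer_iff.1 (hLC hx) _).1 (hTC hy)
        simpa [mul_assoc] using this
      set J := TG ⊔ Subgroup.zpowers y
      have hJC : J ≤ C := sup_le hTC (Subgroup.zpowers_le.2 hyC)
      have hJp : IsPGroup p J := by
        refine IsPGroup.to_sup_of_normal_right' hTp ?_ (fun z hz => ?_)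
        · obtain ⟨k, hk⟩ := IsPGroup.iff_orderOf.1 hTp ⟨x⁻¹ * y * x, hy⟩
          rw [Subgroup.orderOf_mk, show x⁻¹ * y * x = MulAut.conj x⁻¹ y by simp,
            MulEquiv.orderOf_eq] at hk
          exact IsPGroup.of_card (n := k) (by rw [Nat.card_zpowers, hk])
        · rw [Subgroup.mem_normalizer_iff]
          intro w
          constructor
          · intro hw
            rwa [hCab z (hTC hz) w (Subgroup.zpowers_le.2 hyC hw), mul_inv_cancel_right]
          · intro hw
            have := hCab z (hTC hz) _ (Subgroup.zpowers_le.2 hyC hw)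
            rw [show w = z * w * z⁻¹ from ?_]
            · exact hw
            · have h5 : z * (z * w * z⁻¹) * z⁻¹ = z * w * z⁻¹ := by rw [this]; group
              exact (mul_left_cancel (mul_right_cancel h5)).symm
      have hJL : J.subgroupOf L = (T : Subgroup L) :=
        T.is_maximal' (hJp.comap_subtype) fun t ht =>
          Subgroup.mem_sup_left (Subgroup.mem_map_of_mem _ ht)
      have hyJ : (⟨y, hCL hyC⟩ : L) ∈ (T : Subgroup L) :=
        hJL ▸ (Subgroup.mem_sup_right (Subgroup.mem_zpowers y) : y ∈ J)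
      exact Subgroup.mem_map_of_mem L.subtype hyJ
    have hTQ : TG = Q := le_antisymm (hmax ⟨hTp, g, hTn hgN, hgo,
      fun h => hgC (Subgroup.centralizer_le hQT h)⟩ hQT) hQT
    haveI : Group.IsNilpotent (R : Subgroup G) := R.isPGroup'.isNilpotent
    have hlt : Q.subgroupOf R < ⊤ := lt_top_iff_ne_top.2 fun h =>
      hQR (le_antisymm (hQT.trans hR) (Subgroup.subgroupOf_eq_top.1 h))
    obtain ⟨r, hr, hrQ⟩ := SetLike.exists_of_lt
      (Group.normalizerCondition_of_isNilpotent (G := (R : Subgroup G)) _ hlt)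
    have hrL : (r : G) ∈ L := by
      have h1 := mem_normalizer_map (R : Subgroup G).subtype hr
      rwa [Subgroup.map_subgroupOf_eq_of_le (hQT.trans hR)] at h1
    have hJ : ((R : Subgroup G).subgroupOf L) = (T : Subgroup L) :=
      T.is_maximal' R.isPGroup'.comap_subtype fun t ht => hR (Subgroup.mem_map_of_mem _ ht)
    refine hrQ ?_
    rw [Subgroup.mem_subgroupOf, ← hTQ]
    exact ⟨⟨r, hrL⟩, hJ ▸ r.2, rfl⟩

end Cfsg.Agent.Solv.SelfNorm
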