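import Cfsg.Agent.Lib.Fusion.NPC
import Cfsg.Agent.Lib.Solv.PConj
import Cfsg.Agent.Lib.Solv.Coprime
import Cfsg.Agent.Lib.Solv.Parts

/-!
Groups with a cyclic Sylow subgroup in which all subgroups of order prime to `p` are abelian:
the reduction to simple groups.
-/

set_option autoImplicit false
set_option linter.style.haveILetI false
set_option linter.unusedSectionVars false

open scoped Pointwise

universe u

namespace Cfsg.Agent.Solv.CyclicDichotomy

open Cfsg

/-- Every subgroup of order prime to `p` is abelian. -/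
def AbP (p : ℕ) (G : Type*) [Group G] : Prop :=
  ∀ H : Subgroup G, ¬ p ∣ Nat.card H → IsMulCommutative H

/-- The conclusion. -/
def Concl (p : ℕ) (G : Type u) [Group G] (P : Sylow p G) : Prop :=
  HasNormalPComplement p G ∨ (P : Subgroup G).Normal

variable {G : Type u} [Group G] [Finite G] {p : ℕ} [Fact p.Prime]

theorem AbP.comm (hab : AbP p G) {H : Subgroup G} (hH : ¬ p ∣ Nat.card H) {a b : G} (ha : a ∈ H)
    (hb : b ∈ H) : a * b = b * a := by
  haveI := hab H hH
  exact congrArg Subtype.val (mul_comm' (⟨a, ha⟩ : H) ⟨b, hb⟩)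

theorem AbP.of_subgroup (hab : AbP p G) (L : Subgroup G) : AbP p L := by
  intro H hH
  refine ⟨⟨fun a b => Subtype.ext (Subtype.ext ?_)⟩⟩
  exact hab.comm (H := H.map L.subtype) (by rwa [card_map_subtype])
    (Subgroup.mem_map_of_mem _ a.2) (Subgroup.mem_map_of_mem _ b.2)

theorem AbP.quotient (hab : AbP p G) (K : Subgroup G) [K.Normal] (hK : ¬ p ∣ Nat.card K) :
    AbP p (G ⧸ K) := by
  intro H hH
  have hp : p.Prime := Fact.out
  refine ⟨⟨fun a b => Subtype.ext ?_⟩⟩
  obtain ⟨x, hx⟩ := QuotientGroup.mk'_surjective K (a : G ⧸ K)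
  obtain ⟨y, hy⟩ := QuotientGroup.mk'_surjective K (b : G ⧸ K)
  have h := hab.comm (H := H.comap (QuotientGroup.mk' K))
    (by rw [card_comap_mk']; exact fun h => (hp.dvd_mul.1 h).elim hH hK)
    (a := x) (b := y) (by rw [Subgroup.mem_comap, hx]; exact a.2)
    (by rw [Subgroup.mem_comap, hy]; exact b.2)
  show (a : G ⧸ K) * b = b * a
  rw [← hx, ← hy, ← map_mul, ← map_mul, h]

theorem not_dvd_of_coprime {n : ℕ} (h : n.Coprime p) : ¬ p ∣ n :=
  (Nat.Prime.coprime_iff_not_dvd (Fact.out : p.Prime)).1 h.symm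

/-- A `p'`-element normalising a `p'`-subgroup centralises it. -/
theorem AbP.commute_normalized (hab : AbP p G) {K : Subgroup G} (hK : ¬ p ∣ Nat.card K) {h : G}
    (hh : h ∈ Subgroup.normalizer (K : Set G)) (hco : (orderOf h).Coprime p) :
    ∀ k ∈ K, h * k = k * h := by
  intro k hk
  have hp : p.Prime := Fact.out
  have h1 := card_sup_mul_card_inf' K (Subgroup.zpowers h) (Subgroup.zpowers_le.2 hh)
  rw [Nat.card_zpowers] at h1
  have h2 : ¬ p ∣ Nat.card (K ⊔ Subgroup.zpowers h : Subgroup G) := fun hd =>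
    (hp.dvd_mul.1 (h1 ▸ hd.mul_right _)).elim hK (not_dvd_of_coprime hco)
  exact hab.comm h2 (Subgroup.mem_sup_right (Subgroup.mem_zpowers h)) (Subgroup.mem_sup_left hk)

variable {P : Sylow p G}

theorem comm_of_cyclic (hcyc : IsCyclic P) {a b : G} (ha : a ∈ (P : Subgroup G))
    (hb : b ∈ (P : Subgroup G)) : a * b = b * a := by
  haveI := hcyc
  letI : CommGroup P := IsCyclic.commGroup
  exact congrArg Subtype.val (mul_comm (⟨a, ha⟩ : P) ⟨b, hb⟩)

theorem le_centralizer_self (hcyc : IsCyclic P) :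
    (P : Subgroup G) ≤ Subgroup.centralizer ((P : Subgroup G) : Set G) := fun _ ha =>
  Subgroup.mem_centralizer_iff.2 fun _ hb => comm_of_cyclic hcyc hb ha

/-- A `p'`-element of `N(P)` outside `C(P)` fixes only the identity of `P`. -/
theorem fpf (hcyc : IsCyclic P) {h : G} (hN : h ∈ Subgroup.normalizer ((P : Subgroup G) : Set G))
    (hnC : h ∉ Subgroup.centralizer ((P : Subgroup G) : Set G)) (hco : (orderOf h).Coprime p)
    {x : G} (hx : x ∈ (P : Subgroup G)) (hcx : h * x = x * h) : x = 1 := by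
  by_contra hx1
  exact hnC (Subgroup.mem_centralizer_iff.2 fun d hd =>
    (centralizes_cyclic P.isPGroup' hcyc hN hco hx hx1 hcx d hd).symm)

theorem mem_P_of_normalizer {u : G} {k : ℕ} (hu : orderOf u = p ^ k)
    (hN : u ∈ Subgroup.normalizer ((P : Subgroup G) : Set G)) : u ∈ (P : Subgroup G) := by
  have h := (isPGroup_zpowers hu).inf_normalizer_sylow P
  exact ((h.le ⟨Subgroup.mem_zpowers u, hN⟩)).2

/-- Membership in `C(P)` can be checked on the `p'`-part. -/
theorem mem_centralizer_of_parts (hcyc : IsCyclic P) {x u v : G} {k : ℕ}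
    (hN : x ∈ Subgroup.normalizer ((P : Subgroup G) : Set G)) (hu : u ∈ Subgroup.zpowers x)
    (huv : u * v = x) (hk : orderOf u = p ^ k)
    (hv : v ∈ Subgroup.centralizer ((P : Subgroup G) : Set G)) :
    x ∈ Subgroup.centralizer ((P : Subgroup G) : Set G) :=
  huv ▸ Subgroup.mul_mem _ (le_centralizer_self hcyc (mem_P_of_normalizer hk
    ((Subgroup.zpowers_le.2 hN) hu))) hv

theorem exists_pPrime_of_not_le (hcyc : IsCyclic P)
    (h : ¬ Subgroup.normalizer ((P : Subgroup G) : Set G) ≤ Subgroup.centralizer ((P : Subgroup G) : Set G)) :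
    ∃ v ∈ Subgroup.normalizer ((P : Subgroup G) : Set G),
      v ∉ Subgroup.centralizer ((P : Subgroup G) : Set G) ∧ (orderOf v).Coprime p := by
  obtain ⟨x, hxN, hxC⟩ := SetLike.not_le_iff_exists.1 h
  obtain ⟨u, v, hu, hv, huv, ⟨k, hk⟩, hco⟩ := exists_ppart p x
  exact ⟨v, (Subgroup.zpowers_le.2 hxN) hv,
    fun hvC => hxC (mem_centralizer_of_parts hcyc hxN hu huv hk hvC), hco⟩

theorem isCyclic_of_isPGroup (hcyc : IsCyclic P) {R : Subgroup G} (hR : IsPGroup p R) :
    IsCyclic R := by
  obtain ⟨g, hg⟩ := exists_le_conj_sylow hR P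
  haveI : IsCyclic (MulAut.conj g • (P : Subgroup G) : Subgroup G) := by
    haveI := hcyc
    exact isCyclic_of_surjective (Subgroup.equivSMul (MulAut.conj g) (P : Subgroup G))
      (Subgroup.equivSMul _ _).surjective
  exact isCyclic_of_surjective (Subgroup.subgroupOfEquivOfLe hg).toMonoidHom
    (Subgroup.subgroupOfEquivOfLe hg).surjective

theorem le_P_of_normal {Q : Subgroup G} [Q.Normal] (hQ : IsPGroup p Q) : Q ≤ (P : Subgroup G) := by
  obtain ⟨g, hg⟩ := exists_le_conj_sylow hQ P
  intro x hx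
  have h2 : g * x * g⁻¹ ∈ Q := Subgroup.Normal.conj_mem inferInstance x hx g
  have h3 := mem_conj_smul.1 (hg h2)
  simpa [mul_assoc] using h3

theorem eq_of_isPGroup_ge {M : Subgroup G} (hM : IsPGroup p M) (h : (P : Subgroup G) ≤ M) :
    M = (P : Subgroup G) :=
  (P.is_maximal' hM h).symm ▸ rfl

/-- The conclusion for a proper subgroup containing `P` and the element `h`. -/
theorem le_normalizer_of_proper
    (IH : ∀ (L : Subgroup G) (Q : Sylow p L), L ≠ ⊤ → IsCyclic Q → AbP p L → Concl p L Q)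
    (hcyc : IsCyclic P) (hab : AbP p G) {h : G} (hN : h ∈ Subgroup.normalizer ((P : Subgroup G) : Set G))
    (hnC : h ∉ Subgroup.centralizer ((P : Subgroup G) : Set G)) (hco : (orderOf h).Coprime p)
    {L : Subgroup G} (hL : L ≠ ⊤) (hhL : h ∈ L) (hPL : (P : Subgroup G) ≤ L) :
    L ≤ Subgroup.normalizer ((P : Subgroup G) : Set G) := by
  have hQ : IsCyclic (P.subtype hPL) := by
    haveI := hcyc
    exact isCyclic_of_surjective (Subgroup.subgroupOfEquivOfLe hPL).symm.toMonoidHom
      (Subgroup.subgroupOfEquivOfLe hPL).symm.surjective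
  rcases IH L (P.subtype hPL) hL hQ (hab.of_subgroup L) with hn | hn
  · exfalso
    refine hnC (Subgroup.mem_centralizer_iff.2 fun v hv => ?_)
    have hR : (⟨h, hhL⟩ : L) ∈ pResidual p L :=
      Subgroup.subset_closure (show (orderOf (⟨h, hhL⟩ : L)).Coprime p by rwa [Subgroup.orderOf_mk])
    have hc : (⟨h, hhL⟩ : L) * (⟨v, hPL hv⟩ * (⟨h, hhL⟩ : L)⁻¹ * (⟨v, hPL hv⟩ : L)⁻¹) ∈
        pResidual p L ⊓ ((P.subtype hPL : Sylow p L) : Subgroup L) := by
      refine ⟨Subgroup.mul_mem _ hR ((inferInstance : (pResidual p L).Normal).conj_mem _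
        ((pResidual p L).inv_mem hR) _), ?_⟩
      rw [Sylow.coe_subtype]
      show h * (v * h⁻¹ * v⁻¹) ∈ (P : Subgroup G)
      have h1 := ((Subgroup.mem_normalizer_iff.1 hN) v).1 hv
      have h2 := (P : Subgroup G).mul_mem h1 ((P : Subgroup G).inv_mem hv)
      simpa [mul_assoc] using h2
    rw [Fusion.coprime_inf_pGroup (Fusion.hnpc_iff.1 hn) (P.subtype hPL).isPGroup', Subgroup.mem_bot] at hc
    have he : h * (v * h⁻¹ * v⁻¹) = 1 := congrArg Subtype.val hc
    calc v * h = h * (v * h⁻¹ * v⁻¹) * (v * h) := by rw [he, one_mul]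
      _ = h * v := by group
  · rw [Sylow.coe_subtype] at hn
    exact (Subgroup.normal_subgroupOf_iff_le_normalizer hPL).1 hn

theorem concl_of_normal_pPrime
    (IH : ∀ (K : Subgroup G) [K.Normal] (Q : Sylow p (G ⧸ K)), K ≠ ⊥ → IsCyclic Q → AbP p (G ⧸ K) →
      Concl p (G ⧸ K) Q)
    (hcyc : IsCyclic P) (hab : AbP p G) {h : G} (hN : h ∈ Subgroup.normalizer ((P : Subgroup G) : Set G))
    (hnC : h ∉ Subgroup.centralizer ((P : Subgroup G) : Set G)) (hco : (orderOf h).Coprime p)
    {K : Subgroup G} [K.Normal] (hK : ¬ p ∣ Nat.card K) (hK1 : K ≠ ⊥) : Concl p G P := by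
  have hhK : h ∈ Subgroup.centralizer (K : Set G) :=
    Subgroup.mem_centralizer_iff.2 fun k hk =>
      (hab.commute_normalized hK (by rw [Subgroup.normalizer_eq_top]; trivial) hco k hk).symm
  haveI : (Subgroup.centralizer (K : Set G)).Normal := Subgroup.normal_centralizer
  let f : ↥(P : Subgroup G) → ↥(P : Subgroup G) := fun v => ⟨h * (v : G) * h⁻¹ * (v : G)⁻¹,
    (P : Subgroup G).mul_mem (((Subgroup.mem_normalizer_iff.1 hN) _).1 v.2)
      ((P : Subgroup G).inv_mem v.2)⟩
  have hf : Function.Injective f := by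
    intro a b e
    have e' : h * (a : G) * h⁻¹ * (a : G)⁻¹ = h * (b : G) * h⁻¹ * (b : G)⁻¹ := congrArg Subtype.val e
    have hc := comm_of_cyclic hcyc ((P : Subgroup G).inv_mem a.2) b.2
    have h2 : h * ((a : G)⁻¹ * b) = (a : G)⁻¹ * b * h := by
      have h3 : h * ((a : G)⁻¹ * b) * h⁻¹ = (a : G)⁻¹ * b := by
        calc h * ((a : G)⁻¹ * b) * h⁻¹
            = (h * (a : G) * h⁻¹ * (a : G)⁻¹ * a)⁻¹ * (h * (b : G) * h⁻¹ * (b : G)⁻¹ * b) := by group
          _ = (h * (b : G) * h⁻¹ * (b : G)⁻¹ * a)⁻¹ * (h * (b : G) * h⁻¹ * (b : G)⁻¹ * b) := by rw [e']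
          _ = _ := by group
      exact mul_inv_eq_iff_eq_mul.1 h3
    exact Subtype.ext (inv_mul_eq_one.1 (fpf hcyc hN hnC hco
      ((P : Subgroup G).mul_mem ((P : Subgroup G).inv_mem a.2) b.2) h2))
  have hPK : (P : Subgroup G) ≤ Subgroup.centralizer (K : Set G) := by
    intro w hw
    obtain ⟨v, hv⟩ := Finite.surjective_of_injective hf ⟨w, hw⟩
    have hv' : h * (v : G) * h⁻¹ * (v : G)⁻¹ = w := congrArg Subtype.val hv
    rw [← hv', show h * (v : G) * h⁻¹ * (v : G)⁻¹ = h * ((v : G) * h⁻¹ * (v : G)⁻¹) by group]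
    exact Subgroup.mul_mem _ hhK ((inferInstance : (Subgroup.centralizer (K : Set G)).Normal).conj_mem _
      (Subgroup.inv_mem _ hhK) _)
  have hsurj := QuotientGroup.mk'_surjective K
  have hQ : IsCyclic (P.mapSurjective hsurj) := by
    haveI := hcyc
    rw [Sylow.coe_mapSurjective]
    exact isCyclic_of_surjective ((QuotientGroup.mk' K).subgroupMap (P : Subgroup G))
      (MonoidHom.subgroupMap_surjective _ _)
  rcases IH K (P.mapSurjective hsurj) hK1 hQ (hab.quotient K hK) with hn | hn
  · exact Or.inl (Fusion.hnpc_of_quotient K ((Nat.Prime.coprime_iff_not_dvd Fact.out).2 hK).symm hn)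
  · refine Or.inr (Subgroup.normalizer_eq_top_iff.1 ?_)
    rw [Sylow.coe_mapSurjective] at hn
    haveI := hn.comap (QuotientGroup.mk' K)
    have h1 : Subgroup.normalizer ((P : Subgroup G) : Set G) ⊔
        ((P : Subgroup G).map (QuotientGroup.mk' K)).comap (QuotientGroup.mk' K) = ⊤ :=
      P.normalizer_sup_eq_top' (N := ((P : Subgroup G).map (QuotientGroup.mk' K)).comap
        (QuotientGroup.mk' K)) (Subgroup.le_comap_map _ _)
    rw [QuotientGroup.comap_map_mk'] at h1
    have hKN : K ≤ Subgroup.normalizer ((P : Subgroup G) : Set G) := fun k hk =>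
      Subgroup.centralizer_le_normalizer _ (Subgroup.mem_centralizer_iff.2 fun v hv =>
        (Subgroup.mem_centralizer_iff.1 (hPK hv) k hk).symm)
    rwa [sup_eq_left.2 (sup_le hKN Subgroup.le_normalizer)] at h1

/-- The reduction to simple groups. -/
theorem concl_or_simple
    (IHs : ∀ (L : Subgroup G) (Q : Sylow p L), L ≠ ⊤ → IsCyclic Q → AbP p L → Concl p L Q)
    (IHq : ∀ (K : Subgroup G) [K.Normal] (Q : Sylow p (G ⧸ K)), K ≠ ⊥ → IsCyclic Q → AbP p (G ⧸ K) →
      Concl p (G ⧸ K) Q)
    (hcyc : IsCyclic P) (hab : AbP p G) {h : G} (hN : h ∈ Subgroup.normalizer ((P : Subgroup G) : Set G))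
    (hnC : h ∉ Subgroup.centralizer ((P : Subgroup G) : Set G)) (hco : (orderOf h).Coprime p) :
    Concl p G P ∨ (IsSimpleGroup G ∧ commutator G = ⊤) := by
  by_cases hres : Concl p G P
  · exact Or.inl hres
  refine Or.inr ?_
  have hPne : (P : Subgroup G) ≠ ⊥ := by
    intro e
    refine hnC (Subgroup.mem_centralizer_iff.2 fun v hv => ?_)
    rw [e] at hv
    rw [Subgroup.mem_bot.1 hv, one_mul, mul_one]
  have big : ∀ M : Subgroup G, M.Normal → M ≠ ⊤ → (P : Subgroup G) ≤ M → False := by
    intro M hMn hM hPM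
    have hQ : IsCyclic (P.subtype hPM) := by
      haveI := hcyc
      exact isCyclic_of_surjective (Subgroup.subgroupOfEquivOfLe hPM).symm.toMonoidHom
        (Subgroup.subgroupOfEquivOfLe hPM).symm.surjective
    haveI := hMn
    rcases IHs M (P.subtype hPM) hM hQ (hab.of_subgroup M) with hn | hn
    · by_cases hR : (pResidual p M).map M.subtype = ⊥
      · rw [Subgroup.map_eq_bot_iff_of_injective _ M.subtype_injective] at hR
        have hMp : IsPGroup p M := by
          intro m
          obtain ⟨k, hk⟩ := Fusion.isPGroup_quotient_pResidual (p := p) (G := M) (QuotientGroup.mk m)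
          refine ⟨k, ?_⟩
          rw [← QuotientGroup.mk_pow, QuotientGroup.eq_one_iff, hR, Subgroup.mem_bot] at hk
          exact hk
        exact hres (Or.inr (eq_of_isPGroup_ge hMp hPM ▸ hMn))
      · refine hres (concl_of_normal_pPrime IHq hcyc hab hN hnC hco (K := (pResidual p M).map M.subtype) ?_ hR)
        rw [card_map_subtype]
        exact not_dvd_of_coprime (Fusion.hnpc_iff.1 hn)
    · haveI := Sylow.characteristic_of_normal (P.subtype hPM) hn
      refine hres (Or.inr ?_)
      have h1 : (((P.subtype hPM : Sylow p M) : Subgroup M).map M.subtype).Normal := inferInstance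
      rwa [Sylow.coe_subtype, Subgroup.map_subgroupOf_eq_of_le hPM] at h1
  have pgroup : ∀ Q : Subgroup G, Q.Normal → IsPGroup p Q → Q ≠ ⊥ → False := by
    intro Q hQn hQ hQ1
    haveI := hQn
    have hQP := le_P_of_normal (P := P) hQ
    refine big (Subgroup.centralizer (Q : Set G)) Subgroup.normal_centralizer (fun htop => ?_) fun v hv =>
      Subgroup.mem_centralizer_iff.2 fun w hw => comm_of_cyclic hcyc (hQP hw) hv
    obtain ⟨⟨x, hx⟩, hx1⟩ := Subgroup.ne_bot_iff_exists_ne_one.1 hQ1
    refine hx1 (Subtype.ext (fpf hcyc hN hnC hco (hQP hx) ?_))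
    exact (Subgroup.mem_centralizer_iff.1 (htop.ge (Subgroup.mem_top h)) x hx).symm
  have all : ∀ M : Subgroup G, M.Normal → M ≠ ⊥ → M ≠ ⊤ → False := by
    intro M hMn hM1 hM
    haveI := hMn
    by_cases hpM : p ∣ Nat.card M
    · obtain ⟨Q⟩ : Nonempty (Sylow p M) := inferInstance
      have hQc : IsCyclic Q := by
        haveI := isCyclic_of_isPGroup hcyc (Q.isPGroup'.map M.subtype)
        exact isCyclic_of_surjective
          ((Q : Subgroup M).equivMapOfInjective M.subtype M.subtype_injective).symm.toMonoidHom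
          ((Q : Subgroup M).equivMapOfInjective M.subtype M.subtype_injective).symm.surjective
      rcases IHs M Q hM hQc (hab.of_subgroup M) with hn | hn
      · by_cases hR : (pResidual p M).map M.subtype = ⊥
        · rw [Subgroup.map_eq_bot_iff_of_injective _ M.subtype_injective] at hR
          refine pgroup M hMn ?_ hM1
          intro m
          obtain ⟨k, hk⟩ := Fusion.isPGroup_quotient_pResidual (p := p) (G := M) (QuotientGroup.mk m)
          refine ⟨k, ?_⟩
          rw [← QuotientGroup.mk_pow, QuotientGroup.eq_one_iff, hR, Subgroup.mem_bot] at hk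
          exact hk
        · refine hres (concl_of_normal_pPrime IHq hcyc hab hN hnC hco
            (K := (pResidual p M).map M.subtype) ?_ hR)
          rw [card_map_subtype]
          exact not_dvd_of_coprime (Fusion.hnpc_iff.1 hn)
      · haveI := Sylow.characteristic_of_normal Q hn
        refine pgroup ((Q : Subgroup M).map M.subtype) inferInstance (Q.isPGroup'.map _) fun e => ?_
        rw [Subgroup.map_eq_bot_iff_of_injective _ M.subtype_injective] at e
        exact Q.ne_bot_of_dvd_card hpM e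
    · exact hres (concl_of_normal_pPrime IHq hcyc hab hN hnC hco hpM hM1)
  haveI : Nontrivial G := by
    rcases subsingleton_or_nontrivial G with hs | hn
    · exact absurd (Subgroup.eq_bot_of_subsingleton _) hPne
    · exact hn
  haveI hsimple : IsSimpleGroup G := ⟨fun M hMn => by
    by_contra hno
    push Not at hno
    exact all M hMn hno.1 hno.2⟩
  refine ⟨hsimple, ?_⟩
  refine ((inferInstance : (commutator G).Normal).eq_bot_or_eq_top).resolve_left fun e => ?_
  rw [commutator_eq_bot_iff] at e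
  exact hres (Or.inr (Subgroup.normal_of_isMulCommutative _))

end Cfsg.Agent.Solv.CyclicDichotomy
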