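import Mathlib
import Cfsg.Prelude.Def_KGroupFacts
import Cfsg.Agent.Lib.Solv.SchurSmall

/-!
Schur multipliers from a transitive action whose point stabiliser is perfect with trivial multiplier.

A stem extension splits over the stabiliser, so it is described by one kernel element for each edge of the
graph of two generators on the points, zero on a spanning tree. Every relation gives a loop sum which does not
depend on the starting point. A certificate solves these linear equations by ordered elimination.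
-/

set_option autoImplicit false

open scoped commutatorElement

namespace Cfsg.Agent.Solv.StabCocycle

/-- The product along a word, first letter first applied. -/
def evalW {M : Type*} [Monoid M] (A : ℕ → M) : List ℕ → M
  | [] => 1
  | j :: w => evalW A w * A j

/-- The edges met by a word; the edge of the letter `j` at the point `i` has code `2 * i + j`. -/
def loopE (act : ℕ → ℕ → ℕ) : List ℕ → ℕ → List ℕ
  | [], _ => []
  | j :: w, i => (2 * i + j) :: loopE act w (act j i)

/-- The end point of a word. -/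
def endPt (act : ℕ → ℕ → ℕ) : List ℕ → ℕ → ℕ
  | [], i => i
  | j :: w, i => endPt act w (act j i)

variable {Γ G : Type*} [Group Γ] [Group G]

theorem map_evalW (σ : Γ →* G) (A : ℕ → Γ) : ∀ w, σ (evalW A w) = evalW (fun j => σ (A j)) w
  | [] => map_one σ
  | j :: w => by rw [evalW, map_mul, map_evalW σ A w, evalW]

theorem evalW_congr {A B : ℕ → Γ} : ∀ {w : List ℕ}, (∀ j ∈ w, A j = B j) → evalW A w = evalW B w
  | [], _ => rfl
  | j :: w, h => by
    rw [evalW, evalW, h j List.mem_cons_self, evalW_congr fun k hk => h k (List.mem_cons_of_mem j hk)]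

theorem evalW_twist (A : ℕ → Γ) (u : ℕ → Γ) (hu : ∀ j g, u j * g = g * u j) : ∀ w : List ℕ, (∀ j ∈ w, j < 2) →
    evalW (fun j => A j * u j) w = evalW A w * (u 0 ^ w.count 0 * u 1 ^ w.count 1)
  | [], _ => by simp [evalW]
  | j :: w, h => by
    have hc : ∀ (j : ℕ) (n : ℕ) (g : Γ), Commute (u j ^ n) g := fun j n g => Commute.pow_left (hu j g) n
    rw [evalW, evalW, evalW_twist A u hu w fun k hk => h k (List.mem_cons_of_mem j hk)]
    have hmove : ∀ (W P v x y : Γ), Commute P x → P * v = y → W * P * (x * v) = W * x * y := by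
      intro W P v x y h1 h2
      rw [mul_assoc W P, ← mul_assoc P, h1.eq, mul_assoc x, h2, mul_assoc]
    obtain rfl | rfl : j = 0 ∨ j = 1 := by have := h j List.mem_cons_self; omega
    · rw [List.count_cons_self, List.count_cons_of_ne (by decide)]
      exact hmove _ _ _ _ _ ((hc 0 _ _).mul_left (hc 1 _ _))
        (by rw [mul_assoc, (hc 1 _ (u 0)).eq, ← mul_assoc, ← pow_succ])
    · rw [List.count_cons_self, List.count_cons_of_ne (by decide)]
      exact hmove _ _ _ _ _ ((hc 0 _ _).mul_left (hc 1 _ _)) (by rw [mul_assoc, ← pow_succ])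

theorem comm_central {c k d l : Γ} (hk : ∀ g, k * g = g * k) (hl : ∀ g, l * g = g * l) :
    ⁅c * k, d * l⁆ = ⁅c, d⁆ := by
  have e1 : ∀ y, ⁅c * k, y⁆ = ⁅c, y⁆ := fun y => by
    rw [commutatorElement_def, commutatorElement_def, show c * k * y * (c * k)⁻¹ = c * (k * y * k⁻¹) * c⁻¹ by group,
      hk y, mul_inv_cancel_right]
  rw [e1, commutatorElement_def, commutatorElement_def,
    show c * (d * l) * c⁻¹ * (d * l)⁻¹ = c * d * (l * c⁻¹ * l⁻¹) * d⁻¹ by group, hl c⁻¹, mul_inv_cancel_right]

/-- A stem extension splits over a perfect subgroup with trivial multiplier. -/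
theorem exists_section [Finite Γ] (σ : Γ →* G) (hσ : Cfsg.IsStemExtension σ) (H : Subgroup G)
    (hp : commutator ↥H = ⊤)
    (hH : ∀ (D : Subgroup Γ) (τ : D →* H), Cfsg.IsStemExtension τ → τ.ker = ⊥) :
    ∃ l : H →* Γ, ∀ h : H, σ (l h) = h := by
  obtain ⟨hs, hc, -⟩ := hσ
  obtain ⟨C, hC⟩ : ∃ C : Subgroup Γ, C = ⁅H.comap σ, H.comap σ⁆ := ⟨_, rfl⟩
  have hCle : C ≤ H.comap σ := hC ▸ Subgroup.commutator_le_self _
  have hmap : C.map σ = H := by
    rw [hC, Subgroup.map_commutator, Subgroup.map_comap_eq_self_of_surjective hs]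
    exact (Subgroup.map_subtype_commutator H).symm.trans (by rw [hp, ← MonoidHom.range_eq_map, Subgroup.range_subtype])
  obtain ⟨τ, hτ⟩ : ∃ τ : C →* H, ∀ c, (τ c : G) = σ c :=
    ⟨(σ.comp C.subtype).codRestrict H fun c => hCle c.2, fun _ => rfl⟩
  have hts : Function.Surjective τ := fun h => by
    obtain ⟨c, hc', e⟩ : (h : G) ∈ C.map σ := hmap.symm ▸ h.2
    exact ⟨⟨c, hc'⟩, Subtype.ext ((hτ _).trans e)⟩
  have hk : τ.ker ≤ Subgroup.center C := fun c hc' =>
    Subgroup.mem_center_iff.2 fun d => Subtype.ext (Subgroup.mem_center_iff.1 (hc (by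
      rw [MonoidHom.mem_ker, ← hτ, MonoidHom.mem_ker.1 hc', OneMemClass.coe_one])) d)
  have hperf : commutator C = ⊤ := by
    refine Subgroup.map_injective C.subtype_injective ?_
    rw [Subgroup.map_subtype_commutator, ← MonoidHom.range_eq_map, Subgroup.range_subtype]
    refine le_antisymm (Subgroup.commutator_le_self C) ?_
    conv_lhs => rw [hC]
    rw [Subgroup.commutator_le]
    intro x hx y hy
    have hdec : ∀ x ∈ H.comap σ, ∃ c ∈ C, ∃ k ∈ Subgroup.center Γ, x = c * k := by
      intro x hx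
      obtain ⟨c, hc', e⟩ : σ x ∈ C.map σ := hmap.symm ▸ hx
      exact ⟨c, hc', c⁻¹ * x, hc (by simp [e]), by group⟩
    obtain ⟨c, hc1, k, hk1, rfl⟩ := hdec x hx
    obtain ⟨d, hd1, l, hl1, rfl⟩ := hdec y hy
    rw [comm_central (fun g => (Subgroup.mem_center_iff.1 hk1 g).symm) fun g => (Subgroup.mem_center_iff.1 hl1 g).symm]
    exact Subgroup.commutator_mem_commutator hc1 hd1
  have hbot := hH C τ ⟨hts, hk, by rw [hperf]; exact le_top⟩
  obtain ⟨e, he⟩ : ∃ e : C ≃* H, ∀ c, e c = τ c :=
    ⟨MulEquiv.ofBijective τ ⟨(MonoidHom.ker_eq_bot_iff τ).1 hbot, hts⟩, fun _ => rfl⟩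
  exact ⟨C.subtype.comp e.symm.toMonoidHom, fun h => by
    show σ (e.symm h) = h
    rw [← hτ, ← he, e.apply_symm_apply]⟩

/-- The kernel element attached to every edge. -/
theorem exists_cocycle [Finite Γ] (σ : Γ →* G) (hσ : Cfsg.IsStemExtension σ)
    {X : Type*} [MulAction G X] (a : ℕ → G) (hgen : Subgroup.closure {a 0, a 1} = ⊤) (pts : ℕ → X) (n : ℕ)
    (hn : 0 < n) (act : ℕ → ℕ → ℕ) (hact : ∀ i < n, ∀ j < 2, act j i < n ∧ a j • pts i = pts (act j i))
    (h0 : ∀ i < n, pts i = pts 0 → i = 0) (par : ℕ → ℕ × ℕ)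
    (hpar : ∀ i, 0 < i → i < n → (par i).1 < 2 ∧ (par i).2 < i ∧ act (par i).1 (par i).2 = i)
    (l : MulAction.stabilizer G (pts 0) →* Γ) (hl : ∀ h, σ (l h) = h)
    (words : List (List ℕ)) (hlt : ∀ w ∈ words, ∀ j ∈ w, j < 2) (hrel : ∀ w ∈ words, evalW a w = 1)
    (hend : ∀ w ∈ words, ∀ i < n, endPt act w i = i) (m0 m1 : ℕ → ℤ)
    (hm : (∑ i ∈ Finset.range words.length, m0 i * (words.getD i []).count 0) = 1 ∧
      (∑ i ∈ Finset.range words.length, m0 i * (words.getD i []).count 1) = 0 ∧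
      (∑ i ∈ Finset.range words.length, m1 i * (words.getD i []).count 0) = 0 ∧
      (∑ i ∈ Finset.range words.length, m1 i * (words.getD i []).count 1) = 1) :
    ∃ (z C : ℕ → Additive σ.ker) (_ : ∀ x y : Additive σ.ker, x + y = y + x),
      (∀ i, 0 < i → i < n → z (2 * (par i).2 + (par i).1) = 0) ∧
      (∀ q < words.length, ∀ i < n, ((loopE act (words.getD q []) i).map z).sum = C q) ∧
      (∀ S : AddSubgroup (Additive σ.ker), (∀ e < 2 * n, z e ∈ S) → S = ⊤) ∧
      (∃ F : (ℕ → ℤ) → Additive σ.ker, (∀ m, F m = ((List.range words.length).map fun q => m q • C q).sum) ∧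
        F m0 = 0 ∧ F m1 = 0) := by
  classical
  obtain ⟨hs, hc, hd⟩ := hσ
  have cen : ∀ k : σ.ker, ∀ g : Γ, (k : Γ) * g = g * k := fun k g =>
    (Subgroup.mem_center_iff.1 (hc k.2) g).symm
  have hcomm : ∀ x y : Additive σ.ker, x + y = y + x := fun x y => Subtype.ext (cen x.toMul y.toMul)
  letI hAG : AddCommGroup (Additive σ.ker) := { (inferInstance : AddGroup (Additive σ.ker)) with add_comm := hcomm }
  choose A₀ hA₀ using fun j => hs (a j)
  have hker : ∀ q, evalW A₀ (words.getD q []) ∈ σ.ker := fun q => by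
    rw [MonoidHom.mem_ker, map_evalW, funext fun j => hA₀ j]
    rcases lt_or_ge q words.length with h | h
    · rw [List.getD_eq_getElem _ _ h]
      exact hrel _ (List.getElem_mem h)
    · rw [List.getD_eq_default _ _ h, evalW]
  obtain ⟨C₀, hC₀⟩ : ∃ C₀ : ℕ → Additive σ.ker, ∀ q, ((C₀ q).toMul : Γ) = evalW A₀ (words.getD q []) :=
    ⟨fun q => Additive.ofMul ⟨_, hker q⟩, fun _ => rfl⟩
  obtain ⟨U, hU⟩ : ∃ U : ℕ → Additive σ.ker, ∀ j, U j =
      - ∑ q ∈ Finset.range words.length, (if j = 0 then m0 q else m1 q) • C₀ q := ⟨_, fun _ => rfl⟩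
  obtain ⟨A, hAdef⟩ : ∃ A : ℕ → Γ, A = fun j => A₀ j * ((U j).toMul : Γ) := ⟨_, rfl⟩
  have hA : ∀ j, σ (A j) = a j := fun j => by
    rw [hAdef]; simp only [map_mul, hA₀]
    rw [show σ ((U j).toMul : Γ) = 1 from (U j).toMul.2, mul_one]
  obtain ⟨C, hCdef⟩ : ∃ C : ℕ → Additive σ.ker, ∀ q, C q = C₀ q +
      (((words.getD q []).count 0 : ℤ) • U 0 + ((words.getD q []).count 1 : ℤ) • U 1) := ⟨_, fun _ => rfl⟩
  have hgetlt : ∀ q, ∀ j ∈ words.getD q [], j < 2 := fun q j hj => by
    rcases lt_or_ge q words.length with h | h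
    · rw [List.getD_eq_getElem _ _ h] at hj
      exact hlt _ (List.getElem_mem h) j hj
    · rw [List.getD_eq_default _ _ h] at hj
      simp at hj
  have hCval : ∀ q, ((C q).toMul : Γ) = evalW A (words.getD q []) := fun q => by
    rw [hAdef, evalW_twist A₀ _ (fun j => cen (U j).toMul) _ (hgetlt q), hCdef, natCast_zsmul, natCast_zsmul,
      ← hC₀]
    rfl
  have hT : ∀ m, m ≤ n → ∃ T : ℕ → Γ, T 0 = 1 ∧ ∀ i, 0 < i → i < m → T i = A (par i).1 * T (par i).2 := by
    intro m
    induction m with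
    | zero => exact fun _ => ⟨fun _ => 1, rfl, fun i _ h => absurd h (Nat.not_lt_zero i)⟩
    | succ m ih =>
      intro hm
      obtain ⟨T, hT0, hT⟩ := ih (Nat.le_of_succ_le hm)
      rcases Nat.eq_zero_or_pos m with rfl | hpos
      · exact ⟨T, hT0, fun i h1 h2 => absurd h2 (by omega)⟩
      obtain ⟨hp1, hp2, -⟩ := hpar m hpos hm
      refine ⟨Function.update T m (A (par m).1 * T (par m).2), by
        rw [Function.update_of_ne (by omega)]; exact hT0, fun i h1 h2 => ?_⟩
      rcases Nat.lt_or_eq_of_le (Nat.le_of_lt_succ h2) with h3 | rfl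
      · obtain ⟨-, hp, -⟩ := hpar i h1 (by omega)
        rw [Function.update_of_ne (by omega), Function.update_of_ne (by omega), hT i h1 h3]
      · rw [Function.update_self, Function.update_of_ne (by omega)]
  obtain ⟨T, hT0, hTs⟩ := hT n le_rfl
  have htp : ∀ i < n, σ (T i) • pts 0 = pts i := by
    intro i
    induction i using Nat.strong_induction_on with
    | _ i ih =>
      intro hi
      rcases Nat.eq_zero_or_pos i with rfl | hpos
      · rw [hT0, map_one, one_smul]
      obtain ⟨hp1, hp2, hp3⟩ := hpar i hpos hi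
      rw [hTs i hpos hi, map_mul, mul_smul, ih _ hp2 (by omega), hA, (hact _ (by omega) _ hp1).2, hp3]
  have hstab : ∀ i < n, ∀ j < 2,
      (σ (T (act j i)))⁻¹ * (a j * σ (T i)) ∈ MulAction.stabilizer G (pts 0) := fun i hi j hj => by
    obtain ⟨h1, h2⟩ := hact i hi j hj
    rw [MulAction.mem_stabilizer_iff, mul_smul, mul_smul, htp i hi, h2, inv_smul_eq_iff, htp _ h1]
  have hz : ∀ e, ∃ z : Additive σ.ker, ∀ (hi : e / 2 < n),
      A (e % 2) * T (e / 2) =
        T (act (e % 2) (e / 2)) * l ⟨_, hstab (e / 2) hi (e % 2) (by omega)⟩ * (z.toMul : Γ) := by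
    intro e
    by_cases hi : e / 2 < n
    · refine ⟨Additive.ofMul ⟨(T (act (e % 2) (e / 2)) * l ⟨_, hstab (e / 2) hi (e % 2) (by omega)⟩)⁻¹ *
        (A (e % 2) * T (e / 2)), ?_⟩, fun _ => (mul_inv_cancel_left _ _).symm⟩
      rw [MonoidHom.mem_ker, map_mul, map_inv, map_mul, map_mul, hl, hA]
      simp
    · exact ⟨0, fun h => absurd h hi⟩
  choose z hz using hz
  have hstep : ∀ i < n, ∀ j < 2, ∃ h : MulAction.stabilizer G (pts 0),
      A j * T i = T (act j i) * l h * ((z (2 * i + j)).toMul : Γ) := fun i hi j hj => by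
    have e1 : (2 * i + j) / 2 = i := by omega
    have e2 : (2 * i + j) % 2 = j := by omega
    have := hz (2 * i + j) (by omega)
    simp only [e1, e2] at this
    exact ⟨_, this⟩
  have hloop : ∀ w : List ℕ, (∀ j ∈ w, j < 2) → ∀ i < n, endPt act w i < n ∧
      ∃ h : MulAction.stabilizer G (pts 0),
        evalW A w * T i = T (endPt act w i) * l h * ((((loopE act w i).map z).sum).toMul : Γ) := by
    intro w
    induction w with
    | nil => exact fun _ i hi => ⟨hi, 1, by simp [evalW, endPt, loopE]⟩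
    | cons j w ih =>
      intro hw i hi
      obtain ⟨h1, e1⟩ := hstep i hi j (hw j List.mem_cons_self)
      obtain ⟨hlt', h2, e2⟩ := ih (fun k hk => hw k (List.mem_cons_of_mem j hk)) (act j i)
        (hact i hi j (hw j List.mem_cons_self)).1
      refine ⟨hlt', h2 * h1, ?_⟩
      rw [evalW, mul_assoc, e1, ← mul_assoc, ← mul_assoc, e2, endPt, loopE, List.map_cons, List.sum_cons,
        map_mul, add_comm]
      simp only [mul_assoc]
      rw [← mul_assoc ((((loopE act w (act j i)).map z).sum).toMul : Γ) (l h1), cen, mul_assoc]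
      refine congrArg (fun t => T _ * (l h2 * (l h1 * t))) ?_
      rw [toMul_add, Subgroup.coe_mul, cen]
  refine ⟨z, C, hcomm, ?_, ?_, ?_, ?_⟩
  · intro i hpos hi
    obtain ⟨hp1, hp2, hp3⟩ := hpar i hpos hi
    obtain ⟨h, e⟩ := hstep (par i).2 (by omega) _ hp1
    rw [hp3, ← hTs i hpos hi] at e
    have e' := congrArg σ e
    rw [map_mul, map_mul, hl, show σ ((z (2 * (par i).2 + (par i).1)).toMul : Γ) = 1 from
      (z _).toMul.2, mul_one, left_eq_mul, OneMemClass.coe_eq_one] at e'
    rw [e', map_one, mul_one, left_eq_mul, OneMemClass.coe_eq_one] at e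
    exact toMul_eq_one.mp e
  · intro q hq i hi
    obtain ⟨-, h, e⟩ := hloop _ (hgetlt q) i hi
    rw [hend _ (by rw [List.getD_eq_getElem _ _ hq]; exact List.getElem_mem hq) i hi, ← hCval,
      cen (C q).toMul] at e
    have e' := congrArg σ e
    simp only [map_mul, hl] at e'
    rw [show σ ((C q).toMul : Γ) = 1 from (C q).toMul.2,
      show σ ((((loopE act (words.getD q []) i).map z).sum).toMul : Γ) = 1 from
        (((loopE act (words.getD q []) i).map z).sum).toMul.2, mul_one, mul_one, left_eq_mul,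
      OneMemClass.coe_eq_one] at e'
    rw [e', map_one, mul_one, mul_right_inj] at e
    exact Additive.toMul.injective (Subtype.ext e.symm)
  · intro S hS
    have hclos : Subgroup.closure {A 0, A 1} = ⊤ := by
      obtain ⟨K, hK⟩ : ∃ K, K = Subgroup.closure {A 0, A 1} := ⟨_, rfl⟩
      have hmapK : K.map σ = ⊤ := by
        rw [hK, MonoidHom.map_closure, Set.image_pair, hA, hA, hgen]
      have hdec : ∀ x : Γ, ∃ y ∈ K, ∃ k : σ.ker, x = y * k := fun x => by
        obtain ⟨y, hy, e⟩ : σ x ∈ K.map σ := hmapK ▸ Subgroup.mem_top _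
        exact ⟨y, hy, ⟨y⁻¹ * x, by simp [e]⟩, by simp⟩
      have hd' : commutator Γ ≤ K := by
        rw [commutator_eq_closure, Subgroup.closure_le]
        rintro _ ⟨x, y, rfl⟩
        obtain ⟨x', hx', k, rfl⟩ := hdec x
        obtain ⟨y', hy', k', rfl⟩ := hdec y
        have : ⁅x' * (k : Γ), y' * (k' : Γ)⁆ = ⁅x', y'⁆ := comm_central (cen k) (cen k')
        rw [SetLike.mem_coe, this]
        exact mul_mem (mul_mem (mul_mem hx' hy') (inv_mem hx')) (inv_mem hy')
      rw [← hK, eq_top_iff]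
      intro x _
      obtain ⟨y, hy, k, rfl⟩ := hdec x
      exact mul_mem hy (hd' (hd k.2))
    have key : ∀ g ∈ Subgroup.closure {A 0, A 1}, ∀ i < n, ∀ (h : MulAction.stabilizer G (pts 0)), ∀ u ∈ S,
        ∃ i' < n, ∃ h', ∃ u' ∈ S, g * (T i * l h * ((u : Additive σ.ker).toMul : Γ)) =
          T i' * l h' * ((u' : Additive σ.ker).toMul : Γ) := by
      have base : ∀ j < 2, ∀ i < n, ∀ (h : MulAction.stabilizer G (pts 0)), ∀ u ∈ S,
          ∃ i' < n, ∃ h', ∃ u' ∈ S, A j * (T i * l h * ((u : Additive σ.ker).toMul : Γ)) =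
            T i' * l h' * ((u' : Additive σ.ker).toMul : Γ) := by
        intro j hj i hi h u hu
        obtain ⟨h1, e⟩ := hstep i hi j hj
        refine ⟨_, (hact i hi j hj).1, h1 * h, z (2 * i + j) + u, add_mem (hS _ (by omega)) hu, ?_⟩
        rw [← mul_assoc, ← mul_assoc, e, map_mul]
        simp only [mul_assoc]
        rw [← mul_assoc ((z (2 * i + j)).toMul : Γ) (l h), cen, mul_assoc]
        rfl
      intro g hg
      rw [← Subgroup.mem_toSubmonoid, Subgroup.closure_toSubmonoid_of_finite] at hg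
      induction hg using Submonoid.closure_induction_left with
      | one => exact fun i hi h u hu => ⟨i, hi, h, u, hu, one_mul _⟩
      | mul_left x hx y _ ih =>
        intro i hi h u hu
        obtain ⟨i', hi', h', u', hu', e⟩ := ih i hi h u hu
        obtain rfl | rfl := hx
        · obtain ⟨i'', hi'', h'', u'', hu'', e'⟩ := base 0 (by omega) i' hi' h' u' hu'
          exact ⟨i'', hi'', h'', u'', hu'', by rw [mul_assoc, e, e']⟩
        · obtain ⟨i'', hi'', h'', u'', hu'', e'⟩ := base 1 (by omega) i' hi' h' u' hu'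
          exact ⟨i'', hi'', h'', u'', hu'', by rw [mul_assoc, e, e']⟩
    rw [eq_top_iff]
    intro k _
    obtain ⟨i, hi, h, u, hu, e⟩ := key (k.toMul : Γ) (hclos ▸ Subgroup.mem_top _) 0 hn 1 0 (zero_mem S)
    rw [hT0, one_mul, map_one, one_mul, toMul_zero, OneMemClass.coe_one, mul_one] at e
    have e' := congrArg σ e
    simp only [map_mul, hl] at e'
    rw [show σ (k.toMul : Γ) = 1 from k.toMul.2, show σ (u.toMul : Γ) = 1 from u.toMul.2, mul_one] at e'
    have hi0 : i = 0 := h0 i hi (by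
      rw [← htp i hi]
      have : σ (T i) ∈ MulAction.stabilizer G (pts 0) := by
        rw [show σ (T i) = (h : G)⁻¹ from eq_inv_of_mul_eq_one_left e'.symm]
        exact inv_mem h.2
      exact this)
    rw [hi0, hT0, map_one, one_mul, eq_comm, OneMemClass.coe_eq_one] at e'
    rw [hi0, hT0, e', map_one, one_mul, one_mul] at e
    rwa [show k = u from Additive.toMul.injective (Subtype.ext e)]
  · refine ⟨_, fun _ => rfl, ?_, ?_⟩ <;> rw [← List.sum_toFinset _ List.nodup_range, List.toFinset_range]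
    · simp only [hCdef, smul_add, smul_smul, Finset.sum_add_distrib, ← Finset.sum_smul, hm.1, hm.2.1,
        one_smul, zero_smul, add_zero, hU 0, if_true, add_neg_cancel]
    · simp only [hCdef, smul_add, smul_smul, Finset.sum_add_distrib, ← Finset.sum_smul, hm.2.2.1, hm.2.2.2,
        one_smul, zero_smul, zero_add, hU 1, if_false, Nat.one_ne_zero, add_neg_cancel]

end Cfsg.Agent.Solv.StabCocycle
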