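import Mathlib

/-! Central extensions of perfect groups and the universal one. -/

set_option autoImplicit false
set_option linter.style.haveILetI false

open scoped commutatorElement

namespace Cfsg.Agent.Solv

universe u

theorem hom_unique_of_perfect {G X Q : Type*} [Group G] [Group X] [Group Q] (hG : Group.IsPerfect G)
    (ξ : X →* Q) (hc : ξ.ker ≤ Subgroup.center X) {η η' : G →* X} (h : ξ.comp η = ξ.comp η') : η = η' := by
  have hk : ∀ g : G, η g * (η' g)⁻¹ ∈ Subgroup.center X := fun g => hc (by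
    rw [MonoidHom.mem_ker, map_mul, map_inv, show ξ (η g) = ξ (η' g) from DFunLike.congr_fun h g,
      mul_inv_cancel])
  let d : G →* Subgroup.center X := MonoidHom.mk' (fun g => ⟨η g * (η' g)⁻¹, hk g⟩) fun a b => Subtype.ext (by
    show η (a * b) * (η' (a * b))⁻¹ = η a * (η' a)⁻¹ * (η b * (η' b)⁻¹)
    calc η (a * b) * (η' (a * b))⁻¹ = η a * (η b * (η' b)⁻¹) * (η' a)⁻¹ := by
          rw [map_mul, map_mul]; group
      _ = (η b * (η' b)⁻¹) * η a * (η' a)⁻¹ := by rw [Subgroup.mem_center_iff.1 (hk b) (η a)]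
      _ = (η b * (η' b)⁻¹) * (η a * (η' a)⁻¹) := by group
      _ = _ := (Subgroup.mem_center_iff.1 (hk b) _).symm)
  have hd : d = 1 := by
    ext g
    have hle : commutator G ≤ d.ker := by
      rw [commutator_def, Subgroup.commutator_le]
      intro a _ b _
      rw [MonoidHom.mem_ker, map_commutatorElement, commutatorElement_eq_one_iff_mul_comm]
      exact Subtype.ext (Subgroup.mem_center_iff.1 (d b).2 _)
    exact congrArg Subtype.val (hle hG.mem_commutator)
  ext g
  exact mul_inv_eq_one.1 (congrArg Subtype.val (DFunLike.congr_fun hd g))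

theorem commutator_core {X Q : Type*} [Group X] [Group Q] [Finite Q] (hQ : Group.IsPerfect Q)
    (ξ : X →* Q) (hs : Function.Surjective ξ) (hc : ξ.ker ≤ Subgroup.center X) :
    Finite (commutator X) ∧ Group.IsPerfect (commutator X) ∧
      Function.Surjective (ξ.comp (commutator X).subtype) ∧
      Nat.card (commutatorSet (commutator X)) ≤ Nat.card Q * Nat.card Q := by
  have key : ∀ x y : X, ⁅x, y⁆ = ⁅Function.surjInv hs (ξ x), Function.surjInv hs (ξ y)⁆ := by
    intro x y
    have h : ∀ x : X, ∃ z ∈ Subgroup.center X, x = Function.surjInv hs (ξ x) * z := fun x =>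
      ⟨(Function.surjInv hs (ξ x))⁻¹ * x, hc (by
        rw [MonoidHom.mem_ker, map_mul, map_inv, Function.surjInv_eq hs, inv_mul_cancel]), by group⟩
    obtain ⟨z, hz, hxz⟩ := h x
    obtain ⟨w, hw, hyw⟩ := h y
    have e1 : ∀ (a b : X) (c : X), c ∈ Subgroup.center X → ⁅a * c, b⁆ = ⁅a, b⁆ := fun a b c hc => by
      rw [show ⁅a * c, b⁆ = a * (c * b) * c⁻¹ * a⁻¹ * b⁻¹ by simp only [commutatorElement_def]; group,
        ← Subgroup.mem_center_iff.1 hc b, commutatorElement_def]
      group
    conv_lhs => rw [hxz, hyw]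
    rw [e1 _ _ _ hz, ← commutatorElement_inv, e1 _ _ _ hw, commutatorElement_inv]
  have hfin : Finite (commutatorSet X) := by
    refine Set.Finite.to_subtype ((Set.finite_range fun p : Q × Q =>
      ⁅Function.surjInv hs p.1, Function.surjInv hs p.2⁆).subset ?_)
    rintro _ ⟨x, y, rfl⟩
    exact ⟨(ξ x, ξ y), (key x y).symm⟩
  have hsurj : Function.Surjective (ξ.comp (commutator X).subtype) := by
    intro q
    have hq : q ∈ (commutator X).map ξ := by
      rw [commutator_def, Subgroup.map_commutator, ← MonoidHom.range_eq_map,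
        ξ.range_eq_top_of_surjective hs, ← commutator_def, hQ.commutator_eq_top]
      exact Subgroup.mem_top q
    obtain ⟨x, hx, rfl⟩ := hq
    exact ⟨⟨x, hx⟩, rfl⟩
  refine ⟨inferInstance, ?_, hsurj, ?_⟩
  · rw [Subgroup.isPerfect_iff]
    refine le_antisymm (Subgroup.commutator_le_self _) ?_
    conv_lhs => rw [commutator_def]
    rw [Subgroup.commutator_le]
    intro x _ y _
    obtain ⟨a, ha⟩ := hsurj (ξ x)
    obtain ⟨b, hb⟩ := hsurj (ξ y)
    have ha : ξ (a : X) = ξ x := ha
    have hb : ξ (b : X) = ξ y := hb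
    rw [key x y, ← ha, ← hb, ← key (a : X) (b : X)]
    exact Subgroup.commutator_mem_commutator a.2 b.2
  · rw [← Nat.card_prod]
    let s : Q → commutator X := Function.surjInv hsurj
    refine Nat.card_le_card_of_surjective (fun p : Q × Q =>
      (⟨⁅s p.1, s p.2⁆, s p.1, s p.2, rfl⟩ : commutatorSet (commutator X))) ?_
    rintro ⟨_, a, b, rfl⟩
    refine ⟨(ξ a, ξ b), Subtype.ext (Subtype.ext ?_)⟩
    show ⁅(s (ξ a) : X), (s (ξ b) : X)⁆ = ⁅(a : X), (b : X)⁆
    rw [key, key (a : X) (b : X), show ξ (s (ξ a) : X) = ξ a from Function.surjInv_eq hsurj _,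
      show ξ (s (ξ b) : X) = ξ b from Function.surjInv_eq hsurj _]

/-- The commutator of the fibre product of two central extensions. -/
theorem exists_common_cover {Q : Type*} {G X : Type u} [Group Q] [Group G] [Group X] [Finite Q]
    (hQ : Group.IsPerfect Q) (hG : Group.IsPerfect G) (π : G →* Q) (hπ : Function.Surjective π)
    (hπc : π.ker ≤ Subgroup.center G) (ξ : X →* Q) (hξ : Function.Surjective ξ)
    (hξc : ξ.ker ≤ Subgroup.center X) :
    ∃ (D : Type u) (_ : Group D) (_ : Finite D) (ψ : D →* G) (φ : D →* X),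
      Group.IsPerfect D ∧ Function.Surjective ψ ∧ π.comp ψ = ξ.comp φ ∧
      (π.comp ψ).ker ≤ Subgroup.center D := by
  let P : Subgroup (G × X) := MonoidHom.eqLocus (π.comp (MonoidHom.fst G X)) (ξ.comp (MonoidHom.snd G X))
  let τ : P →* Q := (π.comp (MonoidHom.fst G X)).comp P.subtype
  have hτs : Function.Surjective τ := fun q => by
    obtain ⟨g, rfl⟩ := hπ q
    obtain ⟨x, hx⟩ := hξ (π g)
    exact ⟨⟨(g, x), hx.symm⟩, rfl⟩
  have hτc : τ.ker ≤ Subgroup.center P := by
    intro d hd
    have h1 : π (d : G × X).1 = 1 := hd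
    have h2 : ξ (d : G × X).2 = 1 := by
      have := d.2
      exact (this : π (d : G × X).1 = ξ (d : G × X).2).symm.trans h1
    rw [Subgroup.mem_center_iff]
    intro y
    exact Subtype.ext (Prod.ext (Subgroup.mem_center_iff.1 (hπc h1) _) (Subgroup.mem_center_iff.1 (hξc h2) _))
  obtain ⟨hf, hperf, hs, -⟩ := commutator_core hQ τ hτs hτc
  let ψ : commutator P →* G := ((MonoidHom.fst G X).comp P.subtype).comp (commutator P).subtype
  let φ : commutator P →* X := ((MonoidHom.snd G X).comp P.subtype).comp (commutator P).subtype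
  have hcomp : π.comp ψ = ξ.comp φ := MonoidHom.ext fun d => (d : P).2
  have hψ : Function.Surjective ψ := by
    rw [← MonoidHom.range_eq_top, ← top_le_iff, ← hG.commutator_eq_top, commutator_def,
      Subgroup.commutator_le]
    intro a _ b _
    obtain ⟨a', ha'⟩ := hs (π a)
    obtain ⟨b', hb'⟩ := hs (π b)
    refine ⟨⁅a', b'⁆, ?_⟩
    rw [map_commutatorElement]
    have e : ∀ (a : G) (a' : commutator P), τ (a' : P) = π a → ∃ z ∈ Subgroup.center G, ψ a' = a * z :=
      fun a a' h => ⟨a⁻¹ * ψ a', hπc (by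
        rw [MonoidHom.mem_ker, map_mul, map_inv, show π (ψ a') = π a from h, inv_mul_cancel]), by group⟩
    obtain ⟨z, hz, hza⟩ := e a a' ha'
    obtain ⟨w, hw, hwb⟩ := e b b' hb'
    rw [hza, hwb]
    have e1 : ∀ (a b c : G), c ∈ Subgroup.center G → ⁅a * c, b⁆ = ⁅a, b⁆ := fun a b c hc => by
      rw [show ⁅a * c, b⁆ = a * (c * b) * c⁻¹ * a⁻¹ * b⁻¹ by simp only [commutatorElement_def]; group,
        ← Subgroup.mem_center_iff.1 hc b, commutatorElement_def]
      group
    rw [e1 _ _ _ hz, ← commutatorElement_inv, e1 _ _ _ hw, commutatorElement_inv]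
  refine ⟨commutator P, inferInstance, hf, ψ, φ, hperf, hψ, hcomp, fun d hd => ?_⟩
  rw [Subgroup.mem_center_iff]
  intro y
  exact Subtype.ext (Subgroup.mem_center_iff.1 (hτc (show τ (d : P) = 1 from hd)) _)

theorem exists_universal {Q : Type u} [Group Q] [Finite Q] (hQ : Group.IsPerfect Q) :
    ∃ (G : Type u) (_ : Group G) (_ : Finite G) (π : G →* Q), Group.IsPerfect G ∧ Function.Surjective π ∧
      π.ker ≤ Subgroup.center G ∧ ∀ (X : Type u) [Group X] (ξ : X →* Q), Function.Surjective ξ →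
        ξ.ker ≤ Subgroup.center X → ∃! η : G →* X, ξ.comp η = π := by
  classical
  let S : Set ℕ := {k | ∃ (G : Type u) (_ : Group G) (_ : Finite G) (π : G →* Q), Group.IsPerfect G ∧
    Function.Surjective π ∧ π.ker ≤ Subgroup.center G ∧ Nat.card G = k}
  set N := Nat.card Q * Nat.card Q
  have hbdd : BddAbove S := by
    refine ⟨(Finset.range (N + 1)).sup fun i => Subgroup.cardCommutatorBound i, ?_⟩
    rintro k ⟨G, i1, i2, π, hG, hπ, hc, rfl⟩
    obtain ⟨-, -, -, hb⟩ := commutator_core hQ π hπ hc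
    have htop := hG.commutator_eq_top
    have hb' : Nat.card (commutatorSet G) ≤ N := by
      refine le_trans ?_ hb
      refine Nat.card_le_card_of_surjective
        (fun c : commutatorSet (commutator G) => (⟨((c : commutator G) : G), ?_⟩ : commutatorSet G)) ?_
      · obtain ⟨a, b, hab⟩ := c.2
        exact ⟨a, b, by rw [← hab]; rfl⟩
      · rintro ⟨_, a, b, rfl⟩
        exact ⟨⟨⁅(⟨a, hG.mem_commutator⟩ : commutator G), ⟨b, hG.mem_commutator⟩⁆, _, _, rfl⟩, rfl⟩
    refine le_trans ?_ (Finset.le_sup (f := fun i => Subgroup.cardCommutatorBound i)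
      (Finset.mem_range.2 (Nat.lt_succ_of_le hb')))
    have h := Subgroup.card_commutator_le_of_finite_commutatorSet G
    rwa [htop, Subgroup.card_top] at h
  have hne : S.Nonempty := ⟨_, Q, inferInstance, inferInstance, MonoidHom.id Q, hQ, Function.surjective_id,
    by rw [MonoidHom.ker_id]; exact bot_le, rfl⟩
  obtain ⟨G, i1, i2, π, hG, hπ, hπc, hcard⟩ := Nat.sSup_mem hne hbdd
  refine ⟨G, i1, i2, π, hG, hπ, hπc, fun X _ ξ hξ hξc => ?_⟩
  obtain ⟨D, j1, j2, ψ, φ, hD, hψ, hcomp, hDc⟩ := exists_common_cover hQ hG π hπ hπc ξ hξ hξc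
  have hle : Nat.card D ≤ Nat.card G := hcard ▸ le_csSup hbdd
    ⟨D, j1, j2, π.comp ψ, hD, hπ.comp hψ, hDc, rfl⟩
  have hbij : Function.Bijective ψ :=
    hψ.bijective_of_nat_card_le hle
  let e : D ≃* G := MulEquiv.ofBijective ψ hbij
  refine ⟨φ.comp e.symm.toMonoidHom, MonoidHom.ext fun g => ?_, fun η hη =>
    hom_unique_of_perfect hG ξ hξc (hη.trans (MonoidHom.ext fun g => ?_).symm)⟩
  all_goals
    show ξ (φ (e.symm g)) = π g
    have h1 : ψ (e.symm g) = g := e.apply_symm_apply g
    rw [← show π (ψ (e.symm g)) = ξ (φ (e.symm g)) from DFunLike.congr_fun hcomp _, h1]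

end Cfsg.Agent.Solv
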