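import Mathlib
import Cfsg.Prelude.Def_Transfer
import Cfsg.Prelude.Def_LocalStructure
import Cfsg.Agent.Lib.Solv.Coprime

/-! Extensions of a minimal normal elementary abelian `q`-group by a group of prime order. -/

set_option autoImplicit false
set_option linter.style.haveILetI false

open scoped Pointwise

namespace Cfsg.Agent.Solv

universe u

theorem card_le_of_pow_eq_self {R : Type*} [CommRing R] [IsDomain R] [Finite R] {N : ℕ} (hN : 1 < N)
    (h : ∀ r : R, r ^ N = r) : Nat.card R ≤ N := by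
  have := Fintype.ofFinite R
  have hdeg : (Polynomial.X ^ N - Polynomial.X : Polynomial R).natDegree = N := by
    rw [Polynomial.natDegree_sub_eq_left_of_natDegree_lt
      (by rw [Polynomial.natDegree_X_pow, Polynomial.natDegree_X]; exact hN), Polynomial.natDegree_X_pow]
  have hne : (Polynomial.X ^ N - Polynomial.X : Polynomial R) ≠ 0 := fun h0 => by
    rw [h0, Polynomial.natDegree_zero] at hdeg; omega
  have hall : (Finset.univ : Finset R).val ⊆ (Polynomial.X ^ N - Polynomial.X : Polynomial R).roots := by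
    intro r _
    rw [Polynomial.mem_roots hne, Polynomial.IsRoot, Polynomial.eval_sub, Polynomial.eval_pow,
      Polynomial.eval_X, h r, sub_self]
  rw [Nat.card_eq_fintype_card, ← hdeg]
  exact (Multiset.card_le_card ((Multiset.le_iff_subset Finset.univ.nodup).2 hall)).trans
    (Polynomial.card_roots' _)

set_option maxHeartbeats 1600000 in
/-- An endomorphism of prime order `p` acting irreducibly on a `q`-group. -/
theorem irreducible_card {A : Type*} [CommGroup A] [Finite A] [Nontrivial A] {p q : ℕ} [Fact p.Prime]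
    [Fact q.Prime] (hpq : q ≠ p) (hA : ∀ a : A, a ^ q = 1) (c : MulAut A) (hc : c ^ p = 1)
    (hfix : ∀ a : A, c a = a → a = 1)
    (hirr : ∀ B : Subgroup A, (∀ b ∈ B, c b ∈ B) → B = ⊥ ∨ B = ⊤) :
    Nat.card A = q ^ orderOf (q : ZMod p) := by
  classical
  let M := Additive A
  let f : AddMonoid.End M := MonoidHom.toAdditive c.toMonoidHom
  have hf : ∀ (j : ℕ) (v : A), ((f ^ j) (Additive.ofMul v)) = Additive.ofMul ((c ^ j) v) := by
    intro j
    induction j with
    | zero => intro v; simp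
    | succ j ih =>
      intro v
      rw [pow_succ', pow_succ', AddMonoid.End.coe_mul, Function.comp_apply, ih, MulAut.mul_apply]
      rfl
  have hfp : f ^ p = 1 := by
    ext x
    obtain ⟨v, rfl⟩ := Additive.ofMul.surjective x
    rw [hf, hc]; rfl
  let R : Subring (AddMonoid.End M) := Subring.closure {f}
  haveI : IsMulCommutative R := Subring.isMulCommutative_closure fun x hx y hy => by
    rw [Set.mem_singleton_iff.1 hx, Set.mem_singleton_iff.1 hy]
  have hfR : f ∈ R := Subring.subset_closure rfl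
  have hcomm : ∀ (r : R) (x : M), (r : AddMonoid.End M) (f x) = f ((r : AddMonoid.End M) x) := by
    intro r x
    have h := congrArg (fun t : R => (t : AddMonoid.End M) x) (mul_comm' r ⟨f, hfR⟩)
    exact h
  have hsub : ∀ B : AddSubgroup M, (∀ x ∈ B, f x ∈ B) → B = ⊥ ∨ B = ⊤ := by
    intro B hB
    rcases hirr (AddSubgroup.toSubgroup' B) (fun b hb => hB _ hb) with h | h
    · left
      rw [eq_bot_iff]
      intro x hx
      obtain ⟨v, rfl⟩ := Additive.ofMul.surjective x
      have h2 : v ∈ (⊥ : Subgroup A) := h.le hx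
      rw [Subgroup.mem_bot.1 h2]; rfl
    · right
      rw [eq_top_iff]
      intro x _
      obtain ⟨v, rfl⟩ := Additive.ofMul.surjective x
      exact h.ge (Subgroup.mem_top v)
  have hinj : ∀ r : R, r ≠ 0 → ∀ x : M, (r : AddMonoid.End M) x = 0 → x = 0 := by
    intro r hr x hx
    rcases hsub (r : AddMonoid.End M).ker (fun y hy => by
      show (r : AddMonoid.End M) (f y) = 0
      rw [hcomm, show (r : AddMonoid.End M) y = 0 from hy, map_zero]) with h | h
    · exact (AddSubgroup.mem_bot).1 (h.le hx)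
    · have h0 : (r : AddMonoid.End M) = 0 := AddMonoidHom.ext fun y => h.ge (AddSubgroup.mem_top y)
      exact absurd (Subtype.ext h0) hr
  obtain ⟨a₀, ha₀⟩ := exists_ne (0 : M)
  let ev : R →+ M :=
    { toFun := fun r => (r : AddMonoid.End M) a₀
      map_zero' := rfl
      map_add' := fun _ _ => rfl }
  have hev : Function.Injective ev := (injective_iff_map_eq_zero ev).2 fun r hr => by
    by_contra h; exact ha₀ (hinj r h a₀ hr)
  have hsurj : Function.Surjective ev := by
    rcases hsub ev.range (by rintro _ ⟨r, rfl⟩; exact ⟨⟨f, hfR⟩ * r, rfl⟩) with h | h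
    · exact absurd ((AddSubgroup.mem_bot).1 (h.le ⟨1, rfl⟩)) ha₀
    · exact fun y => h.ge (AddSubgroup.mem_top y)
  have hcard : Nat.card R = Nat.card A :=
    (Nat.card_eq_of_bijective ev ⟨hev, hsurj⟩).trans (Nat.card_congr Additive.toMul)
  haveI : Finite R := Nat.finite_of_card_ne_zero (hcard ▸ Nat.card_pos.ne')
  haveI : Nontrivial R := ⟨0, 1, fun h => ha₀ (congrArg (fun t : R => (t : AddMonoid.End M) a₀) h).symm⟩
  haveI : NoZeroDivisors R := ⟨fun {a b} hab => or_iff_not_imp_left.2 fun ha =>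
    hev (show ev b = ev 0 by
      rw [map_zero]
      exact hinj a ha _ (congrArg (fun t : R => (t : AddMonoid.End M) a₀) hab))⟩
  haveI : IsDomain R := NoZeroDivisors.to_isDomain R
  letI : CommRing R := { (inferInstance : Ring R) with mul_comm := fun x y => mul_comm' x y }
  have hq1 : (q : R) = 0 := hev (show ev (q : R) = ev 0 by
    rw [map_zero]
    show ((q : R) : AddMonoid.End M) a₀ = 0
    rw [SubringClass.coe_natCast, AddMonoid.End.natCast_apply]
    exact congrArg Additive.ofMul (hA (Additive.toMul a₀)))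
  haveI : CharP R q := (CharP.charP_iff_prime_eq_zero Fact.out).2 hq1
  set d := orderOf (q : ZMod p) with hd
  have hq0 : (q : ZMod p) ≠ 0 := fun h =>
    hpq ((Nat.prime_dvd_prime_iff_eq Fact.out Fact.out).1 ((ZMod.natCast_eq_zero_iff q p).1 h)).symm
  have hdpos : 0 < d := by
    haveI : NeZero p := ⟨(Fact.out : p.Prime).ne_zero⟩
    rw [hd]
    exact orderOf_pos_iff.2 (isOfFinOrder_iff_pow_eq_one.2
      ⟨p - 1, Nat.sub_pos_of_lt (Fact.out : p.Prime).one_lt, ZMod.pow_card_sub_one_eq_one hq0⟩)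
  set Φ : R →+* R := iterateFrobenius R q d
  have hΦf : Φ ⟨f, hfR⟩ = ⟨f, hfR⟩ := by
    refine Subtype.ext ?_
    show (((⟨f, hfR⟩ : R) ^ q ^ d : R) : AddMonoid.End M) = f
    rw [SubmonoidClass.coe_pow]
    obtain ⟨t, ht⟩ : p ∣ q ^ d - 1 := by
      rw [← ZMod.natCast_eq_zero_iff, Nat.cast_sub (Nat.one_le_pow _ _ (Fact.out : q.Prime).pos),
        Nat.cast_pow, hd, pow_orderOf_eq_one, Nat.cast_one, sub_self]
    have h1 : q ^ d = p * t + 1 := by
      have := Nat.one_le_pow d q (Fact.out : q.Prime).pos; omega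
    rw [h1, pow_succ, pow_mul, hfp, one_pow, one_mul]
  have hΦ : ∀ r : R, r ^ q ^ d = r := by
    rintro ⟨r, hr⟩
    show Φ ⟨r, hr⟩ = ⟨r, hr⟩
    induction hr using Subring.closure_induction with
    | mem x hx => have hx' := Set.mem_singleton_iff.1 hx; subst hx'; exact hΦf
    | zero => exact map_zero Φ
    | one => exact map_one Φ
    | add x y hx hy ihx ihy => exact (map_add Φ ⟨x, hx⟩ ⟨y, hy⟩).trans (by rw [ihx, ihy]; try rfl)
    | neg x hx ih => exact (map_neg Φ ⟨x, hx⟩).trans (by rw [ih]; try rfl)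
    | mul x y hx hy ihx ihy => exact (map_mul Φ ⟨x, hx⟩ ⟨y, hy⟩).trans (by rw [ihx, ihy]; try rfl)
  have hle : Nat.card A ≤ q ^ d := by
    have hlt : 1 < q ^ d := Nat.one_lt_pow hdpos.ne' (Fact.out : q.Prime).one_lt
    exact hcard ▸ card_le_of_pow_eq_self hlt hΦ
  -- the lower bound
  have hAq : IsPGroup q A := fun a => ⟨1, by rw [pow_one]; exact hA a⟩
  obtain ⟨n, hn⟩ := IsPGroup.iff_card.1 hAq
  have hn0 : n ≠ 0 := by
    rintro rfl
    exact (Finite.one_lt_card (α := A)).ne' (by rw [hn, pow_zero])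
  have hdn : d ∣ n := by
    refine orderOf_dvd_of_pow_eq_one ?_
    let act : MulAction (Subgroup.zpowers c) A := inferInstance
    have hp' : IsPGroup p (Subgroup.zpowers c) := by
      obtain ⟨k, -, hk⟩ := (Nat.dvd_prime_pow Fact.out).1
        (show orderOf c ∣ p ^ 1 by rw [pow_one]; exact orderOf_dvd_of_pow_eq_one hc)
      exact IsPGroup.of_card (n := k) (by rw [Nat.card_zpowers, hk])
    have hmod := hp'.card_modEq_card_fixedPoints A
    have h1 : Nat.card (MulAction.fixedPoints (Subgroup.zpowers c) A) = 1 := by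
      rw [Nat.card_eq_one_iff_unique]
      refine ⟨⟨fun a b => Subtype.ext ?_⟩, ⟨⟨1, fun g => map_one (g : MulAut A)⟩⟩⟩
      rw [hfix a.1 (a.2 ⟨c, Subgroup.mem_zpowers c⟩), hfix b.1 (b.2 ⟨c, Subgroup.mem_zpowers c⟩)]
    rw [h1, hn, ← ZMod.natCast_eq_natCast_iff] at hmod
    simpa using hmod
  rw [hn] at hle ⊢
  rw [show n = d from le_antisymm ((Nat.pow_le_pow_iff_right (Fact.out : q.Prime).one_lt).1 hle)
    (Nat.le_of_dvd (Nat.pos_of_ne_zero hn0) hdn)]

variable {G : Type u} [Group G]

theorem pclosed_of_normal [Finite G] {p : ℕ} [Fact p.Prime] (P : Subgroup G) [P.Normal] (hP : IsPGroup p P)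
    (hi : ¬ p ∣ P.index) : Cfsg.IsPClosed p G := by
  intro S
  obtain ⟨x, hx⟩ := MulAction.exists_smul_eq G (hP.toSylow hi) S
  haveI : ((hP.toSylow hi : Sylow p G) : Subgroup G).Normal := ‹P.Normal›
  rw [← hx, Sylow.smul_eq_of_normal]
  exact ‹P.Normal›

theorem pclosed_of_coprime [Finite G] {p : ℕ} [Fact p.Prime] (h : ¬ p ∣ Nat.card G) :
    Cfsg.IsPClosed p G :=
  pclosed_of_normal (⊥ : Subgroup G) IsPGroup.of_bot (by rwa [Subgroup.index_bot])

/-- A minimal nonabelian extension `A : C_p`. -/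
theorem min_ext [Finite G] {p q : ℕ} [Fact p.Prime] [Fact q.Prime] (hpq : q ≠ p)
    (A : Subgroup G) [A.Normal] (hA : Cfsg.IsElementaryAbelian q A) (hidx : A.index = p)
    (hna : ¬ IsMulCommutative G) (hmin : ∀ B : Subgroup G, B.Normal → B ≤ A → B = ⊥ ∨ B = A) :
    Nat.card A = q ^ orderOf (q : ZMod p) ∧
    (∀ P : Subgroup G, P.Normal → Nat.card P ≠ p) ∧
    (∀ H : Subgroup G, H ≠ ⊤ → p ∣ Nat.card H → Nat.card H = p) ∧
    (∀ N : Subgroup G, N.Normal → N ≠ ⊥ → A ≤ N) := by
  have hp : p.Prime := Fact.out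
  haveI := hA.1
  have hAne : A ≠ ⊥ := by
    intro h
    apply hna
    have hc : Nat.card G = p := by rw [← hidx, h, Subgroup.index_bot]
    haveI := isCyclic_of_prime_card hc
    exact ⟨⟨fun a b => mul_comm' a b⟩⟩
  have hAq : IsPGroup q A := fun a => ⟨1, Subtype.ext (by
    rw [pow_one, Subgroup.coe_pow]; exact hA.2 a a.2)⟩
  have hpA : ¬ p ∣ Nat.card A := by
    obtain ⟨k, hk⟩ := IsPGroup.iff_card.1 hAq
    rw [hk]
    exact fun h => hpq ((Nat.prime_dvd_prime_iff_eq hp Fact.out).1 (hp.dvd_of_dvd_pow h)).symm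
  have hAcoatom : ∀ H : Subgroup G, A < H → H = ⊤ := by
    intro H hH
    rw [← Subgroup.index_eq_one]
    rcases (Nat.dvd_prime hp).1 (hidx ▸ Subgroup.index_dvd_of_le hH.le) with h | h
    · exact h
    · have h1 := Subgroup.index_strictAnti hH (H := A) (K := H)
      omega
  have hnormA : ∀ H : Subgroup G, ¬ H ≤ A → H ⊓ A = ⊥ ∨ H = ⊤ := by
    intro H hH
    have htop : A ⊔ H = ⊤ := hAcoatom _ (lt_of_le_of_ne le_sup_left fun e => hH (e ▸ le_sup_right))
    haveI : (H ⊓ A).Normal := by
      refine Subgroup.normalizer_eq_top_iff.1 (top_le_iff.1 ?_)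
      rw [← htop]
      refine sup_le (fun a ha => Subgroup.mem_normalizer_iff.2 fun x => ?_) fun h hh => ?_
      · have key : x ∈ A → a * x * a⁻¹ = x := fun hx => by
          rw [setLike_mul_comm ha hx, mul_inv_cancel_right]
        refine ⟨fun hx => by rw [key hx.2]; exact hx, fun hx => ?_⟩
        have hxA : x ∈ A := by
          have := mul_mem (mul_mem (inv_mem ha) hx.2) ha
          simpa [mul_assoc] using this
        rwa [key hxA] at hx
      · exact mem_normalizer_of_conj_smul (by
          rw [Subgroup.smul_inf, Subgroup.conj_smul_eq_self_of_mem hh, Subgroup.Normal.conj_smul_eq_self])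
    rcases hmin _ this inf_le_right with h | h
    · exact Or.inl h
    · refine Or.inr (hAcoatom H (lt_of_le_of_ne (inf_eq_right.1 h) fun e => hH e.ge))
  have hnoP : ∀ P : Subgroup G, P.Normal → Nat.card P ≠ p := by
    intro P hP hPc
    have hdis : Disjoint P A := disjoint_iff.2 (coprime_inf (by rw [hPc]; exact hp.coprime_iff_not_dvd.2 hpA))
    have htop : A ⊔ P = ⊤ := hAcoatom _ (lt_of_le_of_ne le_sup_left fun e => by
      have h1 : P ≤ A := e ▸ le_sup_right
      exact hpA (hPc ▸ Subgroup.card_dvd_of_le h1))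
    haveI := isCyclic_of_prime_card hPc
    apply hna
    refine ⟨⟨fun a b => ?_⟩⟩
    have hC : ∀ x ∈ A ⊔ P, ∀ y ∈ A ⊔ P, x * y = y * x := by
      have hAP : ∀ x ∈ A, ∀ y ∈ P, x * y = y * x := fun x hx y hy =>
        (Subgroup.commute_of_normal_of_disjoint P A hP ‹A.Normal› hdis y x hy hx).eq.symm
      intro x hx y hy
      rw [Subgroup.mem_sup_of_normal_left] at hx hy
      obtain ⟨a, ha, b, hb, rfl⟩ := hx
      obtain ⟨a', ha', b', hb', rfl⟩ := hy
      have e1 : b * b' = b' * b := congrArg Subtype.val (mul_comm' (⟨b, hb⟩ : P) ⟨b', hb'⟩)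
      calc a * b * (a' * b') = a * (b * a') * b' := by group
        _ = a * a' * (b * b') := by rw [← hAP a' ha' b hb]; group
        _ = a' * a * (b' * b) := by rw [setLike_mul_comm ha ha', e1]
        _ = a' * (a * b') * b := by group
        _ = a' * b' * (a * b) := by rw [hAP a ha b' hb']; group
    exact hC a (htop.ge trivial) b (htop.ge trivial)
  refine ⟨?_, hnoP, ?_, ?_⟩
  · obtain ⟨x, hx⟩ := exists_prime_orderOf_dvd_card' (G := G) p (hidx ▸ A.index_dvd_card)
    have hxA : x ∉ A := fun h => hpA (hx ▸ Subgroup.orderOf_dvd_natCard A h)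
    have htop : A ⊔ Subgroup.zpowers x = ⊤ :=
      hAcoatom _ (lt_of_le_of_ne le_sup_left fun e => hxA ((le_sup_right.trans e.ge) (Subgroup.mem_zpowers x)))
    letI : CommGroup A := { (inferInstance : Group A) with mul_comm := fun a b => mul_comm' a b }
    haveI : Nontrivial A := (Subgroup.nontrivial_iff_ne_bot A).2 hAne
    set c : MulAut A := MulAut.conjNormal x with hc
    have hca : ∀ a : A, ((c a : A) : G) = x * a * x⁻¹ := fun a => rfl
    have hnormal : ∀ B : Subgroup G, B ≤ A → (∀ b ∈ B, x * b * x⁻¹ ∈ B) → B.Normal := by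
      intro B hBA hB
      refine Subgroup.normalizer_eq_top_iff.1 (top_le_iff.1 ?_)
      rw [← htop]
      refine sup_le (fun a ha => Subgroup.centralizer_le_normalizer _
        (Subgroup.mem_centralizer_iff.2 fun b hb => setLike_mul_comm (hBA hb) ha)) ?_
      rw [Subgroup.zpowers_le]
      refine mem_normalizer_of_conj_smul (Subgroup.eq_of_le_of_card_ge ?_ (by rw [card_conj_smul]))
      intro y hy
      rw [mem_conj_smul] at hy
      have := hB _ hy
      simpa [mul_assoc] using this
    refine irreducible_card hpq (fun a => Subtype.ext (by rw [Subgroup.coe_pow]; exact hA.2 a a.2)) c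
      (by rw [hc, ← map_pow, ← hx, pow_orderOf_eq_one, map_one]) ?_ ?_
    · intro a ha
      set B : Subgroup G := A ⊓ Subgroup.centralizer ({x} : Set G) with hB
      have hBn : B.Normal := hnormal B inf_le_left fun b hb => by
        rw [← Subgroup.mem_centralizer_singleton_iff.1 hb.2, mul_inv_cancel_right]; exact hb
      rcases hmin B hBn inf_le_left with h | h
      · have hmem : (a : G) ∈ B := Subgroup.mem_inf.2 ⟨a.2, Subgroup.mem_centralizer_singleton_iff.2
          (mul_inv_eq_iff_eq_mul.1 (congrArg Subtype.val ha)).symm⟩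
        rw [h, Subgroup.mem_bot] at hmem
        exact Subtype.ext hmem
      · exfalso
        refine hnoP (Subgroup.zpowers x) ?_ (by rw [Nat.card_zpowers, hx])
        refine Subgroup.normalizer_eq_top_iff.1 (top_le_iff.1 ?_)
        rw [← htop]
        refine sup_le (fun b hb => Subgroup.centralizer_le_normalizer _ ?_) Subgroup.le_normalizer
        rw [Subgroup.zpowers_eq_closure, Subgroup.centralizer_closure]
        exact (inf_eq_left.1 h) hb
    · intro B hB
      set B' := B.map A.subtype with hB'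
      have hBn : B'.Normal := hnormal B' (Subgroup.map_subtype_le B) (by
        rintro _ ⟨b, hb, rfl⟩
        exact ⟨c b, hB b hb, hca b⟩)
      rcases hmin B' hBn (Subgroup.map_subtype_le B) with h | h
      · exact Or.inl ((Subgroup.map_eq_bot_iff_of_injective B A.subtype_injective).1 h)
      · refine Or.inr (Subgroup.map_injective A.subtype_injective ?_)
        rw [← hB', h, ← MonoidHom.range_eq_map, Subgroup.range_subtype]
  · intro H hH hpH
    rcases hnormA H (fun h => hpA (hpH.trans (Subgroup.card_dvd_of_le h))) with h | h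
    · have h1 : Nat.card (A ⊔ H : Subgroup G) * 1 = Nat.card A * Nat.card H := by
        rw [mul_one]; exact card_sup_of_inf_eq_bot A H (inf_comm A H ▸ h)
      have h2 : Nat.card (A ⊔ H : Subgroup G) ∣ Nat.card A * p := by
        rw [← hidx, A.card_mul_index]; exact Subgroup.card_subgroup_dvd_card _
      rw [mul_one] at h1
      rw [h1] at h2
      rcases (Nat.dvd_prime hp).1 (Nat.dvd_of_mul_dvd_mul_left Nat.card_pos h2) with h3 | h3
      · rw [h3] at hpH; exact absurd (Nat.dvd_one.1 hpH) hp.ne_one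
      · exact h3
    · exact absurd h hH
  · intro N hN hNb
    haveI := hN
    rcases hmin (N ⊓ A) inferInstance inf_le_right with h | h
    · exfalso
      refine hnoP N hN ?_
      have h2 : Nat.card (A ⊔ N : Subgroup G) ∣ Nat.card A * p := by
        rw [← hidx, A.card_mul_index]; exact Subgroup.card_subgroup_dvd_card _
      rw [card_sup_of_inf_eq_bot A N (inf_comm A N ▸ h)] at h2
      exact ((Nat.dvd_prime hp).1 (Nat.dvd_of_mul_dvd_mul_left Nat.card_pos h2)).resolve_left
        fun h => hNb (Subgroup.card_eq_one.1 h)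
    · exact inf_eq_right.1 h

/-- A minimal configuration `N : C_p` in which `C_p` is normal in each proper overgroup. -/
theorem exists_min_ext [Finite G] {p : ℕ} [Fact p.Prime] (N : Subgroup G) [N.Normal]
    (hpN : ¬ p ∣ Nat.card N) (hidx : N.index = p)
    (hmin : ∀ K : Subgroup G, K.Normal → K ≤ N → K = ⊥ ∨ K = N)
    (hnn : ∀ P : Subgroup G, P.Normal → Nat.card P ≠ p)
    (hsub : ∀ H : Subgroup G, H ≠ ⊤ → ∀ P : Subgroup G, P ≤ H → Nat.card P = p →
      H ≤ Subgroup.normalizer (P : Set G)) :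
    ∃ q : ℕ, q.Prime ∧ q ≠ p ∧ Nat.card G = p * q ^ orderOf (q : ZMod p) ∧
      ∃ A : Subgroup G, A.Normal ∧ Nat.card A = q ^ orderOf (q : ZMod p) ∧ Cfsg.IsElementaryAbelian q A ∧
        ∀ B : Subgroup G, B.Normal → B ≤ A → B = ⊥ ∨ B = A := by
  have hp : p.Prime := Fact.out
  obtain ⟨x, hx⟩ := exists_prime_orderOf_dvd_card' (G := G) p (hidx ▸ N.index_dvd_card)
  set P := Subgroup.zpowers x with hPdef
  have hPc : Nat.card P = p := by rw [hPdef, Nat.card_zpowers, hx]
  have hco : (Nat.card P).Coprime (Nat.card N) := by rw [hPc]; exact hp.coprime_iff_not_dvd.2 hpN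
  have hNP : P ≤ Subgroup.normalizer (N : Set G) :=
    le_top.trans (Subgroup.normalizer_eq_top_iff.2 ‹N.Normal›).ge
  have hdis : N ⊓ P = ⊥ := coprime_inf hco.symm
  have hNPtop : N ⊔ P = ⊤ := by
    refine Subgroup.eq_top_of_card_eq _ ?_
    rw [card_sup_of_inf_eq_bot N P hdis, hPc, ← hidx, N.card_mul_index]
  have hPsol : Group.IsSolvable P := by
    haveI := isCyclic_of_prime_card hPc
    exact isSolvable_of_comm fun a b => mul_comm' a b
  -- `N` is a `q`-group
  obtain ⟨q, hq, hNq⟩ : ∃ q : ℕ, q.Prime ∧ IsPGroup q N := by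
    by_contra hno
    push Not at hno
    refine hnn P (Subgroup.normalizer_eq_top_iff.1 (top_le_iff.1 ?_)) hPc
    rw [← hNPtop]
    refine sup_le ?_ Subgroup.le_normalizer
    suffices hd : Nat.card N ∣ Nat.card (N ⊓ Subgroup.normalizer (P : Set G) : Subgroup G) from
      inf_eq_left.1 (Subgroup.eq_of_le_of_card_ge inf_le_left (Nat.le_of_dvd Nat.card_pos hd))
    rw [Nat.dvd_iff_prime_pow_dvd_dvd]
    intro q k hq hk
    haveI := Fact.mk hq
    obtain ⟨S, hS, hPS⟩ := exists_invariant_sylow hNP hco (Or.inl hPsol) q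
    refine dvd_trans ?_ (dvd_trans (dvd_of_eq hS.2.symm) (Subgroup.card_dvd_of_le (le_inf hS.1 ?_)))
    · exact pow_dvd_pow q ((hq.pow_dvd_iff_le_factorization Nat.card_pos.ne').1 hk)
    set H := S ⊔ P with hH
    have hHne : H ≠ ⊤ := by
      intro h
      refine hno q hq ?_
      have h2 : N ≤ S := by
        intro n hn
        have hn' : n ∈ S ⊔ P := h.ge (Subgroup.mem_top n)
        have h3 : n ∈ ((S : Set G) * (P : Set G)) := by
          rw [← Subgroup.coe_mul_of_right_le_normalizer_left S P hPS]; exact hn'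
        obtain ⟨s, hs, y, hy, rfl⟩ := h3
        have h4 : y ∈ N ⊓ P := ⟨by simpa using mul_mem (inv_mem (hS.1 hs)) hn, hy⟩
        rw [hdis, Subgroup.mem_bot] at h4
        subst h4
        simpa using hs
      exact hS.isPGroup.to_le h2
    exact le_sup_left.trans (hsub H hHne P le_sup_right hPc)
  haveI := Fact.mk hq
  have hNb : N ≠ ⊥ := fun h => by
    refine hnn ⊤ inferInstance ?_
    rw [Subgroup.card_top, ← hidx, h, Subgroup.index_bot]
  have hqp : q ≠ p := by
    rintro rfl
    obtain ⟨k, hk⟩ := IsPGroup.iff_card.1 hNq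
    rcases k with _ | k
    · exact hNb (Subgroup.card_eq_one.1 (by rw [hk, pow_zero]))
    · exact hpN (hk ▸ dvd_pow_self q k.succ_ne_zero)
  obtain ⟨hab, r, hr, hrexp, -⟩ := minimal_normal_elementaryAbelian N
    (by haveI := hNq.isNilpotent; exact IsNilpotent.to_isSolvable) hNb hmin
  have hrq : r = q := by
    obtain ⟨⟨y, hy⟩, hy1⟩ := Subgroup.ne_bot_iff_exists_ne_one.1 hNb
    obtain ⟨k, hk⟩ := IsPGroup.iff_orderOf.1 hNq ⟨y, hy⟩
    rw [Subgroup.orderOf_mk] at hk
    rcases (Nat.dvd_prime hr).1 (orderOf_dvd_of_pow_eq_one (hrexp y hy)) with h | h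
    · exact absurd (Subtype.ext (orderOf_eq_one_iff.1 h)) hy1
    · rw [h] at hk
      exact (Nat.prime_dvd_prime_iff_eq hr hq).1 (hr.dvd_of_dvd_pow (dvd_of_eq hk))
  subst hrq
  have hN : Cfsg.IsElementaryAbelian r N := ⟨hab, hrexp⟩
  have hna : ¬ IsMulCommutative G := fun h => hnn P
    ⟨fun a ha g => by rwa [mul_comm' g a, mul_inv_cancel_right]⟩ hPc
  obtain ⟨hc, -⟩ := min_ext hqp N hN hidx hna hmin
  exact ⟨r, hq, hqp, by rw [← N.card_mul_index, hidx, hc, mul_comm], N, inferInstance, hc, hN, hmin⟩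

end Cfsg.Agent.Solv
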