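import Cfsg.Agent.Lib.Solv.FixedGen
import Cfsg.Agent.Lib.Fusion.LBalanceTwoApply
import Cfsg.Agent.Lib.Fusion.CoreComponents
import Cfsg.Agent.Lib.Fusion.PComponentIntrinsic
import Cfsg.Agent.Lib.Fusion.PComponentUnique

/-!
Goldschmidt's functor of a core-separated pair of four-groups is balanced (given that groups of odd order
are solvable): the point is that `C_Y(A₁) ≤ O(C(A₁))` for `Y = [O(C(a)), A₁]`.
-/

set_option autoImplicit false
set_option linter.style.haveILetI false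
set_option linter.unusedSectionVars false

open Cfsg Cfsg.Agent Cfsg.Agent.Fusion
open scoped commutatorElement Pointwise

namespace Cfsg.Agent.Solv.CoreSep

universe u

/-! ### Inside one group modulo its core -/

section Mod

variable {X : Type u} [Group X] [Finite X]

local notation "πq" => QuotientGroup.mk' (Cfsg.pPrimeCore 2 X)

theorem lift_centralizer {T : Subgroup X} (hT : IsPGroup 2 T) {v : X ⧸ Cfsg.pPrimeCore 2 X}
    (hv : ∀ t ∈ T, πq t * v = v * πq t) : ∃ n ∈ Subgroup.centralizer (T : Set X), πq n = v := by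
  haveI : Fact (Nat.Prime 2) := ⟨Nat.prime_two⟩
  obtain ⟨n, hn, rfl⟩ := exists_preimage_normalizer (p := 2) (card_pPrimeCore_coprime 2 X) hT
    (Subgroup.centralizer_le_normalizer _ (Subgroup.mem_centralizer_iff.2 (by
      rintro _ ⟨t, ht, rfl⟩; exact hv t ht)) : v ∈ Subgroup.normalizer (T.map πq : Set _))
  refine ⟨n, Subgroup.mem_centralizer_iff.2 fun t ht => ?_, rfl⟩
  have hm : n * t * n⁻¹ * t⁻¹ ∈ Cfsg.pPrimeCore 2 X ⊓ T := Subgroup.mem_inf.2 ⟨by
      rw [← QuotientGroup.eq_one_iff, ← QuotientGroup.mk'_apply, map_mul, map_mul, map_mul, map_inv, map_inv, ← hv t ht]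
      group,
    mul_mem ((Subgroup.mem_normalizer_iff.1 hn t).1 ht) (inv_mem ht)⟩
  rw [coprime_inf_pGroup (card_pPrimeCore_coprime 2 X) hT, Subgroup.mem_bot, mul_inv_eq_one,
    mul_inv_eq_iff_eq_mul] at hm
  exact hm.symm

theorem zpowers_two {a : X} (ha : a ^ 2 = 1) : IsPGroup 2 (Subgroup.zpowers a) := by
  haveI : Fact (Nat.Prime 2) := ⟨Nat.prime_two⟩
  obtain ⟨j, -, hj⟩ := (Nat.dvd_prime_pow Nat.prime_two).1 (by
    rw [pow_one]; exact orderOf_dvd_of_pow_eq_one ha : orderOf a ∣ 2 ^ 1)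
  exact IsPGroup.of_card (n := j) (by rw [Nat.card_zpowers, hj])

theorem cent_zpowers (a : X) :
    Subgroup.centralizer (Subgroup.zpowers a : Set X) = Subgroup.centralizer ({a} : Set X) := by
  rw [Subgroup.zpowers_eq_closure, Subgroup.centralizer_closure]

variable {a : X} (ha : a ^ 2 = 1) {W : Subgroup X} (hWa : W ≤ Subgroup.centralizer {a})
  (hWn : Subgroup.centralizer {a} ≤ Subgroup.normalizer (W : Set X)) (hW : (Nat.card W).Coprime 2)
include ha hWa hWn hW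

theorem image_core : W.map πq ≤ Cfsg.centralizerPPrimeCore 2 (πq a) := by
  have hle : W.map πq ≤ Subgroup.centralizer {πq a} := by
    rintro _ ⟨w, hw, rfl⟩
    rw [Subgroup.mem_centralizer_singleton_iff, ← map_mul, ← map_mul,
      Subgroup.mem_centralizer_singleton_iff.1 (hWa hw)]
  haveI : ((W.map πq).subgroupOf (Subgroup.centralizer {πq a})).Normal := by
    refine (Subgroup.normal_subgroupOf_iff_le_normalizer hle).2 fun v hv => ?_
    obtain ⟨n, hn, rfl⟩ := lift_centralizer (T := Subgroup.zpowers a) (zpowers_two ha) (v := v) fun t ht => by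
      obtain ⟨k, rfl⟩ := Subgroup.mem_zpowers_iff.1 ht
      rw [map_zpow]
      exact ((show Commute v (πq a) from Subgroup.mem_centralizer_singleton_iff.1 hv).zpow_right k).symm.eq
    exact Subgroup.le_normalizer_map _ ⟨n, hWn (cent_zpowers a ▸ hn), rfl⟩
  rw [Cfsg.centralizerPPrimeCore, ← Subgroup.map_subgroupOf_eq_of_le hle]
  refine Subgroup.map_mono (le_pPrimeCore ?_)
  rw [Solv.card_subgroupOf hle]
  exact hW.coprime_dvd_left (Subgroup.card_map_dvd _ _)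

theorem mem_core {x : X} (hx : x ∈ W)
    (h : ∀ J : Subgroup (X ⧸ Cfsg.pPrimeCore 2 X), Cfsg.IsComponent J →
      πq x ∈ Subgroup.centralizer (J : Set (X ⧸ Cfsg.pPrimeCore 2 X))) : x ∈ Cfsg.pPrimeCore 2 X := by
  haveI : Fact (Nat.Prime 2) := ⟨Nat.prime_two⟩
  have h1 := CoreComp.eq_bot_of_centralizes_components (p := 2) pPrimeCore_quotient_eq_bot
    (a := πq a) (by rw [← map_pow, ha, map_one]) (Y := Subgroup.zpowers (πq x))
    (Subgroup.zpowers_le.2 (image_core ha hWa hWn hW ⟨x, hx, rfl⟩)) fun J hJ => Subgroup.zpowers_le.2 (h J hJ)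
  rw [Subgroup.zpowers_eq_bot] at h1
  exact (QuotientGroup.eq_one_iff x).1 h1

theorem normalizes {J : Subgroup (X ⧸ Cfsg.pPrimeCore 2 X)} (hJ : Cfsg.IsComponent J) :
    W.map πq ≤ Subgroup.normalizer (J : Set (X ⧸ Cfsg.pPrimeCore 2 X)) := fun w hw => by
  haveI : Fact (Nat.Prime 2) := ⟨Nat.prime_two⟩
  exact (LocBal.core_fixes (p := 2) pPrimeCore_quotient_eq_bot (by rw [← map_pow, ha, map_one])
    (image_core ha hWa hWn hW hw)).2 J hJ

omit ha hWa hWn hW

/-- A normal odd subgroup of the centraliser of `T` centralises the components fixed by `T`. -/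
theorem fixed_component_cent {T W : Subgroup X} (hT : IsPGroup 2 T) (hWT : W ≤ Subgroup.centralizer (T : Set X))
    (hWn : Subgroup.centralizer (T : Set X) ≤ Subgroup.normalizer (W : Set X)) (hW : (Nat.card W).Coprime 2)
    {J : Subgroup (X ⧸ Cfsg.pPrimeCore 2 X)} (hJ : Cfsg.IsComponent J)
    (hJT : ∀ t ∈ T, ∀ j ∈ J, πq t * j = j * πq t) :
    W.map πq ≤ Subgroup.centralizer (J : Set (X ⧸ Cfsg.pPrimeCore 2 X)) := by
  haveI : Fact (Nat.Prime 2) := ⟨Nat.prime_two⟩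
  refine LocBal.component_centralized (p := 2) pPrimeCore_quotient_eq_bot hJ
    (C := (Subgroup.centralizer (T : Set X)).map πq) (fun j hj => ?_) (Subgroup.map_mono hWT)
    ((Subgroup.map_mono hWn).trans (Subgroup.le_normalizer_map _)) (hW.coprime_dvd_left (Subgroup.card_map_dvd _ _))
  obtain ⟨n, hn, e⟩ := lift_centralizer hT (v := j) fun t ht => hJT t ht j hj
  exact ⟨n, hn, e⟩

/-- Commutators with elements fixing a component centralise it. -/
theorem comm_cent {W T : Subgroup X} {J : Subgroup (X ⧸ Cfsg.pPrimeCore 2 X)}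
    (hWJ : W.map πq ≤ Subgroup.normalizer (J : Set (X ⧸ Cfsg.pPrimeCore 2 X)))
    (hJT : ∀ t ∈ T, ∀ j ∈ J, πq t * j = j * πq t) :
    (⁅W, T⁆).map πq ≤ Subgroup.centralizer (J : Set (X ⧸ Cfsg.pPrimeCore 2 X)) := by
  rw [Subgroup.map_commutator]
  refine Subgroup.commutator_le.2 ?_
  rintro w hw _ ⟨t, ht, rfl⟩
  refine Subgroup.mem_centralizer_iff.2 fun j hj => ?_
  have h1 : (πq t)⁻¹ * j = j * (πq t)⁻¹ := (show Commute (πq t) j from hJT t ht j hj).inv_left.eq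
  have hj' : w⁻¹ * j * w ∈ J := (Subgroup.mem_normalizer_iff''.1 (hWJ hw) j).1 hj
  have h2 : πq t * (w⁻¹ * j * w) = (w⁻¹ * j * w) * πq t := hJT t ht _ hj'
  calc j * ⁅w, πq t⁆ = w * ((w⁻¹ * j * w) * πq t) * w⁻¹ * (πq t)⁻¹ := by rw [commutatorElement_def]; group
    _ = w * πq t * w⁻¹ * (j * (πq t)⁻¹) := by rw [← h2]; group
    _ = _ := by rw [← h1, commutatorElement_def]; group

end Mod

/-! ### The pair -/

variable {G : Type u} [Group G] [Finite G]

/-- `O(C(S))` inside `G`. -/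
def coreS (S : Set G) : Subgroup G :=
  (Cfsg.pPrimeCore 2 ↥(Subgroup.centralizer S)).map (Subgroup.centralizer S).subtype

theorem coreS_le (S : Set G) : coreS S ≤ Subgroup.centralizer S := Subgroup.map_subtype_le _

theorem coreS_norm (S : Set G) : Subgroup.centralizer S ≤ Subgroup.normalizer (coreS S : Set G) :=
  Subgroup.le_normalizer.trans (LocBal.normalizer_le_map_core (p := 2) _)

theorem coreS_odd (S : Set G) : (Nat.card (coreS S)).Coprime 2 := by
  rw [coreS, Solv.card_map_subtype]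
  exact card_pPrimeCore_coprime 2 _

theorem core_eq (x : G) : Cfsg.centralizerPPrimeCore 2 x = coreS ({x} : Set G) := rfl

/-- The factor of the functor at `A₁`. -/
def th (A₁ : Subgroup G) (a : G) : Subgroup G :=
  ⁅Cfsg.centralizerPPrimeCore 2 a, A₁⁆ ⊔ (Cfsg.centralizerPPrimeCore 2 a ⊓ coreS (A₁ : Set G))

/-- The data of a core-separated pair. -/
structure Pair (A₁ A₂ : Subgroup G) : Prop where
  ab₁ : Cfsg.IsElementaryAbelian 2 A₁
  ab₂ : Cfsg.IsElementaryAbelian 2 A₂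
  card₁ : Nat.card A₁ = 4
  card₂ : Nat.card A₂ = 4
  comm : ∀ x ∈ A₁, ∀ y ∈ A₂, x * y = y * x
  sep : ∀ a ∈ A₁ ⊔ A₂, a ≠ 1 → ∀ E : Subgroup ↥(Subgroup.centralizer ({a} : Set G)), Cfsg.IsPComponent 2 E →
    ⁅E.map (Subgroup.centralizer ({a} : Set G)).subtype, A₁⁆ ≤ Cfsg.centralizerPPrimeCore 2 a ∨
    ⁅E.map (Subgroup.centralizer ({a} : Set G)).subtype, A₂⁆ ≤ Cfsg.centralizerPPrimeCore 2 a

namespace Pair

variable {A₁ A₂ : Subgroup G} (P : Pair A₁ A₂)
include P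

theorem symm : Pair A₂ A₁ :=
  ⟨P.ab₂, P.ab₁, P.card₂, P.card₁, fun x hx y hy => (P.comm y hy x hx).symm,
    fun a ha h E hE => (P.sep a (sup_comm A₁ A₂ ▸ ha) h E hE).symm⟩

theorem pgroup₁ : IsPGroup 2 A₁ := IsPGroup.of_card (n := 2) (by rw [P.card₁]; rfl)

theorem split {a : G} (ha : a ∈ A₁ ⊔ A₂) : ∃ a₁ ∈ A₁, ∃ a₂ ∈ A₂, a = a₁ * a₂ := by
  have hle : A₂ ≤ Subgroup.normalizer (A₁ : Set G) := fun y hy =>
    Subgroup.centralizer_le_normalizer _ (Subgroup.mem_centralizer_iff.2 fun x hx => P.comm x hx y hy)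
  rw [← SetLike.mem_coe, Subgroup.coe_mul_of_right_le_normalizer_left _ _ hle] at ha
  obtain ⟨x, hx, y, hy, e⟩ := ha
  exact ⟨x, hx, y, hy, e.symm⟩

theorem commute {a b : G} (ha : a ∈ A₁ ⊔ A₂) (hb : b ∈ A₁ ⊔ A₂) : a * b = b * a := by
  obtain ⟨a₁, ha₁, a₂, ha₂, rfl⟩ := P.split ha
  obtain ⟨b₁, hb₁, b₂, hb₂, rfl⟩ := P.split hb
  have e1 : Commute a₁ b₁ := congrArg Subtype.val (P.ab₁.1.is_comm.comm ⟨a₁, ha₁⟩ ⟨b₁, hb₁⟩)
  have e2 : Commute a₂ b₂ := congrArg Subtype.val (P.ab₂.1.is_comm.comm ⟨a₂, ha₂⟩ ⟨b₂, hb₂⟩)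
  have e3 : Commute a₁ b₂ := P.comm a₁ ha₁ b₂ hb₂
  have e4 : Commute a₂ b₁ := (P.comm b₁ hb₁ a₂ ha₂).symm
  exact ((e1.mul_right e3).mul_left (e4.mul_right e2)).eq

theorem sq {a : G} (ha : a ∈ A₁ ⊔ A₂) : a ^ 2 = 1 := by
  obtain ⟨a₁, ha₁, a₂, ha₂, rfl⟩ := P.split ha
  rw [(show Commute a₁ a₂ from P.comm a₁ ha₁ a₂ ha₂).mul_pow, P.ab₁.2 a₁ ha₁, P.ab₂.2 a₂ ha₂, one_mul]

theorem le_centralizer {a : G} (ha : a ∈ A₁ ⊔ A₂) : A₁ ⊔ A₂ ≤ Subgroup.centralizer ({a} : Set G) :=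
  fun _ hb => Subgroup.mem_centralizer_singleton_iff.2 (P.commute hb ha)

theorem norm_core {a : G} (ha : a ∈ A₁ ⊔ A₂) :
    A₁ ⊔ A₂ ≤ Subgroup.normalizer (Cfsg.centralizerPPrimeCore 2 a : Set G) :=
  (P.le_centralizer ha).trans (coreS_norm _)

theorem le_centralizer₁ : A₁ ⊔ A₂ ≤ Subgroup.centralizer (A₁ : Set G) := fun _ hb =>
  Subgroup.mem_centralizer_iff.2 fun _ hx => P.commute (Subgroup.mem_sup_left hx) hb

theorem th_le {a : G} (ha : a ∈ A₁ ⊔ A₂) : th A₁ a ≤ Cfsg.centralizerPPrimeCore 2 a :=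
  sup_le (commutator_normal_in (le_sup_left.trans (P.norm_core ha))).1 inf_le_left

theorem th_norm {a : G} (ha : a ∈ A₁ ⊔ A₂) : A₁ ⊔ A₂ ≤ Subgroup.normalizer (th A₁ a : Set G) := by
  refine Solv.normalizer_smul_sup (fun b hb => mem_normalizer_of_conj_smul ?_)
    (Solv.normalizer_smul_inf (P.norm_core ha) (P.le_centralizer₁.trans (coreS_norm _)))
  rw [conj_smul_eq_map, Subgroup.map_commutator, ← conj_smul_eq_map, ← conj_smul_eq_map,
    conj_smul_of_mem_normalizer (P.norm_core ha hb),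
    conj_smul_of_mem_normalizer (Subgroup.centralizer_le_normalizer _ (P.le_centralizer₁ hb))]

/-- A component of `C(b)` modulo the core is fixed by one of the two four-groups. -/
theorem sep_quot {b : G} (hb : b ∈ A₁ ⊔ A₂) (hb1 : b ≠ 1)
    {J : Subgroup (↥(Subgroup.centralizer ({b} : Set G)) ⧸ Cfsg.pPrimeCore 2 ↥(Subgroup.centralizer ({b} : Set G)))}
    (hJ : Cfsg.IsComponent J) :
    (∀ t : ↥(Subgroup.centralizer ({b} : Set G)), (t : G) ∈ A₁ → ∀ j ∈ J,
      QuotientGroup.mk' (Cfsg.pPrimeCore 2 ↥(Subgroup.centralizer ({b} : Set G))) t * j =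
        j * QuotientGroup.mk' (Cfsg.pPrimeCore 2 ↥(Subgroup.centralizer ({b} : Set G))) t) ∨
    (∀ t : ↥(Subgroup.centralizer ({b} : Set G)), (t : G) ∈ A₂ → ∀ j ∈ J,
      QuotientGroup.mk' (Cfsg.pPrimeCore 2 ↥(Subgroup.centralizer ({b} : Set G))) t * j =
        j * QuotientGroup.mk' (Cfsg.pPrimeCore 2 ↥(Subgroup.centralizer ({b} : Set G))) t) := by
  haveI : Fact (Nat.Prime 2) := ⟨Nat.prime_two⟩
  obtain ⟨E, hE, hEJ⟩ := exists_pComponent_map hJ
  have key : ∀ A : Subgroup G,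
      ⁅E.map (Subgroup.centralizer ({b} : Set G)).subtype, A⁆ ≤ Cfsg.centralizerPPrimeCore 2 b →
      ∀ t : ↥(Subgroup.centralizer ({b} : Set G)), (t : G) ∈ A → ∀ j ∈ J,
      QuotientGroup.mk' (Cfsg.pPrimeCore 2 ↥(Subgroup.centralizer ({b} : Set G))) t * j =
        j * QuotientGroup.mk' (Cfsg.pPrimeCore 2 ↥(Subgroup.centralizer ({b} : Set G))) t := by
    intro A hA t ht j hj
    rw [← hEJ] at hj
    obtain ⟨e, he, rfl⟩ := hj
    obtain ⟨o, ho, heo⟩ := hA (Subgroup.commutator_mem_commutator ⟨e, he, rfl⟩ ht)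
    have h1 : ⁅e, t⁆ ∈ Cfsg.pPrimeCore 2 ↥(Subgroup.centralizer ({b} : Set G)) := by
      rw [show ⁅e, t⁆ = o from Subtype.ext heo.symm]
      exact ho
    rw [← QuotientGroup.eq_one_iff, ← QuotientGroup.mk'_apply, map_commutatorElement,
      commutatorElement_eq_one_iff_mul_comm] at h1
    exact h1.symm
  exact (P.sep b hb hb1 E hE).imp (key A₁) (key A₂)

variable (hFT : ∀ (X : Type u) [Group X] [Finite X], Odd (Nat.card X) → Group.IsSolvable X)
include hFT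

/-- The key fact: `C_Y(A₁) ≤ O(C(A₁))` for `Y = [O(C(a)), A₁]`. -/
theorem fix_core {a : G} (ha : a ∈ A₁ ⊔ A₂) :
    ⁅Cfsg.centralizerPPrimeCore 2 a, A₁⁆ ⊓ Subgroup.centralizer (A₁ : Set G) ≤ coreS (A₁ : Set G) := by
  classical
  haveI : Fact (Nat.Prime 2) := ⟨Nat.prime_two⟩
  set O := Cfsg.centralizerPPrimeCore 2 a with hO
  have hAO : A₁ ≤ Subgroup.normalizer (O : Set G) := le_sup_left.trans (P.norm_core ha)
  obtain ⟨hYO, -, hAY⟩ := commutator_normal_in hAO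
  have hOodd : (Nat.card O).Coprime 2 := coreS_odd _
  have hcoA : (Nat.card A₁).Coprime (Nat.card O) := by
    rw [P.card₁]; exact (Nat.Coprime.pow_right 2 hOodd).symm
  have hA₁ : IsMulCommutative A₁ := P.ab₁.1
  have hsolA : Group.IsSolvable A₁ := Group.isSolvable_of_comm fun s t => hA₁.is_comm.comm s t
  have hYA : ⁅⁅O, A₁⁆, A₁⁆ = ⁅O, A₁⁆ := commutator_commutator_eq hAO hcoA (Or.inl hsolA)
  have hYodd : Odd (Nat.card ↥⁅O, A₁⁆) :=
    Nat.coprime_two_left.1 (hOodd.coprime_dvd_left (Subgroup.card_dvd_of_le hYO)).symm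
  refine le_trans (FixedGen.fixed_le_fixGen hA₁ hAY
    (hcoA.coprime_dvd_right (Subgroup.card_dvd_of_le hYO)) hYA (hFT _ hYodd)) (iSup₂_le fun K hK => ?_)
  rintro z ⟨hz, hzA⟩
  obtain ⟨c, hcK, hc1⟩ : ∃ c ∈ K, c ≠ 1 := by
    by_contra hno
    push Not at hno
    obtain ⟨-, g, hg, e⟩ := hK
    rw [(Subgroup.eq_bot_iff_forall K).2 hno, bot_sup_eq] at e
    have h4 := P.card₁
    rw [← e, Nat.card_zpowers] at h4
    have := Nat.le_of_dvd two_pos (orderOf_dvd_of_pow_eq_one (P.ab₁.2 g hg))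
    omega
  have hcA : c ∈ A₁ := hK.1 hcK
  have hc : c ∈ A₁ ⊔ A₂ := Subgroup.mem_sup_left hcA
  set W := O ⊓ Subgroup.centralizer ({c} : Set G) with hWdef
  have hAW : A₁ ≤ Subgroup.normalizer (W : Set G) :=
    Solv.normalizer_smul_inf hAO fun t ht => Subgroup.le_normalizer
      (Subgroup.mem_centralizer_singleton_iff.2 (P.commute (Subgroup.mem_sup_left ht) hc))
  have hzW : z ∈ ⁅W, A₁⁆ := Subgroup.commutator_mono (inf_le_inf hYO
    (Subgroup.centralizer_le (Set.singleton_subset_iff.2 hcK))) le_rfl hz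
  have hzO : z ∈ O := ((commutator_normal_in hAW).1 hzW).1
  -- the criterion in `C(A₁)`
  set C₁ := Subgroup.centralizer (A₁ : Set G) with hC₁
  set Cc := Subgroup.centralizer ({c} : Set G) with hCc
  have hle : C₁ ≤ Cc := Subgroup.centralizer_le (Set.singleton_subset_iff.2 hcA)
  set V := (O ⊓ C₁).subgroupOf C₁ with hVdef
  have haC₁ : a ∈ C₁ := P.le_centralizer₁ ha
  have ha2 : (⟨a, haC₁⟩ : ↥C₁) ^ 2 = 1 := Subtype.ext (P.sq ha)
  have hVa : V ≤ Subgroup.centralizer {(⟨a, haC₁⟩ : ↥C₁)} := fun v hv =>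
    Subgroup.mem_centralizer_singleton_iff.2 (Subtype.ext
      (Subgroup.mem_centralizer_singleton_iff.1 (coreS_le _ (Subgroup.mem_inf.1 hv).1)))
  have hVn : Subgroup.centralizer {(⟨a, haC₁⟩ : ↥C₁)} ≤ Subgroup.normalizer (V : Set ↥C₁) := fun v hv => by
    have hv' : (v : G) ∈ Subgroup.centralizer ({a} : Set G) := Subgroup.mem_centralizer_singleton_iff.2
      (congrArg Subtype.val (Subgroup.mem_centralizer_singleton_iff.1 hv))
    refine Subgroup.mem_normalizer_iff.2 fun x => ?_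
    simp only [hVdef, Subgroup.mem_subgroupOf, Subgroup.mem_inf, x.2, (v * x * v⁻¹).2, and_true]
    exact Subgroup.mem_normalizer_iff.1 (coreS_norm _ hv') x
  have hVodd : (Nat.card V).Coprime 2 := by
    rw [hVdef, Solv.card_subgroupOf inf_le_right]
    exact hOodd.coprime_dvd_left (Subgroup.card_dvd_of_le inf_le_left)
  refine ⟨⟨z, hzA⟩, mem_core ha2 hVa hVn hVodd (show (⟨z, hzA⟩ : ↥C₁) ∈ V from ⟨hzO, hzA⟩) fun J hJ => ?_, rfl⟩
  -- the layers
  set π₁ := QuotientGroup.mk' (Cfsg.pPrimeCore 2 ↥C₁) with hπ₁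
  set πc := QuotientGroup.mk' (Cfsg.pPrimeCore 2 ↥Cc) with hπc
  let incl : ↥C₁ →* ↥Cc := Subgroup.inclusion hle
  let g : ↥C₁ →* ↥Cc ⧸ Cfsg.pPrimeCore 2 ↥Cc := πc.comp incl
  set Ac := A₁.subgroupOf Cc with hAc
  have hA₁Cc : A₁ ≤ Cc := le_sup_left.trans (P.le_centralizer hc)
  have hlay : (Cfsg.pLayer 2 ↥C₁).map incl ≤ Cfsg.pLayer 2 ↥Cc := by
    refine Subgroup.map_le_iff_le_comap.2 (sSup_le fun E hE => Subgroup.map_le_iff_le_comap.1 ?_)
    set Nc := Subgroup.normalizer (Ac : Set ↥Cc) with hNc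
    set C' := C₁.subgroupOf Cc with hC'
    have hC'N : C' ≤ Nc := fun x hx => Subgroup.centralizer_le_normalizer _ (Subgroup.mem_centralizer_iff.2
      fun y hy => Subtype.ext (Subgroup.mem_centralizer_iff.1 hx _ hy))
    set E' := E.map incl with hE'
    have hE'C : E' ≤ C' := by
      rintro _ ⟨x, -, rfl⟩
      exact x.2
    have hp : Cfsg.IsPComponentOf 2 E' Nc := by
      refine PComp.pcompOf_trans ?_ hC'N ?_
      · obtain ⟨hsn, hq⟩ := (PComp.isPComponent_iff (p := 2)).1 hE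
        refine PComp.pcompOf_iff.2 ⟨hE'C, ?_, hq.congr (E.equivMapOfInjective incl (Subgroup.inclusion_injective hle))⟩
        have e : E'.subgroupOf C' = E.comap (Subgroup.subgroupOfEquivOfLe hle).toMonoidHom := by
          ext x
          refine ⟨?_, fun hx => ⟨_, hx, Subtype.ext rfl⟩⟩
          rintro ⟨y, hy, hxy⟩
          have : Subgroup.subgroupOfEquivOfLe hle x = y := Subtype.ext (congrArg Subtype.val hxy).symm
          show Subgroup.subgroupOfEquivOfLe hle x ∈ E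
          rw [this]; exact hy
        rw [e]
        exact hsn.comap _
      · refine Subgroup.Normal.isSubnormal ((Subgroup.normal_subgroupOf_iff_le_normalizer hC'N).2 fun n hn => ?_)
        have hn' : ∀ y : ↥Cc, (y : G) ∈ A₁ ↔ ((n * y * n⁻¹ : ↥Cc) : G) ∈ A₁ := Subgroup.mem_normalizer_iff.1 hn
        refine Cfsg.Agent.Fusion.mem_normalizer_of_cj_le ?_
        rintro _ ⟨x, hx, rfl⟩
        refine Subgroup.mem_centralizer_iff.2 fun t ht => ?_
        have ht' := (hn' (n⁻¹ * ⟨t, hA₁Cc ht⟩ * n)).2 (by simpa [mul_assoc] using ht)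
        have h1 := Subgroup.mem_centralizer_iff.1 hx _ ht'
        simp only [MulEquiv.coe_toMonoidHom, MulAut.conj_apply, Subgroup.subtype_apply, Subgroup.coe_mul, Subgroup.coe_inv] at h1 ⊢
        calc t * ((n : G) * x * (n : G)⁻¹) = (n : G) * (((n : G)⁻¹ * t * n) * x) * (n : G)⁻¹ := by group
          _ = _ := by rw [h1]; group
    exact (PComp.pcompOf_le_pLayerOf hp).trans (LBal.pLayer_balance_two (P.pgroup₁.comap_subtype (K := Cc)))
  haveI : (Cfsg.layer (↥Cc ⧸ Cfsg.pPrimeCore 2 ↥Cc)).Normal := Local.layer_normal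
  set Λ := Cfsg.layer (↥Cc ⧸ Cfsg.pPrimeCore 2 ↥Cc) with hΛ
  have hglay : (Cfsg.pLayer 2 ↥C₁).map g ≤ Λ := by
    rw [← Subgroup.map_map, hΛ, ← map_pLayer]
    exact Subgroup.map_mono hlay
  -- the components fixed by `A₁`
  set S₁ := {F : Subgroup (↥Cc ⧸ Cfsg.pPrimeCore 2 ↥Cc) | Cfsg.IsComponent F ∧
    ∀ t : ↥Cc, (t : G) ∈ A₁ → ∀ j ∈ F, πc t * j = j * πc t} with hS₁
  set P₁ := sSup S₁ with hP₁
  have hΛP : Λ ≤ Subgroup.normalizer (P₁ : Set _) := by
    intro l hl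
    refine Cfsg.Agent.Fusion.mem_normalizer_of_cj_le ?_
    rw [cj, Subgroup.map_le_iff_le_comap]
    refine sSup_le fun F hF => Subgroup.map_le_iff_le_comap.1 (le_trans (le_of_eq ?_) (le_sSup hF))
    exact cj_eq_self (layer_le_normalizer_component hF.1 hl)
  obtain ⟨a₁, ha₁, a₂, ha₂, hsplit⟩ := P.split ha
  set αc : ↥Cc := ⟨a₂, P.le_centralizer hc (Subgroup.mem_sup_right ha₂)⟩
  set τc := πc αc with hτc
  have hτP : τc ∈ Subgroup.normalizer (P₁ : Set _) := by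
    refine Cfsg.Agent.Fusion.mem_normalizer_of_cj_le ?_
    rw [cj, Subgroup.map_le_iff_le_comap]
    refine sSup_le fun F hF => Subgroup.map_le_iff_le_comap.1 (le_sSup ⟨Solv.component_conj hF.1 τc, ?_⟩)
    rintro t ht _ ⟨j, hj, rfl⟩
    have e : Commute (πc t) τc := (show Commute t αc from Subtype.ext (P.comm _ ht _ ha₂)).map πc
    simp only [MulEquiv.coe_toMonoidHom, MulAut.conj_apply]
    calc πc t * (τc * j * τc⁻¹) = τc * (πc t * j) * τc⁻¹ := by rw [← mul_assoc, ← mul_assoc, e.eq]; group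
      _ = τc * j * (πc t * τc⁻¹) := by rw [hF.2 t ht j hj]; group
      _ = _ := by rw [e.inv_right.eq]; group
  let S : Subgroup (↥Cc ⧸ Cfsg.pPrimeCore 2 ↥Cc) :=
    { carrier := {l | l ∈ Subgroup.normalizer (P₁ : Set (↥Cc ⧸ Cfsg.pPrimeCore 2 ↥Cc)) ∧ ⁅l, τc⁆ ∈ P₁}
      one_mem' := ⟨one_mem _, by rw [commutatorElement_one_left]; exact one_mem _⟩
      mul_mem' := fun {l m} ⟨hl, gl⟩ ⟨hm, gm⟩ => ⟨mul_mem hl hm, by
        rw [show ⁅l * m, τc⁆ = l * ⁅m, τc⁆ * l⁻¹ * ⁅l, τc⁆ by simp only [commutatorElement_def]; group]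
        exact mul_mem ((Subgroup.mem_normalizer_iff.1 hl _).1 gm) gl⟩
      inv_mem' := fun {l} ⟨hl, gl⟩ => ⟨inv_mem hl, by
        rw [show ⁅l⁻¹, τc⁆ = l⁻¹ * ⁅l, τc⁆⁻¹ * l⁻¹⁻¹ by simp only [commutatorElement_def]; group]
        exact (Subgroup.mem_normalizer_iff.1 (inv_mem hl) _).1 (inv_mem gl)⟩ }
  have hΛS : Λ ≤ S := sSup_le fun F hF f hf => by
    refine ⟨hΛP (component_le_layer hF hf), ?_⟩
    rcases P.sep_quot hc hc1 hF with h | h
    · have hfP : f ∈ P₁ := le_sSup (show F ∈ S₁ from ⟨hF, h⟩) hf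
      rw [commutatorElement_def, show f * τc * f⁻¹ * τc⁻¹ = f * (τc * f⁻¹ * τc⁻¹) by group]
      exact mul_mem hfP ((Subgroup.mem_normalizer_iff.1 hτP _).1 (inv_mem hfP))
    · rw [commutatorElement_eq_one_iff_mul_comm.2 (h αc ha₂ f hf).symm]
      exact one_mem _
  -- the action of `z` on `P₁`
  set u : ↥C₁ := ⟨z, hzA⟩ with hu
  have haCc : a ∈ Cc := P.le_centralizer hc ha
  have hzP : g u ∈ Subgroup.centralizer (P₁ : Set _) := by
    have hWc : W ≤ Cc := inf_le_right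
    have hWn' : Subgroup.centralizer {(⟨a, haCc⟩ : ↥Cc)} ≤ Subgroup.normalizer (W.subgroupOf Cc : Set ↥Cc) :=
      fun v hv => by
        refine Subgroup.mem_normalizer_iff.2 fun x => ?_
        simp only [hWdef, Subgroup.mem_subgroupOf, Subgroup.mem_inf, (v * x * v⁻¹).2, x.2, and_true]
        exact Subgroup.mem_normalizer_iff.1 (coreS_norm _ (Subgroup.mem_centralizer_singleton_iff.2
          (congrArg Subtype.val (Subgroup.mem_centralizer_singleton_iff.1 hv)))) x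
    have hWodd : (Nat.card (W.subgroupOf Cc)).Coprime 2 := by
      rw [Solv.card_subgroupOf hWc]
      exact hOodd.coprime_dvd_left (Subgroup.card_dvd_of_le inf_le_left)
    have hWa' : W.subgroupOf Cc ≤ Subgroup.centralizer {(⟨a, haCc⟩ : ↥Cc)} := fun v hv =>
      Subgroup.mem_centralizer_singleton_iff.2 (Subtype.ext
        (Subgroup.mem_centralizer_singleton_iff.1 (coreS_le _ (Subgroup.mem_inf.1 hv).1)))
    have hzc : incl u ∈ ⁅W.subgroupOf Cc, Ac⁆ := by
      have h2 : (⁅W.subgroupOf Cc, Ac⁆).map Cc.subtype = ⁅W, A₁⁆ := by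
        rw [Subgroup.map_commutator, Subgroup.map_subgroupOf_eq_of_le hWc, Subgroup.map_subgroupOf_eq_of_le hA₁Cc]
      obtain ⟨w, hw, e⟩ := h2.ge hzW
      rwa [show incl u = w from Subtype.ext e.symm]
    rw [← Subgroup.zpowers_le]
    refine Subgroup.le_centralizer_iff.1 (sSup_le fun F hF => Subgroup.le_centralizer_iff.1 ?_)
    rw [Subgroup.zpowers_le]
    exact comm_cent (normalizes (Subtype.ext (P.sq ha)) hWa' hWn' hWodd hF.1) (fun t ht => hF.2 t ht)
      ⟨incl u, hzc, rfl⟩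
  -- the part of the layer over `P₁`
  haveI : (Cfsg.pLayer 2 ↥C₁).Normal := pLayer_normal
  set N₁ := Cfsg.pLayer 2 ↥C₁ ⊓ P₁.comap g with hN₁
  set M := N₁.map π₁
  set Λ₁ := Cfsg.layer (↥C₁ ⧸ Cfsg.pPrimeCore 2 ↥C₁) with hΛ₁
  have hΛ₁eq : (Cfsg.pLayer 2 ↥C₁).map π₁ = Λ₁ := map_pLayer
  have hMle : M ≤ Λ₁ := hΛ₁eq ▸ Subgroup.map_mono inf_le_left
  have hMn : Λ₁ ≤ Subgroup.normalizer (M : Set _) := by
    rw [← hΛ₁eq]
    refine (Subgroup.map_mono fun l hl => ?_).trans (Subgroup.le_normalizer_map π₁)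
    refine Cfsg.Agent.Fusion.mem_normalizer_of_cj_le ?_
    rintro _ ⟨n, hn, rfl⟩
    refine Subgroup.mem_inf.2 ⟨Subgroup.Normal.conj_mem inferInstance n hn.1 l, ?_⟩
    rw [Subgroup.mem_comap]
    simp only [MulEquiv.coe_toMonoidHom, MulAut.conj_apply, map_mul, map_inv]
    exact (Subgroup.mem_normalizer_iff.1 (hΛP (hglay ⟨l, hl, rfl⟩)) _).1 hn.2
  haveI : (M.subgroupOf Λ₁).Normal := (Subgroup.normal_subgroupOf_iff_le_normalizer hMle).2 hMn
  rcases component_normal_dichotomy (component_subgroupOf hJ (component_le_layer hJ)) (M.subgroupOf Λ₁) with h | h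
  · -- `J` lies over `P₁`
    refine Subgroup.mem_centralizer_iff.2 fun j hj => ?_
    obtain ⟨n, hn, rfl⟩ : j ∈ M := h (show (⟨j, component_le_layer hJ hj⟩ : ↥Λ₁) ∈ J.subgroupOf Λ₁ from hj)
    have hker : g.ker ≤ Cfsg.pPrimeCore 2 ↥C₁ := by
      haveI : g.ker.Normal := g.normal_ker
      refine le_pPrimeCore ?_
      rw [show g.ker = (Cfsg.pPrimeCore 2 ↥Cc).comap incl by
        ext y; exact QuotientGroup.eq_one_iff _]
      refine (card_pPrimeCore_coprime 2 ↥Cc).coprime_dvd_left ?_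
      rw [← Subgroup.card_map_of_injective (f := incl) (Subgroup.inclusion_injective hle)]
      exact Subgroup.card_dvd_of_le (Subgroup.map_comap_le _ _)
    have h1 : ⁅n, u⁆ ∈ g.ker := by
      rw [MonoidHom.mem_ker, map_commutatorElement, commutatorElement_eq_one_iff_mul_comm]
      exact Subgroup.mem_centralizer_iff.1 hzP _ hn.2
    have h2 := hker h1
    rw [← QuotientGroup.eq_one_iff, ← QuotientGroup.mk'_apply, map_commutatorElement,
      commutatorElement_eq_one_iff_mul_comm] at h2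
    exact h2
  · -- `a` fixes `J`
    set α : ↥C₁ := ⟨a₂, P.le_centralizer₁ (Subgroup.mem_sup_right ha₂)⟩ with hα
    set τ := π₁ α with hτ
    have hcomm : ∀ j ∈ J, ∀ k ∈ J, ⁅j, τ⁆ * k = k * ⁅j, τ⁆ := by
      intro j hj k hk
      have hjΛ : j ∈ (Cfsg.pLayer 2 ↥C₁).map π₁ := hΛ₁eq ▸ component_le_layer hJ hj
      obtain ⟨l, hl, rfl⟩ := hjΛ
      have hmem : ⁅l, α⁆ ∈ N₁ := by
        refine Subgroup.mem_inf.2 ⟨?_, ?_⟩
        · rw [commutatorElement_def, show l * α * l⁻¹ * α⁻¹ = l * (α * l⁻¹ * α⁻¹) by group]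
          exact mul_mem hl (Subgroup.Normal.conj_mem inferInstance _ (inv_mem hl) α)
        · rw [Subgroup.mem_comap, map_commutatorElement, show g α = τc from rfl]
          exact (hΛS (hglay ⟨l, hl, rfl⟩)).2
      have hM : ⁅π₁ l, τ⁆ ∈ M := ⟨_, hmem, map_commutatorElement _ _ _⟩
      have h3 := Subgroup.mem_centralizer_iff.1 (Subgroup.commutator_eq_bot_iff_le_centralizer.1 h
        (show (⟨k, component_le_layer hJ hk⟩ : ↥Λ₁) ∈ J.subgroupOf Λ₁ from hk)) ⟨_, hMle hM⟩ hM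
      exact congrArg Subtype.val h3
    have hJJ := qs_self_commutator hJ.2
    have hτJ : cj J τ = J := by
      by_contra hne
      have hd := Subgroup.commutator_eq_bot_iff_le_centralizer.1
        (components_commute hJ (Solv.component_conj hJ τ) (Ne.symm hne))
      refine qs_not_le_centralizer hJ.2 (Subgroup.commutator_eq_bot_iff_le_centralizer.2 fun j hj => ?_)
      refine Subgroup.mem_centralizer_iff.2 fun k hk => ?_
      have h1 := hcomm j hj k hk
      have h2 := Subgroup.mem_centralizer_iff.1 (hd hk) (τ * j⁻¹ * τ⁻¹) ⟨j⁻¹, inv_mem hj, rfl⟩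
      rw [show ⁅j, τ⁆ = j * (τ * j⁻¹ * τ⁻¹) by rw [commutatorElement_def]; group, mul_assoc, h2, ← mul_assoc,
        ← mul_assoc k j] at h1
      exact (mul_right_cancel h1).symm
    have hcJ : ∀ j ∈ J, ⁅j, τ⁆ ∈ J := fun j hj => by
      rw [commutatorElement_def, show j * τ * j⁻¹ * τ⁻¹ = j * (τ * j⁻¹ * τ⁻¹) by group]
      exact mul_mem hj (hτJ ▸ ⟨j⁻¹, inv_mem hj, rfl⟩)
    have hfix : J ≤ Subgroup.centralizer {τ} := by
      rw [← hJJ]
      refine Subgroup.commutator_le.2 fun j hj k hk => Subgroup.mem_centralizer_singleton_iff.2 ?_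
      have hj' : τ * j * τ⁻¹ = ⁅j, τ⁆⁻¹ * j := by
        have e : Commute ⁅j, τ⁆ j⁻¹ := (show Commute ⁅j, τ⁆ j from hcomm j hj j hj).inv_right
        have e2 : τ * j⁻¹ * τ⁻¹ = j⁻¹ * ⁅j, τ⁆ := by rw [commutatorElement_def]; group
        rw [show τ * j * τ⁻¹ = (τ * j⁻¹ * τ⁻¹)⁻¹ by group, e2, mul_inv_rev, inv_inv]
      have hk' : τ * k * τ⁻¹ = ⁅k, τ⁆⁻¹ * k := by
        have e2 : τ * k⁻¹ * τ⁻¹ = k⁻¹ * ⁅k, τ⁆ := by rw [commutatorElement_def]; group
        rw [show τ * k * τ⁻¹ = (τ * k⁻¹ * τ⁻¹)⁻¹ by group, e2, mul_inv_rev, inv_inv]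
      have c1 : Commute ⁅j, τ⁆⁻¹ k := (show Commute ⁅j, τ⁆ k from hcomm j hj k hk).inv_left
      have c2 : Commute ⁅k, τ⁆⁻¹ j := (show Commute ⁅k, τ⁆ j from hcomm k hk j hj).inv_left
      have c3 : Commute ⁅j, τ⁆⁻¹ ⁅k, τ⁆⁻¹ :=
        (show Commute ⁅j, τ⁆ ⁅k, τ⁆ from hcomm j hj _ (hcJ k hk)).inv_inv
      have e : τ * ⁅j, k⁆ * τ⁻¹ = ⁅j, k⁆ := by
        rw [show τ * ⁅j, k⁆ * τ⁻¹ = ⁅τ * j * τ⁻¹, τ * k * τ⁻¹⁆ by simp only [commutatorElement_def]; group,
          hj', hk']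
        set x := ⁅j, τ⁆⁻¹ with hx
        set y := ⁅k, τ⁆⁻¹ with hy
        have c4 : Commute x (y * k) := c3.mul_right c1
        calc ⁅x * j, y * k⁆ = x * (j * (y * k) * j⁻¹) * x⁻¹ * (y * k)⁻¹ := by rw [commutatorElement_def]; group
          _ = x * (y * (j * k * j⁻¹)) * x⁻¹ * (y * k)⁻¹ := by rw [← mul_assoc j, c2.symm.eq]; group
          _ = y * (j * k * j⁻¹) * (x * x⁻¹) * (y * k)⁻¹ := by
              have c5 : Commute x (j * k * j⁻¹) := by
                have cx : Commute x j := (show Commute ⁅j, τ⁆ j from hcomm j hj j hj).inv_left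
                exact (cx.mul_right c1).mul_right cx.inv_right
              rw [← mul_assoc x, (c3.eq), mul_assoc y x, c5.eq]; group
          _ = y * (j * k * j⁻¹ * k⁻¹) * y⁻¹ := by group
          _ = ⁅j, k⁆ := by
              have cy : Commute y k := (show Commute ⁅k, τ⁆ k from hcomm k hk k hk).inv_left
              rw [(((c2.mul_right cy).mul_right c2.inv_right).mul_right cy.inv_right).eq, commutatorElement_def]
              group
      exact (mul_inv_eq_iff_eq_mul.1 e).symm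
    refine fixed_component_cent (T := Subgroup.zpowers (⟨a, haC₁⟩ : ↥C₁)) (zpowers_two ha2)
      (by rw [cent_zpowers]; exact hVa) (by rw [cent_zpowers]; exact hVn) hVodd hJ ?_
      ⟨u, show u ∈ V from ⟨hzO, hzA⟩, rfl⟩
    intro t ht j hj
    obtain ⟨i, rfl⟩ := Subgroup.mem_zpowers_iff.1 ht
    have e1 : (⟨a, haC₁⟩ : ↥C₁) = ⟨a₁, P.le_centralizer₁ (Subgroup.mem_sup_left ha₁)⟩ * α := Subtype.ext hsplit
    have hjτ : Commute τ j := (Subgroup.mem_centralizer_singleton_iff.1 (hfix hj)).symm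
    have hj1 : Commute (π₁ ⟨a₁, P.le_centralizer₁ (Subgroup.mem_sup_left ha₁)⟩) j := by
      obtain ⟨y, rfl⟩ := QuotientGroup.mk'_surjective _ j
      exact (show Commute (⟨a₁, P.le_centralizer₁ (Subgroup.mem_sup_left ha₁)⟩ : ↥C₁) y from
        Subtype.ext (Subgroup.mem_centralizer_iff.1 y.2 a₁ ha₁)).map π₁
    rw [map_zpow, e1, map_mul]
    exact ((hj1.mul_left hjτ).zpow_left i).eq

/-- The `A₁`-fixed part of a factor of the functor. -/
theorem th_fixed {a : G} (ha : a ∈ A₁ ⊔ A₂) :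
    th A₁ a ⊓ Subgroup.centralizer (A₁ : Set G) ≤ coreS (A₁ : Set G) := by
  rintro x ⟨hx, hxA⟩
  have hle : Cfsg.centralizerPPrimeCore 2 a ⊓ coreS (A₁ : Set G) ≤
      Subgroup.normalizer ((⁅Cfsg.centralizerPPrimeCore 2 a, A₁⁆ : Subgroup G) : Set G) :=
    inf_le_left.trans (commutator_normal_in (le_sup_left.trans (P.norm_core ha))).2.1
  have hx : x ∈ ((⁅Cfsg.centralizerPPrimeCore 2 a, A₁⁆ ⊔ (Cfsg.centralizerPPrimeCore 2 a ⊓ coreS (A₁ : Set G)) : Subgroup G) : Set G) := hx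
  rw [Subgroup.coe_mul_of_right_le_normalizer_left _ _ hle] at hx
  obtain ⟨y, hy, c, hc, rfl⟩ := hx
  refine mul_mem (P.fix_core hFT ha (Subgroup.mem_inf.2 ⟨hy, ?_⟩)) hc.2
  rw [show y = y * c * c⁻¹ by group]
  exact mul_mem hxA (inv_mem (coreS_le _ hc.2))

/-- Elements of the factor at `A₁` centralise the components fixed by `A₁`. -/
theorem th_cent {a b : G} (ha : a ∈ A₁ ⊔ A₂) (hb : b ∈ A₁ ⊔ A₂)
    {J : Subgroup (↥(Subgroup.centralizer ({b} : Set G)) ⧸ Cfsg.pPrimeCore 2 ↥(Subgroup.centralizer ({b} : Set G)))}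
    (hJ : Cfsg.IsComponent J)
    (hfix : ∀ t : ↥(Subgroup.centralizer ({b} : Set G)), (t : G) ∈ A₁ → ∀ j ∈ J,
      QuotientGroup.mk' (Cfsg.pPrimeCore 2 ↥(Subgroup.centralizer ({b} : Set G))) t * j =
        j * QuotientGroup.mk' (Cfsg.pPrimeCore 2 ↥(Subgroup.centralizer ({b} : Set G))) t)
    {x : ↥(Subgroup.centralizer ({b} : Set G))} (hx : (x : G) ∈ th A₁ a) :
    QuotientGroup.mk' (Cfsg.pPrimeCore 2 ↥(Subgroup.centralizer ({b} : Set G))) x ∈
      Subgroup.centralizer (J : Set _) := by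
  haveI : Fact (Nat.Prime 2) := ⟨Nat.prime_two⟩
  have hA₁Cb : A₁ ≤ (Subgroup.centralizer ({b} : Set G)) := le_sup_left.trans (P.le_centralizer hb)
  have hDn : A₁.subgroupOf (Subgroup.centralizer ({b} : Set G)) ≤ Subgroup.normalizer (((th A₁ a).subgroupOf (Subgroup.centralizer ({b} : Set G)) : Subgroup ↥(Subgroup.centralizer ({b} : Set G))) : Set ↥(Subgroup.centralizer ({b} : Set G))) := fun t ht =>
    Subgroup.mem_normalizer_iff.2 fun y => Subgroup.mem_normalizer_iff.1 (P.th_norm ha (Subgroup.mem_sup_left ht)) y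
  have hodd : (Nat.card ↥((th A₁ a).subgroupOf (Subgroup.centralizer ({b} : Set G)))).Coprime 2 := by
    refine (coreS_odd ({a} : Set G)).coprime_dvd_left ?_
    rw [← Solv.card_map_subtype, Subgroup.subgroupOf_map_subtype]
    exact Subgroup.card_dvd_of_le (inf_le_left.trans (P.th_le ha))
  have hcard : Nat.card ↥(A₁.subgroupOf (Subgroup.centralizer ({b} : Set G))) = 2 ^ 2 := by
    rw [Solv.card_subgroupOf hA₁Cb, P.card₁]; rfl
  have hsolA : Group.IsSolvable ↥(A₁.subgroupOf (Subgroup.centralizer ({b} : Set G))) :=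
    Group.isSolvable_of_comm fun s t => Subtype.ext (Subtype.ext
      (P.commute (Subgroup.mem_sup_left s.2) (Subgroup.mem_sup_left t.2) :))
  obtain ⟨n, hn, v, hv, rfl⟩ := exists_commutator_mul_fixed hDn
    (by rw [hcard]; exact hodd.symm.pow_left 2) (Or.inl hsolA) (Subgroup.mem_subgroupOf.2 hx)
  rw [map_mul]
  refine mul_mem ?_ ?_
  · have haCb : a ∈ (Subgroup.centralizer ({b} : Set G)) := P.le_centralizer hb ha
    set W := (Cfsg.centralizerPPrimeCore 2 a).subgroupOf (Subgroup.centralizer ({b} : Set G)) with hW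
    have h1 : W ≤ Subgroup.centralizer {(⟨a, haCb⟩ : ↥(Subgroup.centralizer ({b} : Set G)))} := fun w hw =>
      Subgroup.mem_centralizer_singleton_iff.2 (Subtype.ext
        (Subgroup.mem_centralizer_singleton_iff.1 (coreS_le _ hw)))
    have h2 : Subgroup.centralizer {(⟨a, haCb⟩ : ↥(Subgroup.centralizer ({b} : Set G)))} ≤ Subgroup.normalizer (W : Set ↥(Subgroup.centralizer ({b} : Set G))) := fun w hw =>
      Subgroup.mem_normalizer_iff.2 fun y => Subgroup.mem_normalizer_iff.1 (coreS_norm _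
        (Subgroup.mem_centralizer_singleton_iff.2 (congrArg Subtype.val (Subgroup.mem_centralizer_singleton_iff.1 hw)))) y
    have h3 : (Nat.card W).Coprime 2 := by
      refine (coreS_odd ({a} : Set G)).coprime_dvd_left ?_
      rw [← Solv.card_map_subtype, Subgroup.subgroupOf_map_subtype]
      exact Subgroup.card_dvd_of_le inf_le_left
    exact comm_cent (normalizes (Subtype.ext (P.sq ha)) h1 h2 h3 hJ) (fun t ht => hfix t ht)
      ⟨n, Subgroup.commutator_mono (K₁ := W) (fun y hy => P.th_le ha hy) le_rfl hn, rfl⟩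
  · have hvA : (v : G) ∈ Subgroup.centralizer (A₁ : Set G) := Subgroup.mem_centralizer_iff.2 fun t ht =>
      congrArg Subtype.val (Subgroup.mem_centralizer_iff.1 hv.2 ⟨t, hA₁Cb ht⟩ ht)
    refine fixed_component_cent (T := A₁.subgroupOf (Subgroup.centralizer ({b} : Set G))) (P.pgroup₁.comap_subtype (K := (Subgroup.centralizer ({b} : Set G))))
      (W := (coreS (A₁ : Set G)).subgroupOf (Subgroup.centralizer ({b} : Set G))) (fun w hw => Subgroup.mem_centralizer_iff.2 fun t ht =>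
        Subtype.ext (Subgroup.mem_centralizer_iff.1 (coreS_le _ hw) _ ht))
      (fun w hw => Subgroup.mem_normalizer_iff.2 fun y => Subgroup.mem_normalizer_iff.1 (coreS_norm _
        (Subgroup.mem_centralizer_iff.2 fun t ht => congrArg Subtype.val
          (Subgroup.mem_centralizer_iff.1 hw ⟨t, hA₁Cb ht⟩ ht))) y)
      ?_ hJ (fun t ht => hfix t ht)
      ⟨v, P.th_fixed hFT ha (Subgroup.mem_inf.2 ⟨hv.1, hvA⟩), rfl⟩
    refine (coreS_odd (A₁ : Set G)).coprime_dvd_left ?_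
    rw [← Solv.card_map_subtype, Subgroup.subgroupOf_map_subtype]
    exact Subgroup.card_dvd_of_le inf_le_left

/-- The intersection lies in the core of `C(b)`. -/
theorem balance_core {a b : G} (ha : a ∈ A₁ ⊔ A₂) (hb : b ∈ A₁ ⊔ A₂) (hb1 : b ≠ 1) :
    th A₁ a ⊓ th A₂ a ⊓ Subgroup.centralizer ({b} : Set G) ≤ Cfsg.centralizerPPrimeCore 2 b := by
  rintro x ⟨⟨hx₁, hx₂⟩, hxb⟩
  set Cb := Subgroup.centralizer ({b} : Set G) with hCb
  have haCb : a ∈ Cb := P.le_centralizer hb ha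
  set W := (Cfsg.centralizerPPrimeCore 2 a).subgroupOf Cb with hW
  have h1 : W ≤ Subgroup.centralizer {(⟨a, haCb⟩ : ↥Cb)} := fun w hw =>
    Subgroup.mem_centralizer_singleton_iff.2 (Subtype.ext
      (Subgroup.mem_centralizer_singleton_iff.1 (coreS_le _ hw)))
  have h2 : Subgroup.centralizer {(⟨a, haCb⟩ : ↥Cb)} ≤ Subgroup.normalizer (W : Set ↥Cb) := fun w hw =>
    Subgroup.mem_normalizer_iff.2 fun y => Subgroup.mem_normalizer_iff.1 (coreS_norm _
      (Subgroup.mem_centralizer_singleton_iff.2 (congrArg Subtype.val (Subgroup.mem_centralizer_singleton_iff.1 hw)))) y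
  have h3 : (Nat.card W).Coprime 2 := by
    refine (coreS_odd ({a} : Set G)).coprime_dvd_left ?_
    rw [← Solv.card_map_subtype, Subgroup.subgroupOf_map_subtype]
    exact Subgroup.card_dvd_of_le inf_le_left
  refine ⟨⟨x, hxb⟩, mem_core (Subtype.ext (P.sq ha)) h1 h2 h3 (show (⟨x, hxb⟩ : ↥Cb) ∈ W from P.th_le ha hx₁)
    fun J hJ => ?_, rfl⟩
  rcases P.sep_quot hb hb1 hJ with h | h
  · exact P.th_cent hFT ha hb hJ h hx₁
  · exact P.symm.th_cent hFT (sup_comm A₁ A₂ ▸ ha) (sup_comm A₁ A₂ ▸ hb) hJ h hx₂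

/-- The balance condition at the factor of `A₁`. -/
theorem balance_th {a b : G} (ha : a ∈ A₁ ⊔ A₂) (hb : b ∈ A₁ ⊔ A₂) (hb1 : b ≠ 1) :
    th A₁ a ⊓ th A₂ a ⊓ Subgroup.centralizer ({b} : Set G) ≤ th A₁ b := by
  intro x hx
  set D := th A₁ a ⊓ th A₂ a ⊓ Subgroup.centralizer ({b} : Set G) with hD
  have hDn : A₁ ≤ Subgroup.normalizer (D : Set G) :=
    Solv.normalizer_smul_inf (Solv.normalizer_smul_inf (le_sup_left.trans (P.th_norm ha))
      (le_sup_left.trans (sup_comm A₂ A₁ ▸ P.symm.th_norm (sup_comm A₁ A₂ ▸ ha))))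
      ((le_sup_left.trans (P.le_centralizer hb)).trans Subgroup.le_normalizer)
  have hDb : D ≤ Cfsg.centralizerPPrimeCore 2 b := P.balance_core hFT ha hb hb1
  have hodd : (Nat.card D).Coprime 2 := (coreS_odd ({b} : Set G)).coprime_dvd_left (Subgroup.card_dvd_of_le hDb)
  obtain ⟨n, hn, v, hv, rfl⟩ := exists_commutator_mul_fixed hDn
    (by rw [P.card₁]; exact (hodd.pow_right 2).symm)
    (Or.inl (Group.isSolvable_of_comm fun s t => P.ab₁.1.is_comm.comm s t)) hx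
  refine mul_mem (Subgroup.mem_sup_left (Subgroup.commutator_mono hDb le_rfl hn))
    (Subgroup.mem_sup_right (Subgroup.mem_inf.2 ⟨hDb hv.1, ?_⟩))
  exact P.th_fixed hFT ha (Subgroup.mem_inf.2 ⟨(Subgroup.mem_inf.1 (Subgroup.mem_inf.1 hv.1).1).1, hv.2⟩)

end Pair

/-- Goldschmidt's functor of a core-separated pair. -/
theorem isSignalizerFunctor (hFT : ∀ (X : Type u) [Group X] [Finite X], Odd (Nat.card X) → Group.IsSolvable X)
    {A₁ A₂ : Subgroup G} (hcs : Cfsg.IsCoreSeparated A₁ A₂) :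
    Cfsg.IsSignalizerFunctor 2 (A₁ ⊔ A₂) (fun a => th A₁ a ⊓ th A₂ a) := by
  obtain ⟨h1, h2, c1, c2, -, -, hcomm, hsep⟩ := hcs
  have P : Pair A₁ A₂ := ⟨h1, h2, c1, c2, hcomm, hsep⟩
  refine ⟨fun a ha _ => (inf_le_left.trans (P.th_le ha)).trans (coreS_le _), fun a ha _ h => ?_,
    fun a ha _ b hb x hx => ⟨conj_mem_of_mem_normalizer (P.th_norm ha hb) hx.1,
      conj_mem_of_mem_normalizer (P.symm.th_norm (sup_comm A₁ A₂ ▸ ha) (sup_comm A₁ A₂ ▸ hb)) hx.2⟩,
    fun a ha _ b hb hb1 => le_inf (P.balance_th hFT ha hb hb1) ?_⟩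
  · have hcop := (coreS_odd ({a} : Set G)).coprime_dvd_left (Subgroup.card_dvd_of_le (inf_le_left.trans (P.th_le ha) :
      th A₁ a ⊓ th A₂ a ≤ _))
    exact absurd (Nat.eq_one_of_dvd_coprimes hcop.symm (dvd_refl 2) h) (by decide)
  · show th A₁ a ⊓ th A₂ a ⊓ _ ≤ th A₂ b
    rw [inf_comm (th A₁ a)]
    exact P.symm.balance_th hFT (sup_comm A₁ A₂ ▸ ha) (sup_comm A₁ A₂ ▸ hb) hb1

end Cfsg.Agent.Solv.CoreSep
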