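import Cfsg.Agent.Lib.Solv.Frobenius

/-!
Frobenius complements meet, and subgroups covered by conjugates of a complement lie in one conjugate.
-/

set_option autoImplicit false

open scoped Pointwise

namespace Cfsg.Agent.Solv

open Cfsg

universe u

variable {G : Type u} [Group G]

theorem one_mem_kernel (H : Subgroup G) : (1 : G) ∈ frobeniusKernel H := Or.inl rfl

theorem frob_index_mul_two_le [Finite G] {H : Subgroup G} (hH : IsFrobeniusComplement H) :
    H.index * 2 ≤ Nat.card G := by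
  have h2 : 2 ≤ Nat.card H :=
    Finite.one_lt_card_iff_nontrivial.2 ((Subgroup.nontrivial_iff_ne_bot H).2 hH.1)
  calc H.index * 2 ≤ H.index * Nat.card H := Nat.mul_le_mul_left _ h2
    _ = Nat.card G := H.index_mul_card

/-- Two Frobenius complements have conjugates meeting nontrivially. -/
theorem frob_meet [Finite G] {H K : Subgroup G} (hH : IsFrobeniusComplement H)
    (hK : IsFrobeniusComplement K) :
    ∃ x : G, x ≠ 1 ∧ ∃ a b : G, x ∈ MulAut.conj a • H ∧ x ∈ MulAut.conj b • K := by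
  by_contra h
  push Not at h
  have hdis : Disjoint (frobeniusKernel H)ᶜ (frobeniusKernel K)ᶜ := by
    rw [Set.disjoint_left]
    intro x hx hx'
    simp only [frobeniusKernel, Set.mem_compl_iff, Set.mem_setOf_eq, not_or, not_forall,
      not_not] at hx hx'
    obtain ⟨hx1, a, ha⟩ := hx
    obtain ⟨-, b, hb⟩ := hx'
    exact h x hx1 a b ha hb
  have hsub : (frobeniusKernel H)ᶜ ∪ (frobeniusKernel K)ᶜ ⊆ ({1} : Set G)ᶜ := by
    rintro x (hx | hx) rfl <;> exact hx (one_mem_kernel _)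
  have h1 := Set.ncard_le_ncard hsub
  rw [Set.ncard_union_eq hdis] at h1
  have eH := Set.ncard_add_ncard_compl (frobeniusKernel H)
  have eK := Set.ncard_add_ncard_compl (frobeniusKernel K)
  have e1 := Set.ncard_add_ncard_compl ({1} : Set G)
  rw [Set.ncard_singleton] at e1
  rw [← Nat.card_coe_set_eq, frob_kernel_card hH] at eH
  rw [← Nat.card_coe_set_eq, frob_kernel_card hK] at eK
  have := frob_index_mul_two_le hH
  have := frob_index_mul_two_le hK
  omega

theorem frob_inter {H L : Subgroup G} (hH : IsFrobeniusComplement H) (hb : L ⊓ H ≠ ⊥)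
    (hne : ¬ L ≤ H) : IsFrobeniusComplement (H.subgroupOf L) := by
  refine ⟨fun h => hb ?_, fun h => hne (Subgroup.subgroupOf_eq_top.1 h), fun g hg => ?_⟩
  · rw [Subgroup.subgroupOf_eq_bot] at h
    exact h.symm.eq_bot
  · rw [eq_bot_iff]
    rintro x ⟨hx1, hx2⟩
    have hgH : (g : G) ∉ H := hg
    have hx2' : (g : G)⁻¹ * x * g ∈ H := by
      have h2 : x ∈ MulAut.conj g • H.subgroupOf L := hx2
      rw [mem_conj_smul] at h2
      exact h2
    have : (x : G) ∈ H ⊓ MulAut.conj (g : G) • H := ⟨hx1, mem_conj_smul.2 hx2'⟩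
    rw [hH.2.2 _ hgH, Subgroup.mem_bot] at this
    exact Subgroup.mem_bot.2 (Subtype.ext this)

theorem frob_conj {H : Subgroup G} (hH : IsFrobeniusComplement H) (g : G) :
    IsFrobeniusComplement (MulAut.conj g • H) := by
  refine ⟨fun h => hH.1 ?_, fun h => hH.2.1 ?_, fun x hx => ?_⟩
  · have := congrArg (fun K : Subgroup G => MulAut.conj g⁻¹ • K) h
    simp only [conj_smul_conj, inv_mul_cancel, conj_one_smul] at this
    rw [this, Subgroup.Normal.conj_smul_eq_self]
  · have := congrArg (fun K : Subgroup G => MulAut.conj g⁻¹ • K) h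
    simp only [conj_smul_conj, inv_mul_cancel, conj_one_smul] at this
    rw [this, Subgroup.Normal.conj_smul_eq_self]
  · have hx' : g⁻¹ * x * g ∉ H := fun h => hx (mem_conj_smul.2 h)
    have e : MulAut.conj g • (H ⊓ MulAut.conj (g⁻¹ * x * g) • H) =
        MulAut.conj g • H ⊓ MulAut.conj x • MulAut.conj g • H := by
      rw [Subgroup.smul_inf, conj_smul_conj, conj_smul_conj,
        show g * (g⁻¹ * x * g) = x * g by group]
    rw [← e, hH.2.2 _ hx', Subgroup.Normal.conj_smul_eq_self]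

theorem frob_eq_of_meet {H : Subgroup G} (hH : IsFrobeniusComplement H) {x a b : G} (hx : x ≠ 1)
    (ha : x ∈ MulAut.conj a • H) (hb : x ∈ MulAut.conj b • H) :
    MulAut.conj a • H = MulAut.conj b • H := by
  rw [show b = a * (a⁻¹ * b) by group, ← conj_smul_conj,
    Subgroup.conj_smul_eq_self_of_mem (frob_conj_mem hH hx ha hb)]

/-- A subgroup covered by conjugates of a Frobenius complement lies in one of them. -/
theorem frob_le_conj [Finite G] {H : Subgroup G} (hH : IsFrobeniusComplement H) (L : Subgroup G)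
    (hL : ∀ x ∈ L, x ≠ 1 → ∃ g : G, x ∈ MulAut.conj g • H) :
    ∃ g : G, L ≤ MulAut.conj g • H := by
  rcases eq_or_ne L ⊥ with rfl | hLb
  · exact ⟨1, bot_le⟩
  obtain ⟨⟨x, hx⟩, hx1⟩ := Subgroup.ne_bot_iff_exists_ne_one.1 hLb
  have hx1' : x ≠ 1 := fun e => hx1 (Subtype.ext e)
  obtain ⟨g, hg⟩ := hL x hx hx1'
  by_contra hne
  push Not at hne
  have hD := frob_inter (L := L) (frob_conj hH g)
    (fun h => hx1' ((Subgroup.mem_bot).1 (h ▸ ⟨hx, hg⟩))) (hne g)
  set D := (MulAut.conj g • H).subgroupOf L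
  have hnt : Nontrivial (frobeniusKernel D) := by
    rw [← Finite.one_lt_card_iff_nontrivial, frob_kernel_card hD]
    exact Subgroup.one_lt_index_of_ne_top hD.2.1
  obtain ⟨⟨y, hy⟩, hy1⟩ := exists_ne (⟨1, one_mem_kernel D⟩ : frobeniusKernel D)
  have hy1' : y ≠ 1 := fun e => hy1 (Subtype.ext e)
  rcases hy with hy | hy
  · exact hy1' hy
  obtain ⟨g', hg'⟩ := hL y y.2 (fun e => hy1' (Subtype.ext e))
  have hE := frob_inter (L := L) (frob_conj hH g')
    (fun h => hy1' (Subtype.ext ((Subgroup.mem_bot).1 (h ▸ ⟨y.2, hg'⟩)))) (hne g')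
  obtain ⟨z, hz1, a, b, ha, hb⟩ := frob_meet hD hE
  have hz1' : (z : G) ≠ 1 := fun e => hz1 (Subtype.ext e)
  have ha' : (z : G) ∈ MulAut.conj ((a : G) * g) • H := by
    rw [← conj_smul_conj, mem_conj_smul]
    exact Subgroup.mem_subgroupOf.1 (mem_conj_smul.1 ha)
  have hb' : (z : G) ∈ MulAut.conj ((b : G) * g') • H := by
    rw [← conj_smul_conj, mem_conj_smul]
    exact Subgroup.mem_subgroupOf.1 (mem_conj_smul.1 hb)
  have heq := frob_eq_of_meet hH hz1' ha' hb'
  rw [← conj_smul_conj, ← conj_smul_conj] at heq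
  refine hy (b⁻¹ * a) (mem_conj_smul.2 (Subgroup.mem_subgroupOf.2 ?_))
  have hy2 : (b : G) * y * (b : G)⁻¹ ∈ MulAut.conj (b : G) • MulAut.conj g' • H := by
    rw [mem_conj_smul]
    simpa [mul_assoc] using hg'
  rw [← heq, mem_conj_smul] at hy2
  push_cast
  convert hy2 using 1
  group

theorem frob_disjoint_kernel [Finite G] {H H₀ : Subgroup G} (hH : IsFrobeniusComplement H)
    (hH₀ : IsFrobeniusComplement H₀) (hle : Nat.card H₀ ≤ Nat.card H) :
    ∀ x ∈ H₀, x ≠ 1 → ∃ g : G, x ∈ MulAut.conj g • H := by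
  intro x hx hx1
  by_contra hxk
  push Not at hxk
  obtain ⟨N, hN, hNn, hNc⟩ := frobenius_theorem hH
  have hxN : x ∈ N := by rw [← SetLike.mem_coe, hN]; exact Or.inr hxk
  by_cases hNH : N ≤ H₀
  · -- a nontrivial normal subgroup inside a trivial-intersection subgroup
    obtain ⟨c, -, hc⟩ := SetLike.exists_of_lt (lt_top_iff_ne_top.2 hH₀.2.1)
    have h1 : x ∈ H₀ ⊓ MulAut.conj c • H₀ := ⟨hx,
      Subgroup.pointwise_smul_le_pointwise_smul_iff.2 hNH
        (by rw [Subgroup.Normal.conj_smul_eq_self]; exact hxN)⟩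
    rw [hH₀.2.2 c hc, Subgroup.mem_bot] at h1
    exact hx1 h1
  have hD := frob_inter (L := N) hH₀ (fun h => hx1 ((Subgroup.mem_bot).1 (h ▸ ⟨hxN, hx⟩))) hNH
  -- `G = N H₀`
  have htop : N ⊔ H₀ = ⊤ := by
    rw [eq_top_iff]
    intro g _
    have hxg : g * x * g⁻¹ ∈ N := hNn.conj_mem x hxN g
    have hxg0 : g * x * g⁻¹ ∈ MulAut.conj g • H₀ := mem_conj_smul.2 (by simpa [mul_assoc] using hx)
    have hne' : g * x * g⁻¹ ≠ 1 := fun e => hx1 (by simpa using e)
    have hEle : ¬ N ≤ MulAut.conj g • H₀ := fun h => hNH (by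
      rw [← Subgroup.Normal.conj_smul_eq_self g N,
        Subgroup.pointwise_smul_le_pointwise_smul_iff] at h
      exact h)
    have hE := frob_inter (L := N) (frob_conj hH₀ g)
      (fun h => hne' ((Subgroup.mem_bot).1 (h ▸ ⟨hxg, hxg0⟩))) hEle
    obtain ⟨z, hz1, a, b, ha, hb⟩ := frob_meet hD hE
    have ha' : (z : G) ∈ MulAut.conj (a : G) • H₀ :=
      mem_conj_smul.2 (Subgroup.mem_subgroupOf.1 (mem_conj_smul.1 ha))
    have hb' : (z : G) ∈ MulAut.conj ((b : G) * g) • H₀ := by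
      rw [← conj_smul_conj, mem_conj_smul]
      exact Subgroup.mem_subgroupOf.1 (mem_conj_smul.1 hb)
    have hh := frob_conj_mem hH₀ (fun e => hz1 (Subtype.ext e)) ha' hb'
    rw [show g = ((b : G)⁻¹ * a) * ((a : G)⁻¹ * ((b : G) * g)) by group]
    exact Subgroup.mul_mem_sup (N.mul_mem (N.inv_mem b.2) a.2) hh
  have h1 := card_sup_mul_card_inf N H₀
  rw [htop, Subgroup.card_top, ← hNc.card_mul, mul_assoc] at h1
  have h2 := Nat.eq_of_mul_eq_mul_left Nat.card_pos h1
  have h3 : 1 < Nat.card (N ⊓ H₀ : Subgroup G) := by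
    rw [Finite.one_lt_card_iff_nontrivial, Subgroup.nontrivial_iff_ne_bot]
    exact fun h => hx1 ((Subgroup.mem_bot).1 (h ▸ ⟨hxN, hx⟩))
  have h4 : Nat.card H < Nat.card H * Nat.card (N ⊓ H₀ : Subgroup G) :=
    lt_mul_of_one_lt_right Nat.card_pos h3
  omega

end Cfsg.Agent.Solv
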