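import Cfsg.Prelude.Def_SubgroupEmbedding
import Cfsg.Prelude.Def_CaseTheorems
import Cfsg.Agent.Lib.Char.ZStar
import Mathlib

/-!
Extremely closed abelian 2-subgroups: `G = N(H) O(G)`.

Every coset of `N = N(H)` contains a unique element `k` of odd order lying in `⟨H, H^k⟩` (a
representative).  For three commuting involutions `a, b, a*b` of `H` the product
`θ(a) θ(ab) θ(b)` of the odd cores of their centralisers is the set of all `k * d`
(`k` a representative, `d ∈ O(N)`), whatever the order of the factors; hence it is a subgroup,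
normal of odd order.
-/

set_option autoImplicit false

namespace Cfsg.Agent.Solv.ExtClosed

open Cfsg Subgroup

universe u

variable {G : Type u} [Group G]

/-- The normaliser of a subgroup. -/
abbrev nrm {X : Type*} [Group X] (H : Subgroup X) : Subgroup X := Subgroup.normalizer (H : Set X)

/-- `⟨H, g H g⁻¹⟩`. -/
def Kg (H : Subgroup G) (g : G) : Subgroup G := H ⊔ H.map (MulAut.conj g).toMonoidHom

/-- The odd core of the centraliser of `a`, read in `G`. -/
def theta (a : G) : Subgroup G :=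
  (oddCore (Subgroup.centralizer ({a} : Set G))).map (Subgroup.centralizer ({a} : Set G)).subtype

/-- The odd core of the normaliser, read in `G`. -/
def coreN (H : Subgroup G) : Subgroup G := (oddCore (nrm H)).map (nrm H).subtype

/-- An odd-order element lying in `⟨H, k H k⁻¹⟩`. -/
def IsRep (H : Subgroup G) (k : G) : Prop := Odd (orderOf k) ∧ k ∈ Kg H k

/-- `C(a) = θ(a) N_a`. -/
def FixFact (H : Subgroup G) (a : G) : Prop :=
  ∀ x : G, Commute a x → ∃ t ∈ theta a, ∃ n ∈ nrm H, Commute a n ∧ x = t * n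

structure Hyp (H : Subgroup G) : Prop where
  two : IsPGroup 2 H
  comm : ∀ x ∈ H, ∀ y ∈ H, x * y = y * x
  closed : IsExtremelyClosed H

theorem mem_Kg_left {H : Subgroup G} {g h : G} (h1 : h ∈ H) : h ∈ Kg H g :=
  (le_sup_left : H ≤ Kg H g) h1

theorem mem_Kg_right {H : Subgroup G} {g h : G} (h1 : h ∈ H) : g * h * g⁻¹ ∈ Kg H g :=
  (le_sup_right : H.map (MulAut.conj g).toMonoidHom ≤ Kg H g) ⟨h, h1, rfl⟩

theorem Kg_le {H L : Subgroup G} {g : G} (h1 : ∀ h ∈ H, h ∈ L)
    (h2 : ∀ h ∈ H, g * h * g⁻¹ ∈ L) : Kg H g ≤ L :=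
  sup_le h1 (by rintro _ ⟨h, hh, rfl⟩; exact h2 h hh)

theorem mem_nrm_conj {H : Subgroup G} {n h : G} (hn : n ∈ nrm H) (hh : h ∈ H) :
    n * h * n⁻¹ ∈ H :=
  (Subgroup.mem_normalizer_iff.1 hn h).1 hh

theorem mem_nrm_of [Finite G] {H : Subgroup G} {n : G} (h : ∀ x ∈ H, n * x * n⁻¹ ∈ H) :
    n ∈ nrm H := by
  have e : H.map (MulAut.conj n).toMonoidHom = H := by
    refine Subgroup.eq_of_le_of_card_ge (by rintro _ ⟨x, hx, rfl⟩; exact h x hx) ?_
    rw [Subgroup.card_map_of_injective (f := (MulAut.conj n).toMonoidHom) (MulAut.conj n).injective]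
  refine Subgroup.mem_normalizer_iff.2 fun x => ⟨h x, fun hx => ?_⟩
  rw [← e] at hx
  obtain ⟨y, hy, hxy⟩ := hx
  have : n * y * n⁻¹ = n * x * n⁻¹ := hxy
  have e2 : y = x := mul_left_cancel (mul_right_cancel this)
  exact e2 ▸ hy

theorem Kg_mul_nrm {H : Subgroup G} {k n : G} (hn : n ∈ nrm H) : Kg H (k * n) = Kg H k := by
  refine le_antisymm (Kg_le (fun h hh => mem_Kg_left hh) fun h hh => ?_)
    (Kg_le (fun h hh => mem_Kg_left hh) fun h hh => ?_)
  · have := mem_Kg_right (g := k) (mem_nrm_conj hn hh)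
    rwa [show k * n * h * (k * n)⁻¹ = k * (n * h * n⁻¹) * k⁻¹ by group]
  · have h2 : n⁻¹ * h * n⁻¹⁻¹ ∈ H := mem_nrm_conj ((nrm H).inv_mem hn) hh
    have := mem_Kg_right (g := k * n) h2
    rwa [show k * n * (n⁻¹ * h * n⁻¹⁻¹) * (k * n)⁻¹ = k * h * k⁻¹ by group] at this

theorem closed_mem {H : Subgroup G} (hH : IsExtremelyClosed H) {g x : G} (hx : x ∈ Kg H g)
    (hn : x ∈ nrm H) : x ∈ H := by
  have := hH g
  rw [← this]
  exact Subgroup.mem_inf.2 ⟨hx, hn⟩

variable [Finite G]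

/-- The normal complement of `H` in `⟨H, H^g⟩`. -/
theorem exists_core {H : Subgroup G} (h : Hyp H) (g : G) :
    ∃ O : Subgroup G, O ≤ Kg H g ∧ Odd (Nat.card O) ∧
      (∀ x ∈ Kg H g, ∀ o ∈ O, x * o * x⁻¹ ∈ O) ∧
      (∀ x ∈ Kg H g, ∃ o ∈ O, ∃ y ∈ H, x = o * y) ∧
      (∀ x ∈ Kg H g, Odd (orderOf x) → x ∈ O) ∧
      (∀ x ∈ O, x ∈ nrm H → x = 1) ∧
      ∃ k ∈ O, k⁻¹ * g ∈ nrm H := by
  haveI : Fact (Nat.Prime 2) := ⟨Nat.prime_two⟩
  set K := Kg H g with hK
  set H0 := H.subgroupOf K with hH0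
  have hHK : H ≤ K := le_sup_left
  have h0p : IsPGroup 2 H0 := h.two.of_equiv (Subgroup.subgroupOfEquivOfLe hHK).symm
  have hN : ∀ x : K, x ∈ nrm H0 → x ∈ H0 := by
    intro x hx
    refine closed_mem h.closed (g := g) x.2 (mem_nrm_of fun y hy => ?_)
    exact mem_nrm_conj (H := H0) hx (h := ⟨y, hHK hy⟩) hy
  have hidx : ¬ 2 ∣ H0.index := by
    intro hd
    obtain ⟨n, hn⟩ := IsPGroup.iff_card.1 h0p
    have hdvd : 2 ^ (n + 1) ∣ Nat.card K := by
      rw [← H0.card_mul_index, hn, pow_succ]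
      exact mul_dvd_mul_left _ hd
    have h1 := Sylow.prime_pow_dvd_card_normalizer hdvd hn
    have h2 : Nat.card (nrm H0) ∣ 2 ^ n := hn ▸ Subgroup.card_dvd_of_le hN
    have := (Nat.pow_dvd_pow_iff_le_right (by norm_num : 1 < 2)).1 (h1.trans h2)
    omega
  set P : Sylow 2 K := h0p.toSylow hidx
  have hP : ∀ x : K, x ∈ P ↔ (x : G) ∈ H := fun x => by
    show x ∈ (P : Subgroup K) ↔ _
    rw [show (P : Subgroup K) = H0 from IsPGroup.toSylow_coe h0p hidx]
    rfl
  have hPe : (P : Subgroup K) = H0 := IsPGroup.toSylow_coe h0p hidx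
  have hb : Subgroup.normalizer ((P : Subgroup K) : Set K) ≤
      Subgroup.centralizer ((P : Subgroup K) : Set K) := by
    rw [hPe]
    intro x hx
    rw [Subgroup.mem_centralizer_iff]
    intro y hy
    exact Subtype.ext (h.comm _ hy _ (hN x hx))
  obtain ⟨f, hc, hkodd⟩ : ∃ f : K →* (P : Subgroup K),
      Subgroup.IsComplement' f.ker (P : Subgroup K) ∧ ¬ 2 ∣ Nat.card f.ker :=
    ⟨MonoidHom.transferSylow P hb, MonoidHom.ker_transferSylow_isComplement' P hb,
      MonoidHom.not_dvd_card_ker_transferSylow P hb⟩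
  have hmem : ∀ x : K, Odd (orderOf x) → x ∈ f.ker := by
    intro x hx
    rw [MonoidHom.mem_ker, ← orderOf_eq_one_iff]
    obtain ⟨j, hj⟩ := (IsPGroup.iff_orderOf.1 P.isPGroup') (f x)
    have hd : orderOf (f x) ∣ orderOf x := orderOf_map_dvd f x
    rw [hj] at hd ⊢
    rcases j with - | j
    · rfl
    · exact absurd (Odd.of_dvd_nat hx hd) (by simp [parity_simps])
  refine ⟨f.ker.map K.subtype, Subgroup.map_subtype_le _, ?_, ?_, ?_, ?_, ?_, ?_⟩
  · rw [Subgroup.card_map_of_injective K.subtype_injective, Nat.odd_iff]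
    omega
  · rintro x hx _ ⟨o, ho, rfl⟩
    exact ⟨⟨x, hx⟩ * o * ⟨x, hx⟩⁻¹, (f.normal_ker).conj_mem o ho ⟨x, hx⟩, rfl⟩
  · intro x hx
    obtain ⟨⟨⟨o, ho⟩, ⟨y, hy⟩⟩, e⟩ := hc.2 ⟨x, hx⟩
    exact ⟨o, ⟨o, ho, rfl⟩, y, (hP y).1 hy, (congrArg Subtype.val e).symm⟩
  · intro x hx hodd
    exact ⟨⟨x, hx⟩, hmem _ (by rwa [Subgroup.orderOf_mk]), rfl⟩
  · rintro _ ⟨o, ho, rfl⟩ hn
    have h1 : (o : G) ∈ H := closed_mem h.closed o.2 hn
    have h2 : o ∈ f.ker ⊓ (P : Subgroup K) := Subgroup.mem_inf.2 ⟨ho, (hP o).2 h1⟩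
    rw [hc.disjoint.eq_bot] at h2
    rw [Subgroup.mem_bot.1 h2]
    rfl
  · have h1p : IsPGroup 2 ((H.map (MulAut.conj g).toMonoidHom).subgroupOf K) :=
      (h.two.map _).of_equiv (Subgroup.subgroupOfEquivOfLe le_sup_right).symm
    obtain ⟨Q, hQ⟩ := h1p.exists_le_sylow
    obtain ⟨x, hx⟩ := MulAction.exists_smul_eq K Q P
    obtain ⟨⟨⟨o, ho⟩, ⟨y, hy⟩⟩, e⟩ := hc.2 x⁻¹
    refine ⟨o, ⟨o, ho, rfl⟩, mem_nrm_of fun z hz => ?_⟩
    have hzQ : (⟨g * z * g⁻¹, mem_Kg_right hz⟩ : K) ∈ Q := hQ ⟨z, hz, rfl⟩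
    have hxP : x * ⟨g * z * g⁻¹, mem_Kg_right hz⟩ * x⁻¹ ∈ P := by
      rw [← hx]
      exact Subgroup.smul_mem_pointwise_smul _ (MulAut.conj x) _ hzQ
    have h2 : (x : G) * (g * z * g⁻¹) * (x : G)⁻¹ ∈ H := (hP _).1 hxP
    have hy' : (y : G) ∈ H := (hP y).1 hy
    have ex : (x : G)⁻¹ = (o : G) * (y : G) := (congrArg Subtype.val e).symm
    have ex' : (x : G) = ((o : G) * (y : G))⁻¹ := by rw [← ex, inv_inv]
    rw [ex'] at h2
    have h3 := H.mul_mem (H.mul_mem hy' h2) (H.inv_mem hy')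
    convert h3 using 1
    group

theorem exists_rep {H : Subgroup G} (h : Hyp H) (g : G) :
    ∃ k, IsRep H k ∧ k⁻¹ * g ∈ nrm H := by
  obtain ⟨O, hOK, hodd, -, -, -, -, k, hk, hkN⟩ := exists_core h g
  refine ⟨k, ⟨Odd.of_dvd_nat hodd ?_, ?_⟩, hkN⟩
  · rw [← Subgroup.orderOf_mk k hk]
    exact orderOf_dvd_natCard _
  · have e : Kg H k = Kg H g := by
      conv_rhs => rw [show g = k * (k⁻¹ * g) by group]
      exact (Kg_mul_nrm hkN).symm
    rw [e]
    exact hOK hk

/-- Odd elements of some `⟨H, H^g⟩` are representatives. -/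
theorem rep_of_mem {H : Subgroup G} (h : Hyp H) {g y : G} (hy : y ∈ Kg H g)
    (hodd : Odd (orderOf y)) : IsRep H y := by
  obtain ⟨O, -, -, -, -, hmem, hone, -⟩ := exists_core h g
  obtain ⟨k, hk, hkN⟩ := exists_rep h y
  have hle : Kg H y ≤ Kg H g :=
    Kg_le (fun z hz => mem_Kg_left hz) fun z hz =>
      (Kg H g).mul_mem ((Kg H g).mul_mem hy (mem_Kg_left hz)) ((Kg H g).inv_mem hy)
  have e : Kg H k = Kg H y := by
    conv_rhs => rw [show y = k * (k⁻¹ * y) by group]
    exact (Kg_mul_nrm hkN).symm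
  have h1 : k⁻¹ * y = 1 := hone _
    (O.mul_mem (O.inv_mem (hmem k (hle (e ▸ hk.2)) hk.1)) (hmem y hy hodd)) hkN
  rw [inv_mul_eq_one] at h1
  exact h1 ▸ hk

theorem rep_unique {H : Subgroup G} (h : Hyp H) {k k' : G} (hk : IsRep H k) (hk' : IsRep H k')
    (hn : k⁻¹ * k' ∈ nrm H) : k = k' := by
  obtain ⟨O, -, -, -, -, hmem, hone, -⟩ := exists_core h k
  have e : Kg H k' = Kg H k := by
    conv_lhs => rw [show k' = k * (k⁻¹ * k') by group]
    exact Kg_mul_nrm hn
  exact inv_mul_eq_one.1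
    (hone _ (O.mul_mem (O.inv_mem (hmem k hk.2 hk.1)) (hmem k' (e ▸ hk'.2) hk'.1)) hn)

omit [Finite G] in
theorem rep_conj {H : Subgroup G} {k n : G} (hk : IsRep H k) (hn : n ∈ nrm H) :
    IsRep H (n * k * n⁻¹) := by
  refine ⟨?_, ?_⟩
  · rw [show n * k * n⁻¹ = MulAut.conj n k from rfl, MulEquiv.orderOf_eq]
    exact hk.1
  · have hle : Kg H k ≤ (Kg H (n * k * n⁻¹)).comap (MulAut.conj n).toMonoidHom := by
      refine Kg_le (fun z hz => ?_) fun z hz => ?_
      · exact mem_Kg_left (mem_nrm_conj hn hz)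
      · have := mem_Kg_right (g := n * k * n⁻¹) (mem_nrm_conj hn hz)
        show n * (k * z * k⁻¹) * n⁻¹ ∈ Kg H (n * k * n⁻¹)
        rwa [show n * k * n⁻¹ * (n * z * n⁻¹) * (n * k * n⁻¹)⁻¹ = n * (k * z * k⁻¹) * n⁻¹ by group]
          at this
    exact hle hk.2

theorem one_rep {H : Subgroup G} : IsRep H 1 := ⟨by simp, one_mem _⟩

/-! ### The odd cores -/

omit [Finite G] in
theorem theta_comm {a x : G} (hx : x ∈ theta a) : Commute a x := by
  obtain ⟨y, -, rfl⟩ := hx
  exact (Subgroup.mem_centralizer_singleton_iff.1 y.2).symm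

theorem theta_conj {a c x : G} (hc : Commute a c) (hx : x ∈ theta a) : c * x * c⁻¹ ∈ theta a := by
  obtain ⟨y, hy, rfl⟩ := hx
  have hc' : c ∈ Subgroup.centralizer ({a} : Set G) :=
    Subgroup.mem_centralizer_singleton_iff.2 hc.eq.symm
  exact ⟨⟨c, hc'⟩ * y * ⟨c, hc'⟩⁻¹,
    (inferInstance : (oddCore (Subgroup.centralizer ({a} : Set G))).Normal).conj_mem y hy _, rfl⟩

theorem theta_odd (a : G) : Odd (Nat.card (theta a)) := by
  rw [theta, Subgroup.card_map_of_injective (Subgroup.subtype_injective _)]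
  exact Char.card_oddCore_odd _

theorem odd_of_mem {L : Subgroup G} (h : Odd (Nat.card L)) {x : G} (hx : x ∈ L) :
    Odd (orderOf x) := by
  refine Odd.of_dvd_nat h ?_
  rw [← Subgroup.orderOf_mk x hx]
  exact orderOf_dvd_natCard _

theorem eq_one_of_odd_two {H : Subgroup G} (h : Hyp H) {x : G} (hx : x ∈ H)
    (hodd : Odd (orderOf x)) : x = 1 := by
  obtain ⟨j, hj⟩ := (IsPGroup.iff_orderOf.1 h.two) ⟨x, hx⟩
  rw [Subgroup.orderOf_mk] at hj
  rw [hj] at hodd
  rcases j with - | j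
  · exact orderOf_eq_one_iff.1 (by simpa using hj)
  · exact absurd hodd (by simp [parity_simps])

theorem coreN_odd (H : Subgroup G) : Odd (Nat.card (coreN H)) := by
  rw [coreN, Subgroup.card_map_of_injective (Subgroup.subtype_injective _)]
  exact Char.card_oddCore_odd _

omit [Finite G] in
theorem coreN_le (H : Subgroup G) : coreN H ≤ nrm H := Subgroup.map_subtype_le _

theorem coreN_conj {H : Subgroup G} {n x : G} (hn : n ∈ nrm H) (hx : x ∈ coreN H) :
    n * x * n⁻¹ ∈ coreN H := by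
  obtain ⟨y, hy, rfl⟩ := hx
  exact ⟨⟨n, hn⟩ * y * ⟨n, hn⟩⁻¹,
    (inferInstance : (oddCore (nrm H)).Normal).conj_mem y hy _, rfl⟩

theorem coreN_centralizes {H : Subgroup G} (h : Hyp H) {x y : G} (hx : x ∈ coreN H) (hy : y ∈ H) :
    Commute x y := by
  have hyN : y ∈ nrm H := Subgroup.le_normalizer hy
  have h1 : x * y * x⁻¹ * y⁻¹ ∈ coreN H := by
    have := (coreN H).mul_mem hx (coreN_conj hyN ((coreN H).inv_mem hx))
    rwa [show x * y * x⁻¹ * y⁻¹ = x * (y * x⁻¹ * y⁻¹) by group]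
  have h2 : x * y * x⁻¹ * y⁻¹ ∈ H := H.mul_mem (mem_nrm_conj (coreN_le H hx) hy) (H.inv_mem hy)
  have h3 := eq_one_of_odd_two h h2 (odd_of_mem (coreN_odd H) h1)
  rw [mul_inv_eq_one, mul_inv_eq_iff_eq_mul] at h3
  exact h3

/-- `θ(a) ∩ N ≤ O(N)`. -/
theorem theta_inf_nrm {H : Subgroup G} (h : Hyp H) {a x : G} (ha : a ∈ H) (hx : x ∈ theta a)
    (hxN : x ∈ nrm H) : x ∈ coreN H := by
  have hcom : ∀ (z : G), z ∈ theta a → z ∈ nrm H → z ∈ Subgroup.centralizer (H : Set G) := by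
    intro z hz hzN
    rw [Subgroup.mem_centralizer_iff]
    intro y hy
    have h1 : z * (y * z⁻¹ * y⁻¹) ∈ theta a :=
      (theta a).mul_mem hz (theta_conj (h.comm a ha y hy) ((theta a).inv_mem hz))
    have h2 : z * (y * z⁻¹ * y⁻¹) ∈ H := by
      rw [show z * (y * z⁻¹ * y⁻¹) = z * y * z⁻¹ * y⁻¹ by group]
      exact H.mul_mem (mem_nrm_conj hzN hy) (H.inv_mem hy)
    have h3 := eq_one_of_odd_two h h2 (odd_of_mem (theta_odd a) h1)
    rw [show z * (y * z⁻¹ * y⁻¹) = z * y * z⁻¹ * y⁻¹ by group, mul_inv_eq_one,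
      mul_inv_eq_iff_eq_mul] at h3
    exact h3.symm
  set C' : Subgroup (nrm H) := (Subgroup.centralizer (H : Set G)).subgroupOf (nrm H) with hC'
  haveI : C'.Normal := by
    constructor
    intro c hc n
    show (n : G) * c * (n : G)⁻¹ ∈ Subgroup.centralizer (H : Set G)
    rw [Subgroup.mem_centralizer_iff]
    intro y hy
    have h1 : (n : G)⁻¹ * y * (n : G)⁻¹⁻¹ ∈ H := mem_nrm_conj ((nrm H).inv_mem n.2) hy
    have h2 : (n : G)⁻¹ * y * (n : G)⁻¹⁻¹ * c = c * ((n : G)⁻¹ * y * (n : G)⁻¹⁻¹) :=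
      Subgroup.mem_centralizer_iff.1 hc _ h1
    calc y * ((n : G) * c * (n : G)⁻¹)
        = (n : G) * ((n : G)⁻¹ * y * (n : G)⁻¹⁻¹ * c) * (n : G)⁻¹ := by group
      _ = (n : G) * c * (n : G)⁻¹ * y := by rw [h2]; group
  have hn : ((oddCore C').map C'.subtype).Normal := by
    constructor
    rintro _ ⟨k, hk, rfl⟩ g
    have := (Fusion.map_pPrimeCore_equiv (p := 2) (MulAut.conjNormal g : MulAut C')).le
      (Subgroup.mem_map_of_mem _ hk)
    exact ⟨_, this, MulAut.conjNormal_apply g k⟩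
  have hle : (oddCore C').map C'.subtype ≤ oddCore (nrm H) := Fusion.le_pPrimeCore (hn := hn) (by
    rw [Subgroup.card_map_of_injective C'.subtype_injective]
    exact Fusion.card_pPrimeCore_coprime 2 _)
  let ι : C' →* G := (nrm H).subtype.comp C'.subtype
  have hι : Function.Injective ι :=
    (Subgroup.subtype_injective _).comp (Subgroup.subtype_injective _)
  set L : Subgroup C' := (theta a).comap ι
  haveI : L.Normal := by
    constructor
    intro l hl c
    show ι (c * l * c⁻¹) ∈ theta a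
    rw [map_mul, map_mul, map_inv]
    exact theta_conj (Subgroup.mem_centralizer_iff.1 c.2 a ha) hl
  have hL : L ≤ oddCore C' := Fusion.le_pPrimeCore (by
    refine Nat.Coprime.coprime_dvd_left ?_ (Nat.coprime_two_right.2 (theta_odd a))
    rw [← Subgroup.card_map_of_injective hι]
    exact Subgroup.card_dvd_of_le (Subgroup.map_comap_le _ _))
  have hxC : (⟨⟨x, hxN⟩, hcom x hx hxN⟩ : C') ∈ L := hx
  exact ⟨⟨x, hxN⟩, hle ⟨_, hL hxC, rfl⟩, rfl⟩

/-- `O(N) ≤ θ(c)`. -/
theorem coreN_le_theta {H : Subgroup G} (h : Hyp H) {c : G} (hc : c ∈ H) (hf : FixFact H c) :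
    coreN H ≤ theta c := by
  set C := Subgroup.centralizer ({c} : Set G) with hC
  have hDC : coreN H ≤ C := fun d hd =>
    Subgroup.mem_centralizer_singleton_iff.2 (coreN_centralizes h hd hc).eq
  set D' := (coreN H).subgroupOf C
  have hD' : ∀ n : C, ((n : G)) ∈ nrm H → ∀ d ∈ D', n * d * n⁻¹ ∈ D' :=
    fun n hn d hd => coreN_conj hn hd
  haveI hM : (oddCore C ⊔ D').Normal := by
    constructor
    intro m hm x
    obtain ⟨t, ht, n, hn, hcn, hx⟩ := hf (x : G) (Subgroup.mem_centralizer_singleton_iff.1 x.2).symm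
    obtain ⟨t', ht', rfl⟩ := ht
    have hnC : n ∈ C := Subgroup.mem_centralizer_singleton_iff.2 hcn.eq.symm
    have ex : x = t' * ⟨n, hnC⟩ := Subtype.ext hx
    have hmap : oddCore C ⊔ D' ≤ (oddCore C ⊔ D').comap (MulAut.conj x).toMonoidHom := by
      refine sup_le (fun z hz => Subgroup.mem_sup_left
        ((inferInstance : (oddCore C).Normal).conj_mem z hz x)) fun z hz => ?_
      show x * z * x⁻¹ ∈ oddCore C ⊔ D'
      rw [ex, show t' * ⟨n, hnC⟩ * z * (t' * ⟨n, hnC⟩)⁻¹ =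
        t' * (⟨n, hnC⟩ * z * ⟨n, hnC⟩⁻¹) * t'⁻¹ by group]
      exact Subgroup.mul_mem _ (Subgroup.mul_mem _ (Subgroup.mem_sup_left ht')
        (Subgroup.mem_sup_right (hD' _ hn z hz))) (Subgroup.inv_mem _ (Subgroup.mem_sup_left ht'))
    exact hmap hm
  have hcop : (Nat.card (oddCore C ⊔ D' : Subgroup C)).Coprime 2 := by
    rw [sup_comm]
    refine Nat.Coprime.coprime_dvd_left (Fusion.card_sup_dvd _ _) (Nat.Coprime.mul_left ?_ ?_)
    · rw [Nat.card_congr (Subgroup.subgroupOfEquivOfLe hDC).toEquiv]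
      exact Nat.coprime_two_right.2 (coreN_odd H)
    · exact Fusion.card_pPrimeCore_coprime 2 _
  intro d hd
  exact ⟨⟨d, hDC hd⟩, Fusion.le_pPrimeCore (hn := hM) hcop
    (Subgroup.mem_sup_right (show (⟨d, hDC hd⟩ : C) ∈ D' from hd)), rfl⟩

/-- A representative commuting with `a` lies in `θ(a)`. -/
theorem rep_mem_theta {H : Subgroup G} (h : Hyp H) {a k : G} (ha : a ∈ H) (hf : FixFact H a)
    (hk : IsRep H k) (hc : Commute a k) : k ∈ theta a := by
  obtain ⟨t, ht, n, hn, -, rfl⟩ := hf k hc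
  have hHn : H ≤ Subgroup.normalizer (theta a : Set G) := fun y hy =>
    mem_nrm_of fun z hz => theta_conj (h.comm a ha y hy) hz
  have hle : Kg H (t * n) ≤ H ⊔ theta a := by
    rw [Kg_mul_nrm hn]
    exact Kg_le (fun y hy => Subgroup.mem_sup_left hy) fun y hy =>
      Subgroup.mul_mem _ (Subgroup.mul_mem _ (Subgroup.mem_sup_right ht)
        (Subgroup.mem_sup_left hy)) (Subgroup.inv_mem _ (Subgroup.mem_sup_right ht))
  have hk2 : t * n ∈ ((H ⊔ theta a : Subgroup G) : Set G) := hle hk.2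
  rw [Subgroup.coe_mul_of_left_le_normalizer_right _ _ hHn] at hk2
  obtain ⟨y, hy, s, hs, e⟩ := hk2
  set C := Subgroup.centralizer ({a} : Set G)
  have hkC : t * n ∈ C := Subgroup.mem_centralizer_singleton_iff.2 hc.eq.symm
  have hyC : y ∈ C := Subgroup.mem_centralizer_singleton_iff.2 (h.comm y hy a ha)
  obtain ⟨s', hs', rfl⟩ := hs
  set q := QuotientGroup.mk' (oddCore C)
  have hq : q ⟨t * n, hkC⟩ = q ⟨y, hyC⟩ := by
    rw [show (⟨t * n, hkC⟩ : C) = ⟨y, hyC⟩ * s' from Subtype.ext e.symm, map_mul,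
      show q s' = 1 from (QuotientGroup.eq_one_iff _).2 hs', mul_one]
  have h1 : orderOf (q ⟨t * n, hkC⟩) = 1 := by
    obtain ⟨j, hj⟩ := (IsPGroup.iff_orderOf.1 h.two) ⟨y, hy⟩
    rw [Subgroup.orderOf_mk] at hj
    have d1 : orderOf (q ⟨t * n, hkC⟩) ∣ 2 ^ j := by
      rw [hq, ← hj, ← Subgroup.orderOf_mk y hyC]
      exact orderOf_map_dvd q _
    have d2 : orderOf (q ⟨t * n, hkC⟩) ∣ orderOf (t * n) := by
      rw [← Subgroup.orderOf_mk (t * n) hkC]
      exact orderOf_map_dvd q _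
    exact Nat.eq_one_of_dvd_coprimes
      (Nat.Coprime.pow_left _ (Nat.coprime_two_left.2 hk.1)) d1 d2
  exact ⟨_, (QuotientGroup.eq_one_iff _).1 (orderOf_eq_one_iff.1 h1), rfl⟩

/-- Balance: `θ(a) ∩ C(c) ≤ θ(c)`. -/
theorem balance {H : Subgroup G} (h : Hyp H) {a c t : G} (ha : a ∈ H) (hc : c ∈ H)
    (hfa : FixFact H a) (hfc : FixFact H c) (ht : t ∈ theta a) (htc : Commute c t) :
    t ∈ theta c := by
  obtain ⟨k, hk, hkN⟩ := exists_rep h t
  have e : Kg H k = Kg H t := by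
    conv_rhs => rw [show t = k * (k⁻¹ * t) by group]
    exact (Kg_mul_nrm hkN).symm
  have hcom : ∀ z : G, z ∈ H → Commute z t → Commute z k := by
    intro z hz hzt
    have hle : Kg H t ≤ Subgroup.centralizer ({z} : Set G) :=
      Kg_le (fun y hy => Subgroup.mem_centralizer_singleton_iff.2 (h.comm y hy z hz))
        fun y hy => Subgroup.mem_centralizer_singleton_iff.2
          (((hzt.mul_right (h.comm z hz y hy)).mul_right hzt.inv_right).eq.symm)
    exact (Subgroup.mem_centralizer_singleton_iff.1 (hle (e ▸ hk.2))).symm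
  have h1 := rep_mem_theta h ha hfa hk (hcom a ha (theta_comm ht))
  have h2 := rep_mem_theta h hc hfc hk (hcom c hc htc)
  have h3 := coreN_le_theta h hc hfc
    (theta_inf_nrm h ha ((theta a).mul_mem ((theta a).inv_mem h1) ht) hkN)
  have := (theta c).mul_mem h2 h3
  rwa [mul_inv_cancel_left] at this

omit [Finite G] in
theorem inv_eq_self {c : G} (hc : c * c = 1) : c⁻¹ = c := inv_eq_of_mul_eq_one_left hc

omit [Finite G] in
/-- An involution `c * w` (`w` of odd order) is conjugate to `c` by a power of `w`. -/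
theorem exists_sqrt {c w : G} (hc : c * c = 1) (hcw : c * w * (c * w) = 1)
    (hw : Odd (orderOf w)) : ∃ x ∈ Subgroup.zpowers w, x * c * x⁻¹ = c * w := by
  have e : c * (c * w) = w := by rw [← mul_assoc, hc, one_mul]
  obtain ⟨x, hx, hxc⟩ := Char.exists_zpowers_conj hc hcw (e.symm ▸ hw)
  exact ⟨x, e ▸ hx, hxc⟩

/-- A four-group acting on a subgroup of odd order factorises it. -/
theorem decomp {a b : G} (ha : a * a = 1) (hb : b * b = 1) (hab : Commute a b) {O : Subgroup G}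
    (hodd : Odd (Nat.card O)) (hOa : ∀ o ∈ O, a * o * a ∈ O) (hOb : ∀ o ∈ O, b * o * b ∈ O)
    {k : G} (hk : k ∈ O) :
    ∃ x ∈ O, ∃ y ∈ O, ∃ z ∈ O, Commute a x ∧ Commute (a * b) y ∧ Commute b z ∧ k = x * y * z := by
  set c := a * b with hcdef
  have hc : c * c = 1 := by
    rw [hcdef, show a * b * (a * b) = a * (b * a) * b by group, hab.symm.eq,
      show a * (a * b) * b = (a * a) * (b * b) by group, ha, hb, one_mul]
  have hac : Commute a c := (Commute.refl a).mul_right hab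
  have hbc : Commute b c := hab.symm.mul_right (Commute.refl b)
  have hOc : ∀ o ∈ O, c * o * c ∈ O := fun o ho => by
    have := hOa _ (hOb _ ho)
    rwa [hcdef, show a * b * o * (a * b) = a * (b * o * b) * a by
      rw [show a * b * o * (a * b) = a * b * o * (b * a) from by rw [hab.eq]]; group]
  set u := k * b * k⁻¹ with hu
  clear_value u
  have huu : u * u = 1 := by
    rw [hu, show k * b * k⁻¹ * (k * b * k⁻¹) = k * (b * b) * k⁻¹ by group, hb]; group
  set v := b * k * b * k⁻¹ with hv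
  have hvO : v ∈ O := O.mul_mem (hOb _ hk) (O.inv_mem hk)
  have hubv : u = b * v := by
    rw [hu, hv, show b * (b * k * b * k⁻¹) = (b * b) * (k * b * k⁻¹) by group, hb, one_mul]
  set e := a * u with he
  have hecv : e = c * v := by rw [he, hubv, hcdef, mul_assoc]
  have he2 : e * e ∈ O := by
    rw [hecv, show c * v * (c * v) = c * v * c * v by group]
    exact O.mul_mem (hOc _ hvO) hvO
  obtain ⟨i, hi⟩ := hodd
  set M := Nat.card O with hM
  have hz2 : e ^ M * e ^ M = 1 := by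
    rw [← pow_add, ← two_mul, pow_mul, pow_two]
    have : (⟨e * e, he2⟩ : O) ^ M = 1 := pow_card_eq_one'
    simpa using congrArg Subtype.val this
  set w := v * (e * e) ^ i with hw
  have hwO : w ∈ O := O.mul_mem hvO (O.pow_mem he2 i)
  have hzw : e ^ M = c * w := by
    rw [hi, pow_succ', pow_mul, pow_two, hw, hecv]
    group
  have haz : Commute a (e ^ M) := by
    have h1 : a * e * a⁻¹ = e⁻¹ := by
      rw [he, mul_inv_rev, inv_eq_self ha, inv_eq_self huu, ← mul_assoc, ha, one_mul]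
    have h2 := conj_pow (i := M) (a := a) (b := e)
    rw [h1, inv_pow, inv_eq_self hz2] at h2
    exact eq_mul_inv_iff_mul_eq.1 h2 |>.symm
  have huz : Commute u (e ^ M) := by
    have h1 : u * e * u⁻¹ = e⁻¹ := by
      rw [he, mul_inv_rev, inv_eq_self ha, inv_eq_self huu]
      simp only [mul_assoc, huu, mul_one]
    have h2 := conj_pow (i := M) (a := u) (b := e)
    rw [h1, inv_pow, inv_eq_self hz2] at h2
    exact eq_mul_inv_iff_mul_eq.1 h2 |>.symm
  have haw : Commute a w := by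
    have : w = c * e ^ M := by rw [hzw, ← mul_assoc, hc, one_mul]
    exact this ▸ hac.mul_right haz
  have hoddO : ∀ o ∈ O, Odd (orderOf o) := fun o ho => odd_of_mem ⟨i, hi⟩ ho
  obtain ⟨x, hxw, hx⟩ := exists_sqrt hc (hzw ▸ hz2) (hoddO w hwO)
  have hxO : x ∈ O := (Subgroup.zpowers_le.2 hwO) hxw
  obtain ⟨j, rfl⟩ := hxw
  have hax : Commute a (w ^ j) := haw.zpow_right j
  set x := w ^ j with hxdef
  set k₁ := x⁻¹ * k
  have hk1 : k₁ ∈ O := O.mul_mem (O.inv_mem hxO) hk
  set v' := b * k₁ * b * k₁⁻¹ with hv'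
  have hv'O : v' ∈ O := O.mul_mem (hOb _ hk1) (O.inv_mem hk1)
  have hu' : k₁ * b * k₁⁻¹ = b * v' := by
    rw [hv', show b * (b * k₁ * b * k₁⁻¹) = (b * b) * (k₁ * b * k₁⁻¹) by group, hb, one_mul]
  have hu'c : Commute c (k₁ * b * k₁⁻¹) := by
    have h1 : Commute (x * c * x⁻¹) u := by
      rw [hx, ← hzw]
      exact huz.symm
    have h2 := h1.map (MulAut.conj x⁻¹).toMonoidHom
    simp only [MulEquiv.toMonoidHom_eq_coe, MonoidHom.coe_coe, MulAut.conj_apply, inv_inv] at h2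
    rw [show x⁻¹ * (x * c * x⁻¹) * x = c by group] at h2
    rwa [show k₁ * b * k₁⁻¹ = x⁻¹ * u * x by rw [hu]; simp only [k₁]; group]
  have hcv' : Commute c v' := by
    have : v' = b * (k₁ * b * k₁⁻¹) := by rw [hu', ← mul_assoc, hb, one_mul]
    exact this ▸ hbc.symm.mul_right hu'c
  obtain ⟨y, hyw, hy⟩ := exists_sqrt hb
    (by rw [← hu', show k₁ * b * k₁⁻¹ * (k₁ * b * k₁⁻¹) = k₁ * (b * b) * k₁⁻¹ by group, hb]; group)
    (hoddO v' hv'O)
  have hyO : y ∈ O := (Subgroup.zpowers_le.2 hv'O) hyw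
  obtain ⟨j', rfl⟩ := hyw
  refine ⟨x, hxO, v' ^ j', hyO, (v' ^ j')⁻¹ * k₁, O.mul_mem (O.inv_mem hyO) hk1, hax,
    hcv'.zpow_right j', ?_, ?_⟩
  · rw [← hu'] at hy
    have : b = (v' ^ j')⁻¹ * (k₁ * b * k₁⁻¹) * v' ^ j' := by rw [← hy]; group
    show b * _ = _ * b
    calc b * ((v' ^ j')⁻¹ * k₁) = (v' ^ j')⁻¹ * (k₁ * b * k₁⁻¹) * v' ^ j' * ((v' ^ j')⁻¹ * k₁) := by
          rw [← this]
      _ = (v' ^ j')⁻¹ * k₁ * b := by group
  · simp only [k₁]; group

/-- The triple product is (representatives) times `O(N)`. -/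
theorem rep_of_prod {H : Subgroup G} (h : Hyp H) {a b : G} (ha : a ∈ H) (hb : b ∈ H)
    (ha2 : a * a = 1) (hb2 : b * b = 1) (hfa : FixFact H a) (hfb : FixFact H b)
    (hfc : FixFact H (a * b)) {x y z : G} (hx : x ∈ theta a) (hy : y ∈ theta (a * b))
    (hz : z ∈ theta b) : ∃ k, IsRep H k ∧ k⁻¹ * (x * y * z) ∈ coreN H := by
  set c := a * b with hcdef
  have hcH : c ∈ H := H.mul_mem ha hb
  have hab : Commute a b := h.comm a ha b hb
  have hc2 : c * c = 1 := by
    rw [hcdef, show a * b * (a * b) = a * (b * a) * b by group, hab.symm.eq,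
      show a * (a * b) * b = (a * a) * (b * b) by group, ha2, hb2, one_mul]
  set p := x * y * z with hp
  obtain ⟨k, hk, hkN⟩ := exists_rep h p
  refine ⟨k, hk, ?_⟩
  obtain ⟨O, hOK, hOodd, hOnorm, -, hOmem, -, -⟩ := exists_core h k
  have hkO : k ∈ O := hOmem k hk.2 hk.1
  have hconj : ∀ s : G, s ∈ H → s * s = 1 → ∀ o ∈ O, s * o * s ∈ O := fun s hs hs2 o ho => by
    have := hOnorm s (mem_Kg_left hs) o ho
    rwa [inv_eq_self hs2] at this
  obtain ⟨x', hx'O, y', hy'O, z', hz'O, hax', hcy', hbz', hke⟩ :=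
    decomp ha2 hb2 hab hOodd (hconj a ha ha2) (hconj b hb hb2) hkO
  have hrep : ∀ o ∈ O, IsRep H o := fun o ho =>
    rep_of_mem h (hOK ho) (odd_of_mem hOodd ho)
  have hx' : x' ∈ theta a := rep_mem_theta h ha hfa (hrep _ hx'O) hax'
  have hy' : y' ∈ theta c := rep_mem_theta h hcH hfc (hrep _ hy'O) hcy'
  have hz' : z' ∈ theta b := rep_mem_theta h hb hfb (hrep _ hz'O) hbz'
  -- the central involution of `⟨a, u⟩`
  set M := Nat.card (theta c) with hMdef
  obtain ⟨i, hi⟩ : Odd M := theta_odd c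
  have key : ∀ x₁ y₁ : G, x₁ ∈ theta a → y₁ ∈ theta c →
      (a * (x₁ * y₁ * b * (x₁ * y₁)⁻¹)) ^ M = x₁ * c * x₁⁻¹ := by
    intro x₁ y₁ hx₁ hy₁
    have hv : b * y₁ * b * y₁⁻¹ ∈ theta c := by
      have := theta_conj (h.comm c hcH b hb) hy₁
      rw [inv_eq_self hb2] at this
      exact (theta c).mul_mem this ((theta c).inv_mem hy₁)
    have e1 : a * (x₁ * y₁ * b * (x₁ * y₁)⁻¹) = x₁ * (c * (b * y₁ * b * y₁⁻¹)) * x₁⁻¹ := by
      calc a * (x₁ * y₁ * b * (x₁ * y₁)⁻¹) = (a * x₁) * (y₁ * b * y₁⁻¹) * x₁⁻¹ := by group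
        _ = x₁ * (a * ((b * b) * (y₁ * b * y₁⁻¹))) * x₁⁻¹ := by
          rw [(theta_comm hx₁).eq, hb2, one_mul]; group
        _ = x₁ * (c * (b * y₁ * b * y₁⁻¹)) * x₁⁻¹ := by rw [hcdef]; group
    rw [e1, conj_pow, (theta_comm hv).mul_pow]
    have e2 : (⟨_, hv⟩ : theta c) ^ M = 1 := pow_card_eq_one'
    have e3 : (b * y₁ * b * y₁⁻¹) ^ M = 1 := by simpa using congrArg Subtype.val e2
    rw [e3, mul_one, hi, pow_succ, pow_mul, pow_two, hc2, one_pow, one_mul]
  -- `n b n⁻¹ = b`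
  set n := k⁻¹ * p with hn
  set hh := n * b * n⁻¹ with hhdef
  have hhH : hh ∈ H := mem_nrm_conj hkN hb
  have hu1 : x * y * b * (x * y)⁻¹ = k * hh * k⁻¹ := by
    have : z * b * z⁻¹ = b := by rw [← (theta_comm hz).eq]; group
    rw [hhdef, hn, hp]
    calc x * y * b * (x * y)⁻¹ = x * y * (z * b * z⁻¹) * (x * y)⁻¹ := by rw [this]
      _ = _ := by group
  have hu2 : k * b * k⁻¹ = x' * y' * b * (x' * y')⁻¹ := by
    have : z' * b * z'⁻¹ = b := by rw [← hbz'.eq]; group
    rw [hke]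
    calc x' * y' * z' * b * (x' * y' * z')⁻¹ = x' * y' * (z' * b * z'⁻¹) * (x' * y')⁻¹ := by group
      _ = _ := by rw [this]
  have hhb : hh = b := by
    have hh2 : hh * hh = 1 := by
      rw [hhdef, show n * b * n⁻¹ * (n * b * n⁻¹) = n * (b * b) * n⁻¹ by group, hb2]; group
    set s := a * hh with hs
    have hsH : s ∈ H := H.mul_mem ha hhH
    have hs2 : s * s = 1 := by
      rw [hs, show a * hh * (a * hh) = a * (hh * a) * hh by group, h.comm hh hhH a ha,
        show a * (a * hh) * hh = (a * a) * (hh * hh) by group, ha2, hh2, one_mul]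
    set v := hh * k * hh * k⁻¹ with hv
    have hvO : v ∈ O := O.mul_mem (hconj hh hhH hh2 k hkO) (O.inv_mem hkO)
    have e1 : a * (k * hh * k⁻¹) = s * v := by
      rw [hs, hv, show a * hh * (hh * k * hh * k⁻¹) = a * (hh * hh) * (k * hh * k⁻¹) by group, hh2,
        mul_one]
    set o := v * (s * v * (s * v)) ^ i with ho
    have hoO : o ∈ O := by
      refine O.mul_mem hvO (O.pow_mem ?_ i)
      rw [show s * v * (s * v) = s * v * s * v by group]
      exact O.mul_mem (hconj s hsH hs2 v hvO) hvO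
    have e2 : x * c * x⁻¹ = s * o := by
      rw [← key x y hx hy, hu1, e1, hi, pow_succ', pow_mul, pow_two, ho, mul_assoc]
    have hao : Commute a o := by
      have h1 : o = s * (x * c * x⁻¹) := by rw [e2, ← mul_assoc, hs2, one_mul]
      rw [h1]
      exact Commute.mul_right (h.comm a ha s hsH)
        (((theta_comm hx).mul_right (h.comm a ha c hcH)).mul_right (theta_comm hx).inv_right)
    have hoT : o ∈ theta a := rep_mem_theta h ha hfa (hrep _ hoO) hao
    have h2 : c * s ∈ theta a := by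
      have := (theta a).mul_mem ((theta a).mul_mem
        (theta_conj (h.comm a ha c hcH) hx) ((theta a).inv_mem hx)) ((theta a).inv_mem hoT)
      rw [inv_eq_self hc2] at this
      have e3 : c * s = c * x * c * x⁻¹ * o⁻¹ := by
        rw [show c * x * c * x⁻¹ * o⁻¹ = c * (x * c * x⁻¹) * o⁻¹ by group, e2]
        group
      rw [e3]
      exact this
    have h3 := eq_one_of_odd_two h (H.mul_mem hcH hsH) (odd_of_mem (theta_odd a) h2)
    rw [mul_eq_one_iff_eq_inv, inv_eq_self hs2] at h3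
    exact (mul_left_cancel h3).symm
  rw [hhb] at hu1
  have hxx : x * c * x⁻¹ = x' * c * x'⁻¹ := by
    rw [← key x y hx hy, ← key x' y' hx' hy', hu1, hu2]
  set e := x'⁻¹ * x with hedef
  have hec : Commute c e := by
    show c * e = e * c
    calc c * e = x'⁻¹ * (x' * c * x'⁻¹) * x := by rw [hedef]; group
      _ = x'⁻¹ * (x * c * x⁻¹) * x := by rw [hxx]
      _ = e * c := by rw [hedef]; group
  have heT : e ∈ theta c :=
    balance h ha hcH hfa hfc ((theta a).mul_mem ((theta a).inv_mem hx') hx) hec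
  set f := y'⁻¹ * e * y with hfdef
  have hfT : f ∈ theta c := (theta c).mul_mem ((theta c).mul_mem ((theta c).inv_mem hy') heT) hy
  have hfb' : Commute b f := by
    have h1 : x * y * b * (x * y)⁻¹ = x' * y' * b * (x' * y')⁻¹ := hu1.trans hu2
    show b * f = f * b
    calc b * f = (x' * y')⁻¹ * (x' * y' * b * (x' * y')⁻¹) * (x * y) := by rw [hfdef, hedef]; group
      _ = (x' * y')⁻¹ * (x * y * b * (x * y)⁻¹) * (x * y) := by rw [h1]
      _ = f * b := by rw [hfdef, hedef]; group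
  have hfB : f ∈ theta b := balance h hcH hb hfc hfb hfT hfb'
  have hnB : n ∈ theta b := by
    have : n = z'⁻¹ * f * z := by rw [hn, hke, hp, hfdef, hedef]; group
    rw [this]
    exact (theta b).mul_mem ((theta b).mul_mem ((theta b).inv_mem hz') hfB) hz
  exact theta_inf_nrm h hb hnB hkN

/-- Conversely every such product is a triple product. -/
theorem prod_of_rep {H : Subgroup G} (h : Hyp H) {a b : G} (ha : a ∈ H) (hb : b ∈ H)
    (ha2 : a * a = 1) (hb2 : b * b = 1) (hfa : FixFact H a) (hfb : FixFact H b)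
    (hfc : FixFact H (a * b)) {k d : G} (hk : IsRep H k) (hd : d ∈ coreN H) :
    ∃ x ∈ theta a, ∃ y ∈ theta (a * b), ∃ z ∈ theta b, k * d = x * y * z := by
  obtain ⟨O, hOK, hOodd, hOnorm, -, hOmem, -, -⟩ := exists_core h k
  have hkO : k ∈ O := hOmem k hk.2 hk.1
  have hconj : ∀ s : G, s ∈ H → s * s = 1 → ∀ o ∈ O, s * o * s ∈ O := fun s hs hs2 o ho => by
    have := hOnorm s (mem_Kg_left hs) o ho
    rwa [inv_eq_self hs2] at this
  obtain ⟨x', hx'O, y', hy'O, z', hz'O, hax', hcy', hbz', hke⟩ :=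
    decomp ha2 hb2 (h.comm a ha b hb) hOodd (hconj a ha ha2) (hconj b hb hb2) hkO
  have hrep : ∀ o ∈ O, IsRep H o := fun o ho => rep_of_mem h (hOK ho) (odd_of_mem hOodd ho)
  exact ⟨x', rep_mem_theta h ha hfa (hrep _ hx'O) hax',
    y', rep_mem_theta h (H.mul_mem ha hb) hfc (hrep _ hy'O) hcy',
    z' * d, (theta b).mul_mem (rep_mem_theta h hb hfb (hrep _ hz'O) hbz')
      (coreN_le_theta h hb hfb hd), by rw [hke]; group⟩

/-- `G = O(G) N` when `H` contains a four group with `C(a) = θ(a) N_a` for its involutions. -/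
theorem main_four {H : Subgroup G} (h : Hyp H) {a b : G} (ha : a ∈ H) (hb : b ∈ H)
    (ha2 : a * a = 1) (hb2 : b * b = 1) (hfa : FixFact H a) (hfb : FixFact H b)
    (hfc : FixFact H (a * b)) : ∀ g : G, g ∈ nrm H ⊔ oddCore G := by
  haveI : Fact (Nat.Prime 2) := ⟨Nat.prime_two⟩
  have hab : Commute a b := h.comm a ha b hb
  set c := a * b with hcdef
  have hcH : c ∈ H := H.mul_mem ha hb
  have hc2 : c * c = 1 := by
    rw [hcdef, show a * b * (a * b) = a * (b * a) * b by group, hab.symm.eq,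
      show a * (a * b) * b = (a * a) * (b * b) by group, ha2, hb2, one_mul]
  let S : G → Prop := fun p => ∃ k, IsRep H k ∧ k⁻¹ * p ∈ coreN H
  have hstep : ∀ s t : G, s ∈ H → t ∈ H → s * s = 1 → t * t = 1 → FixFact H s → FixFact H t →
      FixFact H (s * t) → ∀ p : G, S p → ∀ w ∈ theta t, S (p * w) := by
    rintro s t hs ht hs2 ht2 hfs hft hfst p ⟨k, hk, hd⟩ w hw
    obtain ⟨x, hx, y, hy, z, hz, e⟩ := prod_of_rep h hs ht hs2 ht2 hfs hft hfst hk hd
    rw [mul_inv_cancel_left] at e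
    obtain ⟨k', hk', hd'⟩ :=
      rep_of_prod h hs ht hs2 ht2 hfs hft hfst hx hy ((theta t).mul_mem hz hw)
    exact ⟨k', hk', by rwa [e, mul_assoc (x * y)]⟩
  have eac : a * c = b := by rw [hcdef, ← mul_assoc, ha2, one_mul]
  have eba : b * a = c := hab.eq.symm
  set W : Subgroup G :=
    Subgroup.closure ((theta a : Set G) ∪ (theta b : Set G) ∪ (theta c : Set G))
  have hWS : ∀ w ∈ W, S w := by
    intro w hw
    have hgen : ∀ v ∈ ((theta a : Set G) ∪ (theta b : Set G) ∪ (theta c : Set G)), ∀ p, S p →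
        S (p * v) ∧ S (p * v⁻¹) := by
      rintro v ((hv | hv) | hv) p hp
      · exact ⟨hstep b a hb ha hb2 ha2 hfb hfa (eba ▸ hfc) p hp v hv,
          hstep b a hb ha hb2 ha2 hfb hfa (eba ▸ hfc) p hp v⁻¹ ((theta a).inv_mem hv)⟩
      · exact ⟨hstep a b ha hb ha2 hb2 hfa hfb hfc p hp v hv,
          hstep a b ha hb ha2 hb2 hfa hfb hfc p hp v⁻¹ ((theta b).inv_mem hv)⟩
      · exact ⟨hstep a c ha hcH ha2 hc2 hfa hfc (eac.symm ▸ hfb) p hp v hv,
          hstep a c ha hcH ha2 hc2 hfa hfc (eac.symm ▸ hfb) p hp v⁻¹ ((theta c).inv_mem hv)⟩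
    induction hw using Subgroup.closure_induction_right with
    | one => exact ⟨1, one_rep, by simp⟩
    | mul_right x hx y hy ih => exact (hgen y hy x ih).1
    | mul_inv_cancel x hx y hy ih => exact (hgen y hy x ih).2
  have hDW : coreN H ≤ W := fun d hd =>
    Subgroup.subset_closure (Or.inl (Or.inl (coreN_le_theta h ha hfa hd)))
  have hkW : ∀ k, IsRep H k → k ∈ W := by
    intro k hk
    obtain ⟨x, hx, y, hy, z, hz, e⟩ :=
      prod_of_rep h ha hb ha2 hb2 hfa hfb hfc hk (coreN H).one_mem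
    rw [mul_one] at e
    rw [e]
    exact W.mul_mem (W.mul_mem (Subgroup.subset_closure (Or.inl (Or.inl hx)))
      (Subgroup.subset_closure (Or.inr hy))) (Subgroup.subset_closure (Or.inl (Or.inr hz)))
  have hWN : ∀ w ∈ W, ∀ n ∈ nrm H, n * w * n⁻¹ ∈ W := by
    intro w hw n hn
    obtain ⟨k, hk, hd⟩ := hWS w hw
    rw [show n * w * n⁻¹ = (n * k * n⁻¹) * (n * (k⁻¹ * w) * n⁻¹) by group]
    exact W.mul_mem (hkW _ (rep_conj hk hn)) (hDW (coreN_conj hn hd))
  haveI hWn : W.Normal := by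
    constructor
    intro w hw g
    obtain ⟨k, hk, hn⟩ := exists_rep h g
    rw [show g * w * g⁻¹ = k * ((k⁻¹ * g) * w * (k⁻¹ * g)⁻¹) * k⁻¹ by group]
    exact W.mul_mem (W.mul_mem (hkW k hk) (hWN w hw _ hn)) (W.inv_mem (hkW k hk))
  have hWfix : ∀ w ∈ W, w ∈ nrm H → w ∈ coreN H := by
    intro w hw hwN
    obtain ⟨k, hk, hd⟩ := hWS w hw
    have hkN : k ∈ nrm H := by
      have := (nrm H).mul_mem hwN ((nrm H).inv_mem (coreN_le H hd))
      rwa [show w * (k⁻¹ * w)⁻¹ = k by group] at this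
    have hk1 : (1 : G) = k := rep_unique h one_rep hk (by simpa using hkN)
    simpa [← hk1] using hd
  have hWodd : Odd (Nat.card W) := by
    let φ : H →* MulAut W := MulAut.conjNormal.comp H.subtype
    letI := MulAction.compHom W φ
    have h1 := h.two.card_modEq_card_fixedPoints W
    have h2 : Nat.card (MulAction.fixedPoints H W) = Nat.card (coreN H) := by
      refine Nat.card_congr
        { toFun := fun w => ⟨((w : W) : G), hWfix _ (w : W).2 (mem_nrm_of fun y hy => ?_)⟩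
          invFun := fun d => ⟨⟨d, hDW d.2⟩, fun y => Subtype.ext ?_⟩
          left_inv := fun w => rfl
          right_inv := fun d => rfl }
      · have hw : φ ⟨y, hy⟩ (w : W) = (w : W) := w.2 ⟨y, hy⟩
        have hw' : y * ((w : W) : G) * y⁻¹ = ((w : W) : G) := by
          have := congrArg Subtype.val hw
          simpa [φ, MulAut.conjNormal_apply] using this
        rw [mul_inv_eq_iff_eq_mul] at hw'
        rw [← hw']
        simpa using hy
      · show ((φ y ⟨d, hDW d.2⟩ : W) : G) = d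
        rw [show φ y = MulAut.conjNormal (y : G) from rfl, MulAut.conjNormal_apply]
        rw [mul_inv_eq_iff_eq_mul]
        exact (coreN_centralizes h d.2 y.2).eq.symm
    rw [h2, Nat.ModEq] at h1
    rw [Nat.odd_iff, h1, ← Nat.odd_iff]
    exact coreN_odd H
  intro g
  obtain ⟨k, hk, hn⟩ := exists_rep h g
  rw [show g = k * (k⁻¹ * g) by group]
  exact Subgroup.mul_mem _ (Subgroup.mem_sup_right
    (Fusion.le_pPrimeCore (hn := hWn) (Nat.coprime_two_right.2 hWodd) (hkW k hk)))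
    (Subgroup.mem_sup_left hn)

/-- The index of the normaliser is odd, so it contains a Sylow 2-subgroup. -/
theorem exists_sylow_le {H : Subgroup G} (h : Hyp H) :
    ∃ P : Sylow 2 G, (P : Subgroup G) ≤ nrm H ∧ H ≤ P := by
  haveI : Fact (Nat.Prime 2) := ⟨Nat.prime_two⟩
  have hodd : ¬ 2 ∣ (nrm H).index := by
    have h1 := h.two.card_modEq_card_fixedPoints (G ⧸ (nrm H))
    have h2 : Nat.card (MulAction.fixedPoints H (G ⧸ (nrm H))) = 1 := by
      rw [Nat.card_eq_one_iff_unique]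
      refine ⟨⟨fun q₁ q₂ => ?_⟩, ⟨⟨((1 : G) : G ⧸ (nrm H)), fun y => ?_⟩⟩⟩
      · have key : ∀ q : G ⧸ (nrm H), q ∈ MulAction.fixedPoints H (G ⧸ (nrm H)) →
            q = ((1 : G) : G ⧸ (nrm H)) := by
          intro q hq
          induction q using QuotientGroup.induction_on with
          | _ g =>
          rw [QuotientGroup.eq, mul_one]
          refine mem_nrm_of fun y hy => closed_mem h.closed
            (g := g⁻¹) (mem_Kg_right hy) ?_
          have := hq ⟨y, hy⟩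
          have e : ((y * g : G) : G ⧸ (nrm H)) = (g : G ⧸ (nrm H)) := this
          rw [QuotientGroup.eq] at e
          have := (nrm H).inv_mem e
          rwa [show ((y * g)⁻¹ * g)⁻¹ = g⁻¹ * y * g⁻¹⁻¹ by group] at this
        exact Subtype.ext ((key _ q₁.2).trans (key _ q₂.2).symm)
      · show (((y : G) * 1 : G) : G ⧸ (nrm H)) = ((1 : G) : G ⧸ (nrm H))
        rw [QuotientGroup.eq]
        simpa using Subgroup.le_normalizer y.2
    rw [h2] at h1
    intro hd
    rw [Subgroup.index, ← Nat.modEq_zero_iff_dvd] at hd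
    exact absurd (h1.symm.trans hd) (by decide)
  obtain ⟨Q, hQ⟩ := (h.two.of_equiv (Subgroup.subgroupOfEquivOfLe
    (Subgroup.le_normalizer (H := H))).symm).exists_le_sylow
  have hQidx : ¬ 2 ∣ ((Q : Subgroup (nrm H)).map (nrm H).subtype).index := by
    rw [Subgroup.index_map_subtype]
    exact fun hd => (Nat.prime_two.dvd_mul.1 hd).elim Q.not_dvd_index hodd
  refine ⟨(Q.isPGroup'.map (nrm H).subtype).toSylow hQidx, ?_, ?_⟩
  · rw [IsPGroup.toSylow_coe]
    exact Subgroup.map_subtype_le _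
  · rw [IsPGroup.toSylow_coe]
    intro y hy
    exact ⟨⟨y, Subgroup.le_normalizer hy⟩, hQ hy, rfl⟩

/-- Induction step hypothesis gives `FixFact`. -/
theorem fixFact_of {H : Subgroup G} {a : G} (ha : a ∈ H) (hcom : ∀ y ∈ H, Commute a y)
    (hind : ∀ (H' : Subgroup (Subgroup.centralizer ({a} : Set G))), Hyp H' →
      ∀ x, x ∈ nrm H' ⊔ oddCore (Subgroup.centralizer ({a} : Set G))) (h : Hyp H) :
    FixFact H a := by
  set C := Subgroup.centralizer ({a} : Set G)
  have hHC : H ≤ C := fun y hy => Subgroup.mem_centralizer_singleton_iff.2 (hcom y hy).eq.symm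
  have hN : ∀ x : C, x ∈ nrm (H.subgroupOf C) → (x : G) ∈ nrm H := fun x hx =>
    mem_nrm_of fun y hy => mem_nrm_conj (H := H.subgroupOf C) hx (h := ⟨y, hHC hy⟩) hy
  have h' : Hyp (H.subgroupOf C) := by
    refine ⟨h.two.of_equiv (Subgroup.subgroupOfEquivOfLe hHC).symm,
      fun x hx y hy => Subtype.ext (h.comm _ hx _ hy), fun g => ?_⟩
    refine le_antisymm (fun x hx => ?_) (le_inf le_sup_left Subgroup.le_normalizer)
    rw [Subgroup.mem_inf] at hx
    have hle : Kg (H.subgroupOf C) g ≤ (Kg H (g : G)).subgroupOf C :=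
      Kg_le (fun y hy => mem_Kg_left hy) fun y hy => mem_Kg_right hy
    exact closed_mem h.closed (hle hx.1) (hN x hx.2)
  intro x hx
  have hxC : x ∈ C := Subgroup.mem_centralizer_singleton_iff.2 hx.eq.symm
  obtain ⟨n, hn, o, ho, e⟩ := Subgroup.mem_sup_of_normal_right.1
    (hind (H.subgroupOf C) h' ⟨x, hxC⟩)
  refine ⟨(n : G) * o * (n : G)⁻¹, ?_, n, hN n hn,
    (Subgroup.mem_centralizer_singleton_iff.1 n.2).symm, ?_⟩
  · exact theta_conj (Subgroup.mem_centralizer_singleton_iff.1 n.2).symm ⟨o, ho, rfl⟩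
  · have this : (n : G) * (o : G) = x := congrArg Subtype.val e
    conv_lhs => rw [← this]
    group

/-- A central involution of `H`: pass to the quotient. -/
theorem main_central {H : Subgroup G} (h : Hyp H) {a : G} (ha : a ∈ H) (ha2 : a * a = 1)
    (hne : a ≠ 1) (hz : ∀ g : G, Commute a g)
    (hind : ∀ (G' : Type u) (_ : Group G') (_ : Finite G'), Nat.card G' < Nat.card G →
      ∀ H' : Subgroup G', Hyp H' → ∀ g : G', g ∈ nrm H' ⊔ oddCore G') :
    ∀ g : G, g ∈ nrm H ⊔ oddCore G := by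
  haveI : Fact (Nat.Prime 2) := ⟨Nat.prime_two⟩
  set Z := Subgroup.zpowers a with hZ
  have hZH : Z ≤ H := Subgroup.zpowers_le.2 ha
  haveI hZn : Z.Normal := by
    constructor
    rintro _ ⟨j, rfl⟩ g
    refine ⟨j, ?_⟩
    show a ^ j = g * a ^ j * g⁻¹
    rw [← ((hz g).zpow_left j).eq, mul_inv_cancel_right]
  have hlt : Nat.card (G ⧸ Z) < Nat.card G := by
    have h1 := Subgroup.card_eq_card_quotient_mul_card_subgroup Z
    have h2 : 1 < Nat.card Z := by
      rw [hZ, Nat.card_zpowers, orderOf_eq_prime (by rw [pow_two, ha2]) hne]; norm_num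
    have h3 : 0 < Nat.card (G ⧸ Z) := Nat.card_pos
    nlinarith
  set f := QuotientGroup.mk' Z with hf
  have hback : ∀ x : G, f x ∈ H.map f → x ∈ H := by
    rintro x ⟨y, hy, e⟩
    have h1 : y⁻¹ * x ∈ Z := (QuotientGroup.eq).1 e
    have := H.mul_mem hy (hZH h1)
    rwa [mul_inv_cancel_left] at this
  have hN : ∀ x : G, f x ∈ nrm (H.map f) → x ∈ nrm H := fun x hx => mem_nrm_of fun y hy => by
    refine hback _ ?_
    rw [map_mul, map_mul, map_inv]
    exact mem_nrm_conj hx ⟨y, hy, rfl⟩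
  have h' : Hyp (H.map f) := by
    refine ⟨h.two.map f, ?_, fun q => ?_⟩
    · rintro _ ⟨x, hx, rfl⟩ _ ⟨y, hy, rfl⟩
      rw [← map_mul, ← map_mul, h.comm x hx y hy]
    · refine le_antisymm (fun w hw => ?_) (le_inf le_sup_left Subgroup.le_normalizer)
      rw [Subgroup.mem_inf] at hw
      obtain ⟨g, rfl⟩ := QuotientGroup.mk'_surjective Z q
      have hle : Kg (H.map f) (f g) ≤ (Kg H g).map f := by
        refine Kg_le ?_ ?_
        · rintro _ ⟨y, hy, rfl⟩; exact ⟨y, mem_Kg_left hy, rfl⟩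
        · rintro _ ⟨y, hy, rfl⟩
          exact ⟨g * y * g⁻¹, mem_Kg_right hy, by rw [map_mul, map_mul, map_inv]⟩
      obtain ⟨x, hx, rfl⟩ := hle hw.1
      exact ⟨x, closed_mem h.closed hx (hN x hw.2), rfl⟩
  intro g
  obtain ⟨n', hn', o', ho', e⟩ := Subgroup.mem_sup_of_normal_right.1
    (hind (G ⧸ Z) inferInstance inferInstance hlt (H.map f) h' (f g))
  obtain ⟨n, rfl⟩ := QuotientGroup.mk'_surjective Z n'
  have hnN := hN n hn'
  set L := (oddCore (G ⧸ Z)).comap f with hL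
  have hgL : n⁻¹ * g ∈ L := by
    rw [hL, Subgroup.mem_comap, map_mul, map_inv, ← e, inv_mul_cancel_left]
    exact ho'
  have hZL : Z ≤ L := fun z hz' => by
    rw [hL, Subgroup.mem_comap, show f z = 1 from (QuotientGroup.eq_one_iff _).2 hz']
    exact one_mem _
  have hp : IsPGroup 2 (Z.subgroupOf L) :=
    (h.two.to_le hZH).of_equiv (Subgroup.subgroupOfEquivOfLe hZL).symm
  have hidx : ¬ 2 ∣ (Z.subgroupOf L).index := by
    have h1 : Z.relIndex L = Nat.card (oddCore (G ⧸ Z)) := by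
      calc Z.relIndex L = f.ker.relIndex L := by rw [hf]; exact congrArg (·.relIndex L) (QuotientGroup.ker_mk' Z).symm
        _ = Nat.card (L.map f) := (Subgroup.relIndex_ker L f)
        _ = _ := by
          rw [hL, Subgroup.map_comap_eq_self_of_surjective (QuotientGroup.mk'_surjective Z)]
    show ¬ 2 ∣ Z.relIndex L
    rw [h1]
    exact fun hd => (Nat.not_even_iff_odd.2 (Char.card_oddCore_odd _)) (even_iff_two_dvd.2 hd)
  set P := hp.toSylow hidx
  have hPe : (P : Subgroup L) = Z.subgroupOf L := IsPGroup.toSylow_coe hp hidx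
  have hb : Subgroup.normalizer ((P : Subgroup L) : Set L) ≤
      Subgroup.centralizer ((P : Subgroup L) : Set L) := by
    rw [hPe]
    intro x _
    rw [Subgroup.mem_centralizer_iff]
    intro y hy
    obtain ⟨j, hj⟩ := Subgroup.mem_zpowers_iff.1 (show (y : G) ∈ Z from hy)
    apply Subtype.ext
    show (y : G) * x = x * y
    rw [← hj]
    exact ((hz x).zpow_left j).eq
  set φ := MonoidHom.transferSylow P hb
  have hmem : ∀ x : L, Odd (orderOf x) → x ∈ φ.ker := by
    intro x hx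
    rw [MonoidHom.mem_ker, ← orderOf_eq_one_iff]
    obtain ⟨j, hj⟩ := (IsPGroup.iff_orderOf.1 P.isPGroup') (φ x)
    have hd : orderOf (φ x) ∣ orderOf x := orderOf_map_dvd φ x
    rw [hj] at hd ⊢
    rcases j with - | j
    · rfl
    · exact absurd (Odd.of_dvd_nat hx hd) (by simp [parity_simps])
  have hkodd : Odd (Nat.card φ.ker) := by
    rw [Nat.odd_iff]
    have := MonoidHom.not_dvd_card_ker_transferSylow P hb
    change ¬ 2 ∣ Nat.card φ.ker at this
    omega
  have hR : (φ.ker.map L.subtype).Normal := by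
    constructor
    rintro _ ⟨x, hx, rfl⟩ y
    have hyL : y * (x : G) * y⁻¹ ∈ L := by
      show f (y * (x : G) * y⁻¹) ∈ oddCore (G ⧸ Z)
      rw [map_mul, map_mul, map_inv]
      exact (inferInstance : (oddCore (G ⧸ Z)).Normal).conj_mem _ x.2 _
    refine ⟨⟨_, hyL⟩, hmem _ ?_, rfl⟩
    rw [Subgroup.orderOf_mk, show y * (x : G) * y⁻¹ = MulAut.conj y x from rfl,
      MulEquiv.orderOf_eq]
    refine odd_of_mem (L := φ.ker.map L.subtype) ?_ ⟨x, hx, rfl⟩
    rw [Subgroup.card_map_of_injective L.subtype_injective]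
    exact hkodd
  have hRle : φ.ker.map L.subtype ≤ oddCore G := Fusion.le_pPrimeCore (hn := hR) (by
    rw [Subgroup.card_map_of_injective L.subtype_injective]
    exact Nat.coprime_two_right.2 hkodd)
  obtain ⟨⟨⟨r, hr⟩, ⟨z, hz'⟩⟩, e2⟩ :=
    (MonoidHom.ker_transferSylow_isComplement' P hb).2 ⟨n⁻¹ * g, hgL⟩
  have e3 : (r : G) * (z : G) = n⁻¹ * g := congrArg Subtype.val e2
  rw [show g = n * ((r : G) * (z : G)) by rw [e3, mul_inv_cancel_left]]
  have hzH : (z : G) ∈ H := by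
    have : z ∈ Z.subgroupOf L := hPe ▸ hz'
    exact hZH this
  exact Subgroup.mul_mem _ (Subgroup.mem_sup_left hnN) (Subgroup.mul_mem _
    (Subgroup.mem_sup_right (hRle ⟨r, hr, rfl⟩))
    (Subgroup.mem_sup_left (Subgroup.le_normalizer hzH)))

/-- `H` has a single, non-central involution: `Z*`. -/
theorem main_isolated {H : Subgroup G} (h : Hyp H) {a : G} (ha : a ∈ H) (ha2 : a * a = 1)
    (hne : a ≠ 1) (huniq : ∀ y ∈ H, y * y = 1 → y = 1 ∨ y = a) (hf : FixFact H a) :
    ∀ g : G, g ∈ nrm H ⊔ oddCore G := by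
  haveI : Fact (Nat.Prime 2) := ⟨Nat.prime_two⟩
  obtain ⟨P, hPN, hHP⟩ := exists_sylow_le h
  have hiso : ∀ g : G, g * a * g⁻¹ ∈ P → g * a * g⁻¹ = a := by
    intro g hg
    have h1 : g * a * g⁻¹ ∈ H := closed_mem h.closed (mem_Kg_right ha) (hPN hg)
    have h2 : g * a * g⁻¹ * (g * a * g⁻¹) = 1 := by
      rw [show g * a * g⁻¹ * (g * a * g⁻¹) = g * (a * a) * g⁻¹ by group, ha2]; group
    rcases huniq _ h1 h2 with e | e
    · exact absurd (conj_eq_one_iff.1 e) hne
    · exact e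
  have hzs := Char.zStar (Char.oddInvol_of_isolated_sylow
    (orderOf_eq_prime (by rw [pow_two, ha2]) hne) (hHP ha) hiso)
  set O := oddCore G with hO
  haveI hOn : O.Normal := inferInstance
  have hdec : ∀ g : G, ∃ x ∈ O, Commute a (x⁻¹ * g) := by
    intro g
    set v := g * a * g⁻¹ with hv
    have hw : a * v ∈ O := by
      have := hzs g
      rwa [inv_eq_self ha2, show a * g * a * g⁻¹ = a * v by rw [hv]; group] at this
    have hv2 : v * v = 1 := by
      rw [hv, show g * a * g⁻¹ * (g * a * g⁻¹) = g * (a * a) * g⁻¹ by group, ha2]; group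
    obtain ⟨x, hx, hxa⟩ :=
      Char.exists_zpowers_conj ha2 hv2 (odd_of_mem (Char.card_oddCore_odd G) hw)
    refine ⟨x, (Subgroup.zpowers_le.2 hw) hx, ?_⟩
    show a * (x⁻¹ * g) = x⁻¹ * g * a
    calc a * (x⁻¹ * g) = x⁻¹ * (x * a * x⁻¹) * g := by group
      _ = x⁻¹ * g * a := by rw [hxa, hv]; group
  have hM : (theta a ⊔ O).Normal := by
    constructor
    intro m hm g
    obtain ⟨x, hx, hc⟩ := hdec g
    have hle : theta a ⊔ O ≤ (theta a ⊔ O).comap (MulAut.conj g).toMonoidHom := by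
      refine sup_le (fun t ht => ?_) fun t ht => Subgroup.mem_sup_right (hOn.conj_mem t ht g)
      show g * t * g⁻¹ ∈ theta a ⊔ O
      rw [show g * t * g⁻¹ = x * ((x⁻¹ * g) * t * (x⁻¹ * g)⁻¹) * x⁻¹ by group]
      exact Subgroup.mul_mem _ (Subgroup.mul_mem _ (Subgroup.mem_sup_right hx)
        (Subgroup.mem_sup_left (theta_conj hc ht))) (Subgroup.inv_mem _ (Subgroup.mem_sup_right hx))
    exact hle hm
  have hMO : theta a ⊔ O ≤ O := Fusion.le_pPrimeCore (hn := hM)
    (Nat.Coprime.coprime_dvd_left (Fusion.card_sup_dvd _ _)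
      ((Nat.coprime_two_right.2 (theta_odd a)).mul_left
        (Nat.coprime_two_right.2 (Char.card_oddCore_odd G))))
  intro g
  obtain ⟨x, hx, hc⟩ := hdec g
  obtain ⟨t, ht, n, hn, -, e⟩ := hf _ hc
  rw [show g = x * (t * n) by rw [← e, mul_inv_cancel_left]]
  exact Subgroup.mul_mem _ (Subgroup.mem_sup_right hx)
    (Subgroup.mul_mem _ (Subgroup.mem_sup_right (hMO (Subgroup.mem_sup_left ht)))
      (Subgroup.mem_sup_left hn))

omit [Finite G] in
theorem main_aux : ∀ (m : ℕ) (G : Type u) (_ : Group G) (_ : Finite G), Nat.card G = m →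
    ∀ H : Subgroup G, Hyp H → ∀ g : G, g ∈ nrm H ⊔ oddCore G := by
  intro m
  induction m using Nat.strong_induction_on with
  | _ m ih =>
  intro G _ _ hm H h g
  subst hm
  haveI : Fact (Nat.Prime 2) := ⟨Nat.prime_two⟩
  by_cases hbot : H = ⊥
  · refine Subgroup.mem_sup_left (mem_nrm_of fun x hx => ?_)
    rw [hbot, Subgroup.mem_bot] at hx ⊢
    simp [hx]
  haveI : Nontrivial H := Subgroup.nontrivial_iff_ne_bot H |>.2 hbot
  have hdvd : 2 ∣ Nat.card H := by
    obtain ⟨n, hn, hcard⟩ := h.two.nontrivial_iff_card.1 inferInstance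
    exact hcard ▸ dvd_pow_self 2 hn.ne'
  obtain ⟨⟨a, ha⟩, hord⟩ := exists_prime_orderOf_dvd_card' 2 hdvd
  rw [Subgroup.orderOf_mk] at hord
  have ha2 : a * a = 1 := by rw [← pow_two, ← hord, pow_orderOf_eq_one]
  have hne : a ≠ 1 := fun e => by simp [e] at hord
  by_cases hcen : ∃ z ∈ H, z * z = 1 ∧ z ≠ 1 ∧ ∀ x : G, Commute z x
  · obtain ⟨z, hzH, hz2, hz1, hzc⟩ := hcen
    exact main_central h hzH hz2 hz1 hzc
      (fun G' _ _ hlt H' h' => ih _ hlt G' inferInstance inferInstance rfl H' h') g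
  have hfix : ∀ z ∈ H, z * z = 1 → z ≠ 1 → FixFact H z := by
    intro z hz hz2 hz1
    refine fixFact_of hz (fun y hy => h.comm z hz y hy) (fun H' h' =>
      ih _ ?_ _ inferInstance inferInstance rfl H' h') h
    refine lt_of_le_of_ne (Subgroup.card_le_card_group _) fun e => hcen ⟨z, hz, hz2, hz1, fun x => ?_⟩
    have : x ∈ Subgroup.centralizer ({z} : Set G) := by
      rw [(Subgroup.card_eq_iff_eq_top _).1 e]; trivial
    exact (Subgroup.mem_centralizer_singleton_iff.1 this).symm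
  by_cases hb : ∃ b ∈ H, b * b = 1 ∧ b ≠ 1 ∧ b ≠ a
  · obtain ⟨b, hbH, hb2, hb1, hba⟩ := hb
    refine main_four h ha hbH ha2 hb2 (hfix a ha ha2 hne) (hfix b hbH hb2 hb1)
      (hfix _ (H.mul_mem ha hbH) ?_ fun e => hba ?_) g
    · rw [show a * b * (a * b) = a * (b * a) * b by group, h.comm b hbH a ha,
        show a * (a * b) * b = (a * a) * (b * b) by group, ha2, hb2, one_mul]
    · rw [eq_comm, ← mul_right_inj a, ha2, e]
  · push Not at hb
    refine main_isolated h ha ha2 hne (fun y hy hy2 => ?_) (hfix a ha ha2 hne) g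
    exact or_iff_not_imp_left.2 (hb y hy hy2)

/-- An extremely closed abelian 2-subgroup: `G = N(H) O(G)`. -/
theorem main {H : Subgroup G} (h : Hyp H) : nrm H ⊔ oddCore G = ⊤ :=
  eq_top_iff.2 fun g _ => main_aux _ G inferInstance inferInstance rfl H h g

end Cfsg.Agent.Solv.ExtClosed
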