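import Cfsg.Agent.Lib.Solv.FrobeniusFPF
import Cfsg.Agent.Lib.Solv.UniqueSub
import Cfsg.Agent.S0041
import Cfsg.Agent.S0039
import Cfsg.Agent.Lib.Perm.Schmidt

/-!
Frobenius kernels as normal subgroups, and nilpotent groups acting fixed-point-freely that admit
a fixed-point-free automorphism (used for 2-Frobenius groups).
-/

set_option autoImplicit false
set_option linter.style.haveILetI false

open scoped Pointwise
open Cfsg

namespace Cfsg.Agent.Solv

universe u

variable {G : Type u} [Group G] [Finite G]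

/-- Elements outside a Frobenius kernel commute with no nontrivial element of the kernel. -/
theorem frob_outside {C N : Subgroup G} (hC : IsFrobeniusComplement C)
    (hN : (N : Set G) = frobeniusKernel C) {v g : G} (hv : v ∈ N) (hg : g ∉ N) (hc : Commute v g) :
    v = 1 := by
  have hg' : g ∉ frobeniusKernel C := hN ▸ hg
  simp only [frobeniusKernel, Set.mem_setOf_eq, not_or, not_forall, not_not] at hg'
  obtain ⟨hg1, a, ha⟩ := hg'
  have hNC : N ⊓ MulAut.conj a • C = ⊥ := by
    rw [eq_bot_iff]
    rintro x ⟨hx, hxa⟩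
    rw [Subgroup.mem_bot]
    have hx' : x ∈ frobeniusKernel C := hN ▸ hx
    rcases hx' with h | h
    · exact h
    · exact absurd hxa (h a)
  have h := frob_fpf (frob_conj hC a) hNC ha hg1
  exact (Subgroup.mem_bot).1 (h ▸ ⟨hv, Subgroup.mem_centralizer_singleton_iff.2 hc.eq⟩)

/-- A fixed-point-free complement of a nontrivial normal subgroup is a Frobenius complement with
that subgroup as its kernel. -/
theorem frob_of_fpf_complement {N C : Subgroup G} [N.Normal] (hc : Subgroup.IsComplement' N C)
    (hN : N ≠ ⊥) (hC : C ≠ ⊥)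
    (hfpf : ∀ h ∈ C, h ≠ 1 → N ⊓ Subgroup.centralizer {h} = ⊥) :
    IsFrobeniusComplement C ∧ frobeniusKernel C = (N : Set G) := by
  have hF := (S0039.result N C hc hN hC).2 hfpf
  refine ⟨hF, ?_⟩
  have hsub : (N : Set G) ⊆ frobeniusKernel C := by
    intro x hx
    by_cases hx1 : x = 1
    · exact Or.inl hx1
    refine Or.inr fun g hg => hx1 ?_
    rw [mem_conj_smul] at hg
    have h1 : g⁻¹ * x * g ∈ N := by
      have := (inferInstance : N.Normal).conj_mem x hx g⁻¹
      rwa [inv_inv] at this
    have h2 : g⁻¹ * x * g = 1 := Subgroup.mem_bot.1 (hc.disjoint.eq_bot ▸ ⟨h1, hg⟩)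
    rwa [mul_assoc, inv_mul_eq_one, eq_comm, mul_eq_right] at h2
  refine (Set.Finite.eq_of_subset_of_card_le (Set.toFinite _) hsub ?_).symm
  rw [frob_kernel_card hF, hc.index_eq_card (H := N)]
  exact le_rfl

/-- Abelian subgroups of a fixed-point-free group are cyclic, so it has at most one subgroup of
each prime order inside each nilpotent subgroup. -/
theorem fpf_unique_order {A V : Subgroup G} [IsMulCommutative V] (hV : V ≠ ⊥)
    (hAV : A ≤ Subgroup.normalizer (V : Set G))
    (hfpf : ∀ a ∈ A, a ≠ 1 → V ⊓ Subgroup.centralizer {a} = ⊥)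
    {p : ℕ} [hp : Fact p.Prime] {x y : G} (hx : x ∈ A) (hy : y ∈ A) (hc : Commute x y)
    (hxp : x ^ p = 1) (hyp : y ^ p = 1) (hy1 : y ≠ 1) : x ∈ Subgroup.zpowers y := by
  set B := Subgroup.zpowers x ⊔ Subgroup.zpowers y with hB
  have hBA : B ≤ A := sup_le (Subgroup.zpowers_le.2 hx) (Subgroup.zpowers_le.2 hy)
  have hBc : IsMulCommutative B := by
    have hle : B ≤ Subgroup.centralizer (B : Set G) := by
      refine sup_le ?_ ?_ <;> rw [Subgroup.zpowers_le, hB] <;>
        rw [Subgroup.mem_centralizer_iff] <;> intro z hz <;>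
        refine ((?_ : B ≤ Subgroup.centralizer {_}) hz |> Subgroup.mem_centralizer_singleton_iff.1) <;>
        refine sup_le ?_ ?_ <;> rw [Subgroup.zpowers_le, Subgroup.mem_centralizer_singleton_iff]
      · exact hc.symm.eq
      · exact hc.eq
    exact ⟨⟨fun a b => Subtype.ext (Subgroup.mem_centralizer_iff.1 (hle b.2) a a.2)⟩⟩
  haveI : IsCyclic B := S0041.abelian_cyclic B V hV (hBA.trans hAV)
    (fun a ha => hfpf a (hBA ha)) hBc
  let xB : B := ⟨x, Subgroup.mem_sup_left (Subgroup.mem_zpowers x)⟩
  let yB : B := ⟨y, Subgroup.mem_sup_right (Subgroup.mem_zpowers y)⟩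
  have hyo : orderOf yB = p :=
    orderOf_eq_prime (Subtype.ext (by simpa [yB] using hyp)) (fun e => hy1 (congrArg Subtype.val e))
  have hmem : xB ∈ Subgroup.zpowers yB := by
    haveI := Fintype.ofFinite B
    classical
    have hsub : (Subgroup.zpowers yB : Set B).toFinset ⊆ Finset.univ.filter fun z => z ^ p = 1 := by
      intro z hz
      rw [Set.mem_toFinset] at hz
      obtain ⟨k, rfl⟩ := hz
      simp only [Finset.mem_filter, Finset.mem_univ, true_and]
      show (yB ^ k) ^ p = 1
      rw [← zpow_natCast (yB ^ k), ← zpow_mul, mul_comm, zpow_mul, zpow_natCast, ← hyo,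
        pow_orderOf_eq_one, one_zpow]
    have hcard : (Finset.univ.filter fun z : B => z ^ p = 1).card ≤
        (Subgroup.zpowers yB : Set B).toFinset.card := by
      rw [Set.toFinset_card, ← Nat.card_eq_fintype_card]
      show _ ≤ Nat.card ↥(Subgroup.zpowers yB)
      rw [Nat.card_zpowers, hyo]
      exact IsCyclic.card_pow_eq_one_le hp.out.pos
    have := Finset.eq_of_subset_of_card_le hsub hcard
    have hx' : xB ∈ Finset.univ.filter fun z : B => z ^ p = 1 := by
      simp only [Finset.mem_filter, Finset.mem_univ, true_and]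
      exact Subtype.ext (by simpa [xB] using hxp)
    rwa [← this, Set.mem_toFinset] at hx'
  obtain ⟨k, hk⟩ := hmem
  exact ⟨k, by simpa [xB, yB] using congrArg Subtype.val hk⟩

/-- A nilpotent group whose commuting elements of prime order are dependent and which has a
fixed-point-free automorphism is cyclic of odd order. -/
theorem nilpotent_cyclic_odd {Q : Type*} [Group Q] [Finite Q] (hQ : Group.IsNilpotent Q)
    (hu : ∀ (p : ℕ), p.Prime → ∀ x y : Q, Commute x y → x ^ p = 1 → y ^ p = 1 → y ≠ 1 →
      x ∈ Subgroup.zpowers y)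
    (σ : Q ≃* Q) (hσ : ∀ x, σ x = x → x = 1) : IsCyclic Q ∧ Odd (Nat.card Q) := by
  have huniq : ∀ (p : ℕ) [Fact p.Prime] (P : Sylow p Q), UniqueOrderP p (P : Subgroup Q) := by
    intro p hp P x y hx hy hy1
    haveI : Nontrivial (P : Subgroup Q) := ⟨⟨y, 1, hy1⟩⟩
    obtain ⟨⟨z, hz⟩, hz1⟩ := exists_prime_orderOf_dvd_card' (G := Subgroup.center (P : Subgroup Q)) p
      (by
        haveI : Nontrivial (Subgroup.center (P : Subgroup Q)) := P.2.center_nontrivial
        obtain ⟨k, hk⟩ := IsPGroup.iff_card.1 (P.2.to_subgroup (Subgroup.center (P : Subgroup Q)))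
        have h2 : 1 < Nat.card (Subgroup.center (P : Subgroup Q)) :=
          Finite.one_lt_card_iff_nontrivial.2 inferInstance
        rw [hk] at h2 ⊢
        exact dvd_pow_self p (fun h0 => by rw [h0] at h2; simp at h2))
    have hzp : z ^ p = 1 := by
      have h := pow_orderOf_eq_one (⟨z, hz⟩ : Subgroup.center (P : Subgroup Q))
      rw [hz1] at h
      simpa using congrArg Subtype.val h
    have hz1' : z ≠ 1 := fun e => by
      subst e
      exact hp.out.ne_one (hz1.symm.trans (orderOf_eq_one_iff.2 rfl))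
    have key : ∀ w : (P : Subgroup Q), w ^ p = 1 → w ∈ Subgroup.zpowers z := by
      intro w hw
      obtain ⟨k, hk⟩ := hu p hp.out (w : Q) (z : Q)
        (congrArg Subtype.val (Subgroup.mem_center_iff.1 hz w))
        (by simpa using congrArg Subtype.val hw) (by simpa using congrArg Subtype.val hzp)
        (fun e => hz1' (Subtype.ext e))
      exact ⟨k, Subtype.ext (by simpa using hk)⟩
    have hyo : orderOf y = p := orderOf_eq_prime hy hy1
    have hzo : orderOf z = p := orderOf_eq_prime hzp hz1'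
    have heq : Subgroup.zpowers y = Subgroup.zpowers z :=
      Subgroup.eq_of_le_of_card_ge (Subgroup.zpowers_le.2 (key y hy))
        (by rw [Nat.card_zpowers, Nat.card_zpowers, hyo, hzo])
    rw [heq]; exact key x hx
  have hodd : Odd (Nat.card Q) := by
    rw [← Nat.not_even_iff_odd, even_iff_two_dvd]
    intro h2
    haveI : Fact (Nat.Prime 2) := ⟨Nat.prime_two⟩
    obtain ⟨t, ht⟩ := exists_prime_orderOf_dvd_card' 2 h2
    obtain ⟨P⟩ : Nonempty (Sylow 2 Q) := inferInstance
    haveI : (P : Subgroup Q).Normal := P.normal_of_normalizerCondition (haveI := hQ; Group.normalizerCondition_of_isNilpotent)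
    have hmem : ∀ w : Q, orderOf w = 2 → w ∈ (P : Subgroup Q) := by
      intro w hw
      obtain ⟨P', hP'⟩ := (IsPGroup.of_card (p := 2) (n := 1)
        (by rw [Nat.card_zpowers, hw, pow_one]) : IsPGroup 2 (Subgroup.zpowers w)).exists_le_sylow
      haveI : Unique (Sylow 2 Q) := Sylow.unique_of_normal P inferInstance
      rw [Subsingleton.elim P P']
      exact hP' (Subgroup.mem_zpowers w)
    have hs : orderOf (σ t) = 2 := by rw [MulEquiv.orderOf_eq]; exact ht
    have hne : ∀ w : Q, orderOf w = 2 → w ≠ 1 := fun w hw e => by simp [e] at hw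
    have hpow : ∀ w : Q, orderOf w = 2 → w ^ 2 = 1 := fun w hw => hw ▸ pow_orderOf_eq_one w
    obtain ⟨k, hk⟩ := huniq 2 P ⟨σ t, hmem _ hs⟩ ⟨t, hmem _ ht⟩ (Subtype.ext (hpow _ hs))
      (Subtype.ext (hpow _ ht)) (fun e => hne t ht (congrArg Subtype.val e))
    have hk' : t ^ k = σ t := congrArg Subtype.val hk
    rcases Int.even_or_odd k with ⟨j, rfl⟩ | ⟨j, rfl⟩
    · rw [← two_mul, zpow_mul, zpow_two, ← pow_two, hpow t ht, one_zpow] at hk'
      exact hne _ hs hk'.symm
    · rw [zpow_add_one, zpow_mul, zpow_two, ← pow_two, hpow t ht, one_zpow, one_mul] at hk'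
      exact hne t ht (hσ t hk'.symm)
  haveI := hQ
  haveI : IsZGroup Q := ⟨fun p hp P => by
    haveI := Fact.mk hp
    rcases cyclic_or_quaternion P.2 (huniq p P) with h | ⟨rfl, n, ⟨e⟩⟩
    · exact h
    · exfalso
      have hdvd : Nat.card (P : Subgroup Q) ∣ Nat.card Q := Subgroup.card_subgroup_dvd_card _
      rw [Nat.card_congr e.toEquiv, Nat.card_eq_fintype_card, QuaternionGroup.card] at hdvd
      exact Nat.not_even_iff_odd.2 hodd (even_iff_two_dvd.2 ((dvd_mul_right 2 2).trans
          ((dvd_mul_right 4 _).trans hdvd)))⟩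
  exact ⟨inferInstance, hodd⟩

/-- A group acting fixed-point-freely on a cyclic group is cyclic. -/
theorem fpf_on_cyclic {B K : Subgroup G} [K.Normal] (hK : IsCyclic K) (hKne : K ≠ ⊥)
    (hfpf : ∀ b ∈ B, b ≠ 1 → K ⊓ Subgroup.centralizer {b} = ⊥) : IsCyclic B := by
  haveI := hK
  haveI : IsMulCommutative K := ⟨⟨fun a b => by
    letI := IsCyclic.commGroup (α := K)
    exact mul_comm a b⟩⟩
  have hab : IsMulCommutative B := by
    refine ⟨⟨fun a b => ?_⟩⟩
    let φ : B →* MulAut K := (MulAut.conjNormal (H := K)).comp B.subtype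
    have hinj : Function.Injective φ := by
      rw [injective_iff_map_eq_one]
      intro c hc
      by_contra hc1
      apply hKne
      rw [eq_bot_iff, ← hfpf c c.2 (fun e => hc1 (Subtype.ext e))]
      intro k hk
      refine ⟨hk, Subgroup.mem_centralizer_singleton_iff.2 ?_⟩
      have := congrArg Subtype.val (DFunLike.congr_fun hc ⟨k, hk⟩)
      simp only [φ, MonoidHom.coe_comp, Function.comp_apply, MulAut.conjNormal_apply,
        MulAut.one_apply, Subgroup.coe_subtype] at this
      exact (mul_inv_eq_iff_eq_mul.1 this).symm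
    apply hinj
    rw [map_mul, map_mul]
    ext k
    obtain ⟨m, hm⟩ := MonoidHom.map_cyclic ((φ a : K ≃* K).toMonoidHom)
    obtain ⟨m', hm'⟩ := MonoidHom.map_cyclic ((φ b : K ≃* K).toMonoidHom)
    have e1 : ∀ x, φ a x = x ^ m := hm
    have e2 : ∀ x, φ b x = x ^ m' := hm'
    rw [MulAut.mul_apply, MulAut.mul_apply, e1, e2, e2, e1, ← zpow_mul, ← zpow_mul, mul_comm]
  exact S0041.abelian_cyclic B K hKne (by rw [Subgroup.normalizer_eq_top_iff.2 inferInstance]; exact le_top)
    hfpf hab

theorem commute_of_nilpotent_prime {Q : Type*} [Group Q] [Finite Q] (hQ : Group.IsNilpotent Q)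
    {p q : ℕ} [Fact p.Prime] [Fact q.Prime] (hpq : p ≠ q) {x y : Q} (hx : orderOf x = p)
    (hy : orderOf y = q) : Commute x y := by
  have h := Perm.commute_of_le_nilpotent (H := (⊤ : Subgroup Q))
    (haveI := hQ; inferInstance) hpq
    (IsPGroup.of_card (p := p) (n := 1) (by rw [Nat.card_zpowers, hx, pow_one]))
    (IsPGroup.of_card (p := q) (n := 1) (by rw [Nat.card_zpowers, hy, pow_one]))
    le_top le_top (Subgroup.mem_zpowers x)
  exact (Subgroup.mem_centralizer_iff.1 h y (Subgroup.mem_zpowers y)).symm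

end Cfsg.Agent.Solv
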