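import Cfsg.Agent.Lib.Solv.FrobDiv

/-!
Finite groups in which the numbers of elements of each order bigger than two take at most two values.
-/

set_option autoImplicit false
set_option linter.unusedSectionVars false

namespace Cfsg.Agent.Solv.CV

variable {G : Type*} [Group G] [Finite G]

variable (G) in
/-- The number of elements of order `d`. -/
noncomputable def cnt (d : ℕ) : ℕ := Nat.card {g : G // orderOf g = d}

variable (G) in
/-- The counts for orders bigger than two take at most two values. -/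
def TwoVal : Prop :=
  ∀ d e f : ℕ, 2 < d → 2 < e → 2 < f → cnt G d ≠ 0 → cnt G e ≠ 0 → cnt G f ≠ 0 →
    cnt G d ≠ cnt G e → cnt G f = cnt G d ∨ cnt G f = cnt G e

theorem cnt_ne_zero {d : ℕ} : cnt G d ≠ 0 ↔ ∃ g : G, orderOf g = d := by
  constructor
  · intro h
    obtain ⟨⟨g, hg⟩⟩ := (Nat.card_ne_zero.1 h).1
    exact ⟨g, hg⟩
  · rintro ⟨g, hg⟩
    haveI : Nonempty {g : G // orderOf g = d} := ⟨⟨g, hg⟩⟩
    exact Nat.card_pos.ne'

theorem cnt_one : cnt G 1 = 1 := by
  haveI : Unique {g : G // orderOf g = 1} :=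
    ⟨⟨⟨1, orderOf_one⟩⟩, fun x => Subtype.ext (orderOf_eq_one_iff.1 x.2)⟩
  exact Nat.card_unique

theorem totient_dvd_cnt (d : ℕ) : Nat.totient d ∣ cnt G d :=
  totient_dvd_card_of_order {g : G | orderOf g = d} (fun g hg => dvd_of_eq hg.symm)
    (fun g (hg : orderOf g = d) h hh => by
      show orderOf h = d
      rw [← hg, ← Nat.card_zpowers, hh, Nat.card_zpowers])

theorem key (m : ℕ) (hm : m ∣ Nat.card G) : m ∣ ∑ d ∈ m.divisors, cnt G d := by
  classical
  haveI := Fintype.ofFinite G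
  have h := frobenius_dvd m hm
  have hm0 : m ≠ 0 := fun e => Nat.card_pos.ne' (Nat.eq_zero_of_zero_dvd (e ▸ hm))
  rw [Nat.card_eq_fintype_card, Fintype.card_subtype] at h
  rw [Finset.card_eq_sum_card_fiberwise (f := orderOf) (t := m.divisors) (fun g hg => by
    simp only [Finset.mem_coe, Finset.mem_filter] at hg
    exact Nat.mem_divisors.2 ⟨orderOf_dvd_of_pow_eq_one hg.2, hm0⟩)] at h
  refine h.trans (dvd_of_eq (Finset.sum_congr rfl fun d hd => ?_))
  rw [cnt, Nat.card_eq_fintype_card, Fintype.card_subtype, Finset.filter_filter]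
  refine congrArg Finset.card (Finset.filter_congr fun g _ => ⟨fun h => h.2, fun h => ⟨?_, h⟩⟩)
  exact orderOf_dvd_iff_pow_eq_one.1 (h ▸ (Nat.mem_divisors.1 hd).1)

theorem key_mod {p m : ℕ} (hpm : p ∣ m) (hm : m ∣ Nat.card G) :
    (∑ d ∈ m.divisors, (cnt G d : ZMod p)) = 0 := by
  rw [← Nat.cast_sum]
  exact (ZMod.natCast_eq_zero_iff _ _).2 (hpm.trans (key m hm))

theorem sum_divisors_coprime {M : Type*} [AddCommMonoid M] {a b : ℕ} (h : a.Coprime b) (f : ℕ → M) :
    ∑ d ∈ (a * b).divisors, f d = ∑ i ∈ a.divisors, ∑ j ∈ b.divisors, f (i * j) := by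
  rw [Nat.divisors_mul, Finset.mul_def, Finset.sum_image h.mul_injOn_divisors, Finset.sum_product]

theorem sum_cnt_le (s : Finset ℕ) : ∑ d ∈ s, cnt G d ≤ Nat.card G := by
  classical
  haveI := Fintype.ofFinite G
  calc ∑ d ∈ s, cnt G d = ∑ d ∈ s, (Finset.univ.filter fun g : G => orderOf g = d).card :=
        Finset.sum_congr rfl fun d _ => by rw [cnt, Nat.card_eq_fintype_card, Fintype.card_subtype]
    _ = (Finset.univ.filter fun g : G => orderOf g ∈ s).card := by
        rw [Finset.card_eq_sum_card_fiberwise (f := orderOf) (t := s) (fun g hg => by simpa using hg)]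
        refine Finset.sum_congr rfl fun d hd => congrArg Finset.card ?_
        rw [Finset.filter_filter]
        exact Finset.filter_congr fun g _ => ⟨fun h => ⟨h ▸ hd, h⟩, fun h => h.2⟩
    _ ≤ Nat.card G := by rw [Nat.card_eq_fintype_card]; exact Finset.card_le_univ _

theorem cast_two_ne {p : ℕ} [Fact p.Prime] (hp2 : p ≠ 2) : (2 : ZMod p) ≠ 0 := by
  intro h
  have h' : ((2 : ℕ) : ZMod p) = 0 := by simpa using h
  rw [ZMod.natCast_eq_zero_iff, Nat.prime_dvd_prime_iff_eq Fact.out Nat.prime_two] at h'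
  exact hp2 h'

theorem two_lt {p : ℕ} [hp : Fact p.Prime] (hp2 : p ≠ 2) : 2 < p :=
  lt_of_le_of_ne hp.out.two_le (Ne.symm hp2)

theorem cnt_prime_ne_zero {p : ℕ} [Fact p.Prime] (hpG : p ∣ Nat.card G) : cnt G p ≠ 0 :=
  cnt_ne_zero.2 (exists_prime_orderOf_dvd_card' p hpG)

theorem cast_cnt_prime {p : ℕ} [hp : Fact p.Prime] (hpG : p ∣ Nat.card G) :
    (cnt G p : ZMod p) = -1 := by
  have h := key_mod dvd_rfl hpG
  rw [hp.out.sum_divisors, cnt_one, Nat.cast_one] at h
  linear_combination h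

theorem cast_cnt_sq {p : ℕ} [hp : Fact p.Prime] : (cnt G (p ^ 2) : ZMod p) = 0 := by
  refine (ZMod.natCast_eq_zero_iff _ _).2 (dvd_trans ?_ (totient_dvd_cnt (p ^ 2)))
  rw [Nat.totient_prime_pow hp.out two_pos]
  exact dvd_mul_of_dvd_left (by rw [show 2 - 1 = 1 from rfl, pow_one]) _

theorem cast_cnt_pair {p q : ℕ} [hp : Fact p.Prime] [hq : Fact q.Prime] (hne : p ≠ q)
    (hpG : p ∣ Nat.card G) (hqG : q ∣ Nat.card G) :
    (cnt G q : ZMod p) + (cnt G (p * q) : ZMod p) = 0 := by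
  have hco := (Nat.coprime_primes hp.out hq.out).2 hne
  have h := key_mod (dvd_mul_right p q) (hco.mul_dvd_of_dvd_of_dvd hpG hqG)
  rw [sum_divisors_coprime hco, hp.out.sum_divisors, hq.out.sum_divisors, hq.out.sum_divisors] at h
  simp only [one_mul, mul_one, cnt_one, Nat.cast_one] at h
  linear_combination h - cast_cnt_prime (G := G) hpG

theorem same_pair {p q : ℕ} [hp : Fact p.Prime] [hq : Fact q.Prime] (hp2 : p ≠ 2) (hne : p ≠ q)
    (hpG : p ∣ Nat.card G) (hqG : q ∣ Nat.card G) (he : cnt G p = cnt G q) :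
    cnt G (p * q) ≠ 0 ∧ cnt G (p * q) ≠ cnt G p ∧ (cnt G (p * q) : ZMod p) = 1 := by
  have h := cast_cnt_pair hne hpG hqG
  rw [← he] at h
  have ha := cast_cnt_prime (G := G) hpG
  have h1 : (cnt G (p * q) : ZMod p) = 1 := by linear_combination h - ha
  refine ⟨fun e => ?_, fun e => ?_, h1⟩
  · rw [e, Nat.cast_zero] at h1
    exact zero_ne_one h1
  · rw [e] at h1
    exact cast_two_ne hp2 (by linear_combination ha - h1)

theorem same_sq {p q : ℕ} [hp : Fact p.Prime] [hq : Fact q.Prime] (hp2 : p ≠ 2) (hq2 : q ≠ 2)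
    (hne : p ≠ q) (hpG : p ∣ Nat.card G) (hqG : q ∣ Nat.card G) (hV : TwoVal G)
    (he : cnt G p = cnt G q) : cnt G (p ^ 2) = 0 := by
  obtain ⟨hb0, hba, hb1⟩ := same_pair hp2 hne hpG hqG he
  by_contra h
  have hp3 := two_lt hp2
  have hq3 := two_lt hq2
  rcases hV p (p * q) (p ^ 2) hp3 (by nlinarith) (by nlinarith) (cnt_prime_ne_zero hpG) hb0 h
    (Ne.symm hba) with e | e
  · have := cast_cnt_sq (G := G) (p := p)
    rw [e, cast_cnt_prime hpG, neg_eq_zero] at this
    exact one_ne_zero this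
  · have := cast_cnt_sq (G := G) (p := p)
    rw [e, hb1] at this
    exact one_ne_zero this

theorem triple_false {p q r : ℕ} [hp : Fact p.Prime] [hq : Fact q.Prime] [hr : Fact r.Prime]
    (hp2 : p ≠ 2) (hq2 : q ≠ 2) (hr2 : r ≠ 2) (hne : p ≠ q)
    (hpG : p ∣ Nat.card G) (hqG : q ∣ Nat.card G) (hrG : r ∣ Nat.card G) (hV : TwoVal G)
    (he : cnt G p = cnt G q) : cnt G r = cnt G p := by
  by_contra hrp
  obtain ⟨hb0, hba, hb1⟩ := same_pair hp2 hne hpG hqG he
  obtain ⟨-, -, hb1'⟩ := same_pair hq2 (Ne.symm hne) hqG hpG he.symm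
  have hp3 := two_lt hp2
  have hq3 := two_lt hq2
  have hr3 := two_lt hr2
  have hbr : cnt G r = cnt G (p * q) := (hV p (p * q) r hp3 (by nlinarith) hr3 (cnt_prime_ne_zero hpG)
    hb0 (cnt_prime_ne_zero hrG) (Ne.symm hba)).resolve_left hrp
  have val : ∀ d, 2 < d → cnt G d ≠ 0 → cnt G d = cnt G p ∨ cnt G d = cnt G r := fun d hd h0 =>
    hV p r d hp3 hr3 hd (cnt_prime_ne_zero hpG) (cnt_prime_ne_zero hrG) h0 (Ne.symm hrp)
  have hpr : p ≠ r := fun e => hrp (by rw [e])
  have hqr : q ≠ r := fun e => hrp (by rw [← e, he])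
  have step : ∀ (x : ℕ) [Fact x.Prime], x ≠ 2 → x ≠ r → x ∣ Nat.card G → cnt G x = cnt G p →
      (cnt G (p * q) : ZMod x) = 1 → cnt G (x * r) = cnt G p := by
    intro x hx hx2 hxr hxG hxa hxb
    have h := cast_cnt_pair hxr hxG hrG
    rw [hbr, hxb] at h
    have hx3 := two_lt hx2
    by_cases h0 : cnt G (x * r) = 0
    · rw [h0, Nat.cast_zero, add_zero] at h
      exact absurd h one_ne_zero
    · rcases val _ (by nlinarith) h0 with e | e
      · exact e
      · rw [e, hbr, hxb] at h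
        exact absurd (by linear_combination h) (cast_two_ne (p := x) hx2)
  have hpr' := step p hp2 hpr hpG rfl hb1
  have hqr' := step q hq2 hqr hqG he.symm (by rw [mul_comm]; exact hb1')
  have hrb : (cnt G r : ZMod r) = -1 := cast_cnt_prime hrG
  have hra : (cnt G p : ZMod r) = 0 := by
    have h := cast_cnt_pair (Ne.symm hpr) hrG hpG
    rw [mul_comm, hpr'] at h
    exact (mul_eq_zero.1 (show (2 : ZMod r) * cnt G p = 0 by linear_combination h)).resolve_left
      (cast_two_ne hr2)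
  have hco := (Nat.coprime_primes hp.out hq.out).2 hne
  have hcor : (p * q).Coprime r :=
    ((Nat.coprime_primes hp.out hr.out).2 hpr).mul_left ((Nat.coprime_primes hq.out hr.out).2 hqr)
  have h := key_mod (dvd_mul_left r (p * q))
    (hcor.mul_dvd_of_dvd_of_dvd (hco.mul_dvd_of_dvd_of_dvd hpG hqG) hrG)
  rw [sum_divisors_coprime hcor, sum_divisors_coprime hco, hp.out.sum_divisors, hq.out.sum_divisors,
    hq.out.sum_divisors, hr.out.sum_divisors, hr.out.sum_divisors, hr.out.sum_divisors,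
    hr.out.sum_divisors] at h
  simp only [one_mul, mul_one, cnt_one, Nat.cast_one] at h
  rw [← he, hpr', hqr', ← hbr, hra, hrb] at h
  have h1 : (cnt G (p * q * r) : ZMod r) = 1 := by linear_combination h
  by_cases h0 : cnt G (p * q * r) = 0
  · rw [h0, Nat.cast_zero] at h1
    exact zero_ne_one h1
  · rcases val _ (by nlinarith [Nat.mul_pos hp.out.pos hq.out.pos]) h0 with e | e
    · rw [e, hra] at h1
      exact zero_ne_one h1
    · rw [e, hrb] at h1
      exact cast_two_ne hr2 (by linear_combination -h1)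

/-- Conjugation of a subgroup on the elements of a given order. -/
@[reducible] def conjOrd (Q : Subgroup G) (d : ℕ) : MulAction Q {g : G // orderOf g = d} where
  smul u g := ⟨MulAut.conj (u : G) g, by rw [MulEquiv.orderOf_eq, g.2]⟩
  one_smul g := Subtype.ext (by
    show MulAut.conj ((1 : Q) : G) (g : G) = g
    simp)
  mul_smul u v g := Subtype.ext (by
    show MulAut.conj ((u * v : Q) : G) (g : G) = MulAut.conj (u : G) (MulAut.conj (v : G) g)
    simp only [Subgroup.coe_mul, map_mul, MulAut.mul_apply])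

theorem exists_fixed_order {q : ℕ} [Fact q.Prime] {Q : Subgroup G} (hQ : IsPGroup q Q) {d : ℕ}
    (hd : ¬ q ∣ cnt G d) : ∃ y : G, orderOf y = d ∧ ∀ u ∈ Q, Commute u y := by
  letI := conjOrd Q d
  obtain ⟨y, hy⟩ := hQ.nonempty_fixed_point_of_prime_not_dvd_card {g : G // orderOf g = d} hd
  refine ⟨y, y.2, fun u hu => ?_⟩
  have h : MulAut.conj u (y : G) = y := congrArg Subtype.val (hy (⟨u, hu⟩ : Q))
  exact mul_inv_eq_iff_eq_mul.1 h

theorem pair_ne_right {p q : ℕ} [hp : Fact p.Prime] [hq : Fact q.Prime] (hp2 : p ≠ 2) (hne : p ≠ q)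
    (hqG : q ∣ Nat.card G) (hd : (cnt G p : ZMod q) ≠ 0) : cnt G (p * q) ≠ cnt G q := by
  have hex : ∀ t : {g : G // orderOf g = q}, ∃ y : G, orderOf y = p ∧ Commute (t : G) y := by
    intro t
    have ht : IsPGroup q (Subgroup.zpowers (t : G)) :=
      IsPGroup.of_card (n := 1) (by rw [Nat.card_zpowers, t.2, pow_one])
    obtain ⟨y, hy, hc⟩ := exists_fixed_order ht
      (fun h => hd ((ZMod.natCast_eq_zero_iff _ _).2 h))
    exact ⟨y, hy, hc _ (Subgroup.mem_zpowers _)⟩
  choose Y hY hYc using hex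
  have hco := (Nat.coprime_primes hp.out hq.out).2 hne
  let sgn : {g : G // orderOf g = q} → Bool → G := fun t s => if s then Y t else (Y t)⁻¹
  have hs : ∀ t s, orderOf (sgn t s) = p ∧ Commute (t : G) (sgn t s) := by
    intro t s
    cases s
    · exact ⟨(orderOf_inv _).trans (hY t), (hYc t).inv_right⟩
    · exact ⟨hY t, hYc t⟩
  let f : {g : G // orderOf g = q} × Bool → {g : G // orderOf g = p * q} := fun a =>
    ⟨sgn a.1 a.2 * a.1, by
      rw [(hs a.1 a.2).2.symm.orderOf_mul_eq_mul_orderOf_of_coprime (by rw [(hs a.1 a.2).1, a.1.2]; exact hco),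
        (hs a.1 a.2).1, a.1.2]⟩
  have hf : Function.Injective f := by
    rintro ⟨t, s⟩ ⟨t', s'⟩ h
    have h1 : sgn t s * (t : G) = sgn t' s' * (t' : G) := congrArg Subtype.val h
    have h2 : ((t : G)) ^ p = (t' : G) ^ p := by
      have := congrArg (fun x : G => x ^ p) h1
      try simp only at this
      rw [(hs t s).2.symm.mul_pow, (hs t' s').2.symm.mul_pow] at this
      have e1 : sgn t s ^ p = 1 := by rw [← (hs t s).1, pow_orderOf_eq_one]
      have e2 : sgn t' s' ^ p = 1 := by rw [← (hs t' s').1, pow_orderOf_eq_one]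
      rwa [e1, e2, one_mul, one_mul] at this
    obtain rfl : t = t' := by
      obtain ⟨k, hk⟩ := exists_pow_eq_self_of_coprime (x := (t : G)) (n := p) (by rw [t.2]; exact hco)
      obtain ⟨k', hk'⟩ := exists_pow_eq_self_of_coprime (x := (t' : G)) (n := p) (by rw [t'.2]; exact hco)
      obtain ⟨i, hi⟩ : ∃ i, p * i ≡ 1 [MOD q] := ⟨((p : ZMod q)⁻¹).val, by
        rw [← ZMod.natCast_eq_natCast_iff, Nat.cast_mul, ZMod.natCast_zmod_val, Nat.cast_one]
        refine mul_inv_cancel₀ fun e => ?_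
        exact hne ((Nat.prime_dvd_prime_iff_eq hq.out hp.out).1
          ((ZMod.natCast_eq_zero_iff _ _).1 e)).symm⟩
      refine Subtype.ext ?_
      have a1 : (t : G) ^ (p * i) = (t : G) ^ 1 := pow_eq_pow_iff_modEq.2 (by rw [t.2]; exact hi)
      have a2 : (t' : G) ^ (p * i) = (t' : G) ^ 1 := pow_eq_pow_iff_modEq.2 (by rw [t'.2]; exact hi)
      rw [pow_mul, h2, ← pow_mul, a2, pow_one, pow_one] at a1
      exact a1.symm
    have h3 : sgn t s = sgn t s' := mul_right_cancel h1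
    have hyy : Y t ≠ (Y t)⁻¹ := by
      intro e
      have : (Y t) ^ 2 = 1 := by rw [sq]; nth_rw 2 [e]; exact mul_inv_cancel _
      have h4 := hY t ▸ orderOf_dvd_of_pow_eq_one this
      exact hp2 ((Nat.prime_dvd_prime_iff_eq hp.out Nat.prime_two).1 h4)
    cases s <;> cases s' <;> simp_all [sgn]
  have hle := Nat.card_le_card_of_injective f hf
  rw [Nat.card_prod, show Nat.card Bool = 2 by simp] at hle
  intro e
  have h0 := cnt_prime_ne_zero (G := G) hqG
  unfold cnt at e h0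
  omega

theorem mixed {p q : ℕ} [hp : Fact p.Prime] [hq : Fact q.Prime] (hp2 : p ≠ 2) (hq2 : q ≠ 2)
    (hpG : p ∣ Nat.card G) (hqG : q ∣ Nat.card G) (hV : TwoVal G) (hne : cnt G p ≠ cnt G q) :
    cnt G (p * q) = 0 ∧ (cnt G q : ZMod p) = 0 := by
  have hpq : p ≠ q := fun e => hne (by rw [e])
  have h1 := cast_cnt_pair hpq hpG hqG
  have h2 := cast_cnt_pair (Ne.symm hpq) hqG hpG
  rw [mul_comm q p] at h2
  have ha := cast_cnt_prime (G := G) hpG
  have hb := cast_cnt_prime (G := G) hqG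
  by_cases h0 : cnt G (p * q) = 0
  · rw [h0, Nat.cast_zero, add_zero] at h1
    exact ⟨h0, h1⟩
  · exfalso
    have hp3 := two_lt hp2
    have hq3 := two_lt hq2
    rcases hV p q (p * q) hp3 hq3 (by nlinarith) (cnt_prime_ne_zero hpG) (cnt_prime_ne_zero hqG) h0
      hne with e | e
    · refine pair_ne_right (p := q) (q := p) hq2 (Ne.symm hpq) hpG ?_ (by rw [mul_comm]; exact e)
      intro hd
      rw [e, hd, zero_add, ha, neg_eq_zero] at h1
      exact one_ne_zero h1
    · refine pair_ne_right hp2 hpq hqG ?_ e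
      intro hd
      rw [e, hd, zero_add, hb, neg_eq_zero] at h2
      exact one_ne_zero h2

theorem mixed_sq {p q : ℕ} [hp : Fact p.Prime] [hq : Fact q.Prime] (hp2 : p ≠ 2) (hq2 : q ≠ 2)
    (hpG : p ∣ Nat.card G) (hqG : q ∣ Nat.card G) (hV : TwoVal G) (hne : cnt G p ≠ cnt G q) :
    cnt G (p ^ 2) = 0 := by
  have hpq : p ≠ q := fun e => hne (by rw [e])
  obtain ⟨h0, hbp⟩ := mixed hp2 hq2 hpG hqG hV hne
  have hco := (Nat.coprime_primes hp.out hq.out).2 hpq
  by_contra h
  have hp3 := two_lt hp2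
  rcases hV p q (p ^ 2) hp3 (two_lt hq2) (by nlinarith) (cnt_prime_ne_zero hpG) (cnt_prime_ne_zero hqG) h
    hne with e | e
  · have := cast_cnt_sq (G := G) (p := p)
    rw [e, cast_cnt_prime hpG, neg_eq_zero] at this
    exact one_ne_zero this
  · obtain ⟨t, ht⟩ := exists_prime_orderOf_dvd_card' q hqG
    have hQ : IsPGroup q (Subgroup.zpowers t) := IsPGroup.of_card (n := 1) (by rw [Nat.card_zpowers, ht, pow_one])
    have hnd : ¬ q ∣ cnt G (p ^ 2) := by
      rw [e, ← ZMod.natCast_eq_zero_iff, cast_cnt_prime hqG, neg_eq_zero]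
      exact one_ne_zero
    obtain ⟨y, hy, hc⟩ := exists_fixed_order hQ hnd
    have hyp : orderOf (y ^ p) = p := by
      rw [orderOf_pow' y hp.out.ne_zero, hy, Nat.gcd_eq_right (dvd_pow_self p two_ne_zero), sq,
        Nat.mul_div_cancel _ hp.out.pos]
    refine cnt_ne_zero.2 ⟨y ^ p * t, ?_⟩ h0
    rw [((hc t (Subgroup.mem_zpowers t)).symm.pow_left p).orderOf_mul_eq_mul_orderOf_of_coprime
      (by rw [hyp, ht]; exact hco), hyp, ht]

theorem no_higher {p k : ℕ} [hp : Fact p.Prime] (h2 : cnt G (p ^ 2) = 0) (hk : 2 ≤ k) :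
    cnt G (p ^ k) = 0 := by
  by_contra h
  obtain ⟨g, hg⟩ := cnt_ne_zero.1 h
  refine cnt_ne_zero.2 ⟨g ^ p ^ (k - 2), ?_⟩ h2
  rw [orderOf_pow' g (pow_ne_zero _ hp.out.ne_zero), hg, Nat.gcd_eq_right (pow_dvd_pow p (by omega)),
    Nat.pow_div (by omega) hp.out.pos, show k - (k - 2) = 2 by omega]

theorem prime_pow_dvd_succ {p k : ℕ} [hp : Fact p.Prime] (h2 : cnt G (p ^ 2) = 0)
    (hk : p ^ k ∣ Nat.card G) : p ^ k ∣ 1 + cnt G p := by
  rcases Nat.eq_zero_or_pos k with rfl | hk0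
  · simp
  have h := key _ hk
  rw [Nat.sum_divisors_prime_pow hp.out, show k + 1 = 2 + (k - 1) by omega, Finset.sum_range_add] at h
  rw [Finset.sum_eq_zero (s := Finset.range (k - 1)) (fun i _ => no_higher h2 (by omega)), add_zero,
    Finset.sum_range_succ, Finset.sum_range_succ, Finset.sum_range_zero, zero_add, pow_zero, pow_one,
    cnt_one] at h
  exact h

end Cfsg.Agent.Solv.CV
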