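import Cfsg.Agent.Lib.Small.SchurLifts

/-!
Lifting a unipotent group filtered by weight spaces through a central extension, in any characteristic and with
weights whose values need not fill the field: when a torus element separates any two weight spaces and the lifts of each
weight space commute among themselves, the commutators of the lifts avoid the kernel.
-/

set_option autoImplicit false
set_option linter.unusedSectionVars false

namespace Cfsg.Agent.Solv.WeightSeriesGen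

open scoped commutatorElement IsMulCommutative
open Cfsg.Agent.Small.SchurLifts

variable {Γ G : Type*} [Group Γ] [Group G] (C : Central Γ G)

variable {K : Type*} [Field K] {T : Type*}

/-- The subgroup generated by the first weight spaces. -/
def N (g : ℕ → K → G) (i : ℕ) : Subgroup G := Subgroup.closure {z | ∃ j < i, ∃ x, z = g j x}

/-- A filtration by weight spaces. -/
structure Series (g : ℕ → K → G) (tor : T → G) (χ : ℕ → T → Kˣ) (n : ℕ) : Prop where
  tor_comm : ∀ s t, tor s * tor t = tor t * tor s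
  conj : ∀ i < n, ∀ t x, tor t * g i x * (tor t)⁻¹ = g i ((χ i t : K) * x)
  add : ∀ i < n, ∀ x y, g i x * g i y * (g i (x + y))⁻¹ ∈ N g i
  comm : ∀ i < n, ∀ j < i, ∀ x y, g i x * g j y * (g i x)⁻¹ * (g j y)⁻¹ ∈ N g i
  pairs : ∀ i < n, ∀ j < i, ∃ t, χ i t = 1 ∧ χ j t ≠ 1
  self : ∀ i < n, ∀ a b x y, C.π a = g i x → C.π b = g i y → Commute a b
  scale : ∀ i < n, ∃ t₀ t, χ i t₀ ≠ 1 ∧ (χ i t : K) * ((χ i t₀ : K) - 1) = 1

variable {C} {g : ℕ → K → G} {tor : T → G} {χ : ℕ → T → Kˣ} {n : ℕ}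

theorem N_mem {i j : ℕ} (h : j < i) (x : K) : g j x ∈ N g i := Subgroup.subset_closure ⟨j, h, x, rfl⟩

theorem N_mono {i j : ℕ} (h : i ≤ j) : N g i ≤ N g j :=
  Subgroup.closure_mono fun _ ⟨k, hk, x, hx⟩ => ⟨k, hk.trans_le h, x, hx⟩

theorem N_succ_le {i : ℕ} {H : Subgroup G} (h1 : N g i ≤ H) (h2 : ∀ x, g i x ∈ H) : N g (i + 1) ≤ H := by
  refine (Subgroup.closure_le _).2 ?_
  rintro _ ⟨j, hj, x, rfl⟩
  rcases Nat.lt_succ_iff_lt_or_eq.1 hj with h | rfl
  exacts [h1 (N_mem h x), h2 x]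

variable [Finite Γ] (S : Series C g tor χ n)

include S in
/-- Lifted weight spaces normalise a stable complement below them. -/
theorem normalise {i : ℕ} (hi : i < n) {M : Subgroup Γ} (hM : ∀ k ∈ M, C.π k = 1 → k = 1)
    (hmap : M.map C.π = N g i) (htor : ∀ a t, C.π a = tor t → ∀ k ∈ M, a * k * a⁻¹ ∈ M)
    {a : Γ} {x : K} (ha : C.π a = g i x) : ∀ k ∈ M, a * k * a⁻¹ ∈ M := by
  obtain ⟨A, hA⟩ : ∃ A : Subgroup Γ, A = M ⊓ M.comap (MulAut.conj a).toMonoidHom := ⟨_, rfl⟩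
  have hmem : ∀ k, k ∈ A ↔ k ∈ M ∧ a * k * a⁻¹ ∈ M := fun k => by rw [hA]; rfl
  suffices hall : ∀ j ≤ i, ∀ k ∈ M, C.π k ∈ N g j → k ∈ A from fun k hk =>
    ((hmem k).1 (hall i le_rfl k hk (hmap ▸ ⟨k, hk, rfl⟩))).2
  intro j
  induction j with
  | zero =>
    intro _ k hk hkN
    have h0 : N g 0 ≤ (⊥ : Subgroup G) := (Subgroup.closure_le _).2 fun _ ⟨l, hl, _⟩ => absurd hl (Nat.not_lt_zero l)
    rw [hM k hk (Subgroup.mem_bot.1 (h0 hkN))]
    exact one_mem _
  | succ j ih =>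
    intro hj k hk hkN
    have ih := ih (by omega)
    have hle : N g j ≤ A.map C.π := fun z hz => by
      obtain ⟨k', hk', rfl⟩ : z ∈ M.map C.π := hmap ▸ N_mono (by omega) hz
      exact ⟨k', ih k' hk' hz, rfl⟩
    have hgen : ∀ y, g j y ∈ A.map C.π := by
      intro y
      have hlift : ∀ y, ∃ k ∈ M, C.π k = g j y := fun y => by
        have := N_mem (g := g) (show j < i by omega) y
        rw [← hmap] at this
        exact this
      obtain ⟨t, hti, htj⟩ := S.pairs i hi j (by omega)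
      obtain ⟨τ, hτ⟩ := C.surj (tor t)
      have hb : ((χ j t : Kˣ) : K) - 1 ≠ 0 := sub_ne_zero.2 fun h => htj (Units.ext h)
      obtain ⟨v, hv⟩ : ∃ v, v = y / ((χ j t : K) - 1) := ⟨_, rfl⟩
      obtain ⟨k1, hk1, he1⟩ := hlift v
      obtain ⟨k2, hk2, he2⟩ : ∃ k2 ∈ M, k2 = τ * k1 * τ⁻¹ := ⟨_, htor τ t hτ k1 hk1, rfl⟩
      have hk21 : k2 * k1⁻¹ ∈ A := by
        refine (hmem _).2 ⟨mul_mem hk2 (inv_mem hk1), ?_⟩
        obtain ⟨m1, hm1, hem⟩ : ∃ m1 ∈ M, C.π m1 = C.π (a * k1 * a⁻¹) := by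
          have h3 : C.π (a * k1 * a⁻¹) ∈ N g i := by
            have h := mul_mem (S.comm i hi j (by omega) x v) (N_mem (g := g) (show j < i by omega) v)
            rw [inv_mul_cancel_right] at h
            rw [map_mul, map_mul, map_inv, ha, he1]
            exact h
          rw [← hmap] at h3
          exact h3
        obtain ⟨z, hzc, hz⟩ : ∃ z ∈ Subgroup.center Γ, a * k1 * a⁻¹ = z * m1 :=
          ⟨a * k1 * a⁻¹ * m1⁻¹, C.central (by rw [MonoidHom.mem_ker, map_mul, map_inv, hem, mul_inv_cancel]),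
            (inv_mul_cancel_right _ _).symm⟩
        obtain ⟨w, hwc, hw⟩ : ∃ w ∈ Subgroup.center Γ, τ * a * τ⁻¹ = a * w :=
          ⟨a⁻¹ * (τ * a * τ⁻¹), C.central (by
            rw [MonoidHom.mem_ker, map_mul, map_mul, map_mul, map_inv, map_inv, hτ, ha, S.conj i hi, hti,
              Units.val_one, one_mul, inv_mul_cancel]), (mul_inv_cancel_left _ _).symm⟩
        have hc : ∀ z ∈ Subgroup.center Γ, ∀ u, u * z = z * u := fun z hz u => Subgroup.mem_center_iff.1 hz u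
        have h5 : a * k2 * a⁻¹ = z * (τ * m1 * τ⁻¹) :=
          calc a * k2 * a⁻¹ = a * k2 * (w * w⁻¹) * a⁻¹ := by rw [mul_inv_cancel, mul_one]
            _ = (a * w) * k2 * (a * w)⁻¹ := by
              rw [← mul_assoc (a * k2) w, mul_assoc a k2 w, hc w hwc k2]; group
            _ = τ * (a * k1 * a⁻¹) * τ⁻¹ := by rw [← hw, he2]; group
            _ = z * (τ * m1 * τ⁻¹) := by rw [hz, ← mul_assoc, hc z hzc τ]; group
        have h6 : a * (k2 * k1⁻¹) * a⁻¹ = τ * m1 * τ⁻¹ * m1⁻¹ := by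
          rw [show a * (k2 * k1⁻¹) * a⁻¹ = a * k2 * a⁻¹ * (a * k1 * a⁻¹)⁻¹ by group, h5, hz, _root_.mul_inv_rev,
            ← mul_assoc, mul_assoc z, ← hc z hzc, mul_inv_cancel_right]
        rw [h6]
        exact mul_mem (htor τ t hτ m1 hm1) (inv_mem hm1)
      have e := S.add j (by omega) y v
      have hyv : y + v = (χ j t : K) * v := by rw [hv]; field_simp; ring
      rw [hyv] at e
      have hk21' : C.π (k2 * k1⁻¹) = g j ((χ j t : K) * v) * (g j v)⁻¹ := by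
        rw [he2, map_mul, map_mul, map_mul, map_inv, map_inv, hτ, he1, S.conj j (by omega)]
      have : g j y = (g j y * g j v * (g j ((χ j t : K) * v))⁻¹) * C.π (k2 * k1⁻¹) := by rw [hk21']; group
      rw [this]
      exact mul_mem (hle e) ⟨_, hk21, rfl⟩
    obtain ⟨k', hk', he⟩ := N_succ_le hle hgen hkN
    have := hM _ (mul_mem (inv_mem ((hmem k').1 hk').1) hk) (by rw [map_mul, map_inv, he, inv_mul_cancel])
    rw [← inv_mul_eq_one.1 this]
    exact hk'

include S in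
/-- The next weight space lifts. -/
theorem step {i : ℕ} (hi : i < n) {M : Subgroup Γ} (hM : ∀ k ∈ M, C.π k = 1 → k = 1)
    (hmap : M.map C.π = N g i) (htor : ∀ a t, C.π a = tor t → ∀ k ∈ M, a * k * a⁻¹ ∈ M) :
    ∃ M' : Subgroup Γ, (∀ k ∈ M', C.π k = 1 → k = 1) ∧ M'.map C.π = N g (i + 1) ∧
      ∀ a t, C.π a = tor t → ∀ k ∈ M', a * k * a⁻¹ ∈ M' := by
  obtain ⟨l, hl⟩ : ∃ l : K → Γ, ∀ x, C.π (l x) = g i x := ⟨fun x => C.L (g i x), fun x => C.π_L _⟩
  obtain ⟨R, hR⟩ : ∃ R : Subgroup Γ, R = Subgroup.normalizer (M : Set Γ) := ⟨_, rfl⟩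
  have hlR : ∀ a x, C.π a = g i x → a ∈ R := fun a x ha =>
    hR ▸ Subgroup.mem_normalizer_fintype (normalise S hi hM hmap htor ha)
  have hTR : ∀ a t, C.π a = tor t → a ∈ R := fun a t ha =>
    hR ▸ Subgroup.mem_normalizer_fintype (htor a t ha)
  have hMR : M ≤ R := hR ▸ Subgroup.le_normalizer
  have hcR : ∀ z ∈ Subgroup.center Γ, z ∈ R := fun z hz =>
    hR ▸ Subgroup.center_le_normalizer _ hz
  have hRn : ∀ a ∈ R, ∀ k ∈ M, a * k * a⁻¹ ∈ M := fun a ha k hk => by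
    rw [hR] at ha; exact (Subgroup.mem_normalizer_iff.1 ha k).1 hk
  have hN' : ∀ {z}, z ∈ N g i → z ∈ M.map C.π := fun {z} hz => hmap.symm ▸ hz
  -- products of two lifts
  have hprod : ∀ x y, ∃ m ∈ M, ∃ z ∈ Subgroup.center Γ, l x * l y = m * l (x + y) * z := by
    intro x y
    obtain ⟨m, hm, he⟩ := hN' (S.add i hi x y)
    refine ⟨m, hm, (m * l (x + y))⁻¹ * (l x * l y), C.central ?_, (mul_inv_cancel_left _ _).symm⟩
    rw [MonoidHom.mem_ker, map_mul, map_inv, map_mul, map_mul, he, hl, hl, hl, inv_mul_cancel_right, inv_mul_cancel]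
  -- expansions of commutators
  have hcen : ∀ z ∈ Subgroup.center Γ, ∀ u : Γ, u * z = z * u := fun z hz u => Subgroup.mem_center_iff.1 hz u
  have hmc : ∀ b ∈ R, ∀ m ∈ M, ⁅m, b⁆ ∈ M ∧ ⁅b, m⁆ ∈ M := fun b hb m hm => by
    refine ⟨?_, ?_⟩ <;> rw [commutatorElement_def]
    · rw [show m * b * m⁻¹ * b⁻¹ = m * (b * m⁻¹ * b⁻¹) by group]; exact mul_mem hm (hRn b hb _ (inv_mem hm))
    · exact mul_mem (hRn b hb m hm) (inv_mem hm)
  have hcz : ∀ u v : Γ, ∀ {z}, z ∈ Subgroup.center Γ → ⁅u * z, v⁆ = ⁅u, v⁆ := fun u v {z} hz => by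
    rw [commutatorElement_def, commutatorElement_def, mul_assoc u z v, ← hcen z hz v]; group
  have hcM : ∀ x y, ⁅l x, l y⁆ ∈ M := fun x y => by
    rw [commutatorElement_eq_one_iff_mul_comm.2 (S.self i hi _ _ x y (hl x) (hl y)).eq]
    exact one_mem M
  have absorb : ∀ a u w, C.π w * (g i u)⁻¹ ∈ N g i → ⁅l a, w⁆ ∈ M := by
    intro a u w hw
    obtain ⟨m, hm, he⟩ := hN' hw
    rw [C.comm_right (l a) (b' := m * l u) (by rw [map_mul, he, hl, inv_mul_cancel_right]),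
      show ⁅l a, m * l u⁆ = ⁅l a, m⁆ * (m * ⁅l a, l u⁆ * m⁻¹) by simp only [commutatorElement_def]; group]
    exact mul_mem (hmc _ (hlR _ a (hl a)) m hm).2 (mul_mem (mul_mem hm (hcM a u)) (inv_mem hm))
  -- the complement in the new weight space
  obtain ⟨t0, t1, ht0', ht1⟩ := S.scale i hi
  obtain ⟨b, hbdef⟩ : ∃ b : Kˣ, b = χ i t0 := ⟨_, rfl⟩
  have ht0 : χ i t0 = b := hbdef.symm
  have hb : (b : K) - 1 ≠ 0 := sub_ne_zero.2 fun h => ht0' (ht0.trans (Units.ext h))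
  have ht1' : (χ i t1 : K) = ((b : K) - 1)⁻¹ := eq_inv_of_mul_eq_one_left (ht0 ▸ ht1)
  obtain ⟨τ0, hτ0⟩ := C.surj (tor t0)
  let e : K → Γ := fun x => ⁅τ0, l (x / ((b : K) - 1))⁆
  have hπe : ∀ x, C.π (e x) * (g i x)⁻¹ ∈ N g i := fun x => by
    have h := inv_mem (S.add i hi x (x / ((b : K) - 1)))
    rw [show x + x / ((b : K) - 1) = (b : K) * (x / ((b : K) - 1)) by field_simp; ring] at h
    show C.π ⁅τ0, l _⁆ * _ ∈ _
    rw [map_commutatorElement, hτ0, hl, commutatorElement_def, S.conj i hi, ht0]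
    convert h using 1
    group
  have heR : ∀ x, e x ∈ R := fun x => by
    show ⁅τ0, l _⁆ ∈ R
    rw [commutatorElement_def]
    exact mul_mem (mul_mem (mul_mem (hTR τ0 t0 hτ0) (hlR _ _ (hl _))) (inv_mem (hTR τ0 t0 hτ0)))
      (inv_mem (hlR _ _ (hl _)))
  have hadd : ∀ x y, ∃ m ∈ M, e x * e y = m * e (x + y) := by
    intro x y
    obtain ⟨u, hu⟩ : ∃ u, u = x / ((b : K) - 1) := ⟨_, rfl⟩
    obtain ⟨v, hv⟩ : ∃ v, v = y / ((b : K) - 1) := ⟨_, rfl⟩
    have ex : e x = ⁅τ0, l u⁆ := by rw [hu]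
    have ey : e y = ⁅τ0, l v⁆ := by rw [hv]
    have exy : e (x + y) = ⁅τ0, l (u + v)⁆ := by rw [hu, hv, ← add_div]
    obtain ⟨m, hm, z, hz, he⟩ := hprod u v
    have hμ : ⁅l u, e y⁆ ∈ M := absorb u y (e y) (hπe y)
    have h1 : ⁅τ0, l u * l v⁆ = e x * ⁅l u, e y⁆ * (e x)⁻¹ * (e x * e y) := by
      rw [ex, ey]; simp only [commutatorElement_def]; group
    have h2 : ⁅τ0, m * l (u + v) * z⁆ = ⁅τ0, m⁆ * (m * (e (x + y) * m⁻¹ * (e (x + y))⁻¹)) * e (x + y) := by
      rw [exy, ← commutatorElement_inv (m * l (u + v) * z) τ0, hcz _ _ hz, commutatorElement_inv]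
      simp only [commutatorElement_def]; group
    rw [he, h2] at h1
    refine ⟨(e x * ⁅l u, e y⁆ * (e x)⁻¹)⁻¹ * (⁅τ0, m⁆ * (m * (e (x + y) * m⁻¹ * (e (x + y))⁻¹))),
      mul_mem (inv_mem (hRn _ (heR x) _ hμ)) (mul_mem (hmc _ (hTR τ0 t0 hτ0) m hm).2
        (mul_mem hm (hRn _ (heR _) _ (inv_mem hm)))), ?_⟩
    rw [mul_assoc _ _ (e (x + y)), h1, inv_mul_cancel_left]
  have he0 : ∀ x, C.π (e x) ∈ N g i → e x ∈ M := by
    intro x hx
    have hgx : g i x ∈ N g i := by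
      have := mul_mem (inv_mem (hπe x)) hx
      rwa [_root_.mul_inv_rev, inv_inv, inv_mul_cancel_right] at this
    obtain ⟨v, hv⟩ : ∃ v, v = x / ((b : K) - 1) := ⟨_, rfl⟩
    have hgv : g i v ∈ N g i := by
      rw [hv, div_eq_inv_mul]
      obtain ⟨τ, hτ⟩ := C.surj (tor t1)
      obtain ⟨k, hk, hke⟩ := hN' hgx
      have e1 : C.π (τ * k * τ⁻¹) = g i ((((b : K) - 1)⁻¹) * x) := by
        rw [map_mul, map_mul, map_inv, hτ, hke, S.conj i hi, ht1']
      rw [← e1, ← hmap]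
      exact ⟨_, htor τ t1 hτ k hk, rfl⟩
    obtain ⟨k, hk, hke⟩ := hN' hgv
    show ⁅τ0, l _⁆ ∈ M
    rw [← hv, C.comm_right τ0 (b' := k) (by rw [hl, hke])]
    exact (hmc _ (hTR τ0 t0 hτ0) k hk).2
  have hform : ∀ k ∈ Subgroup.closure ((M : Set Γ) ∪ Set.range e), ∃ m ∈ M, ∃ x, k = m * e x := by
    intro k hk
    have hone : e 0 ∈ M := he0 0 (by
      have h0 := S.add i hi 0 0
      rw [add_zero, mul_inv_cancel_right] at h0
      have := mul_mem (hπe 0) h0
      rwa [inv_mul_cancel_right] at this)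
    rw [← Subgroup.mem_toSubmonoid, Subgroup.closure_toSubmonoid_of_finite] at hk
    induction hk using Submonoid.closure_induction with
    | mem x hx =>
      rcases hx with hx | ⟨y, rfl⟩
      · exact ⟨x * (e 0)⁻¹, mul_mem hx (inv_mem hone), 0, (inv_mul_cancel_right _ _).symm⟩
      · exact ⟨1, one_mem M, y, (one_mul _).symm⟩
    | one => exact ⟨(e 0)⁻¹, inv_mem hone, 0, (inv_mul_cancel _).symm⟩
    | mul a c _ _ iha ihc =>
      obtain ⟨m, hm, x, rfl⟩ := iha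
      obtain ⟨m', hm', y, rfl⟩ := ihc
      obtain ⟨μ, hμ, he⟩ := hadd x y
      refine ⟨m * (e x * m' * (e x)⁻¹) * μ, mul_mem (mul_mem hm (hRn _ (heR x) m' hm')) hμ, x + y, ?_⟩
      rw [mul_assoc (m * (e x * m' * (e x)⁻¹)) μ, ← he]
      group
  refine ⟨Subgroup.closure ((M : Set Γ) ∪ Set.range e), fun k hk h1 => ?_, le_antisymm ?_ ?_, ?_⟩
  · obtain ⟨m, hm, x, rfl⟩ := hform k hk
    refine hM _ (mul_mem hm (he0 x ?_)) h1
    rw [map_mul] at h1
    rw [← inv_eq_of_mul_eq_one_right h1, ← map_inv, ← hmap]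
    exact ⟨_, inv_mem hm, rfl⟩
  · rw [Subgroup.map_le_iff_le_comap, Subgroup.closure_le]
    rintro k (hk | ⟨x, rfl⟩)
    · exact N_mono (Nat.le_succ i) (hmap ▸ ⟨k, hk, rfl⟩)
    · have := mul_mem (N_mono (Nat.le_succ i) (hπe x)) (N_mem (g := g) (Nat.lt_succ_self i) x)
      rwa [inv_mul_cancel_right] at this
  · refine N_succ_le (fun z hz => ?_) fun x => ?_
    · obtain ⟨k, hk, rfl⟩ := hN' hz
      exact ⟨k, Subgroup.subset_closure (Or.inl hk), rfl⟩
    · obtain ⟨k, hk, hke⟩ := hN' (hπe x)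
      refine ⟨k⁻¹ * e x, mul_mem (inv_mem (Subgroup.subset_closure (Or.inl hk)))
        (Subgroup.subset_closure (Or.inr ⟨x, rfl⟩)), ?_⟩
      rw [map_mul, map_inv, hke]
      group
  · intro a t ha k hk
    induction hk using Subgroup.closure_induction with
    | mem x hx =>
      rcases hx with hx | ⟨y, rfl⟩
      · exact Subgroup.subset_closure (Or.inl (htor a t ha x hx))
      · refine Subgroup.subset_closure (Or.inr ⟨(χ i t : K) * y, ?_⟩)
        refine (C.conj_comm ?_ ?_).symm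
        · rw [map_mul, map_mul, map_inv, ha, hτ0, S.tor_comm, mul_inv_cancel_right]
        · rw [map_mul, map_mul, map_inv, ha, hl, hl, S.conj i hi, mul_div_assoc]
    | one => rw [mul_one, mul_inv_cancel]; exact one_mem _
    | mul x y _ _ ihx ihy =>
      rw [show a * (x * y) * a⁻¹ = a * x * a⁻¹ * (a * y * a⁻¹) by group]
      exact mul_mem ihx ihy
    | inv x _ ih =>
      rw [show a * x⁻¹ * a⁻¹ = (a * x * a⁻¹)⁻¹ by group]
      exact inv_mem ih

include S in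
/-- Commutators of lifts of a filtered unipotent group avoid the kernel. -/
theorem commutator_inf_ker {U : Subgroup G} (hU : U ≤ N g n) : ⁅U.comap C.π, U.comap C.π⁆ ⊓ C.π.ker = ⊥ := by
  have key : ∀ i ≤ n, ∃ M : Subgroup Γ, (∀ k ∈ M, C.π k = 1 → k = 1) ∧ M.map C.π = N g i ∧
      ∀ a t, C.π a = tor t → ∀ k ∈ M, a * k * a⁻¹ ∈ M := by
    intro i
    induction i with
    | zero =>
      intro _
      refine ⟨⊥, fun k hk _ => Subgroup.mem_bot.1 hk, ?_, fun a t _ k hk => ?_⟩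
      · rw [Subgroup.map_bot, eq_comm, eq_bot_iff]
        exact (Subgroup.closure_le _).2 fun _ ⟨l, hl, _⟩ => absurd hl (Nat.not_lt_zero l)
      · rw [Subgroup.mem_bot.1 hk, mul_one, mul_inv_cancel]; exact one_mem _
    | succ i ih =>
      intro hi
      obtain ⟨M, h1, h3, h5⟩ := ih (by omega)
      exact step S (show i < n by omega) h1 h3 h5
  obtain ⟨M, hM, hmap, -⟩ := key n le_rfl
  rw [Subgroup.eq_bot_iff_forall]
  rintro z ⟨hz, hz1⟩
  refine hM z ?_ hz1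
  refine Subgroup.commutator_le.2 (fun a ha b hb => ?_) hz
  obtain ⟨ma, hma, ea⟩ : C.π a ∈ M.map C.π := hmap ▸ hU ha
  obtain ⟨mb, hmb, eb⟩ : C.π b ∈ M.map C.π := hmap ▸ hU hb
  rw [C.comm_indep ea.symm eb.symm, commutatorElement_def]
  exact mul_mem (mul_mem (mul_mem hma hmb) (inv_mem hma)) (inv_mem hmb)

end Cfsg.Agent.Solv.WeightSeriesGen
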