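import Mathlib
import Cfsg.Agent.Lib.Solv.StemSylowLocal

/-!
Central extensions of groups with a split BN-pair by a kernel of order prime to the characteristic: the unique
lifts of p-elements, and triviality of the kernel from the rank one subgroups.
-/

set_option autoImplicit false

open scoped commutatorElement

namespace Cfsg.Agent.Solv.SplitBNStem

variable {Γ G : Type*} [Group Γ] [Group G] (σ : Γ →* G)

/-- The kernel has no element of order p once the commutators over a Sylow subgroup miss it. -/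
theorem not_dvd_card_ker [Finite Γ] [Finite G] (hσ : Cfsg.IsStemExtension σ) {p : ℕ} [hp : Fact p.Prime]
    (U : Subgroup G) (hU : IsPGroup p U) (hidx : ¬ p ∣ U.index)
    (h : ⁅U.comap σ, U.comap σ⁆ ⊓ σ.ker = ⊥) : ¬ p ∣ Nat.card σ.ker := by
  intro hdvd
  obtain ⟨hs, hc, hd⟩ := hσ
  obtain ⟨z, hz⟩ := exists_prime_orderOf_dvd_card' p hdvd
  have hzo : orderOf (z : Γ) = p := by rwa [Subgroup.orderOf_coe]
  have hzc : ∀ g : Γ, g * z = z * g := Subgroup.mem_center_iff.1 (hc z.2)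
  obtain ⟨P⟩ := (inferInstance : Nonempty (Sylow p Γ))
  have ht := MonoidHom.transfer_eq_pow (Abelianization.of (G := (P : Subgroup Γ))) (z : Γ) (fun k g _ => by
    rw [mul_assoc, ← (Commute.pow_right (show Commute g (z : Γ) from hzc g) k).eq, inv_mul_cancel_left])
  have hker : (z : Γ) ∈ (MonoidHom.transfer (Abelianization.of (G := (P : Subgroup Γ)))).ker :=
    Abelianization.commutator_subset_ker _ (hd z.2)
  rw [MonoidHom.mem_ker, ht] at hker
  have hmem := (QuotientGroup.eq_one_iff _).mp hker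
  obtain ⟨γ, hγ⟩ := StemLocal.image_conj σ hs hc P U hU hidx
  have hle : (commutator (P : Subgroup Γ)).map ((MulAut.conj γ).toMonoidHom.comp (P : Subgroup Γ).subtype) ≤
      ⁅U.comap σ, U.comap σ⁆ := by
    rw [commutator_def, Subgroup.map_commutator]
    have : ((⊤ : Subgroup (P : Subgroup Γ)).map ((MulAut.conj γ).toMonoidHom.comp (P : Subgroup Γ).subtype)) ≤
        U.comap σ := by
      rintro _ ⟨x, -, rfl⟩
      exact hγ x x.2
    exact Subgroup.commutator_mono this this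
  have h1 : γ * (z : Γ) ^ (P : Subgroup Γ).index * γ⁻¹ ∈ ⁅U.comap σ, U.comap σ⁆ ⊓ σ.ker := by
    refine ⟨?_, ?_⟩
    · exact hle ⟨_, hmem, rfl⟩
    · show σ _ = 1
      rw [map_mul, map_mul, map_pow, show σ (z : Γ) = 1 from z.2, one_pow,
        mul_one, ← map_mul, mul_inv_cancel, map_one]
  rw [h, Subgroup.mem_bot, conj_eq_one_iff] at h1
  have := orderOf_dvd_of_pow_eq_one h1
  rw [hzo] at this
  exact P.not_dvd_index this

section Lifts

variable {p : ℕ} [hp : Fact p.Prime]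

/-- An element of p-power order. -/
def IsP (p : ℕ) {H : Type*} [Monoid H] (g : H) : Prop := ∃ n : ℕ, g ^ p ^ n = 1

theorem IsP.conj {H : Type*} [Group H] {g : H} (h : IsP p g) (a : H) : IsP p (a * g * a⁻¹) := by
  obtain ⟨n, hn⟩ := h
  exact ⟨n, by rw [conj_pow, hn, mul_one, mul_inv_cancel]⟩

theorem isP_of_isPGroup {H : Type*} [Group H] {U : Subgroup H} (hU : IsPGroup p U) {g : H} (hg : g ∈ U) :
    IsP p g := by
  obtain ⟨n, hn⟩ := hU ⟨g, hg⟩
  exact ⟨n, congrArg Subtype.val hn⟩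

variable [Finite Γ] (hs : Function.Surjective σ) (hc : σ.ker ≤ Subgroup.center Γ)
  (hp' : ¬ p ∣ Nat.card σ.ker)

include hc hp' in
theorem lift_unique {a b : Γ} (he : σ a = σ b) (ha : IsP p a) (hb : IsP p b) : a = b := by
  obtain ⟨m, hm⟩ := ha
  obtain ⟨n, hn⟩ := hb
  have hm' : a ^ p ^ (m + n) = 1 := by rw [pow_add, pow_mul, hm, one_pow]
  have hn' : b ^ p ^ (m + n) = 1 := by rw [pow_add, mul_comm, pow_mul, hn, one_pow]
  have hz : b⁻¹ * a ∈ σ.ker := by rw [MonoidHom.mem_ker, map_mul, map_inv, he, inv_mul_cancel]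
  have hcm : Commute b (b⁻¹ * a) := Subgroup.mem_center_iff.1 (hc hz) b
  have h1 := hcm.mul_pow (p ^ (m + n))
  rw [mul_inv_cancel_left, hm', hn', one_mul] at h1
  have h2 : orderOf (b⁻¹ * a) ∣ Nat.card σ.ker := Subgroup.orderOf_coe (⟨_, hz⟩ : σ.ker) ▸ orderOf_dvd_natCard _
  have h3 := orderOf_dvd_of_pow_eq_one h1.symm
  have h4 : orderOf (b⁻¹ * a) = 1 :=
    Nat.eq_one_of_dvd_coprimes ((hp.out.coprime_iff_not_dvd.2 hp').pow_left _) h3 h2
  exact (inv_mul_eq_one.1 (orderOf_eq_one_iff.1 h4)).symm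

include hs hc hp' in
theorem lift_exists {g : G} (hg : IsP p g) : ∃ a : Γ, σ a = g ∧ IsP p a := by
  obtain ⟨n, hn⟩ := hg
  obtain ⟨y, rfl⟩ := hs g
  have hz : y ^ p ^ n ∈ σ.ker := by rw [MonoidHom.mem_ker, map_pow, hn]
  haveI : Finite σ.ker := inferInstance
  obtain ⟨w, hw⟩ := (powCoprime (G := σ.ker) (n := p ^ n)
    ((hp.out.coprime_iff_not_dvd.2 hp').pow_left n).symm).surjective ⟨_, hz⟩
  have hw' : (w : Γ) ^ p ^ n = y ^ p ^ n := congrArg Subtype.val hw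
  refine ⟨y * (w : Γ)⁻¹, by rw [map_mul, map_inv, show σ (w : Γ) = 1 from w.2, inv_one, mul_one], n, ?_⟩
  have hcm : Commute y (w : Γ) := Subgroup.mem_center_iff.1 (hc w.2) y
  rw [hcm.inv_right.mul_pow, inv_pow, hw', mul_inv_cancel]

include hs hc hp' in
/-- The lifts of the elements of a p-subgroup form a subgroup. -/
theorem exists_section (U : Subgroup G) (hU : IsPGroup p U) :
    ∃ s : U →* Γ, ∀ u : U, σ (s u) = u ∧ IsP p (s u) := by
  obtain ⟨P⟩ := (inferInstance : Nonempty (Sylow p (U.comap σ : Subgroup Γ)))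
  let f : (U.comap σ : Subgroup Γ) →* U :=
    MonoidHom.mk' (fun a => (⟨σ a, a.2⟩ : U)) fun a b => Subtype.ext (map_mul σ (a : Γ) b)
  have hfs : Function.Surjective f := fun u => by
    obtain ⟨a, ha⟩ := hs u
    exact ⟨⟨a, by rw [Subgroup.mem_comap, ha]; exact u.2⟩, Subtype.ext ha⟩
  have hfc : f.ker ≤ Subgroup.center _ := fun a ha => Subgroup.mem_center_iff.2 fun b =>
    Subtype.ext (Subgroup.mem_center_iff.1 (hc (congrArg Subtype.val (MonoidHom.mem_ker.1 ha))) b)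
  haveI : Finite U := Finite.of_surjective f hfs
  haveI : Group.IsNilpotent U := hU.isNilpotent
  haveI hnil : Group.IsNilpotent (U.comap σ : Subgroup Γ) :=
    Subgroup.isNilpotent_of_ker_le_center f hfc
  haveI : (P : Subgroup (U.comap σ : Subgroup Γ)).Normal :=
    Sylow.normal_of_normalizerCondition Group.normalizerCondition_of_isNilpotent P
  have hin : ∀ a : (U.comap σ : Subgroup Γ), IsP p (a : Γ) → a ∈ (P : Subgroup (U.comap σ : Subgroup Γ)) := by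
    rintro a ⟨n, hn⟩
    haveI : Unique (Sylow p (U.comap σ : Subgroup Γ)) := Sylow.unique_of_normal P inferInstance
    have hz : IsPGroup p (Subgroup.zpowers a) :=
      IsPGroup.of_card_dvd_pow (n := n) (Nat.card_zpowers a ▸ orderOf_dvd_of_pow_eq_one (Subtype.ext hn))
    obtain ⟨P', hP'⟩ := hz.exists_le_sylow
    rw [Subsingleton.elim P P']
    exact hP' (Subgroup.mem_zpowers a)
  have hout : ∀ a ∈ (P : Subgroup (U.comap σ : Subgroup Γ)), IsP p (a : Γ) := fun a ha => by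
    obtain ⟨n, hn⟩ := P.isPGroup' ⟨a, ha⟩
    exact ⟨n, congrArg (fun x : (P : Subgroup (U.comap σ : Subgroup Γ)) => ((x : (U.comap σ : Subgroup Γ)) : Γ)) hn⟩
  have hex : ∀ u : U, ∃ a : Γ, σ a = u ∧ IsP p a := fun u =>
    lift_exists σ hs hc hp' (isP_of_isPGroup hU u.2)
  choose s hsσ hsp using hex
  refine ⟨MonoidHom.mk' s fun u v => ?_, fun u => ⟨hsσ u, hsp u⟩⟩
  have hmem : ∀ u : U, s u ∈ U.comap σ := fun u => by rw [Subgroup.mem_comap, hsσ]; exact u.2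
  refine lift_unique σ hc hp' (by rw [map_mul, hsσ, hsσ, hsσ, Subgroup.coe_mul]) (hsp _) ?_
  exact hout (⟨s u, hmem u⟩ * ⟨s v, hmem v⟩) (mul_mem (hin _ (hsp u)) (hin _ (hsp v)))

end Lifts

/-- A rank two or higher split BN-pair, lifted: what is needed for the kernel to be trivial. -/
structure Data {ι : Type*} (U : Subgroup G) (s : U →* Γ) (Ht Nt : Subgroup Γ) (n : ι → Γ)
    (X : ι → Subgroup G) : Prop where
  σs : ∀ u : U, σ (s u) = u
  conj_s : ∀ (g : Γ) (u v : U), σ g * u * (σ g)⁻¹ = v → g * s u * g⁻¹ = s v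
  X_le : ∀ i, X i ≤ U
  n_mem : ∀ i, n i ∈ Nt
  H_le : Ht ≤ Nt
  H_norm : ∀ g ∈ Ht, ∀ u ∈ U, σ g * u * (σ g)⁻¹ ∈ U
  split : ∀ i, ∀ u ∈ U, ∃ u' ∈ U, ∃ x ∈ X i, u = u' * x ∧ σ (n i) * u' * (σ (n i))⁻¹ ∈ U
  side : ∀ i, ∀ g ∈ Nt, (∀ x ∈ X i, (σ g)⁻¹ * x * σ g ∈ U) ∨
    ∀ x ∈ X i, (σ (n i) * σ g)⁻¹ * x * (σ (n i) * σ g) ∈ U
  rank_one : ∀ i, ∀ x : U, (x : G) ∈ X i → x ≠ 1 → ∃ x1 x2 : U, ∃ h ∈ Ht,
    (x2 : G) ∈ X i ∧ n i * s x * (n i)⁻¹ = s x1 * h * n i * s x2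
  disj : ∀ g ∈ Nt, σ g ∈ U → g = 1
  gen : Subgroup.closure ((U : Set G) ∪ σ '' Nt) = ⊤
  Nt_gen : Nt ≤ Subgroup.closure (Set.range n ∪ Ht)

theorem Data.ker_eq_bot [Finite Γ] {ι : Type*} {U : Subgroup G} {s : U →* Γ} {Ht Nt : Subgroup Γ}
    {n : ι → Γ} {X : ι → Subgroup G} (D : Data σ U s Ht Nt n X)
    (hc : σ.ker ≤ Subgroup.center Γ) (hd : σ.ker ≤ commutator Γ) : σ.ker = ⊥ := by
  let M : Set Γ := {g | ∃ u : U, ∃ a ∈ Nt, ∃ v : U, g = s u * a * s v}
  have hM1 : (1 : Γ) ∈ M := ⟨1, 1, one_mem _, 1, by simp⟩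
  have hMs : ∀ (w : U), ∀ g ∈ M, s w * g ∈ M := by
    rintro w g ⟨u, a, ha, v, rfl⟩
    exact ⟨w * u, a, ha, v, by rw [map_mul]; group⟩
  have hMh : ∀ h ∈ Ht, ∀ g ∈ M, h * g ∈ M := by
    rintro h hh g ⟨u, a, ha, v, rfl⟩
    refine ⟨⟨_, D.H_norm h hh u u.2⟩, h * a, mul_mem (D.H_le hh) ha, v, ?_⟩
    rw [← D.conj_s h u ⟨_, D.H_norm h hh u u.2⟩ rfl]
    group
  have hMn : ∀ i, ∀ g ∈ M, n i * g ∈ M := by
    rintro i g ⟨u, a, ha, v, rfl⟩
    obtain ⟨u', hu', x, hx, hux, hn⟩ := D.split i u u.2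
    have hxU := D.X_le i hx
    have hu : u = (⟨u', hu'⟩ : U) * ⟨x, hxU⟩ := Subtype.ext hux
    have e0 := D.conj_s (n i) ⟨u', hu'⟩ ⟨_, hn⟩ rfl
    have key : ∀ g' ∈ M, n i * s ⟨u', hu'⟩ * (n i)⁻¹ * g' ∈ M := fun g' hg' => by
      rw [e0]; exact hMs _ _ hg'
    rw [show n i * (s u * a * s v) = n i * s ⟨u', hu'⟩ * (n i)⁻¹ * (n i * s ⟨x, hxU⟩ * a * s v) by
      rw [hu, map_mul]; group]
    refine key _ ?_
    by_cases hx1 : x = 1
    · refine ⟨1, n i * a, mul_mem (D.n_mem i) ha, v, ?_⟩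
      rw [show (⟨x, hxU⟩ : U) = 1 from Subtype.ext hx1, map_one]
      group
    rcases D.side i a ha with hA | hB
    · refine ⟨1, n i * a, mul_mem (D.n_mem i) ha, ⟨_, hA x hx⟩ * v, ?_⟩
      have e := D.conj_s a⁻¹ ⟨x, hxU⟩ ⟨_, hA x hx⟩ (by simp)
      rw [map_mul, ← e, map_one]
      group
    · obtain ⟨x1, x2, h, hh, hx2, e1⟩ := D.rank_one i ⟨x, hxU⟩ hx fun e => hx1 (congrArg Subtype.val e)
      refine ⟨x1, h * n i * (n i * a), mul_mem (mul_mem (D.H_le hh) (D.n_mem i)) (mul_mem (D.n_mem i) ha),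
        ⟨_, hB x2 hx2⟩ * v, ?_⟩
      have e := D.conj_s (n i * a)⁻¹ x2 ⟨_, hB x2 hx2⟩ (by simp)
      rw [map_mul, ← e]
      calc n i * s ⟨x, hxU⟩ * a * s v = (n i * s ⟨x, hxU⟩ * (n i)⁻¹) * (n i * a) * s v := by group
        _ = _ := by rw [e1]; group
  obtain ⟨L, hL⟩ : ∃ L, L = Subgroup.closure (Set.range s ∪ (Set.range n ∪ (Ht : Set Γ))) := ⟨_, rfl⟩
  have hLM : ∀ g ∈ L, g ∈ M := by
    intro g hg
    rw [hL] at hg
    suffices ∀ m ∈ M, g * m ∈ M by simpa using this 1 hM1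
    rw [← Subgroup.mem_toSubmonoid, Subgroup.closure_toSubmonoid_of_finite] at hg
    induction hg using Submonoid.closure_induction with
    | mem x hx =>
      intro m hm
      rcases hx with ⟨w, rfl⟩ | ⟨i, rfl⟩ | hx
      · exact hMs w m hm
      · exact hMn i m hm
      · exact hMh x hx m hm
    | one => intro m hm; rwa [one_mul]
    | mul a b _ _ iha ihb => intro m hm; rw [mul_assoc]; exact iha _ (ihb m hm)
  have hNL : Nt ≤ L := hL ▸ D.Nt_gen.trans (Subgroup.closure_mono Set.subset_union_right)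
  have hσL : L.map σ = ⊤ := by
    refine top_le_iff.1 (D.gen ▸ (Subgroup.closure_le _).2 ?_)
    rintro g (hg | ⟨a, ha, rfl⟩)
    · exact ⟨s ⟨g, hg⟩, hL ▸ Subgroup.subset_closure (Or.inl ⟨_, rfl⟩), D.σs _⟩
    · exact ⟨a, hNL ha, rfl⟩
  have hΓ : ∀ g : Γ, g ∈ L := by
    have hdec : ∀ g : Γ, ∃ l ∈ L, ∃ z ∈ σ.ker, g = l * z := fun g => by
      obtain ⟨l, hl, he⟩ : σ g ∈ L.map σ := hσL ▸ Subgroup.mem_top _
      exact ⟨l, hl, l⁻¹ * g, by rw [MonoidHom.mem_ker, map_mul, map_inv, he, inv_mul_cancel], by group⟩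
    have hcL : commutator Γ ≤ L := by
      rw [commutator_def, Subgroup.commutator_le]
      intro a _ b _
      obtain ⟨la, hla, za, hza, rfl⟩ := hdec a
      obtain ⟨lb, hlb, zb, hzb, rfl⟩ := hdec b
      have ca : ∀ g : Γ, g * za = za * g := Subgroup.mem_center_iff.1 (hc hza)
      have cb : ∀ g : Γ, g * zb = zb * g := Subgroup.mem_center_iff.1 (hc hzb)
      rw [show ⁅la * za, lb * zb⁆ = ⁅la, lb⁆ by
        rw [commutatorElement_def, commutatorElement_def, _root_.mul_inv_rev, _root_.mul_inv_rev,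
          mul_assoc la za (lb * zb), ← ca (lb * zb), show la * (lb * zb * za) * (za⁻¹ * la⁻¹) * (zb⁻¹ * lb⁻¹) =
            la * lb * (zb * la⁻¹) * (zb⁻¹ * lb⁻¹) by group, ← cb la⁻¹]
        group]
      exact mul_mem (mul_mem (mul_mem hla hlb) (inv_mem hla)) (inv_mem hlb)
    intro g
    obtain ⟨l, hl, z, hz, rfl⟩ := hdec g
    exact mul_mem hl (hcL (hd hz))
  rw [Subgroup.eq_bot_iff_forall]
  intro z hz
  obtain ⟨u, a, ha, v, rfl⟩ := hLM z (hΓ z)
  have hz' : (u : G) * σ a * v = 1 := by rw [MonoidHom.mem_ker, map_mul, map_mul, D.σs, D.σs] at hz; exact hz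
  have ha' : σ a = (u : G)⁻¹ * (v : G)⁻¹ := by
    rw [eq_inv_mul_iff_mul_eq, eq_inv_iff_mul_eq_one]; exact hz'
  have := D.disj a ha (ha' ▸ mul_mem (inv_mem u.2) (inv_mem v.2))
  subst this
  rw [mul_one, ← map_mul, show u * v = 1 from Subtype.ext (by simpa using hz'), map_one]

end Cfsg.Agent.Solv.SplitBNStem
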