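import Cfsg.Agent.Lib.Small.SuzukiMult
import Cfsg.Agent.Lib.Small.SchurLifts

/-!
Lifting a unipotent group filtered by weight spaces of an abelian group through a central extension: when no two
weight spaces admit an invariant pairing, the commutators of the lifts avoid the kernel.
-/

set_option autoImplicit false
set_option linter.unusedSectionVars false

namespace Cfsg.Agent.Solv.WeightSeries

open scoped commutatorElement IsMulCommutative
open Cfsg.Agent.Small.SchurLifts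
open Cfsg.Agent.Small.Ree.MultUnip (Biadd)

variable {Γ G : Type*} [Group Γ] [Group G] (C : Central Γ G)

section Part

variable (M : Subgroup Γ)

open scoped _root_.Classical in
/-- The central part of an element relative to a subgroup missing the kernel. -/
noncomputable def part (g : Γ) : ↥(Subgroup.center Γ) :=
  if h : ∃ k ∈ M, C.π g = C.π k then
    ⟨g * h.choose⁻¹, C.central (by
      rw [MonoidHom.mem_ker, map_mul, map_inv, ← h.choose_spec.2, mul_inv_cancel])⟩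
  else 1

variable {M} (hM : ∀ k ∈ M, C.π k = 1 → k = 1)

include hM in
theorem part_eq {g k : Γ} (hk : k ∈ M) (he : C.π g = C.π k) : (part C M g : Γ) = g * k⁻¹ := by
  have h : ∃ k ∈ M, C.π g = C.π k := ⟨k, hk, he⟩
  rw [part, dif_pos h]
  have := hM _ (mul_mem (inv_mem h.choose_spec.1) hk)
    (by rw [map_mul, map_inv, ← h.choose_spec.2, ← he, inv_mul_cancel])
  rw [inv_mul_eq_one] at this
  show g * h.choose⁻¹ = g * k⁻¹
  rw [this]

include hM in
theorem part_mem {g : Γ} (hg : C.π g ∈ M.map C.π) (h : part C M g = 1) : g ∈ M := by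
  obtain ⟨k, hk, he⟩ := hg
  have := part_eq C hM hk he.symm
  rw [h] at this
  exact mul_inv_eq_one.1 this.symm ▸ hk

include hM in
theorem part_one {g : Γ} (hg : g ∈ M) : part C M g = 1 :=
  Subtype.ext ((part_eq C hM hg rfl).trans (mul_inv_cancel g))

include hM in
theorem part_conj {a g : Γ} (ha : ∀ k ∈ M, a * k * a⁻¹ ∈ M) (hg : C.π g ∈ M.map C.π) :
    part C M (a * g * a⁻¹) = part C M g := by
  obtain ⟨k, hk, he⟩ := hg
  refine Subtype.ext ?_
  rw [part_eq C hM hk he.symm, part_eq C hM (ha k hk) (by simp [he])]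
  rw [show a * g * a⁻¹ * (a * k * a⁻¹)⁻¹ = a * (g * k⁻¹) * a⁻¹ by group,
    Subgroup.mem_center_iff.1 (C.central
      (by rw [MonoidHom.mem_ker, map_mul, map_inv, he, mul_inv_cancel] : g * k⁻¹ ∈ C.π.ker)) a,
    mul_inv_cancel_right]

include hM in
theorem part_mul {g g' : Γ} (hg : C.π g ∈ M.map C.π) (hg' : C.π g' ∈ M.map C.π) :
    part C M (g * g') = part C M g * part C M g' := by
  obtain ⟨k, hk, he⟩ := hg
  obtain ⟨k', hk', he'⟩ := hg'
  refine Subtype.ext ?_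
  rw [Subgroup.coe_mul, part_eq C hM hk he.symm, part_eq C hM hk' he'.symm,
    part_eq C hM (mul_mem hk hk') (by simp [he, he'])]
  have hz := Subgroup.mem_center_iff.1 (C.central
      (by rw [MonoidHom.mem_ker, map_mul, map_inv, he', mul_inv_cancel] : g' * k'⁻¹ ∈ C.π.ker))
  rw [show g * g' * (k * k')⁻¹ = g * (g' * k'⁻¹) * k⁻¹ by group, mul_assoc g (g' * k'⁻¹) k⁻¹, ← hz k⁻¹,
    mul_assoc g k⁻¹]

end Part

variable {K : Type*} [Field K] {T : Type*}

/-- The subgroup generated by the first weight spaces. -/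
def N (g : ℕ → K → G) (i : ℕ) : Subgroup G := Subgroup.closure {z | ∃ j < i, ∃ x, z = g j x}

/-- A filtration by weight spaces. -/
structure Series (g : ℕ → K → G) (tor : T → G) (χ : ℕ → T → Kˣ) (n : ℕ) : Prop where
  tor_comm : ∀ s t, tor s * tor t = tor t * tor s
  conj : ∀ i < n, ∀ t x, tor t * g i x * (tor t)⁻¹ = g i ((χ i t : K) * x)
  add : ∀ i < n, ∀ x y, g i x * g i y * (g i (x + y))⁻¹ ∈ N g i
  comm : ∀ i < n, ∀ j < i, ∀ x y, g i x * g j y * (g i x)⁻¹ * (g j y)⁻¹ ∈ N g i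
  pairs : ∀ i < n, ∀ j < i, (∃ t, χ i t = 1 ∧ χ j t ≠ 1) ∨
    ∀ a b x y, C.π a = g i x → C.π b = g j y → Commute a b
  onto : ∀ i < n, ∀ c : Kˣ, ∃ t, χ i t = c

variable {C} {g : ℕ → K → G} {tor : T → G} {χ : ℕ → T → Kˣ} {n : ℕ}

theorem N_mem {i j : ℕ} (h : j < i) (x : K) : g j x ∈ N g i := Subgroup.subset_closure ⟨j, h, x, rfl⟩

theorem N_mono {i j : ℕ} (h : i ≤ j) : N g i ≤ N g j :=
  Subgroup.closure_mono fun _ ⟨k, hk, x, hx⟩ => ⟨k, hk.trans_le h, x, hx⟩

theorem N_succ_le {i : ℕ} {H : Subgroup G} (h1 : N g i ≤ H) (h2 : ∀ x, g i x ∈ H) : N g (i + 1) ≤ H := by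
  refine (Subgroup.closure_le _).2 ?_
  rintro _ ⟨j, hj, x, rfl⟩
  rcases Nat.lt_succ_iff_lt_or_eq.1 hj with h | rfl
  exacts [h1 (N_mem h x), h2 x]

variable [Fintype K] [Finite Γ] (S : Series C g tor χ n) (h2 : (2 : K) = 0) (h4 : 4 < Fintype.card K)

include S in
/-- Lifted weight spaces normalise a stable complement below them. -/
theorem normalise {i : ℕ} (hi : i < n) {M : Subgroup Γ} (hM : ∀ k ∈ M, C.π k = 1 → k = 1)
    (hmap : M.map C.π = N g i) (htor : ∀ a t, C.π a = tor t → ∀ k ∈ M, a * k * a⁻¹ ∈ M)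
    {a : Γ} {x : K} (ha : C.π a = g i x) : ∀ k ∈ M, a * k * a⁻¹ ∈ M := by
  obtain ⟨A, hA⟩ : ∃ A : Subgroup Γ, A = M ⊓ M.comap (MulAut.conj a).toMonoidHom := ⟨_, rfl⟩
  have hmem : ∀ k, k ∈ A ↔ k ∈ M ∧ a * k * a⁻¹ ∈ M := fun k => by rw [hA]; rfl
  suffices hall : ∀ j ≤ i, ∀ k ∈ M, C.π k ∈ N g j → k ∈ A from fun k hk =>
    ((hmem k).1 (hall i le_rfl k hk (hmap ▸ ⟨k, hk, rfl⟩))).2
  intro j
  induction j with
  | zero =>
    intro _ k hk hkN
    have h0 : N g 0 ≤ (⊥ : Subgroup G) := (Subgroup.closure_le _).2 fun _ ⟨l, hl, _⟩ => absurd hl (Nat.not_lt_zero l)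
    rw [hM k hk (Subgroup.mem_bot.1 (h0 hkN))]
    exact one_mem _
  | succ j ih =>
    intro hj k hk hkN
    have ih := ih (by omega)
    have hle : N g j ≤ A.map C.π := fun z hz => by
      obtain ⟨k', hk', rfl⟩ : z ∈ M.map C.π := hmap ▸ N_mono (by omega) hz
      exact ⟨k', ih k' hk' hz, rfl⟩
    have hgen : ∀ y, g j y ∈ A.map C.π := by
      intro y
      have hlift : ∀ y, ∃ k ∈ M, C.π k = g j y := fun y => by
        have := N_mem (g := g) (show j < i by omega) y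
        rw [← hmap] at this
        exact this
      rcases S.pairs i hi j (by omega) with ⟨t, hti, htj⟩ | hspec
      · obtain ⟨τ, hτ⟩ := C.surj (tor t)
        have hb : ((χ j t : Kˣ) : K) - 1 ≠ 0 := sub_ne_zero.2 fun h => htj (Units.ext h)
        obtain ⟨v, hv⟩ : ∃ v, v = y / ((χ j t : K) - 1) := ⟨_, rfl⟩
        obtain ⟨k1, hk1, he1⟩ := hlift v
        obtain ⟨k2, hk2, he2⟩ : ∃ k2 ∈ M, k2 = τ * k1 * τ⁻¹ := ⟨_, htor τ t hτ k1 hk1, rfl⟩
        have hk21 : k2 * k1⁻¹ ∈ A := by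
          refine (hmem _).2 ⟨mul_mem hk2 (inv_mem hk1), ?_⟩
          obtain ⟨m1, hm1, hem⟩ : ∃ m1 ∈ M, C.π m1 = C.π (a * k1 * a⁻¹) := by
            have h3 : C.π (a * k1 * a⁻¹) ∈ N g i := by
              have h := mul_mem (S.comm i hi j (by omega) x v) (N_mem (g := g) (show j < i by omega) v)
              rw [inv_mul_cancel_right] at h
              rw [map_mul, map_mul, map_inv, ha, he1]
              exact h
            rw [← hmap] at h3
            exact h3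
          obtain ⟨z, hzc, hz⟩ : ∃ z ∈ Subgroup.center Γ, a * k1 * a⁻¹ = z * m1 :=
            ⟨a * k1 * a⁻¹ * m1⁻¹, C.central (by rw [MonoidHom.mem_ker, map_mul, map_inv, hem, mul_inv_cancel]),
              (inv_mul_cancel_right _ _).symm⟩
          obtain ⟨w, hwc, hw⟩ : ∃ w ∈ Subgroup.center Γ, τ * a * τ⁻¹ = a * w :=
            ⟨a⁻¹ * (τ * a * τ⁻¹), C.central (by
              rw [MonoidHom.mem_ker, map_mul, map_mul, map_mul, map_inv, map_inv, hτ, ha, S.conj i hi, hti,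
                Units.val_one, one_mul, inv_mul_cancel]), (mul_inv_cancel_left _ _).symm⟩
          have hc : ∀ z ∈ Subgroup.center Γ, ∀ u, u * z = z * u := fun z hz u => Subgroup.mem_center_iff.1 hz u
          have h5 : a * k2 * a⁻¹ = z * (τ * m1 * τ⁻¹) :=
            calc a * k2 * a⁻¹ = a * k2 * (w * w⁻¹) * a⁻¹ := by rw [mul_inv_cancel, mul_one]
              _ = (a * w) * k2 * (a * w)⁻¹ := by
                rw [← mul_assoc (a * k2) w, mul_assoc a k2 w, hc w hwc k2]; group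
              _ = τ * (a * k1 * a⁻¹) * τ⁻¹ := by rw [← hw, he2]; group
              _ = z * (τ * m1 * τ⁻¹) := by rw [hz, ← mul_assoc, hc z hzc τ]; group
          have h6 : a * (k2 * k1⁻¹) * a⁻¹ = τ * m1 * τ⁻¹ * m1⁻¹ := by
            rw [show a * (k2 * k1⁻¹) * a⁻¹ = a * k2 * a⁻¹ * (a * k1 * a⁻¹)⁻¹ by group, h5, hz, _root_.mul_inv_rev,
              ← mul_assoc, mul_assoc z, ← hc z hzc, mul_inv_cancel_right]
          rw [h6]
          exact mul_mem (htor τ t hτ m1 hm1) (inv_mem hm1)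
        have e := S.add j (by omega) y v
        have hyv : y + v = (χ j t : K) * v := by rw [hv]; field_simp; ring
        rw [hyv] at e
        have hk21' : C.π (k2 * k1⁻¹) = g j ((χ j t : K) * v) * (g j v)⁻¹ := by
          rw [he2, map_mul, map_mul, map_mul, map_inv, map_inv, hτ, he1, S.conj j (by omega)]
        have : g j y = (g j y * g j v * (g j ((χ j t : K) * v))⁻¹) * C.π (k2 * k1⁻¹) := by rw [hk21']; group
        rw [this]
        exact mul_mem (hle e) ⟨_, hk21, rfl⟩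
      · obtain ⟨k, hk, he⟩ := hlift y
        exact ⟨k, (hmem k).2 ⟨hk, by rw [(hspec a k x y ha he).eq, mul_inv_cancel_right]; exact hk⟩, he⟩
    obtain ⟨k', hk', he⟩ := N_succ_le hle hgen hkN
    have := hM _ (mul_mem (inv_mem ((hmem k').1 hk').1) hk) (by rw [map_mul, map_inv, he, inv_mul_cancel])
    rw [← inv_mul_eq_one.1 this]
    exact hk'

include S h2 h4 in
/-- The next weight space lifts. -/
theorem step {i : ℕ} (hi : i < n) {M : Subgroup Γ} (hM : ∀ k ∈ M, C.π k = 1 → k = 1)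
    (hmap : M.map C.π = N g i) (htor : ∀ a t, C.π a = tor t → ∀ k ∈ M, a * k * a⁻¹ ∈ M) :
    ∃ M' : Subgroup Γ, (∀ k ∈ M', C.π k = 1 → k = 1) ∧ M'.map C.π = N g (i + 1) ∧
      ∀ a t, C.π a = tor t → ∀ k ∈ M', a * k * a⁻¹ ∈ M' := by
  obtain ⟨l, hl⟩ : ∃ l : K → Γ, ∀ x, C.π (l x) = g i x := ⟨fun x => C.L (g i x), fun x => C.π_L _⟩
  obtain ⟨R, hR⟩ : ∃ R : Subgroup Γ, R = Subgroup.normalizer (M : Set Γ) := ⟨_, rfl⟩
  have hlR : ∀ a x, C.π a = g i x → a ∈ R := fun a x ha =>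
    hR ▸ Subgroup.mem_normalizer_fintype (normalise S hi hM hmap htor ha)
  have hTR : ∀ a t, C.π a = tor t → a ∈ R := fun a t ha =>
    hR ▸ Subgroup.mem_normalizer_fintype (htor a t ha)
  have hMR : M ≤ R := hR ▸ Subgroup.le_normalizer
  have hcR : ∀ z ∈ Subgroup.center Γ, z ∈ R := fun z hz =>
    hR ▸ Subgroup.center_le_normalizer _ hz
  have hRn : ∀ a ∈ R, ∀ k ∈ M, a * k * a⁻¹ ∈ M := fun a ha k hk => by
    rw [hR] at ha; exact (Subgroup.mem_normalizer_iff.1 ha k).1 hk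
  have hN' : ∀ {z}, z ∈ N g i → z ∈ M.map C.π := fun {z} hz => hmap.symm ▸ hz
  -- products of two lifts
  have hprod : ∀ x y, ∃ m ∈ M, ∃ z ∈ Subgroup.center Γ, l x * l y = m * l (x + y) * z := by
    intro x y
    obtain ⟨m, hm, he⟩ := hN' (S.add i hi x y)
    refine ⟨m, hm, (m * l (x + y))⁻¹ * (l x * l y), C.central ?_, (mul_inv_cancel_left _ _).symm⟩
    rw [MonoidHom.mem_ker, map_mul, map_inv, map_mul, map_mul, he, hl, hl, hl, inv_mul_cancel_right, inv_mul_cancel]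
  have hcN : ∀ x y, C.π ⁅l x, l y⁆ ∈ M.map C.π := by
    intro x y
    refine hN' ?_
    rw [map_commutatorElement, hl, hl, commutatorElement_def]
    have := mul_mem (S.add i hi x y) (inv_mem (S.add i hi y x))
    rw [add_comm y x] at this
    convert this using 1
    group
  -- expansions of commutators
  have hcen : ∀ z ∈ Subgroup.center Γ, ∀ u : Γ, u * z = z * u := fun z hz u => Subgroup.mem_center_iff.1 hz u
  have hmc : ∀ b ∈ R, ∀ m ∈ M, ⁅m, b⁆ ∈ M ∧ ⁅b, m⁆ ∈ M := fun b hb m hm => by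
    refine ⟨?_, ?_⟩ <;> rw [commutatorElement_def]
    · rw [show m * b * m⁻¹ * b⁻¹ = m * (b * m⁻¹ * b⁻¹) by group]; exact mul_mem hm (hRn b hb _ (inv_mem hm))
    · exact mul_mem (hRn b hb m hm) (inv_mem hm)
  have hcz : ∀ u v : Γ, ∀ {z}, z ∈ Subgroup.center Γ → ⁅u * z, v⁆ = ⁅u, v⁆ := fun u v {z} hz => by
    rw [commutatorElement_def, commutatorElement_def, mul_assoc u z v, ← hcen z hz v]; group
  have hMm : ∀ {u}, u ∈ M → C.π u ∈ M.map C.π := fun {u} hu => ⟨u, hu, rfl⟩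
  have c1 : ∀ {a u}, a ∈ R → C.π u ∈ M.map C.π → C.π (a * u * a⁻¹) ∈ M.map C.π := fun {a u} ha hu => by
    obtain ⟨k, hk, he⟩ := hu
    exact ⟨a * k * a⁻¹, hRn a ha k hk, by simp [he]⟩
  let F : K → K → ↥(Subgroup.center Γ) := fun x y => part C M ⁅l x, l y⁆
  have hFl : ∀ x y c, F (x + y) c = F x c * F y c := by
    intro x y c
    obtain ⟨m, hm, z, hz, e⟩ := hprod x y
    have e1 : ⁅l x * l y, l c⁆ = l x * ⁅l y, l c⁆ * (l x)⁻¹ * ⁅l x, l c⁆ := by
      simp only [commutatorElement_def]; group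
    have e2 : ⁅m * l (x + y) * z, l c⁆ = m * ⁅l (x + y), l c⁆ * m⁻¹ * ⁅m, l c⁆ := by
      rw [hcz _ _ hz]
      simp only [commutatorElement_def]; group
    have h := congrArg (part C M) (e1.symm.trans (e ▸ e2))
    rw [part_mul C hM (c1 (hlR _ x (hl x)) (hcN y c)) (hcN x c),
      part_conj C hM (hRn _ (hlR _ x (hl x))) (hcN y c),
      part_mul C hM (c1 (hMR hm) (hcN _ c)) (hMm (hmc _ (hlR _ c (hl c)) m hm).1),
      part_conj C hM (hRn _ (hMR hm)) (hcN _ c), part_one C hM (hmc _ (hlR _ c (hl c)) m hm).1, mul_one] at h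
    exact h.symm.trans (mul_comm _ _)
  have hanti : ∀ x y, F x y = (F y x)⁻¹ := fun x y => eq_inv_of_mul_eq_one_left (by
    show part C M _ * part C M _ = 1
    rw [← part_mul C hM (hcN x y) (hcN y x), ← commutatorElement_inv (l y) (l x), inv_mul_cancel,
      part_one C hM (one_mem M)])
  have hF : Biadd F := ⟨hFl, fun x y y' => by rw [hanti, hFl, _root_.mul_inv, ← hanti, ← hanti]⟩
  have hFi : ∀ c : K, c ≠ 0 → ∀ x y, F (c * x) (c * y) = F x y := fun c hc x y => by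
    obtain ⟨t, ht⟩ := S.onto i hi (Units.mk0 c hc)
    obtain ⟨τ, hτ⟩ := C.surj (tor t)
    have hconj : ∀ v, C.π (τ * l v * τ⁻¹) = C.π (l (c * v)) := fun v => by
      rw [map_mul, map_mul, map_inv, hτ, hl, hl, S.conj i hi, ht, Units.val_mk0]
    show part C M _ = part C M _
    rw [← C.conj_comm (hconj x) (hconj y), part_conj C hM (htor τ t hτ) (hcN x y)]
  have hF1 := Small.SuzukiMult.scalar hF h2 h4 hFi
  have hcM : ∀ x y, ⁅l x, l y⁆ ∈ M := fun x y => part_mem C hM (hcN x y) (hF1 x y)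
  have absorb : ∀ a u w, C.π w * (g i u)⁻¹ ∈ N g i → ⁅l a, w⁆ ∈ M := by
    intro a u w hw
    obtain ⟨m, hm, he⟩ := hN' hw
    rw [C.comm_right (l a) (b' := m * l u) (by rw [map_mul, he, hl, inv_mul_cancel_right]),
      show ⁅l a, m * l u⁆ = ⁅l a, m⁆ * (m * ⁅l a, l u⁆ * m⁻¹) by simp only [commutatorElement_def]; group]
    exact mul_mem (hmc _ (hlR _ a (hl a)) m hm).2 (mul_mem (mul_mem hm (hcM a u)) (inv_mem hm))
  -- the complement in the new weight space
  obtain ⟨b, hb⟩ : ∃ b : Kˣ, (b : K) - 1 ≠ 0 := by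
    classical
    obtain ⟨u, hu⟩ : ∃ u, u ∉ ({0, 1} : Finset K) := by
      by_contra h
      push Not at h
      have := (Finset.card_le_card (fun x (_ : x ∈ Finset.univ) => h x)).trans (Finset.card_le_two (a := (0 : K)))
      rw [Finset.card_univ] at this
      omega
    simp only [Finset.mem_insert, Finset.mem_singleton, not_or] at hu
    exact ⟨Units.mk0 u hu.1, sub_ne_zero.2 hu.2⟩
  obtain ⟨t0, ht0⟩ := S.onto i hi b
  obtain ⟨τ0, hτ0⟩ := C.surj (tor t0)
  let e : K → Γ := fun x => ⁅τ0, l (x / ((b : K) - 1))⁆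
  have hπe : ∀ x, C.π (e x) * (g i x)⁻¹ ∈ N g i := fun x => by
    have h := inv_mem (S.add i hi x (x / ((b : K) - 1)))
    rw [show x + x / ((b : K) - 1) = (b : K) * (x / ((b : K) - 1)) by field_simp; ring] at h
    show C.π ⁅τ0, l _⁆ * _ ∈ _
    rw [map_commutatorElement, hτ0, hl, commutatorElement_def, S.conj i hi, ht0]
    convert h using 1
    group
  have heR : ∀ x, e x ∈ R := fun x => by
    show ⁅τ0, l _⁆ ∈ R
    rw [commutatorElement_def]
    exact mul_mem (mul_mem (mul_mem (hTR τ0 t0 hτ0) (hlR _ _ (hl _))) (inv_mem (hTR τ0 t0 hτ0)))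
      (inv_mem (hlR _ _ (hl _)))
  have hadd : ∀ x y, ∃ m ∈ M, e x * e y = m * e (x + y) := by
    intro x y
    obtain ⟨u, hu⟩ : ∃ u, u = x / ((b : K) - 1) := ⟨_, rfl⟩
    obtain ⟨v, hv⟩ : ∃ v, v = y / ((b : K) - 1) := ⟨_, rfl⟩
    have ex : e x = ⁅τ0, l u⁆ := by rw [hu]
    have ey : e y = ⁅τ0, l v⁆ := by rw [hv]
    have exy : e (x + y) = ⁅τ0, l (u + v)⁆ := by rw [hu, hv, ← add_div]
    obtain ⟨m, hm, z, hz, he⟩ := hprod u v
    have hμ : ⁅l u, e y⁆ ∈ M := absorb u y (e y) (hπe y)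
    have h1 : ⁅τ0, l u * l v⁆ = e x * ⁅l u, e y⁆ * (e x)⁻¹ * (e x * e y) := by
      rw [ex, ey]; simp only [commutatorElement_def]; group
    have h2 : ⁅τ0, m * l (u + v) * z⁆ = ⁅τ0, m⁆ * (m * (e (x + y) * m⁻¹ * (e (x + y))⁻¹)) * e (x + y) := by
      rw [exy, ← commutatorElement_inv (m * l (u + v) * z) τ0, hcz _ _ hz, commutatorElement_inv]
      simp only [commutatorElement_def]; group
    rw [he, h2] at h1
    refine ⟨(e x * ⁅l u, e y⁆ * (e x)⁻¹)⁻¹ * (⁅τ0, m⁆ * (m * (e (x + y) * m⁻¹ * (e (x + y))⁻¹))),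
      mul_mem (inv_mem (hRn _ (heR x) _ hμ)) (mul_mem (hmc _ (hTR τ0 t0 hτ0) m hm).2
        (mul_mem hm (hRn _ (heR _) _ (inv_mem hm)))), ?_⟩
    rw [mul_assoc _ _ (e (x + y)), h1, inv_mul_cancel_left]
  have he0 : ∀ x, C.π (e x) ∈ N g i → e x ∈ M := by
    intro x hx
    have hgx : g i x ∈ N g i := by
      have := mul_mem (inv_mem (hπe x)) hx
      rwa [_root_.mul_inv_rev, inv_inv, inv_mul_cancel_right] at this
    obtain ⟨v, hv⟩ : ∃ v, v = x / ((b : K) - 1) := ⟨_, rfl⟩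
    have hgv : g i v ∈ N g i := by
      rw [hv, div_eq_inv_mul]
      obtain ⟨t, ht⟩ := S.onto i hi (Units.mk0 _ (inv_ne_zero hb))
      obtain ⟨τ, hτ⟩ := C.surj (tor t)
      obtain ⟨k, hk, hke⟩ := hN' hgx
      have e1 : C.π (τ * k * τ⁻¹) = g i ((((b : K) - 1)⁻¹) * x) := by
        rw [map_mul, map_mul, map_inv, hτ, hke, S.conj i hi, ht, Units.val_mk0]
      rw [← e1, ← hmap]
      exact ⟨_, htor τ t hτ k hk, rfl⟩
    obtain ⟨k, hk, hke⟩ := hN' hgv
    show ⁅τ0, l _⁆ ∈ M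
    rw [← hv, C.comm_right τ0 (b' := k) (by rw [hl, hke])]
    exact (hmc _ (hTR τ0 t0 hτ0) k hk).2
  have hform : ∀ k ∈ Subgroup.closure ((M : Set Γ) ∪ Set.range e), ∃ m ∈ M, ∃ x, k = m * e x := by
    intro k hk
    have hone : e 0 ∈ M := he0 0 (by
      have h0 := S.add i hi 0 0
      rw [add_zero, mul_inv_cancel_right] at h0
      have := mul_mem (hπe 0) h0
      rwa [inv_mul_cancel_right] at this)
    rw [← Subgroup.mem_toSubmonoid, Subgroup.closure_toSubmonoid_of_finite] at hk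
    induction hk using Submonoid.closure_induction with
    | mem x hx =>
      rcases hx with hx | ⟨y, rfl⟩
      · exact ⟨x * (e 0)⁻¹, mul_mem hx (inv_mem hone), 0, (inv_mul_cancel_right _ _).symm⟩
      · exact ⟨1, one_mem M, y, (one_mul _).symm⟩
    | one => exact ⟨(e 0)⁻¹, inv_mem hone, 0, (inv_mul_cancel _).symm⟩
    | mul a c _ _ iha ihc =>
      obtain ⟨m, hm, x, rfl⟩ := iha
      obtain ⟨m', hm', y, rfl⟩ := ihc
      obtain ⟨μ, hμ, he⟩ := hadd x y
      refine ⟨m * (e x * m' * (e x)⁻¹) * μ, mul_mem (mul_mem hm (hRn _ (heR x) m' hm')) hμ, x + y, ?_⟩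
      rw [mul_assoc (m * (e x * m' * (e x)⁻¹)) μ, ← he]
      group
  refine ⟨Subgroup.closure ((M : Set Γ) ∪ Set.range e), fun k hk h1 => ?_, le_antisymm ?_ ?_, ?_⟩
  · obtain ⟨m, hm, x, rfl⟩ := hform k hk
    refine hM _ (mul_mem hm (he0 x ?_)) h1
    rw [map_mul] at h1
    rw [← inv_eq_of_mul_eq_one_right h1, ← map_inv, ← hmap]
    exact ⟨_, inv_mem hm, rfl⟩
  · rw [Subgroup.map_le_iff_le_comap, Subgroup.closure_le]
    rintro k (hk | ⟨x, rfl⟩)
    · exact N_mono (Nat.le_succ i) (hmap ▸ ⟨k, hk, rfl⟩)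
    · have := mul_mem (N_mono (Nat.le_succ i) (hπe x)) (N_mem (g := g) (Nat.lt_succ_self i) x)
      rwa [inv_mul_cancel_right] at this
  · refine N_succ_le (fun z hz => ?_) fun x => ?_
    · obtain ⟨k, hk, rfl⟩ := hN' hz
      exact ⟨k, Subgroup.subset_closure (Or.inl hk), rfl⟩
    · obtain ⟨k, hk, hke⟩ := hN' (hπe x)
      refine ⟨k⁻¹ * e x, mul_mem (inv_mem (Subgroup.subset_closure (Or.inl hk)))
        (Subgroup.subset_closure (Or.inr ⟨x, rfl⟩)), ?_⟩
      rw [map_mul, map_inv, hke]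
      group
  · intro a t ha k hk
    induction hk using Subgroup.closure_induction with
    | mem x hx =>
      rcases hx with hx | ⟨y, rfl⟩
      · exact Subgroup.subset_closure (Or.inl (htor a t ha x hx))
      · refine Subgroup.subset_closure (Or.inr ⟨(χ i t : K) * y, ?_⟩)
        refine (C.conj_comm ?_ ?_).symm
        · rw [map_mul, map_mul, map_inv, ha, hτ0, S.tor_comm, mul_inv_cancel_right]
        · rw [map_mul, map_mul, map_inv, ha, hl, hl, S.conj i hi, mul_div_assoc]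
    | one => rw [mul_one, mul_inv_cancel]; exact one_mem _
    | mul x y _ _ ihx ihy =>
      rw [show a * (x * y) * a⁻¹ = a * x * a⁻¹ * (a * y * a⁻¹) by group]
      exact mul_mem ihx ihy
    | inv x _ ih =>
      rw [show a * x⁻¹ * a⁻¹ = (a * x * a⁻¹)⁻¹ by group]
      exact inv_mem ih

include S h2 h4 in
/-- Commutators of lifts of a filtered unipotent group avoid the kernel. -/
theorem commutator_inf_ker {U : Subgroup G} (hU : U ≤ N g n) : ⁅U.comap C.π, U.comap C.π⁆ ⊓ C.π.ker = ⊥ := by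
  have key : ∀ i ≤ n, ∃ M : Subgroup Γ, (∀ k ∈ M, C.π k = 1 → k = 1) ∧ M.map C.π = N g i ∧
      ∀ a t, C.π a = tor t → ∀ k ∈ M, a * k * a⁻¹ ∈ M := by
    intro i
    induction i with
    | zero =>
      intro _
      refine ⟨⊥, fun k hk _ => Subgroup.mem_bot.1 hk, ?_, fun a t _ k hk => ?_⟩
      · rw [Subgroup.map_bot, eq_comm, eq_bot_iff]
        exact (Subgroup.closure_le _).2 fun _ ⟨l, hl, _⟩ => absurd hl (Nat.not_lt_zero l)
      · rw [Subgroup.mem_bot.1 hk, mul_one, mul_inv_cancel]; exact one_mem _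
    | succ i ih =>
      intro hi
      obtain ⟨M, h1, h3, h5⟩ := ih (by omega)
      exact step S h2 h4 (show i < n by omega) h1 h3 h5
  obtain ⟨M, hM, hmap, -⟩ := key n le_rfl
  rw [Subgroup.eq_bot_iff_forall]
  rintro z ⟨hz, hz1⟩
  refine hM z ?_ hz1
  refine Subgroup.commutator_le.2 (fun a ha b hb => ?_) hz
  obtain ⟨ma, hma, ea⟩ : C.π a ∈ M.map C.π := hmap ▸ hU ha
  obtain ⟨mb, hmb, eb⟩ : C.π b ∈ M.map C.π := hmap ▸ hU hb
  rw [C.comm_indep ea.symm eb.symm, commutatorElement_def]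
  exact mul_mem (mul_mem (mul_mem hma hmb) (inv_mem hma)) (inv_mem hmb)

end Cfsg.Agent.Solv.WeightSeries
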