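import Cfsg.Agent.Lib.Solv.SplitBNRankOne

/-!
The torus and the dihedral group of order sixteen lifted from two rank one subgroups.
-/

set_option autoImplicit false
set_option linter.unusedSectionVars false

namespace Cfsg.Agent.Solv.SplitBN16

open Cfsg.Agent.Lie Cfsg.Agent.Solv.SplitBNStem Matrix
open scoped MatrixGroups

/-- The reduced words in the two reflections. -/
def words16 : List (List Bool) := [[],
  [true],
  [false],
  [true, false],
  [false, true],
  [true, false, true],
  [false, true, false],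
  [true, false, true, false],
  [false, true, false, true],
  [true, false, true, false, true],
  [false, true, false, true, false],
  [true, false, true, false, true, false],
  [false, true, false, true, false, true],
  [true, false, true, false, true, false, true],
  [false, true, false, true, false, true, false],
  [true, false, true, false, true, false, true, false]]

theorem dihedral_words {Q : Type*} [Group Q] {a b : Q} (ha : a * a = 1) (hb : b * b = 1)
    (hab : a * b * (a * b) * (a * b) * (a * b) = b * a * (b * a) * (b * a) * (b * a)) (c : Bool) :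
    ∀ w ∈ words16, ∃ w' ∈ words16, (if c then a else b) * (w.map fun e => if e then a else b).prod =
      (w'.map fun e => if e then a else b).prod := by
  have haa : ∀ x : Q, a * (a * x) = x := fun x => by rw [← mul_assoc, ha, one_mul]
  have hbb : ∀ x : Q, b * (b * x) = x := fun x => by rw [← mul_assoc, hb, one_mul]
  simp only [mul_assoc] at hab
  intro w hw
  simp only [words16, List.mem_cons, List.not_mem_nil, or_false] at hw
  cases c
  · rcases hw with rfl | rfl | rfl | rfl | rfl | rfl | rfl | rfl | rfl | rfl | rfl | rfl | rfl | rfl | rfl | rfl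
    exacts [⟨[false], by simp [words16], by simp⟩,
      ⟨[false, true], by simp [words16], by simp⟩,
      ⟨[], by simp [words16], by simp [hb]⟩,
      ⟨[false, true, false], by simp [words16], by simp⟩,
      ⟨[true], by simp [words16], by simp [hbb]⟩,
      ⟨[false, true, false, true], by simp [words16], by simp⟩,
      ⟨[true, false], by simp [words16], by simp [hbb]⟩,
      ⟨[false, true, false, true, false], by simp [words16], by simp⟩,
      ⟨[true, false, true], by simp [words16], by simp [hbb]⟩,
      ⟨[false, true, false, true, false, true], by simp [words16], by simp⟩,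
      ⟨[true, false, true, false], by simp [words16], by simp [hbb]⟩,
      ⟨[false, true, false, true, false, true, false], by simp [words16], by simp⟩,
      ⟨[true, false, true, false, true], by simp [words16], by simp [hbb]⟩,
      ⟨[true, false, true, false, true, false, true, false], by simp [words16], by simp [hab]⟩,
      ⟨[true, false, true, false, true, false], by simp [words16], by simp [hbb]⟩,
      ⟨[true, false, true, false, true, false, true], by simp [words16], by simp [hab, hbb]⟩]
  · rcases hw with rfl | rfl | rfl | rfl | rfl | rfl | rfl | rfl | rfl | rfl | rfl | rfl | rfl | rfl | rfl | rfl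
    exacts [⟨[true], by simp [words16], by simp⟩,
      ⟨[], by simp [words16], by simp [ha]⟩,
      ⟨[true, false], by simp [words16], by simp⟩,
      ⟨[false], by simp [words16], by simp [haa]⟩,
      ⟨[true, false, true], by simp [words16], by simp⟩,
      ⟨[false, true], by simp [words16], by simp [haa]⟩,
      ⟨[true, false, true, false], by simp [words16], by simp⟩,
      ⟨[false, true, false], by simp [words16], by simp [haa]⟩,
      ⟨[true, false, true, false, true], by simp [words16], by simp⟩,
      ⟨[false, true, false, true], by simp [words16], by simp [haa]⟩,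
      ⟨[true, false, true, false, true, false], by simp [words16], by simp⟩,
      ⟨[false, true, false, true, false], by simp [words16], by simp [haa]⟩,
      ⟨[true, false, true, false, true, false, true], by simp [words16], by simp⟩,
      ⟨[false, true, false, true, false, true], by simp [words16], by simp [haa]⟩,
      ⟨[true, false, true, false, true, false, true, false], by simp [words16], by simp⟩,
      ⟨[false, true, false, true, false, true, false], by simp [words16], by simp [haa]⟩]

variable {Γ G : Type*} [Group Γ] [Group G] [Finite Γ] (σ : Γ →* G)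

/-- The word of length seven that starts and ends with the first reflection. -/
def bw (n : Bool → Γ) : Γ := n true * n false * n true * n false * n true * n false * n true

/-- Two lifted rank one subgroups with their tori. -/
structure TwoTori (H : Subgroup G) (R : Bool → Subgroup Γ) (n : Bool → Γ) : Prop where
  n_mem : ∀ e, n e ∈ R e
  sq : ∀ e, σ (n e * n e) ∈ H
  H_comm : ∀ a ∈ H, ∀ b ∈ H, a * b = b * a
  inj : ∀ e, ∀ g ∈ R e, σ g = 1 → g = 1
  norm : ∀ e, ∀ g : Γ, σ g ∈ H → ∀ a ∈ R e, g * a * g⁻¹ ∈ R e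
  nH : ∀ e, ∀ a ∈ H, σ (n e) * a * (σ (n e))⁻¹ ∈ H
  indep : ∀ a ∈ R true, ∀ b ∈ R false, σ a ∈ H → σ b ∈ H → σ a * σ b = 1 → σ a = 1
  braid : ∀ a ∈ R false, bw n * a * (bw n)⁻¹ ∈ R false
  braidH : σ (bw n * n false * (bw n)⁻¹ * (n false)⁻¹) ∈ H

variable {σ} {H : Subgroup G} {R : Bool → Subgroup Γ} {n : Bool → Γ}

/-- The lifted torus. -/
def Tor (σ : Γ →* G) (H : Subgroup G) (R : Bool → Subgroup Γ) : Subgroup Γ :=
  (R true ⊓ H.comap σ) ⊔ (R false ⊓ H.comap σ)

theorem part_le_Tor (e : Bool) : R e ⊓ H.comap σ ≤ Tor σ H R := by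
  cases e
  · exact le_sup_right
  · exact le_sup_left

theorem Tor_le_comap : Tor σ H R ≤ H.comap σ := sup_le inf_le_right inf_le_right

namespace TwoTori

variable (T : TwoTori σ H R n)

include T

theorem part_comm (e : Bool) {g : Γ} (hg : σ g ∈ H) {a : Γ} (ha : a ∈ R e ⊓ H.comap σ) :
    g * a = a * g := by
  have h1 : g * a * g⁻¹ * a⁻¹ ∈ R e := mul_mem (T.norm e g hg a ha.1) (inv_mem ha.1)
  have h2 : σ (g * a * g⁻¹ * a⁻¹) = 1 := by
    rw [map_mul, map_mul, map_mul, map_inv, map_inv, T.H_comm _ hg _ ha.2, mul_inv_cancel_right,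
      mul_inv_cancel]
  have := T.inj e _ h1 h2
  rwa [mul_inv_eq_one, mul_inv_eq_iff_eq_mul] at this

theorem Tor_elt {g : Γ} (hg : g ∈ Tor σ H R) :
    ∃ a ∈ R true ⊓ H.comap σ, ∃ b ∈ R false ⊓ H.comap σ, g = a * b := by
  rw [Tor, Subgroup.sup_eq_closure] at hg
  induction hg using Subgroup.closure_induction with
  | mem x hx =>
    rcases hx with hx | hx
    · exact ⟨x, hx, 1, one_mem _, (mul_one x).symm⟩
    · exact ⟨1, one_mem _, x, hx, (one_mul x).symm⟩
  | one => exact ⟨1, one_mem _, 1, one_mem _, (mul_one 1).symm⟩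
  | mul x y _ _ ihx ihy =>
    obtain ⟨a, ha, b, hb, rfl⟩ := ihx
    obtain ⟨a', ha', b', hb', rfl⟩ := ihy
    refine ⟨a * a', mul_mem ha ha', b * b', mul_mem hb hb', ?_⟩
    have := T.part_comm true hb.2 ha'
    rw [mul_assoc, ← mul_assoc b, this]
    group
  | inv x _ ih =>
    obtain ⟨a, ha, b, hb, rfl⟩ := ih
    refine ⟨a⁻¹, inv_mem ha, b⁻¹, inv_mem hb, ?_⟩
    rw [_root_.mul_inv_rev]
    exact T.part_comm true (g := b⁻¹) (by rw [map_inv]; exact inv_mem hb.2) (inv_mem ha)

theorem Tor_inj {g : Γ} (hg : g ∈ Tor σ H R) (h1 : σ g = 1) : g = 1 := by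
  obtain ⟨a, ha, b, hb, rfl⟩ := T.Tor_elt hg
  have hab : σ a * σ b = 1 := by rw [← map_mul, h1]
  have e1 := T.inj true a ha.1 (T.indep a ha.1 b hb.1 ha.2 hb.2 hab)
  subst e1
  rw [one_mul] at h1 ⊢
  exact T.inj false b hb.1 h1

/-- The lifted reflections normalise the lifted torus. -/
theorem n_norm (e : Bool) {g : Γ} (hg : g ∈ Tor σ H R) : n e * g * (n e)⁻¹ ∈ Tor σ H R := by
  have hgH : σ g ∈ H := Tor_le_comap hg
  refine (Subgroup.mul_mem_cancel_right _ (inv_mem hg)).1 ?_
  refine part_le_Tor e ⟨?_, ?_⟩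
  · rw [show n e * g * (n e)⁻¹ * g⁻¹ = n e * (g * (n e)⁻¹ * g⁻¹) by group]
    exact mul_mem (T.n_mem e) (T.norm e g hgH _ (inv_mem (T.n_mem e)))
  · show σ _ ∈ H
    rw [map_mul, map_mul, map_mul, map_inv, map_inv]
    exact mul_mem (T.nH e _ hgH) (inv_mem hgH)

/-- The lifted monomial group. -/
theorem normal_form {g : Γ} (hg : g ∈ Subgroup.closure (Set.range n ∪ (Tor σ H R : Set Γ))) :
    ∃ h ∈ Tor σ H R, ∃ w ∈ words16, g = h * (w.map n).prod := by
  obtain ⟨N, hN⟩ : ∃ N, N = Subgroup.closure (Set.range n ∪ (Tor σ H R : Set Γ)) := ⟨_, rfl⟩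
  have hnN : ∀ e, n e ∈ N := fun e => hN ▸ Subgroup.subset_closure (Or.inl ⟨e, rfl⟩)
  have hTN : Tor σ H R ≤ N := fun x hx => hN ▸ Subgroup.subset_closure (Or.inr hx)
  have hnor : N ≤ Subgroup.normalizer ((Tor σ H R : Subgroup Γ) : Set Γ) := by
    rw [hN, Subgroup.closure_le]
    rintro x (⟨e, rfl⟩ | hx)
    · exact Subgroup.mem_normalizer_fintype fun y hy => T.n_norm e hy
    · exact Subgroup.le_normalizer hx
  haveI : ((Tor σ H R).subgroupOf N).Normal := Subgroup.normal_subgroupOf_of_le_normalizer hnor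
  let π : N →* N ⧸ (Tor σ H R).subgroupOf N := QuotientGroup.mk' _
  have hπ : ∀ x : N, π x = 1 ↔ (x : Γ) ∈ Tor σ H R := fun x =>
    (QuotientGroup.eq_one_iff x).trans Subgroup.mem_subgroupOf
  have hsq : ∀ e, π ⟨n e, hnN e⟩ * π ⟨n e, hnN e⟩ = 1 := fun e => by
    rw [← map_mul, hπ]
    exact part_le_Tor e ⟨mul_mem (T.n_mem e) (T.n_mem e), T.sq e⟩
  have hbr : π ⟨n true, hnN _⟩ * π ⟨n false, hnN _⟩ *
      (π ⟨n true, hnN _⟩ * π ⟨n false, hnN _⟩) *
      (π ⟨n true, hnN _⟩ * π ⟨n false, hnN _⟩) *
      (π ⟨n true, hnN _⟩ * π ⟨n false, hnN _⟩) = π ⟨n false, hnN _⟩ * π ⟨n true, hnN _⟩ *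
      (π ⟨n false, hnN _⟩ * π ⟨n true, hnN _⟩) *
      (π ⟨n false, hnN _⟩ * π ⟨n true, hnN _⟩) *
      (π ⟨n false, hnN _⟩ * π ⟨n true, hnN _⟩) := by
    rw [← mul_inv_eq_one]
    simp only [← map_mul, ← map_inv]
    rw [hπ]
    simp only [Subgroup.coe_mul, Subgroup.coe_inv]
    have e : n true * n false * (n true * n false) * (n true * n false) * (n true * n false) *
        (n false * n true * (n false * n true) * (n false * n true) * (n false * n true))⁻¹ =
          bw n * n false * (bw n)⁻¹ * (n false)⁻¹ := by rw [bw]; group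
    rw [e]
    exact part_le_Tor false (Subgroup.mem_inf.2
      ⟨mul_mem (T.braid _ (T.n_mem false)) (inv_mem (T.n_mem false)), T.braidH⟩)
  have hp : ∀ (w : List Bool) (hw : (w.map n).prod ∈ N),
      π ⟨(w.map n).prod, hw⟩ = (w.map fun e => if e then π ⟨n true, hnN _⟩ else π ⟨n false, hnN _⟩).prod := by
    intro w
    induction w with
    | nil => intro hw; exact (hπ _).2 (one_mem _)
    | cons e w ih =>
      intro hw
      have hw' : (w.map n).prod ∈ N := list_prod_mem fun x hx => by
        obtain ⟨e, -, rfl⟩ := List.mem_map.1 hx; exact hnN e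
      rw [show (⟨((e :: w).map n).prod, hw⟩ : N) = ⟨n e, hnN e⟩ * ⟨_, hw'⟩ from Subtype.ext (by simp), map_mul,
        ih hw', List.map_cons, List.prod_cons]
      cases e <;> rfl
  have step : ∀ e, ∀ w ∈ words16, ∃ h ∈ Tor σ H R, ∃ w' ∈ words16, n e * (w.map n).prod = h * (w'.map n).prod := by
    intro e w hw
    obtain ⟨w', hw', he⟩ := dihedral_words (hsq true) (hsq false) hbr e w hw
    have hm : ∀ w : List Bool, (w.map n).prod ∈ N := fun w => list_prod_mem fun x hx => by
        obtain ⟨e, -, rfl⟩ := List.mem_map.1 hx; exact hnN e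
    have e' : π (⟨n e, hnN e⟩ * ⟨_, hm w⟩ * ⟨_, hm w'⟩⁻¹) = 1 := by
      rw [map_mul, map_mul, map_inv, hp, hp, ← he, mul_inv_eq_one]
      cases e <;> rfl
    exact ⟨_, (hπ _).1 e', w', hw', by simp⟩
  rw [← Subgroup.mem_toSubmonoid, Subgroup.closure_toSubmonoid_of_finite] at hg
  suffices ∀ h ∈ Tor σ H R, ∀ w ∈ words16,
      ∃ h' ∈ Tor σ H R, ∃ w' ∈ words16, g * (h * (w.map n).prod) = h' * (w'.map n).prod by
    simpa using this 1 (one_mem _) [] (by simp [words16])
  induction hg using Submonoid.closure_induction with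
  | mem x hx =>
    intro h hh w hw
    rcases hx with ⟨e, rfl⟩ | hx
    · obtain ⟨h', hh', w', hw', he⟩ := step e w hw
      exact ⟨n e * h * (n e)⁻¹ * h', mul_mem (T.n_norm e hh) hh', w', hw',
        by rw [mul_assoc _ h', ← he]; group⟩
    · exact ⟨x * h, mul_mem hx hh, w, hw, (mul_assoc _ _ _).symm⟩
  | one => intro h hh w hw; exact ⟨h, hh, w, hw, one_mul _⟩
  | mul a b _ _ iha ihb =>
    intro h hh w hw
    obtain ⟨h1, hh1, w1, hw1, e1⟩ := ihb h hh w hw
    rw [mul_assoc, e1]
    exact iha h1 hh1 w1 hw1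

end TwoTori

end Cfsg.Agent.Solv.SplitBN16
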