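import Cfsg.Agent.Lib.Solv.SplitBNRankOne
import Mathlib.GroupTheory.Coxeter.Basic

/-!
Central extensions of groups with a split BN-pair of any rank by a kernel of order prime to the characteristic:
the kernel lies in the torus generated by the lifted rank one tori.
-/

set_option autoImplicit false
set_option linter.unusedSectionVars false
set_option linter.style.haveILetI false

open scoped commutatorElement

namespace Cfsg.Agent.Solv.SplitBNRank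

universe u

variable {Γ : Type u} {G : Type*} [Group Γ] [Group G] [Finite Γ] (σ : Γ →* G) {ι : Type*}

/-- Lifted rank one subgroups with their tori. -/
structure Tori (H : Subgroup G) (R : ι → Subgroup Γ) (n : ι → Γ) : Prop where
  n_mem : ∀ e, n e ∈ R e
  sq : ∀ e, σ (n e * n e) ∈ H
  H_comm : ∀ a ∈ H, ∀ b ∈ H, a * b = b * a
  inj : ∀ e, ∀ g ∈ R e, σ g = 1 → g = 1
  norm : ∀ e, ∀ g : Γ, σ g ∈ H → ∀ a ∈ R e, g * a * g⁻¹ ∈ R e
  nH : ∀ e, ∀ a ∈ H, σ (n e) * a * (σ (n e))⁻¹ ∈ H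

variable {σ} {H : Subgroup G} {R : ι → Subgroup Γ} {n : ι → Γ}

/-- The lifted torus. -/
def Tor (σ : Γ →* G) (H : Subgroup G) (R : ι → Subgroup Γ) : Subgroup Γ := ⨆ e, R e ⊓ H.comap σ

/-- The lifted monomial group. -/
def Mon (σ : Γ →* G) (H : Subgroup G) (R : ι → Subgroup Γ) (n : ι → Γ) : Subgroup Γ :=
  Subgroup.closure (Set.range n ∪ (Tor σ H R : Set Γ))

theorem part_le_Tor (e : ι) : R e ⊓ H.comap σ ≤ Tor σ H R := le_iSup (fun e => R e ⊓ H.comap σ) e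

theorem Tor_le_comap : Tor σ H R ≤ H.comap σ := iSup_le fun _ => inf_le_right

theorem Tor_le_Mon : Tor σ H R ≤ Mon σ H R n := fun _ hx => Subgroup.subset_closure (Or.inr hx)

theorem n_mem_Mon (e : ι) : n e ∈ Mon σ H R n := Subgroup.subset_closure (Or.inl ⟨e, rfl⟩)

/-- A conjugation between rank one subgroups gives an element of the torus. -/
theorem conj_part {k l : ι} {g : Γ} (hconj : ∀ a ∈ R k, g * a * g⁻¹ ∈ R l) (hk : n k ∈ R k) (hl : n l ∈ R l)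
    (h : σ (g * n k * g⁻¹ * (n l)⁻¹) ∈ H) : g * n k * g⁻¹ * (n l)⁻¹ ∈ Tor σ H R :=
  part_le_Tor l (Subgroup.mem_inf.2 ⟨mul_mem (hconj _ hk) (inv_mem hl), h⟩)

namespace Tori

variable (T : Tori σ H R n)

include T

theorem part_comm (e : ι) {g : Γ} (hg : σ g ∈ H) {a : Γ} (ha : a ∈ R e ⊓ H.comap σ) :
    g * a = a * g := by
  have h1 : g * a * g⁻¹ * a⁻¹ ∈ R e := mul_mem (T.norm e g hg a ha.1) (inv_mem ha.1)
  have h2 : σ (g * a * g⁻¹ * a⁻¹) = 1 := by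
    rw [map_mul, map_mul, map_mul, map_inv, map_inv, T.H_comm _ hg _ ha.2, mul_inv_cancel_right,
      mul_inv_cancel]
  have := T.inj e _ h1 h2
  rwa [mul_inv_eq_one, mul_inv_eq_iff_eq_mul] at this

/-- The lifted reflections normalise the lifted torus. -/
theorem n_norm (e : ι) {g : Γ} (hg : g ∈ Tor σ H R) : n e * g * (n e)⁻¹ ∈ Tor σ H R := by
  have hgH : σ g ∈ H := Tor_le_comap hg
  refine (Subgroup.mul_mem_cancel_right _ (inv_mem hg)).1 ?_
  refine part_le_Tor e ⟨?_, ?_⟩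
  · rw [show n e * g * (n e)⁻¹ * g⁻¹ = n e * (g * (n e)⁻¹ * g⁻¹) by group]
    exact mul_mem (T.n_mem e) (T.norm e g hgH _ (inv_mem (T.n_mem e)))
  · show σ _ ∈ H
    rw [map_mul, map_mul, map_mul, map_inv, map_inv]
    exact mul_mem (T.nH e _ hgH) (inv_mem hgH)

theorem Mon_norm : Mon σ H R n ≤ Subgroup.normalizer ((Tor σ H R : Subgroup Γ) : Set Γ) := by
  rw [Mon, Subgroup.closure_le]
  rintro x (⟨e, rfl⟩ | hx)
  · exact Subgroup.mem_normalizer_fintype fun y hy => T.n_norm e hy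
  · exact Subgroup.le_normalizer hx

theorem normal : ((Tor σ H R).subgroupOf (Mon σ H R n)).Normal :=
  Subgroup.normal_subgroupOf_of_le_normalizer T.Mon_norm

theorem exists_quot : ∃ (Q : Type u) (_ : Group Q) (π : Mon σ H R n →* Q), Function.Surjective π ∧
    (∀ x, π x = 1 ↔ (x : Γ) ∈ Tor σ H R) ∧ ∀ e, π ⟨n e, n_mem_Mon e⟩ * π ⟨n e, n_mem_Mon e⟩ = 1 := by
  haveI := T.normal
  refine ⟨_, inferInstance, QuotientGroup.mk' ((Tor σ H R).subgroupOf (Mon σ H R n)),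
    QuotientGroup.mk'_surjective _, fun x => (QuotientGroup.eq_one_iff x).trans Subgroup.mem_subgroupOf,
    fun e => ?_⟩
  rw [← map_mul, QuotientGroup.mk'_apply, QuotientGroup.eq_one_iff, Subgroup.mem_subgroupOf]
  exact part_le_Tor e ⟨mul_mem (T.n_mem e) (T.n_mem e), T.sq e⟩

/-- Commuting reflections. -/
theorem rel_two {i j : ι} (h : n i * n j * (n i)⁻¹ * (n j)⁻¹ ∈ Tor σ H R) :
    (n i * n j) ^ 2 ∈ Tor σ H R := by
  obtain ⟨Q, _, π, -, hπ, hsq⟩ := T.exists_quot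
  obtain ⟨a, ha⟩ : ∃ a : Mon σ H R n, a = ⟨n i, n_mem_Mon i⟩ := ⟨_, rfl⟩
  obtain ⟨b, hb⟩ : ∃ b : Mon σ H R n, b = ⟨n j, n_mem_Mon j⟩ := ⟨_, rfl⟩
  have ea : (π a)⁻¹ = π a := inv_eq_of_mul_eq_one_right (ha ▸ hsq i)
  have eb : (π b)⁻¹ = π b := inv_eq_of_mul_eq_one_right (hb ▸ hsq j)
  have e : π (a * b * a⁻¹ * b⁻¹) = 1 := (hπ _).2 (by simpa [ha, hb] using h)
  have : π ((a * b) ^ 2) = 1 := by
    simp only [map_mul, map_inv, ea, eb, mul_assoc] at e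
    simp only [map_pow, map_mul, pow_succ, pow_zero, one_mul, mul_assoc]
    exact e
  simpa [ha, hb] using (hπ _).1 this

/-- A braid relation of length three. -/
theorem rel_three {i j : ι} (h : n i * n j * n i * (n i * n j)⁻¹ * (n j)⁻¹ ∈ Tor σ H R) :
    (n i * n j) ^ 3 ∈ Tor σ H R := by
  obtain ⟨Q, _, π, -, hπ, hsq⟩ := T.exists_quot
  obtain ⟨a, ha⟩ : ∃ a : Mon σ H R n, a = ⟨n i, n_mem_Mon i⟩ := ⟨_, rfl⟩
  obtain ⟨b, hb⟩ : ∃ b : Mon σ H R n, b = ⟨n j, n_mem_Mon j⟩ := ⟨_, rfl⟩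
  have ea : (π a)⁻¹ = π a := inv_eq_of_mul_eq_one_right (ha ▸ hsq i)
  have eb : (π b)⁻¹ = π b := inv_eq_of_mul_eq_one_right (hb ▸ hsq j)
  have e : π (a * b * a * (a * b)⁻¹ * b⁻¹) = 1 := (hπ _).2 (by simpa [ha, hb] using h)
  have : π ((a * b) ^ 3) = 1 := by
    simp only [map_mul, map_inv, _root_.mul_inv_rev, ea, eb, mul_assoc] at e
    simp only [map_pow, map_mul, pow_succ, pow_zero, one_mul, mul_assoc]
    exact e
  simpa [ha, hb] using (hπ _).1 this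

/-- A braid relation of length four. -/
theorem rel_four {i j : ι} (h : n i * n j * n i * n j * (n i * n j * n i)⁻¹ * (n j)⁻¹ ∈ Tor σ H R) :
    (n i * n j) ^ 4 ∈ Tor σ H R := by
  obtain ⟨Q, _, π, -, hπ, hsq⟩ := T.exists_quot
  obtain ⟨a, ha⟩ : ∃ a : Mon σ H R n, a = ⟨n i, n_mem_Mon i⟩ := ⟨_, rfl⟩
  obtain ⟨b, hb⟩ : ∃ b : Mon σ H R n, b = ⟨n j, n_mem_Mon j⟩ := ⟨_, rfl⟩
  have ea : (π a)⁻¹ = π a := inv_eq_of_mul_eq_one_right (ha ▸ hsq i)
  have eb : (π b)⁻¹ = π b := inv_eq_of_mul_eq_one_right (hb ▸ hsq j)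
  have e : π (a * b * a * b * (a * b * a)⁻¹ * b⁻¹) = 1 := (hπ _).2 (by simpa [ha, hb] using h)
  have : π ((a * b) ^ 4) = 1 := by
    simp only [map_mul, map_inv, _root_.mul_inv_rev, ea, eb, mul_assoc] at e
    simp only [map_pow, map_mul, pow_succ, pow_zero, one_mul, mul_assoc]
    exact e
  simpa [ha, hb] using (hπ _).1 this

/-- Monomial elements over the torus lie in the lifted torus, the Weyl group being no smaller than its Coxeter
group. -/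
theorem mem_Tor {M : CoxeterMatrix ι} [Finite M.Group] (hrel : ∀ i j, (n i * n j) ^ M i j ∈ Tor σ H R)
    {W : Type*} [Group W] [Finite W] (hW : Nat.card M.Group ≤ Nat.card W) (χ : Mon σ H R n →* W)
    (hχ : Function.Surjective χ) (hker : ∀ g, χ g = 1 ↔ σ (g : Γ) ∈ H) {g : Γ} (hg : g ∈ Mon σ H R n)
    (hH : σ g ∈ H) : g ∈ Tor σ H R := by
  haveI := T.normal
  obtain ⟨Tn, hTn⟩ : ∃ Tn, Tn = (Tor σ H R).subgroupOf (Mon σ H R n) := ⟨_, rfl⟩
  haveI : Tn.Normal := hTn ▸ T.normal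
  let π : Mon σ H R n →* Mon σ H R n ⧸ Tn := QuotientGroup.mk' Tn
  have hπ : ∀ x, π x = 1 ↔ (x : Γ) ∈ Tor σ H R := fun x =>
    (QuotientGroup.eq_one_iff x).trans (by rw [hTn]; exact Subgroup.mem_subgroupOf)
  have hlift : M.IsLiftable fun i => π ⟨n i, n_mem_Mon i⟩ := fun i j => by
    rw [← map_mul, ← map_pow, hπ]
    simpa using hrel i j
  let f := M.toCoxeterSystem.lift ⟨_, hlift⟩
  have hf : Function.Surjective f := by
    intro y
    obtain ⟨x, rfl⟩ := QuotientGroup.mk'_surjective Tn y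
    show π x ∈ f.range
    obtain ⟨x, hx⟩ := x
    induction hx using Subgroup.closure_induction with
    | mem z hz =>
      rcases hz with ⟨e, rfl⟩ | hz
      · exact ⟨M.toCoxeterSystem.simple e, CoxeterSystem.lift_apply_simple _ hlift e⟩
      · rw [(hπ _).2 hz]; exact one_mem _
    | one => rw [show (⟨1, _⟩ : Mon σ H R n) = 1 from rfl, map_one]; exact one_mem _
    | mul a b ha hb iha ihb =>
      rw [show (⟨a * b, _⟩ : Mon σ H R n) = ⟨a, ha⟩ * ⟨b, hb⟩ from rfl, map_mul]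
      exact mul_mem iha ihb
    | inv a ha iha =>
      rw [show (⟨a⁻¹, _⟩ : Mon σ H R n) = ⟨a, ha⟩⁻¹ from rfl, map_inv]
      exact inv_mem iha
  let χ' : (Mon σ H R n ⧸ Tn) →* W := QuotientGroup.lift Tn χ fun x hx =>
    (hker x).2 (Tor_le_comap ((hπ x).1 ((QuotientGroup.eq_one_iff x).2 hx)))
  have hχ' : Function.Surjective χ' := fun w => by
    obtain ⟨x, rfl⟩ := hχ w
    exact ⟨π x, rfl⟩
  haveI : Finite (Mon σ H R n ⧸ Tn) := Finite.of_surjective f hf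
  have hb : Function.Bijective χ' := (Nat.bijective_iff_surjective_and_card χ').2
    ⟨hχ', le_antisymm ((Nat.card_le_card_of_surjective f hf).trans hW) (Nat.card_le_card_of_surjective χ' hχ')⟩
  refine (hπ ⟨g, hg⟩).1 (hb.1 ?_)
  rw [map_one]
  exact (hker ⟨g, hg⟩).2 hH

/-- The kernel in the torus is bounded by the rank one tori. -/
theorem card_dvd [Fintype ι] (hH : H ≤ (Tor σ H R).map σ) :
    Nat.card ↥(Tor σ H R ⊓ σ.ker) * Nat.card H ∣ ∏ e, Nat.card ↥(R e ⊓ H.comap σ) := by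
  classical
  have hcomm : Pairwise fun i j => ∀ x y : Γ, x ∈ R i ⊓ H.comap σ → y ∈ R j ⊓ H.comap σ → Commute x y :=
    fun i j _ x y hx hy => T.part_comm j hx.2 hy
  have h1 := Subgroup.noncommPiCoprod_range (H := fun e => R e ⊓ H.comap σ) (hcomm := hcomm)
  have h2 : Nat.card ↥(Tor σ H R) ∣ ∏ e, Nat.card ↥(R e ⊓ H.comap σ) := by
    rw [← Nat.card_pi, Tor, ← h1]
    exact Subgroup.card_range_dvd _
  let f := σ.comp (Tor σ H R).subtype
  have hr : f.range = H := by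
    rw [MonoidHom.range_comp, Subgroup.range_subtype]
    exact le_antisymm (Subgroup.map_le_iff_le_comap.2 Tor_le_comap) hH
  have hk : Nat.card f.ker = Nat.card ↥(Tor σ H R ⊓ σ.ker) :=
    Nat.card_congr
      { toFun := fun x => ⟨x.1.1, x.1.2, x.2⟩
        invFun := fun x => ⟨⟨x.1, x.2.1⟩, x.2.2⟩
        left_inv := fun _ => rfl
        right_inv := fun _ => rfl }
  have h3 := Subgroup.card_mul_index f.ker
  rw [Subgroup.index_ker, hk, hr] at h3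
  rw [h3]
  exact h2

end Tori

/-- A split BN-pair of any rank, lifted: what is needed for the kernel to lie in the torus. -/
structure Data (σ : Γ →* G) (U : Subgroup G) (s : U →* Γ) (Ht Nt : Subgroup Γ) (n : ι → Γ)
    (X : ι → Subgroup G) : Prop where
  σs : ∀ u : U, σ (s u) = u
  conj_s : ∀ (g : Γ) (u v : U), σ g * u * (σ g)⁻¹ = v → g * s u * g⁻¹ = s v
  X_le : ∀ i, X i ≤ U
  n_mem : ∀ i, n i ∈ Nt
  H_le : Ht ≤ Nt
  H_norm : ∀ g ∈ Ht, ∀ u ∈ U, σ g * u * (σ g)⁻¹ ∈ U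
  split : ∀ i, ∀ u ∈ U, ∃ u' ∈ U, ∃ x ∈ X i, u = u' * x ∧ σ (n i) * u' * (σ (n i))⁻¹ ∈ U
  side : ∀ i, ∀ g ∈ Nt, (∀ x ∈ X i, (σ g)⁻¹ * x * σ g ∈ U) ∨
    ∀ x ∈ X i, (σ (n i) * σ g)⁻¹ * x * (σ (n i) * σ g) ∈ U
  rank_one : ∀ i, ∀ x : U, (x : G) ∈ X i → x ≠ 1 → ∃ x1 x2 : U, ∃ h ∈ Ht,
    (x2 : G) ∈ X i ∧ n i * s x * (n i)⁻¹ = s x1 * h * n i * s x2
  disj : ∀ g ∈ Nt, σ g ∈ U → g ∈ Ht ∧ σ g = 1
  gen : Subgroup.closure ((U : Set G) ∪ σ '' Nt) = ⊤
  Nt_gen : Nt ≤ Subgroup.closure (Set.range n ∪ Ht)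

theorem Data.ker_le {U : Subgroup G} {s : U →* Γ} {Ht Nt : Subgroup Γ} {n : ι → Γ} {X : ι → Subgroup G}
    (D : Data σ U s Ht Nt n X) (hc : σ.ker ≤ Subgroup.center Γ) (hd : σ.ker ≤ commutator Γ) :
    σ.ker ≤ Ht := by
  let M : Set Γ := {g | ∃ u : U, ∃ a ∈ Nt, ∃ v : U, g = s u * a * s v}
  have hM1 : (1 : Γ) ∈ M := ⟨1, 1, one_mem _, 1, by simp⟩
  have hMs : ∀ (w : U), ∀ g ∈ M, s w * g ∈ M := by
    rintro w g ⟨u, a, ha, v, rfl⟩
    exact ⟨w * u, a, ha, v, by rw [map_mul]; group⟩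
  have hMh : ∀ h ∈ Ht, ∀ g ∈ M, h * g ∈ M := by
    rintro h hh g ⟨u, a, ha, v, rfl⟩
    refine ⟨⟨_, D.H_norm h hh u u.2⟩, h * a, mul_mem (D.H_le hh) ha, v, ?_⟩
    rw [← D.conj_s h u ⟨_, D.H_norm h hh u u.2⟩ rfl]
    group
  have hMn : ∀ i, ∀ g ∈ M, n i * g ∈ M := by
    rintro i g ⟨u, a, ha, v, rfl⟩
    obtain ⟨u', hu', x, hx, hux, hn⟩ := D.split i u u.2
    have hxU := D.X_le i hx
    have hu : u = (⟨u', hu'⟩ : U) * ⟨x, hxU⟩ := Subtype.ext hux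
    have e0 := D.conj_s (n i) ⟨u', hu'⟩ ⟨_, hn⟩ rfl
    have key : ∀ g' ∈ M, n i * s ⟨u', hu'⟩ * (n i)⁻¹ * g' ∈ M := fun g' hg' => by
      rw [e0]; exact hMs _ _ hg'
    rw [show n i * (s u * a * s v) = n i * s ⟨u', hu'⟩ * (n i)⁻¹ * (n i * s ⟨x, hxU⟩ * a * s v) by
      rw [hu, map_mul]; group]
    refine key _ ?_
    by_cases hx1 : x = 1
    · refine ⟨1, n i * a, mul_mem (D.n_mem i) ha, v, ?_⟩
      rw [show (⟨x, hxU⟩ : U) = 1 from Subtype.ext hx1, map_one]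
      group
    rcases D.side i a ha with hA | hB
    · refine ⟨1, n i * a, mul_mem (D.n_mem i) ha, ⟨_, hA x hx⟩ * v, ?_⟩
      have e := D.conj_s a⁻¹ ⟨x, hxU⟩ ⟨_, hA x hx⟩ (by simp)
      rw [map_mul, ← e, map_one]
      group
    · obtain ⟨x1, x2, h, hh, hx2, e1⟩ := D.rank_one i ⟨x, hxU⟩ hx fun e => hx1 (congrArg Subtype.val e)
      refine ⟨x1, h * n i * (n i * a), mul_mem (mul_mem (D.H_le hh) (D.n_mem i)) (mul_mem (D.n_mem i) ha),
        ⟨_, hB x2 hx2⟩ * v, ?_⟩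
      have e := D.conj_s (n i * a)⁻¹ x2 ⟨_, hB x2 hx2⟩ (by simp)
      rw [map_mul, ← e]
      calc n i * s ⟨x, hxU⟩ * a * s v = (n i * s ⟨x, hxU⟩ * (n i)⁻¹) * (n i * a) * s v := by group
        _ = _ := by rw [e1]; group
  obtain ⟨L, hL⟩ : ∃ L, L = Subgroup.closure (Set.range s ∪ (Set.range n ∪ (Ht : Set Γ))) := ⟨_, rfl⟩
  have hLM : ∀ g ∈ L, g ∈ M := by
    intro g hg
    rw [hL] at hg
    suffices ∀ m ∈ M, g * m ∈ M by simpa using this 1 hM1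
    rw [← Subgroup.mem_toSubmonoid, Subgroup.closure_toSubmonoid_of_finite] at hg
    induction hg using Submonoid.closure_induction with
    | mem x hx =>
      intro m hm
      rcases hx with ⟨w, rfl⟩ | ⟨i, rfl⟩ | hx
      · exact hMs w m hm
      · exact hMn i m hm
      · exact hMh x hx m hm
    | one => intro m hm; rwa [one_mul]
    | mul a b _ _ iha ihb => intro m hm; rw [mul_assoc]; exact iha _ (ihb m hm)
  have hNL : Nt ≤ L := hL ▸ D.Nt_gen.trans (Subgroup.closure_mono Set.subset_union_right)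
  have hσL : L.map σ = ⊤ := by
    refine top_le_iff.1 (D.gen ▸ (Subgroup.closure_le _).2 ?_)
    rintro g (hg | ⟨a, ha, rfl⟩)
    · exact ⟨s ⟨g, hg⟩, hL ▸ Subgroup.subset_closure (Or.inl ⟨_, rfl⟩), D.σs _⟩
    · exact ⟨a, hNL ha, rfl⟩
  have hΓ : ∀ g : Γ, g ∈ L := by
    have hdec : ∀ g : Γ, ∃ l ∈ L, ∃ z ∈ σ.ker, g = l * z := fun g => by
      obtain ⟨l, hl, he⟩ : σ g ∈ L.map σ := hσL ▸ Subgroup.mem_top _
      exact ⟨l, hl, l⁻¹ * g, by rw [MonoidHom.mem_ker, map_mul, map_inv, he, inv_mul_cancel], by group⟩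
    have hcL : commutator Γ ≤ L := by
      rw [commutator_def, Subgroup.commutator_le]
      intro a _ b _
      obtain ⟨la, hla, za, hza, rfl⟩ := hdec a
      obtain ⟨lb, hlb, zb, hzb, rfl⟩ := hdec b
      have ca : ∀ g : Γ, g * za = za * g := Subgroup.mem_center_iff.1 (hc hza)
      have cb : ∀ g : Γ, g * zb = zb * g := Subgroup.mem_center_iff.1 (hc hzb)
      rw [show ⁅la * za, lb * zb⁆ = ⁅la, lb⁆ by
        rw [commutatorElement_def, commutatorElement_def, _root_.mul_inv_rev, _root_.mul_inv_rev,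
          mul_assoc la za (lb * zb), ← ca (lb * zb), show la * (lb * zb * za) * (za⁻¹ * la⁻¹) * (zb⁻¹ * lb⁻¹) =
            la * lb * (zb * la⁻¹) * (zb⁻¹ * lb⁻¹) by group, ← cb la⁻¹]
        group]
      exact mul_mem (mul_mem (mul_mem hla hlb) (inv_mem hla)) (inv_mem hlb)
    intro g
    obtain ⟨l, hl, z, hz, rfl⟩ := hdec g
    exact mul_mem hl (hcL (hd hz))
  intro z hz
  obtain ⟨u, a, ha, v, rfl⟩ := hLM z (hΓ z)
  have hz' : (u : G) * σ a * v = 1 := by rw [MonoidHom.mem_ker, map_mul, map_mul, D.σs, D.σs] at hz; exact hz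
  have ha' : σ a = (u : G)⁻¹ * (v : G)⁻¹ := by
    rw [eq_inv_mul_iff_mul_eq, eq_inv_iff_mul_eq_one]; exact hz'
  obtain ⟨haH, ha1⟩ := D.disj a ha (ha' ▸ mul_mem (inv_mem u.2) (inv_mem v.2))
  rw [ha1, mul_one] at hz'
  have hac : Commute (s u) a := Subgroup.mem_center_iff.1 (hc (show a ∈ σ.ker from ha1)) (s u)
  rw [hac.eq, mul_assoc, ← map_mul, show u * v = 1 from Subtype.ext hz', map_one, mul_one]
  exact haH

end Cfsg.Agent.Solv.SplitBNRank
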