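import Cfsg.Agent.Lib.Char.Central
import Cfsg.Agent.Lib.Char.Linear
import Cfsg.Agent.Lib.Char.Ortho
import Cfsg.Agent.Lib.Solv.UniqueSub

/-! The number of orbits of the automorphism group on a nonabelian group. -/

set_option autoImplicit false
set_option linter.style.haveILetI false

namespace Cfsg.Agent.Solv.AutOrb

open MulAction Subgroup
open scoped commutatorElement

variable {G : Type*} [Group G] [Finite G]

/-- weighted counting of orbits -/
theorem weight_count (q : ℕ) (w : G → ℕ) (h : ∀ g : G, q ≤ w g * Nat.card (orbit (MulAut G) g)) :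
    q * Nat.card (orbitRel.Quotient (MulAut G) G) ≤ ∑ᶠ g, w g := by
  classical
  have := Fintype.ofFinite G
  have := Fintype.ofFinite (orbitRel.Quotient (MulAut G) G)
  rw [finsum_eq_sum_of_fintype, Nat.card_eq_fintype_card,
    ← Finset.sum_fiberwise Finset.univ (fun g => (Quotient.mk'' g : orbitRel.Quotient (MulAut G) G)) w]
  calc q * Fintype.card (orbitRel.Quotient (MulAut G) G)
      = ∑ _o : orbitRel.Quotient (MulAut G) G, q := by rw [Finset.sum_const, smul_eq_mul, mul_comm]; rfl
    _ ≤ _ := Finset.sum_le_sum fun o _ => ?_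
  induction o using Quotient.inductionOn' with
  | _ g =>
    set s := Finset.univ.filter (fun x : G =>
      (Quotient.mk'' x : orbitRel.Quotient (MulAut G) G) = Quotient.mk'' g) with hs
    have hmem : ∀ x : G, x ∈ s ↔ x ∈ orbit (MulAut G) g := fun x => by
      rw [hs, Finset.mem_filter, and_iff_right (Finset.mem_univ x), Quotient.eq'']
      exact orbitRel_apply
    have hsc : s.card = Nat.card (orbit (MulAut G) g) := by
      rw [← Nat.card_eq_finsetCard]
      exact Nat.card_congr (Equiv.subtypeEquivRight hmem)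
    have hpos : 0 < s.card := Finset.card_pos.2 ⟨g, (hmem g).2 (mem_orbit_self g)⟩
    refine Nat.le_of_mul_le_mul_left ?_ hpos
    rw [Finset.mul_sum]
    calc s.card * q = ∑ _x ∈ s, q := by rw [Finset.sum_const, smul_eq_mul]
      _ ≤ _ := Finset.sum_le_sum fun x hx => by
        rw [mul_comm, hsc, ← orbit_eq_iff.2 ((hmem x).1 hx)]
        exact h x

theorem exists_reps {q : ℕ} (A : Subgroup G) (a b : ℕ) (hab : b ≤ a)
    (ha : ∀ g ∈ A, q ≤ a * Nat.card (orbit (MulAut G) g))
    (hb : ∀ g ∉ A, q ≤ b * Nat.card (orbit (MulAut G) g)) :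
    q * Nat.card (orbitRel.Quotient (MulAut G) G) ≤ b * Nat.card G + (a - b) * Nat.card A := by
  classical
  have := Fintype.ofFinite G
  refine (weight_count q (fun g => if g ∈ A then a else b) fun g => ?_).trans (le_of_eq ?_)
  · split_ifs with h
    · exact ha g h
    · exact hb g h
  · rw [finsum_eq_sum_of_fintype]
    have e : ∀ g : G, (if g ∈ A then a else b) = b + (if g ∈ A then a - b else 0) := fun g => by
      split_ifs <;> omega
    simp only [e, Finset.sum_add_distrib, Finset.sum_const, Finset.card_univ, smul_eq_mul, ← Finset.sum_filter]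
    rw [Nat.card_eq_fintype_card, Nat.card_eq_fintype_card, Fintype.card_subtype]
    ring

theorem three_weights {q : ℕ} (A B : Subgroup G) (hAB : A ≤ B) (a b c : ℕ) (hcb : c ≤ b) (hba : b ≤ a)
    (ha : ∀ g ∈ A, q ≤ a * Nat.card (orbit (MulAut G) g))
    (hb : ∀ g ∈ B, g ∉ A → q ≤ b * Nat.card (orbit (MulAut G) g))
    (hc : ∀ g ∉ B, q ≤ c * Nat.card (orbit (MulAut G) g)) :
    q * Nat.card (orbitRel.Quotient (MulAut G) G) ≤ c * Nat.card G + (b - c) * Nat.card B + (a - b) * Nat.card A := by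
  classical
  have := Fintype.ofFinite G
  refine (weight_count q (fun g => if g ∈ A then a else if g ∈ B then b else c) fun g => ?_).trans (le_of_eq ?_)
  · split_ifs with h h'
    · exact ha g h
    · exact hb g h' h
    · exact hc g h'
  · rw [finsum_eq_sum_of_fintype]
    have e : ∀ g : G, (if g ∈ A then a else if g ∈ B then b else c) =
        c + (if g ∈ B then b - c else 0) + (if g ∈ A then a - b else 0) := fun g => by
      by_cases h : g ∈ A
      · have := hAB h
        simp only [h, this, if_true]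
        omega
      · simp only [h, if_false]
        split_ifs <;> omega
    simp only [e, Finset.sum_add_distrib, Finset.sum_const, Finset.card_univ, smul_eq_mul, ← Finset.sum_filter]
    rw [Nat.card_eq_fintype_card, Nat.card_eq_fintype_card, Nat.card_eq_fintype_card, Fintype.card_subtype,
      Fintype.card_subtype]
    ring

/-- class-number bound -/
theorem conjClasses_bound {q : ℕ} (hq : q = (Nat.card G).minFac) (hd : q < Nat.card (commutator G)) :
    q * Nat.card (ConjClasses G) ≤ Nat.card G := by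
  classical
  have := Fintype.ofFinite G
  rw [← Char.card_irr]
  have hsum : ∑ χ : Cfsg.IrrCharacter G, (Cfsg.Agent.Char.deg (χ : G → ℂ)) ^ 2 = Nat.card G := by
    have h := Char.sum_sq_deg (G := G)
    simp only [Char.char_one_eq_deg (Char.irr_isCharacter (Subtype.prop _))] at h
    exact_mod_cast h
  have hlin := Char.card_linear (G := G)
  set L := Finset.univ.filter (fun χ : Cfsg.IrrCharacter G => (χ : G → ℂ) 1 = 1) with hL
  have hLc : L.card = (commutator G).index := by
    rw [← hlin, Nat.card_eq_fintype_card, Fintype.card_subtype]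
  have hge : ∀ χ ∈ Finset.univ.filter (fun χ : Cfsg.IrrCharacter G => ¬ (χ : G → ℂ) 1 = 1),
      q * q ≤ (Cfsg.Agent.Char.deg (χ : G → ℂ)) ^ 2 := by
    intro χ hχ
    rw [Finset.mem_filter] at hχ
    have h1 : Cfsg.Agent.Char.deg (χ : G → ℂ) ≠ 1 := fun e => hχ.2 (by
      rw [Char.char_one_eq_deg (Char.irr_isCharacter χ.2), e, Nat.cast_one])
    have h2 := Char.deg_pos χ.2
    have h3 : q ≤ Cfsg.Agent.Char.deg (χ : G → ℂ) := by
      rw [hq]; exact Nat.minFac_le_of_dvd (by omega) (Char.deg_dvd_card χ.2)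
    rw [pow_two]; exact Nat.mul_le_mul h3 h3
  have hsplit := Finset.sum_filter_add_sum_filter_not (Finset.univ : Finset (Cfsg.IrrCharacter G))
    (fun χ => (χ : G → ℂ) 1 = 1) (fun χ => (Cfsg.Agent.Char.deg (χ : G → ℂ)) ^ 2)
  rw [hsum] at hsplit
  have hone : ∑ χ ∈ L, (Cfsg.Agent.Char.deg (χ : G → ℂ)) ^ 2 = L.card := by
    rw [Finset.card_eq_sum_ones]
    refine Finset.sum_congr rfl fun χ hχ => ?_
    rw [hL, Finset.mem_filter] at hχ
    have h1 := hχ.2
    rw [Char.char_one_eq_deg (Char.irr_isCharacter χ.2)] at h1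
    have : Cfsg.Agent.Char.deg (χ : G → ℂ) = 1 := by exact_mod_cast h1
    rw [this, one_pow]
  have hrest := Finset.card_nsmul_le_sum _ _ _ hge
  rw [smul_eq_mul] at hrest
  rw [← hL, hone] at hsplit
  have hk := Finset.card_filter_add_card_filter_not (s := (Finset.univ : Finset (Cfsg.IrrCharacter G)))
    (fun χ : Cfsg.IrrCharacter G => (χ : G → ℂ) 1 = 1)
  rw [Finset.card_univ, ← Nat.card_eq_fintype_card, ← hL] at hk
  set R := (Finset.univ.filter (fun χ : Cfsg.IrrCharacter G => ¬ (χ : G → ℂ) 1 = 1)).card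
  have hn : Nat.card G = Nat.card (commutator G) * L.card := by rw [hLc, Subgroup.card_mul_index]
  rw [← hk]
  have h1 : (q + 1) * L.card ≤ Nat.card G := hn ▸ Nat.mul_le_mul_right _ hd
  have hqpos : 0 < q := hq ▸ Nat.minFac_pos _
  refine Nat.le_of_mul_le_mul_left ?_ hqpos
  have h2 : L.card + R * (q * q) ≤ Nat.card G := by omega
  have h3 : (q - 1) * ((q + 1) * L.card) ≤ (q - 1) * Nat.card G := Nat.mul_le_mul_left _ h1
  obtain ⟨r, rfl⟩ : ∃ r, q = r + 1 := ⟨q - 1, by omega⟩
  rw [Nat.add_sub_cancel] at h3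
  nlinarith [h2, h3]

theorem orbit_ge_conjClass (g x : G) (h : IsConj g x) : x ∈ orbit (MulAut G) g := by
  obtain ⟨c, hc⟩ := isConj_iff.1 h
  exact ⟨MulAut.conj c, hc⟩

theorem quotient_le_conjClasses :
    Nat.card (orbitRel.Quotient (MulAut G) G) ≤ Nat.card (ConjClasses G) := by
  refine Nat.card_le_card_of_surjective (Quotient.map' id fun a b hab => ?_) ?_
  · exact orbitRel_apply.2 (orbit_ge_conjClass b a (IsConj.symm hab))
  · intro o
    induction o using Quotient.inductionOn' with
    | _ g => exact ⟨ConjClasses.mk g, rfl⟩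

/-- `b ^ i * z ^ (i choose 2)` -/
def psi (b z : G) (i : ℕ) : G := b ^ i * z ^ Nat.choose i 2

omit [Finite G] in
theorem comm_pow {b z g : G} (hzc : ∀ h : G, h * z = z * h) {k : ℕ} (hb : b * g = g * b * z ^ k) :
    ∀ n : ℕ, b ^ n * g = g * b ^ n * z ^ (n * k) := by
  intro n
  induction n with
  | zero => simp
  | succ n ih =>
    rw [pow_succ', mul_assoc b, ih, ← mul_assoc b, ← mul_assoc b, hb,
      mul_assoc (g * b), ← Commute.eq (show Commute (b ^ n) (z ^ k) from (Commute.pow_right (hzc _) k)),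
      Nat.succ_mul, pow_add (M := G) z (n * k) k]
    have hc : Commute (z ^ (n * k)) (z ^ k) := Commute.pow_pow (Commute.refl z) _ _
    rw [hc.eq]; group

omit [Finite G] in
theorem psi_add {b z : G} (hzc : ∀ h : G, h * z = z * h) (i : ℕ) :
    ∀ j : ℕ, psi b z i * psi b z j * z ^ (i * j) = psi b z (i + j) := by
  intro j
  have hz : ∀ k : ℕ, ∀ h : G, z ^ k * h = h * z ^ k := fun k h => ((Commute.pow_right (hzc h) k)).eq.symm
  unfold psi
  have e : Nat.choose (i + j) 2 = Nat.choose i 2 + Nat.choose j 2 + i * j := by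
    induction j with
    | zero => simp
    | succ j ih =>
      rw [← add_assoc, Nat.choose_succ_succ' (i + j) 1, Nat.choose_one_right, ih,
        Nat.choose_succ_succ' j 1, Nat.choose_one_right]
      ring
  rw [e, pow_add, pow_add, pow_add]
  calc b ^ i * z ^ Nat.choose i 2 * (b ^ j * z ^ Nat.choose j 2) * z ^ (i * j)
      = b ^ i * (z ^ Nat.choose i 2 * b ^ j) * z ^ Nat.choose j 2 * z ^ (i * j) := by group
    _ = _ := by rw [hz _ (b ^ j)]; group

omit [Finite G] in
theorem psi_mod {b z : G} {q : ℕ} (hzc : ∀ h : G, h * z = z * h) (hzq : z ^ q = 1)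
    (hbq : psi b z q = 1) {i j : ℕ} (h : i % q = j % q) : psi b z i = psi b z j := by
  have hadd : ∀ t k : ℕ, psi b z (t + q * k) = psi b z t := by
    intro t k
    induction k with
    | zero => simp
    | succ k ih =>
      rw [Nat.mul_succ, ← add_assoc, ← psi_add hzc, hbq, ih, mul_one, mul_comm (t + q * k), pow_mul, hzq,
        one_pow, mul_one]
  rw [← Nat.mod_add_div i q, ← Nat.mod_add_div j q, hadd, hadd, h]

omit [Finite G] in
theorem index_pow {q : ℕ} (i : G → ℕ) (hadd : ∀ g h, i (g * h) % q = (i g + i h) % q) (x : G) :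
    ∀ n : ℕ, i (x ^ n) % q = n * i x % q := by
  have h1 : i 1 % q = 0 := by
    have h := hadd 1 1
    rw [mul_one] at h
    have h' : i 1 + i 1 ≡ i 1 + 0 [MOD q] := by rw [add_zero]; exact h.symm
    simpa [Nat.ModEq] using Nat.ModEq.add_left_cancel' _ h'
  intro n
  induction n with
  | zero => simpa using h1
  | succ n ih => rw [pow_succ, hadd, Nat.add_mod, ih, ← Nat.add_mod, Nat.succ_mul]

/-- the twisting automorphism and the orbit elements it gives -/
theorem twist (b z : G) (q : ℕ) (i : G → ℕ) (hzc : ∀ h : G, h * z = z * h) (hzq : z ^ q = 1)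
    (hb : ∀ h : G, b * h = h * b * z ^ i h) (hib : i b % q = 0) (hiz : i z % q = 0)
    (hadd : ∀ g h, i (g * h) % q = (i g + i h) % q) (hbq : psi b z q = 1) (g : G) (m : ℕ) :
    g * psi b z (i g) ^ m ∈ orbit (MulAut G) g := by
  have hψ0 : ∀ n : ℕ, i (psi b z n) % q = 0 := fun n => by
    rw [psi, hadd, Nat.add_mod, index_pow i hadd, index_pow i hadd]
    simp [Nat.mul_mod, hib, hiz]
  let θ : G →* G := MonoidHom.mk' (fun g => g * psi b z (i g)) (fun g h => by
    show g * h * psi b z (i (g * h)) = g * psi b z (i g) * (h * psi b z (i h))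
    rw [psi_mod hzc hzq hbq (hadd g h), ← psi_add hzc]
    have hz : ∀ k : ℕ, ∀ y : G, z ^ k * y = y * z ^ k := fun k y => ((Commute.pow_right (hzc y) k)).eq.symm
    have hmove : psi b z (i g) * h = h * psi b z (i g) * z ^ (i g * i h) := by
      unfold psi
      rw [mul_assoc, hz _ h, ← mul_assoc, comm_pow hzc (hb h), mul_assoc, ← pow_add, add_comm, pow_add,
        ← mul_assoc, ← mul_assoc]
    calc g * h * (psi b z (i g) * psi b z (i h) * z ^ (i g * i h))
        = g * (h * psi b z (i g)) * (psi b z (i h) * z ^ (i g * i h)) := by group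
      _ = g * (h * psi b z (i g)) * (z ^ (i g * i h) * psi b z (i h)) := by rw [hz]
      _ = g * (psi b z (i g) * h) * psi b z (i h) := by rw [hmove]; group
      _ = _ := by group)
  have hinj : Function.Injective θ := by
    refine (injective_iff_map_eq_one θ).2 fun g hg => ?_
    have hg' : g * psi b z (i g) = 1 := hg
    have hg0 : i g % q = 0 := by
      have h := hadd g (psi b z (i g))
      rw [hg', Nat.add_mod, hψ0, add_zero, Nat.mod_mod] at h
      rw [← h]
      have := index_pow i hadd (1 : G) 0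
      simpa using this
    rw [psi_mod hzc hzq hbq (i := i g) (j := 0) (by simpa using hg0)] at hg'
    simpa [psi] using hg'
  let e : MulAut G := MulEquiv.ofBijective θ (Finite.injective_iff_bijective.1 hinj)
  have hfix : ∀ n, e (psi b z n) = psi b z n := fun n => by
    show psi b z n * psi b z (i (psi b z n)) = psi b z n
    rw [psi_mod hzc hzq hbq (i := i (psi b z n)) (j := 0) (by simpa using hψ0 n)]
    simp [psi]
  refine ⟨e ^ m, ?_⟩
  show (e ^ m) g = _
  induction m with
  | zero => simp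
  | succ m ih =>
    rw [pow_succ', MulAut.mul_apply, ih, map_mul, map_pow, hfix, pow_succ', ← mul_assoc]
    rfl

/-- a subgroup of index `q` avoiding `x`, with exponent of the coset -/
theorem exists_index {q : ℕ} (hq : q.Prime) (A : Subgroup G) (hcomm : commutator G ≤ A) (hpow : ∀ g : G, g ^ q ∈ A)
    {x : G} (hx : x ∉ A) :
    ∃ i : G → ℕ, (∀ g h, i (g * h) % q = (i g + i h) % q) ∧ (∀ a ∈ A, i a % q = 0) ∧ i x % q = 1 % q := by
  classical
  obtain ⟨K, ⟨hAK, hxK⟩, hmax⟩ := (Set.toFinite {K : Subgroup G | A ≤ K ∧ x ∉ K}).exists_maximal ⟨A, le_rfl, hx⟩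
  haveI hKn : K.Normal := ⟨fun a ha g => by
    have h1 : g * a * g⁻¹ * a⁻¹ ∈ K := hAK (hcomm (Subgroup.commutator_mem_commutator (Subgroup.mem_top g) (Subgroup.mem_top a)))
    simpa using mul_mem h1 ha⟩
  have hxq : ∀ t : ℕ, x ^ t ∈ K → q ∣ t := by
    intro t ht
    by_contra hnd
    obtain ⟨u, v, huv⟩ : IsCoprime (t : ℤ) (q : ℤ) :=
      Nat.isCoprime_iff_coprime.2 ((Nat.coprime_comm).1 (hq.coprime_iff_not_dvd.2 hnd))
    apply hxK
    rw [← zpow_one x, ← huv, zpow_add, mul_comm u, mul_comm v, zpow_mul, zpow_mul, zpow_natCast, zpow_natCast]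
    exact mul_mem (zpow_mem ht u) (zpow_mem (hAK (hpow x)) v)
  have hex : ∀ g : G, ∃ t : ℕ, g * (x ^ t)⁻¹ ∈ K := by
    intro g
    by_cases hg : g ∈ K
    · exact ⟨0, by simpa using hg⟩
    have hxm : x ∈ K ⊔ Subgroup.zpowers g := by
      by_contra h
      exact hg (hmax ⟨hAK.trans le_sup_left, h⟩ le_sup_left (Subgroup.mem_sup_right (Subgroup.mem_zpowers g)))
    obtain ⟨k, hk, y, hy, hky⟩ := Subgroup.mem_sup_of_normal_left.1 hxm
    obtain ⟨s, rfl⟩ := Subgroup.mem_zpowers_iff.1 hy
    have hsq : ¬ (q : ℤ) ∣ s := by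
      rintro ⟨r, rfl⟩
      exact hxK (hky ▸ mul_mem hk (by rw [zpow_mul, zpow_natCast]; exact zpow_mem (hAK (hpow g)) r))
    obtain ⟨u, v, huv⟩ : IsCoprime s (q : ℤ) :=
      ((Nat.prime_iff_prime_int.1 hq).coprime_iff_not_dvd.2 hsq).symm
    obtain ⟨t, ht⟩ : ∃ t : ℕ, (q : ℤ) ∣ (t : ℤ) - u := ⟨(u % q).toNat, by
      rw [Int.toNat_of_nonneg (Int.emod_nonneg _ (by have := hq.pos; omega))]
      exact ⟨-(u / q), by linarith [Int.mul_ediv_add_emod u q]⟩⟩
    refine ⟨t, ?_⟩
    obtain ⟨r, hr⟩ := ht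
    rw [← QuotientGroup.eq_one_iff]
    have hxbar : (x : G ⧸ K) = (g : G ⧸ K) ^ s := by
      rw [← hky, QuotientGroup.mk_mul, (QuotientGroup.eq_one_iff k).2 hk, one_mul, QuotientGroup.mk_zpow]
    have hgq : (g : G ⧸ K) ^ (q : ℤ) = 1 := by
      rw [zpow_natCast, ← QuotientGroup.mk_pow]; exact (QuotientGroup.eq_one_iff _).2 (hAK (hpow g))
    rw [QuotientGroup.mk_mul, QuotientGroup.mk_inv, QuotientGroup.mk_pow, hxbar, mul_inv_eq_one,
      ← zpow_natCast, ← zpow_mul, show s * (t : ℤ) = 1 + (q : ℤ) * (s * r - v) by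
        linear_combination huv + s * hr, zpow_add, zpow_one, zpow_mul, hgq, one_zpow, mul_one]
  choose i hi using hex
  have huniq : ∀ (t t' : ℕ) (g : G), g * (x ^ t)⁻¹ ∈ K → g * (x ^ t')⁻¹ ∈ K → t % q = t' % q := by
    have key : ∀ (t t' : ℕ) (g : G), t ≤ t' → g * (x ^ t)⁻¹ ∈ K → g * (x ^ t')⁻¹ ∈ K → t % q = t' % q := by
      intro t t' g hle h1 h2
      obtain ⟨d, rfl⟩ := Nat.exists_eq_add_of_le hle
      have h3 := mul_mem (inv_mem h2) h1
      rw [show (g * (x ^ (t + d))⁻¹)⁻¹ * (g * (x ^ t)⁻¹) = x ^ d by rw [add_comm, pow_add]; group] at h3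
      obtain ⟨c, rfl⟩ := hxq d h3
      rw [Nat.add_mul_mod_self_left]
    intro t t' g h1 h2
    rcases le_total t t' with h | h
    · exact key t t' g h h1 h2
    · exact (key t' t g h h2 h1).symm
  refine ⟨i, fun g h => huniq _ _ _ (hi (g * h)) ?_, fun a ha => ?_, huniq _ _ _ (hi x) (by simp)⟩
  · have h1 := mul_mem (hi g) (hKn.conj_mem _ (hi h) (x ^ i g))
    rw [show g * (x ^ i g)⁻¹ * (x ^ i g * (h * (x ^ i h)⁻¹) * (x ^ i g)⁻¹) =
      g * h * (x ^ (i g + i h))⁻¹ by rw [add_comm, pow_add]; group] at h1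
    exact h1
  · rw [huniq _ 0 _ (hi a) (by simpa using hAK ha), Nat.zero_mod]

theorem class_eq_coset {q : ℕ} (hqp : q.Prime) (hq : q = (Nat.card G).minFac) (hc : Nat.card (commutator G) = q)
    (g : G) (hg : g ∉ center G) {y : G} (hy : y ∈ commutator G) : IsConj g (g * y) := by
  haveI : Fact q.Prime := ⟨hqp⟩
  let f : {x : G // IsConj g x} → commutator G := fun x => ⟨g⁻¹ * x.1, by
    obtain ⟨c, hc⟩ := isConj_iff.1 x.2
    rw [← hc, show g⁻¹ * (c * g * c⁻¹) = g⁻¹ * c * g⁻¹⁻¹ * c⁻¹ by group]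
    exact Subgroup.commutator_mem_commutator (Subgroup.mem_top _) (Subgroup.mem_top _)⟩
  have hf : Function.Injective f := fun a b h => Subtype.ext (mul_left_cancel (congrArg Subtype.val h))
  have hle := Nat.card_le_card_of_injective f hf
  have hidx := Char.card_conjClass_eq_index g
  have h1 : (Subgroup.centralizer ({g} : Set G)).index ≠ 1 := by
    rw [Ne, Subgroup.index_eq_one]
    intro h
    exact hg (Subgroup.mem_center_iff.2 fun k => (Subgroup.mem_centralizer_singleton_iff.1 (h.ge (Subgroup.mem_top k))))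
  have h2 : q ≤ (Subgroup.centralizer ({g} : Set G)).index := by
    rw [hq]
    exact Nat.minFac_le_of_dvd (by have := Subgroup.index_ne_zero_of_finite (H := Subgroup.centralizer ({g} : Set G)); omega)
      (Subgroup.index_dvd_card _)
  have hbij : Function.Bijective f := (Nat.bijective_iff_injective_and_card f).2 ⟨hf, by omega⟩
  obtain ⟨a, ha⟩ := hbij.2 ⟨y, hy⟩
  have : a.1 = g * y := inv_mul_eq_iff_eq_mul.1 (congrArg Subtype.val ha)
  exact this ▸ a.2

theorem orbit_card_pos (g : G) : 1 ≤ Nat.card (orbit (MulAut G) g) := by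
  haveI : Nonempty (orbit (MulAut G) g) := ⟨⟨g, mem_orbit_self g⟩⟩
  exact Nat.card_pos

theorem orbit_card_ge {ι : Type*} [Finite ι] (g : G) (f : ι → G) (hf : Function.Injective f)
    (h : ∀ a, f a ∈ orbit (MulAut G) g) : Nat.card ι ≤ Nat.card (orbit (MulAut G) g) :=
  Nat.card_le_card_of_injective (fun a => (⟨f a, h a⟩ : orbit (MulAut G) g))
    fun _ _ e => hf (congrArg Subtype.val e)

omit [Finite G] in
theorem mul_pow_choose {a b z : G} (hzc : ∀ h : G, h * z = z * h) {k : ℕ} (hb : b * a = a * b * z ^ k) :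
    ∀ n : ℕ, (a * b) ^ n = a ^ n * b ^ n * z ^ (k * Nat.choose n 2) := by
  intro n
  induction n with
  | zero => simp
  | succ n ih =>
    have hzk : ∀ (j : ℕ) (h : G), z ^ j * h = h * z ^ j := fun j h => (Commute.pow_right (hzc h) j).eq.symm
    rw [pow_succ (a * b) n, ih, Nat.choose_succ_succ' n 1, Nat.choose_one_right,
      show k * (n + Nat.choose n 2) = n * k + k * Nat.choose n 2 by ring, pow_add]
    calc a ^ n * b ^ n * z ^ (k * Nat.choose n 2) * (a * b)
        = a ^ n * b ^ n * (a * b) * z ^ (k * Nat.choose n 2) := by rw [mul_assoc _ _ (a * b), hzk, ← mul_assoc]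
      _ = a ^ n * (b ^ n * a) * b * z ^ (k * Nat.choose n 2) := by group
      _ = a ^ n * (a * b ^ n * z ^ (n * k)) * b * z ^ (k * Nat.choose n 2) := by rw [comm_pow hzc hb]
      _ = a ^ n * (a * b ^ n * (z ^ (n * k) * b)) * z ^ (k * Nat.choose n 2) := by group
      _ = _ := by rw [hzk (n * k) b, pow_succ, pow_succ, pow_add]; group

theorem class_card_le {q : ℕ} (hc : Nat.card (commutator G) = q) (g : G) :
    (Subgroup.centralizer ({g} : Set G)).index ≤ q := by
  rw [← Char.card_conjClass_eq_index g, ← hc]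
  exact Nat.card_le_card_of_injective (fun x : {x : G // IsConj g x} => (⟨g⁻¹ * x.1, by
    obtain ⟨c, hc⟩ := isConj_iff.1 x.2
    rw [← hc, show g⁻¹ * (c * g * c⁻¹) = g⁻¹ * c * g⁻¹⁻¹ * c⁻¹ by group]
    exact Subgroup.commutator_mem_commutator (Subgroup.mem_top _) (Subgroup.mem_top _)⟩ : commutator G))
    fun a b h => Subtype.ext (mul_left_cancel (congrArg Subtype.val h))

universe u

theorem orbit_bound : ∀ (n : ℕ) (G : Type u) [Group G] [Finite G], Nat.card G = n →
    ¬ IsMulCommutative G → (Nat.card G).minFac * Nat.card (orbitRel.Quotient (MulAut G) G) ≤ Nat.card G := by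
  intro n
  induction n using Nat.strong_induction_on with
  | _ n IH =>
  intro G _ _ hn hna
  classical
  set q := (Nat.card G).minFac with hq
  have hN1 : Nat.card G ≠ 1 := fun h => hna (by
    haveI : Subsingleton G := (Nat.card_eq_one_iff_unique.1 h).1
    exact ⟨⟨fun a b => Subsingleton.elim _ _⟩⟩)
  have hqp : q.Prime := Nat.minFac_prime hN1
  haveI : Fact q.Prime := ⟨hqp⟩
  by_cases hbig : q < Nat.card (commutator G)
  · exact (Nat.mul_le_mul_left q quotient_le_conjClasses).trans (conjClasses_bound hq hbig)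
  have hC1 : Nat.card (commutator G) ≠ 1 := fun h => hna (by
    have hb : commutator G = ⊥ := Subgroup.eq_bot_of_card_eq _ h
    refine ⟨⟨fun a c => ?_⟩⟩
    have : ⁅a, c⁆ ∈ commutator G := Subgroup.commutator_mem_commutator (Subgroup.mem_top a) (Subgroup.mem_top c)
    rw [hb, Subgroup.mem_bot] at this
    exact commutatorElement_eq_one_iff_mul_comm.1 this)
  have hC : Nat.card (commutator G) = q := by
    have := Nat.minFac_le_of_dvd (by have := Nat.card_pos (α := commutator G); omega) (Subgroup.card_subgroup_dvd_card (commutator G))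
    omega
  have hcz : commutator G ≤ center G := by
    intro y hy
    by_contra hyz
    have h := class_eq_coset hqp hq hC y hyz (inv_mem hy)
    rw [mul_inv_cancel] at h
    exact hyz (by rw [isConj_one_left.1 h]; exact one_mem _)
  obtain ⟨a0, c0, hac⟩ : ∃ a c : G, a * c ≠ c * a := by
    by_contra h; push Not at h; exact hna ⟨⟨h⟩⟩
  set z := ⁅a0, c0⁆ with hz
  have hzC : z ∈ commutator G := Subgroup.commutator_mem_commutator (Subgroup.mem_top _) (Subgroup.mem_top _)
  have hz1 : z ≠ 1 := fun h => hac (commutatorElement_eq_one_iff_mul_comm.1 h)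
  have hzq : z ^ q = 1 := by
    have := pow_card_eq_one' (x := (⟨z, hzC⟩ : commutator G))
    rw [hC] at this
    exact congrArg Subtype.val this
  have hzo : orderOf z = q := orderOf_eq_prime hzq hz1
  have hzgen : Subgroup.zpowers z = commutator G :=
    Subgroup.eq_of_le_of_card_ge (Subgroup.zpowers_le.2 hzC) (by rw [Nat.card_zpowers, hzo, hC])
  have hzc : ∀ h : G, h * z = z * h := fun h => Subgroup.mem_center_iff.1 (hcz hzC) h
  have hcom : ∀ b h : G, ∃ t : ℕ, b * h = h * b * z ^ t := by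
    intro b h
    have hm : (h * b)⁻¹ * (b * h) ∈ commutator G := by
      rw [show (h * b)⁻¹ * (b * h) = b⁻¹ * h⁻¹ * b⁻¹⁻¹ * h⁻¹⁻¹ by group]
      exact Subgroup.commutator_mem_commutator (Subgroup.mem_top _) (Subgroup.mem_top _)
    rw [← hzgen, ← mem_powers_iff_mem_zpowers] at hm
    obtain ⟨t, ht⟩ := hm
    exact ⟨t, by rw [show z ^ t = (h * b)⁻¹ * (b * h) from ht]; group⟩
  have hpowz : ∀ g : G, g ^ q ∈ center G := by
    intro g
    refine Subgroup.mem_center_iff.2 fun h => ?_
    obtain ⟨t, ht⟩ := hcom g h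
    rw [comm_pow hzc ht q, pow_mul, hzq, one_pow, mul_one]
  set N := Nat.card G with hN
  by_cases hOm : ∃ ω, ω ∈ center G ∧ ω ^ q = 1 ∧ ω ∉ commutator G
  · obtain ⟨ω, hωc, hωq, hωC⟩ := hOm
    set A := commutator G ⊔ Subgroup.closure (Set.range fun g : G => g ^ q) with hA
    have hpowA : ∀ g : G, g ^ q ∈ A := fun g => Subgroup.mem_sup_right (Subgroup.subset_closure ⟨g, rfl⟩)
    have hAz : A ≤ center G := sup_le hcz ((Subgroup.closure_le _).2 (by rintro _ ⟨g, rfl⟩; exact hpowz g))
    by_cases hsplit : ∃ w, w ∈ center G ∧ w ^ q = 1 ∧ w ∉ A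
    · obtain ⟨w, hwc, hwq, hwA⟩ := hsplit
      obtain ⟨i, hadd, hiA, hiw⟩ := exists_index hqp A le_sup_left hpowA hwA
      rw [Nat.mod_eq_of_lt hqp.one_lt] at hiw
      let f : G →* Multiplicative (ZMod q) := MonoidHom.mk' (fun g => Multiplicative.ofAdd (i g : ZMod q))
        (fun g h => by
          rw [← ofAdd_add, ← Nat.cast_add, Multiplicative.ofAdd.injective.eq_iff, ZMod.natCast_eq_natCast_iff']
          exact hadd g h)
      set K := f.ker with hK
      have hkm : ∀ g : G, g ∈ K ↔ i g % q = 0 := fun g => by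
        rw [hK, MonoidHom.mem_ker]
        show Multiplicative.ofAdd (i g : ZMod q) = 1 ↔ _
        rw [ofAdd_eq_one, ZMod.natCast_eq_zero_iff, Nat.dvd_iff_mod_eq_zero]
      have hwf : ∀ t : ℕ, w ^ t ∈ K → t % q = 0 := fun t ht => by
        rw [hkm, index_pow i hadd, Nat.mul_mod, hiw, mul_one, Nat.mod_mod] at ht
        exact ht
      have hsurj : Function.Surjective f := fun y => ⟨w ^ (Multiplicative.toAdd y).val, by
        apply Multiplicative.toAdd.injective
        show ((i (w ^ (Multiplicative.toAdd y).val) : ℕ) : ZMod q) = Multiplicative.toAdd y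
        rw [show ((i (w ^ (Multiplicative.toAdd y).val) : ℕ) : ZMod q) = (((Multiplicative.toAdd y).val : ℕ) : ZMod q) by
          rw [ZMod.natCast_eq_natCast_iff', index_pow i hadd, Nat.mul_mod, hiw, mul_one, Nat.mod_mod],
          ZMod.natCast_zmod_val]⟩
      have hKidx : K.index = q := by
        rw [hK, Subgroup.index_ker, MonoidHom.range_eq_top.2 hsurj, Subgroup.card_top,
          Nat.card_congr Multiplicative.toAdd, Nat.card_zmod]
      have hKcard : N = Nat.card K * q := by rw [hN, ← hKidx, Subgroup.card_mul_index]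
      have hdec : ∀ g : G, g * (w ^ i g)⁻¹ ∈ K := fun g => by
        have h := hadd (g * (w ^ i g)⁻¹) (w ^ i g)
        rw [inv_mul_cancel_right, Nat.add_mod, index_pow i hadd, Nat.mul_mod (i g) (i w), hiw, mul_one,
          Nat.mod_mod, ← Nat.add_mod] at h
        rw [hkm]
        have h' : i (g * (w ^ i g)⁻¹) + i g ≡ 0 + i g [MOD q] := by rw [zero_add]; exact h.symm
        simpa [Nat.ModEq] using Nat.ModEq.add_right_cancel' _ h'
      have hwz : ∀ (t : ℕ) (h : G), h * w ^ t = w ^ t * h := fun t h =>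
        (Subgroup.mem_center_iff.1 (pow_mem hwc t)) h
      have hKna : ¬ IsMulCommutative K := by
        intro hab
        apply hac
        obtain ⟨k, hk⟩ : ∃ k : K, (k : G) = a0 * (w ^ i a0)⁻¹ := ⟨⟨_, hdec a0⟩, rfl⟩
        obtain ⟨l, hl⟩ : ∃ l : K, (l : G) = c0 * (w ^ i c0)⁻¹ := ⟨⟨_, hdec c0⟩, rfl⟩
        have h : (k : G) * l = (l : G) * k := congrArg Subtype.val (hab.1.1 k l)
        have ea : a0 = k * w ^ i a0 := by rw [hk]; group
        have ec : c0 = l * w ^ i c0 := by rw [hl]; group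
        rw [ea, ec]
        calc (k : G) * w ^ i a0 * (l * w ^ i c0) = k * (w ^ i a0 * l) * w ^ i c0 := by group
          _ = k * l * (w ^ i a0 * w ^ i c0) := by rw [← hwz]; group
          _ = l * k * (w ^ i c0 * w ^ i a0) := by rw [h, ← pow_add, ← pow_add, add_comm]
          _ = l * (k * w ^ i c0) * w ^ i a0 := by group
          _ = _ := by rw [hwz (i c0) (k : G)]; group
      have hzK : z ∈ K := (hkm z).2 (hiA z (Subgroup.mem_sup_left hzC))
      have hqK : (Nat.card K).minFac = q := by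
        refine le_antisymm (Nat.minFac_le_of_dvd hqp.two_le ?_) ?_
        · have := orderOf_dvd_natCard (⟨z, hzK⟩ : K)
          rwa [← Subgroup.orderOf_coe, hzo] at this
        · rw [hq]
          have hK1 : Nat.card K ≠ 1 := fun h => hKna (by
            haveI : Subsingleton K := (Nat.card_eq_one_iff_unique.1 h).1
            exact ⟨⟨fun a b => Subsingleton.elim _ _⟩⟩)
          exact Nat.minFac_le_of_dvd (Nat.minFac_prime hK1).two_le ((Nat.minFac_dvd _).trans (Subgroup.card_subgroup_dvd_card K))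
      have hlt : Nat.card K < n := by
        rw [← hn, hKcard]
        exact lt_mul_of_one_lt_right Nat.card_pos hqp.one_lt
      have hind := IH _ hlt K rfl hKna
      rw [hqK] at hind
      let F : orbitRel.Quotient (MulAut K) K × Fin q → orbitRel.Quotient (MulAut G) G :=
        fun p => Quotient.liftOn' p.1 (fun k => Quotient.mk'' ((k : G) * w ^ (p.2 : ℕ))) (fun k k' hkk => by
          obtain ⟨α, hα⟩ := orbitRel_apply.1 hkk
          let φ : G →* G := MonoidHom.mk' (fun g => (α ⟨_, hdec g⟩ : G) * w ^ i g) (fun g h => by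
            have hw : w ^ i (g * h) = w ^ i g * w ^ i h := by
              rw [← pow_add, pow_eq_pow_mod _ hwq, hadd g h, ← pow_eq_pow_mod _ hwq]
            have e : (⟨_, hdec (g * h)⟩ : K) = ⟨_, hdec g⟩ * ⟨_, hdec h⟩ := by
              apply Subtype.ext
              show g * h * (w ^ i (g * h))⁻¹ = g * (w ^ i g)⁻¹ * (h * (w ^ i h)⁻¹)
              rw [hw, mul_inv_rev]
              calc g * h * ((w ^ i h)⁻¹ * (w ^ i g)⁻¹) = g * ((h * (w ^ i h)⁻¹) * (w ^ i g)⁻¹) := by group
                _ = _ := by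
                  rw [show (h * (w ^ i h)⁻¹) * (w ^ i g)⁻¹ = (w ^ i g)⁻¹ * (h * (w ^ i h)⁻¹) from
                    (Commute.inv_right (hwz (i g) (h * (w ^ i h)⁻¹))).eq]
                  group
            show (α ⟨_, hdec (g * h)⟩ : G) * w ^ i (g * h) = _
            rw [e, map_mul, Subgroup.coe_mul, hw]
            calc (α ⟨_, hdec g⟩ : G) * α ⟨_, hdec h⟩ * (w ^ i g * w ^ i h)
                = (α ⟨_, hdec g⟩ : G) * (α ⟨_, hdec h⟩ * w ^ i g) * w ^ i h := by group
              _ = _ := by rw [hwz (i g) (α ⟨_, hdec h⟩ : G)]; group)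
          have hinj : Function.Injective φ := (injective_iff_map_eq_one φ).2 fun g hg => by
            have hg' : (α ⟨_, hdec g⟩ : G) * w ^ i g = 1 := hg
            have h0 := hwf (i g) (by rw [eq_inv_of_mul_eq_one_right hg']; exact inv_mem (SetLike.coe_mem _))
            have hw1 : w ^ i g = 1 := by rw [pow_eq_pow_mod _ hwq, h0, pow_zero]
            have h1 : α ⟨_, hdec g⟩ = 1 := Subtype.ext (by
              rw [eq_inv_of_mul_eq_one_left hg', hw1, inv_one]; rfl)
            rw [EmbeddingLike.map_eq_one_iff] at h1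
            have h2 : g * (w ^ i g)⁻¹ = 1 := congrArg Subtype.val h1
            rwa [hw1, inv_one, mul_one] at h2
          apply Quotient.sound'
          refine orbitRel_apply.2 ⟨MulEquiv.ofBijective φ (Finite.injective_iff_bijective.1 hinj), ?_⟩
          show (α ⟨_, hdec ((k' : G) * w ^ (p.2 : ℕ))⟩ : G) * w ^ i ((k' : G) * w ^ (p.2 : ℕ)) = _
          have hiw' : w ^ i ((k' : G) * w ^ (p.2 : ℕ)) = w ^ (p.2 : ℕ) := by
            rw [pow_eq_pow_mod _ hwq, hadd, Nat.add_mod, (hkm _).1 k'.2, zero_add, Nat.mod_mod,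
              index_pow i hadd, Nat.mul_mod, hiw, mul_one, Nat.mod_mod, ← pow_eq_pow_mod _ hwq]
          have hk' : (⟨_, hdec ((k' : G) * w ^ (p.2 : ℕ))⟩ : K) = k' := by
            apply Subtype.ext
            show (k' : G) * w ^ (p.2 : ℕ) * (w ^ i ((k' : G) * w ^ (p.2 : ℕ)))⁻¹ = k'
            rw [hiw', mul_inv_cancel_right]
          rw [hk', hiw']
          exact congrArg (fun y : K => (y : G) * w ^ (p.2 : ℕ)) hα)
      have hFs : Function.Surjective F := by
        intro o
        induction o using Quotient.inductionOn' with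
        | _ g =>
          refine ⟨(Quotient.mk'' ⟨_, hdec g⟩, ⟨i g % q, Nat.mod_lt _ hqp.pos⟩), ?_⟩
          show Quotient.mk'' (g * (w ^ i g)⁻¹ * w ^ (i g % q)) = Quotient.mk'' g
          rw [← pow_eq_pow_mod _ hwq, inv_mul_cancel_right]
      have hle := Nat.card_le_card_of_surjective F hFs
      rw [Nat.card_prod, Nat.card_fin] at hle
      calc q * Nat.card (orbitRel.Quotient (MulAut G) G) ≤ q * (Nat.card (orbitRel.Quotient (MulAut K) K) * q) :=
            Nat.mul_le_mul_left q hle
        _ = q * Nat.card (orbitRel.Quotient (MulAut K) K) * q := (mul_assoc _ _ _).symm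
        _ ≤ N := hKcard ▸ Nat.mul_le_mul_right q hind
    push Not at hsplit
    let Ω : Subgroup G :=
      { carrier := {x | x ∈ center G ∧ x ^ q = 1}
        one_mem' := ⟨one_mem _, one_pow _⟩
        mul_mem' := fun {a b} ha hb => ⟨mul_mem ha.1 hb.1, by
          rw [Commute.mul_pow (Subgroup.mem_center_iff.1 hb.1 a), ha.2, hb.2, mul_one]⟩
        inv_mem' := fun {a} ha => ⟨inv_mem ha.1, by rw [inv_pow, ha.2, inv_one]⟩ }
    have hΩle : commutator G ≤ Ω := fun y hy => ⟨hcz hy, by
      have := pow_card_eq_one' (x := (⟨y, hy⟩ : commutator G))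
      rw [hC] at this
      exact congrArg Subtype.val this⟩
    have hΩ : q * q ≤ Nat.card Ω := by
      have h1 : (commutator G).relIndex Ω ≠ 1 := fun h => hωC (Subgroup.relIndex_eq_one.1 h ⟨hωc, hωq⟩)
      have hmul : (commutator G).relIndex Ω * q = Nat.card Ω := by
        rw [← hC, mul_comm, ← Subgroup.relIndex_bot_left, ← Subgroup.relIndex_bot_left,
          Subgroup.relIndex_mul_relIndex _ _ _ bot_le hΩle]
      rw [← hmul]
      refine Nat.mul_le_mul_right _ ?_
      rw [hq]
      refine Nat.minFac_le_of_dvd ?_ ((Dvd.intro _ hmul).trans (Subgroup.card_subgroup_dvd_card Ω))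
      have : (commutator G).relIndex Ω ≠ 0 := fun h => by simp [h, (Nat.card_pos (α := Ω)).ne] at hmul
      omega
    have hidx : q + 1 ≤ A.index := by
      have hAdvd := Subgroup.index_dvd_card A
      have h0 := Subgroup.index_ne_zero_of_finite (H := A)
      by_contra hlt
      have hAlt : A.index = 1 ∨ A.index = q := by
        by_cases h1 : A.index = 1
        · exact Or.inl h1
        · right
          have : q ≤ A.index := hq ▸ Nat.minFac_le_of_dvd (by omega) hAdvd
          omega
      rcases hAlt with h | h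
      · rw [Subgroup.index_eq_one] at h
        exact hac (Subgroup.mem_center_iff.1 (hAz (h.ge (Subgroup.mem_top c0))) a0)
      · haveI : A.Normal := ⟨fun a ha g => by
          rw [Subgroup.mem_center_iff.1 (hAz ha) g, mul_inv_cancel_right]; exact ha⟩
        haveI : IsCyclic (G ⧸ A) := isCyclic_of_prime_card (p := q) (by rw [← Subgroup.index_eq_card, h])
        exact hac (commutative_of_cyclic_center_quotient (QuotientGroup.mk' A) (by rw [QuotientGroup.ker_mk']; exact hAz) a0 c0)
    have horb := exists_reps (q := q * q) A (q * q) 1 (Nat.one_le_iff_ne_zero.2 (Nat.mul_ne_zero hqp.ne_zero hqp.ne_zero))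
      (fun g _ => Nat.le_mul_of_pos_right _ (orbit_card_pos g)) (fun x hx => by
        rw [one_mul]
        obtain ⟨i, hadd, hiA, hix⟩ := exists_index hqp A le_sup_left hpowA hx
        rw [Nat.mod_eq_of_lt hqp.one_lt] at hix
        refine hΩ.trans (orbit_card_ge x (fun o : Ω => x * (o : G)) (fun a b e => Subtype.ext (mul_left_cancel e)) fun o => ?_)
        have ho : (o : G) ∈ A := hsplit o o.2.1 o.2.2
        have hoc : ∀ h : G, h * (o : G) = (o : G) * h := fun h => Subgroup.mem_center_iff.1 o.2.1 h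
        have hi1 : i 1 % q = 0 := by simpa using index_pow i hadd x 0
        have hch : Nat.choose (i x) 2 * 0 = 0 := mul_zero _
        have h := twist (o : G) 1 q i (fun h => by rw [one_mul, mul_one]) (one_pow q)
          (fun h => by rw [one_pow, mul_one, hoc]) (hiA _ ho) hi1 hadd
          (by rw [psi, one_pow, mul_one, o.2.2]) x 1
        rwa [pow_one, psi, one_pow, mul_one, pow_eq_pow_mod _ o.2.2, hix, pow_one] at h)
    have hcardA : Nat.card A * A.index = N := Subgroup.card_mul_index A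
    refine Nat.le_of_mul_le_mul_left ?_ hqp.pos
    rw [← mul_assoc]
    refine horb.trans ?_
    have h3 : Nat.card A * (q + 1) ≤ N := hcardA ▸ Nat.mul_le_mul_left _ hidx
    obtain ⟨r, hr⟩ : ∃ r, q = r + 1 := ⟨q - 1, by have := hqp.one_lt; omega⟩
    rw [hr] at h3 ⊢
    rw [show (r + 1) * (r + 1) - 1 = r * (r + 2) from Nat.sub_eq_of_eq_add (by ring), one_mul]
    nlinarith [Nat.mul_le_mul_left r h3]
  push Not at hOm
  -- cyclic centre case
  let C : Subgroup G :=
    { carrier := {x | x ∈ center G ∧ ∃ k : ℕ, x ^ q ^ k = 1}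
      one_mem' := ⟨one_mem _, 0, one_pow _⟩
      mul_mem' := fun {a b} ha hb => by
        obtain ⟨ha1, k, hk⟩ := ha
        obtain ⟨hb1, l, hl⟩ := hb
        refine ⟨mul_mem ha1 hb1, k + l, ?_⟩
        rw [Commute.mul_pow (Subgroup.mem_center_iff.1 hb1 a), pow_add, pow_mul, hk, one_pow, one_mul, mul_comm,
          pow_mul, hl, one_pow]
      inv_mem' := fun {a} ha => ⟨inv_mem ha.1, ha.2.elim fun k hk => ⟨k, by rw [inv_pow, hk, inv_one]⟩⟩ }
  have hCp : IsPGroup q C := fun x => x.2.2.elim fun k hk => ⟨k, Subtype.ext (by rw [Subgroup.coe_pow]; exact hk)⟩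
  have hCcyc : IsCyclic C := by
    have hu : UniqueOrderP q C := by
      intro x y hx hy hy1
      have hm : ∀ v : C, v ^ q = 1 → (v : G) ∈ Subgroup.zpowers z := fun v hv => hzgen ▸ hOm v v.2.1 (congrArg Subtype.val hv)
      have hym : Subgroup.zpowers (y : G) = Subgroup.zpowers z := by
        refine Subgroup.eq_of_le_of_card_ge (Subgroup.zpowers_le.2 (hm y hy)) ?_
        rw [Nat.card_zpowers, Nat.card_zpowers, hzo, Subgroup.orderOf_coe, orderOf_eq_prime hy hy1]
      obtain ⟨t, ht⟩ := Subgroup.mem_zpowers_iff.1 (hym ▸ hm x hx)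
      exact Subgroup.mem_zpowers_iff.2 ⟨t, Subtype.ext (by simpa using ht)⟩
    rcases cyclic_or_quaternion hCp hu with h | ⟨-, k, ⟨e⟩⟩
    · exact h
    · by_contra hCnc
      have hcm : ∀ a b : C, a * b = b * a := fun a b => Subtype.ext (Subgroup.mem_center_iff.1 b.2.1 a)
      have h := congrArg e (hcm (e.symm (QuaternionGroup.a 1)) (e.symm (QuaternionGroup.xa 0)))
      simp only [map_mul, MulEquiv.apply_symm_apply, QuaternionGroup.a_mul_xa, QuaternionGroup.xa_mul_a,
        QuaternionGroup.xa.injEq] at h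
      have h2 : ((2 : ℕ) : ZMod (2 * 2 ^ k)) = 0 := by push_cast; linear_combination -h
      rw [ZMod.natCast_eq_zero_iff] at h2
      by_cases hk : k = 0
      · subst hk
        have : IsCyclic (QuaternionGroup (2 ^ 0)) := QuaternionGroup.quaternionGroup_one_isCyclic
        exact hCnc (isCyclic_of_surjective e.symm e.symm.surjective)
      · have h3 := Nat.le_of_dvd (by norm_num) h2
        have : 2 ≤ 2 ^ k := Nat.le_self_pow hk 2
        omega
  obtain ⟨⟨t, htC⟩, ht⟩ := hCcyc.exists_generator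
  have htgen : ∀ v : G, v ∈ C → ∃ j : ℤ, t ^ j = v := fun v hv => by
    obtain ⟨j, hj⟩ := Subgroup.mem_zpowers_iff.1 (ht ⟨v, hv⟩)
    exact ⟨j, congrArg Subtype.val hj⟩
  have htc : ∀ h : G, h * t = t * h := fun h => Subgroup.mem_center_iff.1 htC.1 h
  have htz : ∀ (j : ℤ), t ^ j ∈ center G := fun j => zpow_mem htC.1 j
  obtain ⟨x, y, hxe, hye, hxy⟩ : ∃ x y : G, (∃ e : ℕ, x ^ q ^ e = 1) ∧ (∃ e : ℕ, y ^ q ^ e = 1) ∧ x * y ≠ y * x := by
    have key : ∀ g : G, ∃ a c : G, (∃ e : ℕ, a ^ q ^ e = 1) ∧ c ∈ center G ∧ g = a * c := by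
      intro g
      obtain ⟨e, m, hm, hem⟩ := Nat.exists_eq_pow_mul_and_not_dvd (orderOf_pos g).ne' q hqp.ne_one
      obtain ⟨u, v, huv⟩ : IsCoprime (m : ℤ) ((q : ℤ) ^ (e + 1)) :=
        (Nat.isCoprime_iff_coprime.2 ((hqp.coprime_iff_not_dvd.2 hm).symm)).pow_right
      refine ⟨(g ^ (m : ℤ)) ^ u, (g ^ ((q : ℤ) ^ (e + 1))) ^ v, ⟨e, ?_⟩, ?_, ?_⟩
      · rw [← zpow_natCast _ (q ^ e), ← zpow_mul, ← zpow_mul, ← orderOf_dvd_iff_zpow_eq_one, hem]
        exact ⟨u, by push_cast; ring⟩
      · refine zpow_mem ?_ v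
        rw [pow_succ', zpow_mul, zpow_natCast]
        exact zpow_mem (hpowz g) _
      · rw [← zpow_mul, ← zpow_mul, ← zpow_add, mul_comm (m : ℤ), mul_comm ((q : ℤ) ^ (e + 1)), huv, zpow_one]
    obtain ⟨a, c, ha, hc, hac'⟩ := key a0
    obtain ⟨a', c', ha', hc', hac''⟩ := key c0
    refine ⟨a, a', ha, ha', fun h => hac ?_⟩
    rw [hac', hac'']
    calc a * c * (a' * c') = a * (c * a') * c' := by group
      _ = a * a' * (c * c') := by rw [← Subgroup.mem_center_iff.1 hc a']; group
      _ = a' * a * (c' * c) := by rw [h, Subgroup.mem_center_iff.1 hc' c]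
      _ = a' * (a * c') * c := by group
      _ = _ := by rw [Subgroup.mem_center_iff.1 hc' a]; group
  have hqC : ∀ a : G, (∃ e : ℕ, a ^ q ^ e = 1) → ∃ j : ℤ, t ^ j = a ^ q := by
    rintro a ⟨e, he⟩
    exact htgen _ ⟨hpowz a, e, by rw [← pow_mul, mul_comm, pow_mul, he, one_pow]⟩
  have hodd0 : q ≠ 2 → ∀ k : ℕ, z ^ (k * Nat.choose q 2) = 1 := fun h2 k => by
    obtain ⟨r, hr⟩ := hqp.dvd_choose_self two_ne_zero (lt_of_le_of_ne hqp.two_le (Ne.symm h2))
    rw [hr, mul_left_comm, pow_mul, hzq, one_pow]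
  have hnc : ∀ {a b : G}, a * b ≠ b * a → a ∉ center G := fun {a b} h ha =>
    h ((Subgroup.mem_center_iff.1 ha b).symm)
  -- a noncentral element with `q`-th power `1` (or possibly `z` if `q = 2`)
  obtain ⟨b0, hb0, hb0q, hb0e⟩ : ∃ b0 : G, b0 ∉ center G ∧ (b0 ^ q = 1 ∨ (q = 2 ∧ b0 ^ q = z)) ∧
      ∃ e : ℕ, b0 ^ q ^ e = 1 := by
    have hdiv : ∀ (a : G) (r : ℤ), a ∉ center G → t ^ ((q : ℤ) * r) = a ^ q →
        (a * t ^ (-r)) ∉ center G ∧ (a * t ^ (-r)) ^ q = 1 := by
      intro a r ha hr
      refine ⟨fun h => ha ?_, ?_⟩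
      · simpa using mul_mem h (inv_mem (htz (-r)))
      · rw [Commute.mul_pow (Commute.zpow_right (htc a) _), ← hr, ← zpow_natCast (t ^ (-r)), ← zpow_mul, ← zpow_add,
          show (q : ℤ) * r + -r * (q : ℤ) = 0 by ring, zpow_zero]
    obtain ⟨i, hi⟩ := hqC x hxe
    by_cases hqi : (q : ℤ) ∣ i
    · obtain ⟨r, rfl⟩ := hqi
      obtain ⟨h1, h2⟩ := hdiv x r (hnc hxy) hi
      exact ⟨_, h1, Or.inl h2, 1, by rw [pow_one]; exact h2⟩
    obtain ⟨j, hj⟩ := hqC y hye
    obtain ⟨e, he⟩ := hCp ⟨t, htC⟩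
    have hte : t ^ q ^ e = 1 := congrArg Subtype.val he
    obtain ⟨u, v, huv⟩ : IsCoprime i ((q : ℤ) ^ e) :=
      ((Nat.prime_iff_prime_int.1 hqp).coprime_iff_not_dvd.2 hqi).symm.pow_right
    obtain ⟨k, hk⟩ := hcom (x ^ (-(j * u))) y
    have hkey : (y * x ^ (-(j * u))) ^ q = z ^ (k * Nat.choose q 2) := by
      rw [mul_pow_choose hzc hk, ← hj, ← zpow_natCast (x ^ (-(j * u))), ← zpow_mul, mul_comm _ (q : ℤ), zpow_mul,
        zpow_natCast x q, ← hi, ← zpow_mul, ← zpow_add,
        show j + i * (-(j * u)) = (q : ℤ) ^ e * (j * v) by linear_combination (-j) * huv]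
      rw [show (q : ℤ) ^ e = ((q ^ e : ℕ) : ℤ) by push_cast; rfl, zpow_mul, zpow_natCast, hte, one_zpow, one_mul]
    refine ⟨y * x ^ (-(j * u)), fun h => hxy ?_, ?_, 2, ?_⟩
    · have h1 : Commute x (y * x ^ (-(j * u))) := (Subgroup.mem_center_iff.1 h x)
      have h2 := h1.mul_right ((Commute.refl x).zpow_right (j * u))
      rw [mul_assoc, ← zpow_add, neg_add_cancel, zpow_zero, mul_one] at h2
      exact h2
    · by_cases h2 : q = 2
      · rcases Nat.mod_two_eq_zero_or_one k with hk2 | hk2 <;> rw [hkey, h2, Nat.choose_self, mul_one] <;>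
          rw [show q = 2 from h2] at hzq <;> rw [pow_eq_pow_mod _ hzq, hk2]
        · exact Or.inl (pow_zero z)
        · exact Or.inr ⟨rfl, pow_one z⟩
      · exact Or.inl (hkey.trans (hodd0 h2 k))
    · rw [pow_two, pow_mul, hkey, ← pow_mul, mul_comm, pow_mul, hzq, one_pow]
  -- adjust
  obtain ⟨b, hbz, hbq⟩ : ∃ b : G, b ∉ center G ∧ psi b z q = 1 := by
    by_cases h2 : q = 2
    · rw [h2] at hzq hzo hb0q
      suffices ∃ b : G, b ∉ center G ∧ b ^ 2 = z by
        obtain ⟨b, hb1, hb2⟩ := this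
        exact ⟨b, hb1, by rw [psi, h2, hb2, Nat.choose_self, pow_one, ← pow_two, hzq]⟩
      rcases hb0q with hb0q | hb0q
      swap; · exact ⟨b0, hb0, hb0q.2⟩
      obtain ⟨e, he⟩ := hCp ⟨t, htC⟩
      obtain ⟨d, hd, hde⟩ := (Nat.dvd_prime_pow hqp).1 (orderOf_dvd_of_pow_eq_one (congrArg Subtype.val he : t ^ q ^ e = 1))
      rw [h2] at hde
      by_cases hd2 : 2 ≤ d
      · -- `z` is a square in `C`
        obtain ⟨r, rfl⟩ : ∃ r, d = r + 2 := ⟨d - 2, by omega⟩
        have hv : (t ^ 2 ^ r) ^ 2 ∈ Subgroup.zpowers z := by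
          rw [hzgen]
          refine hOm _ (pow_mem (pow_mem htC.1 _) _) ?_
          rw [h2, ← pow_mul, ← pow_mul]
          exact orderOf_dvd_iff_pow_eq_one.1 ⟨1, by rw [hde]; ring⟩
        obtain ⟨j, hj⟩ := Subgroup.mem_zpowers_iff.1 hv
        have hj1 : (t ^ 2 ^ r) ^ 2 ≠ 1 := fun h => by
          rw [← pow_mul, ← orderOf_dvd_iff_pow_eq_one, hde, ← pow_succ] at h
          have := (Nat.pow_dvd_pow_iff_le_right (by norm_num)).1 h
          omega
        have hvz : (t ^ 2 ^ r) ^ 2 = z := by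
          rcases Int.even_or_odd' j with ⟨j', rfl | rfl⟩
          · exfalso; apply hj1
            rw [← hj, zpow_mul, show z ^ (2 : ℤ) = 1 by exact_mod_cast hzq, one_zpow]
          · rw [← hj, zpow_add, zpow_mul, show z ^ (2 : ℤ) = 1 by exact_mod_cast hzq, one_zpow, one_mul, zpow_one]
        refine ⟨b0 * t ^ 2 ^ r, fun h => hb0 ?_, ?_⟩
        · simpa using mul_mem h (inv_mem (pow_mem htC.1 (2 ^ r)))
        · rw [Commute.mul_pow (Commute.pow_right (htc b0) _), hb0q, one_mul, hvz]
      · -- `C` has order two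
        obtain ⟨y', hy'⟩ : ∃ y' : G, y' * b0 ≠ b0 * y' := by
          by_contra h; push Not at h; exact hb0 (Subgroup.mem_center_iff.2 h)
        obtain ⟨e', m, hm, hem⟩ := Nat.exists_eq_pow_mul_and_not_dvd (orderOf_pos y').ne' 2 (by norm_num)
        obtain ⟨l, hl⟩ : ∃ l, m = 2 * l + 1 := ⟨m / 2, by omega⟩
        have hy2c : y' ^ (2 * l) ∈ center G := by rw [pow_mul]; exact pow_mem (h2 ▸ hpowz y') l
        have hne2 : y' ^ m * b0 ≠ b0 * y' ^ m := fun h => hy' (by
          have hc := Subgroup.mem_center_iff.1 hy2c b0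
          rw [hl, pow_succ] at h
          rw [mul_assoc, ← mul_assoc b0, hc, mul_assoc] at h
          exact mul_left_cancel h)
        obtain ⟨j, hj⟩ := hqC (y' ^ m) ⟨e', by rw [h2, ← pow_mul, mul_comm, ← hem, pow_orderOf_eq_one]⟩
        have ht2 : t ^ 2 = 1 := orderOf_dvd_iff_pow_eq_one.1 (hde ▸ (pow_dvd_pow 2 (by omega : d ≤ 1)).trans (by norm_num))
        have hym : (y' ^ m) ^ 2 ∈ Subgroup.zpowers z := by
          rw [hzgen]
          refine hOm _ ?_ ?_
          · have := hpowz (y' ^ m); rwa [h2] at this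
          · rw [h2] at hj
            rw [h2, ← hj, ← zpow_natCast (t ^ j), ← zpow_mul, mul_comm, zpow_mul, zpow_natCast, ht2, one_zpow]
        obtain ⟨i, hi⟩ := Subgroup.mem_zpowers_iff.1 hym
        rcases Int.even_or_odd' i with ⟨i', rfl | rfl⟩
        · have hy21 : (y' ^ m) ^ 2 = 1 := by
            rw [← hi, zpow_mul, show z ^ (2 : ℤ) = 1 by exact_mod_cast hzq, one_zpow]
          obtain ⟨k, hk⟩ := hcom b0 (y' ^ m)
          refine ⟨y' ^ m * b0, fun h => hne2 ?_, ?_⟩
          · have h1 := Subgroup.mem_center_iff.1 h b0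
            rw [← mul_assoc] at h1
            exact (mul_right_cancel h1).symm
          · rw [mul_pow_choose hzc hk, hy21, hb0q, one_mul, one_mul, Nat.choose_self, mul_one]
            rcases Nat.mod_two_eq_zero_or_one k with hk2 | hk2
            · exfalso; apply hne2
              rw [hk, pow_eq_pow_mod _ hzq, hk2, pow_zero, mul_one]
            · rw [pow_eq_pow_mod _ hzq, hk2, pow_one]
        · refine ⟨y' ^ m, hnc hne2, ?_⟩
          rw [← hi, zpow_add, zpow_mul, show z ^ (2 : ℤ) = 1 by exact_mod_cast hzq, one_zpow, one_mul, zpow_one]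
    · rcases hb0q with hb0q | hb0q
      · exact ⟨b0, hb0, by rw [psi, hb0q, one_mul]; simpa using hodd0 h2 1⟩
      · exact absurd hb0q.1 h2
  choose i hi using hcom b
  have hiu : ∀ t t' : ℕ, z ^ t = z ^ t' → t % q = t' % q := fun t t' h => hzo ▸ pow_eq_pow_iff_modEq.1 h
  have hadd : ∀ g h, i (g * h) % q = (i g + i h) % q := fun g h => hiu _ _ (by
    have e : b * (g * h) = g * h * b * z ^ (i g + i h) := by
      rw [← mul_assoc, hi g, mul_assoc (g * b), ← (Commute.pow_right (hzc h) (i g)).eq, ← mul_assoc, mul_assoc g b h,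
        hi h, pow_add]
      have : Commute (z ^ i h) (z ^ i g) := Commute.pow_pow (Commute.refl z) _ _
      rw [← this.eq]; group
    exact mul_left_cancel ((hi (g * h)).symm.trans e))
  have hib : i b % q = 0 := (hiu (i b) 0 (by
    have := hi b
    rw [pow_zero]; exact (mul_eq_left.1 this.symm))).trans (Nat.zero_mod q)
  have hiz : i z % q = 0 := (hiu (i z) 0 (by
    have := hi z
    rw [hzc b] at this
    rw [pow_zero]; exact (mul_eq_left.1 this.symm))).trans (Nat.zero_mod q)
  set B := Subgroup.centralizer ({b} : Set G) with hB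
  have hBidx : B.index = q := by
    have h1 := class_card_le hC b
    have h0 := Subgroup.index_ne_zero_of_finite (H := B)
    have h1' : B.index ≠ 1 := fun h => hbz (Subgroup.mem_center_iff.2 fun k => by
      rw [Subgroup.index_eq_one] at h
      exact Subgroup.mem_centralizer_singleton_iff.1 (h.ge (Subgroup.mem_top k)))
    have : q ≤ B.index := hq ▸ Nat.minFac_le_of_dvd (by omega) (Subgroup.index_dvd_card _)
    rw [← hB] at h1
    exact le_antisymm h1 this
  have hnotB : ∀ g, g ∉ B → i g % q ≠ 0 := fun g hg h => hg (Subgroup.mem_centralizer_singleton_iff.2 (by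
    rw [hi g, pow_eq_pow_mod _ hzq, h, pow_zero, mul_one]))
  have hclass : ∀ g : G, g ∉ center G → ∀ l : ℕ, g * z ^ l ∈ orbit (MulAut G) g := fun g hg l =>
    orbit_ge_conjClass _ _ (class_eq_coset hqp hq hC g hg (pow_mem hzC l))
  have horb := three_weights (q := q * q) (center G) B
    (fun g hg => Subgroup.mem_centralizer_singleton_iff.2 (Subgroup.mem_center_iff.1 hg b).symm)
    (q * q) q 1 hqp.one_lt.le (Nat.le_mul_of_pos_left q hqp.pos)
    (fun g _ => Nat.le_mul_of_pos_right _ (orbit_card_pos g))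
    (fun g _ hg => Nat.mul_le_mul_left q (by
      calc q = Nat.card (Fin q) := (Nat.card_fin q).symm
        _ ≤ _ := orbit_card_ge g (fun l : Fin q => g * z ^ (l : ℕ)) (fun l l' e => by
          have := hiu _ _ (mul_left_cancel e)
          rw [Nat.mod_eq_of_lt l.2, Nat.mod_eq_of_lt l'.2] at this
          exact Fin.ext this) (fun l => hclass g hg l)))
    (fun g hg => by
      rw [one_mul]
      have hψ : i (psi b z (i g)) % q = 0 := by
        rw [psi, hadd, Nat.add_mod, index_pow i hadd, index_pow i hadd]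
        simp [Nat.mul_mod, hib, hiz]
      have hne : ∀ m : ℕ, g * psi b z (i g) ^ m ∉ center G := fun m hmc => hnotB g hg (by
        have h1 := Subgroup.mem_center_iff.1 hmc b
        rw [hi] at h1
        have h2 := hiu (i (g * psi b z (i g) ^ m)) 0 (by rw [pow_zero]; exact mul_eq_left.1 h1)
        rw [hadd, Nat.add_mod, index_pow i hadd, Nat.mul_mod, hψ] at h2
        simpa using h2)
      calc q * q = Nat.card (Fin q × Fin q) := by rw [Nat.card_prod, Nat.card_fin]
        _ ≤ _ := orbit_card_ge g (fun p : Fin q × Fin q => g * psi b z (i g) ^ (p.1 : ℕ) * z ^ (p.2 : ℕ)) (by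
            rintro ⟨m, l⟩ ⟨m', l'⟩ e
            simp only [mul_assoc] at e
            have e1 := mul_left_cancel e
            have key : ∀ (m m' l l' : ℕ), m ≤ m' → psi b z (i g) ^ m * z ^ l = psi b z (i g) ^ m' * z ^ l' →
                q ∣ m' - m := by
              intro m m' l l' hle e
              obtain ⟨d, rfl⟩ := Nat.exists_eq_add_of_le hle
              rw [pow_add, mul_assoc] at e
              have e2 : psi b z (i g) ^ d = z ^ l * (z ^ l')⁻¹ := eq_mul_inv_of_mul_eq (mul_left_cancel e).symm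
              have hcen : psi b z (i g) ^ d ∈ center G := e2 ▸ mul_mem (pow_mem (hcz hzC) l) (inv_mem (pow_mem (hcz hzC) l'))
              unfold psi at hcen
              rw [Commute.mul_pow (Commute.pow_pow (hzc b) _ _), ← pow_mul, ← pow_mul] at hcen
              have hbd : b ^ (i g * d) ∈ center G := by
                simpa using mul_mem hcen (inv_mem (pow_mem (hcz hzC) (Nat.choose (i g) 2 * d)))
              rw [Nat.add_sub_cancel_left]
              by_contra hnd
              have hcop : Nat.Coprime (i g * d) q := (Nat.coprime_comm).1 (hqp.coprime_iff_not_dvd.2 fun hh =>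
                (hqp.dvd_mul.1 hh).elim (fun h => hnotB g hg (Nat.dvd_iff_mod_eq_zero.1 h)) hnd)
              obtain ⟨u, v, huv⟩ : IsCoprime ((i g * d : ℕ) : ℤ) (q : ℤ) := Nat.isCoprime_iff_coprime.2 hcop
              apply hbz
              rw [← zpow_one b, ← huv, zpow_add, mul_comm u, mul_comm v, zpow_mul, zpow_mul, zpow_natCast, zpow_natCast]
              exact mul_mem (zpow_mem hbd u) (zpow_mem (hpowz b) v)
            have hm : m = m' := by
              have hm1 := m.2
              have hm2 := m'.2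
              rcases le_total (m : ℕ) (m' : ℕ) with h | h
              · have := Nat.eq_zero_of_dvd_of_lt (key _ _ _ _ h e1) (by omega)
                exact Fin.ext (by omega)
              · have := Nat.eq_zero_of_dvd_of_lt (key _ _ _ _ h e1.symm) (by omega)
                exact Fin.ext (by omega)
            subst hm
            have := hiu _ _ (mul_left_cancel e1)
            rw [Nat.mod_eq_of_lt l.2, Nat.mod_eq_of_lt l'.2] at this
            rw [Fin.ext this]) (fun p => by
              have h1 := twist b z q i hzc hzq hi hib hiz hadd hbq g p.1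
              rw [← orbit_eq_iff.2 h1]
              exact hclass _ (hne p.1) p.2))
  have hBN : Nat.card B * q = N := by rw [hN, ← hBidx, Subgroup.card_mul_index]
  have hZB : Nat.card (center G) * q ≤ Nat.card B := by
    have hle : center G ≤ B := fun g hg => Subgroup.mem_centralizer_singleton_iff.2 (Subgroup.mem_center_iff.1 hg b).symm
    have h1 : (center G).relIndex B ≠ 1 := fun h => hbz (Subgroup.relIndex_eq_one.1 h
      (Subgroup.mem_centralizer_singleton_iff.2 rfl))
    have hmul : (center G).relIndex B * Nat.card (center G) = Nat.card B := by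
      rw [mul_comm, ← Subgroup.relIndex_bot_left, ← Subgroup.relIndex_bot_left,
        Subgroup.relIndex_mul_relIndex _ _ _ bot_le hle]
    rw [← hmul, mul_comm]
    refine Nat.mul_le_mul_right _ ?_
    rw [hq]
    refine Nat.minFac_le_of_dvd ?_ ((Dvd.intro _ hmul).trans (Subgroup.card_subgroup_dvd_card B))
    have : (center G).relIndex B ≠ 0 := fun h => by simp [h, (Nat.card_pos (α := B)).ne] at hmul
    omega
  refine Nat.le_of_mul_le_mul_left ?_ hqp.pos
  rw [← mul_assoc]
  refine horb.trans ?_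
  rw [← hN, ← hBN]
  obtain ⟨r, hr⟩ : ∃ r, q = r + 2 := ⟨q - 2, by have := hqp.two_le; omega⟩
  rw [hr] at hZB ⊢
  rw [show r + 2 - 1 = r + 1 from rfl, one_mul,
    show (r + 2) * (r + 2) - (r + 2) = (r + 2) * (r + 1) from Nat.sub_eq_of_eq_add (by ring)]
  nlinarith [Nat.mul_le_mul_left (r + 1) hZB, Nat.zero_le (r * Nat.card B), Nat.zero_le (r * r * Nat.card B)]

end Cfsg.Agent.Solv.AutOrb
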