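import Mathlib

/-!
Invariant flags with cyclic steps: operators whose image modulo a normal `p`-subgroup is abelian of exponent
dividing `p - 1`.
-/

set_option autoImplicit false

namespace Cfsg.Agent.Solv.Flag

open Polynomial

variable {p : ℕ} [hp : Fact p.Prime]

/-- An endomorphism of a space over the prime field killed by `X ^ (p - 1) - 1` has an eigenvector. -/
theorem exists_eigenvalue {V : Type*} [AddCommGroup V] [Module (ZMod p) V] {v₀ : V} (hv₀ : v₀ ≠ 0)
    (f : Module.End (ZMod p) V) (hf : ∀ v : V, (f ^ (p - 1)) v = v) : ∃ l : ℕ, ∃ v : V, v ≠ 0 ∧ f v = l • v := by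
  haveI : NeZero p := ⟨hp.out.ne_zero⟩
  by_contra hcon
  push Not at hcon
  have hinj : ∀ a : ZMod p, Function.Injective (aeval f (X - C a)) := by
    intro a
    refine (injective_iff_map_eq_zero _).2 fun x hx => ?_
    by_contra hx0
    rw [map_sub, aeval_X, aeval_C, LinearMap.sub_apply, Module.algebraMap_end_apply, sub_eq_zero,
      ← ZMod.natCast_zmod_val a, Nat.cast_smul_eq_nsmul] at hx
    exact hcon a.val x hx0 hx
  have hprod : ∀ s : Finset (ZMod p), Function.Injective (aeval f (∏ a ∈ s, (X - C a))) := by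
    intro s
    induction s using Finset.induction_on with
    | empty => rw [Finset.prod_empty, map_one]; exact fun a b h => h
    | insert a s ha ih => rw [Finset.prod_insert ha, map_mul]; exact (hinj a).comp ih
  have hid : ∏ a : ZMod p, (X - C a) = X ^ p - X := by
    have hsp : Splits (X ^ p - X : (ZMod p)[X]) := by
      have h := FiniteField.splits_X_pow_card_sub_X (K := ZMod p) p
      simpa [ZMod.card] using h
    have hm : (X ^ p - X : (ZMod p)[X]).Monic :=
      monic_X_pow_sub (degree_X.trans_lt (by exact_mod_cast hp.out.one_lt))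
    rw [hsp.eq_prod_roots_of_monic hm]
    have hr := FiniteField.roots_X_pow_card_sub_X (ZMod p)
    rw [ZMod.card] at hr
    rw [hr]
    rfl
  have h0 := hprod Finset.univ (a₁ := v₀) (a₂ := 0)
  rw [hid, map_zero, map_sub, map_pow, aeval_X, LinearMap.sub_apply] at h0
  refine hv₀ (h0 ?_)
  rw [show f ^ p = f ^ (p - 1) * f by rw [← pow_succ, Nat.sub_add_cancel hp.out.one_lt.le],
    Module.End.mul_apply, hf, sub_self]

/-- The same for an additive endomorphism. -/
theorem exists_eigen_add {V : Type*} [AddCommGroup V] [Module (ZMod p) V] {v₀ : V} (hv₀ : v₀ ≠ 0)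
    (g : V →+ V) (hg : ∀ v : V, g^[p - 1] v = v) : ∃ l : ℕ, ∃ v : V, v ≠ 0 ∧ g v = l • v := by
  have hiter : ∀ k : ℕ, ∀ v : V, ((g.toZModLinearMap p : Module.End (ZMod p) V) ^ k) v = g^[k] v := by
    intro k
    induction k with
    | zero => intro v; rfl
    | succ k ih => intro v; rw [pow_succ, Module.End.mul_apply, ih, Function.iterate_succ_apply]; rfl
  exact exists_eigenvalue hv₀ (g.toZModLinearMap p) fun v => by rw [hiter, hg]

/-- An automorphism of exponent dividing `p - 1` of an elementary abelian `p`-group has an eigenvector. -/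
theorem exists_eigen {U : Type*} [CommGroup U] (hexp : ∀ u : U, u ^ p = 1) {u₀ : U} (hu₀ : u₀ ≠ 1)
    (γ : U →* U) (hγ : ∀ u : U, γ^[p - 1] u = u) : ∃ l : ℕ, ∃ u : U, u ≠ 1 ∧ γ u = u ^ l := by
  obtain ⟨l, v, hv, hfv⟩ := @exists_eigen_add p _ (Additive U) _ (AddCommGroup.zmodModule fun x => hexp x.toMul)
    (Additive.ofMul u₀) (fun h => hu₀ (Additive.ofMul.injective h)) γ.toAdditive (fun v => hγ v.toMul)
  exact ⟨l, v.toMul, fun h => hv (Additive.toMul.injective h), congrArg Additive.toMul hfv⟩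

variable {P : Type*} [Group P] [Finite P]

/-- One step of the flag. -/
theorem exists_step (hP : IsPGroup p P) (A : Subgroup (MulAut P)) (R : Subgroup A) [R.Normal] (hR : IsPGroup p R)
    (hcomm : ∀ γ δ : A, γ * δ * γ⁻¹ * δ⁻¹ ∈ R) (hexp : ∀ γ : A, γ ^ (p - 1) ∈ R)
    (N : Subgroup P) [N.Normal] (hN : ∀ γ ∈ A, ∀ x ∈ N, γ x ∈ N) (hNt : N ≠ ⊤) :
    ∃ M : Subgroup P, M.Normal ∧ N < M ∧ (∀ γ ∈ A, ∀ x ∈ M, γ x ∈ M) ∧
      ∃ z : P, M = N ⊔ Subgroup.zpowers z := by
  classical
  haveI : Finite A := Finite.of_injective (fun γ : A => ((γ : MulAut P) : P → P))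
    fun a b h => Subtype.ext (DFunLike.coe_injective h)
  have hmap : ∀ γ : A, N.map ((γ : MulAut P) : P →* P) = N := fun γ =>
    Subgroup.eq_of_le_of_card_ge (by rintro _ ⟨x, hx, rfl⟩; exact hN _ γ.2 x hx)
      (Subgroup.card_map_of_injective (γ : MulAut P).injective).ge
  let ψ : A →* MulAut (P ⧸ N) :=
    { toFun := fun γ => QuotientGroup.congr N N (γ : MulAut P) (hmap γ)
      map_one' := MulEquiv.ext fun v => by
        obtain ⟨x, rfl⟩ := QuotientGroup.mk'_surjective N v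
        rfl
      map_mul' := fun γ δ => MulEquiv.ext fun v => by
        obtain ⟨x, rfl⟩ := QuotientGroup.mk'_surjective N v
        rfl }
  have hψ : ∀ (γ : A) (x : P), ψ γ (x : P ⧸ N) = (((γ : MulAut P) x : P) : P ⧸ N) := fun _ _ => rfl
  have hQ : IsPGroup p (P ⧸ N) := hP.to_quotient N
  haveI : Nontrivial (P ⧸ N) := by
    by_contra h
    rw [not_nontrivial_iff_subsingleton] at h
    exact hNt (eq_top_iff.2 fun x _ => (QuotientGroup.eq_one_iff x).1 (Subsingleton.elim _ _))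
  -- invariant subgroups of the central elements of order `p`
  let Good : Subgroup (P ⧸ N) → Prop := fun U => U ≠ ⊥ ∧ U ≤ Subgroup.center (P ⧸ N) ∧
    (∀ u ∈ U, u ^ p = 1) ∧ ∀ γ : A, ∀ u ∈ U, ψ γ u ∈ U
  have hex : ∃ U, Good U := by
    haveI := hQ.center_nontrivial
    obtain ⟨z, hz⟩ := exists_prime_orderOf_dvd_card' (G := Subgroup.center (P ⧸ N)) p (by
      obtain ⟨j, hj⟩ := IsPGroup.iff_card.1 (hQ.to_subgroup (Subgroup.center (P ⧸ N)))
      rcases j with _ | j
      · exact absurd hj (by simpa using (Finite.one_lt_card (α := Subgroup.center (P ⧸ N))).ne')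
      · exact hj ▸ dvd_pow_self p (Nat.succ_ne_zero j))
    let W : Subgroup (P ⧸ N) :=
      { carrier := {v | v ∈ Subgroup.center (P ⧸ N) ∧ v ^ p = 1}
        one_mem' := ⟨one_mem _, one_pow p⟩
        mul_mem' := fun {a b} ha hb => ⟨mul_mem ha.1 hb.1, by
          rw [(show Commute a b from (Subgroup.mem_center_iff.1 ha.1 b).symm).mul_pow, ha.2, hb.2, one_mul]⟩
        inv_mem' := fun {a} ha => ⟨inv_mem ha.1, by rw [inv_pow, ha.2, inv_one]⟩ }
    refine ⟨W, fun h => ?_, fun v hv => hv.1, fun v hv => hv.2, fun γ v hv => ⟨?_, by rw [← map_pow, hv.2, map_one]⟩⟩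
    · have : (z : P ⧸ N) ∈ W := ⟨z.2, by rw [← hz, ← Subgroup.orderOf_coe, pow_orderOf_eq_one]⟩
      rw [h, Subgroup.mem_bot] at this
      exact hp.out.ne_one (by rw [← hz, ← Subgroup.orderOf_coe, this, orderOf_one])
    · exact (Subgroup.characteristic_iff_map_eq.1
        (inferInstance : (Subgroup.center (P ⧸ N)).Characteristic) (ψ γ)).le ⟨v, hv.1, rfl⟩
  haveI : Finite (Subgroup (P ⧸ N)) := Finite.of_injective (fun U : Subgroup (P ⧸ N) => (U : Set (P ⧸ N))) SetLike.coe_injective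
  obtain ⟨U, hU⟩ := (Set.toFinite {U | Good U}).exists_minimal hex
  obtain ⟨⟨hU1, hUc, hUe, hUi⟩, hmin⟩ := hU
  have hsmall : ∀ V : Subgroup (P ⧸ N), V ≤ U → (∃ v ∈ V, v ≠ 1) → (∀ γ : A, ∀ v ∈ V, ψ γ v ∈ V) → V = U := by
    rintro V hVU ⟨v, hv, hv1⟩ hVi
    exact le_antisymm hVU (hmin ⟨fun h => hv1 (Subgroup.mem_bot.1 (h ▸ hv)), hVU.trans hUc,
      fun u hu => hUe u (hVU hu), hVi⟩ hVU)
  have hfix : ∀ r ∈ R, ∀ u ∈ U, ψ r u = u := by
    let V : Subgroup (P ⧸ N) :=
      { carrier := {v | v ∈ U ∧ ∀ r ∈ R, ψ r v = v}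
        one_mem' := ⟨one_mem _, fun r _ => map_one _⟩
        mul_mem' := fun {a b} ha hb => ⟨mul_mem ha.1 hb.1, fun r hr => by rw [map_mul, ha.2 r hr, hb.2 r hr]⟩
        inv_mem' := fun {a} ha => ⟨inv_mem ha.1, fun r hr => by rw [map_inv, ha.2 r hr]⟩ }
    have hV : V = U := by
      refine hsmall V (fun v hv => hv.1) ?_ fun γ v hv => ⟨hUi γ v hv.1, fun r hr => ?_⟩
      · letI : MulAction R U :=
          { smul := fun r u => ⟨ψ (r : A) (u : P ⧸ N), hUi _ _ u.2⟩
            one_smul := fun u => Subtype.ext (by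
              show ψ ((1 : R) : A) (u : P ⧸ N) = u
              rw [OneMemClass.coe_one, map_one, MulAut.one_apply])
            mul_smul := fun r s u => Subtype.ext (by
              show ψ ((r * s : R) : A) (u : P ⧸ N) = ψ (r : A) (ψ (s : A) (u : P ⧸ N))
              rw [Subgroup.coe_mul, map_mul, MulAut.mul_apply]) }
        have hdvd : p ∣ Nat.card U := by
          obtain ⟨j, hj⟩ := IsPGroup.iff_card.1 (hQ.to_subgroup U)
          rcases j with _ | j
          · exact absurd (Subgroup.card_eq_one.1 (by simpa using hj)) hU1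
          · exact hj ▸ dvd_pow_self p (Nat.succ_ne_zero j)
        have hone : (1 : U) ∈ MulAction.fixedPoints R U := fun r => Subtype.ext (map_one (ψ (r : A)))
        obtain ⟨v, hv, hv1⟩ := hR.exists_fixed_point_of_prime_dvd_card_of_fixed_point U hdvd hone
        exact ⟨v, ⟨v.2, fun r hr => congrArg Subtype.val (hv ⟨r, hr⟩)⟩, fun h => hv1 (Subtype.ext h).symm⟩
      · have hc := hv.2 (γ⁻¹ * r * γ) (by simpa using ‹R.Normal›.conj_mem r hr γ⁻¹)
        rw [map_mul, map_mul, map_inv, MulAut.mul_apply, MulAut.mul_apply] at hc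
        have := congrArg (ψ γ) hc
        rwa [MulAut.apply_inv_self] at this
    intro r hr u hu
    exact (hV.ge hu).2 r hr
  letI : CommGroup U :=
    { (inferInstance : Group U) with
      mul_comm := fun a b => Subtype.ext ((Subgroup.mem_center_iff.1 (hUc a.2) b).symm) }
  obtain ⟨⟨u₀, hu₀⟩, ha⟩ := Subgroup.ne_bot_iff_exists_ne_one.1 hU1
  have hu₀1 : u₀ ≠ 1 := fun h => ha (Subtype.ext h)
  have hscal : ∀ γ : A, ∃ l : ℕ, ∀ u ∈ U, ψ γ u = u ^ l := by
    intro γ
    let g : U →* U := MonoidHom.mk' (fun u => ⟨ψ γ u, hUi γ u u.2⟩) fun a b => Subtype.ext (map_mul (ψ γ) _ _)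
    have hit : ∀ k : ℕ, ∀ u : U, ((g^[k] u : U) : P ⧸ N) = ψ (γ ^ k) u := by
      intro k
      induction k with
      | zero => intro u; rw [pow_zero, map_one]; rfl
      | succ k ih => intro u; rw [Function.iterate_succ_apply, ih, pow_succ, map_mul, MulAut.mul_apply]; rfl
    obtain ⟨l, v, hv1, hv⟩ := exists_eigen (p := p) (fun u => Subtype.ext (hUe u u.2)) (u₀ := ⟨u₀, hu₀⟩)
      (fun h => hu₀1 (congrArg Subtype.val h)) g fun u => Subtype.ext (by rw [hit, hfix _ (hexp γ) _ u.2])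
    let E : Subgroup (P ⧸ N) :=
      { carrier := {u | u ∈ U ∧ ψ γ u = u ^ l}
        one_mem' := ⟨one_mem _, by simp⟩
        mul_mem' := fun {a b} ha hb => ⟨mul_mem ha.1 hb.1, by
          rw [map_mul, ha.2, hb.2, (show Commute a b from (Subgroup.mem_center_iff.1 (hUc ha.1) b).symm).mul_pow]⟩
        inv_mem' := fun {a} ha => ⟨inv_mem ha.1, by rw [map_inv, ha.2, inv_pow]⟩ }
    have hE : E = U := by
      refine hsmall E (fun u hu => hu.1) ⟨v, ⟨v.2, by have := congrArg Subtype.val hv; simpa [g] using this⟩,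
        fun h => hv1 (Subtype.ext h)⟩ fun δ u hu => ⟨hUi δ u hu.1, ?_⟩
      have h1 := hfix _ (hcomm γ δ) _ (hUi δ _ (hUi γ _ hu.1))
      rw [← MulAut.mul_apply, ← map_mul, ← MulAut.mul_apply, ← map_mul,
        show γ * δ * γ⁻¹ * δ⁻¹ * δ * γ = γ * δ by group, map_mul, MulAut.mul_apply,
        hu.2, map_pow] at h1
      exact h1
    exact ⟨l, fun u hu => (hE.ge hu).2⟩
  have hline : Subgroup.zpowers u₀ = U := hsmall _ (Subgroup.zpowers_le.2 hu₀) ⟨u₀, Subgroup.mem_zpowers _, hu₀1⟩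
    fun γ v hv => by
      obtain ⟨l, hl⟩ := hscal γ
      rw [hl v ((Subgroup.zpowers_le.2 hu₀) hv)]
      exact pow_mem hv l
  obtain ⟨z, rfl⟩ := QuotientGroup.mk'_surjective N u₀
  haveI : U.Normal := ⟨fun u hu g => by
    rw [Subgroup.mem_center_iff.1 (hUc hu) g, mul_inv_cancel_right]; exact hu⟩
  refine ⟨U.comap (QuotientGroup.mk' N), inferInstance, lt_of_le_of_ne (fun x hx => ?_) fun h => hu₀1 ?_,
    fun γ hγ x hx => ?_, z, ?_⟩
  · show QuotientGroup.mk' N x ∈ U
    rw [show QuotientGroup.mk' N x = 1 from (QuotientGroup.eq_one_iff x).2 hx]; exact one_mem U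
  · have hz : z ∈ U.comap (QuotientGroup.mk' N) := hu₀
    rw [← h] at hz
    exact (QuotientGroup.eq_one_iff z).2 hz
  · exact hUi ⟨γ, hγ⟩ _ hx
  · rw [← hline, ← MonoidHom.map_zpowers, Subgroup.comap_map_eq, QuotientGroup.ker_mk', sup_comm]

end Cfsg.Agent.Solv.Flag
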