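import Cfsg.Agent.Lib.Local.FS.SmallOmega
import Cfsg.Agent.Lib.Local.FS.HeisExt
import Cfsg.Agent.Lib.Solv.PGroupPhi

/-!
Metacyclic `p`-groups, `p` odd, that are not homocyclic have a maximal subgroup fixed by every automorphism.
-/

set_option autoImplicit false

open scoped commutatorElement

universe u

namespace Cfsg.Agent.Solv.MetaOdd

variable {p : ℕ} [hp : Fact p.Prime] {S : Type u} [Group S] [Finite S]

/-- A normal subgroup of order dividing `p` of a `p`-group is central. -/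
theorem central_of_small {Q : Type*} [Group Q] [Finite Q] (hQ : IsPGroup p Q) (Z : Subgroup Q) [Z.Normal]
    (hZ : Nat.card Z ∣ p) {z : Q} (hz : z ∈ Z) (q : Q) : q * z = z * q := by
  rcases (Nat.dvd_prime hp.out).1 hZ with h | h
  · have := Subgroup.card_eq_one.1 h
    rw [this, Subgroup.mem_bot] at hz
    rw [hz, mul_one, one_mul]
  haveI : Group.IsNilpotent Q := hQ.isNilpotent
  obtain ⟨w, hwZ, hw1, hwc⟩ := Cfsg.Agent.Fusion.exists_fixed_mod (N := (⊥ : Subgroup Q)) (C := Z) (Q := ⊤)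
    (by rw [Subgroup.normalizer_eq_top]) (fun he => by
      rw [le_bot_iff.1 he, Subgroup.card_bot] at h
      exact hp.out.ne_one h.symm)
  have hgen : Subgroup.zpowers w = Z := Subgroup.eq_of_le_of_card_ge (Subgroup.zpowers_le.2 hwZ) (by
    rw [Nat.card_zpowers, h]
    rcases (Nat.dvd_prime hp.out).1 (h ▸ Subgroup.orderOf_dvd_natCard Z hwZ) with h1 | h1
    · exact absurd (Subgroup.mem_bot.2 (orderOf_eq_one_iff.1 h1)) hw1
    · exact h1.ge)
  obtain ⟨i, rfl⟩ := Subgroup.mem_zpowers_iff.1 (hgen ▸ hz)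
  have hc : Commute q w :=
    (commutatorElement_eq_one_iff_mul_comm.1 (Subgroup.mem_bot.1 (hwc q trivial))).symm
  exact (hc.zpow_right i).eq

/-- With a cyclic derived subgroup, powering by `p ^ n` is a homomorphism modulo its `p ^ n`-th powers. -/
theorem exists_pow_mul (hp2 : p ≠ 2) (hS : IsPGroup p S) {c : S} [(Subgroup.zpowers c).Normal]
    (hder : ∀ x y : S, ⁅x, y⁆ ∈ Subgroup.zpowers c) :
    ∀ (n : ℕ) (x y : S), ∃ d ∈ Subgroup.zpowers (c ^ p ^ n), (x * y) ^ p ^ n = x ^ p ^ n * y ^ p ^ n * d := by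
  have hnorm : ∀ n : ℕ, (Subgroup.zpowers (c ^ n)).Normal := fun n => ⟨fun z hz g => by
    obtain ⟨i, rfl⟩ := Subgroup.mem_zpowers_iff.1 hz
    rw [← conj_zpow, ← conj_pow]
    refine zpow_mem ?_ i
    obtain ⟨j, hj⟩ := Subgroup.mem_zpowers_iff.1
      (‹(Subgroup.zpowers c).Normal›.conj_mem c (Subgroup.mem_zpowers c) g)
    rw [← hj, ← zpow_natCast (c ^ j), ← zpow_mul, mul_comm, zpow_mul, zpow_natCast]
    exact Subgroup.zpow_mem_zpowers _ _⟩
  intro n
  induction n with
  | zero => intro x y; exact ⟨1, one_mem _, by simp⟩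
  | succ n ih =>
    intro x y
    haveI := hnorm (p ^ n)
    haveI := hnorm (p ^ (n + 1))
    obtain ⟨d, hd, hxy⟩ := ih x y
    -- powers are central modulo the powers of `c`
    have hcen : ∀ g h : S, ⁅g, h ^ p ^ n⁆ ∈ Subgroup.zpowers (c ^ p ^ n) := by
      intro g h
      obtain ⟨u, hu⟩ : ∃ u, u = g * h * g⁻¹ * h⁻¹ := ⟨_, rfl⟩
      obtain ⟨i, hi⟩ := Subgroup.mem_zpowers_iff.1 (hu ▸ hder g h : u ∈ Subgroup.zpowers c)
      obtain ⟨e, he, hpow⟩ := ih u h
      rw [show u * h = g * h * g⁻¹ by rw [hu, inv_mul_cancel_right], conj_pow] at hpow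
      have hup : u ^ p ^ n ∈ Subgroup.zpowers (c ^ p ^ n) := by
        rw [← hi, ← zpow_natCast (c ^ i), ← zpow_mul, mul_comm, zpow_mul, zpow_natCast]
        exact Subgroup.zpow_mem_zpowers _ _
      rw [commutatorElement_def, hpow, mul_assoc (u ^ p ^ n), mul_assoc (u ^ p ^ n)]
      exact mul_mem hup (by
        have := (hnorm (p ^ n)).conj_mem e he (h ^ p ^ n)
        simpa [mul_assoc] using this)
    have hQ : IsPGroup p (S ⧸ Subgroup.zpowers (c ^ p ^ (n + 1))) := hS.to_quotient _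
    obtain ⟨π, hπd⟩ : ∃ π, π = QuotientGroup.mk' (Subgroup.zpowers (c ^ p ^ (n + 1))) := ⟨_, rfl⟩
    haveI : (Subgroup.map π (Subgroup.zpowers (c ^ p ^ n))).Normal := Subgroup.Normal.map inferInstance π
      (hπd ▸ QuotientGroup.mk'_surjective _)
    have hsmall : Nat.card (Subgroup.map π (Subgroup.zpowers (c ^ p ^ n))) ∣ p := by
      rw [MonoidHom.map_zpowers, Nat.card_zpowers]
      refine orderOf_dvd_of_pow_eq_one ?_
      rw [← map_pow, ← pow_mul, ← pow_succ, hπd]
      exact (QuotientGroup.eq_one_iff _).2 (Subgroup.mem_zpowers _)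
    have hcent : ∀ z ∈ Subgroup.zpowers (c ^ p ^ n), ∀ q, q * π z = π z * q := fun z hz q =>
      central_of_small hQ _ hsmall (Subgroup.mem_map_of_mem π hz) q
    have hexp : ∀ z ∈ Subgroup.zpowers (c ^ p ^ n), π z ^ p = 1 := fun z hz => by
      have h1 : orderOf (⟨π z, Subgroup.mem_map_of_mem π hz⟩ : Subgroup.map π (Subgroup.zpowers (c ^ p ^ n))) ∣ p :=
        (orderOf_dvd_natCard _).trans hsmall
      rw [← Subgroup.orderOf_coe] at h1
      exact orderOf_dvd_iff_pow_eq_one.1 h1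
    obtain ⟨a, ha⟩ : ∃ a, a = π (x ^ p ^ n) := ⟨_, rfl⟩
    obtain ⟨b, hb⟩ : ∃ b, b = π (y ^ p ^ n) := ⟨_, rfl⟩
    have hu : ⁅b, a⁆ = π ⁅y ^ p ^ n, x ^ p ^ n⁆ := by rw [ha, hb, map_commutatorElement]
    have hab : ∀ k : ℕ, (a * b) ^ k = a ^ k * b ^ k * ⁅b, a⁆ ^ k.choose 2 :=
      Cfsg.Agent.Local.FS.mul_pow_central fun q => by
        rw [hu]; exact (hcent _ (hcen _ x) q).symm
    refine ⟨((x ^ p ^ n) ^ p * (y ^ p ^ n) ^ p)⁻¹ * ((x * y) ^ p ^ n) ^ p, ?_, by
      rw [pow_succ, pow_mul, pow_mul, pow_mul, mul_inv_cancel_left]⟩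
    rw [← QuotientGroup.eq_one_iff]
    show QuotientGroup.mk' _ _ = 1
    rw [← hπd, hxy, map_mul, map_inv, map_mul, map_pow π (x ^ p ^ n) p, map_pow π (y ^ p ^ n) p,
      map_pow π (x ^ p ^ n * y ^ p ^ n * d) p, map_mul, map_mul, ← ha, ← hb,
      (show Commute (a * b) (π d) from hcent d hd _).mul_pow, hexp d hd, mul_one, hab]
    obtain ⟨e, he⟩ := hp.out.dvd_choose_self (k := 2) two_ne_zero
      (lt_of_le_of_ne hp.out.two_le (Ne.symm hp2))
    rw [he, pow_mul, hu, hexp _ (hcen _ x), one_pow, mul_one, inv_mul_cancel]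

/-- The invariant maximal subgroup. -/
theorem exists_invariant_maximal (hp2 : p ≠ 2) (hS : IsPGroup p S) (hm : Cfsg.IsMetacyclic S) (hnc : ¬ IsCyclic S)
    (hnh : ¬ ∃ n : ℕ, 0 < n ∧ Nonempty (S ≃* Multiplicative (ZMod (p ^ n)) × Multiplicative (ZMod (p ^ n)))) :
    ∃ M : Subgroup S, M.index = p ∧ ∀ (γ : MulAut S), ∀ x ∈ M, γ x ∈ M := by
  classical
  obtain ⟨E, hE, hEc, hEm⟩ := Cfsg.Agent.Local.FS.metacyclic_small_omega hp2 hS hm
  obtain ⟨N, hN, hNc, hQc⟩ := hm
  haveI := hN; haveI := hNc; haveI := hQc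
  haveI : Nontrivial S := by
    by_contra h
    rw [not_nontrivial_iff_subsingleton] at h
    exact hnc isCyclic_of_subsingleton
  -- the derived subgroup
  have hDN : commutator S ≤ N := by
    rw [commutator_def, Subgroup.commutator_le]
    intro u _ v _
    rw [← QuotientGroup.eq_one_iff, ← QuotientGroup.mk'_apply, map_commutatorElement,
      commutatorElement_eq_one_iff_mul_comm]
    exact IsCyclic.commutative.is_comm.comm _ _
  haveI hDc : IsCyclic (commutator S) :=
    isCyclic_of_injective (Subgroup.inclusion hDN) (Subgroup.inclusion_injective hDN)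
  obtain ⟨c₀, hc₀⟩ := hDc.exists_generator
  obtain ⟨c, hc⟩ : ∃ c, c = (c₀ : S) := ⟨_, rfl⟩
  have hcD : Subgroup.zpowers c = commutator S := by
    refine le_antisymm (Subgroup.zpowers_le.2 (hc ▸ c₀.2)) fun z hz => ?_
    obtain ⟨i, hi⟩ := Subgroup.mem_zpowers_iff.1 (hc₀ ⟨z, hz⟩)
    exact ⟨i, by rw [hc]; exact congrArg Subtype.val hi⟩
  haveI : (Subgroup.zpowers c).Normal := hcD ▸ inferInstance
  have hder : ∀ x y : S, ⁅x, y⁆ ∈ Subgroup.zpowers c := fun x y =>
    hcD ▸ commutator_def S ▸ Subgroup.commutator_mem_commutator (Subgroup.mem_top x) (Subgroup.mem_top y)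
  -- the exponent
  obtain ⟨a, ha⟩ : ∃ a, Monoid.exponent S = p ^ (a + 1) := by
    obtain ⟨j, hj⟩ := IsPGroup.iff_card.1 hS
    obtain ⟨i, -, hi⟩ := (Nat.dvd_prime_pow hp.out).1 (hj ▸ Group.exponent_dvd_nat_card (G := S))
    rcases i with _ | i
    · exfalso
      obtain ⟨x, hx⟩ := exists_ne (1 : S)
      have := Monoid.pow_exponent_eq_one x
      rw [hi, pow_zero, pow_one] at this
      exact hx this
    · exact ⟨i, hi⟩
  have hpowa : ∀ x : S, x ^ p ^ (a + 1) = 1 := fun x => ha ▸ Monoid.pow_exponent_eq_one x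
  have hca : c ^ p ^ a = 1 := by
    by_contra h
    have ho : orderOf c = p ^ (a + 1) := orderOf_eq_prime_pow h (hpowa c)
    have hNE : N = commutator S := by
      refine (Subgroup.eq_of_le_of_card_ge hDN ?_).symm
      have h1 : Nat.card N ∣ p ^ (a + 1) := by
        rw [← IsCyclic.exponent_eq_card, ← ha]
        exact Monoid.exponent_dvd_of_monoidHom N.subtype N.subtype_injective
      rw [← hcD, Nat.card_zpowers, ho]
      exact Nat.le_of_dvd (pow_pos hp.out.pos _) h1
    haveI : IsCyclic (S ⧸ commutator S) :=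
      isCyclic_of_surjective (QuotientGroup.quotientMulEquivOfEq hNE).toMonoidHom (QuotientGroup.quotientMulEquivOfEq hNE).surjective
    obtain ⟨g, hg⟩ := IsCyclic.exists_generator (α := S ⧸ commutator S)
    obtain ⟨g, rfl⟩ := QuotientGroup.mk'_surjective (commutator S) g
    haveI : Group.IsNilpotent S := hS.isNilpotent
    refine hnc ⟨⟨g, fun z => ?_⟩⟩
    have htop : Subgroup.zpowers g ⊔ frattini S = ⊤ := eq_top_iff.2 fun z _ => by
      obtain ⟨i, hi⟩ := Subgroup.mem_zpowers_iff.1 (hg (QuotientGroup.mk' (commutator S) z))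
      rw [← map_zpow, QuotientGroup.mk'_apply, QuotientGroup.mk'_apply, QuotientGroup.eq] at hi
      have := Subgroup.mul_mem_sup (Subgroup.zpow_mem_zpowers g i) (Solv.commutator_le_frattini_pgroup hS hi)
      rwa [mul_inv_cancel_left] at this
    exact (frattini_nongenerating htop).ge (Subgroup.mem_top z)
  obtain ⟨q, hq⟩ : ∃ q : S →* S, ∀ x, q x = x ^ p ^ a :=
    ⟨MonoidHom.mk' (fun x => x ^ p ^ a) fun x y => by
      obtain ⟨d, hd, e⟩ := exists_pow_mul hp2 hS hder a x y
      rw [hca, Subgroup.zpowers_one_eq_bot, Subgroup.mem_bot] at hd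
      rw [e, hd, mul_one], fun _ => rfl⟩
  have hrE : q.range ≤ E := by
    rintro _ ⟨x, rfl⟩
    refine hEm _ ?_
    rw [hq, ← pow_mul, ← pow_succ]
    exact hpowa x
  have hr1 : q.range ≠ ⊥ := fun h => by
    have hdvd : Monoid.exponent S ∣ p ^ a := Monoid.exponent_dvd_of_forall_pow_eq_one fun x => by
      rw [← hq, ← Subgroup.mem_bot, ← h]; exact ⟨x, rfl⟩
    rw [ha] at hdvd
    have := Nat.le_of_dvd (pow_pos hp.out.pos a) hdvd
    exact absurd this (not_le.2 (Nat.pow_lt_pow_right hp.out.one_lt (Nat.lt_succ_self a)))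
  obtain ⟨i, hi2, hi⟩ := (Nat.dvd_prime_pow hp.out).1 ((Subgroup.card_dvd_of_le hrE).trans hEc)
  have hqγ : ∀ (γ : MulAut S) (x : S), q (γ x) = γ (q x) := fun γ x => by rw [hq, hq, map_pow]
  interval_cases i
  · exact absurd (Subgroup.card_eq_one.1 (by simpa using hi)) hr1
  · refine ⟨q.ker, by rw [Subgroup.index_ker, hi, pow_one], fun γ x hx => ?_⟩
    rw [MonoidHom.mem_ker, hqγ, MonoidHom.mem_ker.1 hx, map_one]
  -- the image is all of `Ω₁`
  have hqE : q.range = E := Subgroup.eq_of_le_of_card_ge hrE (hi ▸ Nat.le_of_dvd (pow_pos hp.out.pos 2) hEc)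
  by_cases hab : ∀ x y : S, x * y = y * x
  · exfalso
    refine hnh ⟨a + 1, Nat.succ_pos a, ?_⟩
    haveI : NeZero (p ^ (a + 1)) := ⟨pow_ne_zero _ hp.out.ne_zero⟩
    letI : CommGroup S := { (inferInstance : Group S) with mul_comm := hab }
    have hone : ∃ x : S, q x ≠ 1 := by
      by_contra hcon
      push Not at hcon
      exact hr1 (eq_bot_iff.2 fun z ⟨x, hx⟩ => Subgroup.mem_bot.2 (hx ▸ hcon x))
    obtain ⟨x, hx⟩ := hone
    obtain ⟨y, hy⟩ : ∃ y : S, q y ∉ Subgroup.zpowers (q x) := by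
      by_contra hcon
      push Not at hcon
      have hle : q.range ≤ Subgroup.zpowers (q x) := by rintro _ ⟨y, rfl⟩; exact hcon y
      have h1 := Subgroup.card_le_of_le hle
      have h2 : orderOf (q x) ≤ p :=
        Nat.le_of_dvd hp.out.pos (orderOf_dvd_of_pow_eq_one (by rw [hq, ← pow_mul, ← pow_succ, hpowa]))
      rw [Nat.card_zpowers, hi] at h1
      nlinarith [hp.out.two_le]
    let f : Multiplicative (ZMod (p ^ (a + 1))) × Multiplicative (ZMod (p ^ (a + 1))) →* S := MonoidHom.mk'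
      (fun v => x ^ (Multiplicative.toAdd v.1).val * y ^ (Multiplicative.toAdd v.2).val) fun u v => by
        simp only [Prod.fst_mul, Prod.snd_mul, toAdd_mul, ZMod.val_add]
        rw [← pow_eq_pow_mod _ (hpowa x), ← pow_eq_pow_mod _ (hpowa y), pow_add x (Multiplicative.toAdd u.1).val,
          pow_add y (Multiplicative.toAdd u.2).val]
        exact (show Commute (x ^ (Multiplicative.toAdd v.1).val) (y ^ (Multiplicative.toAdd u.2).val) from hab _ _).mul_mul_mul_comm _ _
    -- divisibility of exponents by induction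
    have hind : ∀ j ≤ a + 1, ∀ m n : ℕ, x ^ m * y ^ n = 1 → p ^ j ∣ m ∧ p ^ j ∣ n := by
      intro j
      induction j with
      | zero => intros; exact ⟨one_dvd _, one_dvd _⟩
      | succ j ih =>
        intro hj m n hmn
        obtain ⟨⟨m', rfl⟩, ⟨n', rfl⟩⟩ := ih (by omega) m n hmn
        have h2 : q x ^ m' * q y ^ n' = 1 := by
          have h3 := congrArg (· ^ p ^ (a - j)) hmn
          simp only [one_pow, mul_pow, ← pow_mul] at h3
          have e : ∀ t, p ^ j * t * p ^ (a - j) = p ^ a * t := fun t => by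
            rw [mul_right_comm, ← pow_add, Nat.add_sub_cancel' (by omega)]
          rw [e, e, pow_mul, pow_mul, ← hq, ← hq] at h3
          exact h3
        have hord : orderOf (q x) = p := orderOf_eq_prime (by rw [hq, ← pow_mul, ← pow_succ, hpowa]) hx
        have hn' : p ∣ n' := by
          by_contra hn'
          refine hy (Cfsg.Agent.Local.FS.Heis.zpow_eq_one_of_coprime (k := (n' : ℤ)) (by exact_mod_cast hn') ?_ ?_)
          · rw [zpow_natCast, eq_inv_of_mul_eq_one_right h2]
            exact inv_mem (Subgroup.npow_mem_zpowers _ _)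
          · rw [show q y ^ p = 1 by rw [hq, ← pow_mul, ← pow_succ, hpowa]]; exact one_mem _
        obtain ⟨n'', rfl⟩ := hn'
        rw [pow_mul (q y), hq y, ← pow_mul y, ← pow_succ, hpowa, one_pow, mul_one] at h2
        have hm' : p ∣ m' := hord ▸ orderOf_dvd_of_pow_eq_one h2
        exact ⟨by rw [pow_succ]; exact mul_dvd_mul_left _ hm', by rw [pow_succ]; exact mul_dvd_mul_left _ (dvd_mul_right p n'')⟩
    have hf : Function.Injective f := by
      refine (injective_iff_map_eq_one f).2 fun v hv => ?_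
      obtain ⟨h1, h2⟩ := hind (a + 1) le_rfl _ _ hv
      have key : ∀ z : ZMod (p ^ (a + 1)), p ^ (a + 1) ∣ z.val → z = 0 := fun z hz => by
        rw [← ZMod.natCast_zmod_val z, ZMod.natCast_eq_zero_iff]; exact hz
      exact Prod.ext (Multiplicative.toAdd.injective (key _ h1)) (Multiplicative.toAdd.injective (key _ h2))
    -- and the order is small
    have hcard : Nat.card S ≤ p ^ (a + 1) * p ^ (a + 1) := by
      have h1 : Nat.card N ≤ p ^ (a + 1) := by
        rw [← IsCyclic.exponent_eq_card]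
        exact Nat.le_of_dvd (pow_pos hp.out.pos _) (ha ▸ Monoid.exponent_dvd_of_monoidHom N.subtype N.subtype_injective)
      have h2 : Nat.card (S ⧸ N) ≤ p ^ (a + 1) := by
        rw [← IsCyclic.exponent_eq_card]
        refine Nat.le_of_dvd (pow_pos hp.out.pos _) (Monoid.exponent_dvd_of_forall_pow_eq_one fun v => ?_)
        obtain ⟨s, rfl⟩ := QuotientGroup.mk'_surjective N v
        rw [← map_pow, hpowa, map_one]
      rw [Subgroup.card_eq_card_quotient_mul_card_subgroup N]
      exact Nat.mul_le_mul h2 h1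
    have hcard' : Nat.card (Multiplicative (ZMod (p ^ (a + 1))) × Multiplicative (ZMod (p ^ (a + 1)))) =
        p ^ (a + 1) * p ^ (a + 1) := by
      rw [Nat.card_prod, Nat.card_congr Multiplicative.toAdd, Nat.card_zmod]
    exact ⟨(MulEquiv.ofBijective f (hf.bijective_of_nat_card_le (hcard'.symm ▸ hcard))).symm⟩
  -- a line in `Ω₁`
  push Not at hab
  obtain ⟨x, y, hxy⟩ := hab
  have hne : commutator S ≠ ⊥ := fun h => hxy (commutatorElement_eq_one_iff_mul_comm.1 (Subgroup.mem_bot.1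
    (h ▸ commutator_def S ▸ Subgroup.commutator_mem_commutator (Subgroup.mem_top x) (Subgroup.mem_top y))))
  let L : Subgroup S :=
    { carrier := {z | z ∈ commutator S ∧ z ^ p = 1}
      one_mem' := ⟨one_mem _, one_pow p⟩
      mul_mem' := fun {u v} hu hv => ⟨mul_mem hu.1 hv.1, by
        rw [(show Commute u v from congrArg Subtype.val
          (hDc.commutative.is_comm.comm ⟨u, hu.1⟩ ⟨v, hv.1⟩)).mul_pow, hu.2, hv.2, one_mul]⟩
      inv_mem' := fun {u} hu => ⟨inv_mem hu.1, by rw [inv_pow, hu.2, inv_one]⟩ }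
  have hLq : L ≤ q.range := fun z hz => hqE.ge (hEm z hz.2)
  have hLc : Nat.card L = p := by
    haveI : IsCyclic L := isCyclic_of_injective (Subgroup.inclusion (fun z (hz : z ∈ L) => hz.1))
      (Subgroup.inclusion_injective _)
    have h1 : Nat.card L ∣ p := by
      rw [← IsCyclic.exponent_eq_card, Monoid.exponent_dvd_iff_forall_pow_eq_one]
      exact fun z => Subtype.ext z.2.2
    rcases (Nat.dvd_prime hp.out).1 h1 with h | h
    · exfalso
      obtain ⟨z, hz⟩ := exists_prime_orderOf_dvd_card' (G := commutator S) p (by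
        obtain ⟨j, hj⟩ := IsPGroup.iff_card.1 (hS.to_subgroup (commutator S))
        rcases j with _ | j
        · exact absurd (Subgroup.card_eq_one.1 (by simpa using hj)) hne
        · exact hj ▸ dvd_pow_self p (Nat.succ_ne_zero j))
      have hzL : (z : S) ∈ L := ⟨z.2, by rw [← hz, ← Subgroup.orderOf_coe, pow_orderOf_eq_one]⟩
      rw [Subgroup.card_eq_one.1 h, Subgroup.mem_bot] at hzL
      exact hp.out.ne_one (by rw [← hz, ← Subgroup.orderOf_coe, hzL, orderOf_one])
    · exact h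
  refine ⟨L.comap q, ?_, fun γ z hz => ?_⟩
  · rw [Subgroup.index_comap, Subgroup.relIndex]
    have h := (L.subgroupOf q.range).card_mul_index
    rw [Nat.card_congr (Subgroup.subgroupOfEquivOfLe hLq).toEquiv, hLc, hi, sq] at h
    exact Nat.eq_of_mul_eq_mul_left hp.out.pos h
  · show q (γ z) ∈ L
    rw [hqγ]
    exact ⟨(Subgroup.characteristic_iff_map_eq.1 (inferInstance : (commutator S).Characteristic) γ).le
      ⟨q z, hz.1, rfl⟩, by rw [← map_pow, hz.2, map_one]⟩

end Cfsg.Agent.Solv.MetaOdd
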