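import Mathlib
import Cfsg.Prelude.Def_OddOrderLocal
import Cfsg.Agent.Lib.Solv.PGroupPhi
import Cfsg.Agent.Lib.Solv.SmallRank
import Cfsg.Agent.Lib.Lie.OrderEightTypes

/-!
# Metacyclic 2-groups with an automorphism of odd order
-/

set_option autoImplicit false
set_option linter.style.haveILetI false

namespace Cfsg.Agent.Solv.MetaTwo

open scoped commutatorElement

variable {P : Type*} [Group P] [Finite P]

/-- An automorphism of odd prime order trivial on the Frattini quotient is trivial. -/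
theorem eq_one_of_trivial {p : ℕ} [Fact p.Prime] (hP : IsPGroup p P) {φ : MulAut P} {q : ℕ} [hq : Fact q.Prime]
    (hqp : q ≠ p) (hφ : φ ^ q = 1) (htriv : ∀ x : P, φ x * x⁻¹ ∈ frattini P) : φ = 1 := by
  classical
  obtain ⟨C, hC⟩ : ∃ C : Subgroup P, C = MonoidHom.eqLocus φ.toMonoidHom (MonoidHom.id P) := ⟨_, rfl⟩
  have hmem : ∀ x, x ∈ C ↔ φ x = x := fun x => by rw [hC]; rfl
  have hΦ : ∀ y, y ∈ frattini P → φ y ∈ frattini P := fun y hy => by
    rw [← Subgroup.characteristic_iff_map_eq.1 (inferInstance : (frattini P).Characteristic) φ]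
    exact ⟨y, hy, rfl⟩
  suffices hsup : C ⊔ frattini P = ⊤ by
    refine MulEquiv.ext fun x => (hmem x).1 ?_
    rw [frattini_nongenerating hsup]
    trivial
  refine eq_top_iff.2 fun x _ => ?_
  have hinv : ∀ y : P, y * x⁻¹ ∈ frattini P ↔ φ y * x⁻¹ ∈ frattini P := by
    intro y
    have e : φ y * x⁻¹ = (φ y * y⁻¹) * (y * x⁻¹) := by group
    rw [e]
    exact (Subgroup.mul_mem_cancel_left _ (htriv y)).symm
  haveI : Fintype {y : P // y * x⁻¹ ∈ frattini P} := Fintype.ofFinite _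
  let σ : Equiv.Perm {y : P // y * x⁻¹ ∈ frattini P} :=
    Equiv.subtypeEquiv φ.toEquiv fun y => hinv y
  have hσn : ∀ (n : ℕ) (a : {y : P // y * x⁻¹ ∈ frattini P}), ((σ ^ n) a : P) = (φ ^ n) (a : P) := by
    intro n
    induction n with
    | zero => intro a; rfl
    | succ n ih => intro a; rw [pow_succ, pow_succ, Equiv.Perm.mul_apply, ih, MulAut.mul_apply]; rfl
  have hσ : σ ^ q ^ 1 = 1 := by
    refine Equiv.ext fun a => Subtype.ext ?_
    rw [pow_one, hσn, hφ]; rfl
  have hcard : ¬ q ∣ Fintype.card {y : P // y * x⁻¹ ∈ frattini P} := by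
    rw [← Nat.card_eq_fintype_card,
      Nat.card_congr (show {y : P // y * x⁻¹ ∈ frattini P} ≃ ↥(frattini P) from
        Equiv.subtypeEquiv (Equiv.mulRight x⁻¹) fun y => Iff.rfl)]
    obtain ⟨k, hk⟩ := IsPGroup.iff_card.1 (hP.to_subgroup (frattini P))
    rw [hk]
    exact fun h => hqp ((Nat.prime_dvd_prime_iff_eq hq.out (Fact.out : p.Prime)).1 (hq.out.dvd_of_dvd_pow h))
  obtain ⟨⟨y, hy⟩, hfix⟩ := Equiv.Perm.exists_fixed_point_of_prime hcard hσ
  have h1 : y ∈ C := (hmem y).2 (congrArg Subtype.val hfix)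
  have e : x = y * (y⁻¹ * (y * x⁻¹)⁻¹ * y) := by group
  rw [e]
  refine mul_mem (Subgroup.mem_sup_left h1) (Subgroup.mem_sup_right ?_)
  simpa using (inferInstance : (frattini P).Normal).conj_mem _ (inv_mem hy) y⁻¹

variable (hP : IsPGroup 2 P) (φ : MulAut P) {q : ℕ}

/-- `φ` has odd order and moves a coset of the Frattini subgroup. -/
def Moves (φ : MulAut P) (q : ℕ) : Prop :=
  Odd q ∧ φ ^ q = 1 ∧ ∃ x : P, φ x * x⁻¹ ∉ frattini P

include hP

theorem sq_mem (x : P) : x * x ∈ frattini P := by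
  haveI : Fact (Nat.Prime 2) := ⟨Nat.prime_two⟩
  simpa [sq] using Solv.pow_mem_frattini hP x

omit [Finite P] hP in
theorem pow_apply {H : Subgroup P} (hH : ∀ x ∈ H, φ x ∈ H) {x : P} (hx : φ x * x⁻¹ ∈ H) :
    ∀ n : ℕ, (φ ^ n) x * x⁻¹ ∈ H := by
  intro n
  induction n with
  | zero => simp
  | succ n ih =>
    rw [pow_succ', MulAut.mul_apply]
    have := mul_mem (hH _ ih) hx
    rw [map_mul, map_inv] at this
    convert this using 1
    group

/-- No invariant subgroup lies strictly between the Frattini subgroup and `P`. -/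
theorem no_between (hidx : (frattini P).index ≤ 4) (hm : Moves φ q) {H : Subgroup P} (hle : frattini P ≤ H)
    (hH : ∀ x ∈ H, φ x ∈ H) : H = frattini P ∨ H = ⊤ := by
  haveI : Fact (Nat.Prime 2) := ⟨Nat.prime_two⟩
  by_contra hcon
  push Not at hcon
  obtain ⟨hqo, hφq, x₀, hx₀⟩ := hm
  have hΦ : ∀ y, y ∈ frattini P → φ y ∈ frattini P := fun y hy => by
    rw [← Subgroup.characteristic_iff_map_eq.1 (inferInstance : (frattini P).Characteristic) φ]
    exact ⟨y, hy, rfl⟩
  have h1 := Subgroup.relIndex_mul_index hle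
  have h2 : (frattini P).relIndex H ≠ 1 := fun e => hcon.1 (le_antisymm (Subgroup.relIndex_eq_one.1 e) hle)
  have h3 : H.index ≠ 1 := fun e => hcon.2 (Subgroup.index_eq_one.1 e)
  have h4 : (frattini P).index ≠ 0 := Subgroup.index_ne_zero_of_finite
  have hr : (frattini P).relIndex H = 2 ∧ H.index = 2 := by
    rw [← h1] at hidx h4
    have h5 : (frattini P).relIndex H ≠ 0 := fun e => h4 (by rw [e, zero_mul])
    have h6 : H.index ≠ 0 := Subgroup.index_ne_zero_of_finite
    have h7 : (frattini P).relIndex H * 2 ≤ 4 := le_trans (Nat.mul_le_mul_left _ (by omega)) hidx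
    have h8 : 2 * H.index ≤ 4 := le_trans (Nat.mul_le_mul_right _ (by omega)) hidx
    omega
  -- `φ` is trivial modulo the Frattini subgroup on `H`
  have hH0 : ∀ h ∈ H, φ h * h⁻¹ ∈ frattini P := by
    intro h hh
    have e := Subgroup.mul_mem_iff_of_index_two (H := (frattini P).subgroupOf H) hr.1
      (a := ⟨φ h, hH h hh⟩) (b := (⟨h, hh⟩ : H)⁻¹)
    refine e.2 ?_
    rw [Subgroup.inv_mem_iff]
    simp only [Subgroup.mem_subgroupOf]
    exact ⟨fun hy => by
      have := Subgroup.characteristic_iff_map_eq.1 (inferInstance : (frattini P).Characteristic) φ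
      rw [← this] at hy
      obtain ⟨z, hz, ez⟩ := hy
      rwa [φ.injective ez] at hz, hΦ h⟩
  have hd : φ x₀ * x₀⁻¹ ∈ H := by
    refine (Subgroup.mul_mem_iff_of_index_two hr.2).2 ?_
    rw [Subgroup.inv_mem_iff]
    refine ⟨fun hy => ?_, hH x₀⟩
    have hn : ∀ n : ℕ, (φ ^ (n + 1)) x₀ ∈ H := by
      intro n
      induction n with
      | zero => simpa using hy
      | succ n ih => rw [pow_succ' φ (n + 1), MulAut.mul_apply]; exact hH _ ih
    obtain ⟨r, hr'⟩ := hqo
    have := hn (2 * r)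
    rwa [← hr', hφq, MulAut.one_apply] at this
  -- iterate
  have hd0 := hH0 _ hd
  obtain ⟨d, hde⟩ : ∃ d, d = φ x₀ * x₀⁻¹ := ⟨_, rfl⟩
  rw [← hde] at hd0 hd
  set μ := QuotientGroup.mk' (frattini P) with hμ
  have hφd : μ (φ d) = μ d := by
    have h5 : μ (φ d * d⁻¹) = 1 := (QuotientGroup.eq_one_iff _).2 hd0
    rwa [map_mul, map_inv, mul_inv_eq_one] at h5
  have hit : ∀ n : ℕ, μ ((φ ^ n) x₀) = μ d ^ n * μ x₀ := by
    intro n
    induction n with
    | zero => simp
    | succ n ih =>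
      have e1 : (φ ^ (n + 1)) x₀ = φ ((φ ^ n) x₀) := by rw [pow_succ', MulAut.mul_apply]
      obtain ⟨u, hu, hu'⟩ : ∃ u ∈ frattini P, (φ ^ n) x₀ = u * (d ^ n * x₀) := by
        refine ⟨(φ ^ n) x₀ * (d ^ n * x₀)⁻¹, (QuotientGroup.eq_one_iff _).1 ?_, by group⟩
        show μ ((φ ^ n) x₀ * (d ^ n * x₀)⁻¹) = 1
        rw [map_mul, map_inv, ih, map_mul, map_pow, mul_inv_cancel]
      rw [e1, hu', map_mul φ, map_mul μ, map_mul φ, map_pow φ, map_mul μ, map_pow μ,
        show μ (φ u) = 1 from (QuotientGroup.eq_one_iff _).2 (hΦ u hu), one_mul, hφd,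
        show φ x₀ = d * x₀ by rw [hde, inv_mul_cancel_right], map_mul, pow_succ, mul_assoc]
  obtain ⟨r, hr'⟩ := hqo
  have h6 := hit q
  rw [hφq, MulAut.one_apply, right_eq_mul, hr', pow_succ, pow_mul, sq, ← map_mul,
    show μ (d * d) = 1 from (QuotientGroup.eq_one_iff _).2 (sq_mem hP d), one_pow, one_mul] at h6
  exact hx₀ (hde ▸ (QuotientGroup.eq_one_iff d).1 h6)

omit [Finite P] hP in
theorem frattini_invariant (x : P) (hx : x ∈ frattini P) : φ x ∈ frattini P := by
  rw [← Subgroup.characteristic_iff_map_eq.1 (inferInstance : (frattini P).Characteristic) φ]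
  exact ⟨x, hx, rfl⟩

/-- A point moved to another nontrivial coset. -/
theorem exists_basis (hidx : (frattini P).index ≤ 4) (hm : Moves φ q) :
    ∃ a : P, a ∉ frattini P ∧ φ a ∉ frattini P ∧ φ a * a⁻¹ ∉ frattini P ∧
      frattini P ⊔ Subgroup.zpowers a ⊔ Subgroup.zpowers (φ a) = ⊤ := by
  haveI : Fact (Nat.Prime 2) := ⟨Nat.prime_two⟩
  obtain ⟨-, -, a, ha⟩ := hm
  have hΦn : (frattini P).Normal := inferInstance
  have ha1 : a ∉ frattini P := fun h => ha (mul_mem (frattini_invariant φ a h) (inv_mem h))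
  have ha2 : φ a ∉ frattini P := fun h => ha1 (by
    have := frattini_invariant φ⁻¹ (φ a) h
    simpa using this)
  refine ⟨a, ha1, ha2, ha, ?_⟩
  by_contra hne
  have hb : φ a ∉ frattini P ⊔ Subgroup.zpowers a := by
    intro h
    rw [← SetLike.mem_coe, Subgroup.normal_mul, Set.mem_mul] at h
    obtain ⟨u, hu, v, ⟨k, rfl⟩, e⟩ := h
    rcases Int.even_or_odd k with ⟨j, rfl⟩ | ⟨j, rfl⟩
    · refine ha2 (e ▸ mul_mem hu ?_)
      show a ^ (j + j) ∈ frattini P
      rw [← two_mul, zpow_mul, zpow_ofNat, sq]; exact zpow_mem (sq_mem hP a) j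
    · refine ha ?_
      rw [← e]
      have h2 : a ^ (2 * j) ∈ frattini P := by rw [zpow_mul, zpow_ofNat, sq]; exact zpow_mem (sq_mem hP a) j
      have := mul_mem hu h2
      show u * a ^ (2 * j + 1) * a⁻¹ ∈ frattini P
      rwa [zpow_add_one, mul_assoc, mul_inv_cancel_right]
  have l1 : frattini P < frattini P ⊔ Subgroup.zpowers a :=
    lt_of_le_of_ne le_sup_left fun e => ha1 (e ▸ Subgroup.mem_sup_right (Subgroup.mem_zpowers a))
  have l2 : frattini P ⊔ Subgroup.zpowers a < frattini P ⊔ Subgroup.zpowers a ⊔ Subgroup.zpowers (φ a) :=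
    lt_of_le_of_ne le_sup_left fun e => hb (e ▸ Subgroup.mem_sup_right (Subgroup.mem_zpowers (φ a)))
  have step : ∀ {H L : Subgroup P}, H < L → 2 * L.index ≤ H.index := by
    intro H L h
    rw [← Subgroup.relIndex_mul_index h.le]
    refine Nat.mul_le_mul_right _ ?_
    have h1 : H.relIndex L ≠ 1 := fun e => h.ne (le_antisymm h.le (Subgroup.relIndex_eq_one.1 e))
    have h2 : H.relIndex L ≠ 0 := fun e => by
      have := Subgroup.relIndex_mul_index h.le
      rw [e, zero_mul] at this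
      exact Subgroup.index_ne_zero_of_finite this.symm
    omega
  have h3 := step (lt_top_iff_ne_top.2 hne)
  have h4 := step l1
  have h5 := step l2
  rw [Subgroup.index_top] at h3
  omega

/-- The relative homocyclic structure modulo a normal subgroup containing the commutators. -/
theorem homocyclic (hidx : (frattini P).index ≤ 4) (hm : Moves φ q) (A : Subgroup P) [A.Normal]
    (hAc : ∀ x y : P, ⁅x, y⁆ ∈ A) (hAφ : ∀ x ∈ A, φ x ∈ A) (hAΦ : A ≤ frattini P) :
    ∃ n a b, 1 ≤ n ∧ (∀ x : P, x ^ 2 ^ n ∈ A) ∧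
      (∀ i j : ℕ, a ^ i * b ^ j ∈ A → 2 ^ n ∣ i ∧ 2 ^ n ∣ j) ∧
      (∀ x : P, ∃ i j : ℕ, i < 2 ^ n ∧ j < 2 ^ n ∧ (a ^ i * b ^ j)⁻¹ * x ∈ A) ∧ A.index = (2 ^ n) ^ 2 := by
  classical
  haveI : Fact (Nat.Prime 2) := ⟨Nat.prime_two⟩
  set μ := QuotientGroup.mk' A with hμ
  letI : CommGroup (P ⧸ A) :=
    { (inferInstance : Group (P ⧸ A)) with mul_comm := Solv.quotient_mul_comm A hAc }
  have hker : ∀ x, μ x = 1 ↔ x ∈ A := fun x => QuotientGroup.eq_one_iff x
  have hex : ∃ n : ℕ, ∀ x : P, x ^ 2 ^ n ∈ A := by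
    obtain ⟨n, hn⟩ := IsPGroup.iff_card.1 hP
    exact ⟨n, fun x => by rw [← hn, pow_card_eq_one']; exact one_mem A⟩
  obtain ⟨n, hn, hmin⟩ : ∃ n, (∀ x : P, x ^ 2 ^ n ∈ A) ∧ ∀ m < n, ¬ ∀ x : P, x ^ 2 ^ m ∈ A :=
    ⟨_, Nat.find_spec hex, fun m hm => Nat.find_min hex hm⟩
  obtain ⟨a, ha, hb, hd, htop⟩ := exists_basis hP φ hidx hm
  have hn1 : 1 ≤ n := by
    by_contra h
    obtain rfl : n = 0 := by omega
    have := hn a
    rw [pow_zero, pow_one] at this
    exact ha (hAΦ this)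
  -- elements of smaller exponent form the Frattini subgroup
  let K : Subgroup P := ((powMonoidHom (2 ^ (n - 1)) : (P ⧸ A) →* (P ⧸ A)).comp μ).ker
  have hK : ∀ x, x ∈ K ↔ x ^ 2 ^ (n - 1) ∈ A := fun x => by
    show μ x ^ 2 ^ (n - 1) = 1 ↔ _
    rw [← map_pow, hker]
  have hpow : 2 ^ n = 2 * 2 ^ (n - 1) := by
    rw [← pow_succ', Nat.sub_add_cancel hn1]
  have hKΦ : K = frattini P := by
    have hle : frattini P ≤ K := by
      refine Solv.frattini_le (p := 2) K (fun x y => ?_) fun x => ?_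
      · rw [hK]; exact pow_mem (hAc x y) _
      · rw [hK, ← pow_mul, ← hpow]; exact hn x
    rcases no_between hP φ hidx hm hle (fun x hx => by rw [hK] at hx ⊢; rw [← map_pow]; exact hAφ _ hx) with e | e
    · exact e
    · exact absurd (fun x => (hK x).1 (e ▸ Subgroup.mem_top x)) (hmin (n - 1) (by omega))
  obtain ⟨b, hbe⟩ : ∃ b, b = φ a := ⟨_, rfl⟩
  rw [← hbe] at hb hd htop
  have hind : ∀ i j : ℕ, a ^ i * b ^ j ∈ A → 2 ^ n ∣ i ∧ 2 ^ n ∣ j := by
    intro i j hij
    suffices h : ∀ k ≤ n, 2 ^ k ∣ i ∧ 2 ^ k ∣ j from h n le_rfl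
    intro k
    induction k with
    | zero => intro _; simp
    | succ k ih =>
      intro hk
      obtain ⟨⟨i', rfl⟩, ⟨j', rfl⟩⟩ := ih (by omega)
      have h1 : a ^ i' * b ^ j' ∈ K := by
        rw [hK, ← hker, map_pow, map_mul, map_pow, map_pow, mul_pow, ← pow_mul, ← pow_mul]
        have h2 := (hker _).2 hij
        rw [map_mul, map_pow, map_pow] at h2
        have h3 := congrArg (fun t : P ⧸ A => t ^ 2 ^ (n - 1 - k)) h2
        simp only [mul_pow, one_pow, ← pow_mul] at h3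
        rwa [show 2 ^ k * i' * 2 ^ (n - 1 - k) = i' * (2 ^ k * 2 ^ (n - 1 - k)) by ring,
          show 2 ^ k * j' * 2 ^ (n - 1 - k) = j' * (2 ^ k * 2 ^ (n - 1 - k)) by ring, ← pow_add,
          show k + (n - 1 - k) = n - 1 by omega] at h3
      rw [hKΦ] at h1
      set ν := QuotientGroup.mk' (frattini P)
      have hν : ν a ^ i' * ν b ^ j' = 1 := by
        rw [← map_pow, ← map_pow, ← map_mul]; exact (QuotientGroup.eq_one_iff _).2 h1
      have hsq : ∀ x : P, ν x ^ 2 = 1 := fun x => by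
        rw [← map_pow, sq]; exact (QuotientGroup.eq_one_iff _).2 (sq_mem hP x)
      rcases Nat.even_or_odd i' with ⟨s, rfl⟩ | ⟨s, rfl⟩ <;>
        rcases Nat.even_or_odd j' with ⟨t, rfl⟩ | ⟨t, rfl⟩
      · exact ⟨⟨s, by rw [pow_succ]; ring⟩, ⟨t, by rw [pow_succ]; ring⟩⟩
      · exfalso
        rw [← two_mul, pow_mul, hsq, one_pow, one_mul, pow_succ, pow_mul, hsq, one_pow, one_mul] at hν
        exact hb ((QuotientGroup.eq_one_iff b).1 hν)
      · exfalso
        rw [← two_mul, pow_succ, pow_mul, hsq, one_pow, one_mul, pow_mul, hsq, one_pow, mul_one] at hν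
        exact ha ((QuotientGroup.eq_one_iff a).1 hν)
      · exfalso
        rw [pow_succ, pow_mul, hsq, one_pow, one_mul, pow_succ, pow_mul, hsq, one_pow, one_mul] at hν
        refine hd ((QuotientGroup.eq_one_iff _).1 ?_)
        show ν (b * a⁻¹) = 1
        rw [map_mul, map_inv, eq_inv_of_mul_eq_one_right hν, ← mul_inv_rev,
          show ν a * ν a = 1 by rw [← sq]; exact hsq a, inv_one]
  have hgen : ∀ x : P, ∃ i j : ℕ, i < 2 ^ n ∧ j < 2 ^ n ∧ (a ^ i * b ^ j)⁻¹ * x ∈ A := by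
    have hsup : Subgroup.zpowers a ⊔ Subgroup.zpowers b = ⊤ := by
      refine frattini_nongenerating ?_
      rw [← htop, sup_comm, ← sup_assoc]
    intro x
    have h2 : μ x ∈ Subgroup.zpowers (μ a) ⊔ Subgroup.zpowers (μ b) := by
      rw [← MonoidHom.map_zpowers, ← MonoidHom.map_zpowers, ← Subgroup.map_sup, hsup]
      exact ⟨x, Subgroup.mem_top x, rfl⟩
    rw [Subgroup.mem_sup] at h2
    obtain ⟨y, hy, z, hz, e⟩ := h2
    obtain ⟨i, rfl⟩ := (mem_powers_iff_mem_zpowers).2 hy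
    obtain ⟨j, rfl⟩ := (mem_powers_iff_mem_zpowers).2 hz
    refine ⟨i % 2 ^ n, j % 2 ^ n, Nat.mod_lt _ (by positivity), Nat.mod_lt _ (by positivity), (hker _).1 ?_⟩
    have hmod : ∀ (g : P) (k : ℕ), μ g ^ (k % 2 ^ n) = μ g ^ k := fun g k => by
      conv_rhs => rw [← Nat.mod_add_div k (2 ^ n), pow_add, pow_mul,
        show μ g ^ 2 ^ n = 1 by rw [← map_pow]; exact (hker _).2 (hn g), one_pow, mul_one]
    rw [map_mul, map_inv, map_mul, map_pow, map_pow, hmod, hmod, ← e, inv_mul_cancel]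
  refine ⟨n, a, b, hn1, hn, hind, hgen, ?_⟩
  have hbij : Function.Bijective fun v : Fin (2 ^ n) × Fin (2 ^ n) => μ (a ^ (v.1 : ℕ) * b ^ (v.2 : ℕ)) := by
    constructor
    · rintro ⟨i, j⟩ ⟨i', j'⟩ e
      simp only at e
      have hn' : ∀ g : P, μ g ^ 2 ^ n = 1 := fun g => by rw [← map_pow]; exact (hker _).2 (hn g)
      have h5 : a ^ ((i : ℕ) + (2 ^ n - (i' : ℕ))) * b ^ ((j : ℕ) + (2 ^ n - (j' : ℕ))) ∈ A := by
        rw [← hker, map_mul, map_pow, map_pow, pow_add, pow_add, mul_mul_mul_comm,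
          show μ a ^ (i : ℕ) * μ b ^ (j : ℕ) = μ a ^ (i' : ℕ) * μ b ^ (j' : ℕ) by
            rw [← map_pow, ← map_pow, ← map_mul, e, map_mul, map_pow, map_pow],
          mul_mul_mul_comm, ← pow_add, ← pow_add, Nat.add_sub_cancel' i'.2.le, Nat.add_sub_cancel' j'.2.le,
          hn', hn', one_mul]
      obtain ⟨⟨c, hc⟩, ⟨d, hd'⟩⟩ := hind _ _ h5
      have hi := i.2; have hi' := i'.2; have hj := j.2; have hj' := j'.2
      have hc1 : c = 1 := by rcases c with _ | _ | c <;> first | rfl | (exfalso; nlinarith [hc, Nat.sub_add_cancel i'.2.le])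
      have hd1 : d = 1 := by rcases d with _ | _ | d <;> first | rfl | (exfalso; nlinarith [hd', Nat.sub_add_cancel j'.2.le])
      subst hc1; subst hd1
      rw [Prod.ext_iff]; constructor <;> (apply Fin.ext; simp only; omega)
    · intro x
      obtain ⟨x, rfl⟩ := QuotientGroup.mk'_surjective A x
      obtain ⟨i, j, hi, hj, hx⟩ := hgen x
      refine ⟨(⟨i, hi⟩, ⟨j, hj⟩), ?_⟩
      have h5 := (hker _).2 hx
      rw [map_mul, map_inv, inv_mul_eq_one] at h5
      exact h5
  rw [Subgroup.index_eq_card, ← Nat.card_eq_of_bijective _ hbij, Nat.card_prod, Nat.card_fin, sq]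


omit hP in
/-- Iterates of `φ` on the cosets of the Frattini subgroup of a moved point. -/
theorem apply_mem_of_sq {a : P} {H : Subgroup P} (hH : ∀ x ∈ H, φ x ∈ H) [H.Normal]
    (hq : Odd q) (hφ : φ ^ q = 1) (h2 : φ (φ a) * a⁻¹ ∈ H) : φ a * a⁻¹ ∈ H := by
  obtain ⟨r, rfl⟩ := hq
  have he : (φ ^ 2) a * a⁻¹ ∈ H := by rwa [pow_two, MulAut.mul_apply]
  have hH2 : ∀ x ∈ H, (φ ^ 2) x ∈ H := fun x hx => by rw [pow_two, MulAut.mul_apply]; exact hH _ (hH _ hx)
  have h3 := pow_apply (φ ^ 2) (H := H) hH2 he r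
  have h4 := hH _ h3
  rw [map_mul, map_inv, ← pow_mul, ← MulAut.mul_apply, ← pow_succ', hφ, MulAut.one_apply] at h4
  have h5 := inv_mem h4
  rwa [mul_inv_rev, inv_inv] at h5

/-- A nonabelian metacyclic 2-group with a moving automorphism has order eight. -/
theorem card_eight (hidx : (frattini P).index ≤ 4) (hm : Moves φ q) (hmc : Cfsg.IsMetacyclic P)
    (hna : ∃ x y : P, x * y ≠ y * x) : Nat.card P = 8 := by
  classical
  haveI : Fact (Nat.Prime 2) := ⟨Nat.prime_two⟩
  obtain ⟨N, hNn, hNc, hQc⟩ := hmc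
  haveI := hNn
  set A := commutator P with hA
  have hAc : ∀ x y : P, ⁅x, y⁆ ∈ A := fun x y =>
    Subgroup.commutator_mem_commutator (Subgroup.mem_top x) (Subgroup.mem_top y)
  have hAN : A ≤ N := by
    letI := hQc.commGroup
    exact (Subgroup.Normal.quotient_commutative_iff_commutator_le (N := N)).1 ⟨⟨mul_comm⟩⟩
  have hAφ : ∀ x ∈ A, φ x ∈ A := fun x hx => by
    rw [← Subgroup.characteristic_iff_map_eq.1 (inferInstance : A.Characteristic) φ]
    exact ⟨x, hx, rfl⟩
  obtain ⟨n, a, b, hn1, hnA, hind, hgen, hAidx⟩ :=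
    homocyclic hP φ hidx hm A hAc hAφ (Solv.commutator_le_frattini_pgroup hP)
  obtain ⟨v, hv⟩ := (Subgroup.isCyclic_iff_exists_zpowers_eq_top N).1 hNc
  haveI hAcyc : IsCyclic A := Subgroup.isCyclic_of_le hAN
  obtain ⟨c, hc⟩ := (Subgroup.isCyclic_iff_exists_zpowers_eq_top A).1 hAcyc
  have hc1 : c ≠ 1 := by
    intro h
    obtain ⟨x, y, hxy⟩ := hna
    have h2 : ⁅x, y⁆ ∈ A := hAc x y
    rw [← hc, h, Subgroup.zpowers_one_eq_bot, Subgroup.mem_bot, commutatorElement_eq_one_iff_mul_comm] at h2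
    exact hxy h2
  have hcA : c ∈ A := hc ▸ Subgroup.mem_zpowers c
  -- squares in `A`
  obtain ⟨B, hB⟩ : ∃ B : Subgroup P, B = Subgroup.zpowers (c * c) := ⟨_, rfl⟩
  have hBA : B ≤ A := hB ▸ Subgroup.zpowers_le.2 (mul_mem hcA hcA)
  have hBsq : ∀ z ∈ A, z * z ∈ B := fun z hz => by
    rw [← hc] at hz
    obtain ⟨k, rfl⟩ := hz
    rw [hB]
    exact ⟨k, (Commute.refl c).mul_zpow k⟩
  have hBex : ∀ z ∈ B, ∃ w ∈ A, z = w * w := fun z hz => by
    rw [hB] at hz
    obtain ⟨k, rfl⟩ := hz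
    exact ⟨c ^ k, zpow_mem hcA k, (Commute.refl c).mul_zpow k⟩
  haveI hBn : B.Normal := ⟨fun z hz g => by
    obtain ⟨w, hw, rfl⟩ := hBex z hz
    rw [← conj_mul]
    exact hBsq _ ((inferInstance : A.Normal).conj_mem w hw g)⟩
  have hBφ : ∀ z ∈ B, φ z ∈ B := fun z hz => by
    obtain ⟨w, hw, rfl⟩ := hBex z hz
    rw [map_mul]
    exact hBsq _ (hAφ w hw)
  have hcB : c ∉ B := by
    intro h
    rw [hB] at h
    obtain ⟨k, hk⟩ := h
    have hord : (c * c) ^ k = c := hk
    obtain ⟨e, he⟩ := IsPGroup.iff_orderOf.1 hP c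
    have h1 : c ^ (2 * k - 1) = 1 := by
      rw [zpow_sub_one, mul_inv_eq_one, zpow_mul, zpow_two]
      exact hord
    rw [← orderOf_dvd_iff_zpow_eq_one, he] at h1
    rcases e with _ | e
    · exact hc1 (orderOf_eq_one_iff.1 (by rw [he, pow_zero]))
    · push_cast at h1
      have h2 : (2 : ℤ) ∣ 2 * k - 1 := (dvd_pow_self (2 : ℤ) (Nat.succ_ne_zero e)).trans h1
      omega
  have hAcomm : ∀ z ∈ A, ∀ w ∈ A, z * w = w * z := fun z hz w hw => by
    rw [← hc] at hz hw
    obtain ⟨i, rfl⟩ := hz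
    obtain ⟨j, rfl⟩ := hw
    exact zpow_mul_comm c i j
  set μ := QuotientGroup.mk' B with hμ
  have hker : ∀ x, μ x = 1 ↔ x ∈ B := fun x => QuotientGroup.eq_one_iff x
  set ε := μ c with hε
  have hεsq : ε * ε = 1 := by rw [hε, ← map_mul, hker]; exact hBsq c hcA
  have hμA : ∀ z ∈ A, μ z = 1 ∨ μ z = ε := fun z hz => by
    rw [← hc] at hz
    obtain ⟨k, rfl⟩ := hz
    rw [map_zpow, ← hε]
    rcases Int.even_or_odd k with ⟨j, rfl⟩ | ⟨j, rfl⟩
    · left; rw [← two_mul, zpow_mul, zpow_two, hεsq, one_zpow]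
    · right; rw [zpow_add_one, zpow_mul, zpow_two, hεsq, one_zpow, one_mul]
  have hεne : ε ≠ 1 := fun h => hcB ((hker c).1 h)
  have hAcen : ∀ z ∈ A, ∀ y : P ⧸ B, Commute (μ z) y := by
    intro z hz y
    obtain ⟨y, rfl⟩ := QuotientGroup.mk'_surjective B y
    have hy : y * z * y⁻¹ ∈ A := (inferInstance : A.Normal).conj_mem z hz y
    rcases hμA z hz with h | h
    · rw [h]; exact Commute.one_left _
    · rcases hμA _ hy with h' | h'
      · exfalso
        rw [map_mul, map_mul, map_inv, conj_eq_one_iff] at h'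
        exact hεne (h ▸ h')
      · rw [map_mul, map_mul, map_inv, ← h, mul_inv_eq_iff_eq_mul] at h'
        exact h'.symm
  have hsqA : ∀ z ∈ A, μ z * μ z = 1 := fun z hz => by rw [← map_mul, hker]; exact hBsq z hz
  have hcomA : ∀ x y : P, ⁅μ x, μ y⁆ ∈ A.map μ := fun x y =>
    ⟨⁅x, y⁆, hAc x y, map_commutatorElement μ x y⟩
  have hsqc : ∀ x y : P ⧸ B, Commute (x * x) y := by
    intro x y
    obtain ⟨x, rfl⟩ := QuotientGroup.mk'_surjective B x
    obtain ⟨y, rfl⟩ := QuotientGroup.mk'_surjective B y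
    have e : μ x * μ y = μ ⁅x, y⁆ * (μ y * μ x) := by
      rw [map_commutatorElement, commutatorElement_def]; group
    have h1 := hAcen _ (hAc x y)
    show μ x * μ x * μ y = μ y * (μ x * μ x)
    calc μ x * μ x * μ y = μ x * (μ x * μ y) := mul_assoc _ _ _
      _ = μ x * μ ⁅x, y⁆ * (μ y * μ x) := by rw [e, ← mul_assoc]
      _ = μ ⁅x, y⁆ * (μ x * μ y) * μ x := by rw [← (h1 (μ x)).eq]; group
      _ = μ ⁅x, y⁆ * μ ⁅x, y⁆ * (μ y * μ x) * μ x := by rw [e]; group
      _ = μ y * (μ x * μ x) := by rw [hsqA _ (hAc x y), one_mul, mul_assoc]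
  have hmulsq : ∀ x y : P, μ (x * y) * μ (x * y) = μ x * μ x * (μ y * μ y) * μ ⁅y, x⁆ := by
    intro x y
    have e : μ y * μ x = μ ⁅y, x⁆ * (μ x * μ y) := by
      rw [map_commutatorElement, commutatorElement_def]; group
    have h1 := hAcen _ (hAc y x)
    rw [map_mul]
    calc μ x * μ y * (μ x * μ y) = μ x * (μ y * μ x) * μ y := by group
      _ = (μ x * μ ⁅y, x⁆) * (μ x * μ y) * μ y := by rw [e]; group
      _ = μ ⁅y, x⁆ * (μ x * μ x * (μ y * μ y)) := by rw [← (h1 (μ x)).eq]; group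
      _ = _ := (h1 _).eq
  obtain ⟨a₀, ha, hb, hd, htop⟩ := exists_basis hP φ hidx hm
  obtain ⟨hqo, hφq, -⟩ := id hm
  have hφμ : ∀ x, μ x = 1 → μ (φ x) = 1 := fun x hx => (hker _).2 (hBφ x ((hker x).1 hx))
  have hφε : μ (φ c) = ε := by
    rcases hμA _ (hAφ c hcA) with h | h
    · exfalso
      apply hcB
      have h2 : ∀ m : ℕ, (φ ^ (m + 1)) c ∈ B := by
        intro m
        induction m with
        | zero => simpa using (hker _).1 h
        | succ m ih => rw [pow_succ' φ (m + 1), MulAut.mul_apply]; exact hBφ _ ih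
      obtain ⟨r, hr⟩ := hqo
      have h3 := h2 (2 * r)
      rwa [← hr, hφq, MulAut.one_apply] at h3
    · exact h
  rcases Nat.lt_or_ge 1 n with hn2 | hn2
  · -- the power map is a homomorphism
    exfalso
    obtain ⟨m, rfl⟩ : ∃ m, n = m + 1 + 1 := ⟨n - 2, by omega⟩
    let f : P →* P ⧸ B := MonoidHom.mk' (fun x => (μ x * μ x) ^ 2 ^ (m + 1)) fun x y => by
      rw [hmulsq, (hAcen _ (hAc y x) _).symm.mul_pow, (hsqc (μ x) _).mul_pow, pow_succ', pow_mul (μ ⁅y, x⁆),
        sq (μ ⁅y, x⁆), hsqA _ (hAc y x), one_pow, mul_one]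
    have hf : ∀ x, f x = μ (x ^ 2 ^ (m + 1 + 1)) := fun x => by
      show (μ x * μ x) ^ _ = _
      rw [← sq, ← pow_mul, ← pow_succ', map_pow]
    have hfr : ∀ x, f x = 1 ∨ f x = ε := fun x => hf x ▸ hμA _ (hnA x)
    have hle : frattini P ≤ f.ker := by
      refine Solv.frattini_le (p := 2) f.ker (fun x y => ?_) fun x => ?_
      · rw [MonoidHom.mem_ker, map_commutatorElement, commutatorElement_eq_one_iff_mul_comm]
        rcases hfr x with h | h <;> rcases hfr y with h' | h' <;> simp [h, h']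
      · rw [MonoidHom.mem_ker, map_pow, sq]
        rcases hfr x with h | h <;> simp [h, hεsq]
    have hker' : ∀ x ∈ f.ker, φ x ∈ f.ker := fun x hx => by
      rw [MonoidHom.mem_ker, hf] at hx ⊢
      rw [← map_pow φ]
      exact hφμ _ hx
    rcases no_between hP φ hidx hm hle hker' with e | e
    · have h1 : f a₀ = ε := (hfr a₀).resolve_left fun h => ha (e ▸ h)
      have h2 : f (φ a₀) = ε := (hfr _).resolve_left fun h => hb (e ▸ h)
      refine hd (e ▸ ?_)
      rw [MonoidHom.mem_ker, map_mul, map_inv, h1, h2, mul_inv_cancel]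
    · have hall : ∀ x : P, x ^ 2 ^ (m + 1 + 1) ∈ B := fun x => by
        rw [← hker, ← hf]; exact e.ge (Subgroup.mem_top x)
      set k := 2 ^ (m + 1 + 1)
      have h1 : orderOf v ≤ k * Nat.card B := by
        refine Nat.le_of_dvd (Nat.mul_pos (by positivity) Nat.card_pos) (orderOf_dvd_of_pow_eq_one ?_)
        rw [pow_mul]
        have h := pow_card_eq_one' (x := (⟨v ^ k, hall v⟩ : B))
        exact congrArg Subtype.val h
      obtain ⟨g, hg⟩ := hQc.exists_generator
      obtain ⟨g, rfl⟩ := QuotientGroup.mk'_surjective N g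
      have h2 : N.index ≤ k := by
        rw [Subgroup.index_eq_card, ← orderOf_eq_card_of_forall_mem_zpowers hg]
        refine Nat.le_of_dvd (by positivity) (orderOf_dvd_of_pow_eq_one ?_)
        rw [← map_pow]
        exact (QuotientGroup.eq_one_iff _).2 (hAN (hBA (hall g)))
      have h3 : Nat.card P ≤ Nat.card B * k ^ 2 := by
        rw [← N.card_mul_index, show Nat.card N = orderOf v by rw [← hv, Nat.card_zpowers]]
        calc orderOf v * N.index ≤ k * Nat.card B * k := Nat.mul_le_mul h1 h2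
          _ = Nat.card B * k ^ 2 := by ring
      rw [← A.card_mul_index, hAidx] at h3
      have h4 : Nat.card B < Nat.card A := by
        refine lt_of_le_of_ne (Subgroup.card_le_of_le hBA) fun h => hcB ?_
        rw [Subgroup.eq_of_le_of_card_ge hBA h.ge]
        exact hcA
      exact absurd (Nat.le_of_mul_le_mul_right h3 (by positivity)) (by omega)
  obtain rfl : n = 1 := by omega
  have hsA : ∀ x : P, x * x ∈ A := fun x => by simpa [sq] using hnA x
  have hΦA : frattini P = A := le_antisymm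
    (Solv.frattini_le (p := 2) A hAc fun x => by rw [sq]; exact hsA x) (Solv.commutator_le_frattini_pgroup hP)
  rw [hΦA] at ha hb hd htop
  obtain ⟨s, hs⟩ : ∃ s : P → P ⧸ B, ∀ x, s x = μ x * μ x := ⟨_, fun _ => rfl⟩
  have hsr : ∀ x, s x = 1 ∨ s x = ε := fun x => by
    rw [hs, ← map_mul]
    exact hμA _ (hsA x)
  have hscoset : ∀ x y, y * x⁻¹ ∈ A → s y = s x := fun x y h => by
    rw [hs, hs]
    have e : μ y = μ (y * x⁻¹) * μ x := by rw [← map_mul, inv_mul_cancel_right]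
    rw [e, (hAcen _ h _).symm.mul_mul_mul_comm, hsqA _ h, one_mul]
  have hsφ : ∀ x, s x = 1 → s (φ x) = 1 := fun x hx => by
    rw [hs, ← map_mul, ← map_mul]
    exact hφμ _ (by rw [map_mul, ← hs]; exact hx)
  have hsφ' : ∀ x, s x = ε → s (φ x) = ε := fun x hx => by
    rw [hs, ← map_mul] at hx ⊢
    rw [← map_mul φ]
    have h5 : μ ((x * x) * c⁻¹) = 1 := by rw [map_mul, map_inv, hx, ← hε, mul_inv_cancel]
    have h6 := hφμ _ h5
    rwa [map_mul φ, map_inv φ, map_mul μ (φ _), map_inv μ, hφε, mul_inv_eq_one] at h6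
  set b₀ := φ a₀ with hb₀
  have hA2 : A.index = 4 := by rw [hAidx]; norm_num
  -- the third coset
  have hthird : φ b₀ * (a₀ * b₀)⁻¹ ∈ A := by
    obtain ⟨ν, hν⟩ : ∃ ν, ν = QuotientGroup.mk' A := ⟨_, rfl⟩
    have hν1 : ∀ x, ν x = 1 ↔ x ∈ A := fun x => hν ▸ QuotientGroup.eq_one_iff x
    have hsq : ∀ x : P, ν x * ν x = 1 := fun x => by rw [← map_mul]; exact (hν1 _).2 (hsA x)
    have hcom : ∀ x y : P, ν x * ν y = ν y * ν x := fun x y => by
      rw [hν]; exact Solv.quotient_mul_comm A hAc _ _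
    have hmem : φ b₀ ∈ A ⊔ Subgroup.zpowers a₀ ⊔ Subgroup.zpowers b₀ := htop ▸ Subgroup.mem_top _
    rw [sup_assoc, ← SetLike.mem_coe, Subgroup.normal_mul, Set.mem_mul] at hmem
    obtain ⟨z, hz, w, hw, e⟩ := hmem
    have hw' : ν w ∈ (Subgroup.zpowers a₀ ⊔ Subgroup.zpowers b₀).map ν := ⟨w, hw, rfl⟩
    rw [Subgroup.map_sup, MonoidHom.map_zpowers, MonoidHom.map_zpowers] at hw'
    have hcases : ν (φ b₀) = 1 ∨ ν (φ b₀) = ν a₀ ∨ ν (φ b₀) = ν b₀ ∨ ν (φ b₀) = ν a₀ * ν b₀ := by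
      rw [← e, map_mul, (hν1 z).2 hz, one_mul]
      letI : (Subgroup.zpowers (ν a₀)).Normal := ⟨fun u hu g => by
        obtain ⟨g, rfl⟩ := (hν ▸ QuotientGroup.mk'_surjective A : Function.Surjective ν) g
        obtain ⟨u', rfl⟩ := (hν ▸ QuotientGroup.mk'_surjective A : Function.Surjective ν) u
        rwa [hcom g u', mul_inv_cancel_right]⟩
      rw [← SetLike.mem_coe, Subgroup.normal_mul, Set.mem_mul] at hw'
      obtain ⟨_, ⟨i, rfl⟩, _, ⟨j, rfl⟩, e'⟩ := hw'
      rw [← e']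
      rcases Int.even_or_odd i with ⟨i, rfl⟩ | ⟨i, rfl⟩ <;> rcases Int.even_or_odd j with ⟨j, rfl⟩ | ⟨j, rfl⟩ <;>
        simp [← two_mul, zpow_add_one, zpow_mul, zpow_ofNat, sq, hsq]
    rw [← hν1, map_mul, map_inv, mul_inv_eq_one, map_mul]
    rcases hcases with h | h | h | h
    · exfalso
      apply hb
      have h7 := (hν1 _).1 h
      have h8 := (Subgroup.characteristic_iff_map_eq.1 (inferInstance : A.Characteristic) φ).ge h7
      obtain ⟨z, hz, ez⟩ := h8
      rwa [φ.injective ez] at hz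
    · exfalso
      refine hd (apply_mem_of_sq φ hAφ hqo hφq ((hν1 _).1 ?_))
      rw [map_mul, map_inv, h, mul_inv_cancel]
    · exfalso
      apply hd
      have h7 : φ (φ a₀ * a₀⁻¹) ∈ A := by
        rw [← hν1, map_mul, map_inv, map_mul, map_inv, ← hb₀, h, mul_inv_cancel]
      have h8 := (Subgroup.characteristic_iff_map_eq.1 (inferInstance : A.Characteristic) φ).ge h7
      obtain ⟨z, hz, ez⟩ := h8
      rwa [φ.injective ez] at hz
    · exact h
  -- every square outside `A` is odd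
  have hsab : s (a₀ * b₀) = s (φ b₀) := (hscoset _ _ hthird).symm
  have hεcom : s a₀ = ε := by
    refine (hsr a₀).resolve_left fun h1 => ?_
    have h2 := hsφ _ h1
    have h3 := hsφ _ h2
    rw [← hb₀] at h2 h3
    rw [← hsab, hs, hmulsq, ← hs, ← hs, h1, h2, one_mul, one_mul] at h3
    apply hεne
    rw [hε, hker]
    have hcomm : ∀ x y : P, μ x * μ y = μ y * μ x := by
      have hba : μ b₀ * μ a₀ = μ a₀ * μ b₀ := by
        rw [← commutatorElement_eq_one_iff_mul_comm, ← map_commutatorElement]; exact h3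
      have hC : ∀ {g : P ⧸ B}, Commute g (μ a₀) → Commute g (μ b₀) → ∀ y : P, Commute g (μ y) := by
        intro g g1 g2 y
        have hle : (⊤ : Subgroup P) ≤ (Subgroup.centralizer ({g} : Set (P ⧸ B))).comap μ := by
          rw [← htop, sup_le_iff, sup_le_iff, Subgroup.zpowers_le, Subgroup.zpowers_le]
          refine ⟨⟨fun z hz => ?_, ?_⟩, ?_⟩ <;>
            simp only [Subgroup.mem_comap, Subgroup.mem_centralizer_singleton_iff]
          · exact (hAcen z hz g).eq
          · exact g1.eq.symm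
          · exact g2.eq.symm
        exact (Subgroup.mem_centralizer_singleton_iff.1 (hle (Subgroup.mem_top y))).symm
      intro x y
      refine hC ?_ ?_ y
      · exact (hC (Commute.refl (μ a₀)) hba.symm x).symm
      · exact (hC hba (Commute.refl (μ b₀)) x).symm
    have hle : A ≤ B := by
      rw [hA, commutator_def, Subgroup.commutator_le]
      intro x _ y _
      rw [← hker, map_commutatorElement, commutatorElement_eq_one_iff_mul_comm]
      exact hcomm x y
    exact hle hcA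
  -- the commutator subgroup is central
  have hgenA : ∀ x : P, s x = ε → ∀ z ∈ A, Commute x z := by
    intro x hx z hz
    have hxA := hsA x
    have hle : Subgroup.zpowers (x * x) = A := by
      haveI : Finite A := inferInstance
      obtain ⟨k, hk⟩ := (hc ▸ hxA : x * x ∈ Subgroup.zpowers c)
      rcases Int.even_or_odd k with ⟨j, rfl⟩ | ⟨j, rfl⟩
      · exfalso
        apply hεne
        rw [← hx, hs, ← map_mul, hker, ← show c ^ (j + j) = x * x from hk, hB]
        exact ⟨j, by show (c * c) ^ j = _; rw [(Commute.refl c).mul_zpow, ← zpow_add]⟩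
      · refine le_antisymm (Subgroup.zpowers_le.2 hxA) ?_
        rw [← hc, Subgroup.zpowers_le]
        obtain ⟨e, he⟩ := IsPGroup.iff_orderOf.1 hP c
        have hcop : IsCoprime (2 * j + 1) ((2 : ℤ) ^ e) := IsCoprime.pow_right ⟨1, -j, by ring⟩
        obtain ⟨u, w, huw⟩ := hcop
        refine ⟨u, ?_⟩
        show (x * x) ^ u = c
        rw [← show c ^ (2 * j + 1) = x * x from hk, ← zpow_mul,
          show (2 * j + 1) * u = 1 - w * (2 : ℤ) ^ e by linear_combination huw, zpow_sub, zpow_one, mul_comm w,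
          zpow_mul, show c ^ ((2 : ℤ) ^ e) = 1 by
            rw [← orderOf_dvd_iff_zpow_eq_one, he]; push_cast; rfl,
          one_zpow, inv_one, mul_one]
    rw [← hle] at hz
    obtain ⟨k, rfl⟩ := hz
    exact ((Commute.refl x).mul_right (Commute.refl x)).zpow_right k
  have hcen : ∀ z ∈ A, ∀ x : P, Commute x z := by
    intro z hz x
    have hle : (⊤ : Subgroup P) ≤ Subgroup.centralizer ({z} : Set P) := by
      rw [← htop, sup_le_iff, sup_le_iff, Subgroup.zpowers_le, Subgroup.zpowers_le]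
      refine ⟨⟨fun w hw => ?_, ?_⟩, ?_⟩ <;> rw [Subgroup.mem_centralizer_singleton_iff]
      · exact hAcomm w hw z hz
      · exact (hgenA _ hεcom z hz).eq
      · exact (hgenA _ (hb₀ ▸ hsφ' _ hεcom) z hz).eq
    exact Subgroup.mem_centralizer_singleton_iff.1 (hle (Subgroup.mem_top x))
  have hinv : ∀ z ∈ A, z * z = 1 := by
    let Ω : Subgroup P :=
      { carrier := {z | z ∈ A ∧ z * z = 1}
        one_mem' := ⟨one_mem A, one_mul 1⟩
        mul_mem' := fun {z w} hz hw => ⟨mul_mem hz.1 hw.1, by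
          rw [Commute.mul_mul_mul_comm (hAcomm w hw.1 z hz.1), hz.2, hw.2, one_mul]⟩
        inv_mem' := fun {z} hz => ⟨inv_mem hz.1, by rw [← mul_inv_rev, hz.2, inv_one]⟩ }
    have hle : A ≤ Ω := by
      rw [hA, commutator_def, Subgroup.commutator_le]
      intro x _ y _
      refine ⟨hAc x y, ?_⟩
      have e : x * y * x⁻¹ = ⁅x, y⁆ * y := by rw [commutatorElement_def]; group
      have h1 : x * (y * y) * x⁻¹ = y * y := by
        rw [(hcen _ (hsA y) x).eq, mul_inv_cancel_right]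
      rw [← conj_mul, e, Commute.mul_mul_mul_comm (hcen _ (hAc x y) y), mul_eq_right] at h1
      exact h1
    exact fun z hz => (hle hz).2
  have hAc2 : Nat.card A = 2 := by
    rw [← hc, Nat.card_zpowers]
    exact orderOf_eq_prime (by rw [sq]; exact hinv c hcA) hc1
  rw [← A.card_mul_index, hAc2, hA2]


/-- An abelian 2-group with a moving automorphism and small Frattini quotient is homocyclic of rank two. -/
theorem abelian_structure (hidx : (frattini P).index ≤ 4) (hm : Moves φ q) (hab : ∀ x y : P, x * y = y * x) :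
    ∃ n, 1 ≤ n ∧ Nonempty (P ≃* Multiplicative (Fin 2 → ZMod (2 ^ n))) ∧ Nat.card P = (2 ^ n) ^ 2 ∧
      (2 ≤ n → ∀ c : P, c * c = 1 → ∃ s : P, c = s * s) := by
  classical
  have hbot : ∀ x ∈ (⊥ : Subgroup P), φ x ∈ (⊥ : Subgroup P) := fun x hx => by
    rw [Subgroup.mem_bot] at hx ⊢; rw [hx, map_one]
  have hc : ∀ x y : P, ⁅x, y⁆ ∈ (⊥ : Subgroup P) := fun x y =>
    Subgroup.mem_bot.2 (commutatorElement_eq_one_iff_mul_comm.2 (hab x y))
  obtain ⟨n, a, b, hn1, hn, hind, hgen, hidxn⟩ := homocyclic hP φ hidx hm ⊥ hc hbot bot_le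
  rw [Subgroup.index_bot] at hidxn
  simp only [Subgroup.mem_bot] at hn hind hgen
  have hgen' : ∀ x : P, ∃ i j : ℕ, i < 2 ^ n ∧ j < 2 ^ n ∧ x = a ^ i * b ^ j := fun x => by
    obtain ⟨i, j, hi, hj, h⟩ := hgen x
    exact ⟨i, j, hi, hj, (inv_mul_eq_one.1 h).symm⟩
  haveI : NeZero (2 ^ n) := ⟨by positivity⟩
  have hmod : ∀ (g : P) (u v : ℕ), g ^ ((u + v) % 2 ^ n) = g ^ u * g ^ v := fun g u v => by
    rw [← pow_add]
    conv_rhs => rw [← Nat.mod_add_div (u + v) (2 ^ n), pow_add, pow_mul, hn g, one_pow, mul_one]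
  let f : Multiplicative (Fin 2 → ZMod (2 ^ n)) →* P :=
    MonoidHom.mk' (fun v => a ^ (v.toAdd 0).val * b ^ (v.toAdd 1).val) fun v w => by
      show a ^ (v.toAdd 0 + w.toAdd 0).val * b ^ (v.toAdd 1 + w.toAdd 1).val = _
      rw [ZMod.val_add, ZMod.val_add, hmod, hmod]
      exact Commute.mul_mul_mul_comm (hab _ _) _ _
  have hsurj : Function.Surjective f := fun x => by
    obtain ⟨i, j, hi, hj, rfl⟩ := hgen' x
    refine ⟨Multiplicative.ofAdd ![(i : ZMod (2 ^ n)), (j : ZMod (2 ^ n))], ?_⟩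
    show a ^ (i : ZMod (2 ^ n)).val * b ^ (j : ZMod (2 ^ n)).val = _
    rw [ZMod.val_natCast, ZMod.val_natCast, Nat.mod_eq_of_lt hi, Nat.mod_eq_of_lt hj]
  have hbij : Function.Bijective f := by
    refine (Nat.bijective_iff_surjective_and_card f).2 ⟨hsurj, ?_⟩
    rw [hidxn]
    simp [Nat.card_fun, Nat.card_zmod]
  refine ⟨n, hn1, ⟨(MulEquiv.ofBijective f hbij).symm⟩, hidxn, fun hn2 c hc1 => ?_⟩
  obtain ⟨i, j, -, -, rfl⟩ := hgen' c
  rw [Commute.mul_mul_mul_comm (hab _ _), ← pow_add, ← pow_add] at hc1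
  obtain ⟨h1, h2⟩ := hind _ _ hc1
  have h4 : 4 ∣ 2 ^ n := by
    obtain ⟨m, rfl⟩ : ∃ m, n = m + 2 := ⟨n - 2, by omega⟩
    exact ⟨2 ^ m, by ring⟩
  obtain ⟨i', rfl⟩ : 2 ∣ i := by have := h4.trans h1; omega
  obtain ⟨j', rfl⟩ : 2 ∣ j := by have := h4.trans h2; omega
  exact ⟨a ^ i' * b ^ j', by rw [Commute.mul_mul_mul_comm (hab _ _), ← pow_add, ← pow_add, two_mul, two_mul]⟩

omit [Finite P] hP in
/-- A subgroup of a metacyclic group is metacyclic. -/
theorem metacyclic_of_injective {G : Type*} [Group G] (f : P →* G) (hf : Function.Injective f)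
    (h : Cfsg.IsMetacyclic G) : Cfsg.IsMetacyclic P := by
  obtain ⟨N, hN, hNc, hQc⟩ := h
  haveI := hN; haveI := hNc; haveI := hQc
  refine ⟨N.comap f, inferInstance, ?_, ?_⟩
  · exact isCyclic_of_injective ((f.comp (N.comap f).subtype).codRestrict N fun x => x.2)
      fun x y e => Subtype.ext (hf (congrArg Subtype.val e))
  · refine isCyclic_of_injective (QuotientGroup.map (N.comap f) N f le_rfl) ?_
    rw [← MonoidHom.ker_eq_bot_iff, eq_bot_iff]
    intro x hx
    obtain ⟨x, rfl⟩ := QuotientGroup.mk'_surjective _ x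
    rw [MonoidHom.mem_ker, QuotientGroup.mk'_apply, QuotientGroup.map_mk, QuotientGroup.eq_one_iff] at hx
    exact Subgroup.mem_bot.2 ((QuotientGroup.eq_one_iff x).2 hx)

/-- The Frattini quotient of a metacyclic 2-group has order at most four. -/
theorem index_frattini_le (h : Cfsg.IsMetacyclic P) : (frattini P).index ≤ 4 := by
  obtain ⟨N, hN, hNc, hQc⟩ := h
  haveI := hN
  obtain ⟨v, hv⟩ := (Subgroup.isCyclic_iff_exists_zpowers_eq_top N).1 hNc
  obtain ⟨g, hg⟩ := hQc.exists_generator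
  obtain ⟨g, rfl⟩ := QuotientGroup.mk'_surjective N g
  set μ := QuotientGroup.mk' (frattini P) with hμ
  have hsq : ∀ (x : P) (k : ℤ), μ x ^ k = 1 ∨ μ x ^ k = μ x := by
    intro x k
    have h2 : μ x ^ (2 : ℤ) = 1 := by
      rw [zpow_ofNat, sq, ← map_mul]; exact (QuotientGroup.eq_one_iff _).2 (sq_mem hP x)
    rcases Int.even_or_odd k with ⟨j, rfl⟩ | ⟨j, rfl⟩
    · left; rw [← two_mul, zpow_mul, h2, one_zpow]
    · right; rw [zpow_add_one, zpow_mul, h2, one_zpow, one_mul]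
  let F : Bool × Bool → P ⧸ frattini P := fun u => (if u.1 then μ v else 1) * (if u.2 then μ g else 1)
  have hF : Function.Surjective F := by
    intro y
    obtain ⟨x, rfl⟩ := QuotientGroup.mk'_surjective _ y
    obtain ⟨k, hk⟩ := Subgroup.mem_zpowers_iff.1 (hg (QuotientGroup.mk' N x))
    have h1 : x * (g ^ k)⁻¹ ∈ N := by
      rw [← QuotientGroup.eq_one_iff]
      show QuotientGroup.mk' N (x * (g ^ k)⁻¹) = 1
      rw [map_mul, map_inv, map_zpow, hk, mul_inv_cancel]
    rw [← hv] at h1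
    obtain ⟨i, hi⟩ := Subgroup.mem_zpowers_iff.1 h1
    have e : μ x = μ v ^ i * μ g ^ k := by
      rw [← map_zpow, ← map_zpow, ← map_mul, hi, inv_mul_cancel_right]
    show ∃ u, F u = μ x
    rw [e]
    rcases hsq v i with ha | ha <;> rcases hsq g k with hb | hb <;> rw [ha, hb]
    · exact ⟨(false, false), rfl⟩
    · exact ⟨(false, true), rfl⟩
    · exact ⟨(true, false), rfl⟩
    · exact ⟨(true, true), rfl⟩
  rw [Subgroup.index_eq_card]
  exact (Nat.card_le_card_of_surjective F hF).trans (by simp)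

/-- An automorphism of odd prime order moves a coset of the Frattini subgroup. -/
theorem moves_of_ne_one {φ : MulAut P} {q : ℕ} [Fact q.Prime] (hq2 : q ≠ 2) (hφ : φ ^ q = 1) (hne : φ ≠ 1) :
    Moves φ q := by
  haveI : Fact (Nat.Prime 2) := ⟨Nat.prime_two⟩
  refine ⟨(Fact.out : q.Prime).odd_of_ne_two hq2, hφ, ?_⟩
  by_contra h
  push Not at h
  exact hne (eq_one_of_trivial hP hq2 hφ h)

end Cfsg.Agent.Solv.MetaTwo
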