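import Cfsg.Agent.Lib.Solv.CyclicSelfCentral
import Cfsg.Prelude.Def_OddOrderLocal

/-!
# Normalisers of homocyclic subgroups and subgroups of order eight in metacyclic 2-groups
-/

set_option autoImplicit false
set_option linter.style.haveILetI false

namespace Cfsg.Agent.Solv.MetaTwo

variable {G : Type*} [Group G] [Finite G]

omit [Finite G] in
theorem cyclic_eq {C : Type*} [Group C] [Finite C] [IsCyclic C] {A B : Subgroup C}
    (h : Nat.card A = Nat.card B) : A = B := by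
  letI : CommGroup C := IsCyclic.commGroup
  have hker : ∀ D : Subgroup C, D = (powMonoidHom (Nat.card D) : C →* C).ker := by
    intro D
    refine Subgroup.eq_of_le_of_card_ge (fun d hd => ?_) ?_
    · have h1 := pow_card_eq_one' (G := D) (x := ⟨d, hd⟩)
      exact congrArg Subtype.val h1
    · rw [IsCyclic.card_powMonoidHom_ker]
      exact Nat.gcd_le_right _ Nat.card_pos
  rw [hker A, hker B, h]

/-- An element inducing an automorphism on a homocyclic subgroup fixes it modulo squares. -/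
theorem trivial_mod_squares (hG : IsPGroup 2 G) (hmc : Cfsg.IsMetacyclic G) (R : Subgroup G)
    (hab : ∀ x ∈ R, ∀ y ∈ R, x * y = y * x)
    (hinv : ∀ c ∈ R, c * c = 1 → ∃ s ∈ R, c = s * s)
    (t : G) (ht : ∀ r ∈ R, t * r * t⁻¹ ∈ R) (ht2 : t * t ∈ R) :
    ∀ r ∈ R, ∃ s ∈ R, t * r * t⁻¹ * r⁻¹ = s * s := by
  classical
  obtain ⟨N, hNn, hNc, hQc⟩ := hmc
  haveI := hNn
  obtain ⟨v, hv⟩ := (Subgroup.isCyclic_iff_exists_zpowers_eq_top N).1 hNc
  have hNab : ∀ x ∈ N, ∀ y ∈ N, x * y = y * x := fun x hx y hy => by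
    rw [← hv] at hx hy
    obtain ⟨i, rfl⟩ := hx
    obtain ⟨j, rfl⟩ := hy
    exact zpow_mul_comm v i j
  by_cases htR : t ∈ R
  · intro r hr
    exact ⟨1, one_mem R, by rw [hab t htR r hr, mul_inv_cancel_right, mul_inv_cancel, one_mul]⟩
  have htinv : ∀ r ∈ R, t⁻¹ * r * t ∈ R := fun r hr => by
    have e : t⁻¹ * r * t = (t * t)⁻¹ * (t * r * t⁻¹) * (t * t) := by group
    rw [e]
    exact mul_mem (mul_mem (inv_mem ht2) (ht r hr)) ht2
  -- it is enough to treat some element of the coset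
  suffices h : ∃ r₀ ∈ R, ∀ r ∈ R, ∃ s ∈ R, t * r₀ * r * (t * r₀)⁻¹ * r⁻¹ = s * s by
    obtain ⟨r₀, hr₀, h⟩ := h
    intro r hr
    obtain ⟨s, hs, e⟩ := h r hr
    refine ⟨s, hs, ?_⟩
    rw [← e, mul_inv_rev, mul_assoc t r₀ r, hab r₀ hr₀ r hr]
    group
  by_cases hA : ∃ r₀ ∈ R, t * r₀ ∈ N
  · obtain ⟨r₀, hr₀, hu⟩ := hA
    refine ⟨r₀, hr₀, fun r hr => ?_⟩
    obtain ⟨u, hue⟩ : ∃ u, u = t * r₀ := ⟨_, rfl⟩
    rw [← hue] at hu ⊢
    have hunorm : ∀ x ∈ R, u * x * u⁻¹ ∈ R := fun x hx => by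
      rw [hue, mul_inv_rev, show t * r₀ * x * (r₀⁻¹ * t⁻¹) = t * (r₀ * x * r₀⁻¹) * t⁻¹ by group]
      exact ht _ (mul_mem (mul_mem hr₀ hx) (inv_mem hr₀))
    have hu2 : u * u ∈ R := by
      rw [hue, show t * r₀ * (t * r₀) = (t * r₀ * t⁻¹) * (t * t) * r₀ by group]
      exact mul_mem (mul_mem (ht _ hr₀) ht2) hr₀
    obtain ⟨c, hc⟩ : ∃ c, c = u * r * u⁻¹ * r⁻¹ := ⟨_, rfl⟩
    have hcR : c ∈ R := hc ▸ mul_mem (hunorm r hr) (inv_mem hr)
    have hru : r * u⁻¹ * r⁻¹ ∈ N := hNn.conj_mem _ (inv_mem hu) r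
    have hcN : c ∈ N := by
      rw [hc, show u * r * u⁻¹ * r⁻¹ = u * (r * u⁻¹ * r⁻¹) by group]
      exact mul_mem hu hru
    rw [← hc]
    refine hinv c hcR ?_
    have h1 : r * (u * u)⁻¹ * r⁻¹ = (u * u)⁻¹ := by
      rw [hab r hr _ (inv_mem hu2), mul_inv_cancel_right]
    have e : c * c = u * u * ((r * u⁻¹ * r⁻¹) * (r * u⁻¹ * r⁻¹)) := by
      rw [hc, show u * r * u⁻¹ * r⁻¹ = u * (r * u⁻¹ * r⁻¹) by group]
      exact Commute.mul_mul_mul_comm (hNab _ hru _ hu) _ _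
    rw [e, conj_mul, ← mul_inv_rev, h1, mul_inv_cancel]
  · push Not at hA
    -- the subgroup generated by `R` and `t`
    obtain ⟨M, hM⟩ : ∃ M : Subgroup G, M = R ⊔ Subgroup.zpowers t := ⟨_, rfl⟩
    have hMmem : ∀ x ∈ M, x ∈ R ∨ ∃ r ∈ R, x = t * r := by
      intro x hx
      let M' : Subgroup G :=
        { carrier := {x | x ∈ R ∨ ∃ r ∈ R, x = t * r}
          one_mem' := Or.inl (one_mem R)
          mul_mem' := by
            rintro x y (hx | ⟨r, hr, rfl⟩) (hy | ⟨r', hr', rfl⟩)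
            · exact Or.inl (mul_mem hx hy)
            · exact Or.inr ⟨t⁻¹ * x * t * r', mul_mem (htinv x hx) hr', by group⟩
            · exact Or.inr ⟨r * y, mul_mem hr hy, by group⟩
            · refine Or.inl ?_
              rw [show t * r * (t * r') = (t * r * t⁻¹) * (t * t) * r' by group]
              exact mul_mem (mul_mem (ht _ hr) ht2) hr'
          inv_mem' := by
            rintro x (hx | ⟨r, hr, rfl⟩)
            · exact Or.inl (inv_mem hx)
            · refine Or.inr ⟨t⁻¹ * r⁻¹ * t * (t * t)⁻¹, mul_mem (htinv _ (inv_mem hr)) (inv_mem ht2), by group⟩ }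
      have hle : M ≤ M' := hM ▸ sup_le (fun y hy => Or.inl hy)
        (Subgroup.zpowers_le.2 (Or.inr ⟨1, one_mem R, by rw [mul_one]⟩))
      exact hle hx
    have hNR : ∀ x ∈ M, x ∈ N → x ∈ R := fun x hx hxN => by
      rcases hMmem x hx with h | ⟨r, hr, rfl⟩
      · exact h
      · exact absurd hxN (hA r hr)
    haveI := hQc
    haveI hMc : IsCyclic ↥(M.map (QuotientGroup.mk' N)) := inferInstance
    obtain ⟨gb, hgb⟩ := (Subgroup.isCyclic_iff_exists_zpowers_eq_top _).1 hMc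
    obtain ⟨g, hgM, rfl⟩ : gb ∈ M.map (QuotientGroup.mk' N) := hgb ▸ Subgroup.mem_zpowers gb
    have hex : ∀ x ∈ M, ∃ k : ℤ, x * (g ^ k)⁻¹ ∈ R ∧ x * (g ^ k)⁻¹ ∈ N := by
      intro x hx
      obtain ⟨k, hk⟩ := Subgroup.mem_zpowers_iff.1
        (hgb.ge ⟨x, hx, rfl⟩ : QuotientGroup.mk' N x ∈ Subgroup.zpowers _)
      have hN' : x * (g ^ k)⁻¹ ∈ N := by
        rw [← QuotientGroup.eq_one_iff]
        show QuotientGroup.mk' N (x * (g ^ k)⁻¹) = 1
        rw [map_mul, map_inv, map_zpow, hk, mul_inv_cancel]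
      exact ⟨k, hNR _ (mul_mem hx (inv_mem (zpow_mem hgM k))) hN', hN'⟩
    have htM : t ∈ M := hM ▸ Subgroup.mem_sup_right (Subgroup.mem_zpowers t)
    have hgR : g ∉ R := by
      intro hg
      obtain ⟨k, hk, -⟩ := hex t htM
      apply htR
      have := mul_mem hk (zpow_mem hg k)
      rwa [inv_mul_cancel_right] at this
    obtain ⟨r₀, hr₀, rfl⟩ := (hMmem g hgM).resolve_left hgR
    refine ⟨r₀, hr₀, fun r hr => ?_⟩
    obtain ⟨g, hge⟩ : ∃ g, g = t * r₀ := ⟨_, rfl⟩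
    rw [← hge] at hex hgR ⊢
    have hg2 : g * g ∈ R := by
      rw [hge, show t * r₀ * (t * r₀) = (t * r₀ * t⁻¹) * (t * t) * r₀ by group]
      exact mul_mem (mul_mem (ht _ hr₀) ht2) hr₀
    have hgnorm : ∀ x ∈ R, g * x * g⁻¹ ∈ R := fun x hx => by
      rw [hge, mul_inv_rev, show t * r₀ * x * (r₀⁻¹ * t⁻¹) = t * (r₀ * x * r₀⁻¹) * t⁻¹ by group]
      exact ht _ (mul_mem (mul_mem hr₀ hx) (inv_mem hr₀))
    obtain ⟨k, hkR, hkN⟩ := hex r (hM ▸ Subgroup.mem_sup_left hr)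
    have hgk : g ^ k ∈ R := by
      have h7 := inv_mem (mul_mem (inv_mem hr) hkR)
      rwa [inv_mul_cancel_left, inv_inv] at h7
    obtain ⟨j, rfl⟩ : Even k := by
      rcases Int.even_or_odd k with h | ⟨j, rfl⟩
      · exact h
      · exfalso
        apply hgR
        rw [zpow_add_one, zpow_mul, zpow_ofNat, sq] at hgk
        have h7 := mul_mem (inv_mem (zpow_mem hg2 j)) hgk
        rwa [inv_mul_cancel_left] at h7
    obtain ⟨n, hn⟩ : ∃ n, n = r * (g ^ (j + j))⁻¹ := ⟨_, rfl⟩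
    rw [← hn] at hkR hkN
    have e : g * r * g⁻¹ * r⁻¹ = g * n * g⁻¹ * n⁻¹ := by
      rw [hn]; group
    rw [e]
    obtain ⟨m, hm⟩ : ∃ m : ℤ, g * n * g⁻¹ = n ^ m := by
      have hgn : g * n * g⁻¹ ∈ N := hNn.conj_mem _ hkN g
      have hsub : Subgroup.zpowers (g * n * g⁻¹) = Subgroup.zpowers n := by
        haveI : IsCyclic N := hNc
        have h1 : (Subgroup.zpowers (⟨g * n * g⁻¹, hgn⟩ : N)) = Subgroup.zpowers (⟨n, hkN⟩ : N) := by
          refine cyclic_eq ?_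
          rw [Nat.card_zpowers, Nat.card_zpowers, ← Subgroup.orderOf_coe, ← Subgroup.orderOf_coe]
          exact (SemiconjBy.orderOf_eq g (by simp [SemiconjBy])).symm
        have h2 := congrArg (Subgroup.map N.subtype) h1
        rwa [MonoidHom.map_zpowers, MonoidHom.map_zpowers] at h2
      obtain ⟨m, hm⟩ := Subgroup.mem_zpowers_iff.1 (hsub ▸ Subgroup.mem_zpowers (g * n * g⁻¹))
      exact ⟨m, hm.symm⟩
    rcases Int.even_or_odd m with ⟨i, rfl⟩ | ⟨i, rfl⟩
    · -- the exponent must be odd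
      have hn1 : n = 1 := by
        obtain ⟨e', he'⟩ := IsPGroup.iff_orderOf.1 hG n
        rcases e' with _ | e'
        · exact orderOf_eq_one_iff.1 (by rw [he', pow_zero])
        exfalso
        have h1 : (g * n * g⁻¹) ^ 2 ^ e' = 1 := by
          rw [hm, ← zpow_natCast, ← zpow_mul, ← orderOf_dvd_iff_zpow_eq_one, he']
          push_cast
          exact ⟨i, by ring⟩
        rw [conj_pow, conj_eq_one_iff, ← orderOf_dvd_iff_pow_eq_one, he'] at h1
        have := (Nat.pow_dvd_pow_iff_le_right (by norm_num : 1 < 2)).1 h1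
        omega
      exact ⟨1, one_mem R, by simp [hn1]⟩
    · refine ⟨n ^ i, zpow_mem hkR i, ?_⟩
      rw [hm, ← zpow_add, zpow_add_one, mul_inv_cancel_right, two_mul]

/-- A metacyclic 2-group with a nonabelian subgroup of order eight is dihedral, quaternion or semidihedral. -/
theorem left_case_of_eight (hG : IsPGroup 2 G) (hmc : Cfsg.IsMetacyclic G) (R : Subgroup G)
    (h8 : Nat.card R = 8) (hna : ∃ x ∈ R, ∃ y ∈ R, x * y ≠ y * x) : CyclicSelf.LeftCase G := by
  classical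
  haveI : Fact (Nat.Prime 2) := ⟨Nat.prime_two⟩
  obtain ⟨N, hNn, hNc, hQc⟩ := hmc
  haveI := hNn
  haveI := hNc
  obtain ⟨u, hu⟩ := (Subgroup.isCyclic_iff_exists_zpowers_eq_top N).1 hNc
  have hNab : ∀ x ∈ N, ∀ y ∈ N, x * y = y * x := fun x hx y hy => by
    rw [← hu] at hx hy
    obtain ⟨i, rfl⟩ := hx
    obtain ⟨j, rfl⟩ := hy
    exact zpow_mul_comm u i j
  haveI := hQc
  -- a generator of the image of `R`
  obtain ⟨gb, hgb⟩ := (Subgroup.isCyclic_iff_exists_zpowers_eq_top _).1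
    (inferInstance : IsCyclic ↥(R.map (QuotientGroup.mk' N)))
  obtain ⟨g, hgR, rfl⟩ : gb ∈ R.map (QuotientGroup.mk' N) := hgb ▸ Subgroup.mem_zpowers gb
  obtain ⟨i, hiR, hiN, hgi⟩ : ∃ i, i ∈ R ∧ i ∈ N ∧ g * i ≠ i * g := by
    by_contra hcon
    push Not at hcon
    have hdec : ∀ x ∈ R, ∃ (k : ℤ) (z : G), z ∈ R ∧ z ∈ N ∧ x = z * g ^ k := by
      intro x hx
      obtain ⟨k, hk⟩ := Subgroup.mem_zpowers_iff.1
        (hgb.ge ⟨x, hx, rfl⟩ : QuotientGroup.mk' N x ∈ Subgroup.zpowers _)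
      refine ⟨k, x * (g ^ k)⁻¹, mul_mem hx (inv_mem (zpow_mem hgR k)), ?_, by group⟩
      rw [← QuotientGroup.eq_one_iff]
      show QuotientGroup.mk' N (x * (g ^ k)⁻¹) = 1
      rw [map_mul, map_inv, map_zpow, hk, mul_inv_cancel]
    obtain ⟨x, hx, y, hy, hxy⟩ := hna
    obtain ⟨k, z, hzR, hzN, rfl⟩ := hdec x hx
    obtain ⟨l, w, hwR, hwN, rfl⟩ := hdec y hy
    have c1 : Commute z w := hNab z hzN w hwN
    have c2 : Commute g z := hcon z hzR hzN
    have c3 : Commute g w := hcon w hwR hwN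
    exact hxy ((c1.mul_right (c2.zpow_left l).symm).mul_left
      ((c3.zpow_left k).mul_right ((Commute.refl g).zpow_zpow k l)))
  have hi4 : orderOf i = 4 := by
    have hd : orderOf i ∣ 2 ^ 3 := by
      have h := orderOf_dvd_natCard (⟨i, hiR⟩ : R)
      rw [h8, Subgroup.orderOf_mk] at h
      simpa using h
    obtain ⟨k, hk, hk'⟩ := (Nat.dvd_prime_pow Nat.prime_two).1 hd
    interval_cases k
    · exact absurd (by rw [orderOf_eq_one_iff.1 hk', mul_one, one_mul]) hgi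
    · exfalso
      have hc : g * i * g⁻¹ = i := by
        have hz : Subgroup.zpowers (⟨g * i * g⁻¹, hNn.conj_mem i hiN g⟩ : N) = Subgroup.zpowers (⟨i, hiN⟩ : N) := by
          refine cyclic_eq ?_
          rw [Nat.card_zpowers, Nat.card_zpowers, ← Subgroup.orderOf_coe, ← Subgroup.orderOf_coe]
          exact (SemiconjBy.orderOf_eq g (by simp [SemiconjBy])).symm
        have h2 := congrArg (Subgroup.map N.subtype) hz
        rw [MonoidHom.map_zpowers, MonoidHom.map_zpowers] at h2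
        simp only [Subgroup.coe_subtype] at h2
        obtain ⟨m, hm⟩ := Subgroup.mem_zpowers_iff.1 (h2 ▸ Subgroup.mem_zpowers (g * i * g⁻¹))
        have hi2 : i ^ (2 : ℤ) = 1 := by
          rw [zpow_ofNat, ← show orderOf i = 2 from hk', pow_orderOf_eq_one]
        rcases Int.even_or_odd m with ⟨j, rfl⟩ | ⟨j, rfl⟩
        · exfalso
          rw [← two_mul, zpow_mul, hi2, one_zpow, eq_comm, conj_eq_one_iff] at hm
          rw [hm, orderOf_one] at hk'
          norm_num at hk'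
        · rw [← hm, zpow_add_one, zpow_mul, hi2, one_zpow, one_mul]
      exact hgi (mul_inv_eq_iff_eq_mul.1 hc)
    · exact hk'
    · exfalso
      have hR : Subgroup.zpowers i = R := Subgroup.eq_of_le_of_card_ge (Subgroup.zpowers_le.2 hiR)
        (by rw [h8, Nat.card_zpowers, hk']; rfl)
      obtain ⟨x, hx, y, hy, hxy⟩ := hna
      rw [← hR] at hx hy
      obtain ⟨a, rfl⟩ := hx
      obtain ⟨b, rfl⟩ := hy
      exact hxy (zpow_mul_comm i a b)
  have hconj : ∀ x : G, x * i * x⁻¹ = i ∨ x * i * x⁻¹ = i⁻¹ := by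
    intro x
    have hz : Subgroup.zpowers (⟨x * i * x⁻¹, hNn.conj_mem i hiN x⟩ : N) = Subgroup.zpowers (⟨i, hiN⟩ : N) := by
      refine cyclic_eq ?_
      rw [Nat.card_zpowers, Nat.card_zpowers, ← Subgroup.orderOf_coe, ← Subgroup.orderOf_coe]
      exact (SemiconjBy.orderOf_eq x (by simp [SemiconjBy])).symm
    have h2 := congrArg (Subgroup.map N.subtype) hz
    rw [MonoidHom.map_zpowers, MonoidHom.map_zpowers] at h2
    simp only [Subgroup.coe_subtype] at h2
    obtain ⟨m, hm⟩ := Subgroup.mem_zpowers_iff.1 (h2 ▸ Subgroup.mem_zpowers (x * i * x⁻¹))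
    have h4 : i ^ (4 : ℤ) = 1 := by rw [zpow_ofNat, ← hi4, pow_orderOf_eq_one]
    have hpar : m % 2 = 1 := by
      by_contra h
      have hz : (x * i * x⁻¹) ^ 2 = 1 := by
        rw [← hm, ← zpow_natCast, ← zpow_mul, ← orderOf_dvd_iff_zpow_eq_one, hi4]
        push_cast
        omega
      rw [conj_pow, conj_eq_one_iff, ← orderOf_dvd_iff_pow_eq_one, hi4] at hz
      norm_num at hz
    rcases (show m % 4 = 1 ∨ m % 4 = 3 by omega) with h | h
    · left
      rw [← hm, show m = 4 * (m / 4) + 1 by omega, zpow_add_one, zpow_mul, h4, one_zpow, one_mul]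
    · right
      rw [← hm, show m = 4 * (m / 4 + 1) + (-1) by omega, zpow_add, zpow_mul, h4, one_zpow, one_mul, zpow_neg_one]
  have hginv : g * i * g⁻¹ = i⁻¹ := (hconj g).resolve_left fun h => hgi (mul_inv_eq_iff_eq_mul.1 h)
  have hgN : g ∉ N := fun h => hgi (hNab g h i hiN)
  have hg2 : g * g ∈ N := by
    obtain ⟨Z, hZ⟩ : ∃ Z : Subgroup R, Z = (Subgroup.zpowers i).subgroupOf R := ⟨_, rfl⟩
    have hZc : Nat.card Z = 4 := by
      rw [hZ, Nat.card_congr (Subgroup.subgroupOfEquivOfLe (Subgroup.zpowers_le.2 hiR)).toEquiv, Nat.card_zpowers, hi4]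
    have hZi : Z.index = 2 := by
      have h := Z.card_mul_index
      rw [hZc, h8] at h
      omega
    have h := Subgroup.mul_self_mem_of_index_two hZi ⟨g, hgR⟩
    rw [hZ, Subgroup.mem_subgroupOf, Subgroup.coe_mul] at h
    exact Subgroup.zpowers_le.2 hiN h
  -- the centraliser of `i` is `N`
  obtain ⟨C, hC⟩ : ∃ C : Subgroup G, C = Subgroup.centralizer ({i} : Set G) := ⟨_, rfl⟩
  have hCmem : ∀ x, x ∈ C ↔ x * i = i * x := fun x => hC ▸ Subgroup.mem_centralizer_singleton_iff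
  have hgC : g ∉ C := fun h => hgi ((hCmem g).1 h)
  have hCN : C = N := by
    refine le_antisymm (fun x hx => ?_) fun x hx => (hCmem x).2 (hNab x hx i hiN)
    by_contra hxN
    -- the involution of the cyclic quotient
    have hxb : QuotientGroup.mk' N x ≠ 1 := fun h => hxN ((QuotientGroup.eq_one_iff x).1 h)
    obtain ⟨e, he⟩ := IsPGroup.iff_orderOf.1 (hG.to_quotient N) (QuotientGroup.mk' N x)
    rcases e with _ | e
    · exact hxb (orderOf_eq_one_iff.1 (by rw [he, pow_zero]))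
    obtain ⟨y, hy⟩ : ∃ y, y = x ^ 2 ^ e := ⟨_, rfl⟩
    have hyo : orderOf (QuotientGroup.mk' N y) = 2 := by
      rw [hy, map_pow, orderOf_pow_of_dvd (by positivity) (by rw [he]; exact pow_dvd_pow 2 (by omega)), he,
        pow_succ, Nat.mul_div_cancel_left _ (by positivity)]
    have hgo : orderOf (QuotientGroup.mk' N g) = 2 :=
      orderOf_eq_prime (by rw [sq, ← map_mul]; exact (QuotientGroup.eq_one_iff _).2 hg2)
        fun h => hgN ((QuotientGroup.eq_one_iff g).1 h)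
    have hz : Subgroup.zpowers (QuotientGroup.mk' N y) = Subgroup.zpowers (QuotientGroup.mk' N g) :=
      cyclic_eq (by rw [Nat.card_zpowers, Nat.card_zpowers, hyo, hgo])
    obtain ⟨k, hk⟩ := Subgroup.mem_zpowers_iff.1 (hz ▸ Subgroup.mem_zpowers (QuotientGroup.mk' N g))
    apply hgC
    have h1 : g * (y ^ k)⁻¹ ∈ N := by
      rw [← QuotientGroup.eq_one_iff]
      show QuotientGroup.mk' N (g * (y ^ k)⁻¹) = 1
      rw [map_mul, map_inv, map_zpow, hk, mul_inv_cancel]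
    have h2 := mul_mem ((hCmem _).2 (hNab _ h1 i hiN)) (zpow_mem (hy ▸ pow_mem hx (2 ^ e)) k)
    rwa [inv_mul_cancel_right] at h2
  have hidx : N.index = 2 := by
    rw [Subgroup.index_eq_two_iff]
    refine ⟨g, fun x => ?_⟩
    rcases em (x ∈ N) with hx | hx
    · refine Or.inr ⟨hx, fun h => hgN ?_⟩
      exact (Subgroup.mul_mem_cancel_left _ hx).1 h
    · refine Or.inl ⟨?_, hx⟩
      rw [← hCN, hCmem]
      have hxi : x * i * x⁻¹ = i⁻¹ := (hconj x).resolve_left fun h => hx (hCN ▸ (hCmem x).2 (mul_inv_eq_iff_eq_mul.1 h))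
      have h5 : x * g * i * (x * g)⁻¹ = i := by
        rw [mul_inv_rev, show x * g * i * (g⁻¹ * x⁻¹) = x * (g * i * g⁻¹) * x⁻¹ by group, hginv, ← conj_inv, hxi,
          inv_inv]
      exact mul_inv_eq_iff_eq_mul.1 h5
  obtain ⟨n, hn⟩ := IsPGroup.iff_orderOf.1 hG u
  have hiu : i ∈ Subgroup.zpowers u := hu ▸ hiN
  have hn2 : 2 ≤ n := by
    have h := orderOf_dvd_of_mem_zpowers hiu
    rw [hi4, hn, show 4 = 2 ^ 2 from rfl] at h
    exact (Nat.pow_dvd_pow_iff_le_right (by norm_num : 1 < 2)).1 h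
  have D : CyclicSelf.Data 2 n u := by
    refine ⟨hG, hn, hn2, fun x => ?_, fun x hx => ?_⟩
    · obtain ⟨m, hm⟩ := Subgroup.mem_zpowers_iff.1
        (hu ▸ hNn.conj_mem u (hu ▸ Subgroup.mem_zpowers u) x : x * u * x⁻¹ ∈ Subgroup.zpowers u)
      exact ⟨m, hm.symm⟩
    · rw [hu, ← hCN, hCmem]
      obtain ⟨k, hk⟩ := hiu
      rw [← hk]
      exact (hx.zpow_right k).eq
  refine (CyclicSelf.two_case D ?_ ?_).2
  · rw [hu]; intro h; exact hgN (h ▸ Subgroup.mem_top g)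
  · intro h3 x hx
    rw [hu, ← hCN, hCmem]
    obtain ⟨k, hk⟩ := hiu
    replace hk : u ^ k = i := hk
    rcases Int.even_or_odd k with ⟨j, rfl⟩ | ⟨j, rfl⟩
    · rw [← hk, show u ^ (j + j) = (u ^ 2) ^ j by rw [← zpow_natCast, ← zpow_mul]; congr 1; push_cast; ring]
      exact (hx.zpow_right j).eq
    · exfalso
      have h1 : i ^ 4 = 1 := by rw [← hi4, pow_orderOf_eq_one]
      rw [← hk, ← zpow_natCast, ← zpow_mul, ← orderOf_dvd_iff_zpow_eq_one, hn] at h1
      push_cast at h1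
      have h8 : (8 : ℤ) ∣ (2 * j + 1) * 4 := (pow_dvd_pow (2 : ℤ) h3).trans h1
      omega

end Cfsg.Agent.Solv.MetaTwo
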