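import Cfsg.Agent.Lib.Solv.Jennings

/-!
# The Engel part of a `p`-th power (Magnus, Sanov)

If all `u v ^ s` (`s < p`) have order dividing `p` and `E (p + 1) = 1`, then
`[u, …, u, v] v ^ p = 1` with `p - 1` letters `u`.
-/

set_option autoImplicit false
set_option linter.style.haveILetI false
set_option linter.unusedSectionVars false

open scoped commutatorElement

namespace Cfsg.Agent.Solv.Jennings

variable {p : ℕ} [hp : Fact p.Prime] {G : Type*} [Group G] {S : Series p G}

/-- The iterated commutator `[u, [u, …, [u, v]]]`. -/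
def eng (u v : G) : ℕ → G
  | 0 => v
  | m + 1 => ⁅u, eng u v m⁆

theorem eng_mem (u v : G) : ∀ m, eng u v m ∈ S.E (m + 1)
  | 0 => mem_E_one v
  | m + 1 => by
    have := S.comm (mem_E_one u) (eng_mem u v m)
    rwa [Nat.add_comm 1 (m + 1)] at this

section
variable {A : Type*} [Ring A] (U W : A)

/-- Coefficients of `(U + s W) ^ n`. -/
def co : ℕ → ℕ → A
  | 0, 0 => 1
  | 0, _ + 1 => 0
  | n + 1, 0 => co n 0 * U
  | n + 1, j + 1 => co n (j + 1) * U + co n j * W

theorem co_zero_right : ∀ n, co U W n 0 = U ^ n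
  | 0 => by simp [co]
  | n + 1 => by simp [co, co_zero_right n, pow_succ]

theorem co_gt : ∀ n j, n < j → co U W n j = 0
  | 0, j + 1, _ => rfl
  | n + 1, j + 1, h => by
    simp [co, co_gt n (j + 1) (by omega), co_gt n j (by omega)]

theorem co_self : ∀ n, co U W n n = W ^ n
  | 0 => by simp [co]
  | n + 1 => by simp [co, co_gt U W n (n + 1) (by omega), co_self n, pow_succ]

theorem co_one : ∀ n, co U W n 1 = ∑ i ∈ Finset.range n, U ^ i * W * U ^ (n - 1 - i)
  | 0 => by simp [co]
  | n + 1 => by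
    rw [show co U W (n + 1) 1 = co U W n 1 * U + co U W n 0 * W from rfl, co_one n, co_zero_right,
      Finset.sum_mul, Finset.sum_range_succ]
    congr 1
    · refine Finset.sum_congr rfl fun i hi => ?_
      have := Finset.mem_range.1 hi
      rw [mul_assoc, ← pow_succ, show n - 1 - i + 1 = n + 1 - 1 - i by omega]
    · simp

variable [Algebra (ZMod p) A]

theorem pow_expand (s : ZMod p) : ∀ n, (U + s • W) ^ n =
    ∑ j ∈ Finset.range (n + 1), s ^ j • co U W n j
  | 0 => by simp [co]
  | n + 1 => by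
    rw [pow_succ, pow_expand s n, Finset.sum_mul]
    simp only [mul_add, smul_mul_assoc, mul_smul_comm, smul_smul, Finset.sum_add_distrib]
    rw [Finset.sum_range_succ' (fun j => s ^ j • co U W (n + 1) j) (n + 1)]
    simp only [co, smul_add, Finset.sum_add_distrib, pow_zero, one_smul]
    rw [Finset.sum_range_succ' (fun j => s ^ j • (co U W n j * U)) n,
      Finset.sum_range_succ (fun j => s ^ (j + 1) • (co U W n (j + 1) * U)) n,
      co_gt U W n (n + 1) (by omega)]
    simp only [zero_mul, smul_zero, add_zero, pow_zero, one_smul, ← pow_succ']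
    abel

end

theorem choose_pred (i : ℕ) (hi : i < p) : ((Nat.choose (p - 1) i : ℕ) : ZMod p) = (-1) ^ i := by
  induction i with
  | zero => simp
  | succ i ih =>
    have h1 := Nat.choose_succ_succ' (p - 1) i
    rw [Nat.sub_add_cancel hp.out.one_le] at h1
    have h2 : ((Nat.choose p (i + 1) : ℕ) : ZMod p) = 0 :=
      (ZMod.natCast_eq_zero_iff _ _).2 (hp.out.dvd_choose_self (Nat.succ_ne_zero i) hi)
    rw [h1, Nat.cast_add, ih (by omega)] at h2
    rw [pow_succ, mul_neg_one]
    exact eq_neg_of_add_eq_zero_right h2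

variable {A : Type*} [Ring A] [Algebra (ZMod p) A]

/-- `x ↦ U x - x U`. -/
noncomputable def ad (U : A) : Module.End (ZMod p) A :=
  LinearMap.mulLeft (ZMod p) U - LinearMap.mulRight (ZMod p) U

theorem ad_pow_pred (U W : A) : ((ad (p := p) U) ^ (p - 1)) W =
    ∑ i ∈ Finset.range p, U ^ i * W * U ^ (p - 1 - i) := by
  let L : Module.End (ZMod p) A := LinearMap.mulLeft (ZMod p) U
  let R : Module.End (ZMod p) A := LinearMap.mulRight (ZMod p) U
  have hc0 : Commute L R := LinearMap.commute_mulLeft_right U U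
  have hc : Commute L (-R) := hc0.neg_right
  rw [show ad (p := p) U = L + -R from sub_eq_add_neg L R, hc.add_pow,
    Nat.sub_add_cancel hp.out.one_le, LinearMap.sum_apply]
  refine Finset.sum_congr rfl fun i hi => ?_
  have hi' := Finset.mem_range.1 hi
  rw [show (-R) ^ (p - 1 - i) = (-1 : Module.End (ZMod p) A) ^ (p - 1 - i) * R ^ (p - 1 - i) from
      (by rw [← (Commute.neg_one_left R).mul_pow, neg_one_mul]),
    show L ^ i = LinearMap.mulLeft (ZMod p) (U ^ i) from by simp [L],
    show R ^ (p - 1 - i) = LinearMap.mulRight (ZMod p) (U ^ (p - 1 - i)) from by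
      simp [R]]
  have hcast : ((Nat.choose (p - 1) i : ℕ) : Module.End (ZMod p) A) =
      ((Nat.choose (p - 1) i : ℕ) : ZMod p) • (1 : Module.End (ZMod p) A) := by
    rw [Nat.cast_smul_eq_nsmul, nsmul_one]
  have hneg : ((-1 : Module.End (ZMod p) A)) ^ (p - 1 - i) =
      ((-1 : ZMod p) ^ (p - 1 - i)) • (1 : Module.End (ZMod p) A) := by
    rw [← Algebra.algebraMap_eq_smul_one, map_pow, map_neg, map_one]
  rw [hcast, hneg, choose_pred i hi']
  have hone : (-1 : ZMod p) ^ i * (-1 : ZMod p) ^ (p - 1 - i) = 1 := by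
    rw [← pow_add, show i + (p - 1 - i) = p - 1 by omega]
    exact ZMod.pow_card_sub_one_eq_one (neg_ne_zero.2 one_ne_zero)
  simp only [smul_mul_assoc, one_mul, mul_smul_comm, mul_one, LinearMap.smul_apply,
    Module.End.mul_apply, LinearMap.mulLeft_apply, LinearMap.mulRight_apply, smul_smul]
  rw [hone, one_smul, mul_assoc]

theorem pow_sub_pow_mem {x y : MonoidAlgebra (ZMod p) G} (hx : x ∈ V S (⊤ : Subgroup G) 1)
    (hy : y ∈ V S (⊤ : Subgroup G) 1) (hxy : x - y ∈ V S (⊤ : Subgroup G) 2) :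
    ∀ m : ℕ, x ^ m ∈ V S (⊤ : Subgroup G) m ∧ y ^ m ∈ V S (⊤ : Subgroup G) m ∧
      x ^ m - y ^ m ∈ V S (⊤ : Subgroup G) (m + 1) := by
  intro m
  induction m with
  | zero => simp [one_mem_V]
  | succ m ih =>
    obtain ⟨h1, h2, h3⟩ := ih
    refine ⟨by rw [pow_succ]; exact mul_mem_V h1 hx, by rw [pow_succ]; exact mul_mem_V h2 hy, ?_⟩
    rw [show x ^ (m + 1) - y ^ (m + 1) = (x ^ m - y ^ m) * x + y ^ m * (x - y) by
      rw [pow_succ, pow_succ, sub_mul, mul_sub]; abel]
    exact add_mem (mul_mem_V h3 hx) (V_anti (by omega) (mul_mem_V h2 hxy))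

theorem dl_pow_linear (v : G) (s : ℕ) :
    dl p (v ^ s) - ((s : ℕ) : ZMod p) • dl p v ∈ V S (⊤ : Subgroup G) 2 := by
  induction s with
  | zero => simp [dl_one]
  | succ s ih =>
    have h : dl p (v ^ (s + 1)) - ((s + 1 : ℕ) : ZMod p) • dl p v =
        (dl p (v ^ s) - ((s : ℕ) : ZMod p) • dl p v) + dl p (v ^ s) * dl p v := by
      rw [pow_succ, dl_mul, el_eq (v ^ s), Nat.cast_succ, add_smul, one_smul, add_mul, one_mul]
      abel
    rw [h]
    exact add_mem ih (V_anti (by omega)
      (mul_mem_V (dl_mem_one (Subgroup.mem_top _)) (dl_mem_one (Subgroup.mem_top _))))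

theorem dl_eng (u v : G) : ∀ m : ℕ,
    dl p (eng u v m) - ((ad (p := p) (dl p u)) ^ m) (dl p v) ∈ V S (⊤ : Subgroup G) (m + 2) := by
  intro m
  induction m with
  | zero => simp [eng]
  | succ m ih =>
    set c := eng u v m with hc
    set a := ((ad (p := p) (dl p u)) ^ m) (dl p v) with ha
    have hcV : dl p c ∈ V S (⊤ : Subgroup G) (m + 1) := dl_mem (Subgroup.mem_top _) (eng_mem u v m)
    have huV : dl p u ∈ V S (⊤ : Subgroup G) 1 := dl_mem_one (Subgroup.mem_top _)
    have hstep : ((ad (p := p) (dl p u)) ^ (m + 1)) (dl p v) = dl p u * a - a * dl p u := by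
      rw [pow_succ', Module.End.mul_apply, ← ha]
      rfl
    have hw : dl p ⁅u, c⁆ = (dl p u * dl p c - dl p c * dl p u) +
        (dl p u * dl p c - dl p c * dl p u) * dl p (u⁻¹ * c⁻¹) := by
      have e1 : dl p u * dl p c - dl p c * dl p u = el p (u * c) - el p (c * u) := by
        simp only [dl, el_mul]; noncomm_ring
      rw [← mul_one_add, add_comm (1 : MonoidAlgebra (ZMod p) G), ← el_eq, e1, sub_mul, ← el_mul,
        ← el_mul, dl, show u * c * (u⁻¹ * c⁻¹) = ⁅u, c⁆ by rw [commutatorElement_def]; group,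
        show c * u * (u⁻¹ * c⁻¹) = 1 by group, el_one]
    rw [show eng u v (m + 1) = ⁅u, c⁆ from rfl, hw, hstep]
    have h1 : dl p u * dl p c - dl p c * dl p u ∈ V S (⊤ : Subgroup G) (m + 2) :=
      sub_mem (V_anti (by omega) (mul_mem_V huV hcV)) (V_anti (by omega) (mul_mem_V hcV huV))
    have h2 : (dl p u * dl p c - dl p c * dl p u) * dl p (u⁻¹ * c⁻¹) ∈ V S (⊤ : Subgroup G) (m + 3) :=
      V_anti (by omega) (mul_mem_V h1 (dl_mem_one (Subgroup.mem_top (u⁻¹ * c⁻¹))))
    rw [show dl p u * dl p c - dl p c * dl p u + (dl p u * dl p c - dl p c * dl p u) * dl p (u⁻¹ * c⁻¹) -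
        (dl p u * a - a * dl p u) = (dl p u * (dl p c - a) - (dl p c - a) * dl p u) +
        (dl p u * dl p c - dl p c * dl p u) * dl p (u⁻¹ * c⁻¹) by noncomm_ring]
    exact add_mem (sub_mem (V_anti (by omega) (mul_mem_V huV ih))
      (V_anti (by omega) (mul_mem_V ih huV))) h2

/-- **Magnus–Sanov**: the linear part of the `p`-th power. -/
theorem eng_mul_pow [Finite G] (hG : IsPGroup p G) (hbot : S.E (p + 1) = ⊥) (u v : G)
    (h : ∀ s < p, (u * v ^ s) ^ p = 1) : eng u v (p - 1) * v ^ p = 1 := by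
  have hp1 := hp.out.one_lt
  set M := V S (⊤ : Subgroup G) (p + 1) with hM
  have hU : dl p u ∈ V S (⊤ : Subgroup G) 1 := dl_mem_one (Subgroup.mem_top _)
  have hW : dl p v ∈ V S (⊤ : Subgroup G) 1 := dl_mem_one (Subgroup.mem_top _)
  have hvan : ∀ s : ZMod p, (dl p u + s • dl p v) ^ p ∈ M := by
    intro s
    obtain ⟨n, hn, rfl⟩ : ∃ n < p, (n : ZMod p) = s :=
      ⟨s.val, s.val_lt, ZMod.natCast_zmod_val s⟩
    have hd : dl p (u * v ^ n) - (dl p u + (n : ZMod p) • dl p v) ∈ V S (⊤ : Subgroup G) 2 := by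
      rw [show dl p (u * v ^ n) - (dl p u + (n : ZMod p) • dl p v) =
        (dl p (v ^ n) - (n : ZMod p) • dl p v) + dl p u * dl p (v ^ n) by
        rw [dl_mul, el_eq u]; noncomm_ring]
      exact add_mem (dl_pow_linear v n)
        (V_anti (by omega) (mul_mem_V hU (dl_mem_one (Subgroup.mem_top _))))
    have h3 := (pow_sub_pow_mem (dl_mem_one (Subgroup.mem_top (u * v ^ n)))
      (add_mem hU (Submodule.smul_mem _ _ hW)) hd p).2.2
    rw [dl_pow_prime, h n hn, dl_one, zero_sub] at h3
    exact neg_mem_iff.1 h3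
  have hlin : co (dl p u) (dl p v) p 1 + co (dl p u) (dl p v) p p ∈ M := by
    by_contra hne
    obtain ⟨φ, hφ, hφM⟩ := Submodule.exists_dual_map_eq_bot_of_notMem hne inferInstance
    have hker : ∀ x ∈ M, φ x = 0 := fun x hx => by
      have : φ x ∈ M.map φ := Submodule.mem_map_of_mem hx
      rwa [hφM, Submodule.mem_bot] at this
    set a : ℕ → ZMod p := fun j => φ (co (dl p u) (dl p v) p j) with ha
    let Q : Polynomial (ZMod p) :=
      (∑ j ∈ Finset.range p, Polynomial.C (a j) * Polynomial.X ^ j) + Polynomial.C (a p) * Polynomial.X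
    have hQ : Q = 0 := by
      refine Polynomial.eq_zero_of_natDegree_lt_card_of_eval_eq_zero Q (f := id) Function.injective_id
        (fun s => ?_) ?_
      · have h0 := hker _ (hvan s)
        rw [pow_expand, map_sum, Finset.sum_range_succ] at h0
        simp only [map_smul, smul_eq_mul] at h0
        simp only [Q, id, Polynomial.eval_add, Polynomial.eval_finsetSum, Polynomial.eval_mul,
          Polynomial.eval_C, Polynomial.eval_pow, Polynomial.eval_X]
        rw [ZMod.pow_card s] at h0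
        rw [← h0]
        simp only [ha, mul_comm]
      · rw [ZMod.card p]
        refine lt_of_le_of_lt (Polynomial.natDegree_add_le _ _) (max_lt ?_ ?_)
        · refine lt_of_le_of_lt (Polynomial.natDegree_sum_le_of_forall_le _ _ (n := p - 1) fun j hj => ?_)
            (by omega)
          exact (Polynomial.natDegree_C_mul_X_pow_le _ _).trans
            (Nat.le_sub_one_of_lt (Finset.mem_range.1 hj))
        · exact lt_of_le_of_lt (Polynomial.natDegree_C_mul_le _ _)
            (by rw [Polynomial.natDegree_X]; exact hp1)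
    have h1 := congrArg (fun q => Polynomial.coeff q 1) hQ
    simp only [Q, Polynomial.coeff_add, Polynomial.finsetSum_coeff, Polynomial.coeff_C_mul_X_pow,
      Polynomial.coeff_C_mul, Polynomial.coeff_X_pow, mul_ite, mul_zero, Polynomial.coeff_X_one, Polynomial.coeff_zero, mul_one] at h1
    rw [Finset.sum_ite_eq, if_pos (Finset.mem_range.2 hp1)] at h1
    exact hφ (by rw [map_add]; exact h1)
  rw [co_one, co_self, dl_pow_prime] at hlin
  rw [← ad_pow_pred] at hlin
  have he := dl_eng (S := S) u v (p - 1)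
  rw [show p - 1 + 2 = p + 1 by omega] at he
  have hcv : dl p (eng u v (p - 1)) + dl p (v ^ p) ∈ M := by
    rw [show dl p (eng u v (p - 1)) + dl p (v ^ p) = (dl p (eng u v (p - 1)) -
      ((ad (p := p) (dl p u)) ^ (p - 1)) (dl p v)) +
      (((ad (p := p) (dl p u)) ^ (p - 1)) (dl p v) + dl p (v ^ p)) by abel]
    exact add_mem he hlin
  have hcE : dl p (eng u v (p - 1)) ∈ V S (⊤ : Subgroup G) p := by
    have := eng_mem (S := S) u v (p - 1)
    rw [Nat.sub_add_cancel hp.out.one_le] at this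
    exact dl_mem (Subgroup.mem_top _) this
  have hfin : dl p (eng u v (p - 1) * v ^ p) ∈ M := by
    rw [dl_mul, el_eq (eng u v (p - 1)), add_mul, one_mul,
      show ∀ a b c : MonoidAlgebra (ZMod p) G, a + (b + c) = (a + c) + b from fun a b c => by abel]
    exact add_mem hcv (V_anti (le_refl _) (mul_mem_V hcE (dl_mem_one (Subgroup.mem_top _))))
  have := mem_E_of_dl_mem hG hfin
  rwa [hbot, Subgroup.mem_bot] at this

end Cfsg.Agent.Solv.Jennings
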