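import Cfsg.Agent.Lib.Solv.MaxTwoStep
import Cfsg.Agent.Lib.Solv.PowerEngel

/-!
# Blackburn's theorems on the power structure of groups of maximal class

* `IsMax.twoStep_eq_two`: for `n ≥ p + 2` all two-step centralizers coincide;
* `IsMax.pow_mem`: `(γ i) ^ p ≤ γ (i + p - 1)` for `i ≥ 2`;
* `IsMax.pow_not_mem`: the exact layer.
-/

set_option autoImplicit false
set_option linter.style.haveILetI false
set_option linter.unusedSectionVars false

open scoped commutatorElement

namespace Cfsg.Agent.Solv.MaxC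

open PolySeq

universe u

variable {G : Type u} [Group G] [Finite G] {p : ℕ} [hp : Fact p.Prime] {n : ℕ}

/-- In a `p`-group of class less than `p`, `p`-th powers in the cyclic group generated by a central
element multiply. -/
theorem mul_pow_central (hG : IsPGroup p G)
    (hbot : (⊤ : Subgroup G).lowerCentralSeries (p - 1) = ⊥) {z : G} (hz : ∀ g, g * z = z * g)
    {x y : G} {i j : ℤ} (hx : x ^ p = z ^ i) (hy : y ^ p = z ^ j) : (x * y) ^ p = z ^ (i + j) := by
  obtain ⟨a, ha⟩ := IsPGroup.iff_orderOf.1 hG z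
  haveI : NeZero (p ^ (a + 1)) := ⟨pow_ne_zero _ hp.out.ne_zero⟩
  let t : Multiplicative (ZMod (p ^ (a + 1))) := Multiplicative.ofAdd 1
  have hord : orderOf t = p ^ (a + 1) := by
    rw [orderOf_ofAdd_eq_addOrderOf, ZMod.addOrderOf_one]
  set w : G × Multiplicative (ZMod (p ^ (a + 1))) := (z, t ^ p) with hw
  set N := Subgroup.zpowers w with hN
  haveI : N.Normal := ⟨fun m hm g => by
    have hc : g * w = w * g := Prod.ext (hz g.1) (mul_comm _ _)
    obtain ⟨k, rfl⟩ := Subgroup.mem_zpowers_iff.1 hm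
    rw [((show Commute g w from hc).zpow_right k).eq, mul_assoc, mul_inv_cancel, mul_one]
    exact hm⟩
  let q := QuotientGroup.mk' N
  have hT : IsPGroup p (Multiplicative (ZMod (p ^ (a + 1)))) :=
    IsPGroup.of_card (n := a + 1) (by simp [Nat.card_eq_fintype_card, Fintype.card_multiplicative, ZMod.card])
  have hP : IsPGroup p (G × Multiplicative (ZMod (p ^ (a + 1)))) := by
    intro g
    obtain ⟨k, hk⟩ := hG g.1
    obtain ⟨l, hl⟩ := hT g.2
    refine ⟨k + l, Prod.ext ?_ ?_⟩
    · rw [Prod.pow_fst, pow_add p k l, pow_mul, hk, one_pow, Prod.fst_one]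
    · rw [Prod.pow_snd, pow_add p k l, Nat.mul_comm (p ^ k), pow_mul, hl, one_pow, Prod.snd_one]
  have hbotT : (⊤ : Subgroup (Multiplicative (ZMod (p ^ (a + 1))))).lowerCentralSeries (p - 1) = ⊥ := by
    refine le_bot_iff.1 ((Subgroup.lowerCentralSeries_antitone _
      (show 1 ≤ p - 1 from Nat.le_sub_one_of_lt hp.out.one_lt)).trans ?_)
    rw [Subgroup.lowerCentralSeries_succ, Subgroup.lowerCentralSeries_zero, Subgroup.commutator_le]
    intro u _ v _
    simp [commutatorElement_eq_one_iff_mul_comm, mul_comm]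
  have hbotX : (⊤ : Subgroup ((G × Multiplicative (ZMod (p ^ (a + 1)))) ⧸ N)).lowerCentralSeries
      (p - 1) = ⊥ := by
    rw [← Subgroup.map_top_of_surjective q (QuotientGroup.mk'_surjective N),
      ← Subgroup.map_lowerCentralSeries, Subgroup.top_lowerCentralSeries_prod, hbot, hbotT,
      Subgroup.bot_prod_bot, Subgroup.map_bot]
  have hker : ∀ k : ℤ, q (z ^ k, t ^ ((p : ℤ) * k)) = 1 := fun k =>
    (QuotientGroup.eq_one_iff _).2 ⟨k, Prod.ext rfl (by
      show (t ^ p) ^ k = _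
      rw [← zpow_natCast, ← zpow_mul])⟩
  have hpw : ∀ (u : G) (k : ℤ), u ^ p = z ^ k → q (u, t ^ k) ^ p = 1 := fun u k hu => by
    rw [← map_pow, show ((u, t ^ k) : G × Multiplicative (ZMod (p ^ (a + 1)))) ^ p =
      (z ^ k, t ^ ((p : ℤ) * k)) from Prod.ext hu (by
        show (t ^ k) ^ p = _
        rw [← zpow_natCast, ← zpow_mul, mul_comm])]
    exact hker k
  have h := mul_pow_prime_of_class_lt (hP.to_quotient N) hbotX (hpw x i hx) (hpw y j hy)
  rw [← map_mul, ← map_pow, QuotientGroup.mk'_apply, QuotientGroup.eq_one_iff] at h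
  obtain ⟨k, hk⟩ := Subgroup.mem_zpowers_iff.1 h
  have h1 : z ^ k = (x * y) ^ p := congrArg Prod.fst hk
  have h2 : (t ^ p) ^ k = (t ^ i * t ^ j) ^ p := congrArg Prod.snd hk
  rw [← zpow_add, ← zpow_natCast, ← zpow_mul, ← zpow_natCast, ← zpow_mul,
    zpow_eq_zpow_iff_modEq, hord, mul_comm (i + j)] at h2
  have h3 : k ≡ i + j [ZMOD ((p ^ a : ℕ) : ℤ)] := by
    rw [pow_succ', Nat.cast_mul] at h2
    exact Int.ModEq.mul_left_cancel' (by exact_mod_cast hp.out.ne_zero) h2
  rw [← h1, zpow_eq_zpow_iff_modEq, ha]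
  exact h3

/-- The same inside a subgroup whose image has class less than `p`. -/
theorem mul_pow_central' (hG : IsPGroup p G) (N : Subgroup G) [N.Normal] (K : Subgroup G)
    (hK : K.lowerCentralSeries (p - 1) ≤ N) {z : G} (hzK : z ∈ K) (hz : ∀ g ∈ K, ⁅g, z⁆ ∈ N)
    {x y : G} (hxK : x ∈ K) (hyK : y ∈ K) {i j : ℤ} (hx : (z ^ i)⁻¹ * x ^ p ∈ N)
    (hy : (z ^ j)⁻¹ * y ^ p ∈ N) : (z ^ (i + j))⁻¹ * (x * y) ^ p ∈ N := by
  let q := QuotientGroup.mk' N
  let K' := K.map q
  have hbot : (⊤ : Subgroup K').lowerCentralSeries (p - 1) = ⊥ := by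
    rw [← Subgroup.map_eq_bot_iff_of_injective _ K'.subtype_injective,
      Subgroup.top_subtype_lowerCentralSeries, ← Subgroup.map_lowerCentralSeries,
      Subgroup.map_eq_bot_iff, QuotientGroup.ker_mk']
    exact hK
  have heq : ∀ {u : G} {k : ℤ}, (z ^ k)⁻¹ * u ^ p ∈ N → q u ^ p = q z ^ k := fun {u k} h => by
    rw [← map_pow, ← map_zpow]
    exact ((QuotientGroup.eq).2 h).symm
  have h := mul_pow_central ((hG.to_quotient N).to_subgroup K') hbot
    (z := ⟨q z, Subgroup.mem_map_of_mem q hzK⟩)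
    (by
      rintro ⟨_, g, hg, rfl⟩
      refine Subtype.ext ?_
      show q g * q z = q z * q g
      rw [← commutatorElement_eq_one_iff_mul_comm, ← map_commutatorElement]
      exact (QuotientGroup.eq_one_iff _).2 (hz g hg))
    (x := ⟨q x, Subgroup.mem_map_of_mem q hxK⟩) (y := ⟨q y, Subgroup.mem_map_of_mem q hyK⟩)
    (i := i) (j := j) (Subtype.ext (by simpa using heq hx)) (Subtype.ext (by simpa using heq hy))
  have h' := congrArg Subtype.val h
  simp only [SubgroupClass.coe_pow, Subgroup.coe_mul, SubgroupClass.coe_zpow] at h'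
  rw [← map_mul, ← map_pow, ← map_zpow] at h'
  exact (QuotientGroup.eq).1 h'.symm

/-- Groups of maximal class of order at most `p ^ (p + 1)`. -/
theorem IsMax.small (h : IsMax G p n) (h3 : 3 ≤ n) (hnp : n ≤ p + 1) :
    (∀ a ∈ F G 2, a ^ p = 1) ∧ ∀ g : G, g ^ p ∈ F G (n - 1) := by
  obtain ⟨x, y, hx, hy, hxy⟩ := h.exists_unif_small h3 hnp
  set H : Subgroup G := Subgroup.zpowers x ⊔ F G 2 with hH
  have hHbot : H.lowerCentralSeries (p - 1) ≤ (⊥ : Subgroup G) :=
    (lcs_sup_le (G := G) (e := 1) (m := 2) le_rfl (by omega) (Subgroup.mem_top x) (p - 1)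
      (Nat.le_sub_one_of_lt hp.out.one_lt)).trans (le_of_eq (h.F_bot (by
        have := hp.out.one_lt; omega)))
  have hxH : x ∈ H := Subgroup.mem_sup_left (Subgroup.mem_zpowers x)
  have hxZ := h.pow_mem_Z h3 hx
  have hzH : x ^ p ∈ H := pow_mem hxH p
  have hzc : ∀ g ∈ H, ⁅g, x ^ p⁆ ∈ (⊥ : Subgroup G) := fun g _ => by
    rw [Subgroup.mem_bot, commutatorElement_eq_one_iff_mul_comm]
    exact h.F_pred_central hxZ g
  have hcomm : ∀ b : G, ⁅x⁻¹, b⁆ ^ p = 1 := by
    intro b
    have hbH : b * x * b⁻¹ ∈ H := by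
      rw [show b * x * b⁻¹ = ⁅b, x⁆ * x by simp only [commutatorElement_def]; group]
      exact mul_mem (Subgroup.mem_sup_right (F_commutator (show b ∈ F G 1 from Subgroup.mem_top b)
        (show x ∈ F G 1 from Subgroup.mem_top x))) hxH
    have := mul_pow_central' h.isPGroup ⊥ H hHbot hzH hzc (inv_mem hxH) hbH (i := -1) (j := 1)
      (by simp [inv_pow]) (by simp [conj_pow, h.F_pred_central hxZ b])
    rw [Subgroup.mem_bot, neg_add_cancel, zpow_zero, inv_one, one_mul] at this
    rw [show ⁅x⁻¹, b⁆ = x⁻¹ * (b * x * b⁻¹) by simp only [commutatorElement_def]; group]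
    exact this
  let S : Subgroup G :=
  { carrier := {a | a ∈ F G 2 ∧ a ^ p = 1}
    one_mem' := ⟨one_mem _, one_pow p⟩
    mul_mem' := by
      intro a b ha hb
      refine ⟨mul_mem ha.1 hb.1, ?_⟩
      have := mul_pow_central' h.isPGroup ⊥ H hHbot (one_mem H) (by simp)
        (Subgroup.mem_sup_right ha.1) (Subgroup.mem_sup_right hb.1) (i := 0) (j := 0)
        (by simp [ha.2]) (by simp [hb.2])
      simpa using this
    inv_mem' := fun {a} ha => ⟨inv_mem ha.1, by rw [inv_pow, ha.2, inv_one]⟩ }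
  have hS : ∀ d k, 2 ≤ k → n ≤ k + d → F G k ≤ S := by
    intro d
    induction d with
    | zero => intro k _ hk; rw [h.F_bot (by omega)]; exact bot_le
    | succ d ih =>
      intro k hk hkd
      rcases Nat.lt_or_ge k n with hkn | hkn
      swap
      · rw [h.F_bot hkn]; exact bot_le
      obtain ⟨b, hb1, hb2⟩ : ∃ b, ⁅x⁻¹, b⁆ ∈ F G k ∧ ⁅x⁻¹, b⁆ ∉ F G (k + 1) := by
        rcases eq_or_lt_of_le hk with rfl | hk3
        · exact ⟨y, h.comm_gen h3 (fun e => hx.1 (by simpa using inv_mem e))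
            (by rw [Subgroup.zpowers_inv]; exact hxy)⟩
        · obtain ⟨a, ha, ha'⟩ := h.exists_mem_not_mem (show 1 ≤ k - 1 by omega) (by omega)
          have := h.comm_not_mem (show 2 ≤ k - 1 by omega)
            (fun e => hx.2 (k - 1) (by omega) (by omega) (by simpa using inv_mem e) :
              x⁻¹ ∉ twoStep G (k - 1)) ha ha'
          rw [show k - 1 + 1 = k by omega, show k - 1 + 2 = k + 1 by omega] at this
          exact ⟨a, this⟩
      rw [h.F_gen hk hb1 hb2]
      exact sup_le ((Subgroup.zpowers_le).2 ⟨F_antitone hk hb1, hcomm b⟩)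
        (ih (k + 1) (by omega) (by omega))
  have hF2 : ∀ a ∈ F G 2, a ^ p = 1 := fun a ha => (hS n 2 le_rfl (by omega) ha).2
  refine ⟨hF2, fun g => ?_⟩
  set N := F G (n - 1) with hN
  have hyN := h.pow_mem_Z h3 hy
  let T : Subgroup G :=
  { carrier := {g | g ^ p ∈ N}
    one_mem' := by simp [Subgroup.one_mem]
    mul_mem' := by
      intro a b ha hb
      have hK : (⊤ : Subgroup G).lowerCentralSeries (p - 1) ≤ N :=
        le_trans (Subgroup.lowerCentralSeries_antitone _ (show n - 2 ≤ p - 1 by omega))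
          (le_of_eq (by rw [hN]; unfold F; rw [show n - 1 - 1 = n - 2 by omega]))
      have := mul_pow_central' h.isPGroup N ⊤ hK (Subgroup.mem_top 1)
        (by intros; simp [Subgroup.one_mem]) (Subgroup.mem_top a) (Subgroup.mem_top b) (i := 0) (j := 0)
        (by simpa using ha) (by simpa using hb)
      simpa using this
    inv_mem' := by
      intro a ha
      show a⁻¹ ^ p ∈ N
      rw [inv_pow]; exact inv_mem ha }
  have hT : (⊤ : Subgroup G) ≤ T := by
    rw [← h.gen_top hx.1 hxy]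
    refine sup_le ((Subgroup.zpowers_le).2 hyN) (sup_le ((Subgroup.zpowers_le).2 hxZ) fun a ha => ?_)
    show a ^ p ∈ N
    rw [hF2 a ha]; exact one_mem _
  exact hT (Subgroup.mem_top g)

theorem IsMax.pow_top (h : IsMax G p n) (hnp : p + 1 ≤ n) :
    (∀ g : G, g ^ p ∈ F G p) ∧ ∀ a ∈ F G 2, a ^ p ∈ F G (p + 1) := by
  have := hp.out.two_le
  obtain ⟨h1, h2⟩ := (h.quotient (k := p + 1) (by omega) hnp).small (by omega) le_rfl
  refine ⟨fun g => ?_, fun a ha => ?_⟩
  · have := h2 (g : G ⧸ F G (p + 1))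
    rwa [← QuotientGroup.mk_pow, Nat.add_sub_cancel, mk_mem_F_iff (by omega)] at this
  · have := h1 (a : G ⧸ F G (p + 1)) ((mk_mem_F_iff (by omega)).2 ha)
    rwa [← QuotientGroup.mk_pow, QuotientGroup.eq_one_iff] at this

/-- The series of a group of maximal class of order `p ^ (p + 1)`. -/
def IsMax.series (h : IsMax G p (p + 1)) : Jennings.Series p G where
  E := F G
  top := rfl
  anti := fun _ _ hab => F_antitone hab
  comm := fun ha hb => F_commutator ha hb
  pow := by
    intro i a ha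
    match i, ha with
    | 0, _ => exact Subgroup.mem_top _
    | 1, _ => rw [mul_one]; exact (h.pow_top le_rfl).1 a
    | i + 2, ha =>
      have := hp.out.two_le
      have h1 := (h.small (by omega) le_rfl).1 a (F_antitone (by omega) ha)
      rw [h1]; exact one_mem _
  bot := ⟨p + 1, h.F_bot le_rfl⟩

open Jennings (eng)

theorem map_eng {Q : Type*} [Group Q] (f : G →* Q) (u v : G) :
    ∀ m, f (eng u v m) = eng (f u) (f v) m
  | 0 => rfl
  | m + 1 => by
    show f ⁅u, eng u v m⁆ = _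
    rw [map_commutatorElement, map_eng f u v m]
    rfl

theorem IsMax.engel (h : IsMax G p n) (hnp : p + 1 ≤ n) {u v : G}
    (huv : ∀ s < p, (u * v ^ s) ^ p ∈ F G (p + 1)) :
    eng u v (p - 1) * v ^ p ∈ F G (p + 1) := by
  have := hp.out.two_le
  have hq := h.quotient (k := p + 1) (by omega) hnp
  have := Jennings.eng_mul_pow (S := hq.series) hq.isPGroup (hq.F_bot le_rfl)
    (u : G ⧸ F G (p + 1)) (v : G ⧸ F G (p + 1)) (fun s hs => by
      rw [← QuotientGroup.mk_pow, ← QuotientGroup.mk_mul, ← QuotientGroup.mk_pow,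
        QuotientGroup.eq_one_iff]
      exact huv s hs)
  rwa [← QuotientGroup.mk'_apply, ← QuotientGroup.mk'_apply, ← map_eng, ← map_pow, ← map_mul,
    QuotientGroup.mk'_apply, QuotientGroup.eq_one_iff] at this

theorem eng_mem_F {u v : G} {i : ℕ} (hv : v ∈ F G i) : ∀ m, eng u v m ∈ F G (i + m)
  | 0 => hv
  | m + 1 => by
    have := F_commutator (show u ∈ F G 1 from Subgroup.mem_top u) (eng_mem_F (u := u) hv m)
    rwa [show 1 + (i + m) = i + (m + 1) by omega] at this

/-- If `u` lies in some two-step centralizer on the way, the iterated commutator drops. -/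
theorem eng_drop {u v : G} {j : ℕ} (hj : 1 ≤ j) (hu : u ∈ twoStep G j) :
    ∀ m, j ≤ m → eng u v m ∈ F G (m + 2) := by
  intro m hm
  induction m, hm using Nat.le_induction with
  | base =>
    obtain ⟨i, rfl⟩ := Nat.exists_eq_add_of_le' hj
    have := eng_mem_F (u := u) (show v ∈ F G 1 from Subgroup.mem_top v) i
    rw [Nat.add_comm 1 i] at this
    exact hu _ this
  | succ m _ ih =>
    have := F_commutator (show u ∈ F G 1 from Subgroup.mem_top u) ih
    rwa [show 1 + (m + 2) = m + 1 + 2 by omega] at this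

theorem IsMax.eng_not_mem (h : IsMax G p n) {u a : G} {i : ℕ} (hi : 2 ≤ i) (ha : a ∈ F G i)
    (ha' : a ∉ F G (i + 1)) : ∀ m, (∀ j, i ≤ j → j < i + m → u ∉ twoStep G j) →
      eng u a m ∉ F G (i + m + 1) := by
  intro m
  induction m with
  | zero => intro _; exact ha'
  | succ m ih =>
    intro hu
    exact (h.comm_not_mem (show 2 ≤ i + m by omega) (hu (i + m) (by omega) (by omega))
      (eng_mem_F ha m) (ih fun j h1 h2 => hu j h1 (by omega))).2

theorem IsMax.eng_not_mem_top (h : IsMax G p n) (h3 : 3 ≤ n) {u v : G} (hu : u ∉ F G 2)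
    (hv : v ∉ Subgroup.zpowers u ⊔ F G 2) {m : ℕ} (hm : 1 ≤ m)
    (huj : ∀ j, 2 ≤ j → j ≤ m → u ∉ twoStep G j) : eng u v m ∉ F G (m + 2) := by
  obtain ⟨m, rfl⟩ := Nat.exists_eq_add_of_le' hm
  have hsh : ∀ m, eng u v (m + 1) = eng u ⁅u, v⁆ m := by
    intro m
    induction m with
    | zero => rfl
    | succ m ih => show ⁅u, _⁆ = ⁅u, _⁆; rw [ih]
  rw [hsh, show m + 1 + 2 = 2 + m + 1 by omega]
  obtain ⟨h1, h2⟩ := h.comm_gen h3 hu hv
  exact h.eng_not_mem le_rfl h1 h2 m fun j hj1 hj2 => huj j hj1 (by omega)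

/-- Some `p`-th power lies outside `γ (p + 1)`. -/
theorem IsMax.exists_pow_not_mem (h : IsMax G p n) (hnp : p + 1 ≤ n) :
    ∃ y : G, y ^ p ∉ F G (p + 1) := by
  by_contra hh
  push Not at hh
  have h2 := hp.out.two_le
  have hq := h.quotient (k := p + 1) (by omega) hnp
  obtain ⟨x, y, hx, hy, hxy⟩ := hq.exists_unif_small (by omega) le_rfl
  have hE := Jennings.eng_mul_pow (S := hq.series) hq.isPGroup (hq.F_bot le_rfl) x y (fun s _ => by
    obtain ⟨a, ha⟩ := QuotientGroup.mk'_surjective (F G (p + 1)) (x * y ^ s)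
    rw [← ha, ← map_pow]
    exact (QuotientGroup.eq_one_iff _).2 (hh a))
  have hy1 : y ^ p = 1 := by
    obtain ⟨a, rfl⟩ := QuotientGroup.mk'_surjective (F G (p + 1)) y
    rw [← map_pow]
    exact (QuotientGroup.eq_one_iff _).2 (hh a)
  rw [hy1, mul_one] at hE
  have := hq.eng_not_mem_top (by omega) hx.1 hxy (show 1 ≤ p - 1 by omega)
    (fun j h1 h3 => hx.2 j h1 (by omega))
  rw [hE] at this
  exact this (one_mem _)

/-- Blackburn, the first layers. -/
theorem IsMax.twoStep_eq_base (h : IsMax G p n) (hnp : p + 2 ≤ n) {j : ℕ} (h2j : 2 ≤ j) (hjp : j ≤ p) :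
    twoStep G j = twoStep G 2 := by
  have h2 := hp.out.two_le
  obtain ⟨y, hy⟩ := h.exists_pow_not_mem (by omega)
  have hy2 : y ∉ F G 2 := fun e => hy ((h.pow_top (by omega)).2 y e)
  have hC : ∀ u : G, u ^ p ∉ F G (p + 1) → u ∈ twoStep G p := fun u hu =>
    h.mem_twoStep_of h2 ((h.pow_top (by omega)).1 u) hu (by
      rw [commutatorElement_eq_one_iff_mul_comm.2 ((Commute.refl u).pow_right p).eq]
      exact one_mem _)
  have hyp := hC y hy
  have hCp := h.twoStep_eq (j := p) (by omega) hnp hy2 hyp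
  obtain ⟨x, hx⟩ : ∃ x, x ∉ twoStep G p := by
    by_contra hh
    push Not at hh
    exact h.twoStep_ne_top (by omega) hnp (eq_top_iff.2 fun g _ => hh g)
  have key : ∀ u : G, u ∉ twoStep G p → ∀ k, 2 ≤ k → k < p → u ∉ twoStep G k := by
    intro u hu k hk2 hkp hmem
    have hE := h.engel (by omega) (u := u) (v := y) (fun s _ => by
      by_contra hh
      exact hu (by simpa using mul_mem (hC _ hh) (inv_mem (pow_mem hyp s))))
    have hd := eng_drop (v := y) (by omega) hmem (p - 1) (by omega)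
    rw [show p - 1 + 2 = p + 1 by omega] at hd
    exact hy (by simpa using mul_mem (inv_mem hd) hE)
  have main : ∀ k, 2 ≤ k → k < p → y ∈ twoStep G k := by
    intro k hk2 hkp
    by_contra hyk
    obtain ⟨t, ht⟩ := h.twoStep_cover hk2 (by omega) hyk x
    refine key (x * y ^ t) (fun e => hx ?_) k hk2 hkp ht
    simpa using mul_mem e (inv_mem (pow_mem hyp t))
  have hall : ∀ k, 2 ≤ k → k ≤ p → twoStep G k = Subgroup.zpowers y ⊔ F G 2 := by
    intro k hk2 hkp
    rcases eq_or_lt_of_le hkp with rfl | hlt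
    · exact hCp
    · exact h.twoStep_eq (by omega) (by omega) hy2 (main k hk2 hlt)
  rw [hall j h2j hjp, hall 2 le_rfl h2]

theorem Unif.card_sup (h : IsMax G p n) {x : G} (hx : Unif G n x) {i : ℕ} (hi : 2 ≤ i) (hin : i < n) :
    Nat.card (Subgroup.zpowers x ⊔ F G i : Subgroup G) = p ^ (n - i + 1) := by
  have h3 : 3 ≤ n := by omega
  set H : Subgroup G := Subgroup.zpowers x ⊔ F G i with hH
  let g : H →* G ⧸ F G i := (QuotientGroup.mk' (F G i)).comp H.subtype
  have hk : g.ker = (F G i).subgroupOf H := by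
    rw [← MonoidHom.comap_ker, QuotientGroup.ker_mk']
    rfl
  have hr : g.range = Subgroup.zpowers (x : G ⧸ F G i) := by
    rw [MonoidHom.range_comp, Subgroup.range_subtype, hH, Subgroup.map_sup, MonoidHom.map_zpowers,
      (Subgroup.map_eq_bot_iff _).2 (show F G i ≤ (QuotientGroup.mk' (F G i)).ker by simp),
      sup_bot_eq]
    rfl
  rw [← g.ker.card_mul_index, Subgroup.index_ker, hr, Nat.card_zpowers, hk,
    Nat.card_congr (Subgroup.subgroupOfEquivOfLe le_sup_right).toEquiv, h.F_card hi hin.le,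
    pow_succ]
  congr 1
  refine orderOf_eq_prime ?_ fun e => hx.1 (F_antitone hi ((QuotientGroup.eq_one_iff x).1 e))
  rw [← QuotientGroup.mk_pow, QuotientGroup.eq_one_iff]
  exact F_antitone (show i ≤ n - 1 by omega) (h.pow_mem_Z h3 hx)

theorem Unif.isMax_sup (h : IsMax G p n) {x : G} (hx : Unif G n x) {i : ℕ} (hi : 2 ≤ i) (hin : i < n) :
    IsMax (Subgroup.zpowers x ⊔ F G i : Subgroup G) p (n - i + 1) ∧
      ∀ s, 2 ≤ s → s ≤ n - i + 1 → (F (Subgroup.zpowers x ⊔ F G i : Subgroup G) s).map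
        (Subgroup.zpowers x ⊔ F G i).subtype = F G (i + s - 1) := by
  set H : Subgroup G := Subgroup.zpowers x ⊔ F G i with hH
  have hc : Nat.card H = p ^ (n - i + 1) := Unif.card_sup h hx hi hin
  have hmax : IsMax H p (n - i + 1) := by
    refine ⟨hc, by omega, ?_⟩
    rw [show n - i + 1 - 2 = n - i - 1 by omega]
    refine lcs_ne_bot_of_small_centralizer (n - i - 1) (by rw [hc]; congr 1; omega)
      ⟨⟨x, Subgroup.mem_sup_left (Subgroup.mem_zpowers x)⟩, ?_⟩
    refine le_trans ?_ (h.card_centralizer_le (by omega) hx)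
    refine Nat.card_le_card_of_injective (fun c => ⟨(c.1 : G), ?_⟩) fun c d hcd => ?_
    · exact Subgroup.mem_centralizer_singleton_iff.2
        (congrArg Subtype.val (Subgroup.mem_centralizer_singleton_iff.1 c.2))
    · exact Subtype.ext (Subtype.ext (Subtype.mk.inj hcd))
  refine ⟨hmax, fun s hs2 hs => Subgroup.eq_of_le_of_card_ge ?_ ?_⟩
  · have hmap : (F H s).map H.subtype = H.lowerCentralSeries (s - 1) :=
      Subgroup.top_subtype_lowerCentralSeries H (s - 1)
    rw [hmap]
    refine (lcs_sup_le le_rfl (by omega) (show x ∈ F G 1 from Subgroup.mem_top x) (s - 1)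
      (by omega)).trans (F_antitone (by omega))
  · rw [Subgroup.card_map_of_injective H.subtype_injective, hmax.F_card hs2 hs,
      h.F_card (by omega) (by omega)]
    exact Nat.pow_le_pow_right hp.out.pos (by omega)

theorem IsMax.pow_mem_two (h : IsMax G p n) (h3 : 3 ≤ n) {a : G} (ha : a ∈ F G 2) :
    a ^ p ∈ F G (p + 1) := by
  rcases Nat.lt_or_ge n (p + 1) with hn | hn
  · rw [(h.small h3 hn.le).1 a ha]; exact one_mem _
  · exact (h.pow_top hn).2 a ha

/-- `(γ i) ^ p ≤ γ (i + p - 1)`, given a uniform element. -/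
theorem IsMax.pow_mem_of_unif (h : IsMax G p n) {x : G} (hx : Unif G n x) {i : ℕ} (hi : 2 ≤ i)
    {a : G} (ha : a ∈ F G i) : a ^ p ∈ F G (i + p - 1) := by
  have := hp.out.two_le
  rcases Nat.lt_or_ge i n with hin | hin
  swap
  · rw [h.F_bot hin, Subgroup.mem_bot] at ha
    rw [ha, one_pow]; exact one_mem _
  rcases eq_or_lt_of_le hi with rfl | hi3
  · rw [show 2 + p - 1 = p + 1 by omega]
    exact h.pow_mem_two (by omega) ha
  obtain ⟨hH, hF⟩ := Unif.isMax_sup h hx (show 2 ≤ i - 1 by omega) (by omega)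
  set H : Subgroup G := Subgroup.zpowers x ⊔ F G (i - 1) with hHd
  have hai : a ∈ (F H 2).map H.subtype := by
    rw [hF 2 le_rfl (by omega), show i - 1 + 2 - 1 = i by omega]
    exact ha
  obtain ⟨b, hb, rfl⟩ := hai
  have hb2 := hH.pow_mem_two (by omega) hb
  rcases le_or_gt (p + 1) (n - (i - 1) + 1) with hle | hgt
  · have := Subgroup.mem_map_of_mem H.subtype hb2
    rw [hF (p + 1) (by omega) hle, show i - 1 + (p + 1) - 1 = i + p - 1 by omega, map_pow] at this
    exact this
  · rw [hH.F_bot hgt.le, Subgroup.mem_bot] at hb2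
    rw [← map_pow, hb2, map_one]; exact one_mem _

/-- The exact layer of `p`-th powers. -/
theorem IsMax.pow_not_mem_of_unif (h : IsMax G p n) {x a : G} {i : ℕ} (h1 : 1 ≤ i)
    (hin : i + p ≤ n - 1) (hxu : ∀ s : ℕ, Unif G n (x * a ^ s)) (ha : a ∈ F G i)
    (ha' : a ∉ F G (i + 1)) (hax : i = 1 → a ∉ Subgroup.zpowers x ⊔ F G 2) :
    a ^ p ∉ F G (i + p) := by
  have := hp.out.two_le
  have hx : Unif G n x := by simpa using hxu 0
  have hpw : ∀ s : ℕ, (x * a ^ s) ^ p ∈ F G (i + p) := fun s =>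
    F_antitone hin (h.pow_mem_Z (by omega) (hxu s))
  intro hap
  rcases eq_or_lt_of_le h1 with rfl | hi
  · have hE := h.engel (u := x) (v := a) (by omega) fun s _ => by
      rw [Nat.add_comm]; exact hpw s
    rw [Nat.add_comm] at hap
    refine h.eng_not_mem_top (by omega) hx.1 (hax rfl) (show 1 ≤ p - 1 by omega)
      (fun j hj1 hj2 => hx.2 j hj1 (by omega)) ?_
    rw [show p - 1 + 2 = p + 1 by omega]
    simpa using mul_mem hE (inv_mem hap)
  obtain ⟨hH, hF⟩ := Unif.isMax_sup h hx (show 2 ≤ i by omega) (by omega)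
  set H : Subgroup G := Subgroup.zpowers x ⊔ F G i with hHd
  have hmem : ∀ {g : H}, g ∈ F H (p + 1) ↔ (g : G) ∈ F G (i + p) := by
    intro g
    rw [show i + p = i + (p + 1) - 1 by omega, ← hF (p + 1) (by omega) (by omega)]
    exact (Subgroup.mem_map_iff_mem H.subtype_injective).symm
  have hE := hH.engel (by omega) (u := ⟨x, Subgroup.mem_sup_left (Subgroup.mem_zpowers x)⟩)
    (v := ⟨a, Subgroup.mem_sup_right ha⟩) (fun s _ => hmem.2 (by simpa using hpw s))
  rw [hmem, Subgroup.coe_mul, SubgroupClass.coe_pow, ← Subgroup.coe_subtype, map_eng] at hE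
  refine h.eng_not_mem (u := x) (show 2 ≤ i by omega) ha ha' (p - 1)
    (fun j hj1 hj2 => hx.2 j (by omega) (by omega)) ?_
  rw [show i + (p - 1) + 1 = i + p by omega]
  simpa using mul_mem hE (inv_mem hap)

/-- **Blackburn**: for `n ≥ p + 2` all two-step centralizers coincide. -/
theorem IsMax.twoStep_eq_two : ∀ (j : ℕ) {G : Type u} [Group G] [Finite G] {n : ℕ},
    IsMax G p n → p + 2 ≤ n → 2 ≤ j → j + 2 ≤ n → twoStep G j = twoStep G 2 := by
  intro j
  induction j using Nat.strong_induction_on with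
  | _ j ih =>
    intro G _ _ n h hnp h2j hj
    have hp2 := hp.out.two_le
    rcases le_or_gt j p with hjp | hjp
    · exact h.twoStep_eq_base hnp h2j hjp
    -- work modulo `γ (j + 2)`
    set N := F G (j + 2) with hN
    have hq : IsMax (G ⧸ N) p (j + 2) := h.quotient (by omega) hj
    have hlow : ∀ k, 2 ≤ k → k < j → twoStep (G ⧸ N) k = twoStep (G ⧸ N) 2 := fun k hk1 hk2 =>
      ih k hk2 hq (by omega) hk1 (by omega)
    obtain ⟨x, hx2, hxj⟩ : ∃ x, x ∉ twoStep (G ⧸ N) 2 ∧ x ∉ twoStep (G ⧸ N) j := by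
      obtain ⟨a, ha⟩ : ∃ a, a ∉ twoStep (G ⧸ N) 2 := by
        by_contra hh; push Not at hh
        exact hq.twoStep_ne_top (by omega) (by omega) (eq_top_iff.2 fun g _ => hh g)
      obtain ⟨b, hb⟩ : ∃ b, b ∉ twoStep (G ⧸ N) j := by
        by_contra hh; push Not at hh
        exact hq.twoStep_ne_top (by omega) le_rfl (eq_top_iff.2 fun g _ => hh g)
      by_cases haj : a ∈ twoStep (G ⧸ N) j
      swap; · exact ⟨a, ha, haj⟩
      by_cases hb2 : b ∈ twoStep (G ⧸ N) 2
      swap; · exact ⟨b, hb2, hb⟩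
      exact ⟨a * b, fun e => ha (by simpa using mul_mem e (inv_mem hb2)),
        fun e => hb (by simpa using mul_mem (inv_mem haj) e)⟩
    have hxu : Unif (G ⧸ N) (j + 2) x := ⟨fun e => hx2 (F_two_le_twoStep 2 e), fun k hk1 hk2 => by
      rcases (show k ≤ j by omega).eq_or_lt with rfl | hk
      · exact hxj
      · rw [hlow k hk1 hk]; exact hx2⟩
    have hi : 2 ≤ j - p + 1 := by omega
    obtain ⟨i, hidef⟩ : ∃ i, i = j - p + 1 := ⟨_, rfl⟩
    obtain ⟨a, ha, ha'⟩ := hq.exists_mem_not_mem (show 1 ≤ i by omega) (by omega)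
    have hap := hq.pow_mem_of_unif hxu (show 2 ≤ i by omega) ha
    rw [show i + p - 1 = j by omega] at hap
    have hap' : a ^ p ∉ F (G ⧸ N) (j + 1) := by
      have := hq.pow_not_mem_of_unif (x := x) (show 1 ≤ i by omega) (by omega)
        (fun s => hxu.mul_F_two (pow_mem (F_antitone (show 2 ≤ i by omega) ha) s)) ha ha'
        (fun e => absurd e (by omega))
      rwa [show i + p = j + 1 by omega] at this
    have hle : twoStep (G ⧸ N) 2 ≤ twoStep (G ⧸ N) j := by
      intro g hg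
      have hgi : g ∈ twoStep (G ⧸ N) i := by rw [hlow i (by omega) (by omega)]; exact hg
      refine hq.mem_twoStep_of h2j hap hap' ?_
      set c := a⁻¹ * (g * a * g⁻¹) with hc
      have hcF : c ∈ F (G ⧸ N) (i + 2) := by
        rw [show c = a⁻¹ * ⁅g, a⁆ * a⁻¹⁻¹ by rw [hc, commutatorElement_def]; group]
        exact (F_normal _).conj_mem _ (hgi a ha) _
      have hcp : c ^ p = 1 := by
        have := hq.pow_mem_of_unif hxu (by omega) hcF
        rwa [hq.F_bot (by omega), Subgroup.mem_bot] at this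
      have hKbot : (Subgroup.zpowers a ⊔ F (G ⧸ N) (i + 2)).lowerCentralSeries (p - 1) ≤
          (⊥ : Subgroup (G ⧸ N)) := by
        refine (lcs_sup_le (show 1 ≤ i by omega) (by omega) ha (p - 1) (by omega)).trans
          (le_of_eq (hq.F_bot ?_))
        have : (p - 1) * i ≥ (p - 1) * 1 := Nat.mul_le_mul_left _ (by omega)
        omega
      have haK : a ∈ Subgroup.zpowers a ⊔ F (G ⧸ N) (i + 2) :=
        Subgroup.mem_sup_left (Subgroup.mem_zpowers a)
      have := mul_pow_central' hq.isPGroup ⊥ _ hKbot (pow_mem haK p) (fun w hw => by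
          have hwi : w ∈ F (G ⧸ N) i :=
            (sup_le ((Subgroup.zpowers_le).2 ha) (F_antitone (Nat.le_add_right i 2)) :
              Subgroup.zpowers a ⊔ F (G ⧸ N) (i + 2) ≤ F (G ⧸ N) i) hw
          have := F_commutator hwi hap
          rwa [hq.F_bot (show j + 2 ≤ i + j by omega)] at this)
        haK (Subgroup.mem_sup_right hcF : c ∈ _) (i := 1) (j := 0) (by simp) (by simp [hcp])
      rw [Subgroup.mem_bot, add_zero, zpow_one, inv_mul_eq_one, hc, mul_inv_cancel_left,
        conj_pow] at this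
      rw [show ⁅g, a ^ p⁆ = g * a ^ p * g⁻¹ * (a ^ p)⁻¹ from commutatorElement_def _ _, ← this,
        mul_inv_cancel]
      exact one_mem _
    obtain ⟨y, hy, hy2⟩ : ∃ y ∈ twoStep G 2, y ∉ F G 2 := by
      obtain ⟨z, hz⟩ : ∃ z, z ∉ twoStep G 2 := by
        by_contra hh; push Not at hh
        exact h.twoStep_ne_top (by omega) (by omega) (eq_top_iff.2 fun g _ => hh g)
      obtain ⟨w, hw⟩ : ∃ w, w ∉ Subgroup.zpowers z ⊔ F G 2 := by
        by_contra hh; push Not at hh
        have := h.zpowers_sup_card (by omega) (fun e => hz (F_two_le_twoStep 2 e) : z ∉ F G 2)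
        rw [show (Subgroup.zpowers z ⊔ F G 2 : Subgroup G) = ⊤ from eq_top_iff.2 fun g _ => hh g,
          Subgroup.card_top, h.card] at this
        have := Nat.pow_right_injective hp.out.two_le this
        omega
      obtain ⟨k, hk⟩ := h.twoStep_cover le_rfl (by omega) hz w
      exact ⟨_, hk, fun e => hw (by
        have := mul_mem (Subgroup.mem_sup_right e : w * z ^ k ∈ Subgroup.zpowers z ⊔ F G 2)
          (inv_mem (Subgroup.mem_sup_left (pow_mem (Subgroup.mem_zpowers z) k)))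
        simpa using this)⟩
    have hyj : y ∈ twoStep G j := (mk_mem_twoStep_iff le_rfl).1
      (hle ((mk_mem_twoStep_iff (show 2 + 2 ≤ j + 2 by omega)).2 hy))
    rw [h.twoStep_eq (by omega) hj hy2 hyj, h.twoStep_eq (by omega) (by omega) hy2 hy]

theorem IsMax.unif_of_not_mem (h : IsMax G p n) (hnp : p + 2 ≤ n) {x : G} (hx : x ∉ twoStep G 2) :
    Unif G n x :=
  ⟨fun e => hx (F_two_le_twoStep 2 e), fun j h1 h2 => by
    rw [twoStep_eq_two j h hnp h1 h2]; exact hx⟩

theorem IsMax.exists_unif (h : IsMax G p n) (h3 : 3 ≤ n) : ∃ x, Unif G n x := by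
  rcases le_or_gt n (p + 1) with hn | hn
  · obtain ⟨x, _, hx, -⟩ := h.exists_unif_small h3 hn
    exact ⟨x, hx⟩
  · have := hp.out.two_le
    obtain ⟨x, hx⟩ : ∃ x, x ∉ twoStep G 2 := by
      by_contra hh; push Not at hh
      exact h.twoStep_ne_top (by omega) (by omega) (eq_top_iff.2 fun g _ => hh g)
    exact ⟨x, h.unif_of_not_mem hn hx⟩

/-- `(γ i) ^ p ≤ γ (i + p - 1)` for `i ≥ 2`. -/
theorem IsMax.pow_mem (h : IsMax G p n) (h3 : 3 ≤ n) {i : ℕ} (hi : 2 ≤ i) {a : G} (ha : a ∈ F G i) :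
    a ^ p ∈ F G (i + p - 1) := by
  obtain ⟨x, hx⟩ := h.exists_unif h3
  exact h.pow_mem_of_unif hx hi ha

/-- The exact layer: for `n ≥ p + 2`, elements of the common two-step centralizer. -/
theorem IsMax.pow_not_mem (h : IsMax G p n) (hnp : p + 2 ≤ n) {i : ℕ} (hi : 1 ≤ i)
    (hin : i + p ≤ n - 1) {a : G} (ha : a ∈ F G i) (ha' : a ∉ F G (i + 1))
    (hG1 : a ∈ twoStep G 2) : a ^ p ∉ F G (i + p) := by
  obtain ⟨x, hx⟩ := h.exists_unif (by have := hp.out.two_le; omega)
  have hx2 : x ∉ twoStep G 2 := hx.2 2 le_rfl (by have := hp.out.two_le; omega)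
  refine h.pow_not_mem_of_unif (x := x) hi hin (fun s => h.unif_of_not_mem hnp
    fun e => hx2 (by simpa using mul_mem e (inv_mem (_root_.pow_mem hG1 s)))) ha ha' ?_
  intro hi1 hmem
  subst hi1
  have := hp.out.two_le
  have hle : Subgroup.zpowers a ⊔ F G 2 ≤ Subgroup.zpowers x ⊔ F G 2 :=
    sup_le ((Subgroup.zpowers_le).2 hmem) le_sup_right
  have heq := Subgroup.eq_of_le_of_card_ge hle (by
    rw [h.zpowers_sup_card (by omega) ha', h.zpowers_sup_card (by omega) hx.1])
  refine hx2 ((sup_le ((Subgroup.zpowers_le).2 hG1) (F_two_le_twoStep 2) :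
    Subgroup.zpowers a ⊔ F G 2 ≤ twoStep G 2) ?_)
  rw [heq]
  exact Subgroup.mem_sup_left (Subgroup.mem_zpowers x)

end Cfsg.Agent.Solv.MaxC
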