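import Cfsg.Agent.Lib.Solv.MaxCenter
import Cfsg.Agent.Lib.Solv.MaxPower

/-!
# Self-centralising abelian subgroups of order `p³` in groups of maximal class
-/

set_option autoImplicit false
set_option linter.unusedSectionVars false

open scoped commutatorElement

namespace Cfsg.Agent.Solv.MaxC

open PolySeq

universe u

variable {G : Type u} [Group G] [Finite G] {p : ℕ} [hp : Fact p.Prime] {n : ℕ}

theorem IsMax.F_last_card (h : IsMax G p n) (h3 : 3 ≤ n) : Nat.card (F G (n - 1)) = p := by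
  rw [h.F_card (by omega) (Nat.sub_le n 1), show n - (n - 1) = 1 by omega, pow_one]

/-- Such a subgroup with a short normalizer tower forces the order to be small. -/
theorem IsMax.tower_bound (h : IsMax G p n) (h5 : 5 ≤ n) {E : Subgroup G}
    (hC : Subgroup.centralizer (E : Set G) ≤ E) (hab : ∀ a ∈ E, ∀ b ∈ E, a * b = b * a)
    (hcard : Nat.card E = p ^ 3) (hN : Nat.card (Subgroup.normalizer (E : Set G)) = p ^ 4)
    (hNN : Nat.card (Subgroup.normalizer ((Subgroup.normalizer (E : Set G)) : Set G)) ≤ p ^ 5)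
    (hp5 : 5 ≤ p) : n ≤ p + 1 := by
  by_contra hlt
  have hn : p + 2 ≤ n := by omega
  have htw : ∀ j, 2 ≤ j → j + 2 ≤ n → twoStep G j = twoStep G 2 := fun j h2 hj => h.twoStep_eq_two j hn h2 hj
  have hE2 : ∀ e ∈ E, e ∈ twoStep G 2 := by
    intro e he
    by_contra hne
    have hu : Unif G n e := ⟨fun hh => hne (F_two_le_twoStep _ hh), fun j h2 hj => htw j h2 hj ▸ hne⟩
    have h1 : E ≤ Subgroup.centralizer ({e} : Set G) := fun a ha =>
      Subgroup.mem_centralizer_singleton_iff.2 (hab a ha e he)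
    have h2 := (Subgroup.card_le_of_le h1).trans (h.card_centralizer_le (by omega) hu)
    rw [hcard, Nat.pow_le_pow_iff_right hp.out.one_lt] at h2
    omega
  have hZ2 : F G (n - 2) ≤ E := fun z hz => hC (Subgroup.mem_centralizer_iff.2 fun a ha => by
    have h1 : a ∈ twoStep G (n - 2) := (htw (n - 2) (by omega) (by omega)).symm ▸ hE2 a ha
    rw [(h.twoStep_last (by omega)).1, Subgroup.mem_centralizer_iff] at h1
    exact (h1 z hz).symm)
  have hF : F G (n - 4) ≤ Subgroup.normalizer (E : Set G) := by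
    intro f hf
    refine Subgroup.mem_normalizer_fintype fun a ha => ?_
    have h1 : a ∈ twoStep G (n - 4) := (htw (n - 4) (by omega) (by omega)).symm ▸ hE2 a ha
    have h2 : ⁅a, f⁆ ∈ E := hZ2 (F_antitone (by omega) (mem_twoStep.1 h1 f hf))
    have : f * a * f⁻¹ = ⁅a, f⁆⁻¹ * a := by rw [commutatorElement_def]; group
    rw [this]
    exact E.mul_mem (E.inv_mem h2) ha
  have hEq : F G (n - 4) = Subgroup.normalizer (E : Set G) := Subgroup.eq_of_le_of_card_ge hF (by
    rw [hN, h.F_card (by omega) (Nat.sub_le n 4), show n - (n - 4) = 4 by omega])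
  rw [← hEq, Subgroup.normalizer_eq_top, Subgroup.card_top, h.card,
    Nat.pow_le_pow_iff_right hp.out.one_lt] at hNN
  omega

/-- The data at the top of the tower in the exceptional case. -/
structure Exc (G : Type u) [Group G] (p : ℕ) (k : ℕ) (E Z₀ N P₁ : Subgroup G) (c e g : G) : Prop where
  centralizer : Subgroup.centralizer (E : Set G) ≤ E
  comm : ∀ a ∈ E, ∀ b ∈ E, a * b = b * a
  cardE : Nat.card E = p ^ 3
  leN : E ≤ N
  normal : N = Subgroup.normalizer (E : Set G)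
  cardN : Nat.card N = p ^ 4
  commN : ∀ x ∈ N, ∀ a ∈ E, ⁅x, a⁆ ∈ Subgroup.zpowers c
  cardc : orderOf c = p
  leE : Z₀ ≤ E
  cardZ : Nat.card Z₀ = p ^ 2
  centN : ∀ x ∈ N, ∀ z ∈ Z₀, x * z = z * x
  fixN : ∀ a ∈ E, (∀ x ∈ N, x * a = a * x) → a ∈ Z₀
  mem_e : e ∈ E
  gen : E ≤ Subgroup.zpowers e ⊔ Z₀
  move : ∃ z ∈ Z₀, g * z ≠ z * g
  cardP : Nat.card P₁ = p ^ (k + 4)
  memP : g ∈ P₁ ∧ e ∈ P₁
  pos : 1 ≤ k
  chain : (fun a => ⁅a, e⁆)^[k] ⁅g, e⁆ ∈ Subgroup.zpowers c ∧ (fun a => ⁅a, e⁆)^[k] ⁅g, e⁆ ≠ 1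

theorem mem_of_zpowers_prime {c x : G} (hc : orderOf c = p) {H : Subgroup G} (hx : x ∈ Subgroup.zpowers c)
    (hx1 : x ≠ 1) (hxH : x ∈ H) : c ∈ H := by
  have h : Subgroup.zpowers x = Subgroup.zpowers c := by
    refine Subgroup.eq_of_le_of_card_ge (Subgroup.zpowers_le.2 hx) ?_
    rw [Nat.card_zpowers, Nat.card_zpowers, hc]
    have hd : orderOf x ∣ p := by
      have := orderOf_dvd_natCard (⟨x, hx⟩ : Subgroup.zpowers c)
      rwa [Nat.card_zpowers, hc, Subgroup.orderOf_mk] at this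
    rcases (Nat.dvd_prime hp.out).1 hd with h | h
    · exact absurd (orderOf_eq_one_iff.1 h) hx1
    · exact h.ge
  exact Subgroup.zpowers_le.2 hxH (h ▸ Subgroup.mem_zpowers c)

/-- In the exceptional case the exponent `n` is `k + 4` and is even. -/
theorem IsMax.exc (h : IsMax G p n) (h5 : 5 ≤ n) {k : ℕ} {E Z₀ N P₁ : Subgroup G} {c e g : G}
    (hd : Exc G p k E Z₀ N P₁ c e g) (hc : c ∉ Subgroup.center G) : n = k + 4 ∧ Even n := by
  have hp' := hp.out
  have hcen := h.center_eq (by omega)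
  have hF1 : ∀ x ∈ Subgroup.zpowers c, x ∈ F G (n - 1) → x = 1 := by
    intro x hx hxF
    by_contra hne
    exact hc (hcen ▸ mem_of_zpowers_prime hd.cardc hx hne hxF)
  have hcm : ∀ z ∈ F G (n - 2), ∀ a : G, ⁅z, a⁆ ∈ F G (n - 1) := by
    intro z hz a
    have := F_commutator hz (show a ∈ F G 1 from Subgroup.mem_top a)
    rwa [show n - 2 + 1 = n - 1 by omega] at this
  have hZE : F G (n - 1) ≤ E := fun z hz => hd.centralizer (Subgroup.mem_centralizer_iff.2 fun a _ =>
    Subgroup.mem_center_iff.1 (hcen ▸ hz) a)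
  -- `Z₀` is the second centre
  have hZ2 : F G (n - 2) = Z₀ := by
    refine Subgroup.eq_of_le_of_card_ge (fun z hz => ?_) ?_
    · have hzE : z ∈ E := by
        by_contra hzE
        have hzN : z ∈ N := by
          rw [hd.normal]
          refine Subgroup.mem_normalizer_fintype fun a ha => ?_
          rw [show z * a * z⁻¹ = ⁅z, a⁆ * a by rw [commutatorElement_def]; group]
          exact E.mul_mem (hZE (hcm z hz a)) ha
        refine hzE (hd.centralizer (Subgroup.mem_centralizer_iff.2 fun a ha => ?_))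
        exact (commutatorElement_eq_one_iff_mul_comm.1 (hF1 _ (hd.commN z hzN a ha) (hcm z hz a))).symm
      refine hd.fixN z hzE fun x hx => commutatorElement_eq_one_iff_mul_comm.1 (hF1 _ (hd.commN x hx z hzE) ?_)
      rw [← commutatorElement_inv]
      exact (F G (n - 1)).inv_mem (hcm z hz x)
    · rw [hd.cardZ, h.F_card (by omega) (Nat.sub_le n 2), show n - (n - 2) = 2 by omega]
  obtain ⟨hTc, hTcard⟩ := h.twoStep_last (by omega)
  set T := twoStep G (n - 2) with hT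
  have hET : ∀ a ∈ E, a ∈ T := fun a ha => by
    rw [hTc, Subgroup.mem_centralizer_iff]
    exact fun z hz => hd.comm z (hd.leE (hZ2 ▸ hz)) a ha
  have hgT : g ∉ T := by
    rw [hTc, Subgroup.mem_centralizer_iff]
    intro hh
    obtain ⟨z, hz, hne⟩ := hd.move
    exact hne (hh z (hZ2.symm ▸ hz)).symm
  -- `F (n-3)` normalises `E`
  have hF3 : F G (n - 3) ≤ N := by
    intro f hf
    rw [hd.normal]
    refine Subgroup.mem_normalizer_fintype fun a ha => ?_
    rw [show f * a * f⁻¹ = ⁅f, a⁆ * a by rw [commutatorElement_def]; group]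
    refine E.mul_mem (hd.leE (hZ2 ▸ ?_)) ha
    have := F_commutator hf (show a ∈ F G 1 from Subgroup.mem_top a)
    rwa [show n - 3 + 1 = n - 2 by omega] at this
  have he2 : e ∉ F G 2 := by
    intro he
    have hle : F G (n - 3) ≤ E := by
      intro f hf
      refine hd.centralizer (Subgroup.mem_centralizer_iff.2 ?_)
      have h1 : ⁅e, f⁆ ∈ F G (n - 1) := by
        have := F_commutator he hf
        rwa [show 2 + (n - 3) = n - 1 by omega] at this
      have h2 : ⁅f, e⁆ = 1 := hF1 _ (hd.commN f (hF3 hf) e hd.mem_e) (by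
        rw [← commutatorElement_inv]; exact (F G (n - 1)).inv_mem h1)
      have hle : Subgroup.zpowers e ⊔ Z₀ ≤ Subgroup.centralizer ({f} : Set G) := by
        refine sup_le (Subgroup.zpowers_le.2 ?_) fun z hz => ?_
        · exact Subgroup.mem_centralizer_singleton_iff.2 (commutatorElement_eq_one_iff_mul_comm.1 h2).symm
        · exact Subgroup.mem_centralizer_singleton_iff.2 (hd.centN f (hF3 hf) z hz).symm
      exact fun a ha => Subgroup.mem_centralizer_singleton_iff.1 (hle (hd.gen ha))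
    have heq : F G (n - 3) = E := Subgroup.eq_of_le_of_card_ge hle (by
      rw [hd.cardE, h.F_card (by omega) (Nat.sub_le n 3), show n - (n - 3) = 3 by omega])
    have := hd.cardN
    rw [hd.normal, ← heq, Subgroup.normalizer_eq_top, Subgroup.card_top, h.card] at this
    have := Nat.pow_right_injective hp'.two_le this
    omega
  -- `g` and `e` generate
  have heT : e ∈ T := hET e hd.mem_e
  have hgy : g ∉ Subgroup.zpowers e ⊔ F G 2 := fun hh =>
    hgT (sup_le (Subgroup.zpowers_le.2 heT) (F_two_le_twoStep _) hh)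
  have htop : P₁ = ⊤ := by
    haveI := h.isPGroup.isNilpotent
    have hFr : F G 2 ≤ frattini G := by
      rw [show F G 2 = commutator G from rfl]; exact commutator_le_frattini_pgroup h.isPGroup
    have h1 : (Subgroup.zpowers g ⊔ Subgroup.zpowers e) ⊔ F G 2 = ⊤ := by
      rw [sup_assoc]; exact h.gen_top he2 hgy
    have h2 : Subgroup.zpowers g ⊔ Subgroup.zpowers e = ⊤ :=
      frattini_nongenerating (eq_top_iff.2 (h1.symm.trans_le (sup_le_sup_left hFr _)))
    exact eq_top_iff.2 (h2.symm.trans_le (sup_le (Subgroup.zpowers_le.2 hd.memP.1) (Subgroup.zpowers_le.2 hd.memP.2)))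
  have hnk : n = k + 4 := by
    have := hd.cardP
    rw [htop, Subgroup.card_top, h.card] at this
    exact Nat.pow_right_injective hp'.two_le this
  refine ⟨hnk, ?_⟩
  by_contra hodd
  rw [Nat.not_even_iff_odd] at hodd
  obtain ⟨m, hm⟩ := hodd
  -- the sequence `a i`
  obtain ⟨a, ha⟩ : ∃ a : ℕ → G, ∀ i, a i = (fun x => ⁅x, e⁆)^[i] ⁅g, e⁆ := ⟨_, fun i => rfl⟩
  have hA : ∀ i, a (i + 1) = ⁅a i, e⁆ := fun i => by rw [ha, ha, Function.iterate_succ_apply']
  have haF : ∀ i, a i ∈ F G (i + 2) := by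
    intro i
    induction i with
    | zero =>
      rw [ha]
      exact F_commutator (a := 1) (b := 1) (Subgroup.mem_top g) (Subgroup.mem_top e)
    | succ i ih =>
      rw [hA]
      exact F_commutator (b := 1) ih (Subgroup.mem_top e)
  have hcentral : ∀ x ∈ F G (n - 1), ∀ y : G, y * x = x * y := fun x hx y =>
    Subgroup.mem_center_iff.1 (hcen ▸ hx) y
  have hcT : ∀ x ∈ F G (n - 2), ∀ y ∈ T, x * y = y * x := fun x hx y hy =>
    Subgroup.mem_centralizer_iff.1 (hTc ▸ hy) x hx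
  have hFT : ∀ i, a i ∈ T := fun i => F_two_le_twoStep _ (F_antitone (by omega) (haF i))
  -- the alternating relation
  have hrel : ∀ i j, i + j + 6 = n → ⁅a (i + 1), a j⁆ * ⁅a i, a (j + 1)⁆ = 1 := by
    intro i j hij
    obtain ⟨q, hq⟩ : ∃ q, q = ⁅a i, a j⁆ := ⟨_, rfl⟩
    have hqF : q ∈ F G (n - 2) := by
      rw [hq]; have := F_commutator (haF i) (haF j); rwa [show i + 2 + (j + 2) = n - 2 by omega] at this
    have hσ : ∀ l, e * a l * e⁻¹ = (a (l + 1))⁻¹ * a l := fun l => by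
      rw [hA, commutatorElement_def]; group
    have h1 : ⁅(a (i + 1))⁻¹ * a i, (a (j + 1))⁻¹ * a j⁆ = q := by
      rw [← hσ, ← hσ, show ⁅e * a i * e⁻¹, e * a j * e⁻¹⁆ = e * q * e⁻¹ by
        rw [hq, commutatorElement_def, commutatorElement_def]; group, ← hcT q hqF e heT, mul_inv_cancel_right]
    have hz : ∀ u v, u ∈ F G (i + 3) → v ∈ F G (j + 2) → ⁅u, v⁆ ∈ F G (n - 1) := fun u v hu hv => by
      have := F_commutator hu hv; rwa [show i + 3 + (j + 2) = n - 1 by omega] at this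
    have hz' : ∀ u v, u ∈ F G (i + 2) → v ∈ F G (j + 3) → ⁅u, v⁆ ∈ F G (n - 1) := fun u v hu hv => by
      have := F_commutator hu hv; rwa [show i + 2 + (j + 3) = n - 1 by omega] at this
    obtain ⟨A, hAd⟩ : ∃ A, A = a (i + 1) := ⟨_, rfl⟩
    obtain ⟨B, hBd⟩ : ∃ B, B = a (j + 1) := ⟨_, rfl⟩
    have hAF : A ∈ F G (i + 3) := hAd ▸ haF (i + 1)
    have hBF : B ∈ F G (j + 3) := hBd ▸ haF (j + 1)
    have hAB : ⁅A⁻¹, B⁻¹⁆ = 1 := by
      have := F_commutator ((F G (i + 3)).inv_mem hAF) ((F G (j + 3)).inv_mem hBF)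
      rwa [h.F_bot (by omega), Subgroup.mem_bot] at this
    have hx : ⁅A⁻¹, a j⁆ = ⁅A, a j⁆⁻¹ := by
      have hc1 := hcentral _ (hz A _ hAF (haF j)) A⁻¹
      calc ⁅A⁻¹, a j⁆ = A⁻¹ * ⁅A, a j⁆⁻¹ * A := by rw [commutatorElement_def, commutatorElement_def]; group
        _ = _ := by
          rw [← hcentral _ ((F G (n - 1)).inv_mem (hz A _ hAF (haF j))) A⁻¹ |>.symm]; group
    have hy : ⁅a i, B⁻¹⁆ = ⁅a i, B⁆⁻¹ := by
      calc ⁅a i, B⁻¹⁆ = B⁻¹ * ⁅a i, B⁆⁻¹ * B := by rw [commutatorElement_def, commutatorElement_def]; group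
        _ = _ := by rw [hcentral _ ((F G (n - 1)).inv_mem (hz' _ B (haF i) hBF)) B⁻¹]; group
    rw [← hAd, ← hBd] at h1 ⊢
    have hconjA : A⁻¹ * q * A = q := by rw [mul_assoc, hcT q hqF A (hAd ▸ hFT (i + 1))]; group
    have hconjB : B⁻¹ * q * B = q := by rw [mul_assoc, hcT q hqF B (hBd ▸ hFT (j + 1))]; group
    have hexp : ⁅A⁻¹ * a i, B⁻¹ * a j⁆ =
        A⁻¹ * (⁅a i, B⁻¹⁆ * (B⁻¹ * q * B)) * A * (⁅A⁻¹, B⁻¹⁆ * (B⁻¹ * ⁅A⁻¹, a j⁆ * B)) := by
      rw [hq]; simp only [commutatorElement_def]; group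
    rw [hAB, one_mul, hconjB, hx, hy, hcentral _ ((F G (n - 1)).inv_mem (hz A _ hAF (haF j))) B⁻¹,
      inv_mul_cancel_right, hcentral _ ((F G (n - 1)).inv_mem (hz' _ B (haF i) hBF)) A⁻¹ |> fun e2 => show
        A⁻¹ * (⁅a i, B⁆⁻¹ * q) * A = ⁅a i, B⁆⁻¹ * (A⁻¹ * q * A) by
          rw [← mul_assoc, e2]; group, hconjA, h1] at hexp
    have h3 : ⁅a i, B⁆⁻¹ * ⁅A, a j⁆⁻¹ = 1 := by
      have h4 := hcentral _ ((F G (n - 1)).inv_mem (hz A _ hAF (haF j))) q
      rw [mul_assoc, h4, ← mul_assoc] at hexp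
      exact mul_eq_right.1 hexp.symm
    have h5 : (⁅A, a j⁆ * ⁅a i, B⁆)⁻¹ = 1 := by rw [mul_inv_rev]; exact h3
    exact inv_eq_one.1 h5
  -- the top pairing
  have hw : a k ∈ Subgroup.zpowers c ∧ a k ≠ 1 := by rw [ha]; exact hd.chain
  have hwF : a k ∈ F G (n - 2) := by
    have := haF k; rwa [show k + 2 = n - 2 by omega] at this
  obtain ⟨z0, hz0⟩ : ∃ z0, z0 = ⁅g, a k⁆ := ⟨_, rfl⟩
  have hz01 : z0 ≠ 1 := by
    intro hh
    rw [hz0, commutatorElement_eq_one_iff_mul_comm] at hh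
    obtain ⟨z, hz, hne⟩ := hd.move
    have hzF : z ∈ F G (n - 2) := hZ2.symm ▸ hz
    have hwn : a k ∉ F G (n - 2 + 1) := fun hh' => hw.2 (hF1 _ hw.1 (by
      rwa [show n - 2 + 1 = n - 1 by omega] at hh'))
    rw [h.F_gen (by omega) hwF hwn] at hzF
    have hle : Subgroup.zpowers (a k) ⊔ F G (n - 2 + 1) ≤ Subgroup.centralizer ({g} : Set G) := by
      refine sup_le (Subgroup.zpowers_le.2 (Subgroup.mem_centralizer_singleton_iff.2 hh.symm)) fun x hx => ?_
      rw [show n - 2 + 1 = n - 1 by omega] at hx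
      exact Subgroup.mem_centralizer_singleton_iff.2 (hcentral x hx g).symm
    exact hne (Subgroup.mem_centralizer_singleton_iff.1 (hle hzF)).symm
  have hk1 : k - 1 + 1 = k := by have := hd.pos; omega
  obtain ⟨b, hb⟩ : ∃ b, b = a (k - 1) := ⟨_, rfl⟩
  have hbw : ⁅b, e⁆ = a k := by rw [hb, ← hA, hk1]
  have hbF : b ∈ F G (n - 3) := by
    rw [hb]; have := haF (k - 1); rwa [show k - 1 + 2 = n - 3 by omega] at this
  have hB2 : ⁅b, a 0⁆ = z0 := by
    obtain ⟨v, hv⟩ : ∃ v, v = ⁅g, b⁆ := ⟨_, rfl⟩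
    have hvF : v ∈ F G (n - 2) := by
      rw [hv]
      have := F_commutator (show g ∈ F G 1 from Subgroup.mem_top g) hbF
      rwa [show 1 + (n - 3) = n - 2 by omega] at this
    have hbT : b ∈ T := hb ▸ hFT (k - 1)
    have h0 : a 0 = ⁅g, e⁆ := by rw [ha]; rfl
    have h1 : ⁅g * b * g⁻¹, g * e * g⁻¹⁆ = g * a k * g⁻¹ := by
      rw [← hbw, commutatorElement_def, commutatorElement_def]; group
    rw [show g * b * g⁻¹ = v * b by rw [hv, commutatorElement_def]; group,
      show g * e * g⁻¹ = a 0 * e by rw [h0, commutatorElement_def]; group,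
      show g * a k * g⁻¹ = z0 * a k by rw [hz0, commutatorElement_def]; group] at h1
    have h2 : ⁅v * b, a 0 * e⁆ = v * ⁅b, a 0⁆ * a 0 * ⁅b, e⁆ * (a 0)⁻¹ * v⁻¹ * ⁅v, a 0 * e⁆ := by
      simp only [commutatorElement_def]; group
    have h3 : ⁅v, a 0 * e⁆ = 1 := commutatorElement_eq_one_iff_mul_comm.2
      (hcT v hvF _ (T.mul_mem (hFT 0) heT))
    have hz' : ⁅b, a 0⁆ ∈ F G (n - 1) := by
      have := F_commutator hbF (haF 0); rwa [show n - 3 + (0 + 2) = n - 1 by omega] at this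
    rw [h2, h3, mul_one, hbw, hcentral _ hz' v] at h1
    have h4 : a 0 * a k * (a 0)⁻¹ = a k := by rw [← hcT _ hwF _ (hFT 0), mul_inv_cancel_right]
    have h5 : v * a k * v⁻¹ = a k := by
      rw [hcT _ hwF v (hTc ▸ Subgroup.mem_centralizer_iff.2 fun y hy => ?_) |>.symm, mul_inv_cancel_right]
      exact hd.comm y (hd.leE (hZ2 ▸ hy)) v (hd.leE (hZ2 ▸ hvF))
    have h6 : ⁅b, a 0⁆ * (v * (a 0 * a k * (a 0)⁻¹) * v⁻¹) = z0 * a k := by rw [← h1]; group
    rw [h4, h5] at h6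
    exact mul_right_cancel h6
  -- the middle
  have hB : ∀ i, i + 2 ≤ m → ⁅a i, a (n - 5 - i)⁆ = 1 → ⁅a 0, a (n - 5)⁆ = 1 := by
    intro i
    induction i with
    | zero => intro _ hh; simpa using hh
    | succ i ih =>
      intro hi hh
      refine ih (by omega) ?_
      have := hrel i (n - 6 - i) (by omega)
      rw [show n - 5 - (i + 1) = n - 6 - i by omega] at hh
      rw [hh, one_mul, show n - 6 - i + 1 = n - 5 - i by omega] at this
      exact this
  have hmid : ⁅a (m - 2), a (n - 5 - (m - 2))⁆ = 1 := by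
    rw [show n - 5 - (m - 2) = m - 2 by omega, commutatorElement_self]
  have := hB (m - 2) (by omega) hmid
  rw [show n - 5 = k - 1 by omega, ← hb, ← commutatorElement_inv, hB2, inv_eq_one] at this
  exact hz01 this

end Cfsg.Agent.Solv.MaxC
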