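import Cfsg.Agent.Lib.Solv.MaxTwoStep

/-!
# Centre, second centre and the centralizer of the second centre in maximal class
-/

set_option autoImplicit false
set_option linter.style.haveILetI false
set_option linter.unusedSectionVars false

open scoped commutatorElement

namespace Cfsg.Agent.Solv.MaxC

open PolySeq

universe u

variable {G : Type u} [Group G] [Finite G] {p : ℕ} [hp : Fact p.Prime] {n : ℕ}

theorem IsMax.exists_not_mem_sup (h : IsMax G p n) (h3 : 3 ≤ n) {x : G} (hx : x ∉ F G 2) :
    ∃ w, w ∉ Subgroup.zpowers x ⊔ F G 2 := by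
  by_contra hh
  push Not at hh
  have := h.zpowers_sup_card h3 hx
  rw [show (Subgroup.zpowers x ⊔ F G 2 : Subgroup G) = ⊤ from eq_top_iff.2 fun g _ => hh g,
    Subgroup.card_top, h.card] at this
  have := Nat.pow_right_injective hp.out.two_le this
  omega

/-- An element whose commutators all lie deep down lies deep down. -/
theorem IsMax.mem_of_comm_le (h : IsMax G p n) (h3 : 3 ≤ n) {m : ℕ} (hm : m ≤ n) {g : G}
    (hg : ∀ b : G, ⁅b, g⁆ ∈ F G m) : g ∈ F G (m - 1) := by
  suffices ∀ k, k + 1 ≤ m → g ∈ F G k by
    rcases Nat.eq_zero_or_pos m with rfl | hm0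
    · exact Subgroup.mem_top g
    · exact this (m - 1) (by omega)
  intro k
  induction k with
  | zero => intro _; exact Subgroup.mem_top g
  | succ k ih =>
    intro hk
    have hgk := ih (by omega)
    rcases Nat.eq_zero_or_pos k with rfl | hk0
    · exact Subgroup.mem_top g
    by_contra hg'
    rcases eq_or_lt_of_le (show 1 ≤ k from hk0) with rfl | hk2
    · obtain ⟨w, hw⟩ := h.exists_not_mem_sup h3 hg'
      refine (h.comm_gen h3 hg' hw).2 (F_antitone (show 3 ≤ m by omega) ?_)
      rw [← commutatorElement_inv]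
      exact inv_mem (hg w)
    · refine h.twoStep_ne_top (j := k) (by omega) (by omega) (eq_top_iff.2 fun b _ => ?_)
      exact h.mem_twoStep_of hk2 hgk hg' (F_antitone (by omega) (hg b))

theorem IsMax.center_eq (h : IsMax G p n) (h3 : 3 ≤ n) : Subgroup.center G = F G (n - 1) := by
  refine le_antisymm (fun g hg => h.mem_of_comm_le h3 le_rfl fun b => ?_) fun g hg =>
    Subgroup.mem_center_iff.2 fun b => h.F_pred_central hg b
  rw [h.F_bot le_rfl, Subgroup.mem_bot, commutatorElement_eq_one_iff_mul_comm]
  exact Subgroup.mem_center_iff.1 hg b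

theorem IsMax.ucs_two (h : IsMax G p n) (h4 : 4 ≤ n) :
    Subgroup.upperCentralSeries G 2 = F G (n - 2) := by
  ext g
  rw [show (2 : ℕ) = 1 + 1 from rfl, Subgroup.mem_upperCentralSeries_succ_iff,
    Subgroup.upperCentralSeries_one, h.center_eq (by omega)]
  constructor
  · intro hg
    have := h.mem_of_comm_le (by omega) (m := n - 1) (Nat.sub_le n 1) (g := g) fun b => by
      rw [← commutatorElement_inv]
      refine inv_mem ?_
      have hb := hg b
      simpa [commutatorElement_def] using hb
    rwa [show n - 1 - 1 = n - 2 by omega] at this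
  · intro hg b
    have := F_commutator hg (show b ∈ F G 1 from Subgroup.mem_top b)
    rw [show n - 2 + 1 = n - 1 by omega] at this
    simpa [commutatorElement_def] using this

/-- The centralizer of the second centre has index `p`. -/
theorem IsMax.twoStep_last (h : IsMax G p n) (h4 : 4 ≤ n) :
    twoStep G (n - 2) = Subgroup.centralizer (F G (n - 2) : Set G) ∧
      Nat.card (twoStep G (n - 2)) = p ^ (n - 1) := by
  have hbot : F G (n - 2 + 2) = ⊥ := h.F_bot (by omega)
  refine ⟨?_, ?_⟩
  · ext g
    rw [mem_twoStep, Subgroup.mem_centralizer_iff]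
    constructor
    · intro hg a ha
      have := hg a ha
      rw [hbot, Subgroup.mem_bot, commutatorElement_eq_one_iff_mul_comm] at this
      exact this.symm
    · intro hg a ha
      rw [hbot, Subgroup.mem_bot, commutatorElement_eq_one_iff_mul_comm]
      exact (hg a ha).symm
  obtain ⟨g₀, hg₀⟩ : ∃ g, g ∉ twoStep G (n - 2) := by
    by_contra hh; push Not at hh
    exact h.twoStep_ne_top (by omega) (by omega) (eq_top_iff.2 fun g _ => hh g)
  have hg2 : g₀ ∉ F G 2 := fun e => hg₀ (F_two_le_twoStep _ e)
  obtain ⟨w, hw⟩ := h.exists_not_mem_sup (by omega) hg2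
  obtain ⟨k, hk⟩ := h.twoStep_cover (by omega) (by omega) hg₀ w
  have hy : w * g₀ ^ k ∉ F G 2 := fun e => hw (by
    have := mul_mem (Subgroup.mem_sup_right e : w * g₀ ^ k ∈ Subgroup.zpowers g₀ ⊔ F G 2)
      (inv_mem (Subgroup.mem_sup_left (pow_mem (Subgroup.mem_zpowers g₀) k)))
    simpa using this)
  rw [h.twoStep_eq (by omega) (by omega) hy hk, h.zpowers_sup_card (by omega) hy]

end Cfsg.Agent.Solv.MaxC
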