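import Cfsg.Agent.Lib.Solv.MaxBasics

/-!
# Two-step centralizers and uniform elements
-/

set_option autoImplicit false
set_option linter.style.haveILetI false
set_option linter.unusedSectionVars false

open scoped commutatorElement

namespace Cfsg.Agent.Solv.MaxC

open PolySeq

universe u

variable {G : Type u} [Group G] [Finite G] {p : ℕ} [hp : Fact p.Prime] {n : ℕ}

/-- The centralizer of `γ j / γ (j + 2)`. -/
def twoStep (G : Type*) [Group G] (j : ℕ) : Subgroup G where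
  carrier := {g | ∀ a ∈ F G j, ⁅g, a⁆ ∈ F G (j + 2)}
  one_mem' := fun a _ => by simp [commutatorElement_one_left, Subgroup.one_mem]
  mul_mem' := by
    intro g h hg hh a ha
    rw [show ⁅g * h, a⁆ = g * ⁅h, a⁆ * g⁻¹ * ⁅g, a⁆ by simp only [commutatorElement_def]; group]
    exact mul_mem ((F_normal _).conj_mem _ (hh a ha) g) (hg a ha)
  inv_mem' := by
    intro g hg a ha
    rw [show ⁅g⁻¹, a⁆ = g⁻¹ * ⁅g, a⁆⁻¹ * g⁻¹⁻¹ by simp only [commutatorElement_def]; group]
    exact (F_normal _).conj_mem _ (inv_mem (hg a ha)) _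

theorem mem_twoStep {g : G} {j : ℕ} :
    g ∈ twoStep G j ↔ ∀ a ∈ F G j, ⁅g, a⁆ ∈ F G (j + 2) := Iff.rfl

theorem F_two_le_twoStep (j : ℕ) : F G 2 ≤ twoStep G j := fun g hg a ha => by
  have := F_commutator hg ha
  rwa [Nat.add_comm 2 j] at this

theorem twoStep_normal (j : ℕ) : (twoStep G j).Normal := by
  refine ⟨fun g hg x a ha => ?_⟩
  rw [show ⁅x * g * x⁻¹, a⁆ = x * ⁅g, x⁻¹ * a * x⁻¹⁻¹⁆ * x⁻¹ by
    simp only [commutatorElement_def]; group]
  exact (F_normal _).conj_mem _ (hg _ ((F_normal _).conj_mem _ ha _)) x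

theorem IsMax.twoStep_ne_top (h : IsMax G p n) {j : ℕ} (h1 : 1 ≤ j) (hj : j + 2 ≤ n) :
    twoStep G j ≠ ⊤ := fun he => by
  have h2 : F G (j + 1) ≤ F G (j + 2) := by
    rw [F_comm_top h1, Subgroup.commutator_le]
    intro a ha g _
    have := inv_mem ((he ▸ Subgroup.mem_top g : g ∈ twoStep G j) a ha)
    rwa [commutatorElement_inv] at this
  exact absurd h2 (not_le_of_gt (h.F_lt (k := j + 1) (by omega) (by omega)))

/-- A single generator suffices. -/
theorem IsMax.mem_twoStep_of (h : IsMax G p n) {j : ℕ} (h2 : 2 ≤ j) {g a : G} (ha : a ∈ F G j)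
    (ha' : a ∉ F G (j + 1)) (hc : ⁅g, a⁆ ∈ F G (j + 2)) : g ∈ twoStep G j := by
  intro b hb
  let K : Subgroup G :=
  { carrier := {b | ⁅g, b⁆ ∈ F G (j + 2)}
    one_mem' := by simp [Subgroup.one_mem]
    mul_mem' := by
      intro b c hb hc
      show ⁅g, b * c⁆ ∈ F G (j + 2)
      rw [show ⁅g, b * c⁆ = ⁅g, b⁆ * (b * ⁅g, c⁆ * b⁻¹) by simp only [commutatorElement_def]; group]
      exact mul_mem hb ((F_normal _).conj_mem _ hc b)
    inv_mem' := by
      intro b hb
      show ⁅g, b⁻¹⁆ ∈ F G (j + 2)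
      rw [show ⁅g, b⁻¹⁆ = b⁻¹ * ⁅g, b⁆⁻¹ * b⁻¹⁻¹ by simp only [commutatorElement_def]; group]
      exact (F_normal _).conj_mem _ (inv_mem hb) _ }
  have hle : Subgroup.zpowers a ⊔ F G (j + 1) ≤ K := sup_le ((Subgroup.zpowers_le).2 hc) fun c hc' => by
    have := F_commutator (show g ∈ F G 1 from Subgroup.mem_top g) hc'
    rwa [Nat.add_comm 1 (j + 1)] at this
  exact hle (h.F_gen h2 ha ha' ▸ hb)

theorem IsMax.comm_not_mem (h : IsMax G p n) {j : ℕ} (h2 : 2 ≤ j) {g a : G} (hg : g ∉ twoStep G j)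
    (ha : a ∈ F G j) (ha' : a ∉ F G (j + 1)) : ⁅g, a⁆ ∈ F G (j + 1) ∧ ⁅g, a⁆ ∉ F G (j + 2) := by
  refine ⟨?_, fun hc => hg (h.mem_twoStep_of h2 ha ha' hc)⟩
  have := F_commutator (show g ∈ F G 1 from Subgroup.mem_top g) ha
  rwa [Nat.add_comm 1 j] at this

/-- Two independent elements do not commute modulo `γ 3`. -/
theorem IsMax.comm_gen (h : IsMax G p n) (h3 : 3 ≤ n) {x y : G} (hx : x ∉ F G 2)
    (hy : y ∉ Subgroup.zpowers x ⊔ F G 2) : ⁅x, y⁆ ∈ F G 2 ∧ ⁅x, y⁆ ∉ F G 3 := by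
  refine ⟨F_commutator (show x ∈ F G 1 from Subgroup.mem_top x)
    (show y ∈ F G 1 from Subgroup.mem_top y), fun hc => ?_⟩
  have key : ∀ u v : G, ⁅u, v⁆ ∈ F G 3 → Subgroup.zpowers v ⊔ (Subgroup.zpowers u ⊔ F G 2) = ⊤ →
      u ∈ twoStep G 1 := by
    intro u v huv htop b _
    let K : Subgroup G :=
    { carrier := {b | ⁅u, b⁆ ∈ F G 3}
      one_mem' := by simp [Subgroup.one_mem]
      mul_mem' := by
        intro b c hb hc
        show ⁅u, b * c⁆ ∈ F G 3
        rw [show ⁅u, b * c⁆ = ⁅u, b⁆ * (b * ⁅u, c⁆ * b⁻¹) by simp only [commutatorElement_def]; group]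
        exact mul_mem hb ((F_normal _).conj_mem _ hc b)
      inv_mem' := by
        intro b hb
        show ⁅u, b⁻¹⁆ ∈ F G 3
        rw [show ⁅u, b⁻¹⁆ = b⁻¹ * ⁅u, b⁆⁻¹ * b⁻¹⁻¹ by simp only [commutatorElement_def]; group]
        exact (F_normal _).conj_mem _ (inv_mem hb) _ }
    have hle : Subgroup.zpowers v ⊔ (Subgroup.zpowers u ⊔ F G 2) ≤ K :=
      sup_le ((Subgroup.zpowers_le).2 huv) (sup_le ((Subgroup.zpowers_le).2 (by
        show ⁅u, u⁆ ∈ F G 3
        simp [commutatorElement_self, Subgroup.one_mem]))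
        fun c hc' => F_commutator (show u ∈ F G 1 from Subgroup.mem_top u) hc')
    exact hle (htop ▸ Subgroup.mem_top b)
  have ht := h.gen_top hx hy
  have h1 : x ∈ twoStep G 1 := key x y hc ht
  have h2 : y ∈ twoStep G 1 := key y x (by rw [← commutatorElement_inv]; exact inv_mem hc) (by
    rw [← ht]; ac_rfl)
  refine h.twoStep_ne_top le_rfl h3 (eq_top_iff.2 (ht ▸ ?_))
  exact sup_le ((Subgroup.zpowers_le).2 h2) (sup_le ((Subgroup.zpowers_le).2 h1) (F_two_le_twoStep 1))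

/-- Outside the two-step centralizer `g₀` there is a power of `g₀` in every coset. -/
theorem IsMax.twoStep_cover (h : IsMax G p n) {j : ℕ} (h2 : 2 ≤ j) (hj : j + 2 ≤ n) {g₀ : G}
    (hg₀ : g₀ ∉ twoStep G j) (g : G) : ∃ k : ℕ, g * g₀ ^ k ∈ twoStep G j := by
  obtain ⟨a, ha, ha'⟩ := h.exists_mem_not_mem (show 1 ≤ j by omega) (by omega)
  obtain ⟨hc1, hc2⟩ := h.comm_not_mem h2 hg₀ ha ha'
  have hg : ⁅g, a⁆ ∈ F G (j + 1) := by
    have := F_commutator (show g ∈ F G 1 from Subgroup.mem_top g) ha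
    rwa [Nat.add_comm 1 j] at this
  rw [h.F_gen (by omega) hc1 hc2] at hg
  let q := QuotientGroup.mk' (F G (j + 2))
  have hcen : ∀ c ∈ F G (j + 1), ∀ y : G, q c * q y = q y * q c := by
    intro c hc y
    rw [← commutatorElement_eq_one_iff_mul_comm, ← map_commutatorElement]
    exact (QuotientGroup.eq_one_iff _).2
      (F_commutator (a := j + 1) (b := 1) hc (show y ∈ F G 1 from Subgroup.mem_top y))
  obtain ⟨i, hi⟩ : ∃ i : ℤ, q ⁅g, a⁆ = q ⁅g₀, a⁆ ^ i := by
    have := Subgroup.mem_map_of_mem q hg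
    rw [Subgroup.map_sup, MonoidHom.map_zpowers,
      (Subgroup.map_eq_bot_iff _).2 (show F G (j + 1 + 1) ≤ q.ker by simp [q]), sup_bot_eq] at this
    exact (Subgroup.mem_zpowers_iff.1 this).imp fun i e => e.symm
  have hbil : ∀ x y : G, q ⁅x * y, a⁆ = q ⁅x, a⁆ * q ⁅y, a⁆ := by
    intro x y
    have hy : ⁅y, a⁆ ∈ F G (j + 1) := by
      have := F_commutator (show y ∈ F G 1 from Subgroup.mem_top y) ha
      rwa [Nat.add_comm 1 j] at this
    have hx : ⁅x, a⁆ ∈ F G (j + 1) := by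
      have := F_commutator (show x ∈ F G 1 from Subgroup.mem_top x) ha
      rwa [Nat.add_comm 1 j] at this
    rw [show ⁅x * y, a⁆ = x * ⁅y, a⁆ * x⁻¹ * ⁅x, a⁆ by simp only [commutatorElement_def]; group,
      map_mul, map_mul, map_mul, ← hcen _ hy x, mul_assoc (q ⁅y, a⁆), ← map_mul, mul_inv_cancel,
      map_one, mul_one, hcen _ hy]
  let φ : G →* G ⧸ F G (j + 2) :=
    { toFun := fun x => q ⁅x, a⁆
      map_one' := by simp [q]
      map_mul' := hbil }
  have ho : φ g₀ ^ p ^ n = 1 := by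
    rw [← map_pow, ← h.card, pow_card_eq_one', map_one]
  refine ⟨((-i) % (p ^ n : ℕ)).toNat, fun b hb => ?_⟩
  refine (h.mem_twoStep_of h2 ha ha' ((QuotientGroup.eq_one_iff _).1 ?_)) b hb
  show φ (g * g₀ ^ _) = 1
  rw [map_mul, map_pow, show φ g = φ g₀ ^ i from hi, ← zpow_natCast, ← zpow_add,
    Int.toNat_of_nonneg (Int.emod_nonneg _ (by simp [hp.out.ne_zero]))]
  obtain ⟨c, hc⟩ : ((p ^ n : ℕ) : ℤ) ∣ i + (-i) % (p ^ n : ℕ) :=
    ⟨-((-i) / (p ^ n : ℕ)), by
      have := Int.emod_add_mul_ediv (-i) (p ^ n : ℕ)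
      rw [mul_neg]
      omega⟩
  rw [hc, zpow_mul, zpow_natCast, ho, one_zpow]

/-- A two-step centralizer containing `y ∉ γ 2` is `⟨y⟩ γ 2`. -/
theorem IsMax.twoStep_eq (h : IsMax G p n) {j : ℕ} (h1 : 1 ≤ j) (hj : j + 2 ≤ n) {y : G}
    (hy : y ∉ F G 2) (hyj : y ∈ twoStep G j) : twoStep G j = Subgroup.zpowers y ⊔ F G 2 := by
  have hle : Subgroup.zpowers y ⊔ F G 2 ≤ twoStep G j :=
    sup_le ((Subgroup.zpowers_le).2 hyj) (F_two_le_twoStep j)
  refine (eq_or_lt_of_le hle).elim Eq.symm fun hlt => ?_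
  exfalso
  apply h.twoStep_ne_top h1 hj
  refine Subgroup.eq_top_of_le_card _ ?_
  refine le_trans ?_ (p_mul_card_le_of_lt h.isPGroup hlt)
  rw [h.zpowers_sup_card (by omega) hy, h.card, ← pow_succ']
  exact Nat.pow_le_pow_right hp.out.pos (by omega)

/-- Outside `γ 2` and all two-step centralizers. -/
def Unif (G : Type*) [Group G] (n : ℕ) (x : G) : Prop :=
  x ∉ F G 2 ∧ ∀ j, 2 ≤ j → j + 2 ≤ n → x ∉ twoStep G j

theorem Unif.mul_F_two {x b : G} (hx : Unif G n x) (hb : b ∈ F G 2) : Unif G n (x * b) :=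
  ⟨fun h => hx.1 (by simpa using mul_mem h (inv_mem hb)), fun j h1 h2 h =>
    hx.2 j h1 h2 (by simpa using mul_mem h (inv_mem (F_two_le_twoStep j hb)))⟩

theorem IsMax.pow_mem_F_two (h : IsMax G p n) (h3 : 3 ≤ n) (g : G) : g ^ p ∈ F G 2 := by
  by_cases hg : g ∈ F G 2
  · exact pow_mem hg p
  by_contra hgp
  haveI := h.isPGroup.isNilpotent
  have h1 : (Subgroup.zpowers (g ^ p) ⊔ F G 2 : Subgroup G) = Subgroup.zpowers g ⊔ F G 2 := by
    refine Subgroup.eq_of_le_of_card_ge (sup_le_sup_right ((Subgroup.zpowers_le).2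
      (pow_mem (Subgroup.mem_zpowers g) p)) _) ?_
    rw [h.zpowers_sup_card h3 hg, h.zpowers_sup_card h3 hgp]
  haveI := F_normal (G := G) 2
  have h2 : (g : G ⧸ F G 2) ∈ Subgroup.zpowers ((g : G ⧸ F G 2) ^ p) := by
    have := Subgroup.mem_map_of_mem (QuotientGroup.mk' (F G 2))
      (h1 ▸ Subgroup.mem_sup_left (Subgroup.mem_zpowers g) : g ∈ Subgroup.zpowers (g ^ p) ⊔ F G 2)
    rwa [Subgroup.map_sup, MonoidHom.map_zpowers,
      (Subgroup.map_eq_bot_iff _).2 (show F G 2 ≤ (QuotientGroup.mk' (F G 2)).ker by simp),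
      sup_bot_eq, map_pow] at this
  obtain ⟨k, hk⟩ := IsPGroup.iff_orderOf.1 (h.isPGroup.to_quotient (F G 2))
    (g : G ⧸ F G 2)
  rcases Nat.eq_zero_or_pos k with rfl | hk0
  · exact hg ((QuotientGroup.eq_one_iff g).1 (orderOf_eq_one_iff.1 (by simpa using hk)))
  have hdvd : orderOf (g : G ⧸ F G 2) ∣ orderOf ((g : G ⧸ F G 2) ^ p) := by
    have := Subgroup.card_dvd_of_le ((Subgroup.zpowers_le).2 h2)
    rwa [Nat.card_zpowers, Nat.card_zpowers] at this
  have hlt := Nat.le_of_dvd (orderOf_pos _) hdvd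
  rw [orderOf_pow' _ hp.out.ne_zero, hk, Nat.gcd_eq_right (dvd_pow_self p hk0.ne')] at hlt
  exact absurd hlt (not_le.2 (Nat.div_lt_self (pow_pos hp.out.pos k) hp.out.one_lt))

/-- Avoiding fewer than `p` proper subgroups above `γ 2`. -/
theorem IsMax.exists_avoid (h : IsMax G p n) (h3 : 3 ≤ n) (J : Finset ℕ) (hJ : J.card < p)
    (hJ' : ∀ j ∈ J, 1 ≤ j ∧ j + 2 ≤ n) {x : G} (hx : x ∉ F G 2) :
    ∃ z, z ∉ Subgroup.zpowers x ⊔ F G 2 ∧ ∀ j ∈ J, z ∉ twoStep G j := by
  classical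
  have hne : (Subgroup.zpowers x ⊔ F G 2 : Subgroup G) ≠ ⊤ := fun e => by
    have := h.zpowers_sup_card h3 hx
    rw [e, Subgroup.card_top, h.card] at this
    have := Nat.pow_right_injective hp.out.two_le this
    omega
  obtain ⟨y, hy⟩ : ∃ y, y ∉ Subgroup.zpowers x ⊔ F G 2 := by
    by_contra hh
    push Not at hh
    exact hne (eq_top_iff.2 fun g _ => hh g)
  by_contra hh
  push Not at hh
  have hz : ∀ t : ℕ, ∃ j ∈ J, y * x ^ t ∈ twoStep G j := fun t => hh _ fun hm => hy (by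
    have := mul_mem hm (inv_mem (Subgroup.mem_sup_left (pow_mem (Subgroup.mem_zpowers x) t)))
    simpa using this)
  choose f hf hfm using hz
  obtain ⟨s, hs, t, ht, hst, he⟩ :=
    Finset.exists_ne_map_eq_of_card_lt_of_maps_to (s := Finset.range p) (t := J) (f := f)
      (by simpa using hJ) (fun a _ => hf a)
  wlog hlt : s < t generalizing s t
  · exact this t ht s hs (Ne.symm hst) he.symm (by omega)
  simp only [Finset.mem_range] at ht hs
  have hd : x ^ (t - s) ∈ twoStep G (f s) := by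
    have := mul_mem (inv_mem (hfm s)) (he ▸ hfm t)
    rwa [show (y * x ^ s)⁻¹ * (y * x ^ t) = x ^ (t - s) by
      obtain ⟨d, rfl⟩ := Nat.exists_eq_add_of_le hlt.le
      rw [Nat.add_sub_cancel_left, pow_add]; group] at this
  have hxp : x ^ p ∈ twoStep G (f s) := F_two_le_twoStep _ (h.pow_mem_F_two h3 x)
  have hcop : Nat.gcd (t - s) p = 1 :=
    (hp.out.coprime_iff_not_dvd.2 fun hd' => by
      have := Nat.le_of_dvd (by omega) hd'; omega).symm
  have hx' : x ∈ twoStep G (f s) := by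
    have e := Nat.gcd_eq_gcd_ab (t - s) p
    rw [hcop, Nat.cast_one] at e
    rw [← zpow_one x, e, zpow_add, zpow_mul, zpow_mul, zpow_natCast, zpow_natCast]
    exact mul_mem (zpow_mem hd _) (zpow_mem hxp _)
  have hy' : y ∈ twoStep G (f s) := by
    simpa using mul_mem (hfm s) (inv_mem (pow_mem hx' s))
  refine h.twoStep_ne_top (hJ' _ (hf s)).1 (hJ' _ (hf s)).2 (eq_top_iff.2 (h.gen_top hx hy ▸ ?_))
  exact sup_le ((Subgroup.zpowers_le).2 hy') (sup_le ((Subgroup.zpowers_le).2 hx') (F_two_le_twoStep _))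

/-- Small groups of maximal class have two independent uniform elements. -/
theorem IsMax.exists_unif_small (h : IsMax G p n) (h3 : 3 ≤ n) (hnp : n ≤ p + 1) :
    ∃ x y, Unif G n x ∧ Unif G n y ∧ y ∉ Subgroup.zpowers x ⊔ F G 2 := by
  have hJc : (Finset.Icc 2 (n - 2)).card < p := by
    rw [Nat.card_Icc]
    have := hp.out.two_le
    omega
  have hJ' : ∀ j ∈ Finset.Icc 2 (n - 2), 1 ≤ j ∧ j + 2 ≤ n := fun j hj => by
    rw [Finset.mem_Icc] at hj; omega
  obtain ⟨x₀, -, hx₀⟩ := h.exists_mem_not_mem le_rfl (show 1 < n by omega)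
  obtain ⟨x, hx, hxJ⟩ := h.exists_avoid h3 _ hJc hJ' hx₀
  have hxu : Unif G n x := ⟨fun e => hx (Subgroup.mem_sup_right e),
    fun j h1 h2 => hxJ j (Finset.mem_Icc.2 ⟨h1, by omega⟩)⟩
  obtain ⟨y, hy, hyJ⟩ := h.exists_avoid h3 _ hJc hJ' hxu.1
  exact ⟨x, y, hxu, ⟨fun e => hy (Subgroup.mem_sup_right e),
    fun j h1 h2 => hyJ j (Finset.mem_Icc.2 ⟨h1, by omega⟩)⟩, hy⟩

theorem IsMax.centralizer_inf (h : IsMax G p n) (h3 : 3 ≤ n) {x c : G} (hx : Unif G n x)
    (hc : c * x = x * c) (hc2 : c ∈ F G 2) : c ∈ F G (n - 1) := by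
  by_contra hh
  have hex : ∀ k, 2 ≤ k → k ≤ n - 1 → c ∈ F G k := by
    intro k hk2
    induction k, hk2 using Nat.le_induction with
    | base => intro _; exact hc2
    | succ k hk ih =>
      intro hkn
      by_contra hk1
      refine hx.2 k hk (by omega) (h.mem_twoStep_of hk (ih (by omega)) hk1 ?_)
      rw [commutatorElement_eq_one_iff_mul_comm.2 hc.symm]
      exact one_mem _
  exact hh (hex (n - 1) (by omega) le_rfl)

theorem IsMax.centralizer_le (h : IsMax G p n) (h3 : 3 ≤ n) {x : G} (hx : Unif G n x) :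
    Subgroup.centralizer ({x} : Set G) ≤ Subgroup.zpowers x ⊔ F G 2 := by
  intro c hc
  by_contra hh
  refine (h.comm_gen h3 hx.1 hh).2 ?_
  rw [commutatorElement_eq_one_iff_mul_comm.2 (Subgroup.mem_centralizer_singleton_iff.1 hc).symm]
  exact one_mem _

theorem IsMax.card_centralizer_le (h : IsMax G p n) (h3 : 3 ≤ n) {x : G} (hx : Unif G n x) :
    Nat.card (Subgroup.centralizer ({x} : Set G)) ≤ p ^ 2 := by
  set C := Subgroup.centralizer ({x} : Set G) with hC
  let g : C →* G ⧸ F G 2 := (QuotientGroup.mk' (F G 2)).comp C.subtype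
  rw [← g.ker.card_mul_index, Subgroup.index_ker, sq]
  refine Nat.mul_le_mul ?_ ?_
  · have : g.ker.map C.subtype ≤ F G (n - 1) := by
      rintro _ ⟨c, hc, rfl⟩
      exact h.centralizer_inf h3 hx (Subgroup.mem_centralizer_singleton_iff.1 c.2)
        ((QuotientGroup.eq_one_iff (c : G)).1 hc)
    have h1 := Subgroup.card_dvd_of_le this
    rw [Subgroup.card_map_of_injective C.subtype_injective, h.F_card (by omega) (by omega),
      show n - (n - 1) = 1 by omega, pow_one] at h1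
    exact Nat.le_of_dvd hp.out.pos h1
  · have hle : g.range ≤ Subgroup.zpowers (x : G ⧸ F G 2) := by
      rintro _ ⟨c, rfl⟩
      have := Subgroup.mem_map_of_mem (QuotientGroup.mk' (F G 2)) (h.centralizer_le h3 hx c.2)
      rwa [Subgroup.map_sup, MonoidHom.map_zpowers,
        (Subgroup.map_eq_bot_iff _).2 (show F G 2 ≤ (QuotientGroup.mk' (F G 2)).ker by simp),
        sup_bot_eq] at this
    refine (Nat.le_of_dvd Nat.card_pos (Subgroup.card_dvd_of_le hle)).trans ?_
    rw [Nat.card_zpowers]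
    refine Nat.le_of_dvd hp.out.pos (orderOf_dvd_of_pow_eq_one ?_)
    rw [← QuotientGroup.mk_pow, QuotientGroup.eq_one_iff]
    exact h.pow_mem_F_two h3 x

theorem IsMax.pow_mem_Z (h : IsMax G p n) (h3 : 3 ≤ n) {x : G} (hx : Unif G n x) :
    x ^ p ∈ F G (n - 1) :=
  h.centralizer_inf h3 hx ((Commute.refl x).pow_left p).eq (h.pow_mem_F_two h3 x)

theorem IsMax.F_pred_central (h : IsMax G p n) {z : G} (hz : z ∈ F G (n - 1)) (g : G) :
    g * z = z * g := by
  have := F_commutator (show g ∈ F G 1 from Subgroup.mem_top g) hz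
  rw [h.F_bot (k := 1 + (n - 1)) (by omega), Subgroup.mem_bot] at this
  exact commutatorElement_eq_one_iff_mul_comm.1 this

/-- The quotient by `γ k` is of maximal class. -/
theorem IsMax.quotient (h : IsMax G p n) {k : ℕ} (h2 : 2 ≤ k) (hk : k ≤ n) :
    IsMax (G ⧸ F G k) p k := by
  have hc : Nat.card (G ⧸ F G k) = p ^ k := by
    have h1 := (F G k).card_mul_index
    rw [h.F_card h2 hk, h.card, Subgroup.index_eq_card] at h1
    refine Nat.eq_of_mul_eq_mul_left (pow_pos hp.out.pos (n - k)) (h1.trans ?_)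
    rw [← pow_add]; congr 1; omega
  refine ⟨hc, h2, fun he => ?_⟩
  have h3 : (F G (k - 1)).map (QuotientGroup.mk' (F G k)) = ⊥ := by
    rw [F_map _ (QuotientGroup.mk'_surjective _)]
    unfold F
    rwa [show k - 1 - 1 = k - 2 by omega]
  rw [Subgroup.map_eq_bot_iff, QuotientGroup.ker_mk'] at h3
  rcases eq_or_lt_of_le h2 with rfl | h2'
  · exact h.F_two_ne_top (top_le_iff.1 h3)
  · have := h.F_lt (k := k - 1) (by omega) (by omega)
    rw [show k - 1 + 1 = k by omega] at this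
    exact absurd h3 (not_le_of_gt this)

theorem mk_mem_F_iff {k i : ℕ} (hik : i ≤ k) {g : G} :
    (g : G ⧸ F G k) ∈ F (G ⧸ F G k) i ↔ g ∈ F G i := by
  rw [← F_map (QuotientGroup.mk' (F G k)) (QuotientGroup.mk'_surjective _)]
  constructor
  · rintro ⟨x, hx, he⟩
    have := (QuotientGroup.eq).1 he
    simpa using mul_mem hx (F_antitone hik this)
  · exact fun hg => ⟨g, hg, rfl⟩

theorem mk_mem_twoStep_iff {k j : ℕ} (hjk : j + 2 ≤ k) {g : G} :
    (g : G ⧸ F G k) ∈ twoStep (G ⧸ F G k) j ↔ g ∈ twoStep G j := by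
  constructor
  · intro hg a ha
    have := hg (a : G ⧸ F G k) ((mk_mem_F_iff (by omega)).2 ha)
    rwa [← QuotientGroup.mk'_apply, ← QuotientGroup.mk'_apply, ← map_commutatorElement,
      QuotientGroup.mk'_apply, mk_mem_F_iff hjk] at this
  · intro hg b hb
    obtain ⟨a, rfl⟩ := QuotientGroup.mk'_surjective (F G k) b
    rw [QuotientGroup.mk'_apply] at hb ⊢
    rw [← QuotientGroup.mk'_apply, ← QuotientGroup.mk'_apply, ← map_commutatorElement,
      QuotientGroup.mk'_apply, mk_mem_F_iff hjk]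
    exact hg a ((mk_mem_F_iff (by omega)).1 hb)

/-- The lower central series of `⟨x⟩ γ m` for `x ∈ γ e`, `e ≤ m`. -/
theorem lcs_sup_le {e m : ℕ} (he : 1 ≤ e) (hem : e ≤ m) {x : G} (hx : x ∈ F G e) :
    ∀ k, 1 ≤ k → (Subgroup.zpowers x ⊔ F G m).lowerCentralSeries k ≤ F G (m + k * e) := by
  set K : Subgroup G := Subgroup.zpowers x ⊔ F G m with hK
  have hKe : K ≤ F G e := sup_le ((Subgroup.zpowers_le).2 hx) (F_antitone hem)
  intro k hk
  induction k, hk using Nat.le_induction with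
  | base =>
    rw [Subgroup.lowerCentralSeries_succ, Subgroup.lowerCentralSeries_zero, one_mul]
    set q := QuotientGroup.mk' (F G (m + e)) with hq
    have hcomm : ∀ a ∈ F G m, ∀ b ∈ K, q a * q b = q b * q a := by
      intro a ha b hb
      rw [← commutatorElement_eq_one_iff_mul_comm, ← map_commutatorElement]
      exact (QuotientGroup.eq_one_iff _).2 (F_commutator ha (hKe hb))
    have hle : K.map q ≤ Subgroup.centralizer (K.map q : Set (G ⧸ F G (m + e))) := by
      rw [Subgroup.map_le_iff_le_comap]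
      refine sup_le ((Subgroup.zpowers_le).2 ?_) fun a ha => ?_
      · rw [Subgroup.mem_comap, Subgroup.mem_centralizer_iff]
        rintro _ ⟨b, hb, rfl⟩
        have hle2 : K ≤ (Subgroup.centralizer {q x}).comap q := by
          refine sup_le ((Subgroup.zpowers_le).2 ?_) fun a ha => ?_
          · rw [Subgroup.mem_comap, Subgroup.mem_centralizer_singleton_iff]
          · rw [Subgroup.mem_comap, Subgroup.mem_centralizer_singleton_iff]
            exact hcomm a ha x (Subgroup.mem_sup_left (Subgroup.mem_zpowers x))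
        exact Subgroup.mem_centralizer_singleton_iff.1 (hle2 hb)
      · rw [Subgroup.mem_comap, Subgroup.mem_centralizer_iff]
        rintro _ ⟨b, hb, rfl⟩
        exact (hcomm a ha b hb).symm
    rw [Subgroup.commutator_le]
    intro a ha b hb
    refine (QuotientGroup.eq_one_iff _).1 ?_
    show q ⁅a, b⁆ = 1
    rw [map_commutatorElement, commutatorElement_eq_one_iff_mul_comm]
    exact (Subgroup.mem_centralizer_iff.1 (hle (Subgroup.mem_map_of_mem q ha)) _
      (Subgroup.mem_map_of_mem q hb)).symm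
  | succ k _ ih =>
    rw [Subgroup.lowerCentralSeries_succ]
    refine (Subgroup.commutator_mono ih hKe).trans (F_comm.trans (le_of_eq ?_))
    congr 1; ring

end Cfsg.Agent.Solv.MaxC
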