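import Mathlib
import Cfsg.Prelude.Def_CaseTheorems
import Cfsg.Prelude.Def_OddOrderLocal
import Cfsg.Agent.Lib.Fusion.RankTwoOmega
import Cfsg.Agent.Lib.Fusion.AlperinOmega
import Cfsg.Agent.Lib.Fusion.RankTwoExponent

/-!
`p`-groups of rank two: a normal elementary abelian subgroup of order `p²`, its centraliser, and
the passage to the quotient by it.
-/

set_option autoImplicit false
set_option linter.style.haveILetI false

open scoped commutatorElement

namespace Cfsg.Agent.Solv.RankTwo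

open Cfsg.Agent

variable {R : Type*} [Group R]

/-- A normal elementary abelian subgroup of order `p²` containing every element of order `p` that
centralises it. -/
structure Frame (p : ℕ) (E : Subgroup R) : Prop where
  norm : E.Normal
  comm : ∀ a ∈ E, ∀ b ∈ E, a * b = b * a
  exp : ∀ a ∈ E, a ^ p = 1
  card : Nat.card E = p ^ 2
  key : ∀ g ∈ Subgroup.centralizer (E : Set R), g ^ p = 1 → g ∈ E

variable {p : ℕ} [hp : Fact p.Prime] {E : Subgroup R}

namespace Frame

theorem le_centralizer (hF : Frame p E) : E ≤ Subgroup.centralizer (E : Set R) := fun a ha =>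
  Subgroup.mem_centralizer_iff.2 fun b hb => hF.comm b hb a ha

theorem centralizer_normal (hF : Frame p E) : (Subgroup.centralizer (E : Set R)).Normal := by
  haveI := hF.norm
  exact inferInstance

/-- elements of the centraliser with commutator in `E` multiply nicely under `p`-th powers -/
theorem mul_pow (hF : Frame p E) (hp2 : p ≠ 2) {a b : R} (ha : a ∈ Subgroup.centralizer (E : Set R))
    (hb : b ∈ Subgroup.centralizer (E : Set R)) (hab : ⁅b, a⁆ ∈ E) : (a * b) ^ p = a ^ p * b ^ p := by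
  have h1 : Commute ⁅b, a⁆ a := Subgroup.mem_centralizer_iff.1 ha _ hab
  have h2 : Commute ⁅b, a⁆ b := Subgroup.mem_centralizer_iff.1 hb _ hab
  rw [Fusion.mul_pow_of_central h1 h2]
  obtain ⟨k, hk⟩ := hp.out.dvd_choose_self (k := 2) two_ne_zero (lt_of_le_of_ne hp.out.two_le (Ne.symm hp2))
  rw [hk, pow_mul, hF.exp _ hab, one_pow, mul_one]

/-- a group of exponent `p` modulo `E` inside the centraliser, abelian modulo `E` -/
theorem pow_hom_exists (hF : Frame p E) (hp2 : p ≠ 2) {B : Subgroup R}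
    (hBC : B ≤ Subgroup.centralizer (E : Set R)) (hBp : ∀ b ∈ B, b ^ p ∈ E)
    (hBab : ∀ a ∈ B, ∀ b ∈ B, ⁅a, b⁆ ∈ E) :
    ∃ φ : ↥B →* ↥E, (∀ b : ↥B, (φ b : R) = (b : R) ^ p) ∧ φ.ker ≤ E.subgroupOf B :=
  ⟨MonoidHom.mk' (fun b => ⟨(b : R) ^ p, hBp b b.2⟩)
      (fun a b => Subtype.ext (hF.mul_pow hp2 (hBC a.2) (hBC b.2) (hBab b b.2 a a.2))),
    fun _ => rfl, fun b hb => hF.key b (hBC b.2) (congrArg Subtype.val (MonoidHom.mem_ker.1 hb))⟩

/-- such a group has at most `p²` cosets of `E` -/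
theorem relIndex_le (hF : Frame p E) (hp2 : p ≠ 2) [Finite R] {B : Subgroup R} (hEB : E ≤ B)
    (hBC : B ≤ Subgroup.centralizer (E : Set R)) (hBp : ∀ b ∈ B, b ^ p ∈ E)
    (hBab : ∀ a ∈ B, ∀ b ∈ B, ⁅a, b⁆ ∈ E) :
    E.relIndex B ≤ p ^ 2 := by
  obtain ⟨φ, hφ, hker⟩ := hF.pow_hom_exists hp2 hBC hBp hBab
  have hk : φ.ker = E.subgroupOf B := le_antisymm hker fun b hb =>
    MonoidHom.mem_ker.2 (Subtype.ext (by rw [hφ]; exact hF.exp _ hb))
  rw [Subgroup.relIndex, ← hk, Subgroup.index_ker, ← hF.card]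
  exact Subgroup.card_le_card_group φ.range

/-- congruent elements have equal `p`-th powers, and conversely -/
theorem pow_eq_iff (hF : Frame p E) (hp2 : p ≠ 2) {a b : R} (ha : a ∈ Subgroup.centralizer (E : Set R))
    (hb : b ∈ Subgroup.centralizer (E : Set R)) (hab : ⁅b, a⁆ ∈ E) : a ^ p = b ^ p ↔ a⁻¹ * b ∈ E := by
  have hab' : ⁅b, a⁻¹⁆ ∈ E := by
    have e : ⁅b, a⁻¹⁆ = a⁻¹ * ⁅b, a⁆⁻¹ * a := by simp only [commutatorElement_def]; group
    rw [e]
    have := hF.norm.conj_mem _ (inv_mem hab) a⁻¹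
    rwa [inv_inv] at this
  have h := hF.mul_pow hp2 (inv_mem ha) hb hab'
  constructor
  · intro e
    refine hF.key _ (mul_mem (inv_mem ha) hb) ?_
    rw [h, inv_pow, e, inv_mul_cancel]
  · intro e
    rw [hF.exp _ e, inv_pow] at h
    exact inv_mul_eq_one.1 h.symm

end Frame

/-- the first step: a non-cyclic rank two `p`-group has a frame -/
theorem exists_frame [Finite R] (hp2 : p ≠ 2) (hR : IsPGroup p R) (hrk : Cfsg.PRankLE p 2 R) (hnc : ¬ IsCyclic R) :
    ∃ E : Subgroup R, Frame p E := by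
  obtain ⟨E, -, hEn, ⟨hab, hexp⟩, hcard⟩ := Fusion.exists_normal_rank_two hp2 hR ⊤
    (fun h => hnc (isCyclic_of_surjective Subgroup.topEquiv.toMonoidHom Subgroup.topEquiv.surjective))
  have hcomm : ∀ a ∈ E, ∀ b ∈ E, a * b = b * a := fun a ha b hb =>
    congrArg Subtype.val (hab.is_comm.comm ⟨a, ha⟩ ⟨b, hb⟩)
  refine ⟨E, hEn, hcomm, hexp, hcard, fun g hg hgp => ?_⟩
  by_contra hgE
  haveI := hEn
  set A := E ⊔ Subgroup.zpowers g with hA
  have hAmem : ∀ a ∈ A, ∃ e ∈ E, ∃ i : ℤ, a = e * g ^ i := fun a ha => by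
    obtain ⟨e, he, _, ⟨i, rfl⟩, rfl⟩ := Subgroup.mem_sup_of_normal_left.1 ha
    exact ⟨e, he, i, rfl⟩
  have hge : ∀ e ∈ E, ∀ i : ℤ, Commute e (g ^ i) := fun e he i =>
    (show Commute e g from Subgroup.mem_centralizer_iff.1 hg e he).zpow_right i
  have hAab : IsMulCommutative A := ⟨⟨fun a b => Subtype.ext (by
    obtain ⟨e, he, i, ei⟩ := hAmem a a.2
    obtain ⟨f, hf, j, fj⟩ := hAmem b b.2
    have h := (((show Commute e f from hcomm e he f hf).mul_right (hge e he j)).mul_left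
      ((hge f hf i).symm.mul_right (Commute.zpow_zpow_self g i j)))
    show (a : R) * b = b * a
    rw [ei, fj]; exact h.eq)⟩⟩
  have hAexp : ∀ a ∈ A, a ^ p = 1 := fun a ha => by
    obtain ⟨e, he, i, rfl⟩ := hAmem a ha
    rw [(hge e he i).mul_pow, hexp e he, one_mul, ← zpow_natCast, ← zpow_mul, mul_comm, zpow_mul, zpow_natCast,
      hgp, one_zpow]
  have h1 := hrk A hAab hAexp
  have h2 : E = A := Subgroup.eq_of_le_of_card_ge le_sup_left (by rw [hcard]; exact h1)
  exact hgE (h2 ▸ Subgroup.mem_sup_right (Subgroup.mem_zpowers g))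

section Quotient

variable [E.Normal]

local notation "C" => Subgroup.centralizer (E : Set R)
local notation "π" => QuotientGroup.mk' E

theorem mem_map_centralizer (hF : Frame p E) {g : R} : π g ∈ Subgroup.map π C ↔ g ∈ C := by
  refine ⟨fun h => ?_, fun h => Subgroup.mem_map_of_mem _ h⟩
  obtain ⟨c, hc, e⟩ := h
  have h1 : c⁻¹ * g ∈ E := QuotientGroup.eq.1 e
  have := mul_mem hc (hF.le_centralizer h1)
  rwa [mul_inv_cancel_left] at this

/-- What is known about the next layer. -/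
structure Layer (p : ℕ) (E : Subgroup R) [E.Normal] (A : Subgroup (R ⧸ E)) : Prop where
  frame : Frame p A
  cent : Subgroup.centralizer (A : Set (R ⧸ E)) = (Subgroup.centralizer (E : Set R)).map (QuotientGroup.mk' E)
  powmem : ∀ a : R, QuotientGroup.mk' E a ∈ A → a ∈ Subgroup.centralizer (E : Set R) ∧ a ^ p ∈ E
  comm : ∀ a : R, QuotientGroup.mk' E a ∈ A → ∀ c ∈ Subgroup.centralizer (E : Set R), ⁅a, c⁆ ∈ E
  surj : ∀ e ∈ E, ∃ a : R, QuotientGroup.mk' E a ∈ A ∧ a ^ p = e

theorem exists_layer [Finite R] (hp2 : p ≠ 2) (hR : IsPGroup p R) (hF : Frame p E) (hnc : ¬ IsCyclic (Subgroup.map π C)) :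
    ∃ A : Subgroup (R ⧸ E), Layer p E A := by
  haveI := hF.centralizer_normal
  haveI : (Subgroup.map π C).Normal := Subgroup.Normal.map inferInstance _ (QuotientGroup.mk'_surjective E)
  obtain ⟨A, hAC, hAn, ⟨hAab, hAexp⟩, hAcard⟩ := Fusion.exists_normal_rank_two hp2 (hR.to_quotient E) (Subgroup.map π C) hnc
  have hcommQ : ∀ a ∈ A, ∀ b ∈ A, a * b = b * a := fun a ha b hb =>
    congrArg Subtype.val (hAab.is_comm.comm ⟨a, ha⟩ ⟨b, hb⟩)
  have hpow : ∀ a : R, π a ∈ A → a ∈ C ∧ a ^ p ∈ E := fun a ha =>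
    ⟨(mem_map_centralizer hF).1 (hAC ha), (QuotientGroup.eq_one_iff _).1 (by
      have := hAexp _ ha
      rwa [← map_pow] at this)⟩
  have hbr : ∀ a b : R, π a ∈ A → π b ∈ A → ⁅a, b⁆ ∈ E := fun a b ha hb => (QuotientGroup.eq_one_iff _).1 (by
    change π ⁅a, b⁆ = 1
    rw [map_commutatorElement, commutatorElement_eq_one_iff_mul_comm]
    exact hcommQ _ ha _ hb)
  -- the `p`-th power is a bijection from `A` onto `E`
  set B := A.comap π with hB
  obtain ⟨φ, hφ, hker⟩ := hF.pow_hom_exists hp2 (B := B) (fun a ha => (hpow a ha).1) (fun a ha => (hpow a ha).2)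
    (fun a ha b hb => hbr a b ha hb)
  have hEB : E ≤ B := fun e he => by
    show π e ∈ A
    rw [show π e = 1 from (QuotientGroup.eq_one_iff e).2 he]; exact one_mem A
  have hkeq : φ.ker = E.subgroupOf B := le_antisymm hker fun b hb =>
    MonoidHom.mem_ker.2 (Subtype.ext (by rw [hφ]; exact hF.exp _ hb))
  have hrange : φ.range = ⊤ := by
    refine Subgroup.eq_top_of_card_eq _ ?_
    have e := Subgroup.relIndex_comap (f := π) ⊥ B
    rw [MonoidHom.comap_bot, QuotientGroup.ker_mk', hB,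
      Subgroup.map_comap_eq_self_of_surjective (QuotientGroup.mk'_surjective E), Subgroup.relIndex_bot_left] at e
    rw [← Subgroup.index_ker, hkeq, ← Subgroup.relIndex, hF.card, ← hAcard, ← e]
  have hsurj : ∀ e ∈ E, ∃ a : R, π a ∈ A ∧ a ^ p = e := fun e he => by
    obtain ⟨b, hb⟩ := (hrange.ge (Subgroup.mem_top (⟨e, he⟩ : E)) : _ ∈ φ.range)
    exact ⟨b, b.2, by rw [← hφ, hb]⟩
  -- conjugation commutes with powers
  have hcomm : ∀ a : R, π a ∈ A → ∀ c ∈ C, ⁅a, c⁆ ∈ E := by
    intro a ha c hc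
    obtain ⟨haC, hap⟩ := hpow a ha
    have hca : π (c * a * c⁻¹) ∈ A := by
      rw [map_mul, map_mul, map_inv]; exact hAn.conj_mem _ ha _
    have h := (hF.pow_eq_iff hp2 (hpow _ hca).1 haC (hbr _ _ ha hca)).1 (by
      rw [conj_pow, ← Subgroup.mem_centralizer_iff.1 hc _ hap, mul_inv_cancel_right])
    rwa [show (c * a * c⁻¹)⁻¹ * a = ⁅c, a⁻¹⁆ by rw [commutatorElement_def]; group,
      show ⁅c, a⁻¹⁆ = a⁻¹ * ⁅a, c⁆ * a by simp only [commutatorElement_def]; group, ← Subgroup.Normal.mem_comm_iff inferInstance,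
      mul_inv_cancel_left] at h
  refine ⟨A, ⟨hAn, hcommQ, fun a ha => hAexp a ha, hAcard, ?_⟩, ?_, hpow, hcomm, hsurj⟩
  · -- elements of order `p` in the centraliser of `A`
    intro v hv hvp
    obtain ⟨g, rfl⟩ := QuotientGroup.mk'_surjective E v
    have hgC : g ∈ C := Subgroup.mem_centralizer_iff.2 fun e he => by
      obtain ⟨a, ha, rfl⟩ := hsurj e he
      obtain ⟨haC, hap⟩ := hpow a ha
      have hga : π (g * a * g⁻¹) ∈ A := by
        rw [map_mul, map_mul, map_inv]; exact hAn.conj_mem _ ha _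
      have h1 : (g * a * g⁻¹)⁻¹ * a ∈ E := by
        refine (QuotientGroup.eq_one_iff _).1 ?_
        change π ((g * a * g⁻¹)⁻¹ * a) = 1
        simp only [map_mul, map_inv, mul_inv_rev, inv_inv]
        rw [← mul_inv_rev, ← Subgroup.mem_centralizer_iff.1 hv _ ha, mul_inv_rev]
        group
      have h2 := (hF.pow_eq_iff hp2 (hpow _ hga).1 haC (hbr _ _ ha hga)).2 h1
      rw [conj_pow, mul_inv_eq_iff_eq_mul] at h2
      exact h2.symm
    have hgv : π g ∈ Subgroup.map π C := Subgroup.mem_map_of_mem _ hgC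
    set V := A ⊔ Subgroup.zpowers (π g) with hV
    have hVC : V ≤ Subgroup.map π C := sup_le hAC (Subgroup.zpowers_le.2 hgv)
    have hVmem : ∀ w ∈ V, ∃ a ∈ A, ∃ i : ℤ, w = a * π g ^ i := fun w hw => by
      haveI := hAn
      obtain ⟨e, he, _, ⟨i, rfl⟩, rfl⟩ := Subgroup.mem_sup_of_normal_left.1 hw
      exact ⟨e, he, i, rfl⟩
    have hge : ∀ a ∈ A, ∀ i : ℤ, Commute a (π g ^ i) := fun a ha i =>
      (show Commute a (π g) from Subgroup.mem_centralizer_iff.1 hv a ha).zpow_right i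
    have hcm : ∀ w ∈ V, ∀ w' ∈ V, Commute w w' := fun w hw w' hw' => by
      obtain ⟨e, he, i, rfl⟩ := hVmem w hw
      obtain ⟨f, hf, j, rfl⟩ := hVmem w' hw'
      exact ((show Commute e f from hcommQ e he f hf).mul_right (hge e he j)).mul_left
        ((hge f hf i).symm.mul_right (Commute.zpow_zpow_self _ i j))
    have hexp : ∀ w ∈ V, w ^ p = 1 := fun w hw => by
      obtain ⟨e, he, i, rfl⟩ := hVmem w hw
      rw [(hge e he i).mul_pow, hAexp e he, one_mul, ← zpow_natCast, ← zpow_mul, mul_comm, zpow_mul, zpow_natCast,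
        hvp, one_zpow]
    have hle := hF.relIndex_le hp2 (B := V.comap π)
      (fun e he => by
        show π e ∈ V
        rw [show π e = 1 from (QuotientGroup.eq_one_iff e).2 he]; exact one_mem V)
      (fun b hb => (mem_map_centralizer hF).1 (hVC hb))
      (fun b hb => (QuotientGroup.eq_one_iff _).1 (by
        have := hexp _ hb
        rwa [← map_pow] at this))
      (fun a ha b hb => (QuotientGroup.eq_one_iff _).1 (by
        change π ⁅a, b⁆ = 1
        rw [map_commutatorElement, commutatorElement_eq_one_iff_mul_comm]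
        exact (hcm _ ha _ hb).eq))
    have e := Subgroup.relIndex_comap (f := π) ⊥ (V.comap π)
    rw [MonoidHom.comap_bot, QuotientGroup.ker_mk', Subgroup.map_comap_eq_self_of_surjective (QuotientGroup.mk'_surjective E),
      Subgroup.relIndex_bot_left] at e
    rw [e] at hle
    rw [Subgroup.eq_of_le_of_card_ge (le_sup_left : A ≤ V) (by rw [hAcard]; exact hle)]
    exact Subgroup.mem_sup_right (Subgroup.mem_zpowers _)
  · refine le_antisymm (fun v hv => ?_) ?_
    · obtain ⟨g, rfl⟩ := QuotientGroup.mk'_surjective E v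
      refine Subgroup.mem_map_of_mem _ (Subgroup.mem_centralizer_iff.2 fun e he => ?_)
      obtain ⟨a, ha, rfl⟩ := hsurj e he
      obtain ⟨haC, hap⟩ := hpow a ha
      have hga : π (g * a * g⁻¹) ∈ A := by
        rw [map_mul, map_mul, map_inv]; exact hAn.conj_mem _ ha _
      have h1 : (g * a * g⁻¹)⁻¹ * a ∈ E := by
        refine (QuotientGroup.eq_one_iff _).1 ?_
        change π ((g * a * g⁻¹)⁻¹ * a) = 1
        simp only [map_mul, map_inv, mul_inv_rev, inv_inv]
        rw [← mul_inv_rev, ← Subgroup.mem_centralizer_iff.1 hv _ ha, mul_inv_rev]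
        group
      have h2 := (hF.pow_eq_iff hp2 (hpow _ hga).1 haC (hbr _ _ ha hga)).2 h1
      rw [conj_pow, mul_inv_eq_iff_eq_mul] at h2
      exact h2.symm
    · rintro _ ⟨c, hc, rfl⟩
      refine Subgroup.mem_centralizer_iff.2 fun v hv => ?_
      obtain ⟨a, rfl⟩ := QuotientGroup.mk'_surjective E v
      have := hcomm a hv c hc
      rw [← QuotientGroup.eq_one_iff, ← QuotientGroup.mk'_apply, map_commutatorElement,
        commutatorElement_eq_one_iff_mul_comm] at this
      exact this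

end Quotient

end Cfsg.Agent.Solv.RankTwo
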