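import Mathlib
import Cfsg.Agent.Lib.Solv.RankTwoBase
import Cfsg.Agent.Lib.Fusion.Blackburn

/-!
`p`-groups of rank two: an element outside the centraliser of the frame.
-/

set_option autoImplicit false
set_option linter.style.haveILetI false

open scoped commutatorElement

namespace Cfsg.Agent.Solv.RankTwo

open Cfsg.Agent

variable {R : Type*} [Group R]

/-- iterated conjugation along a short chain -/
theorem conj_iter {x v w d₁ d₂ : R} (h0 : x⁻¹ * v * x = v * w) (h1 : x⁻¹ * w * x = w * d₁)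
    (h2 : x⁻¹ * d₁ * x = d₁ * d₂) (h3 : x⁻¹ * d₂ * x = d₂) (c01 : Commute w d₁) (c02 : Commute w d₂)
    (c12 : Commute d₁ d₂) (i : ℕ) :
    (x ^ i)⁻¹ * v * x ^ i = v * w ^ i * d₁ ^ i.choose 2 * d₂ ^ i.choose 3 := by
  induction i with
  | zero => simp
  | succ i ih =>
    have e : (x ^ (i + 1))⁻¹ * v * x ^ (i + 1) = x⁻¹ * ((x ^ i)⁻¹ * v * x ^ i) * x := by
      rw [pow_succ]; group
    have hc : ∀ (a : R) (j : ℕ), x⁻¹ * a ^ j * x = (x⁻¹ * a * x) ^ j := fun a j => by
      have := (conj_pow (a := x⁻¹) (b := a) (i := j)).symm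
      rwa [inv_inv] at this
    have e2 : x⁻¹ * (v * w ^ i * d₁ ^ i.choose 2 * d₂ ^ i.choose 3) * x =
        (v * w) * (w * d₁) ^ i * (d₁ * d₂) ^ i.choose 2 * d₂ ^ i.choose 3 := by
      calc _ = (x⁻¹ * v * x) * (x⁻¹ * w ^ i * x) * (x⁻¹ * d₁ ^ i.choose 2 * x) * (x⁻¹ * d₂ ^ i.choose 3 * x) := by group
        _ = _ := by rw [h0, hc, h1, hc, h2, hc, h3]
    rw [e, ih, e2, c01.mul_pow, c12.mul_pow, Nat.choose_succ_succ i 1, Nat.choose_succ_succ i 2, Nat.choose_one_right,
      pow_succ' w, pow_add, pow_add]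
    simp only [mul_assoc]

/-- powers of a product along a short chain -/
theorem mul_pow_iter {x c w d : R} (h0 : x⁻¹ * c * x = c * w) (h1 : x⁻¹ * w * x = w * d) (h2 : x⁻¹ * d * x = d)
    (c01 : Commute c w) (c02 : Commute c d) (c12 : Commute w d) (i : ℕ) :
    (x * c) ^ i = x ^ i * (c ^ i * w ^ i.choose 2 * d ^ i.choose 3) := by
  induction i with
  | zero => simp
  | succ i ih =>
    have hc : ∀ (a : R) (j : ℕ), x⁻¹ * a ^ j * x = (x⁻¹ * a * x) ^ j := fun a j => by
      have := (conj_pow (a := x⁻¹) (b := a) (i := j)).symm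
      rwa [inv_inv] at this
    have e2 : x⁻¹ * (c ^ i * w ^ i.choose 2 * d ^ i.choose 3) * x =
        (c * w) ^ i * (w * d) ^ i.choose 2 * d ^ i.choose 3 := by
      calc _ = (x⁻¹ * c ^ i * x) * (x⁻¹ * w ^ i.choose 2 * x) * (x⁻¹ * d ^ i.choose 3 * x) := by group
        _ = _ := by rw [hc, h0, hc, h1, hc, h2]
    have e : (x * c) ^ (i + 1) = x ^ (i + 1) * ((x⁻¹ * (c ^ i * w ^ i.choose 2 * d ^ i.choose 3) * x) * c) := by
      rw [pow_succ, ih, pow_succ x]; group
    rw [e, e2, c01.mul_pow, c12.mul_pow, Nat.choose_succ_succ i 1, Nat.choose_succ_succ i 2, Nat.choose_one_right,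
      pow_succ c, pow_add, pow_add]
    have r2 : Commute (w ^ i * (w ^ i.choose 2 * (d ^ i.choose 2 * d ^ i.choose 3))) c :=
      (c01.pow_right _).symm.mul_left ((c01.pow_right _).symm.mul_left ((c02.pow_right _).symm.mul_left (c02.pow_right _).symm))
    congr 1
    calc c ^ i * w ^ i * (w ^ i.choose 2 * d ^ i.choose 2) * d ^ i.choose 3 * c
        = c ^ i * ((w ^ i * (w ^ i.choose 2 * (d ^ i.choose 2 * d ^ i.choose 3))) * c) := by simp only [mul_assoc]
      _ = _ := by rw [r2.eq]; simp only [mul_assoc, pow_add, Nat.succ_eq_add_one, Nat.reduceAdd]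

theorem choose_two_zero {p : ℕ} (hp : p.Prime) (hp2 : p ≠ 2) {a : R} (ha : a ^ p = 1) : a ^ p.choose 2 = 1 := by
  obtain ⟨k, hk⟩ := hp.dvd_choose_self (k := 2) two_ne_zero (lt_of_le_of_ne hp.two_le (Ne.symm hp2))
  rw [hk, pow_mul, ha, one_pow]

theorem choose_three_zero {p : ℕ} (hp : p.Prime) (hp3 : 3 < p) {a : R} (ha : a ^ p = 1) : a ^ p.choose 3 = 1 := by
  obtain ⟨k, hk⟩ := hp.dvd_choose_self (k := 3) three_ne_zero hp3
  rw [hk, pow_mul, ha, one_pow]

variable {p : ℕ} [hp : Fact p.Prime] {E : Subgroup R}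

/-- an element outside the centraliser, with the line it fixes -/
structure Axis (p : ℕ) (E : Subgroup R) (x e₀ : R) : Prop where
  out : x ∉ Subgroup.centralizer (E : Set R)
  mem : e₀ ∈ E
  ne : e₀ ≠ 1
  central : ∀ g : R, Commute e₀ g
  fixed : ∀ e ∈ E, x⁻¹ * e * x = e → e ∈ Subgroup.zpowers e₀
  moves : ∀ e ∈ E, ∀ g : R, ⁅e, g⁆ ∈ Subgroup.zpowers e₀
  gen : ∀ g : R, ∃ (i : ℤ) (c : R), c ∈ Subgroup.centralizer (E : Set R) ∧ g = x ^ i * c
  index : (Subgroup.centralizer (E : Set R)).index = p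

theorem exists_axis [Finite R] (hR : IsPGroup p R) (hF : Frame p E) {x : R}
    (hx : x ∉ Subgroup.centralizer (E : Set R)) : ∃ e₀, Axis p E x e₀ := by
  haveI := hF.norm
  haveI := hF.centralizer_normal
  have hp1 := hp.out
  obtain ⟨Z, hZE, hZc, hZcard⟩ := Fusion.exists_central_order_p_in hR E (fun h => by
    have h1 := hF.card
    rw [h, Subgroup.card_bot] at h1
    exact absurd h1.symm (Nat.one_lt_pow two_ne_zero hp1.one_lt).ne')
  haveI : Z.Normal := ⟨fun z hz g => by rw [Subgroup.mem_center_iff.1 (hZc hz) g, mul_inv_cancel_right]; exact hz⟩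
  haveI := isCyclic_of_prime_card (p := p) hZcard
  obtain ⟨⟨e₀, he₀⟩, hgen⟩ := IsCyclic.exists_generator (α := Z)
  have hZ : Z = Subgroup.zpowers e₀ := by
    refine le_antisymm (fun z hz => ?_) (Subgroup.zpowers_le.2 he₀)
    obtain ⟨i, hi⟩ := hgen ⟨z, hz⟩
    exact ⟨i, congrArg Subtype.val hi⟩
  have hne : e₀ ≠ 1 := fun e => by
    rw [e, Subgroup.zpowers_one_eq_bot] at hZ
    rw [hZ, Subgroup.card_bot] at hZcard
    exact hp1.ne_one hZcard.symm
  set F := E ⊓ Subgroup.centralizer ({x} : Set R) with hFdef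
  have hFne : F ≠ E := fun h => hx (Subgroup.mem_centralizer_iff.2 fun e he =>
    (Subgroup.mem_centralizer_iff.1 (h.ge he).2 x rfl).symm)
  have hZF : Z ≤ F := fun z hz => ⟨hZE hz, Subgroup.mem_centralizer_iff.2 fun y _ =>
    Subgroup.mem_center_iff.1 (hZc hz) y⟩
  have hFZ : Z = F := by
    refine Subgroup.eq_of_le_of_card_ge hZF ?_
    obtain ⟨j, hj, hjc⟩ := (Nat.dvd_prime_pow hp1).1 (hF.card ▸ Subgroup.card_dvd_of_le (inf_le_left : F ≤ E))
    have : j ≠ 2 := fun e => hFne (Subgroup.eq_of_le_of_card_ge inf_le_left (by rw [hF.card, hjc, e]))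
    rw [hjc, hZcard]
    calc p ^ j ≤ p ^ 1 := Nat.pow_le_pow_right hp1.pos (by omega)
      _ = p := pow_one p
  have hidx : (Subgroup.centralizer (E : Set R)).index = p := by
    have h1 := Fusion.index_centralizer_le_of_small hR E ⟨⟨fun a b => Subtype.ext (hF.comm a a.2 b b.2)⟩⟩ hF.card.le
    have h2 : (Subgroup.centralizer (E : Set R)).index ≠ 1 := fun e => hx ((Subgroup.index_eq_one.1 e).ge (Subgroup.mem_top x))
    obtain ⟨j, hj⟩ := hR.index (Subgroup.centralizer (E : Set R))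
    rcases Nat.eq_zero_or_pos j with rfl | hj0
    · rw [pow_zero] at hj; exact absurd hj h2
    · have h3 : j = 1 := by
        by_contra hne
        have h4 : p ^ 1 < p ^ j := Nat.pow_lt_pow_right hp1.one_lt (by omega)
        rw [pow_one] at h4
        omega
      rw [hj, h3, pow_one]
  refine ⟨e₀, hx, hZE he₀, hne, fun g => (Subgroup.mem_center_iff.1 (hZc he₀) g).symm, fun e he hfix => ?_, fun e he g => ?_, ?_, hidx⟩
  · rw [← hZ, hFZ]
    exact ⟨he, Subgroup.mem_centralizer_iff.2 fun y hy => by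
      rw [Set.mem_singleton_iff.1 hy]
      calc x * e = x * (x⁻¹ * e * x) := by rw [hfix]
        _ = e * x := by group⟩
  · rw [← hZ]
    have hn : (E.map (QuotientGroup.mk' Z)).Normal := Subgroup.Normal.map hF.norm _ (QuotientGroup.mk'_surjective Z)
    have hc : Nat.card (E.map (QuotientGroup.mk' Z)) ≤ p := by
      have e1 := Subgroup.relIndex_comap (f := QuotientGroup.mk' Z) ⊥ E
      rw [MonoidHom.comap_bot, QuotientGroup.ker_mk', Subgroup.relIndex_bot_left] at e1
      have e2 := Subgroup.relIndex_mul_relIndex ⊥ Z E bot_le hZE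
      rw [Subgroup.relIndex_bot_left, Subgroup.relIndex_bot_left, hZcard, hF.card, pow_two] at e2
      rw [← e1, Nat.eq_of_mul_eq_mul_left hp1.pos e2]
    have := Fusion.le_center_of_card_prime (hR.to_quotient Z) (E.map (QuotientGroup.mk' Z)) hc
      (Subgroup.mem_map_of_mem _ he)
    rw [← QuotientGroup.eq_one_iff, ← QuotientGroup.mk'_apply, map_commutatorElement,
      commutatorElement_eq_one_iff_mul_comm]
    exact (Subgroup.mem_center_iff.1 this _).symm
  · intro g
    have htop : Subgroup.zpowers x ⊔ Subgroup.centralizer (E : Set R) = ⊤ := by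
      refine Subgroup.index_eq_one.1 ?_
      have h1 := Subgroup.relIndex_mul_index (le_sup_right : Subgroup.centralizer (E : Set R) ≤ Subgroup.zpowers x ⊔ _)
      rw [hidx] at h1
      rcases (Nat.dvd_prime hp1).1 (Dvd.intro_left _ h1) with h2 | h2
      · exact h2
      · exfalso
        rw [h2] at h1
        have h3 := Nat.eq_of_mul_eq_mul_right hp1.pos (h1.trans (one_mul p).symm)
        exact hx (Subgroup.relIndex_eq_one.1 h3 (Subgroup.mem_sup_left (Subgroup.mem_zpowers x)))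
    obtain ⟨_, ⟨i, rfl⟩, c, hc, e⟩ := Subgroup.mem_sup_of_normal_right.1 (htop.ge (Subgroup.mem_top g))
    exact ⟨i, c, hc, e.symm⟩

namespace Axis

variable {x e₀ : R}

theorem delta (hA : Axis p E x e₀) {e : R} (he : e ∈ E) : e⁻¹ * (x⁻¹ * e * x) ∈ Subgroup.zpowers e₀ := by
  have := hA.moves _ (E.inv_mem he) x⁻¹
  rwa [commutatorElement_def, inv_inv, inv_inv, mul_assoc, mul_assoc, ← mul_assoc x⁻¹] at this

theorem zpow_fixed (hA : Axis p E x e₀) {d : R} (hd : d ∈ Subgroup.zpowers e₀) : x⁻¹ * d * x = d := by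
  obtain ⟨i, rfl⟩ := hd
  have h : Commute (e₀ ^ i) x := (hA.central x).zpow_left i
  rw [mul_assoc, h.eq, inv_mul_cancel_left]

theorem zpow_pow (hA : Axis p E x e₀) (hF : Frame p E) {d : R} (hd : d ∈ Subgroup.zpowers e₀) : d ^ p = 1 :=
  hF.exp d (Subgroup.zpowers_le.2 hA.mem hd)

omit hp in
theorem pow_mem_centralizer [Finite R] (hA : Axis p E x e₀) (hn : (Subgroup.centralizer (E : Set R)).Normal) (g : R) :
    g ^ p ∈ Subgroup.centralizer (E : Set R) := by
  haveI := hn
  exact hA.index ▸ Subgroup.pow_index_mem _ g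

end Axis

end Cfsg.Agent.Solv.RankTwo
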