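import Mathlib
import Cfsg.Agent.Lib.Solv.RankTwoAxis

/-!
`p`-groups of rank two with a second layer above the frame.
-/

set_option autoImplicit false
set_option linter.style.haveILetI false

open scoped commutatorElement

namespace Cfsg.Agent.Solv.RankTwo

open Cfsg.Agent

variable {R : Type*} [Group R] [Finite R] {p : ℕ} [hp : Fact p.Prime] {E : Subgroup R} [E.Normal]

/-- a short fixed centraliser -/
theorem card_centralizer_le (hR : IsPGroup p R) (hF : Frame p E) {x e₀ : R} (hA : Axis p E x e₀)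
    (h : ∀ u ∈ Subgroup.centralizer (E : Set R), Commute u x → u ∈ Subgroup.zpowers e₀) :
    Nat.card (Subgroup.centralizer ({x} : Set R)) ≤ p ^ 2 := by
  haveI := hF.centralizer_normal
  set C := Subgroup.centralizer (E : Set R)
  set K := Subgroup.centralizer ({x} : Set R)
  have h1 : Nat.card (C.subgroupOf K) ≤ p := by
    rw [Nat.card_congr (Subgroup.subgroupOf C K |>.equivMapOfInjective K.subtype K.subtype_injective).toEquiv,
      Subgroup.subgroupOf_map_subtype]
    refine (Subgroup.card_le_of_le (K := Subgroup.zpowers e₀) fun u hu => ?_).trans ?_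
    · exact h u hu.1 (Subgroup.mem_centralizer_iff.1 hu.2 x rfl).symm
    · rw [Nat.card_zpowers]
      exact Nat.le_of_dvd hp.out.pos (orderOf_dvd_of_pow_eq_one (hF.exp _ hA.mem))
  have h2 : C.relIndex K ≤ p :=
    Nat.le_of_dvd hp.out.pos (hA.index ▸ Subgroup.relIndex_dvd_index_of_normal C K)
  rw [pow_two, Subgroup.card_eq_card_quotient_mul_card_subgroup (C.subgroupOf K), ← Subgroup.index_eq_card]
  exact Nat.mul_le_mul h2 h1

variable {A : Subgroup (R ⧸ E)}

local notation "π" => QuotientGroup.mk' E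

/-- an element outside the centraliser with `p`-th power in the frame -/
theorem small_fix (hp2 : p ≠ 2) (hR : IsPGroup p R) (hF : Frame p E) (hL : Layer p E A) {x e₀ : R}
    (hA : Axis p E x e₀) (hxp : x ^ p ∈ E) :
    p = 3 ∧ Nat.card (Subgroup.centralizer ({x} : Set R)) ≤ p ^ 2 := by
  classical
  haveI := hL.frame.norm
  have hp1 := hp.out
  obtain ⟨e, he, hez⟩ : ∃ e ∈ E, e ∉ Subgroup.zpowers e₀ := by
    by_contra hcon
    push Not at hcon
    have h1 := Subgroup.card_le_of_le (show E ≤ Subgroup.zpowers e₀ from hcon)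
    rw [hF.card, Nat.card_zpowers] at h1
    have h2 := Nat.le_of_dvd hp1.pos (orderOf_dvd_of_pow_eq_one (hF.exp _ hA.mem))
    nlinarith [hp1.two_le]
  obtain ⟨v, hvA, hve⟩ := hL.surj e he
  obtain ⟨hvC, -⟩ := hL.powmem v hvA
  have hconjA : ∀ a : R, π a ∈ A → π (x⁻¹ * a * x) ∈ A := fun a ha => by
    rw [map_mul, map_mul, map_inv]
    simpa using hL.frame.norm.conj_mem _ ha (π x)⁻¹
  have hσp : ∀ a : R, (x⁻¹ * a * x) ^ p = x⁻¹ * a ^ p * x := fun a => by
    have := conj_pow (a := x⁻¹) (b := a) (i := p)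
    rwa [inv_inv] at this
  set w := v⁻¹ * (x⁻¹ * v * x) with hw
  have hwA : π w ∈ A := by rw [hw, map_mul, map_inv]; exact mul_mem (inv_mem hvA) (hconjA v hvA)
  obtain ⟨hwC, hwp⟩ := hL.powmem w hwA
  have hvw : x⁻¹ * v * x = v * w := by rw [hw]; group
  have hwpow : w ^ p = e⁻¹ * (x⁻¹ * e * x) := by
    have h1 := hF.mul_pow hp2 hvC hwC (hL.comm w hwA v hvC)
    rw [← hvw, hσp, hve] at h1
    rw [h1]; group
  have hw0 : w ^ p ∈ Subgroup.zpowers e₀ := hwpow ▸ hA.delta he
  have hw1 : w ^ p ≠ 1 := fun h => hez (hA.fixed e he (inv_mul_eq_one.1 (hwpow.symm.trans h)).symm)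
  set d₁ := w⁻¹ * (x⁻¹ * w * x) with hd₁
  have hσwC : x⁻¹ * w * x ∈ Subgroup.centralizer (E : Set R) := (hL.powmem _ (hconjA w hwA)).1
  have hd₁E : d₁ ∈ E := (hF.pow_eq_iff hp2 hwC hσwC (hL.comm _ (hconjA w hwA) w hwC)).1
    (by rw [hσp, hA.zpow_fixed hw0])
  set d₂ := d₁⁻¹ * (x⁻¹ * d₁ * x) with hd₂
  have hd₂0 : d₂ ∈ Subgroup.zpowers e₀ := hA.delta hd₁E
  have hvx : Commute v (x ^ p) := (Subgroup.mem_centralizer_iff.1 hvC _ hxp).symm
  have h := conj_iter hvw (show x⁻¹ * w * x = w * d₁ by rw [hd₁]; group)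
    (show x⁻¹ * d₁ * x = d₁ * d₂ by rw [hd₂]; group) (hA.zpow_fixed hd₂0)
    (Subgroup.mem_centralizer_iff.1 hwC _ hd₁E).symm
    (Subgroup.mem_centralizer_iff.1 hwC _ (Subgroup.zpowers_le.2 hA.mem hd₂0)).symm
    (hF.comm _ hd₁E _ (Subgroup.zpowers_le.2 hA.mem hd₂0)) p
  rw [mul_assoc ((x ^ p)⁻¹), hvx.eq, inv_mul_cancel_left, choose_two_zero hp1 hp2 (hF.exp _ hd₁E), mul_one,
    mul_assoc v, left_eq_mul] at h
  have hp3 : p = 3 := by
    by_contra hne
    have : 3 < p := by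
      rcases hp1.two_le.lt_or_eq with h' | h'
      · omega
      · omega
    rw [choose_three_zero hp1 this (hA.zpow_pow hF hd₂0), mul_one] at h
    exact hw1 h
  refine ⟨hp3, card_centralizer_le hR hF hA fun u hu hux => ?_⟩
  have hfix : ∀ a : R, Commute a x → x⁻¹ * a * x = a := fun a ha => by
    rw [mul_assoc, ha.eq, inv_mul_cancel_left]
  by_contra hu0
  have huE : u ∉ E := fun hE => hu0 (hA.fixed u hE (hfix u hux))
  obtain ⟨k, hk⟩ := hR u
  have hex : ∃ j, u ^ p ^ j ∈ E := ⟨k, hk ▸ one_mem E⟩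
  have hj0 : Nat.find hex ≠ 0 := fun e' => huE (by simpa [e'] using Nat.find_spec hex)
  set u' := u ^ p ^ (Nat.find hex - 1) with hu'
  have hu'E : u' ∉ E := Nat.find_min hex (Nat.sub_lt (Nat.pos_of_ne_zero hj0) one_pos)
  have hu'p : u' ^ p ∈ E := by
    rw [hu', ← pow_mul, ← pow_succ, Nat.sub_add_cancel (Nat.pos_of_ne_zero hj0)]
    exact Nat.find_spec hex
  have hu'C : u' ∈ Subgroup.centralizer (E : Set R) := pow_mem hu _
  have hu'A : π u' ∈ A := hL.frame.key _ (by rw [hL.cent]; exact Subgroup.mem_map_of_mem _ hu'C)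
    (by rw [← map_pow]; exact (QuotientGroup.eq_one_iff _).2 hu'p)
  have hu'0 : u' ^ p ∈ Subgroup.zpowers e₀ :=
    hA.fixed _ hu'p (hfix _ ((hux.pow_left _).pow_left p))
  have hu'1 : u' ^ p ≠ 1 := fun e' => hu'E (hF.key _ hu'C e')
  have hgen : Subgroup.zpowers (u' ^ p) = Subgroup.zpowers e₀ := by
    refine Subgroup.eq_of_le_of_card_ge (Subgroup.zpowers_le.2 hu'0) ?_
    rw [Nat.card_zpowers, Nat.card_zpowers, orderOf_eq_prime (hA.zpow_pow hF hu'0) hu'1]
    exact Nat.le_of_dvd hp1.pos (orderOf_dvd_of_pow_eq_one (hF.exp _ hA.mem))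
  obtain ⟨i, hi⟩ := Subgroup.mem_zpowers_iff.1 (hgen.ge hw0)
  have hpi : (u' ^ i) ^ p = w ^ p := by
    rw [← hi, ← zpow_natCast, ← zpow_mul, mul_comm, zpow_mul, zpow_natCast]
  have he' : (u' ^ i)⁻¹ * w ∈ E := (hF.pow_eq_iff hp2 (zpow_mem hu'C i) hwC
    (hL.comm w hwA _ (zpow_mem hu'C i))).1 hpi
  have hui : x⁻¹ * u' ^ i * x = u' ^ i := hfix _ ((hux.pow_left _).zpow_left i)
  have hd₁0 : d₁ ∈ Subgroup.zpowers e₀ := by
    have h1 := hA.delta he'
    have e1 : ((u' ^ i)⁻¹ * w)⁻¹ * (x⁻¹ * ((u' ^ i)⁻¹ * w) * x) = d₁ := by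
      calc _ = w⁻¹ * u' ^ i * ((x⁻¹ * u' ^ i * x)⁻¹ * (x⁻¹ * w * x)) := by group
        _ = _ := by rw [hui, hd₁]; group
    rwa [e1] at h1
  have hd₂1 : d₂ = 1 := by rw [hd₂, hA.zpow_fixed hd₁0, inv_mul_cancel]
  rw [hd₂1, one_pow, mul_one] at h
  exact hw1 h

/-- no short centraliser above a layer without elements of order `p` outside -/
theorem no_witness (hp2 : p ≠ 2) (hR : IsPGroup p R) (hF : Frame p E) (hL : Layer p E A)
    (hnone : ∀ g : R, g ^ p ∈ E → g ∈ Subgroup.centralizer (E : Set R)) {t e₀ : R}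
    (hA : Axis p E t e₀) (ht : Nat.card (Subgroup.centralizer ({π t} : Set (R ⧸ E))) ≤ p ^ 2) :
    Cfsg.IsMetacyclic (R ⧸ E) := by
  haveI := hL.frame.norm
  haveI := hF.centralizer_normal
  have hp1 := hp.out
  have hQ := hR.to_quotient E
  set τ := π t with hτ
  have htp : τ ^ p ≠ 1 := fun e => hA.out (hnone t ((QuotientGroup.eq_one_iff _).1 (by
    rwa [hτ, ← map_pow] at e)))
  have hτp2 : orderOf τ = p ^ 2 ∧ Subgroup.centralizer ({τ} : Set (R ⧸ E)) = Subgroup.zpowers τ := by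
    have hle : Subgroup.zpowers τ ≤ Subgroup.centralizer ({τ} : Set (R ⧸ E)) :=
      Subgroup.zpowers_le.2 (Subgroup.mem_centralizer_singleton_iff.2 rfl)
    have h1 := Subgroup.card_le_of_le hle
    rw [Nat.card_zpowers] at h1
    obtain ⟨j, hj⟩ := IsPGroup.iff_orderOf.1 hQ τ
    have hj2 : 2 ≤ j := by
      by_contra hj2
      exact htp (orderOf_dvd_iff_pow_eq_one.1 (hj ▸ (pow_dvd_pow p (show j ≤ 1 by omega)).trans (by rw [pow_one])))
    have h2 : j ≤ 2 := (Nat.pow_le_pow_iff_right hp1.one_lt).1 (hj ▸ h1.trans ht)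
    have hj' : j = 2 := by omega
    refine ⟨hj' ▸ hj, (Subgroup.eq_of_le_of_card_ge hle ?_).symm⟩
    rw [Nat.card_zpowers, hj, hj']; exact ht
  -- the fixed points in the image of the centraliser
  have hfix : ∀ c ∈ Subgroup.centralizer (E : Set R), Commute τ (π c) → π c ∈ Subgroup.zpowers (τ ^ p) := by
    intro c hc hcm
    have h1 : π c ∈ Subgroup.zpowers τ := hτp2.2 ▸ Subgroup.mem_centralizer_singleton_iff.2 hcm.symm.eq
    obtain ⟨i, hi⟩ := h1
    obtain ⟨i', rfl⟩ : (p : ℤ) ∣ i := by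
      by_contra hnd
      have hco : IsCoprime i (p : ℤ) := ((Nat.prime_iff_prime_int.1 hp1).coprime_iff_not_dvd.2 hnd).symm
      obtain ⟨α, β, hαβ⟩ := hco
      refine hA.out ((mem_map_centralizer hF).1 ?_)
      have e : τ = (τ ^ i) ^ α * (τ ^ p) ^ β := by
        rw [← zpow_natCast, ← zpow_mul, ← zpow_mul, ← zpow_add, mul_comm i, mul_comm (p : ℤ), hαβ, zpow_one]
      rw [← hτ, e]
      refine mul_mem (zpow_mem (by rw [show τ ^ i = π c from hi]; exact Subgroup.mem_map_of_mem _ hc) _) (zpow_mem ?_ _)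
      rw [hτ, ← map_pow]
      exact Subgroup.mem_map_of_mem _ (hA.pow_mem_centralizer hF.centralizer_normal t)
    refine ⟨i', ?_⟩
    show (τ ^ p) ^ i' = _
    rw [← zpow_natCast, ← zpow_mul]; exact hi
  haveI : (Subgroup.map π (Subgroup.centralizer (E : Set R))).Normal :=
    Subgroup.Normal.map inferInstance _ (QuotientGroup.mk'_surjective E)
  have hAC : A ≤ Subgroup.map π (Subgroup.centralizer (E : Set R)) := by
    rw [← hL.cent]; exact hL.frame.le_centralizer
  by_cases hAeq : A = Subgroup.map π (Subgroup.centralizer (E : Set R))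
  · refine Fusion.metacyclic_of_cyclic_index_p hQ (Subgroup.zpowers τ) inferInstance ?_
    have h1 : Nat.card (R ⧸ E) = p ^ 3 := by
      rw [← Subgroup.card_mul_index A, hL.frame.card, hAeq, Subgroup.index_map_eq _ (QuotientGroup.mk'_surjective E)
        (by rw [QuotientGroup.ker_mk']; exact hF.le_centralizer), hA.index]
      ring
    have h2 := Subgroup.card_mul_index (Subgroup.zpowers τ)
    rw [Nat.card_zpowers, hτp2.1, h1, pow_succ p 2] at h2
    exact Nat.eq_of_mul_eq_mul_left (pow_pos hp1.pos 2) h2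
  exfalso
  obtain ⟨M, hMn, hAM, hMC, hMcard⟩ := Fusion.exists_normal_step hQ A _ (lt_of_le_of_ne hAC hAeq)
  haveI := hMn
  -- `M/A` is central
  have hcen : ∀ m ∈ M, ∀ g : R ⧸ E, ⁅m, g⁆ ∈ A := by
    intro m hm g
    have h1 : Nat.card (M.map (QuotientGroup.mk' A)) ≤ p := by
      have e1 := Subgroup.relIndex_comap (f := QuotientGroup.mk' A) ⊥ M
      rw [MonoidHom.comap_bot, QuotientGroup.ker_mk', Subgroup.relIndex_bot_left] at e1
      have e2 := Subgroup.relIndex_mul_relIndex ⊥ A M bot_le hAM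
      rw [Subgroup.relIndex_bot_left, Subgroup.relIndex_bot_left, hMcard] at e2
      rw [← e1, Nat.eq_of_mul_eq_mul_left Nat.card_pos e2]
    haveI : (M.map (QuotientGroup.mk' A)).Normal := Subgroup.Normal.map hMn _ (QuotientGroup.mk'_surjective A)
    have h2 := Fusion.le_center_of_card_prime (hQ.to_quotient A) _ h1 (Subgroup.mem_map_of_mem _ hm)
    rw [← QuotientGroup.eq_one_iff, ← QuotientGroup.mk'_apply, map_commutatorElement,
      commutatorElement_eq_one_iff_mul_comm]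
    exact (Subgroup.mem_center_iff.1 h2 _).symm
  obtain ⟨μ, hμM, hμA⟩ := SetLike.exists_of_lt (lt_of_le_of_ne hAM fun e => by
    rw [← e] at hMcard
    exact absurd hMcard (by
      have : 0 < Nat.card A := Nat.card_pos
      nlinarith [hp1.two_le]))
  obtain ⟨c, hc, rfl⟩ := hMC hμM
  have hδA : π (c⁻¹ * (t⁻¹ * c * t)) ∈ A := by
    have h1 := hcen _ (inv_mem hμM) τ⁻¹
    simp only [map_mul, map_inv]
    rwa [commutatorElement_def, inv_inv, inv_inv, mul_assoc, mul_assoc, ← mul_assoc τ⁻¹] at h1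
  set w := c⁻¹ * (t⁻¹ * c * t) with hw
  obtain ⟨hwC, hwp⟩ := hL.powmem w hδA
  have hct : t⁻¹ * c * t = c * w := by rw [hw]; group
  -- the line fixed in the layer
  set u := t ^ p with hu
  have huC : u ∈ Subgroup.centralizer (E : Set R) := hA.pow_mem_centralizer hF.centralizer_normal t
  have huA : π u ∈ A := hL.frame.key _ (by rw [hL.cent]; exact Subgroup.mem_map_of_mem _ huC) (by
    rw [hu, map_pow, ← pow_mul, ← pow_two, ← hτp2.1, pow_orderOf_eq_one])
  have huE : u ∉ E := fun e => hA.out (hnone t e)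
  have hupE : u ^ p ∈ E := (hL.powmem u huA).2
  have hufix : t⁻¹ * u * t = u := by
    rw [hu, mul_assoc, (Commute.pow_self t p).eq, inv_mul_cancel_left]
  have hup0 : u ^ p ∈ Subgroup.zpowers e₀ := hA.fixed _ hupE (by
    have e := conj_pow (a := t⁻¹) (b := u) (i := p)
    rw [inv_inv, hufix] at e
    exact e.symm)
  -- case split on the image of `w`
  by_cases hwL : w ^ p ∈ Subgroup.zpowers e₀
  · -- a fixed element of `M` outside `A`
    have hgen : Subgroup.zpowers (u ^ p) = Subgroup.zpowers e₀ := by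
      refine Subgroup.eq_of_le_of_card_ge (Subgroup.zpowers_le.2 hup0) ?_
      rw [Nat.card_zpowers, Nat.card_zpowers, orderOf_eq_prime (hA.zpow_pow hF hup0) (fun e => huE (hF.key _ huC e))]
      exact Nat.le_of_dvd hp1.pos (orderOf_dvd_of_pow_eq_one (hF.exp _ hA.mem))
    -- an element of `A` moved onto the line
    obtain ⟨e, he, hez⟩ : ∃ e ∈ E, e ∉ Subgroup.zpowers e₀ := by
      by_contra hcon
      push Not at hcon
      have h1 := Subgroup.card_le_of_le (show E ≤ Subgroup.zpowers e₀ from hcon)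
      rw [hF.card, Nat.card_zpowers] at h1
      have h2 := Nat.le_of_dvd hp1.pos (orderOf_dvd_of_pow_eq_one (hF.exp _ hA.mem))
      nlinarith [hp1.two_le]
    obtain ⟨b, hbA, hbe⟩ := hL.surj e he
    obtain ⟨hbC, -⟩ := hL.powmem b hbA
    set wb := b⁻¹ * (t⁻¹ * b * t) with hwb
    have hwbA : π wb ∈ A := by
      rw [hwb, map_mul, map_mul, map_mul, map_inv, map_inv]
      exact mul_mem (inv_mem hbA) (by simpa [hτ] using hL.frame.norm.conj_mem _ hbA τ⁻¹)
    obtain ⟨hwbC, hwbp⟩ := hL.powmem wb hwbA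
    have hbt : t⁻¹ * b * t = b * wb := by rw [hwb]; group
    have hwbpow : wb ^ p = e⁻¹ * (t⁻¹ * e * t) := by
      have h1 := hF.mul_pow hp2 hbC hwbC (hL.comm wb hwbA b hbC)
      have h2 := conj_pow (a := t⁻¹) (b := b) (i := p)
      rw [inv_inv] at h2
      rw [← hbt, h2, hbe] at h1
      rw [h1]; group
    have hwb0 : wb ^ p ∈ Subgroup.zpowers e₀ := hwbpow ▸ hA.delta he
    have hwb1 : wb ^ p ≠ 1 := fun h => hez (hA.fixed e he (inv_mul_eq_one.1 (hwbpow.symm.trans h)).symm)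
    have hgen' : Subgroup.zpowers (wb ^ p) = Subgroup.zpowers e₀ := by
      refine Subgroup.eq_of_le_of_card_ge (Subgroup.zpowers_le.2 hwb0) ?_
      rw [Nat.card_zpowers, Nat.card_zpowers, orderOf_eq_prime (hA.zpow_pow hF hwb0) hwb1]
      exact Nat.le_of_dvd hp1.pos (orderOf_dvd_of_pow_eq_one (hF.exp _ hA.mem))
    obtain ⟨i, hi⟩ := Subgroup.mem_zpowers_iff.1 (hgen'.ge hwL)
    have heq : π w = π wb ^ i := by
      have h1 : (wb ^ i) ^ p = w ^ p := by rw [← hi, ← zpow_natCast, ← zpow_mul, mul_comm, zpow_mul, zpow_natCast]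
      have h2 := (hF.pow_eq_iff hp2 (zpow_mem hwbC i) hwC (hL.comm w hδA _ (zpow_mem hwbC i))).1 h1
      rw [← map_zpow]
      exact ((QuotientGroup.eq (s := E)).2 h2).symm
    have hμ' : Commute τ (π c * π b ^ (-i)) := by
      have e1 : τ⁻¹ * (π c * π b ^ (-i)) * τ = (π c * π w) * (π b * π wb) ^ (-i) := by
        rw [← map_mul, ← hct, ← map_mul, ← hbt, map_mul, map_mul, map_inv, map_mul, map_mul, map_inv, ← hτ,
          show (τ⁻¹ * π b * τ) ^ (-i) = τ⁻¹ * π b ^ (-i) * τ by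
            have := (conj_zpow (a := τ⁻¹) (b := π b) (i := -i)); rwa [inv_inv] at this]
        group
      have hcom : Commute (π b) (π wb) := by
        rw [← commutatorElement_eq_one_iff_commute, ← map_commutatorElement]
        exact (QuotientGroup.eq_one_iff _).2 (hL.comm b hbA wb hwbC)
      rw [hcom.mul_zpow, heq, (hcom.zpow_zpow (-i) (-i)).eq, ← mul_assoc, ← mul_assoc, mul_assoc (π c),
        ← zpow_add, add_neg_cancel, zpow_zero, mul_one] at e1
      show τ * (π c * π b ^ (-i)) = π c * π b ^ (-i) * τ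
      calc τ * (π c * π b ^ (-i)) = τ * (τ⁻¹ * π c * π b ^ (-i) * τ) := by rw [e1]
        _ = π c * π b ^ (-i) * τ := by group
    have hc' : c * b ^ (-i) ∈ Subgroup.centralizer (E : Set R) := mul_mem hc (zpow_mem hbC _)
    have h3 := hfix _ hc' (by rw [map_mul, map_zpow]; exact hμ')
    refine hμA ?_
    have h4 : π (c * b ^ (-i)) ∈ A := (Subgroup.zpowers_le.2 (by rw [hτ, ← map_pow]; exact huA)) h3
    rw [map_mul, map_zpow] at h4
    exact (mul_mem_cancel_right (zpow_mem hbA _)).1 h4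
  · -- the `p`-th power of `c` lies on the fixed line, but is moved off it
    have hcpA : π (c ^ p) ∈ A := by
      have h1 : (QuotientGroup.mk' A) (π c) ^ p = 1 := by
        rw [← orderOf_dvd_iff_pow_eq_one]
        have h2 : (QuotientGroup.mk' A) (π c) ∈ M.map (QuotientGroup.mk' A) := Subgroup.mem_map_of_mem _ hμM
        have e1 := Subgroup.relIndex_comap (f := QuotientGroup.mk' A) ⊥ M
        rw [MonoidHom.comap_bot, QuotientGroup.ker_mk', Subgroup.relIndex_bot_left] at e1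
        have e2 := Subgroup.relIndex_mul_relIndex ⊥ A M bot_le hAM
        rw [Subgroup.relIndex_bot_left, Subgroup.relIndex_bot_left, hMcard] at e2
        have e3 := Nat.eq_of_mul_eq_mul_left Nat.card_pos e2
        rw [e1] at e3
        exact e3 ▸ Subgroup.orderOf_dvd_natCard _ h2
      rw [← map_pow] at h1
      rw [map_pow]
      exact (QuotientGroup.eq_one_iff _).1 h1
    have hcpw : t⁻¹ * c ^ p * t = c ^ p * w ^ p := by
      have h2 := conj_pow (a := t⁻¹) (b := c) (i := p)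
      rw [inv_inv] at h2
      rw [← h2, hct]
      exact hF.mul_pow hp2 hc hwC (hL.comm w hδA c hc)
    have h3 : π (c ^ p) ∈ Subgroup.zpowers (τ ^ p) := by
      refine hfix _ (pow_mem hc p) ?_
      have e1 := congrArg π hcpw
      rw [map_mul, map_mul, map_mul, map_inv, show π (w ^ p) = 1 from (QuotientGroup.eq_one_iff _).2 hwp, mul_one,
        ← hτ, mul_assoc, inv_mul_eq_iff_eq_mul] at e1
      exact e1.symm
    obtain ⟨j, hj⟩ := h3
    have he' : (u ^ j)⁻¹ * c ^ p ∈ E := by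
      rw [← QuotientGroup.eq (s := E)]
      change π (u ^ j) = π (c ^ p)
      rw [map_zpow, hu, map_pow, ← hτ]; exact hj
    have h4 := hA.delta he'
    have e1 : ((u ^ j)⁻¹ * c ^ p)⁻¹ * (t⁻¹ * ((u ^ j)⁻¹ * c ^ p) * t) = w ^ p := by
      have hz : t⁻¹ * u ^ j * t = u ^ j := by
        have := conj_zpow (a := t⁻¹) (b := u) (i := j)
        rw [inv_inv, hufix] at this
        exact this.symm
      calc _ = (c ^ p)⁻¹ * u ^ j * ((t⁻¹ * u ^ j * t)⁻¹ * (t⁻¹ * c ^ p * t)) := by group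
        _ = _ := by rw [hz, hcpw]; group
    exact hwL (e1 ▸ h4)

end Cfsg.Agent.Solv.RankTwo
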