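import Mathlib
import Cfsg.Agent.Lib.Solv.RankTwoLayer

/-!
`p`-groups of rank two whose centraliser of the frame is cyclic modulo the frame.
-/

set_option autoImplicit false
set_option linter.style.haveILetI false

open scoped commutatorElement

namespace Cfsg.Agent.Solv.RankTwo

open Cfsg.Agent

theorem dvd_sub_one_of_pow {p : ℕ} (hp : p.Prime) (hp2 : p ≠ 2) {a : ℤ} {k : ℕ}
    (h : (p : ℤ) ^ (k + 1) ∣ a ^ p - 1) : (p : ℤ) ∣ a - 1 ∧ (p : ℤ) ^ k ∣ a - 1 := by
  haveI := Fact.mk hp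
  have ha : (p : ℤ) ∣ a - 1 := by
    rw [← ZMod.intCast_zmod_eq_zero_iff_dvd]
    have h1 : ((a ^ p - 1 : ℤ) : ZMod p) = 0 :=
      (ZMod.intCast_zmod_eq_zero_iff_dvd _ _).2 ((dvd_pow_self _ k.succ_ne_zero).trans h)
    push_cast at h1 ⊢
    rwa [ZMod.pow_card] at h1
  refine ⟨ha, ?_⟩
  obtain ⟨b, hb⟩ := ha
  have hmod : ∀ i : ℕ, ∃ c : ℤ, a ^ i = 1 + i * (p * b) + p ^ 2 * c := fun i => by
    induction i with
    | zero => exact ⟨0, by simp⟩
    | succ i ih =>
      obtain ⟨c, hc⟩ := ih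
      refine ⟨c + c * (p * b) + i * b * b, ?_⟩
      rw [pow_succ, hc, show a = 1 + p * b by omega]
      push_cast
      ring
  choose c hc using hmod
  obtain ⟨d, hd⟩ := hp.dvd_choose_self (k := 2) two_ne_zero (lt_of_le_of_ne hp.two_le (Ne.symm hp2))
  have hsum : ∑ i ∈ Finset.range p, a ^ i = p * (1 + p * (b * d + ∑ i ∈ Finset.range p, c i)) := by
    have h2 : (∑ i ∈ Finset.range p, (i : ℤ)) = p * d := by
      have h3 := Finset.sum_range_id p
      rw [← Nat.choose_two_right, hd] at h3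
      rw [← Nat.cast_sum, h3]; push_cast; ring
    simp only [hc, Finset.sum_add_distrib, ← Finset.sum_mul, ← Finset.mul_sum, h2, Finset.sum_const, Finset.card_range,
      nsmul_eq_mul, mul_one]
    ring
  rw [← mul_geom_sum, hsum, pow_succ', mul_left_comm] at h
  have h4 := Int.dvd_of_mul_dvd_mul_left (by exact_mod_cast hp.ne_zero) h
  refine (IsCoprime.pow_left ?_).dvd_of_dvd_mul_right h4
  exact ⟨-(b * d + ∑ i ∈ Finset.range p, c i), 1, by ring⟩

variable {R : Type*} [Group R] [Finite R] {p : ℕ} [hp : Fact p.Prime] {E : Subgroup R} [E.Normal]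

/-- the data in the cyclic case -/
structure CycData (p : ℕ) (E : Subgroup R) (x e₀ z : R) (k : ℕ) (w d : R) : Prop where
  mem : z ∈ Subgroup.centralizer (E : Set R)
  top : z ^ p ^ k ∈ Subgroup.zpowers e₀
  top_ne : z ^ p ^ k ≠ 1
  card : Nat.card R = p ^ (k + 3)
  form : ∀ c ∈ Subgroup.centralizer (E : Set R), ∃ (i : ℤ) (e : R), e ∈ E ∧ c = z ^ i * e
  comm : ∀ a ∈ Subgroup.centralizer (E : Set R), ∀ b ∈ Subgroup.centralizer (E : Set R), Commute a b
  wmem : w ∈ E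
  dmem : d ∈ Subgroup.zpowers e₀
  hw : x⁻¹ * z * x = z * w
  hd : x⁻¹ * w * x = w * d

theorem exists_cycData (hp2 : p ≠ 2) (hR : IsPGroup p R) (hF : Frame p E) {x e₀ : R} (hA : Axis p E x e₀)
    (hcyc : IsCyclic (Subgroup.map (QuotientGroup.mk' E) (Subgroup.centralizer (E : Set R)))) :
    ∃ z k w d, CycData p E x e₀ z k w d := by
  set C := Subgroup.centralizer (E : Set R) with hC
  set π := QuotientGroup.mk' E with hπ
  have hp1 := hp.out
  obtain ⟨k, hk⟩ := ((hR.to_quotient E).to_subgroup (C.map π)).exists_card_eq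
  have hcard : Nat.card R = p ^ (k + 3) := by
    have e1 := Subgroup.relIndex_comap (f := π) ⊥ C
    rw [MonoidHom.comap_bot, hπ, QuotientGroup.ker_mk', Subgroup.relIndex_bot_left, ← hπ, hk] at e1
    have e2 := Subgroup.relIndex_mul_relIndex ⊥ E C bot_le hF.le_centralizer
    rw [Subgroup.relIndex_bot_left, Subgroup.relIndex_bot_left, hF.card, e1] at e2
    rw [← Subgroup.card_mul_index C, hA.index, ← e2]
    ring
  obtain ⟨⟨zv, hzv⟩, hgen⟩ := hcyc.exists_generator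
  obtain ⟨z, hzC, rfl⟩ := hzv
  have hform : ∀ c ∈ C, ∃ (i : ℤ) (e : R), e ∈ E ∧ c = z ^ i * e := by
    intro c hc
    obtain ⟨i, hi⟩ := hgen ⟨π c, Subgroup.mem_map_of_mem _ hc⟩
    refine ⟨i, (z ^ i)⁻¹ * c, ?_, by group⟩
    refine (QuotientGroup.eq_one_iff _).1 ?_
    change π ((z ^ i)⁻¹ * c) = 1
    rw [map_mul, map_inv, map_zpow, inv_mul_eq_one]
    exact congrArg Subtype.val hi
  have hcomm : ∀ a ∈ C, ∀ b ∈ C, Commute a b := by
    intro a ha b hb
    obtain ⟨i, e, he, rfl⟩ := hform a ha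
    obtain ⟨j, f, hf, rfl⟩ := hform b hb
    have hze : ∀ e ∈ E, ∀ i : ℤ, Commute (z ^ i) e := fun e he i =>
      (show Commute z e from (Subgroup.mem_centralizer_iff.1 hzC e he).symm).zpow_left i
    exact ((Commute.zpow_zpow_self z i j).mul_right (hze f hf i)).mul_left
      ((hze e he j).symm.mul_right (hF.comm e he f hf))
  have hord : orderOf (π z) = p ^ k := by
    rw [← hk, ← orderOf_eq_card_of_forall_mem_zpowers hgen, ← Subgroup.orderOf_coe]
  rcases Nat.eq_zero_or_pos k with rfl | hk0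
  · refine ⟨e₀, 0, 1, 1, hF.le_centralizer hA.mem, by rw [pow_zero, pow_one]; exact Subgroup.mem_zpowers _,
      by rw [pow_zero, pow_one]; exact hA.ne, hcard, fun c hc => ?_, hcomm, one_mem E, one_mem _,
      by rw [mul_one]; exact hA.zpow_fixed (Subgroup.mem_zpowers _), by group⟩
    refine ⟨0, c, ?_, by simp⟩
    have hb : C.map π = ⊥ := Subgroup.card_eq_one.1 (by rw [hk, pow_zero])
    exact (QuotientGroup.eq_one_iff c).1 (Subgroup.mem_bot.1 (hb.le (Subgroup.mem_map_of_mem π hc)))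
  obtain ⟨m, rfl⟩ : ∃ m, k = m + 1 := ⟨k - 1, by omega⟩
  haveI := hF.centralizer_normal
  have hσC : ∀ c ∈ C, x⁻¹ * c * x ∈ C := fun c hc => by
    have := Subgroup.Normal.conj_mem (inferInstance : C.Normal) c hc x⁻¹
    rwa [inv_inv] at this
  obtain ⟨a, e', he', hae⟩ := hform _ (hσC z hzC)
  -- `a^p` is congruent to one
  have hiter : ∀ i : ℕ, π ((x ^ i)⁻¹ * z * x ^ i) = π z ^ (a ^ i) := fun i => by
    induction i with
    | zero => simp
    | succ i ih =>
      have e1 : (x ^ (i + 1))⁻¹ * z * x ^ (i + 1) = x⁻¹ * ((x ^ i)⁻¹ * z * x ^ i) * x := by rw [pow_succ]; group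
      have e2 : (π x)⁻¹ * π z * π x = π z ^ a := by
        rw [← map_inv, ← map_mul, ← map_mul, hae, map_mul, map_zpow, show π e' = 1 from (QuotientGroup.eq_one_iff _).2 he',
          mul_one]
      have e3 := conj_zpow (a := (π x)⁻¹) (b := π z) (i := a ^ i)
      rw [inv_inv] at e3
      rw [e1, map_mul, map_mul, map_inv, ih, ← e3, e2, ← zpow_mul, pow_succ' a]
  have hxC := hA.pow_mem_centralizer hF.centralizer_normal x
  have hap : (p : ℤ) ^ (m + 1) ∣ a ^ p - 1 := by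
    have h1 := hiter p
    rw [mul_assoc, (hcomm z hzC _ hxC).eq, inv_mul_cancel_left] at h1
    have h2 : π z ^ (a ^ p - 1) = 1 := by rw [zpow_sub_one, ← h1, mul_inv_cancel]
    rw [← orderOf_dvd_iff_zpow_eq_one, hord] at h2
    exact_mod_cast h2
  obtain ⟨⟨b, hb⟩, ⟨i, hi⟩⟩ := dvd_sub_one_of_pow hp1 hp2 hap
  set w := z⁻¹ * (x⁻¹ * z * x) with hw
  have hwz : w = z ^ (a - 1) * e' := by
    rw [hw, hae, ← mul_assoc, ← zpow_neg_one, ← zpow_add, neg_add_eq_sub]
  have hwC : w ∈ C := mul_mem (inv_mem hzC) (hσC z hzC)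
  have hzp : z ^ p ^ (m + 1) ∈ E := by
    refine (QuotientGroup.eq_one_iff _).1 ?_
    change π (z ^ p ^ (m + 1)) = 1
    rw [map_pow, ← hord, pow_orderOf_eq_one]
  set u := z ^ p ^ m with hu
  have huE : u ∉ E := fun h => by
    have h1 : π z ^ p ^ m = 1 := by rw [← map_pow]; exact (QuotientGroup.eq_one_iff _).2 h
    have := orderOf_dvd_of_pow_eq_one h1
    rw [hord, Nat.pow_dvd_pow_iff_le_right hp1.one_lt] at this
    omega
  have hup : u ^ p = z ^ p ^ (m + 1) := by rw [hu, ← pow_mul, ← pow_succ]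
  have hne : z ^ p ^ (m + 1) ≠ 1 := fun h => huE (hF.key _ (pow_mem hzC _) (hup.trans h))
  have hwi : w = u ^ i * e' := by rw [hwz, hi, hu, ← zpow_natCast, ← zpow_mul]; push_cast; rfl
  have hwp : w ^ p = (z ^ p ^ (m + 1)) ^ i := by
    rw [hwi, (hcomm _ (zpow_mem (pow_mem hzC _) _) _ (hF.le_centralizer he')).mul_pow, hF.exp _ he', mul_one,
      ← zpow_natCast (u ^ i), ← zpow_mul, mul_comm, zpow_mul, zpow_natCast, hup]
  have hwE0 : m = 0 → w ∈ E := by
    rintro rfl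
    rw [hwz, hb, zpow_mul, zpow_natCast]
    exact mul_mem (zpow_mem (by simpa using hzp) _) he'
  have hwpk : w ^ p ^ (m + 1) = 1 := by
    rcases Nat.eq_zero_or_pos m with rfl | hm0
    · simpa using hF.exp _ (hwE0 rfl)
    · obtain ⟨m', rfl⟩ : ∃ m', m = m' + 1 := ⟨m - 1, by omega⟩
      rw [pow_succ' p, pow_mul, hwp, pow_succ' p (m'), pow_mul, hF.exp _ (zpow_mem hzp i), one_pow]
  have hσz : x⁻¹ * z * x = z * w := by rw [hw]; group
  have hσpow : ∀ n : ℕ, x⁻¹ * z ^ n * x = z ^ n * w ^ n := fun n => by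
    have := conj_pow (a := x⁻¹) (b := z) (i := n)
    rw [inv_inv] at this
    rw [← this, hσz, (hcomm z hzC w hwC).mul_pow]
  have htop : z ^ p ^ (m + 1) ∈ Subgroup.zpowers e₀ :=
    hA.fixed _ hzp (by rw [hσpow, hwpk, mul_one])
  have hwp0 : w ^ p ∈ Subgroup.zpowers e₀ := hwp ▸ zpow_mem htop i
  set d := w⁻¹ * (x⁻¹ * w * x) with hd
  have hd0 : d ∈ Subgroup.zpowers e₀ := by
    rcases Nat.eq_zero_or_pos m with hm0 | hm0
    · exact hA.delta (hwE0 hm0)
    · obtain ⟨m', rfl⟩ : ∃ m', m = m' + 1 := ⟨m - 1, by omega⟩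
      have h1 : w ^ p ^ (m' + 1) ∈ Subgroup.zpowers e₀ := by rw [pow_succ' p, pow_mul]; exact pow_mem hwp0 _
      have e1 := conj_zpow (a := x⁻¹) (b := u) (i := i)
      rw [inv_inv] at e1
      have hwm : Commute (w ^ p ^ (m' + 1)) u := hcomm _ (pow_mem hwC _) _ (pow_mem hzC _)
      have e2 : d = (w ^ p ^ (m' + 1)) ^ i * (e'⁻¹ * (x⁻¹ * e' * x)) := by
        rw [hd]
        conv_lhs => rw [hwi]
        calc (u ^ i * e')⁻¹ * (x⁻¹ * (u ^ i * e') * x) = e'⁻¹ * ((u ^ i)⁻¹ * (x⁻¹ * u ^ i * x)) * (x⁻¹ * e' * x) := by group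
          _ = e'⁻¹ * (w ^ p ^ (m' + 1)) ^ i * (x⁻¹ * e' * x) := by
            rw [← e1, hu, hσpow, ← hu, hwm.symm.mul_zpow, inv_mul_cancel_left]
          _ = _ := by
            rw [(hcomm _ (inv_mem (hF.le_centralizer he')) _ (zpow_mem (pow_mem hwC _) i)).eq, mul_assoc]
      rw [e2]
      exact mul_mem (zpow_mem h1 i) (hA.delta he')
  have hdE : d ∈ E := Subgroup.zpowers_le.2 hA.mem hd0
  have h := conj_iter hσz (show x⁻¹ * w * x = w * d by rw [hd]; group)
    (show x⁻¹ * d * x = d * 1 by rw [mul_one]; exact hA.zpow_fixed hd0) (show x⁻¹ * (1 : R) * x = 1 by group)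
    (hcomm w hwC d (hF.le_centralizer hdE)) (Commute.one_right w) (Commute.one_right d) p
  rw [mul_assoc, (hcomm z hzC _ hxC).eq, inv_mul_cancel_left, choose_two_zero hp1 hp2 (hF.exp _ hdE), one_pow, mul_one,
    mul_one, left_eq_mul] at h
  exact ⟨z, m + 1, w, d, hzC, htop, hne, hcard, hform, hcomm, hF.key w hwC h, hd0, hσz, by rw [hd]; group⟩

theorem cyclic_none (hp2 : p ≠ 2) (hR : IsPGroup p R) (hF : Frame p E) {x e₀ : R} (hA : Axis p E x e₀)
    (hcyc : IsCyclic (Subgroup.map (QuotientGroup.mk' E) (Subgroup.centralizer (E : Set R))))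
    (hnone : ∀ g : R, g ^ p = 1 → g ∈ E) :
    Cfsg.IsMetacyclic R ∨ (p = 3 ∧ ∃ t : R, t ∉ Subgroup.centralizer (E : Set R) ∧
      Nat.card (Subgroup.centralizer ({t} : Set R)) ≤ p ^ 2) := by
  obtain ⟨z, k, w, d, hD⟩ := exists_cycData hp2 hR hF hA hcyc
  have hp1 := hp.out
  have hxne : ∀ y : R, y ∉ Subgroup.centralizer (E : Set R) → y ^ p ≠ 1 := fun y hy h =>
    hy (hF.le_centralizer (hnone y h))
  have hindex : ∀ y : R, y ^ p ^ (k + 1) ≠ 1 → Cfsg.IsMetacyclic R := by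
    intro y hy
    by_cases hyt : Subgroup.zpowers y = ⊤
    · exact ⟨Subgroup.zpowers y, by rw [hyt]; infer_instance, inferInstance,
        haveI : Subsingleton (R ⧸ Subgroup.zpowers y) := by rw [hyt]; exact QuotientGroup.subsingleton_quotient_top
        inferInstance⟩
    obtain ⟨j, hj⟩ := IsPGroup.iff_orderOf.1 hR y
    have h1 : k + 2 ≤ j := by
      by_contra hcon
      exact hy (orderOf_dvd_iff_pow_eq_one.1 (hj ▸ pow_dvd_pow p (by omega)))
    have h2 : j < k + 3 := by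
      by_contra hcon
      refine hyt (Subgroup.eq_top_of_le_card _ ?_)
      rw [Nat.card_zpowers, hj, hD.card]
      exact Nat.pow_le_pow_right hp1.pos (by omega)
    refine Fusion.metacyclic_of_cyclic_index_p hR (Subgroup.zpowers y) inferInstance ?_
    have h3 := Subgroup.card_mul_index (Subgroup.zpowers y)
    rw [Nat.card_zpowers, hj, hD.card, show j = k + 2 by omega, pow_succ p (k + 2)] at h3
    exact Nat.eq_of_mul_eq_mul_left (pow_pos hp1.pos _) h3
  rcases Nat.eq_zero_or_pos k with rfl | hk0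
  · exact Or.inl (hindex x (by rw [zero_add, pow_one]; exact hxne x hA.out))
  haveI := hF.centralizer_normal
  obtain ⟨i, e, he, hxe⟩ := hD.form _ (hA.pow_mem_centralizer hF.centralizer_normal x)
  have hwC := hF.le_centralizer hD.wmem
  have hzpow : ∀ n : ℤ, x⁻¹ * z ^ n * x = z ^ n * w ^ n := fun n => by
    have := conj_zpow (a := x⁻¹) (b := z) (i := n)
    rw [inv_inv] at this
    rw [← this, hD.hw, (hD.comm z hD.mem w hwC).mul_zpow]
  have hfix : w ^ i * (e⁻¹ * (x⁻¹ * e * x)) = 1 := by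
    have h1 : x⁻¹ * (z ^ i * e) * x = z ^ i * e := by
      rw [← hxe, mul_assoc, (Commute.pow_self x p).eq, inv_mul_cancel_left]
    rw [show x⁻¹ * (z ^ i * e) * x = (x⁻¹ * z ^ i * x) * (x⁻¹ * e * x) by group, hzpow, mul_assoc,
      mul_right_inj] at h1
    rw [← mul_assoc, (hD.comm _ (zpow_mem hwC i) _ (inv_mem (hF.le_centralizer he))).eq, mul_assoc, h1, inv_mul_cancel]
  by_cases hpi : (p : ℤ) ∣ i
  swap
  · refine Or.inl (hindex x ?_)
    rw [pow_succ' p, pow_mul, hxe, (hD.comm _ (zpow_mem hD.mem i) _ (hF.le_centralizer he)).mul_pow]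
    obtain ⟨k', rfl⟩ : ∃ k', k = k' + 1 := ⟨k - 1, by omega⟩
    rw [show e ^ p ^ (k' + 1) = 1 by rw [pow_succ' p, pow_mul, hF.exp _ he, one_pow], mul_one, ← zpow_natCast (z ^ i),
      ← zpow_mul, mul_comm, zpow_mul, zpow_natCast]
    intro h
    have h1 : ((orderOf (z ^ p ^ (k' + 1)) : ℕ) : ℤ) ∣ i := orderOf_dvd_iff_zpow_eq_one.2 h
    rw [orderOf_eq_prime (hA.zpow_pow hF hD.top) hD.top_ne] at h1
    exact hpi h1
  obtain ⟨i', rfl⟩ := hpi
  have hwi : w ^ ((p : ℤ) * i') = 1 := by rw [zpow_mul, zpow_natCast, hF.exp _ hD.wmem, one_zpow]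
  rw [hwi, one_mul, inv_mul_eq_one] at hfix
  have he0 : e ∈ Subgroup.zpowers e₀ := hA.fixed e he hfix.symm
  have hgen : Subgroup.zpowers (z ^ p ^ k) = Subgroup.zpowers e₀ := by
    refine Subgroup.eq_of_le_of_card_ge (Subgroup.zpowers_le.2 hD.top) ?_
    rw [Nat.card_zpowers, Nat.card_zpowers, orderOf_eq_prime (hA.zpow_pow hF hD.top) hD.top_ne,
      orderOf_eq_prime (hF.exp _ hA.mem) hA.ne]
  obtain ⟨r, hr⟩ := Subgroup.mem_zpowers_iff.1 (hgen.ge he0)
  obtain ⟨k', rfl⟩ : ∃ k', k = k' + 1 := ⟨k - 1, by omega⟩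
  -- `x ^ p` is the `p`-th power of an element of `⟨z⟩`
  set j : ℤ := i' + (p : ℤ) ^ k' * r with hj
  have hxj : x ^ p = z ^ ((p : ℤ) * j) := by
    rw [hxe, ← hr, ← zpow_natCast z (p ^ (k' + 1)), ← zpow_mul, ← zpow_add, hj]
    push_cast
    congr 1
    ring
  -- changing the representative
  have hprod : ∀ n : ℤ, (x * z ^ n) ^ p = x ^ p * (z ^ ((p : ℤ) * n) * (d ^ n) ^ p.choose 3) := by
    intro n
    have hdn : x⁻¹ * d ^ n * x = d ^ n := hA.zpow_fixed (zpow_mem hD.dmem n)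
    have hdC := hF.le_centralizer (Subgroup.zpowers_le.2 hA.mem hD.dmem)
    have hwn : x⁻¹ * w ^ n * x = w ^ n * d ^ n := by
      have := conj_zpow (a := x⁻¹) (b := w) (i := n)
      rw [inv_inv] at this
      rw [← this, hD.hd, (hD.comm w hwC d hdC).mul_zpow]
    rw [mul_pow_iter (hzpow n) hwn hdn (hD.comm _ (zpow_mem hD.mem n) _ (zpow_mem hwC n))
      (hD.comm _ (zpow_mem hD.mem n) _ (zpow_mem hdC n)) (hD.comm _ (zpow_mem hwC n) _ (zpow_mem hdC n)) p,
      choose_two_zero hp1 hp2 (hF.exp _ (zpow_mem hD.wmem n)), mul_one, ← zpow_natCast (z ^ n), ← zpow_mul, mul_comm n]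
  have hout : ∀ n : ℤ, x * z ^ n ∉ Subgroup.centralizer (E : Set R) := fun n h =>
    hA.out ((mul_mem_cancel_right (zpow_mem hD.mem n)).1 h)
  have h0 := hprod (-j)
  rw [hxj, ← mul_assoc, ← zpow_add, mul_neg, add_neg_cancel, zpow_zero, one_mul] at h0
  have hp3 : p = 3 := by
    by_contra hne
    refine hxne _ (hout (-j)) ?_
    rw [h0]
    exact choose_three_zero hp1 (by rcases hp1.two_le.lt_or_eq with h | h <;> omega)
      (hA.zpow_pow hF (zpow_mem hD.dmem _))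
  subst hp3
  rw [show Nat.choose 3 3 = 1 from rfl, pow_one] at h0
  rcases Nat.eq_zero_or_pos k' with hk'0 | hk'0
  · -- order `81`
    subst hk'0
    refine Or.inr ⟨rfl, x * z ^ (-j), hout _, ?_⟩
    obtain ⟨e₀', hA'⟩ := exists_axis hR hF (hout (-j))
    refine card_centralizer_le hR hF hA' fun c hc hcx => ?_
    have hfixc : x⁻¹ * c * x = c := by
      have h1 : x * z ^ (-j) * c = x * c * z ^ (-j) := by
        rw [mul_assoc, (hD.comm _ (zpow_mem hD.mem _) c hc).eq, mul_assoc]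
      rw [← hcx.eq] at h1
      have h2 : c * x = x * c := by
        apply mul_right_cancel (b := z ^ (-j))
        rw [mul_assoc, h1]
      rw [mul_assoc, h2, inv_mul_cancel_left]
    obtain ⟨a, f, hf, rfl⟩ := hD.form c hc
    rw [show x⁻¹ * (z ^ a * f) * x = (x⁻¹ * z ^ a * x) * (x⁻¹ * f * x) by group, hzpow, mul_assoc, mul_right_inj] at hfixc
    have hwout : w ∉ Subgroup.zpowers e₀ := fun hw0 => by
      refine hxne _ (hout (-j)) ?_
      have hd1 : d = 1 := by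
        have := hD.hd
        rwa [hA.zpow_fixed hw0, left_eq_mul] at this
      rw [h0, hd1, one_zpow]
    have hwa : w ^ a ∈ Subgroup.zpowers e₀ := by
      have e1 : w ^ a = (f⁻¹ * (x⁻¹ * f * x))⁻¹ := by
        refine eq_inv_of_mul_eq_one_left ?_
        rw [← mul_assoc, (hD.comm _ (zpow_mem hwC a) _ (inv_mem (hF.le_centralizer hf))).eq, mul_assoc, hfixc, inv_mul_cancel]
      rw [e1]; exact inv_mem (hA.delta hf)
    have h3a : (3 : ℤ) ∣ a := by
      by_contra hnd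
      have hco : IsCoprime a (3 : ℤ) := (((by norm_num : Prime (3 : ℤ))).coprime_iff_not_dvd.2 hnd).symm
      obtain ⟨α, β, hαβ⟩ := hco
      refine hwout ?_
      have e1 : w = (w ^ a) ^ α * (w ^ (3 : ℤ)) ^ β := by
        rw [← zpow_mul, ← zpow_mul, ← zpow_add, mul_comm a, mul_comm (3 : ℤ), hαβ, zpow_one]
      rw [e1, show w ^ (3 : ℤ) = 1 from (zpow_natCast w 3).trans (hF.exp _ hD.wmem), one_zpow, mul_one]
      exact zpow_mem hwa α
    obtain ⟨a', rfl⟩ := h3a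
    have hwa1 : w ^ ((3 : ℤ) * a') = 1 := by rw [zpow_mul, show w ^ (3 : ℤ) = 1 from (zpow_natCast w 3).trans (hF.exp _ hD.wmem), one_zpow]
    rw [hwa1, one_mul] at hfixc
    have hza : z ^ ((3 : ℤ) * a') ∈ Subgroup.zpowers e₀ := by
      rw [zpow_mul]; exact zpow_mem (by simpa using hD.top) _
    refine hA'.fixed _ (mul_mem (Subgroup.zpowers_le.2 hA.mem hza) hf) ?_
    rw [mul_assoc, hcx.eq, inv_mul_cancel_left]
  · -- an element of order three appears
    exfalso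
    obtain ⟨k'', rfl⟩ : ∃ k'', k' = k'' + 1 := ⟨k' - 1, by omega⟩
    obtain ⟨s, hs⟩ := Subgroup.mem_zpowers_iff.1 (hgen.ge (zpow_mem hD.dmem (-j)))
    -- shift by a power killing the remainder
    refine hxne _ (hout (-j + -((3 : ℤ) ^ (k'' + 1) * s))) ?_
    rw [hprod, show Nat.choose 3 3 = 1 from rfl, pow_one, hxj]
    have hd3 : d ^ (3 : ℤ) = 1 := (zpow_natCast d 3).trans (hA.zpow_pow hF hD.dmem)
    have e1 : d ^ (-j + -((3 : ℤ) ^ (k'' + 1) * s)) = d ^ (-j) := by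
      rw [zpow_add, show -((3 : ℤ) ^ (k'' + 1) * s) = 3 * -((3 : ℤ) ^ k'' * s) by ring, zpow_mul d 3, hd3, one_zpow, mul_one]
    rw [e1, ← hs, ← mul_assoc, ← zpow_add, ← zpow_natCast z (3 ^ (k'' + 1 + 1)), ← zpow_mul, ← zpow_add]
    push_cast
    rw [show (3 : ℤ) * j + 3 * (-j + -(3 ^ (k'' + 1) * s)) + 3 ^ (k'' + 1 + 1) * s = 0 by ring, zpow_zero]

end Cfsg.Agent.Solv.RankTwo
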