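import Mathlib
import Cfsg.Agent.Lib.Solv.RankTwoAxis

/-!
Metacyclicity passes up from the quotient by the frame.
-/

set_option autoImplicit false
set_option linter.style.haveILetI false

open scoped commutatorElement

namespace Cfsg.Agent.Solv.RankTwo

open Cfsg.Agent

variable {R : Type*} [Group R] [Finite R] {p : ℕ} [hp : Fact p.Prime]

/-- products of two `p`-th powers -/
theorem pow_mul_pow (hp2 : p ≠ 2) (hR : IsPGroup p R) {c : R}
    (hder : ∀ g h : R, ⁅g, h⁆ ∈ Subgroup.zpowers c) (g h : R) : ∃ k : R, k ^ p = g ^ p * h ^ p := by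
  induction hn : orderOf ⁅h, g⁆ using Nat.strong_induction_on generalizing g h with
  | _ n ih =>
    subst hn
    set u := ⁅h, g⁆ with hu
    by_cases h1 : u = 1
    · refine ⟨g * h, ?_⟩
      rw [hu, commutatorElement_eq_one_iff_commute] at h1
      rw [h1.symm.mul_pow]
    haveI : (Subgroup.zpowers c).Normal := ⟨fun y hy a => by
      rw [show a * y * a⁻¹ = ⁅a, y⁆ * y by rw [commutatorElement_def]; group]
      exact mul_mem (hder a y) hy⟩
    haveI hN : (Subgroup.zpowers (u ^ p)).Normal :=
      normal_of_le_cyclic (Subgroup.zpowers_le.2 (pow_mem (hder h g) p))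
    let π := QuotientGroup.mk' (Subgroup.zpowers (u ^ p))
    have hup : (π u) ^ p = 1 := by rw [← map_pow]; exact (QuotientGroup.eq_one_iff _).2 (Subgroup.mem_zpowers _)
    have hucen : ∀ y, Commute (π u) y := by
      haveI : (Subgroup.zpowers u).Normal := normal_of_le_cyclic (Subgroup.zpowers_le.2 (hder h g))
      haveI hM : ((Subgroup.zpowers u).map π).Normal :=
        Subgroup.Normal.map inferInstance _ (QuotientGroup.mk'_surjective _)
      have hc : Nat.card ((Subgroup.zpowers u).map π) ≤ p := by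
        rw [MonoidHom.map_zpowers, Nat.card_zpowers]
        exact Nat.le_of_dvd hp.out.pos (orderOf_dvd_of_pow_eq_one hup)
      have h2 := Fusion.le_center_of_card_prime (hR.to_quotient _) ((Subgroup.zpowers u).map π) hc
        (Subgroup.mem_map_of_mem _ (Subgroup.mem_zpowers u))
      exact fun y => (Subgroup.mem_center_iff.1 h2 y).symm
    have hq : (π g * π h) ^ p = π g ^ p * π h ^ p := by
      have e : ⁅π h, π g⁆ = π u := (map_commutatorElement π h g).symm
      rw [Fusion.mul_pow_of_central (e ▸ hucen _) (e ▸ hucen _), e]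
      obtain ⟨k, hk⟩ := hp.out.dvd_choose_self (k := 2) two_ne_zero (lt_of_le_of_ne hp.out.two_le (Ne.symm hp2))
      rw [hk, pow_mul, hup, one_pow, mul_one]
    rw [← map_mul, ← map_pow, ← map_pow, ← map_pow, ← map_mul] at hq
    obtain ⟨i, hi⟩ := (QuotientGroup.eq.1 hq : ((g * h) ^ p)⁻¹ * (g ^ p * h ^ p) ∈ Subgroup.zpowers (u ^ p))
    have e2 : g ^ p * h ^ p = (g * h) ^ p * (u ^ i) ^ p := by
      have hi' : (u ^ p) ^ i = ((g * h) ^ p)⁻¹ * (g ^ p * h ^ p) := hi
      rw [← zpow_natCast (u ^ i), ← zpow_mul, mul_comm i, zpow_mul, zpow_natCast, hi', mul_inv_cancel_left]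
    rw [e2]
    refine ih _ ?_ _ _ rfl
    have hmem : ⁅u ^ i, g * h⁆ ∈ Subgroup.zpowers (u ^ p) := by
      rw [← QuotientGroup.eq_one_iff]
      change π ⁅u ^ i, g * h⁆ = 1
      rw [map_commutatorElement, map_zpow, commutatorElement_eq_one_iff_commute]
      exact (hucen _).zpow_left i
    obtain ⟨k, hk⟩ := IsPGroup.iff_orderOf.1 hR u
    have hk0 : k ≠ 0 := fun e => h1 (by rw [e, pow_zero, orderOf_eq_one_iff] at hk; exact hk)
    have hlt : orderOf (u ^ p) < orderOf u := by
      rw [orderOf_pow_of_dvd hp.out.ne_zero (hk ▸ dvd_pow_self p hk0)]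
      exact Nat.div_lt_self (orderOf_pos u) hp.out.one_lt
    exact lt_of_le_of_lt (Nat.le_of_dvd (orderOf_pos _) (orderOf_dvd_of_mem_zpowers hmem)) hlt
where
  normal_of_le_cyclic {c : R} {K : Subgroup R} [(Subgroup.zpowers c).Normal] (hK : K ≤ Subgroup.zpowers c) : K.Normal := by
    refine ⟨fun y hy a => ?_⟩
    obtain ⟨j, hj⟩ := Subgroup.mem_zpowers_iff.1 (hK hy)
    obtain ⟨l, hl⟩ := Subgroup.mem_zpowers_iff.1
      (Subgroup.Normal.conj_mem (inferInstance : (Subgroup.zpowers c).Normal) c (Subgroup.mem_zpowers c) a)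
    have : a * y * a⁻¹ = y ^ l := by rw [← hj, ← conj_zpow, ← hl, ← zpow_mul, ← zpow_mul, mul_comm]
    rw [this]
    exact zpow_mem hy l

theorem generators_quot {R : Type*} [Group R] {g h : R} [(Subgroup.zpowers g).Normal]
    (hgh : Subgroup.closure ({g, h} : Set R) = ⊤) : IsCyclic (R ⧸ Subgroup.zpowers g) := by
  refine ⟨QuotientGroup.mk h, fun v => ?_⟩
  obtain ⟨w, rfl⟩ := QuotientGroup.mk'_surjective _ v
  have hle : Subgroup.closure ({g, h} : Set R) ≤
      (Subgroup.zpowers (QuotientGroup.mk' (Subgroup.zpowers g) h)).comap (QuotientGroup.mk' _) := by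
    rw [Subgroup.closure_le]
    rintro w (rfl | rfl)
    · rw [SetLike.mem_coe, Subgroup.mem_comap,
        show QuotientGroup.mk' (Subgroup.zpowers w) w = 1 from (QuotientGroup.eq_one_iff _).2 (Subgroup.mem_zpowers w)]
      exact one_mem _
    · exact Subgroup.mem_zpowers _
  exact hle (hgh ▸ Subgroup.mem_top w)

/-- two generators and a cyclic derived group generated by a product of two `p`-th powers -/
theorem metacyclic_of_two_gen (hp2 : p ≠ 2) (hR : IsPGroup p R) {a b c g₀ h₀ : R}
    (hgen : Subgroup.closure ({a, b} : Set R) = ⊤) (hder : ∀ g h : R, ⁅g, h⁆ ∈ Subgroup.zpowers c)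
    (hc : c = g₀ ^ p * h₀ ^ p) : Cfsg.IsMetacyclic R := by
  classical
  obtain ⟨g, hcg', hmax⟩ := Set.exists_max_image {g : R | c ∈ Subgroup.zpowers g} orderOf (Set.toFinite _)
    ⟨c, Subgroup.mem_zpowers c⟩
  have hcg : c ∈ Subgroup.zpowers g := hcg'
  haveI hn : (Subgroup.zpowers g).Normal := ⟨fun y hy d => by
    rw [show d * y * d⁻¹ = ⁅d, y⁆ * y by rw [commutatorElement_def]; group]
    exact mul_mem (Subgroup.zpowers_le.2 hcg (hder d y)) hy⟩
  refine ⟨Subgroup.zpowers g, hn, inferInstance, ?_⟩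
  haveI : Group.IsNilpotent R := hR.isNilpotent
  -- the subgroup of `p`-th powers
  let W : Subgroup R :=
    { carrier := {w | ∃ k : R, k ^ p = w}
      one_mem' := ⟨1, one_pow p⟩
      mul_mem' := by rintro _ _ ⟨k, rfl⟩ ⟨l, rfl⟩; exact pow_mul_pow hp2 hR hder k l
      inv_mem' := by rintro _ ⟨k, rfl⟩; exact ⟨k⁻¹, inv_pow k p⟩ }
  have hcW : c ∈ W := hc ▸ mul_mem (⟨g₀, rfl⟩ : g₀ ^ p ∈ W) ⟨h₀, rfl⟩
  have hW : W.Normal := ⟨fun w hw d => by
    obtain ⟨k, rfl⟩ := hw
    exact ⟨d * k * d⁻¹, conj_pow⟩⟩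
  by_cases hab : g ∈ W
  · -- then everything commutes
    obtain ⟨k, hk⟩ := hab
    have hk' : c ∈ Subgroup.zpowers k := Subgroup.zpowers_le.2 (hk ▸ Subgroup.pow_mem _ (Subgroup.mem_zpowers k) p) hcg
    have hle := hmax k hk'
    have hk1 : k = 1 := by
      by_contra hk1
      obtain ⟨j, hj⟩ := IsPGroup.iff_orderOf.1 hR k
      have hj0 : j ≠ 0 := fun e => hk1 (by rw [e, pow_zero, orderOf_eq_one_iff] at hj; exact hj)
      rw [← hk, orderOf_pow_of_dvd hp.out.ne_zero (hj ▸ dvd_pow_self p hj0)] at hle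
      exact absurd hle (not_le.2 (Nat.div_lt_self (orderOf_pos k) hp.out.one_lt))
    have hg1 : g = 1 := by rw [← hk, hk1, one_pow]
    have hcomm : ∀ x y : R, x * y = y * x := fun x y => by
      have h1 := Subgroup.zpowers_le.2 hcg (hder x y)
      rw [hg1, Subgroup.zpowers_one_eq_bot, Subgroup.mem_bot, commutatorElement_eq_one_iff_mul_comm] at h1
      exact h1
    -- `⟨g⟩` is trivial, so choose again among the generators
    obtain ⟨j, hj⟩ := IsPGroup.iff_orderOf.1 hR a
    by_cases ha : a = 1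
    · haveI : (Subgroup.zpowers g).Normal := hn
      have hgb : Subgroup.closure ({g, b} : Set R) = ⊤ := by rw [hg1, ← ha]; exact hgen
      exact generators_quot hgb
    · exfalso
      have hca : c ∈ Subgroup.zpowers a := by
        have h1 : c ∈ Subgroup.zpowers g := hcg
        rw [hg1, Subgroup.zpowers_one_eq_bot, Subgroup.mem_bot] at h1
        rw [h1]; exact one_mem _
      have hj0 : j ≠ 0 := fun e => ha (by rw [e, pow_zero, orderOf_eq_one_iff] at hj; exact hj)
      have := hmax a hca
      rw [hg1, orderOf_one, hj] at this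
      exact absurd this (not_le.2 (Nat.one_lt_pow hj0 hp.out.one_lt))
  · -- `g` is not in the Frattini subgroup
    haveI := hW
    have hfr : W = frattini R := by
      refine le_antisymm ?_ ?_
      · rintro _ ⟨k, rfl⟩
        exact Solv.pow_mem_frattini hR k
      · exact Solv.frattini_le W (fun x y => Subgroup.zpowers_le.2 hcW (hder x y)) (fun x => ⟨x, rfl⟩)
    have hcard : (frattini R).index ≤ p ^ 2 := by
      rw [← hfr]
      exact index_le_of_two_gen hgen W
        (fun x y => Subgroup.zpowers_le.2 hcW (hder x y)) (fun x => ⟨x, rfl⟩)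
    by_cases hga : Subgroup.closure ({g, a} : Set R) = ⊤
    · exact generators_quot hga
    by_cases hgb : Subgroup.closure ({g, b} : Set R) = ⊤
    · exact generators_quot hgb
    exfalso
    have hkey : ∀ y : R, Subgroup.closure ({g, y} : Set R) ≠ ⊤ → y ∈ Subgroup.zpowers g ⊔ frattini R := by
      intro y hy
      by_contra hy'
      apply hy
      refine frattini_nongenerating (eq_top_iff.2 ?_)
      have hle1 : Subgroup.zpowers g ⊔ frattini R ≤ Subgroup.closure ({g, y} : Set R) ⊔ frattini R :=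
        sup_le_sup_right (Subgroup.zpowers_le.2 (Subgroup.subset_closure (by simp))) _
      have hlt1 : frattini R < Subgroup.zpowers g ⊔ frattini R := lt_of_le_of_ne le_sup_right fun e => hab (by
        rw [hfr, e]; exact Subgroup.mem_sup_left (Subgroup.mem_zpowers g))
      have hlt2 : Subgroup.zpowers g ⊔ frattini R < Subgroup.closure ({g, y} : Set R) ⊔ frattini R :=
        lt_of_le_of_ne hle1 fun e => hy' (e ▸ Subgroup.mem_sup_left (Subgroup.subset_closure (by simp)))
      have hstep : ∀ {H K : Subgroup R}, H < K → K.index * p ≤ H.index := by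
        intro H K hlt
        have h1 := Subgroup.relIndex_mul_index hlt.le
        obtain ⟨s, hs⟩ := hR.index H
        obtain ⟨r, -, hr⟩ := (Nat.dvd_prime_pow hp.out).1 (hs ▸ Dvd.intro _ h1 : H.relIndex K ∣ p ^ s)
        have hr0 : r ≠ 0 := fun e => hlt.not_ge (Subgroup.relIndex_eq_one.1 (by rw [hr, e, pow_zero]))
        rw [← h1, hr, mul_comm]
        exact Nat.mul_le_mul_right _ (Nat.le_self_pow hr0 p)
      have h1 := hstep hlt1
      have h2 := hstep hlt2
      have hle : (Subgroup.closure ({g, y} : Set R) ⊔ frattini R).index ≤ 1 := by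
        by_contra hcon
        obtain ⟨s, hs⟩ := hR.index (Subgroup.closure ({g, y} : Set R) ⊔ frattini R)
        have hs0 : s ≠ 0 := fun e => hcon (by rw [hs, e, pow_zero])
        have h3 : p ≤ (Subgroup.closure ({g, y} : Set R) ⊔ frattini R).index := hs ▸ Nat.le_self_pow hs0 p
        have := hp.out.two_le
        nlinarith
      exact (Subgroup.index_eq_one.1 (le_antisymm hle (Nat.pos_of_ne_zero Subgroup.index_ne_zero_of_finite))).ge
    have htop : Subgroup.zpowers g ⊔ frattini R = ⊤ := by
      rw [eq_top_iff, ← hgen, Subgroup.closure_le]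
      rintro y (rfl | rfl)
      exacts [hkey _ hga, hkey _ hgb]
    have hz := frattini_nongenerating htop
    exact hga (eq_top_iff.2 (hz.ge.trans (Subgroup.zpowers_le.2 (Subgroup.subset_closure (by simp)))))
where
  index_le_of_two_gen {a b : R} (hgen : Subgroup.closure ({a, b} : Set R) = ⊤) (W : Subgroup R) [W.Normal]
      (hc : ∀ x y : R, ⁅x, y⁆ ∈ W) (he : ∀ x : R, x ^ p ∈ W) : W.index ≤ p ^ 2 := by
    have hcq : ∀ x y : R, QuotientGroup.mk' W x * QuotientGroup.mk' W y = QuotientGroup.mk' W y * QuotientGroup.mk' W x := by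
      intro x y
      rw [← commutatorElement_eq_one_iff_mul_comm, ← map_commutatorElement]
      exact (QuotientGroup.eq_one_iff _).2 (hc x y)
    have hsub : (⊤ : Subgroup (R ⧸ W)) ≤
        Subgroup.zpowers (QuotientGroup.mk' W a) ⊔ Subgroup.zpowers (QuotientGroup.mk' W b) := by
      rw [← Subgroup.map_top_of_surjective _ (QuotientGroup.mk'_surjective W), ← hgen, MonoidHom.map_closure,
        Subgroup.closure_le]
      rintro _ ⟨y, (rfl | rfl), rfl⟩
      · exact Subgroup.mem_sup_left (Subgroup.mem_zpowers _)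
      · exact Subgroup.mem_sup_right (Subgroup.mem_zpowers _)
    haveI : (Subgroup.zpowers (QuotientGroup.mk' W a)).Normal := ⟨fun y hy d => by
      obtain ⟨d, rfl⟩ := QuotientGroup.mk'_surjective W d
      obtain ⟨y', rfl⟩ := QuotientGroup.mk'_surjective W y
      rw [hcq d y', mul_inv_cancel_right]; exact hy⟩
    rw [Subgroup.index_eq_card, pow_two, ← Subgroup.card_top]
    refine (Subgroup.card_le_of_le hsub).trans ?_
    set N := Subgroup.zpowers (QuotientGroup.mk' W a)
    set H := Subgroup.zpowers (QuotientGroup.mk' W b)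
    have e := Subgroup.relIndex_mul_relIndex ⊥ N (N ⊔ H) bot_le le_sup_left
    rw [Subgroup.relIndex_bot_left, Subgroup.relIndex_bot_left, sup_comm N H, Subgroup.relIndex_sup_right] at e
    rw [sup_comm N H, ← e]
    refine Nat.mul_le_mul ?_ ((Nat.le_of_dvd Nat.card_pos (Subgroup.index_dvd_card (N.subgroupOf H))).trans ?_)
    all_goals
      rw [Nat.card_zpowers]
      refine Nat.le_of_dvd hp.out.pos (orderOf_dvd_of_pow_eq_one ?_)
      rw [← map_pow]
      exact (QuotientGroup.eq_one_iff _).2 (he _)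

end Cfsg.Agent.Solv.RankTwo
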