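import Mathlib
import Cfsg.Agent.Lib.Solv.RankTwoLift

/-!
The lifting theorem for the layer.
-/

set_option autoImplicit false
set_option linter.style.haveILetI false

open scoped commutatorElement

namespace Cfsg.Agent.Solv.RankTwo

open Cfsg.Agent

variable {R : Type*} [Group R] [Finite R] {p : ℕ} [hp : Fact p.Prime]

/-- if the conjugates of `c` by two generators are powers of `c`, and these generators commute
modulo `c`, the derived group lies in `⟨c⟩` -/
theorem derived_le_of_gen {G : Type*} [Group G] [Finite G] {a b c : G}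
    (hgen : Subgroup.closure ({a, b} : Set G) = ⊤) (ha : a * c * a⁻¹ ∈ Subgroup.zpowers c)
    (hb : b * c * b⁻¹ ∈ Subgroup.zpowers c) (hab : ⁅a, b⁆ ∈ Subgroup.zpowers c) (g h : G) :
    ⁅g, h⁆ ∈ Subgroup.zpowers c := by
  have hT : ∀ g : G, g * c * g⁻¹ ∈ Subgroup.zpowers c := by
    have hmul : ∀ u v : G, u * c * u⁻¹ ∈ Subgroup.zpowers c → v * c * v⁻¹ ∈ Subgroup.zpowers c →
        u * v * c * (u * v)⁻¹ ∈ Subgroup.zpowers c := fun u v hu hv => by
      obtain ⟨i, hi⟩ := Subgroup.mem_zpowers_iff.1 hv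
      rw [show u * v * c * (u * v)⁻¹ = u * (v * c * v⁻¹) * u⁻¹ by group, ← hi, ← conj_zpow]
      exact zpow_mem hu i
    intro g
    have hg : g ∈ Subgroup.closure ({a, b} : Set G) := hgen.ge (Subgroup.mem_top g)
    induction hg using Subgroup.closure_induction with
    | mem x hx => rcases hx with rfl | rfl <;> assumption
    | one => simp
    | mul u v _ _ hu hv => exact hmul u v hu hv
    | inv u _ hu =>
      have hpow : ∀ k : ℕ, u ^ k * c * (u ^ k)⁻¹ ∈ Subgroup.zpowers c := fun k => by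
        induction k with
        | zero => simp
        | succ k ih => rw [pow_succ]; exact hmul _ _ ih hu
      rw [show u⁻¹ = u ^ (orderOf u - 1) from inv_eq_of_mul_eq_one_right (by
        rw [← pow_succ', Nat.sub_add_cancel (orderOf_pos u), pow_orderOf_eq_one])]
      exact hpow _
  haveI : (Subgroup.zpowers c).Normal := ⟨fun y hy d => by
    obtain ⟨i, rfl⟩ := hy
    show d * c ^ i * d⁻¹ ∈ _
    rw [← conj_zpow]; exact zpow_mem (hT d) i⟩
  let π := QuotientGroup.mk' (Subgroup.zpowers c)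
  have hab' : Commute (π a) (π b) := by
    rw [← commutatorElement_eq_one_iff_commute, ← map_commutatorElement]
    exact (QuotientGroup.eq_one_iff _).2 hab
  have hcen : ∀ y ∈ ({a, b} : Set G), ∀ g : G, Commute (π y) (π g) := fun y hy g => by
    have hle : Subgroup.closure ({a, b} : Set G) ≤ (Subgroup.centralizer {π y}).comap π := by
      rw [Subgroup.closure_le]
      intro z hz
      rw [SetLike.mem_coe, Subgroup.mem_comap, Subgroup.mem_centralizer_singleton_iff]
      rcases hy with rfl | rfl <;> rcases hz with rfl | rfl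
      exacts [rfl, hab'.symm.eq, hab'.eq, rfl]
    exact (Subgroup.mem_centralizer_singleton_iff.1 (hle (hgen.ge (Subgroup.mem_top g)))).symm
  have hle : Subgroup.closure ({a, b} : Set G) ≤ (Subgroup.centralizer {π g}).comap π := by
    rw [Subgroup.closure_le]
    intro y hy
    rw [SetLike.mem_coe, Subgroup.mem_comap, Subgroup.mem_centralizer_singleton_iff]
    exact (hcen y hy g).eq
  rw [← QuotientGroup.eq_one_iff]
  change π ⁅g, h⁆ = 1
  rw [map_commutatorElement, commutatorElement_eq_one_iff_mul_comm]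
  exact (Subgroup.mem_centralizer_singleton_iff.1 (hle (hgen.ge (Subgroup.mem_top h)))).symm

variable {E : Subgroup R} [E.Normal] {A : Subgroup (R ⧸ E)}

theorem lift_metacyclic (hp2 : p ≠ 2) (hR : IsPGroup p R) (hF : Frame p E) (hL : Layer p E A)
    (hm : Cfsg.IsMetacyclic (R ⧸ E)) : Cfsg.IsMetacyclic R := by
  haveI : Group.IsNilpotent R := hR.isNilpotent
  have hp1 := hp.out
  obtain ⟨N, hNn, hNc, hQc⟩ := hm
  haveI := hNn
  obtain ⟨⟨av, hav⟩, havg⟩ := IsCyclic.exists_generator (α := N)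
  obtain ⟨bv', hbv⟩ := IsCyclic.exists_generator (α := (R ⧸ E) ⧸ N)
  obtain ⟨bv, rfl⟩ := QuotientGroup.mk'_surjective N bv'
  obtain ⟨a, rfl⟩ := QuotientGroup.mk'_surjective E av
  obtain ⟨b, rfl⟩ := QuotientGroup.mk'_surjective E bv
  set π := QuotientGroup.mk' E with hπ
  have hNa : N = Subgroup.zpowers (π a) := by
    refine le_antisymm (fun v hv => ?_) (Subgroup.zpowers_le.2 hav)
    obtain ⟨i, hi⟩ := havg ⟨v, hv⟩
    exact ⟨i, congrArg Subtype.val hi⟩
  have hEfr : E ≤ frattini R := fun e he => by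
    obtain ⟨f, -, rfl⟩ := hL.surj e he
    exact Solv.pow_mem_frattini hR f
  have hgen : Subgroup.closure ({a, b} : Set R) = ⊤ := by
    refine frattini_nongenerating (eq_top_iff.2 fun g _ => ?_)
    obtain ⟨i, hi⟩ := hbv (QuotientGroup.mk' N (π g))
    have h1 : (π b ^ i)⁻¹ * π g ∈ N := by
      refine (QuotientGroup.eq_one_iff _).1 ?_
      change QuotientGroup.mk' N ((π b ^ i)⁻¹ * π g) = 1
      rw [map_mul, map_inv, map_zpow]
      exact inv_mul_eq_one.2 hi
    rw [hNa] at h1
    obtain ⟨j, hj⟩ := h1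
    have h2 : (b ^ i * a ^ j)⁻¹ * g ∈ E := by
      refine (QuotientGroup.eq_one_iff _).1 ?_
      change π ((b ^ i * a ^ j)⁻¹ * g) = 1
      rw [map_mul, map_inv, map_mul, map_zpow, map_zpow, show π a ^ j = (π b ^ i)⁻¹ * π g from hj]
      group
    rw [show g = b ^ i * a ^ j * ((b ^ i * a ^ j)⁻¹ * g) by group]
    exact mul_mem (Subgroup.mem_sup_left (mul_mem (zpow_mem (Subgroup.subset_closure (by simp)) i)
      (zpow_mem (Subgroup.subset_closure (by simp)) j))) (Subgroup.mem_sup_right (hEfr h2))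
  set c := ⁅a, b⁆ with hc
  -- the commutator is a product of two `p`-th powers
  obtain ⟨m, e, he, hce⟩ : ∃ (m : ℤ) (e : R), e ∈ E ∧ c = (a ^ m) ^ p * e := by
    set M := Subgroup.zpowers (π a ^ p)
    haveI hMn : M.Normal := by
      refine ⟨fun y hy d => ?_⟩
      obtain ⟨i, rfl⟩ := hy
      obtain ⟨l, hl⟩ := Subgroup.mem_zpowers_iff.1 (hNa ▸ hNn.conj_mem _ hav d : d * π a * d⁻¹ ∈ Subgroup.zpowers (π a))
      refine ⟨l * i, ?_⟩
      show (π a ^ p) ^ (l * i) = d * (π a ^ p) ^ i * d⁻¹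
      rw [← conj_zpow, ← conj_pow, ← hl, ← zpow_natCast, ← zpow_natCast (π a ^ l), ← zpow_mul, ← zpow_mul, ← zpow_mul]
      congr 1
      ring
    have hcard : Nat.card (N.map (QuotientGroup.mk' M)) ≤ p := by
      rw [hNa, MonoidHom.map_zpowers, Nat.card_zpowers]
      refine Nat.le_of_dvd hp1.pos (orderOf_dvd_of_pow_eq_one ?_)
      rw [← map_pow]
      exact (QuotientGroup.eq_one_iff _).2 (Subgroup.mem_zpowers _)
    haveI : (N.map (QuotientGroup.mk' M)).Normal := Subgroup.Normal.map hNn _ (QuotientGroup.mk'_surjective M)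
    have h1 := Fusion.le_center_of_card_prime ((hR.to_quotient E).to_quotient M) _ hcard (Subgroup.mem_map_of_mem _ hav)
    have h2 : ⁅π a, π b⁆ ∈ M := by
      refine (QuotientGroup.eq_one_iff _).1 ?_
      change QuotientGroup.mk' M ⁅π a, π b⁆ = 1
      rw [map_commutatorElement, commutatorElement_eq_one_iff_mul_comm]
      exact (Subgroup.mem_center_iff.1 h1 _).symm
    obtain ⟨m, hm⟩ := h2
    refine ⟨m, ((a ^ m) ^ p)⁻¹ * c, ?_, by group⟩
    refine (QuotientGroup.eq_one_iff _).1 ?_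
    change π (((a ^ m) ^ p)⁻¹ * c) = 1
    rw [map_mul, map_inv, map_pow, map_zpow, hc, map_commutatorElement,
      show ⁅π a, π b⁆ = (π a ^ p) ^ m from hm.symm, inv_mul_eq_one, ← zpow_natCast, ← zpow_natCast (π a), ← zpow_mul,
      ← zpow_mul, mul_comm]
  obtain ⟨f, -, hf⟩ := hL.surj e he
  rw [← hf] at hce
  -- a central subgroup absorbing the commutators with `E`
  have key : ∀ Z : Subgroup R, (∀ z ∈ Z, ∀ g : R, Commute z g) → (∀ e ∈ E, ∀ g : R, ⁅e, g⁆ ∈ Z) →
      ∀ g h : R, ⁅g, h⁆ ∈ Subgroup.zpowers c ⊔ Z := by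
    intro Z hZc hZe g h
    haveI : Z.Normal := ⟨fun z hz d => by rw [← (hZc z hz d).eq, mul_inv_cancel_right]; exact hz⟩
    let σ := QuotientGroup.mk' Z
    have hgen' : Subgroup.closure ({σ a, σ b} : Set (R ⧸ Z)) = ⊤ := by
      rw [← Set.image_pair, ← MonoidHom.map_closure, hgen, Subgroup.map_top_of_surjective _ (QuotientGroup.mk'_surjective Z)]
    have hcE : ∀ e ∈ E, ∀ v : R ⧸ Z, Commute (σ e) v := fun e he v => by
      obtain ⟨v, rfl⟩ := QuotientGroup.mk'_surjective Z v
      rw [← commutatorElement_eq_one_iff_commute, ← map_commutatorElement]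
      exact (QuotientGroup.eq_one_iff _).2 (hZe e he v)
    set A0 := σ a
    set B0 := σ b
    set C0 := σ c with hC0
    have hC : C0 = A0 ^ (m * p) * σ e := by
      rw [hC0, hce, hf, map_mul, map_pow, map_zpow, zpow_mul, zpow_natCast]
    have hCA : Commute C0 A0 := by
      rw [hC]; exact (Commute.zpow_self A0 _).mul_left (hcE e he A0)
    have hBAB : B0 * A0 * B0⁻¹ = C0⁻¹ * A0 := by
      rw [hC0, hc, map_commutatorElement, commutatorElement_def]; simp only [A0, B0]; group
    have hconjB : B0 * C0 * B0⁻¹ ∈ Subgroup.zpowers C0 := by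
      have e1 : B0 * C0 * B0⁻¹ = (B0 * A0 * B0⁻¹) ^ (m * p) * σ e := by
        rw [hC, conj_zpow]
        calc B0 * (A0 ^ (m * ↑p) * σ e) * B0⁻¹ = B0 * A0 ^ (m * ↑p) * (σ e * B0⁻¹) := by group
          _ = _ := by rw [(hcE e he B0⁻¹).eq]; group
      rw [e1, hBAB, (hCA.inv_left).mul_zpow, mul_assoc, ← hC]
      exact mul_mem (zpow_mem (inv_mem (Subgroup.mem_zpowers _)) _) (Subgroup.mem_zpowers _)
    have h1 := derived_le_of_gen hgen' (c := C0)
      (by rw [← hCA.eq, mul_inv_cancel_right]; exact Subgroup.mem_zpowers _) hconjB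
      (by rw [hC0, hc, map_commutatorElement]; exact Subgroup.mem_zpowers _) (σ g) (σ h)
    rw [← map_commutatorElement, hC0, ← MonoidHom.map_zpowers, ← Subgroup.mem_comap,
      Subgroup.comap_map_eq, QuotientGroup.ker_mk'] at h1
    exact h1
  refine metacyclic_of_two_gen hp2 hR hgen (c := c) ?_ hce
  by_cases hCtop : Subgroup.centralizer (E : Set R) = ⊤
  · intro g h
    have h1 := key ⊥ (fun z hz g => by rw [Subgroup.mem_bot.1 hz]; exact Commute.one_left g) (fun e he g => by
      rw [Subgroup.mem_bot, commutatorElement_eq_one_iff_mul_comm]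
      exact Subgroup.mem_centralizer_iff.1 (hCtop.ge (Subgroup.mem_top g)) e he) g h
    rwa [sup_bot_eq] at h1
  obtain ⟨x, hx⟩ : ∃ x, x ∉ Subgroup.centralizer (E : Set R) := by
    by_contra hcon
    push Not at hcon
    exact hCtop (eq_top_iff.2 fun g _ => hcon g)
  obtain ⟨e₀, hA⟩ := exists_axis hR hF hx
  have h0 := key (Subgroup.zpowers e₀) (fun z hz g => by
    obtain ⟨i, rfl⟩ := hz
    exact (hA.central g).zpow_left i) hA.moves
  suffices hle : Subgroup.zpowers e₀ ≤ Subgroup.zpowers c by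
    intro g h
    exact (sup_le le_rfl hle) (h0 g h)
  haveI := hF.centralizer_normal
  have hcC : c ∈ Subgroup.centralizer (E : Set R) := by
    haveI : IsCyclic (R ⧸ Subgroup.centralizer (E : Set R)) :=
      isCyclic_of_prime_card (p := p) (by rw [← Subgroup.index_eq_card]; exact hA.index)
    refine (QuotientGroup.eq_one_iff _).1 ?_
    change QuotientGroup.mk' _ c = 1
    rw [hc, map_commutatorElement, commutatorElement_eq_one_iff_mul_comm]
    letI := IsCyclic.commGroup (α := R ⧸ Subgroup.centralizer (E : Set R))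
    exact mul_comm _ _
  by_cases hcE : c ∈ E
  · exfalso
    have hall : ∀ g h : R, ⁅g, h⁆ ∈ E := fun g h =>
      (sup_le (Subgroup.zpowers_le.2 hcE) (Subgroup.zpowers_le.2 hA.mem)) (h0 g h)
    refine hx ((mem_map_centralizer hF).1 ?_)
    rw [← hL.cent]
    refine Subgroup.mem_centralizer_iff.2 fun v _ => ?_
    obtain ⟨v, rfl⟩ := QuotientGroup.mk'_surjective E v
    rw [← commutatorElement_eq_one_iff_mul_comm, ← map_commutatorElement]
    exact (QuotientGroup.eq_one_iff _).2 (hall v x)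
  obtain ⟨j, hj⟩ := IsPGroup.iff_orderOf.1 hR c
  have hj2 : 2 ≤ j := by
    by_contra hlt
    exact hcE (hF.key c hcC (orderOf_dvd_iff_pow_eq_one.1 (hj ▸ (pow_dvd_pow p (show j ≤ 1 by omega)).trans (by rw [pow_one]))))
  set c' := c ^ p ^ (j - 1) with hc'
  have hc'1 : c' ≠ 1 := fun h => by
    have := orderOf_dvd_of_pow_eq_one (hc' ▸ h)
    rw [hj] at this
    exact absurd ((Nat.pow_dvd_pow_iff_le_right hp1.one_lt).1 this) (by omega)
  have hc'p : c' ^ p = 1 := by
    rw [hc', ← pow_mul, ← pow_succ, Nat.sub_add_cancel (show 1 ≤ j by omega), ← hj, pow_orderOf_eq_one]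
  have hc'E : c' ∈ E := hF.key _ (pow_mem hcC _) hc'p
  have hconj : x⁻¹ * c' * x ∈ Subgroup.zpowers c' := by
    have h1 : x⁻¹ * c * x ∈ Subgroup.zpowers c ⊔ Subgroup.zpowers e₀ := by
      rw [show x⁻¹ * c * x = ⁅x⁻¹, c⁆ * c by rw [commutatorElement_def]; group]
      exact mul_mem (h0 _ _) (Subgroup.mem_sup_left (Subgroup.mem_zpowers c))
    haveI : (Subgroup.zpowers e₀).Normal := ⟨fun z hz d => by
      obtain ⟨i, rfl⟩ := hz
      show d * e₀ ^ i * d⁻¹ ∈ _
      rw [← ((hA.central d).zpow_left i).eq, mul_inv_cancel_right]; exact zpow_mem (Subgroup.mem_zpowers _) i⟩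
    obtain ⟨_, ⟨t, rfl⟩, z, hz, heq⟩ := Subgroup.mem_sup_of_normal_right.1 h1
    have hzc : Commute (c ^ t) z := by
      obtain ⟨i, rfl⟩ := hz
      exact ((hA.central _).zpow_left i).symm
    have e1 := conj_pow (a := x⁻¹) (b := c) (i := p ^ (j - 1))
    rw [inv_inv] at e1
    rw [hc', ← e1, ← heq, hzc.mul_pow, show z ^ p ^ (j - 1) = 1 by
      obtain ⟨k, hk⟩ := dvd_pow_self p (show j - 1 ≠ 0 by omega)
      rw [hk, pow_mul, hA.zpow_pow hF hz, one_pow], mul_one, ← zpow_natCast (c ^ t), ← zpow_mul, mul_comm, zpow_mul,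
      zpow_natCast]
    exact zpow_mem (Subgroup.mem_zpowers _) t
  have hcard : ∀ {d : R}, d ^ p = 1 → d ≠ 1 → Nat.card (Subgroup.zpowers d) = p := fun h1 h2 => by
    rw [Nat.card_zpowers, orderOf_eq_prime h1 h2]
  have hend : ∀ {d : R}, d ∈ Subgroup.zpowers e₀ → d ∈ Subgroup.zpowers c' → d ≠ 1 →
      Subgroup.zpowers e₀ ≤ Subgroup.zpowers c' := fun {d} h1 h2 h3 => by
    have hd := hA.zpow_pow hF h1
    have e1 : Subgroup.zpowers d = Subgroup.zpowers e₀ := Subgroup.eq_of_le_of_card_ge (Subgroup.zpowers_le.2 h1)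
      (by rw [hcard hd h3, hcard (hF.exp _ hA.mem) hA.ne])
    rw [← e1]; exact Subgroup.zpowers_le.2 h2
  refine le_trans ?_ (Subgroup.zpowers_le.2 (hc' ▸ pow_mem (Subgroup.mem_zpowers c) _) : Subgroup.zpowers c' ≤ _)
  by_cases hfix : c'⁻¹ * (x⁻¹ * c' * x) = 1
  · exact hend (hA.fixed c' hc'E (inv_mul_eq_one.1 hfix).symm) (Subgroup.mem_zpowers _) hc'1
  · exact hend (hA.delta hc'E) (mul_mem (inv_mem (Subgroup.mem_zpowers _)) hconj) hfix

end Cfsg.Agent.Solv.RankTwo
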