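import Mathlib
import Cfsg.Agent.Lib.Solv.RankTwoCyclic
import Cfsg.Agent.Lib.Solv.RankTwoLiftMain
import Cfsg.Agent.Lib.Solv.MaxClass

/-!
Blackburn: `p`-groups of rank at most two, `p` odd.
-/

set_option autoImplicit false
set_option linter.style.haveILetI false

open scoped commutatorElement

namespace Cfsg.Agent.Solv.RankTwo

open Cfsg.Agent

universe u

variable {p : ℕ} [hp : Fact p.Prime]

theorem abelian_case {R : Type u} [Group R] [Finite R] {E : Subgroup R} [E.Normal] (hR : IsPGroup p R)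
    (hF : Frame p E) (hcyc : IsCyclic (Subgroup.map (QuotientGroup.mk' E) (Subgroup.centralizer (E : Set R))))
    (htop : Subgroup.centralizer (E : Set R) = ⊤) : Cfsg.IsMetacyclic R := by
  have hp1 := hp.out
  obtain ⟨⟨zv, hzv⟩, hgen⟩ := hcyc.exists_generator
  obtain ⟨z, hzC, rfl⟩ := hzv
  have hform : ∀ c : R, ∃ (i : ℤ) (e : R), e ∈ E ∧ c = z ^ i * e := by
    intro c
    obtain ⟨i, hi⟩ := hgen ⟨QuotientGroup.mk' E c, Subgroup.mem_map_of_mem _ (htop.ge (Subgroup.mem_top c))⟩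
    refine ⟨i, (z ^ i)⁻¹ * c, ?_, by group⟩
    refine (QuotientGroup.eq_one_iff _).1 ?_
    change QuotientGroup.mk' E ((z ^ i)⁻¹ * c) = 1
    rw [map_mul, map_inv, map_zpow, inv_mul_eq_one]
    exact congrArg Subtype.val hi
  have hEc : ∀ e ∈ E, ∀ c : R, Commute e c := fun e he c =>
    Subgroup.mem_centralizer_iff.1 (htop.ge (Subgroup.mem_top c)) e he
  have hcomm : ∀ a b : R, Commute a b := by
    intro a b
    obtain ⟨i, e, he, rfl⟩ := hform a
    obtain ⟨j, f, hf, rfl⟩ := hform b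
    exact ((Commute.zpow_zpow_self z i j).mul_right (hEc f hf _).symm).mul_left (hEc e he _)
  obtain ⟨g, hg1, hzg⟩ : ∃ g : R, g ≠ 1 ∧ z ∈ Subgroup.zpowers g := by
    by_cases hz : z = 1
    · obtain ⟨e, he, he1⟩ := E.bot_or_exists_ne_one.resolve_left (fun h => by
        have h1 := hF.card
        rw [h, Subgroup.card_bot] at h1
        exact absurd h1.symm (Nat.one_lt_pow two_ne_zero hp1.one_lt).ne')
      exact ⟨e, he1, hz ▸ one_mem _⟩
    · exact ⟨z, hz, Subgroup.mem_zpowers z⟩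
  obtain ⟨j, hj⟩ := IsPGroup.iff_orderOf.1 hR g
  have hj0 : j ≠ 0 := fun e => hg1 (by rw [e, pow_zero, orderOf_eq_one_iff] at hj; exact hj)
  set c := g ^ p ^ (j - 1) with hc
  have hc1 : c ≠ 1 := fun h => by
    have := orderOf_dvd_of_pow_eq_one (hc ▸ h)
    rw [hj] at this
    exact absurd ((Nat.pow_dvd_pow_iff_le_right hp1.one_lt).1 this) (by omega)
  have hcp : c ^ p = 1 := by
    rw [hc, ← pow_mul, ← pow_succ, Nat.sub_add_cancel (Nat.pos_of_ne_zero hj0), ← hj, pow_orderOf_eq_one]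
  have hcE : c ∈ E := hF.key c (htop.ge (Subgroup.mem_top c)) hcp
  obtain ⟨y, hy, hyc⟩ : ∃ y ∈ E, y ∉ Subgroup.zpowers c := by
    by_contra hcon
    push Not at hcon
    have h1 := Subgroup.card_le_of_le (show E ≤ Subgroup.zpowers c from hcon)
    rw [hF.card, Nat.card_zpowers, orderOf_eq_prime hcp hc1] at h1
    nlinarith [hp1.two_le]
  haveI hn : (Subgroup.zpowers g).Normal :=
    ⟨fun v hv d => by rw [(hcomm d v).eq, mul_inv_cancel_right]; exact hv⟩
  refine ⟨Subgroup.zpowers g, hn, inferInstance, generators_quot (h := y) ?_⟩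
  set K := Subgroup.closure ({g, y} : Set R)
  have hgK : Subgroup.zpowers g ≤ K := Subgroup.zpowers_le.2 (Subgroup.subset_closure (by simp))
  have hEK : E ≤ K := by
    have h1 : Subgroup.zpowers c < E ⊓ K :=
      lt_of_le_of_ne (le_inf (Subgroup.zpowers_le.2 hcE)
        (Subgroup.zpowers_le.2 (hgK (pow_mem (Subgroup.mem_zpowers g) _))))
        fun e => hyc (e.ge ⟨hy, Subgroup.subset_closure (by simp)⟩)
    obtain ⟨i, hi, hic⟩ := (Nat.dvd_prime_pow hp1).1 (hF.card ▸ Subgroup.card_dvd_of_le (inf_le_left : E ⊓ K ≤ E))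
    have : i = 2 := by
      by_contra hne
      refine h1.ne (Subgroup.eq_of_le_of_card_ge h1.le ?_)
      rw [hic, Nat.card_zpowers, orderOf_eq_prime hcp hc1]
      calc p ^ i ≤ p ^ 1 := Nat.pow_le_pow_right hp1.pos (by omega)
        _ = p := pow_one p
    have heq : E ⊓ K = E := Subgroup.eq_of_le_of_card_ge inf_le_left (by rw [hF.card, hic, this])
    exact heq ▸ inf_le_right
  refine eq_top_iff.2 fun c' _ => ?_
  obtain ⟨i, e, he, rfl⟩ := hform c'
  exact mul_mem (zpow_mem (hgK hzg) i) (hEK he)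

/-- without elements of order `p` outside the frame -/
theorem tame (hp2 : p ≠ 2) : ∀ (n : ℕ) {R : Type u} [Group R] [Finite R], Nat.card R = n → IsPGroup p R →
    ∀ (E : Subgroup R) [E.Normal], Frame p E → (∀ g : R, g ^ p = 1 → g ∈ E) →
      Cfsg.IsMetacyclic R ∨ (p = 3 ∧ ∃ t : R, t ∉ Subgroup.centralizer (E : Set R) ∧
        Nat.card (Subgroup.centralizer ({t} : Set R)) ≤ p ^ 2) := by
  intro n
  induction n using Nat.strong_induction_on with
  | _ n ih =>
    intro R _ _ hn hR E _ hF hnone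
    subst hn
    by_cases hcyc : IsCyclic (Subgroup.map (QuotientGroup.mk' E) (Subgroup.centralizer (E : Set R)))
    · by_cases htop : Subgroup.centralizer (E : Set R) = ⊤
      · exact Or.inl (abelian_case hR hF hcyc htop)
      obtain ⟨x, hx⟩ : ∃ x, x ∉ Subgroup.centralizer (E : Set R) := by
        by_contra hcon
        push Not at hcon
        exact htop (eq_top_iff.2 fun g _ => hcon g)
      obtain ⟨e₀, hA⟩ := exists_axis hR hF hx
      exact cyclic_none hp2 hR hF hA hcyc hnone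
    obtain ⟨A, hL⟩ := exists_layer hp2 hR hF hcyc
    by_cases hx : ∃ x, x ∉ Subgroup.centralizer (E : Set R) ∧ x ^ p ∈ E
    · obtain ⟨x, hx, hxp⟩ := hx
      obtain ⟨e₀, hA⟩ := exists_axis hR hF hx
      obtain ⟨h3, hc⟩ := small_fix hp2 hR hF hL hA hxp
      exact Or.inr ⟨h3, x, hx, hc⟩
    push Not at hx
    have hnone' : ∀ g : R, g ^ p ∈ E → g ∈ Subgroup.centralizer (E : Set R) := fun g hg => by
      by_contra h
      exact hx g h hg
    haveI := hL.frame.norm
    have hlt : Nat.card (R ⧸ E) < Nat.card R := by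
      rw [Subgroup.card_eq_card_quotient_mul_card_subgroup E, hF.card]
      exact lt_mul_of_one_lt_right Nat.card_pos (Nat.one_lt_pow two_ne_zero hp.out.one_lt)
    rcases ih _ hlt rfl (hR.to_quotient E) A hL.frame (fun v hv => by
      obtain ⟨g, rfl⟩ := QuotientGroup.mk'_surjective E v
      refine hL.frame.key _ ?_ hv
      rw [hL.cent]
      exact Subgroup.mem_map_of_mem _ (hnone' g ((QuotientGroup.eq_one_iff _).1 (by rwa [← map_pow] at hv)))) with h | ⟨-, tv, htv, hc⟩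
    · exact Or.inl (lift_metacyclic hp2 hR hF hL h)
    · obtain ⟨t, rfl⟩ := QuotientGroup.mk'_surjective E tv
      rw [hL.cent] at htv
      obtain ⟨e₀, hA⟩ := exists_axis hR hF (fun h => htv (Subgroup.mem_map_of_mem _ h))
      exact Or.inl (lift_metacyclic hp2 hR hF hL (no_witness hp2 hR hF hL hnone' hA hc))

/-- the two families with an element of order `p` outside the centraliser -/
theorem cyclic_forms {R : Type u} [Group R] [Finite R] {E : Subgroup R} [E.Normal] (hp2 : p ≠ 2)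
    (hR : IsPGroup p R) (hF : Frame p E) {n : ℕ} (hn : Nat.card R = p ^ n) {x e₀ : R} (hA : Axis p E x e₀)
    (hxp : x ^ p = 1)
    (hcyc : IsCyclic (Subgroup.map (QuotientGroup.mk' E) (Subgroup.centralizer (E : Set R)))) :
    (3 ≤ n ∧ ∃ x y z : R, Subgroup.closure ({x, y, z} : Set R) = ⊤ ∧ x ^ p = 1 ∧ y ^ p = 1 ∧ z ^ p ^ (n - 2) = 1 ∧
        x * z = z * x ∧ y * z = z * y ∧ x⁻¹ * y * x = y * z ^ p ^ (n - 3)) ∨
    (4 ≤ n ∧ ∃ (s : ℕ) (x y z : R), (s = 1 ∨ ¬ IsSquare (s : ZMod p)) ∧ Subgroup.closure ({x, y, z} : Set R) = ⊤ ∧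
        x ^ p = 1 ∧ y ^ p = 1 ∧ z ^ p ^ (n - 2) = 1 ∧ y * z = z * y ∧ x⁻¹ * y * x = y * z ^ (s * p ^ (n - 3)) ∧
        x⁻¹ * z * x = y * z) := by
  have hp1 := hp.out
  haveI : NeZero p := ⟨hp1.ne_zero⟩
  obtain ⟨z, k, w, d, hD⟩ := exists_cycData hp2 hR hF hA hcyc
  have hnk : n = k + 3 := Nat.pow_right_injective hp1.two_le (hn.symm.trans hD.card)
  subst hnk
  rw [show k + 3 - 2 = k + 1 by omega, show k + 3 - 3 = k by omega]
  set E0 := z ^ p ^ k with hE0
  have hE0p : E0 ^ p = 1 := hA.zpow_pow hF hD.top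
  have hzord : z ^ p ^ (k + 1) = 1 := by rw [pow_succ, pow_mul, ← hE0, hE0p]
  have hgen : Subgroup.zpowers E0 = Subgroup.zpowers e₀ := by
    refine Subgroup.eq_of_le_of_card_ge (Subgroup.zpowers_le.2 hD.top) ?_
    rw [Nat.card_zpowers, Nat.card_zpowers, orderOf_eq_prime hE0p hD.top_ne,
      orderOf_eq_prime (hF.exp _ hA.mem) hA.ne]
  have hC := hF.le_centralizer
  -- exponents modulo `p`
  have hnat : ∀ {e : R}, e ^ p = 1 → ∀ i : ℤ, e ^ i = e ^ ((i : ZMod p).val) := fun {e} he i => by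
    have hz : e ^ (p : ℤ) = 1 := by rw [zpow_natCast, he]
    rw [← zpow_natCast, ZMod.val_intCast]
    exact zpow_eq_zpow_emod i hz
  -- an element of the frame off the line
  have hpick : ∀ e ∈ E, e ∉ Subgroup.zpowers e₀ → ∀ L : Subgroup R, E0 ∈ L → e ∈ L → E ≤ L := by
    intro e he hez L h0 h1
    have hlt : Subgroup.zpowers E0 < E ⊓ L :=
      lt_of_le_of_ne (le_inf (Subgroup.zpowers_le.2 (Subgroup.zpowers_le.2 hA.mem hD.top)) (Subgroup.zpowers_le.2 h0))
        fun h => hez (hgen ▸ h.ge ⟨he, h1⟩)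
    obtain ⟨i, hi, hic⟩ := (Nat.dvd_prime_pow hp1).1 (hF.card ▸ Subgroup.card_dvd_of_le (inf_le_left : E ⊓ L ≤ E))
    have : i = 2 := by
      by_contra hne
      refine hlt.ne (Subgroup.eq_of_le_of_card_ge hlt.le ?_)
      rw [hic, Nat.card_zpowers, orderOf_eq_prime hE0p hD.top_ne]
      calc p ^ i ≤ p ^ 1 := Nat.pow_le_pow_right hp1.pos (by omega)
        _ = p := pow_one p
    exact (Subgroup.eq_of_le_of_card_ge inf_le_left (by rw [hF.card, hic, this]) : E ⊓ L = E) ▸ inf_le_right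
  have hgenall : ∀ (x' y' z' : R), Subgroup.zpowers x ≤ Subgroup.closure ({x', y', z'} : Set R) → E0 ∈ Subgroup.closure ({x', y', z'} : Set R) →
      y' ∈ E → y' ∉ Subgroup.zpowers e₀ → (∃ e ∈ E, z' = z * e) → Subgroup.closure ({x', y', z'} : Set R) = ⊤ := by
    intro x' y' z' hx' h0 hyE hy hz'
    set L := Subgroup.closure ({x', y', z'} : Set R)
    have hEL := hpick y' hyE hy L h0 (Subgroup.subset_closure (by simp))
    obtain ⟨e, he, rfl⟩ := hz'
    have hzL : z ∈ L := (mul_mem_cancel_right (hEL he)).1 (Subgroup.subset_closure (by simp))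
    refine eq_top_iff.2 fun g _ => ?_
    obtain ⟨i, c, hc, rfl⟩ := hA.gen g
    obtain ⟨j, f, hf, rfl⟩ := hD.form c hc
    exact mul_mem (zpow_mem (hx' (Subgroup.mem_zpowers x)) i) (mul_mem (zpow_mem hzL j) (hEL hf))
  by_cases hw0 : w ∈ Subgroup.zpowers e₀
  · -- `z` can be made central in `C⟨x⟩`
    left
    obtain ⟨y₀, hy₀, hy₀z⟩ : ∃ e ∈ E, e ∉ Subgroup.zpowers e₀ := by
      by_contra hcon
      push Not at hcon
      have h1 := Subgroup.card_le_of_le (show E ≤ Subgroup.zpowers e₀ from hcon)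
      rw [hF.card, Nat.card_zpowers, orderOf_eq_prime (hF.exp _ hA.mem) hA.ne] at h1
      nlinarith [hp1.two_le]
    obtain ⟨r, hr⟩ := Subgroup.mem_zpowers_iff.1 (hgen.ge (hA.delta hy₀))
    have hr0 : (r : ZMod p) ≠ 0 := fun h => hy₀z (hA.fixed _ hy₀ (inv_mul_eq_one.1 (hr.symm.trans (by
      rw [hnat hE0p r, h, ZMod.val_zero, pow_zero]))).symm)
    obtain ⟨m, hm⟩ : ∃ m : ℕ, ((r * m : ℤ) : ZMod p) = 1 := ⟨((r : ZMod p)⁻¹).val, by
      push_cast [ZMod.natCast_zmod_val]; rw [mul_inv_cancel₀ hr0]⟩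
    set y := y₀ ^ m
    have hyE : y ∈ E := pow_mem hy₀ m
    have hyp : y ^ p = 1 := hF.exp _ hyE
    have hσy₀ : x⁻¹ * y₀ * x = y₀ * E0 ^ r := by rw [hr]; group
    have hσy : x⁻¹ * y * x = y * E0 := by
      have := conj_pow (a := x⁻¹) (b := y₀) (i := m)
      rw [inv_inv] at this
      rw [← this, hσy₀, (hD.comm _ (hC hy₀) _ (zpow_mem (pow_mem hD.mem _) r)).mul_pow, ← zpow_natCast (E0 ^ r),
        ← zpow_mul, hnat hE0p, hm, ZMod.val_one, pow_one]
    have hyz : y ∉ Subgroup.zpowers e₀ := fun h => by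
      have := hA.zpow_fixed h
      rw [hσy, mul_eq_left] at this
      exact hD.top_ne this
    obtain ⟨a, ha⟩ := Subgroup.mem_zpowers_iff.1 (hgen.ge hw0)
    set z' := z * y ^ (-a) with hz'
    have hzy : Commute z y := hD.comm _ hD.mem _ (hC hyE)
    have hz'C : z' ∈ Subgroup.centralizer (E : Set R) := mul_mem hD.mem (zpow_mem (hC hyE) _)
    have hpow : ∀ q : ℕ, p ∣ q → z' ^ q = z ^ q := fun q ⟨q', hq⟩ => by
      rw [hz', (hzy.zpow_right _).mul_pow, hq, pow_mul (y ^ (-a)), hF.exp _ (zpow_mem hyE _), one_pow, mul_one]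
    have hσz' : x⁻¹ * z' * x = z' := by
      have h1 := conj_zpow (a := x⁻¹) (b := y) (i := -a)
      rw [inv_inv] at h1
      rw [hz', show x⁻¹ * (z * y ^ (-a)) * x = (x⁻¹ * z * x) * (x⁻¹ * y ^ (-a) * x) by group, ← h1, hD.hw, hσy,
        (hD.comm _ (hC hyE) E0 (pow_mem hD.mem _)).mul_zpow, ← ha, (hD.comm _ (zpow_mem (hC hyE) (-a)) _
          (zpow_mem (pow_mem hD.mem (p ^ k)) (-a))).eq]
      simp only [mul_assoc]
      rw [← mul_assoc (E0 ^ a), ← zpow_add, add_neg_cancel, zpow_zero, one_mul]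
    rcases Nat.eq_zero_or_pos k with rfl | hk
    · -- order `p³`: take the line itself
      refine ⟨le_rfl, x, y, E0, ?_, hxp, hyp, by simpa using hE0p, ?_, ?_, by rw [hσy, pow_zero, pow_one]⟩
      · refine hgenall x y E0 (Subgroup.zpowers_le.2 (Subgroup.subset_closure (by simp)))
          (Subgroup.subset_closure (by simp)) hyE hyz ⟨z⁻¹ * E0, ?_, by group⟩
        have hz : z ^ p = 1 := by simpa using hzord
        exact mul_mem (inv_mem (hF.key z hD.mem hz)) (Subgroup.zpowers_le.2 hA.mem hD.top)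
      · have := hA.zpow_fixed hD.top
        calc x * E0 = x * (x⁻¹ * E0 * x) := by rw [this]
          _ = E0 * x := by group
      · exact (hD.comm _ (hC hyE) _ (pow_mem hD.mem _)).eq
    refine ⟨by omega, x, y, z', ?_, hxp, hyp, ?_, ?_, (hD.comm _ (hC hyE) _ hz'C).eq, ?_⟩
    · refine hgenall x y z' (Subgroup.zpowers_le.2 (Subgroup.subset_closure (by simp))) ?_ hyE hyz
        ⟨_, zpow_mem hyE (-a), rfl⟩
      rw [hE0, ← hpow _ (dvd_pow_self p hk.ne')]
      exact pow_mem (Subgroup.subset_closure (by simp)) _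
    · rw [hpow _ (dvd_pow_self p (by omega)), hzord]
    · calc x * z' = x * (x⁻¹ * z' * x) := by rw [hσz']
        _ = z' * x := by group
    · rw [hpow _ (dvd_pow_self p hk.ne'), hσy]
  · -- `z` is moved off the line
    right
    have hk0 : k ≠ 0 := by
      rintro rfl
      refine hw0 ?_
      have hz : z ^ p ^ 0 ∈ Subgroup.zpowers e₀ := hD.top
      rw [pow_zero, pow_one] at hz
      have h1 := hD.hw
      rw [hA.zpow_fixed hz, left_eq_mul] at h1
      rw [h1]; exact one_mem _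
    obtain ⟨b, hb⟩ := Subgroup.mem_zpowers_iff.1 (hgen.ge hD.dmem)
    have hb0 : (b : ZMod p) ≠ 0 := fun h => hw0 (hA.fixed w hD.wmem (by
      rw [hD.hd, ← hb, hnat hE0p b, h, ZMod.val_zero, pow_zero, mul_one]))
    have hdE : d ∈ E := Subgroup.zpowers_le.2 hA.mem hD.dmem
    have hσwd : x⁻¹ * d * x = d * 1 := by rw [mul_one]; exact hA.zpow_fixed hD.dmem
    -- the element `x ^ i`
    have hzi : ∀ i : ℕ, (x ^ i)⁻¹ * z * x ^ i = z * w ^ i * d ^ i.choose 2 := fun i => by
      rw [conj_iter hD.hw hD.hd hσwd (by group) (hD.comm w (hC hD.wmem) d (hC hdE)) (Commute.one_right _)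
        (Commute.one_right _) i, one_pow, mul_one]
    have hwi : ∀ i : ℕ, (x ^ i)⁻¹ * w * x ^ i = w * d ^ i := fun i => by
      rw [conj_iter hD.hd hσwd (show x⁻¹ * (1 : R) * x = 1 * 1 by group) (by group) (Commute.one_right _)
        (Commute.one_right _) (Commute.one_right _) i, one_pow, one_pow, mul_one, mul_one]
    obtain ⟨i, s, hs, hi0, hsb⟩ : ∃ (i s : ℕ), (s = 1 ∨ ¬ IsSquare (s : ZMod p)) ∧ (i : ZMod p) ≠ 0 ∧
        ((b * i * i : ℤ) : ZMod p) = (s : ZMod p) := by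
      by_cases hsq : IsSquare (b : ZMod p)
      · obtain ⟨c, hc⟩ := hsq
        have hc0 : c ≠ 0 := fun e => hb0 (by rw [hc, e, mul_zero])
        refine ⟨(c⁻¹).val, 1, Or.inl rfl, ?_, ?_⟩
        · rw [ZMod.natCast_zmod_val]; exact inv_ne_zero hc0
        · push_cast [ZMod.natCast_zmod_val]; rw [hc]; field_simp
      · refine ⟨1, (b : ZMod p).val, Or.inr ?_, by rw [Nat.cast_one]; exact one_ne_zero, ?_⟩
        · rwa [ZMod.natCast_zmod_val]
        · push_cast [ZMod.natCast_zmod_val]; ring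
    set y := w ^ i * d ^ i.choose 2 with hy
    have hyE : y ∈ E := mul_mem (pow_mem hD.wmem _) (pow_mem hdE _)
    have hyz : y ∉ Subgroup.zpowers e₀ := fun h => by
      have h1 : w ^ i ∈ Subgroup.zpowers e₀ := (mul_mem_cancel_right (pow_mem hD.dmem _)).1 h
      refine hw0 ?_
      obtain ⟨u, hu⟩ := exists_pow_eq_self_of_coprime (x := w) (n := i) (by
        refine Nat.Coprime.coprime_dvd_right (orderOf_dvd_of_pow_eq_one (hF.exp _ hD.wmem)) ?_
        refine (hp1.coprime_iff_not_dvd.2 fun hd => hi0 ?_).symm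
        exact (ZMod.natCast_eq_zero_iff i p).2 hd)
      exact hu ▸ pow_mem h1 u
    have hzy : Commute y z := hD.comm _ (hC hyE) _ hD.mem
    refine ⟨by omega, s, x ^ i, y, z, hs, ?_, by rw [← pow_mul, mul_comm, pow_mul, hxp, one_pow], hF.exp _ hyE, hzord,
      hzy.eq, ?_, ?_⟩
    · refine hgenall (x ^ i) y z ?_ (pow_mem (Subgroup.subset_closure (by simp)) _) hyE hyz ⟨1, one_mem E, (mul_one z).symm⟩
      refine Subgroup.zpowers_le.2 ?_
      obtain ⟨u, hu⟩ := exists_pow_eq_self_of_coprime (x := x) (n := i) (by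
        refine Nat.Coprime.coprime_dvd_right (orderOf_dvd_of_pow_eq_one hxp) ?_
        exact (hp1.coprime_iff_not_dvd.2 fun hd => hi0 ((ZMod.natCast_eq_zero_iff i p).2 hd)).symm)
      have h3 : (x ^ i) ^ u ∈ Subgroup.closure ({x ^ i, y, z} : Set R) :=
        pow_mem (Subgroup.subset_closure (by simp)) u
      rwa [hu] at h3
    · have h1 := conj_pow (a := (x ^ i)⁻¹) (b := w) (i := i)
      have h2 : (x ^ i)⁻¹ * d ^ i.choose 2 * x ^ i = d ^ i.choose 2 := by
        have h : Commute (d ^ i.choose 2) (x ^ i) := by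
          obtain ⟨j, hj⟩ := Subgroup.mem_zpowers_iff.1 hD.dmem
          rw [← hj]
          exact ((hA.central x).zpow_left j).pow_pow _ _
        rw [mul_assoc, h.eq, inv_mul_cancel_left]
      rw [inv_inv] at h1
      rw [hy, show (x ^ i)⁻¹ * (w ^ i * d ^ i.choose 2) * x ^ i =
          ((x ^ i)⁻¹ * w ^ i * x ^ i) * ((x ^ i)⁻¹ * d ^ i.choose 2 * x ^ i) by group, ← h1, hwi, h2,
        (hD.comm _ (hC hD.wmem) _ (pow_mem (hC hdE) i)).mul_pow, mul_assoc, mul_assoc,
        (Commute.pow_pow_self d i (i.choose 2)).pow_left i |> fun _ => (((Commute.refl d).pow_left i).pow_left i |>.pow_right (i.choose 2)).eq]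
      congr 2
      have hzs : z ^ (s * p ^ k) = E0 ^ s := by rw [hE0, ← pow_mul, mul_comm]
      have hdb : (d ^ i) ^ i = E0 ^ (b * i * i) := by
        rw [← hb, ← zpow_natCast (E0 ^ b), ← zpow_mul, ← zpow_natCast (E0 ^ (b * i)), ← zpow_mul]
      rw [hzs, hdb, hnat hE0p, hsb, ← zpow_natCast E0 s, hnat hE0p]
      simp
    · rw [hzi, mul_assoc]
      exact hzy.eq.symm

end Cfsg.Agent.Solv.RankTwo
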