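import Cfsg.Agent.Lib.Solv.LCS

/-!
Polynomial sequences in a nilpotent group (Lazard, Leibman), and: in a `p`-group of class less
than `p` the elements of order dividing `p` form a subgroup.
-/

set_option autoImplicit false
set_option linter.style.haveILetI false
set_option linter.unusedSectionVars false

open scoped commutatorElement

namespace Cfsg.Agent.Solv.PolySeq

variable {G : Type*} [Group G]

/-- The filtration `G = F 0 = F 1 ≥ F 2 = G' ≥ …`. -/
def F (G : Type*) [Group G] (k : ℕ) : Subgroup G := (⊤ : Subgroup G).lowerCentralSeries (k - 1)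

instance F_normal (k : ℕ) : (F G k).Normal := by unfold F; infer_instance

theorem F_antitone {a b : ℕ} (h : a ≤ b) : F G b ≤ F G a :=
  (⊤ : Subgroup G).lowerCentralSeries_antitone (Nat.sub_le_sub_right h 1)

theorem iterComm_lcs (i k : ℕ) : iterComm ((⊤ : Subgroup G).lowerCentralSeries i) k =
    (⊤ : Subgroup G).lowerCentralSeries (i + k) := by
  induction k with
  | zero => rfl
  | succ k ih => show ⁅_, _⁆ = _; rw [ih]; rfl

theorem F_commutator {a b : ℕ} {x y : G} (hx : x ∈ F G a) (hy : y ∈ F G b) :
    ⁅x, y⁆ ∈ F G (a + b) := by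
  rcases Nat.eq_zero_or_pos a with rfl | ha
  · rw [zero_add, commutatorElement_def]
    exact (F G b).mul_mem ((F_normal b).conj_mem y hy x) ((F G b).inv_mem hy)
  rcases Nat.eq_zero_or_pos b with rfl | hb
  · rw [add_zero, commutatorElement_def,
      show x * y * x⁻¹ * y⁻¹ = x * (y * x⁻¹ * y⁻¹) by group]
    exact (F G a).mul_mem hx ((F_normal a).conj_mem _ ((F G a).inv_mem hx) y)
  have h := commutator_lcs_le_iterComm (b - 1) ((⊤ : Subgroup G).lowerCentralSeries (a - 1))
    (Subgroup.commutator_mem_commutator hx hy)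
  rw [iterComm_lcs] at h
  unfold F
  rwa [show a + b - 1 = a - 1 + (b - 1 + 1) by omega]

/-- The right difference. -/
def D (f : ℕ → G) (i : ℕ) : G := (f i)⁻¹ * f (i + 1)

/-- `P k s f`: for `j < k`, the `j`-th difference of `f` has values in `F (s + j)`. -/
def P : ℕ → ℕ → (ℕ → G) → Prop
  | 0, _, _ => True
  | k + 1, s, f => (∀ i, f i ∈ F G s) ∧ P k (s + 1) (D f)

theorem P_mono {k : ℕ} : ∀ {s t : ℕ} {f : ℕ → G}, s ≤ t → P k t f → P k s f := by
  induction k with
  | zero => intro s t f _ _; trivial
  | succ k ih =>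
    intro s t f hst h
    exact ⟨fun i => F_antitone hst (h.1 i), ih (Nat.succ_le_succ hst) h.2⟩

theorem P_pred {k : ℕ} : ∀ {s : ℕ} {f : ℕ → G}, P (k + 1) s f → P k s f := by
  induction k with
  | zero => intro s f _; trivial
  | succ k ih => intro s f h; exact ⟨h.1, ih h.2⟩

/-- Closure of polynomial sequences under products, inverses and commutators. -/
theorem closure_aux (k : ℕ) :
    (∀ s (f g : ℕ → G), P k s f → P k s g → P k s (fun i => f i * g i)) ∧
    (∀ s (f : ℕ → G), P k s f → P k s (fun i => (f i)⁻¹)) ∧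
    (∀ a b (f g : ℕ → G), P k a f → P k b g → P k (a + b) (fun i => ⁅f i, g i⁆)) := by
  induction k with
  | zero => exact ⟨fun _ _ _ _ _ => trivial, fun _ _ _ => trivial, fun _ _ _ _ _ _ => trivial⟩
  | succ k ih =>
    obtain ⟨hA, hI, hB⟩ := ih
    have hC : ∀ t r (x z : ℕ → G), P k t x → P k r z → P k t (fun i => z i * x i * (z i)⁻¹) := by
      intro t r x z hx hz
      have h := hA t _ _ (P_mono (Nat.le_add_left t r) (hB r t z x hz hx)) hx
      have he : (fun i => ⁅z i, x i⁆ * x i) = fun i => z i * x i * (z i)⁻¹ := by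
        funext i; rw [commutatorElement_def]; group
      rwa [he] at h
    refine ⟨?_, ?_, ?_⟩
    · intro s f g hf hg
      refine ⟨fun i => (F G s).mul_mem (hf.1 i) (hg.1 i), ?_⟩
      have he : D (fun i => f i * g i) = fun i => (g i)⁻¹ * D f i * ((g i)⁻¹)⁻¹ * D g i := by
        funext i; simp only [D]; group
      rw [he]
      exact hA (s + 1) _ _ (hC (s + 1) s _ _ hf.2 (hI s g (P_pred hg))) hg.2
    · intro s f hf
      refine ⟨fun i => (F G s).inv_mem (hf.1 i), ?_⟩
      have he : D (fun i => (f i)⁻¹) = fun i => f i * (D f i)⁻¹ * (f i)⁻¹ := by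
        funext i; simp only [D]; group
      rw [he]
      exact hC (s + 1) s _ _ (hI (s + 1) _ hf.2) (P_pred hf)
    · intro a b f g hf hg
      refine ⟨fun i => F_commutator (hf.1 i) (hg.1 i), ?_⟩
      -- `[fu, gv] = f [u, gv] f⁻¹ * [f, g] * g [f, v] g⁻¹`
      have he : D (fun i => ⁅f i, g i⁆) = fun i =>
          ⁅f i, g i⁆⁻¹ * (f i * (⁅D f i, g i⁆ * (g i * ⁅D f i, D g i⁆ * (g i)⁻¹)) * (f i)⁻¹) *
            (⁅f i, g i⁆⁻¹)⁻¹ * (g i * ⁅f i, D g i⁆ * (g i)⁻¹) := by
        funext i; simp only [D, commutatorElement_def]; group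
      rw [he]
      have hw := hB a b f g (P_pred hf) (P_pred hg)
      have h1 : P k (a + b + 1) (fun i => ⁅D f i, g i⁆) :=
        P_mono (by omega) (hB (a + 1) b _ _ hf.2 (P_pred hg))
      have h2 : P k (a + b + 1) (fun i => g i * ⁅D f i, D g i⁆ * (g i)⁻¹) :=
        hC (a + b + 1) b _ _ (P_mono (by omega) (hB (a + 1) (b + 1) _ _ hf.2 hg.2)) (P_pred hg)
      have h3 : P k (a + b + 1) (fun i => g i * ⁅f i, D g i⁆ * (g i)⁻¹) :=
        hC (a + b + 1) b _ _ (P_mono (by omega) (hB a (b + 1) _ _ (P_pred hf) hg.2)) (P_pred hg)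
      have h4 := hC (a + b + 1) a _ _ (hA (a + b + 1) _ _ h1 h2) (P_pred hf)
      exact hA (a + b + 1) _ _ (hC (a + b + 1) (a + b) _ _ h4 (hI (a + b) _ hw)) h3

theorem P_one (k : ℕ) : ∀ s, P k s (fun _ => (1 : G)) := by
  induction k with
  | zero => intro s; trivial
  | succ k ih =>
    intro s
    refine ⟨fun _ => Subgroup.one_mem _, ?_⟩
    have he : D (fun _ : ℕ => (1 : G)) = fun _ => 1 := by funext i; simp [D]
    rw [he]; exact ih _

/-- `i ↦ a ^ (i choose m)` is polynomial. -/
theorem P_binom : ∀ (k m s : ℕ) {a : G}, a ∈ F G (s + m) → P k s (fun i => a ^ Nat.choose i m) := by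
  intro k
  induction k with
  | zero => intro m s a _; trivial
  | succ k ih =>
    intro m s a ha
    refine ⟨fun i => F_antitone (Nat.le_add_right s m) ((F G (s + m)).pow_mem ha _), ?_⟩
    rcases m with - | m
    · have he : D (fun i => a ^ Nat.choose i 0) = fun _ => 1 := by funext i; simp [D]
      rw [he]; exact P_one k _
    · have he : D (fun i => a ^ Nat.choose i (m + 1)) = fun i => a ^ Nat.choose i m := by
        funext i
        simp only [D]
        rw [Nat.choose_succ_succ', Nat.add_comm (Nat.choose i m), pow_add, inv_mul_cancel_left]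
      rw [he]
      exact ih m (s + 1) (by rwa [show s + 1 + m = s + (m + 1) by omega])

theorem F_of_vanish : ∀ (m : ℕ) {s : ℕ} {f : ℕ → G}, P (m + 1) s f → (∀ j < m, f j = 1) →
    f m ∈ F G (s + m) := by
  intro m
  induction m with
  | zero => intro s f hf _; exact hf.1 0
  | succ m ih =>
    intro s f hf hvan
    have h := ih hf.2 (fun j hj => by simp [D, hvan j (by omega), hvan (j + 1) (by omega)])
    rw [show s + 1 + m = s + (m + 1) by omega] at h
    simpa [D, hvan m (by omega)] using h

/-- A polynomial sequence with values of exponent `p` vanishing at `0` vanishes at `p`. -/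
theorem vanish_at_prime {p : ℕ} (hp : p.Prime) (hbot : F G p = ⊥) {H : Subgroup G}
    (hexp : ∀ h ∈ H, h ^ p = 1) : ∀ (d : ℕ) {f : ℕ → G}, d < p → (∀ k, P k 0 f) →
    (∀ i, f i ∈ H) → (∀ j < p - d, f j = 1) → f p = 1 := by
  intro d
  induction d with
  | zero =>
    intro f _ hf _ hvan
    have h := F_of_vanish p (hf (p + 1)) (fun j hj => hvan j (by omega))
    rwa [zero_add, hbot, Subgroup.mem_bot] at h
  | succ d ih =>
    intro f hd hf hH hvan
    set m := p - (d + 1) with hm
    have hm0 : 0 < m := by omega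
    have hmp : m < p := by omega
    set a := f m with ha
    have haF : a ∈ F G (0 + m) := F_of_vanish m (hf (m + 1)) hvan
    let g : ℕ → G := fun i => (a ^ Nat.choose i m)⁻¹ * f i
    have hg : g p = 1 := by
      refine ih (by omega) (fun k => ?_) (fun i => ?_) (fun j hj => ?_)
      · exact (closure_aux k).1 0 _ _ ((closure_aux k).2.1 0 _ (P_binom k m 0 haF)) (hf k)
      · exact H.mul_mem (H.inv_mem (H.pow_mem (hH m) _)) (hH i)
      · rcases Nat.lt_or_ge j m with hjm | hjm
        · simp [g, Nat.choose_eq_zero_of_lt hjm, hvan j hjm]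
        · obtain rfl : j = m := by omega
          simp [g, ha]
    obtain ⟨c, hc⟩ := hp.dvd_choose_self hm0.ne' hmp
    simpa [g, hc, pow_mul, hexp a (hH m)] using hg

end Cfsg.Agent.Solv.PolySeq

namespace Cfsg.Agent.Solv

universe u

/-- In a `p`-group of class less than `p`, a product of two elements of order `p` has order
dividing `p`. -/
theorem mul_pow_prime_aux {p : ℕ} [Fact p.Prime] : ∀ (N : ℕ) {G : Type u} [Group G] [Finite G],
    Nat.card G ≤ N → IsPGroup p G → (⊤ : Subgroup G).lowerCentralSeries (p - 1) = ⊥ →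
      ∀ x y : G, x ^ p = 1 → y ^ p = 1 → (x * y) ^ p = 1 := by
  intro N
  induction N with
  | zero =>
    intro G _ _ h _ _ x y _ _
    have := Nat.card_pos (α := G)
    omega
  | succ N ih =>
    intro G _ _ hN hG hbot x y hx hy
    have hp : p.Prime := Fact.out
    have hsub : ∀ H : Subgroup G, H ≠ ⊤ → ∀ u v : G, u ∈ H → v ∈ H → u ^ p = 1 → v ^ p = 1 →
        (u * v) ^ p = 1 := by
      intro H hH u v hu hv hu' hv'
      have hlt : Nat.card H < Nat.card G := by
        refine lt_of_le_of_ne (Nat.le_of_dvd Nat.card_pos H.card_subgroup_dvd_card) ?_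
        exact fun e => hH (Subgroup.eq_top_of_card_eq H e)
      have hbotH : (⊤ : Subgroup H).lowerCentralSeries (p - 1) = ⊥ := by
        have h1 := H.lowerCentralSeries_map_subtype_le (p - 1)
        rw [hbot, le_bot_iff, Subgroup.map_eq_bot_iff_of_injective _ H.subtype_injective] at h1
        exact h1
      have h2 := ih (G := H) (by omega) (hG.to_subgroup H) hbotH ⟨u, hu⟩ ⟨v, hv⟩
        (Subtype.ext (by simpa using hu')) (Subtype.ext (by simpa using hv'))
      simpa using congrArg Subtype.val h2
    by_cases hcyc : Subgroup.zpowers x = ⊤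
    · have hc : Commute x y := by
        obtain ⟨k, hk⟩ := (hcyc ▸ Subgroup.mem_top y : y ∈ Subgroup.zpowers x)
        rw [← hk]; exact (Commute.refl x).zpow_right k
      rw [hc.mul_pow, hx, hy, one_mul]
    obtain ⟨M, hM, hxM⟩ := (eq_top_or_exists_le_coatom (Subgroup.zpowers x)).resolve_left hcyc
    have hxM' : x ∈ M := hxM (Subgroup.mem_zpowers x)
    haveI : Group.IsNilpotent G := hG.isNilpotent
    haveI hMn : M.Normal :=
      Subgroup.NormalizerCondition.normal_of_coatom M Group.normalizerCondition_of_isNilpotent hM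
    set H := Subgroup.normalClosure ({x} : Set G) with hH
    have hHM : H ≤ M := Subgroup.normalClosure_le_normal (by simpa using hxM')
    have hHne : H ≠ ⊤ := fun h => hM.1 (top_le_iff.1 (h ▸ hHM))
    have hexp : ∀ h ∈ H, h ^ p = 1 := by
      intro h hh
      rw [hH, Subgroup.normalClosure] at hh
      induction hh using Subgroup.closure_induction with
      | mem w hw =>
        obtain ⟨z, hz, hzw⟩ := Group.mem_conjugatesOfSet_iff.1 hw
        rw [Set.mem_singleton_iff] at hz
        subst hz
        obtain ⟨c, rfl⟩ := isConj_iff.1 hzw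
        rw [conj_pow, hx, mul_one, mul_inv_cancel]
      | one => exact one_pow p
      | mul u v hu hv hu' hv' => exact hsub H hHne u v hu hv hu' hv'
      | inv u _ hu' => rw [inv_pow, hu', inv_one]
    let f : ℕ → G := fun i => (x * y) ^ i * y⁻¹ ^ i
    have hxH : x ∈ H := Subgroup.subset_normalClosure rfl
    have hfH : ∀ i, f i ∈ H := by
      intro i
      induction i with
      | zero => simp [f, H.one_mem]
      | succ i ihi =>
        have he : f (i + 1) = x * (y * f i * y⁻¹) := by
          simp only [f]; rw [pow_succ', pow_succ]; group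
        rw [he]
        exact H.mul_mem hxH ((inferInstance : H.Normal).conj_mem _ ihi y)
    have hF : PolySeq.F G p = ⊥ := hbot
    have hpoly : ∀ k, PolySeq.P k 0 f := by
      intro k
      have hmem : ∀ w : G, w ∈ PolySeq.F G (0 + 1) := fun w => Subgroup.mem_top w
      have h1 := PolySeq.P_binom k 1 0 (hmem (x * y))
      have h2 := PolySeq.P_binom k 1 0 (hmem y⁻¹)
      simp only [Nat.choose_one_right] at h1 h2
      exact (PolySeq.closure_aux k).1 0 _ _ h1 h2
    have h := PolySeq.vanish_at_prime hp hF hexp (p - 1) (by have := hp.pos; omega) hpoly hfH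
      (fun j hj => by
        obtain rfl : j = 0 := by omega
        simp [f])
    simpa [f, inv_pow, hy] using h

theorem mul_pow_prime_of_class_lt {p : ℕ} [Fact p.Prime] {G : Type u} [Group G] [Finite G]
    (hG : IsPGroup p G) (hbot : (⊤ : Subgroup G).lowerCentralSeries (p - 1) = ⊥) {x y : G}
    (hx : x ^ p = 1) (hy : y ^ p = 1) : (x * y) ^ p = 1 :=
  mul_pow_prime_aux _ le_rfl hG hbot x y hx hy

end Cfsg.Agent.Solv
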