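import Mathlib
import Cfsg.Agent.Lib.Fusion.RankTwoExponent
import Cfsg.Agent.Lib.Fusion.SmallClassPow
import Cfsg.Prelude.Def_OddOrderLocal

/-!
Coprime operators on metacyclic `p`-groups.
-/

set_option autoImplicit false
set_option linter.style.haveILetI false

namespace Cfsg.Agent.Solv.MetaAct

open scoped commutatorElement

universe u v

variable {p : ℕ} [hp : Fact p.Prime]

/-- A nontrivial fixed point of an abelian quotient of coprime order gives a proper subgroup containing all displacements. -/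
theorem exists_displacement_bound {X : Type u} [Group X] [Finite X] (hX : IsPGroup p X) (N : Subgroup X) [N.Normal]
    (hcomm : ∀ x y : X, ⁅x, y⁆ ∈ N) {A : Type v} [Group A] [Finite A] (hco : (Nat.card A).Coprime p)
    (ψ : A →* MulAut X) (hinv : ∀ a, ∀ n ∈ N, ψ a n ∈ N) {k : X} (hk : k ∉ N) (hfix : ∀ a, k⁻¹ * ψ a k ∈ N) :
    ∃ U : Subgroup X, U ≠ ⊤ ∧ ∀ a x, x⁻¹ * ψ a x ∈ U := by
  classical
  letI : CommGroup (X ⧸ N) := { QuotientGroup.Quotient.group N with
    mul_comm := fun a b => by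
      induction a using QuotientGroup.induction_on with | H x =>
      induction b using QuotientGroup.induction_on with | H y =>
      rw [← QuotientGroup.mk_mul, ← QuotientGroup.mk_mul, QuotientGroup.eq]
      have h := hcomm y⁻¹ x⁻¹
      rwa [commutatorElement_def, inv_inv, inv_inv, mul_assoc (y⁻¹ * x⁻¹), ← mul_inv_rev] at h }
  haveI : Fintype A := Fintype.ofFinite A
  let f : X →* X ⧸ N := MonoidHom.mk' (fun x => ∏ a : A, ((ψ a x : X) : X ⧸ N)) fun x y => by
    simp only [map_mul, QuotientGroup.mk_mul, Finset.prod_mul_distrib]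
  refine ⟨f.ker, fun htop => hk ?_, fun a x => ?_⟩
  · have h1 : (k : X ⧸ N) ^ Nat.card A = 1 := by
      rw [Nat.card_eq_fintype_card, ← Finset.card_univ, ← Finset.prod_const]
      rw [← (MonoidHom.mem_ker.1 (htop ▸ Subgroup.mem_top k : k ∈ f.ker))]
      exact Finset.prod_congr rfl fun a _ => QuotientGroup.eq.2 (hfix a)
    obtain ⟨i, hi⟩ := hX k
    rw [← QuotientGroup.eq_one_iff, ← orderOf_eq_one_iff]
    exact Nat.eq_one_of_dvd_coprimes (hco.pow_right i) (orderOf_dvd_of_pow_eq_one h1)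
      (orderOf_dvd_of_pow_eq_one (by rw [← QuotientGroup.mk_pow, hi, QuotientGroup.mk_one]))
  · rw [MonoidHom.mem_ker, map_mul, map_inv, inv_mul_eq_one]
    show ∏ b : A, ((ψ b x : X) : X ⧸ N) = ∏ b : A, ((ψ b (ψ a x) : X) : X ⧸ N)
    exact (Fintype.prod_equiv (Equiv.mulRight a) _ _ fun b => by
      rw [Equiv.coe_mulRight, map_mul, MulAut.mul_apply]).symm

/-- The statement for a minimal non-abelian quotient. -/
theorem not_full_class_two (hp2 : p ≠ 2) {Q : Type u} [Group Q] [Finite Q] (hQ : IsPGroup p Q)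
    (hm : Cfsg.IsMetacyclic Q) (hc : Nat.card (commutator Q) = p) {A : Type v} [Group A] [Finite A]
    (hco : (Nat.card A).Coprime p) (ψ : A →* MulAut Q) :
    ∃ U : Subgroup Q, U ≠ ⊤ ∧ ∀ a x, x⁻¹ * ψ a x ∈ U := by
  classical
  obtain ⟨z, hz⟩ : ∃ z, z ∈ commutator Q ∧ z ≠ 1 := by
    obtain ⟨z, hz, hz1⟩ := (Subgroup.bot_or_exists_ne_one (commutator Q)).resolve_left (fun h => by
      rw [h, Subgroup.card_bot] at hc; exact hp.out.ne_one hc.symm)
    exact ⟨z, hz, hz1⟩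
  obtain ⟨hzQ, hz1⟩ := hz
  have hcen : commutator Q ≤ Subgroup.center Q := Fusion.le_center_of_card_prime hQ _ hc.le
  have hcomm : ∀ x y : Q, ⁅x, y⁆ ∈ commutator Q := fun x y =>
    commutator_def Q ▸ Subgroup.commutator_mem_commutator (Subgroup.mem_top x) (Subgroup.mem_top y)
  have hcp : ∀ c ∈ commutator Q, c ^ p = 1 := fun c hc' => by
    rw [← hc]; exact congrArg Subtype.val (pow_card_eq_one' (x := (⟨c, hc'⟩ : commutator Q)))
  have hzgen : ∀ c ∈ commutator Q, c ∈ Subgroup.zpowers z := fun c hc' => by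
    rw [Subgroup.eq_of_le_of_card_ge (Subgroup.zpowers_le.2 hzQ)
      (by rw [hc, Nat.card_zpowers, orderOf_eq_prime (hcp z hzQ) hz1])]
    exact hc'
  have hmul : ∀ u v w : Q, ⁅u, v * w⁆ = ⁅u, v⁆ * ⁅u, w⁆ := fun u v w => by
    rw [show ⁅u, v * w⁆ = ⁅u, v⁆ * (v * ⁅u, w⁆ * v⁻¹) by simp only [commutatorElement_def]; group,
      Subgroup.mem_center_iff.1 (hcen (hcomm u w)) v, mul_inv_cancel_right]
  have hpow : ∀ u v : Q, ∀ n : ℕ, ⁅u, v ^ n⁆ = ⁅u, v⁆ ^ n := fun u v n => by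
    induction n with
    | zero => simp
    | succ n ih => rw [pow_succ, hmul, ih, pow_succ]
  have hpc : ∀ u : Q, u ^ p ∈ Subgroup.center Q := fun u => Subgroup.mem_center_iff.2 fun v =>
    commutatorElement_eq_one_iff_mul_comm.1 (by rw [hpow, hcp _ (hcomm v u)])
  -- `p`-th powers are multiplicative
  have hsc : Fusion.SmallClass p Q := Or.inl ⟨hp2, Subgroup.commutator_eq_bot_iff_le_centralizer.2
    fun c hc' => Subgroup.mem_centralizer_iff.2 fun g _ => Subgroup.mem_center_iff.1 (hcen hc') g⟩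
  have hP : ∀ j : ℕ, ∀ u v : Q, (u * v) ^ p ^ (j + 1) = u ^ p ^ (j + 1) * v ^ p ^ (j + 1) := by
    have h1 : ∀ u v : Q, (u * v) ^ p = u ^ p * v ^ p := fun u v => by
      obtain ⟨m, hm'⟩ : p ∣ p.choose 2 := hp.out.dvd_choose_self two_ne_zero (lt_of_le_of_ne hp.out.two_le (Ne.symm hp2))
      have hn : ∀ n : ℕ, (u * v) ^ n = u ^ n * v ^ n * ⁅v, u⁆ ^ (n.choose 2) := by
        intro n
        induction n with
        | zero => simp
        | succ n ih =>
          have hc1 : ∀ w : Q, ∀ i : ℕ, Commute (⁅v, u⁆ ^ i) w := fun w i =>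
            (show Commute ⁅v, u⁆ w from (Subgroup.mem_center_iff.1 (hcen (hcomm v u)) w).symm).pow_left i
          have hvu : v ^ n * u = ⁅v, u⁆ ^ n * (u * v ^ n) := by
            have h2 : ⁅v ^ n, u⁆ = ⁅v, u⁆ ^ n := by
              rw [← commutatorElement_inv u (v ^ n), hpow, ← inv_pow, commutatorElement_inv]
            rw [← h2, commutatorElement_def]; group
          rw [pow_succ, ih, Nat.choose_succ_succ, Nat.choose_one_right, pow_add]
          calc u ^ n * v ^ n * ⁅v, u⁆ ^ n.choose 2 * (u * v)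
              = u ^ n * (v ^ n * u) * v * ⁅v, u⁆ ^ n.choose 2 := by
                rw [mul_assoc (u ^ n * v ^ n), (hc1 (u * v) _).eq]; group
            _ = u ^ n * (⁅v, u⁆ ^ n * (u * v ^ n)) * v * ⁅v, u⁆ ^ n.choose 2 := by rw [hvu]
            _ = u ^ n * ((u * v ^ n) * ⁅v, u⁆ ^ n) * v * ⁅v, u⁆ ^ n.choose 2 := by rw [(hc1 (u * v ^ n) n).eq]
            _ = u ^ n * (u * v ^ n) * (⁅v, u⁆ ^ n * v) * ⁅v, u⁆ ^ n.choose 2 := by group
            _ = u ^ n * (u * v ^ n) * (v * ⁅v, u⁆ ^ n) * ⁅v, u⁆ ^ n.choose 2 := by rw [(hc1 v n).eq]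
            _ = _ := by group
      rw [hn p, hm', pow_mul, hcp _ (hcomm v u), one_pow, mul_one]
    intro j
    induction j with
    | zero => intro u v; rw [pow_one]; exact h1 u v
    | succ j ih =>
      intro u v
      rw [pow_succ, pow_mul, ih, h1, ← pow_mul, ← pow_mul]
  let f : ℕ → (Q →* Q) := fun j => MonoidHom.mk' (fun u => u ^ p ^ (j + 1)) (hP j)
  have hf : ∀ j u, f j u = u ^ p ^ (j + 1) := fun _ _ => rfl
  -- `P₁` and the centre
  obtain ⟨P₁, hP₁⟩ : ∃ P₁, P₁ = (f 0).range := ⟨_, rfl⟩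
  have hP₁c : P₁ ≤ Subgroup.center Q := by
    rw [hP₁]; rintro _ ⟨u, rfl⟩; rw [hf, pow_one]; exact hpc u
  haveI hP₁n : P₁.Normal := ⟨fun x hx g => by
    rw [Subgroup.mem_center_iff.1 (hP₁c hx) g, mul_inv_cancel_right]; exact hx⟩
  have hexp : ∀ u : Q, (u : Q ⧸ P₁) ^ p = 1 := fun u => by
    rw [← QuotientGroup.mk_pow, QuotientGroup.eq_one_iff, hP₁]
    exact ⟨u, by rw [hf, pow_one]⟩
  obtain ⟨C, hCn, hCc, hCq⟩ := hm
  haveI := hCn
  haveI := hCc
  haveI := hCq
  obtain ⟨c, hc0⟩ := IsCyclic.exists_generator (α := C)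
  obtain ⟨t₀, ht₀⟩ := IsCyclic.exists_generator (α := Q ⧸ C)
  obtain ⟨t, rfl⟩ := QuotientGroup.mk_surjective t₀
  have hdec : ∀ u : Q, ∃ i l : ℤ, u = (c : Q) ^ i * t ^ l := fun u => by
    obtain ⟨l, hl⟩ := ht₀ (u : Q ⧸ C)
    have h1 : u * (t ^ l)⁻¹ ∈ C := by
      have h2 : (t ^ l)⁻¹ * u ∈ C := QuotientGroup.eq.1 (by simpa using hl)
      have := hCn.conj_mem _ h2 (t ^ l)
      rwa [mul_inv_cancel_left] at this
    obtain ⟨i, hi⟩ := hc0 ⟨_, h1⟩
    exact ⟨i, l, by rw [← Subgroup.coe_zpow, show c ^ i = ⟨_, h1⟩ from hi, inv_mul_cancel_right]⟩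
  have hCP : (Subgroup.zpowers ((c : Q) : Q ⧸ P₁)).Normal := by
    have h : C.map (QuotientGroup.mk' P₁) = Subgroup.zpowers ((c : Q) : Q ⧸ P₁) := by
      conv_lhs => rw [show C = Subgroup.zpowers (c : Q) from le_antisymm (fun u hu => by
        obtain ⟨i, hi⟩ := hc0 ⟨u, hu⟩
        exact ⟨i, by simpa using congrArg Subtype.val hi⟩) (Subgroup.zpowers_le.2 c.2)]
      rw [MonoidHom.map_zpowers]; rfl
    rw [← h]
    exact hCn.map _ (QuotientGroup.mk'_surjective P₁)
  have hCcen : ((c : Q) : Q ⧸ P₁) ∈ Subgroup.center (Q ⧸ P₁) := by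
    haveI := hCP
    refine Fusion.le_center_of_card_prime (hQ.to_quotient P₁) _ ?_ (Subgroup.mem_zpowers _)
    rw [Nat.card_zpowers]
    exact Nat.le_of_dvd hp.out.pos (orderOf_dvd_of_pow_eq_one (hexp c))
  have hPcomm : ∀ x y : Q, ⁅x, y⁆ ∈ P₁ := fun x y => by
    obtain ⟨i, l, rfl⟩ := hdec x
    obtain ⟨i', l', rfl⟩ := hdec y
    rw [← QuotientGroup.eq_one_iff, ← QuotientGroup.mk'_apply, map_commutatorElement,
      commutatorElement_eq_one_iff_commute, map_mul, map_mul, map_zpow, map_zpow, map_zpow, map_zpow]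
    have hcc : ∀ w : Q ⧸ P₁, Commute ((c : Q) : Q ⧸ P₁) w := fun w => (Subgroup.mem_center_iff.1 hCcen w).symm
    exact (((Commute.refl _).zpow_zpow i i').mul_right ((hcc _).zpow_zpow i l')).mul_left
      ((((hcc _).zpow_zpow i' l).symm).mul_right ((Commute.refl _).zpow_zpow l l'))
  have hP₁idx : P₁.index ≤ p ^ 2 := by
    rw [Subgroup.index_eq_card]
    obtain ⟨Tc, hTc⟩ : ∃ Tc, Tc = Subgroup.zpowers ((c : Q) : Q ⧸ P₁) := ⟨_, rfl⟩
    have hsurj : Function.Surjective (fun w : Subgroup.zpowers ((c : Q) : Q ⧸ P₁) × Subgroup.zpowers ((t : Q) : Q ⧸ P₁) => ((w.1 : Q ⧸ P₁) * w.2)) := by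
      intro w
      obtain ⟨u, rfl⟩ := QuotientGroup.mk_surjective w
      obtain ⟨i, l, rfl⟩ := hdec u
      exact ⟨(⟨_, Subgroup.zpow_mem_zpowers _ i⟩, ⟨_, Subgroup.zpow_mem_zpowers _ l⟩), by simp⟩
    refine (Nat.card_le_card_of_surjective _ hsurj).trans ?_
    rw [Nat.card_prod, Nat.card_zpowers, Nat.card_zpowers, pow_two]
    exact Nat.mul_le_mul (Nat.le_of_dvd hp.out.pos (orderOf_dvd_of_pow_eq_one (hexp c)))
      (Nat.le_of_dvd hp.out.pos (orderOf_dvd_of_pow_eq_one (hexp t)))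
  -- index `p` means abelian
  have habel : ∀ (Z : Subgroup Q) (u : Q), Z ≤ Subgroup.center Q → ∀ W : Subgroup Q, W ≤ Z ⊔ Subgroup.zpowers u →
      ∀ v ∈ W, ∀ w ∈ W, Commute v w := by
    intro Z u hZ W hW v hv w hw
    haveI : Z.Normal := ⟨fun x hx g => by rw [Subgroup.mem_center_iff.1 (hZ hx) g, mul_inv_cancel_right]; exact hx⟩
    obtain ⟨a, ha, _, ⟨i, rfl⟩, rfl⟩ := Subgroup.mem_sup_of_normal_left.1 (hW hv)
    obtain ⟨b, hb, _, ⟨l, rfl⟩, rfl⟩ := Subgroup.mem_sup_of_normal_left.1 (hW hw)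
    have hza : ∀ w, Commute a w := fun w => (Subgroup.mem_center_iff.1 (hZ ha) w).symm
    have hzb : ∀ w, Commute b w := fun w => (Subgroup.mem_center_iff.1 (hZ hb) w).symm
    exact (hza _).mul_left ((hzb _).symm.mul_right ((Commute.refl u).zpow_zpow i l))
  have hgrow : ∀ U V : Subgroup Q, U < V → Nat.card U * p ≤ Nat.card V := fun U V hlt => by
    obtain ⟨i, hi⟩ := (hQ.to_subgroup U).exists_card_eq
    obtain ⟨j, hj⟩ := (hQ.to_subgroup V).exists_card_eq
    have h1 : Nat.card U < Nat.card V := lt_of_le_of_ne (Subgroup.card_le_of_le hlt.le) fun e =>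
      hlt.ne (Subgroup.eq_of_le_of_card_ge hlt.le e.ge)
    rw [hi, hj] at h1 ⊢
    rw [← pow_succ]
    exact Nat.pow_le_pow_right hp.out.pos ((Nat.pow_lt_pow_iff_right hp.out.one_lt).1 h1)
  -- over a line above `P₁`
  have hline : ∀ W : Subgroup Q, P₁ ≤ W → W ≠ ⊤ → ∀ u ∈ W, u ∉ P₁ → W = P₁ ⊔ Subgroup.zpowers u := by
    intro W hPW hW u hu huP
    refine (Subgroup.eq_of_le_of_card_ge (sup_le hPW (Subgroup.zpowers_le.2 hu)) ?_).symm
    have h1 := hgrow _ _ (lt_top_iff_ne_top.2 hW)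
    have h2 := hgrow _ _ (lt_of_le_of_ne (le_sup_left : P₁ ≤ P₁ ⊔ Subgroup.zpowers u)
      fun e => huP (e ▸ Subgroup.mem_sup_right (Subgroup.mem_zpowers u)))
    rw [Subgroup.card_top, ← P₁.card_mul_index] at h1
    refine Nat.le_of_mul_le_mul_right (h1.trans (le_trans (Nat.mul_le_mul_left _ hP₁idx) ?_)) hp.out.pos
    rw [pow_two, ← mul_assoc]
    exact Nat.mul_le_mul_right p h2
  have hnab : ¬ ∀ v w : Q, Commute v w := fun h => hz1 (by
    have : commutator Q = ⊥ := by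
      rw [commutator_def, ← le_bot_iff, Subgroup.commutator_le]
      exact fun v _ w _ => Subgroup.mem_bot.2 (commutatorElement_eq_one_iff_commute.2 (h v w))
    rw [this, Subgroup.mem_bot] at hzQ
    exact hzQ)
  -- the maximal height of `z`
  obtain ⟨e, he⟩ : ∃ e : ℕ, ∀ u : Q, u ^ p ^ e = 1 := by
    obtain ⟨e, he⟩ := hQ.exists_card_eq
    exact ⟨e, fun u => by rw [← he]; exact pow_card_eq_one'⟩
  have h0 : z ∈ (f 0).range := by
    have hle : commutator Q ≤ P₁ := by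
      rw [commutator_def, Subgroup.commutator_le]; exact fun a _ b _ => hPcomm a b
    exact hP₁ ▸ hle hzQ
  obtain ⟨j, ⟨x, hxz⟩, hjmax⟩ : ∃ j, z ∈ (f j).range ∧ z ∉ (f (j + 1)).range := by
    by_contra hcon
    push Not at hcon
    have hall : ∀ j, z ∈ (f j).range := fun j => by
      induction j with
      | zero => exact h0
      | succ j ih => exact hcon j ih
    obtain ⟨u, hu⟩ := hall e
    rw [hf, pow_succ, pow_mul, he, one_pow] at hu
    exact hz1 hu.symm
  obtain ⟨N₁, hN₁⟩ : ∃ N₁, N₁ = (f (j + 1)).range := ⟨_, rfl⟩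
  rw [← hN₁] at hjmax
  have hN₁c : N₁ ≤ Subgroup.center Q := by
    rw [hN₁]; rintro _ ⟨u, rfl⟩
    rw [hf, pow_succ, pow_mul]
    exact hpc _
  haveI : N₁.Normal := ⟨fun x hx g => by rw [Subgroup.mem_center_iff.1 (hN₁c hx) g, mul_inv_cancel_right]; exact hx⟩
  obtain ⟨L, hL⟩ : ∃ L, L = (Subgroup.zpowers z ⊔ N₁).comap (f j) := ⟨_, rfl⟩
  obtain ⟨K, hK⟩ : ∃ K, K = N₁.comap (f j) := ⟨_, rfl⟩
  have hinvP : ∀ i (a : A), ∀ w ∈ (f i).range, ψ a w ∈ (f i).range := by
    rintro i a _ ⟨u, rfl⟩; exact ⟨ψ a u, by rw [hf, hf, map_pow]⟩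
  have hzA : ∀ a : A, ψ a z ∈ commutator Q := fun a =>
    (Subgroup.characteristic_iff_map_eq.1 (inferInstance : (commutator Q).Characteristic) (ψ a)).le ⟨z, hzQ, rfl⟩
  have hLinv : ∀ a, ∀ w ∈ L, ψ a w ∈ L := by
    intro a w hw
    rw [hL, Subgroup.mem_comap, hf] at hw ⊢
    obtain ⟨s, hs, n, hn, e⟩ := Subgroup.mem_sup_of_normal_right.1 hw
    rw [← map_pow, ← e, map_mul]
    obtain ⟨i, rfl⟩ := hs
    exact mul_mem (Subgroup.mem_sup_left (by rw [map_zpow]; exact zpow_mem (hzgen _ (hzA a)) i))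
      (Subgroup.mem_sup_right (hN₁ ▸ hinvP _ a n (hN₁ ▸ hn)))
  have hKinv : ∀ a, ∀ w ∈ K, ψ a w ∈ K := by
    intro a w hw
    rw [hK, Subgroup.mem_comap, hN₁, hf] at hw ⊢
    rw [← map_pow]
    exact hinvP _ a _ hw
  have hPK : P₁ ≤ K := by
    rw [hP₁, hK]; rintro _ ⟨u, rfl⟩
    rw [Subgroup.mem_comap, hN₁]
    exact ⟨u, by rw [hf, hf, hf, pow_one, ← pow_mul, ← pow_succ']⟩
  have hxK : x ∉ K := fun h => hjmax (by rw [hK, Subgroup.mem_comap, hxz] at h; exact h)
  have hKL : K ≤ L := fun w hw => by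
    rw [hK, Subgroup.mem_comap] at hw; rw [hL, Subgroup.mem_comap]; exact Subgroup.mem_sup_right hw
  have hxL : x ∈ L := by
    rw [hL, Subgroup.mem_comap, hxz]; exact Subgroup.mem_sup_left (Subgroup.mem_zpowers z)
  have hxP : x ∉ P₁ := fun h => hxK (hPK h)
  -- the scalar of an operator
  have hscal : ∀ a : A, ∃ s : ℕ, ψ a z = z ^ s ∧ (x ^ s)⁻¹ * ψ a x ∈ K := fun a => by
    have h1 := hzgen _ (hzA a)
    rw [← mem_powers_iff_mem_zpowers] at h1
    obtain ⟨s, hs⟩ := h1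
    refine ⟨s, hs.symm, ?_⟩
    rw [hK, Subgroup.mem_comap, map_mul, map_inv, map_pow, hxz, hf j (ψ a x), ← map_pow, ← hf j x, hxz, ← hs,
      inv_mul_cancel]
    exact one_mem _
  have hcompute : ∀ (a : A) (y : Q) (s : ℕ), ψ a z = z ^ s → Commute ((x ^ s)⁻¹ * ψ a x) (ψ a y) →
      Commute x (y⁻¹ * ψ a y) := by
    intro a y s hs hk
    obtain ⟨i, hi⟩ := hzgen _ (hcomm x y)
    obtain ⟨k, hk'⟩ : ∃ k, k = (x ^ s)⁻¹ * ψ a x := ⟨_, rfl⟩
    rw [← hk'] at hk
    have h1 : ψ a ⁅x, y⁆ = ⁅x, y⁆ ^ s := by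
      rw [← hi, map_zpow, hs, ← zpow_natCast, ← zpow_mul, mul_comm, zpow_mul, zpow_natCast]
    have h2 : ⁅ψ a x, ψ a y⁆ = ⁅x, ψ a y⁆ ^ s := by
      rw [show ψ a x = x ^ s * k by rw [hk', mul_inv_cancel_left]]
      rw [show ⁅x ^ s * k, ψ a y⁆ = (x ^ s * ⁅k, ψ a y⁆ * (x ^ s)⁻¹) * ⁅x ^ s, ψ a y⁆ by
        simp only [commutatorElement_def]; group,
        commutatorElement_eq_one_iff_commute.2 hk, mul_one, mul_inv_cancel, one_mul,
        ← commutatorElement_inv (ψ a y) (x ^ s), hpow, ← inv_pow, commutatorElement_inv]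
    rw [← map_commutatorElement, h1] at h2
    have hps : ¬ p ∣ s := fun ⟨s', hs'⟩ => hz1 ((ψ a).injective (by
      rw [map_one, hs, hs', pow_mul, hcp z hzQ, one_pow]))
    have h3 : ⁅x, y⁻¹ * ψ a y⁆ ^ s = 1 := by
      have hinv : ⁅x, y⁻¹⁆ = ⁅x, y⁆⁻¹ := by
        have := hmul x y⁻¹ y
        rw [inv_mul_cancel, commutatorElement_one_right] at this
        exact eq_inv_of_mul_eq_one_left this.symm
      rw [hmul, hinv, (show Commute ⁅x, y⁆⁻¹ ⁅x, ψ a y⁆ from
        (Subgroup.mem_center_iff.1 (hcen (inv_mem (hcomm x y))) _).symm).mul_pow, inv_pow, ← h2, inv_mul_cancel]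
    exact commutatorElement_eq_one_iff_commute.1 (orderOf_eq_one_iff.1 (Nat.eq_one_of_dvd_coprimes
      (hp.out.coprime_iff_not_dvd.2 hps) (orderOf_dvd_of_pow_eq_one (hcp _ (hcomm x _))) (orderOf_dvd_of_pow_eq_one h3)))
  by_cases hLtop : L = ⊤
  · -- the kernel is the invariant line
    haveI : (Subgroup.center Q).Normal := inferInstance
    have hKtop : K ≠ ⊤ := fun h => hxK (h ▸ Subgroup.mem_top x)
    have hKP : ∃ y ∈ K, y ∉ P₁ := by
      by_contra hcon
      push Not at hcon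
      refine hnab fun v w => ?_
      -- every element lies over `P₁` and `x`
      have hcov : ∀ u : Q, u ∈ P₁ ⊔ Subgroup.zpowers x := fun u => by
        have hu : u ∈ L := hLtop ▸ Subgroup.mem_top u
        rw [hL, Subgroup.mem_comap] at hu
        obtain ⟨s, ⟨i, rfl⟩, n, hn, e⟩ := Subgroup.mem_sup_of_normal_right.1 hu
        have hk : (x ^ i)⁻¹ * u ∈ K := by
          rw [hK, Subgroup.mem_comap, map_mul, map_inv, map_zpow, hxz, ← e, inv_mul_cancel_left]
          exact hn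
        have h2 := mul_mem (Subgroup.mem_sup_right (Subgroup.zpow_mem_zpowers x i) : x ^ i ∈ P₁ ⊔ Subgroup.zpowers x)
          (Subgroup.mem_sup_left (hcon _ hk))
        rwa [mul_inv_cancel_left] at h2
      exact habel P₁ x hP₁c ⊤ (fun u _ => hcov u) v trivial w trivial
    obtain ⟨y, hy, hyP⟩ := hKP
    have hKline := hline K hPK hKtop y hy hyP
    have hKab := habel P₁ y hP₁c K hKline.le
    refine exists_displacement_bound hQ (Subgroup.center Q) (fun u v => hcen (hcomm u v)) hco ψ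
      (fun a n hn => (Subgroup.characteristic_iff_map_eq.1
        (inferInstance : (Subgroup.center Q).Characteristic) (ψ a)).le ⟨n, hn, rfl⟩) (k := y) ?_ fun a => ?_
    · intro hyZ
      refine hnab fun v w => habel (Subgroup.center Q) x le_rfl ⊤ (fun u _ => ?_) v trivial w trivial
      have hu : u ∈ L := hLtop ▸ Subgroup.mem_top u
      rw [hL, Subgroup.mem_comap] at hu
      obtain ⟨s, ⟨i, rfl⟩, n, hn, e⟩ := Subgroup.mem_sup_of_normal_right.1 hu
      have hk : (x ^ i)⁻¹ * u ∈ K := by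
        rw [hK, Subgroup.mem_comap, map_mul, map_inv, map_zpow, hxz, ← e, inv_mul_cancel_left]
        exact hn
      have hKZ : K ≤ Subgroup.center Q := hKline.le.trans (sup_le hP₁c (Subgroup.zpowers_le.2 hyZ))
      have h2 := mul_mem (Subgroup.mem_sup_right (Subgroup.zpow_mem_zpowers x i) : x ^ i ∈ Subgroup.center Q ⊔ Subgroup.zpowers x)
        (Subgroup.mem_sup_left (hKZ hk))
      rwa [mul_inv_cancel_left] at h2
    · obtain ⟨s, hs, hxs⟩ := hscal a
      have hd : y⁻¹ * ψ a y ∈ K := mul_mem (inv_mem hy) (hKinv a y hy)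
      have hcx := hcompute a y s hs (hKab _ hxs _ (hKinv a y hy))
      refine Subgroup.mem_center_iff.2 fun u => ?_
      have hu : u ∈ L := hLtop ▸ Subgroup.mem_top u
      rw [hL, Subgroup.mem_comap] at hu
      obtain ⟨s', ⟨i, rfl⟩, n, hn, e⟩ := Subgroup.mem_sup_of_normal_right.1 hu
      have hk : (x ^ i)⁻¹ * u ∈ K := by
        rw [hK, Subgroup.mem_comap, map_mul, map_inv, map_zpow, hxz, ← e, inv_mul_cancel_left]
        exact hn
      have h2 : Commute (x ^ i * ((x ^ i)⁻¹ * u)) (y⁻¹ * ψ a y) := (hcx.zpow_left i).mul_left (hKab _ hk _ hd)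
      rw [mul_inv_cancel_left] at h2
      exact h2.eq
  · -- the line through `x`
    have hLline := hline L (hPK.trans hKL) hLtop x hxL hxP
    have hLab := habel P₁ x hP₁c L hLline.le
    have hKP : K ≤ P₁ := fun w hw => by
      by_contra hwP
      refine hxK ?_
      have := hline K hPK (fun h => hLtop (eq_top_iff.2 (h ▸ hKL))) w hw hwP
      rw [this, ← hline L (hPK.trans hKL) hLtop w (hKL hw) hwP]
      exact hxL
    obtain ⟨y, -, hyL⟩ := SetLike.exists_of_lt (lt_top_iff_ne_top.2 hLtop)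
    haveI : L.Normal := ⟨fun w hw g => by
      rw [show g * w * g⁻¹ = ⁅g, w⁆ * w by rw [commutatorElement_def]; group]
      exact mul_mem (hPK.trans hKL (hPcomm g w)) hw⟩
    refine exists_displacement_bound hQ L (fun u v => hPK.trans hKL (hPcomm u v)) hco ψ hLinv (k := y) hyL fun a => ?_
    obtain ⟨s, hs, hxs⟩ := hscal a
    have hcx := hcompute a y s hs (show Commute ((x ^ s)⁻¹ * ψ a x) (ψ a y) from
      (Subgroup.mem_center_iff.1 (hP₁c (hKP hxs)) _).symm)
    by_contra hdL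
    have hC : P₁ ⊔ Subgroup.zpowers x ≤ Subgroup.centralizer ({y⁻¹ * ψ a y} : Set Q) :=
      sup_le (fun w hw => Subgroup.mem_centralizer_singleton_iff.2 (Subgroup.mem_center_iff.1 (hP₁c hw) _).symm)
        (Subgroup.zpowers_le.2 (Subgroup.mem_centralizer_singleton_iff.2 hcx.eq))
    obtain ⟨d, hd⟩ : ∃ d, d = y⁻¹ * ψ a y := ⟨_, rfl⟩
    rw [← hd] at hC hdL
    -- then `x` would be central
    have htop : Subgroup.centralizer ({d} : Set Q) = ⊤ := by
      by_contra hne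
      refine hdL ?_
      rw [hLline, ← hline _ (le_sup_left.trans hC) hne x (hC (Subgroup.mem_sup_right (Subgroup.mem_zpowers x))) hxP]
      exact Subgroup.mem_centralizer_singleton_iff.2 rfl
    have hdc : ∀ w, Commute w d := fun w =>
      Subgroup.mem_centralizer_singleton_iff.1 (htop ▸ Subgroup.mem_top w)
    refine hnab fun v w => habel (Subgroup.center Q) x le_rfl ⊤ (fun u _ => ?_) v trivial w trivial
    have hne : Subgroup.center Q ⊔ Subgroup.zpowers x = ⊤ := by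
      by_contra hne
      refine hdL ?_
      rw [hLline, ← hline _ (hP₁c.trans le_sup_left) hne x (Subgroup.mem_sup_right (Subgroup.mem_zpowers x)) hxP]
      exact Subgroup.mem_sup_left (Subgroup.mem_center_iff.2 fun w => (hdc w).eq)
    rw [hne]; trivial

end Cfsg.Agent.Solv.MetaAct
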