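import Mathlib
import Cfsg.Agent.Lib.Solv.MetacyclicAction
import Cfsg.Agent.Lib.Solv.Coprime
import Cfsg.Agent.Lib.Fusion.RankTwoOmega
import Cfsg.Agent.S0055

/-!
Coprime operators split a metacyclic `p`-group.
-/

set_option autoImplicit false
set_option linter.style.haveILetI false

namespace Cfsg.Agent.Solv.MetaAct

open scoped commutatorElement

universe u v

variable {p : ℕ} [hp : Fact p.Prime]

theorem isMetacyclic_of_injective {X : Type u} [Group X] {R : Type v} [Group R] (f : X →* R)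
    (hf : Function.Injective f) (h : Cfsg.IsMetacyclic R) : Cfsg.IsMetacyclic X := by
  obtain ⟨N, hN, hNc, hq⟩ := h
  haveI := hN
  haveI := hNc
  haveI := hq
  let g : X →* R ⧸ N := (QuotientGroup.mk' N).comp f
  haveI hgc : IsCyclic g.ker := by
    refine isCyclic_of_injective (G' := N)
      ((f.comp g.ker.subtype).codRestrict N fun x => ?_) fun a b h => ?_
    · exact (QuotientGroup.eq_one_iff _).1 (MonoidHom.mem_ker.1 x.2)
    · exact Subtype.ext (hf (congrArg Subtype.val h))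
  exact ⟨g.ker, inferInstance, hgc,
    isCyclic_of_surjective (QuotientGroup.quotientKerEquivRange g).symm.toMonoidHom
      (QuotientGroup.quotientKerEquivRange g).symm.surjective⟩

theorem isMetacyclic_of_surjective {X : Type u} [Group X] {R : Type v} [Group R] (f : R →* X)
    (hf : Function.Surjective f) (h : Cfsg.IsMetacyclic R) : Cfsg.IsMetacyclic X := by
  obtain ⟨N, hN, hNc, hq⟩ := h
  haveI := hN
  haveI := hNc
  haveI := hq
  haveI : (N.map f).Normal := hN.map f hf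
  refine ⟨N.map f, inferInstance, isCyclic_of_surjective (f.subgroupMap N) (f.subgroupMap_surjective N),
    isCyclic_of_surjective (QuotientGroup.map N (N.map f) f (Subgroup.le_comap_map f N)) fun y => ?_⟩
  obtain ⟨x, rfl⟩ := QuotientGroup.mk_surjective y
  obtain ⟨r, rfl⟩ := hf x
  exact ⟨(r : R ⧸ N), rfl⟩

/-- A metacyclic `p`-group equal to its commutator with a coprime operator group is abelian. -/
theorem abelian_of_full {G : Type u} [Group G] [Finite G] (hp2 : p ≠ 2) (P A : Subgroup G) (hP : IsPGroup p P)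
    (hm : Cfsg.IsMetacyclic P) (hA : A ≤ Subgroup.normalizer (P : Set G)) (hco : (Nat.card A).Coprime p)
    (hfull : ⁅P, A⁆ = P) : IsMulCommutative P := by
  classical
  by_contra hnab
  obtain ⟨N, hN, hNc, hq⟩ := id hm
  haveI := hN
  haveI := hNc
  haveI := hq
  have hle : commutator P ≤ N := by
    rw [commutator_def, Subgroup.commutator_le]
    intro a _ b _
    rw [← QuotientGroup.eq_one_iff (N := N), ← QuotientGroup.mk'_apply, map_commutatorElement,
      commutatorElement_eq_one_iff_mul_comm]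
    exact (IsCyclic.isMulCommutative (α := P ⧸ N)).is_comm.comm _ _
  haveI hcyc : IsCyclic (commutator P) :=
    isCyclic_of_injective (Subgroup.inclusion hle) (Subgroup.inclusion_injective hle)
  obtain ⟨c₀, hc₀⟩ := IsCyclic.exists_generator (α := commutator P)
  obtain ⟨c, hcdef⟩ : ∃ c : P, c = c₀ := ⟨_, rfl⟩
  have hgen : ∀ z ∈ commutator P, ∃ i : ℤ, c ^ i = z := fun z hz => by
    obtain ⟨i, hi⟩ := hc₀ ⟨z, hz⟩
    exact ⟨i, by rw [hcdef, ← Subgroup.coe_zpow]; exact congrArg Subtype.val hi⟩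
  have hcC : c ∈ commutator P := hcdef ▸ c₀.2
  have hc1 : c ≠ 1 := fun h => hnab ⟨⟨fun a b => commutatorElement_eq_one_iff_mul_comm.1 (by
    obtain ⟨i, hi⟩ := hgen _ (commutator_def P ▸ Subgroup.commutator_mem_commutator (Subgroup.mem_top a) (Subgroup.mem_top b))
    rw [← hi, h, one_zpow])⟩⟩
  obtain ⟨M, hM⟩ : ∃ M, M = Subgroup.zpowers (c ^ p) := ⟨_, rfl⟩
  have hMinv : ∀ e : MulAut P, ∀ x ∈ M, e x ∈ M := by
    intro e x hx
    rw [hM] at hx ⊢
    obtain ⟨j, rfl⟩ := hx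
    have he : e c ∈ commutator P :=
      (Subgroup.characteristic_iff_map_eq.1 (inferInstance : (commutator P).Characteristic) e).le ⟨c, hcC, rfl⟩
    obtain ⟨i, hi⟩ := hgen _ he
    rw [map_zpow, map_pow, ← hi, show (c ^ i) ^ p = (c ^ p) ^ i by
      rw [← zpow_natCast, ← zpow_natCast, ← zpow_mul, ← zpow_mul, mul_comm]]
    exact zpow_mem (zpow_mem (Subgroup.mem_zpowers _) _) _
  haveI hMn : M.Normal := ⟨fun x hx g => hMinv (MulAut.conj g) x hx⟩
  have hcM : c ∉ M := by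
    intro h
    rw [hM] at h
    obtain ⟨i, hi⟩ := h
    obtain ⟨k, hk⟩ := hP c
    have h1 : ((orderOf c : ℕ) : ℤ) ∣ (p : ℤ) * i - 1 := by
      rw [orderOf_dvd_iff_zpow_eq_one, zpow_sub, zpow_mul, zpow_natCast, zpow_one,
        show (c ^ p) ^ i = c from hi, mul_inv_cancel]
    obtain ⟨j, hj, hord⟩ := (Nat.dvd_prime_pow hp.out).1 (orderOf_dvd_of_pow_eq_one hk)
    rcases Nat.eq_zero_or_pos j with rfl | hj0
    · exact hc1 (orderOf_eq_one_iff.1 (by simpa using hord))
    · have h2 : (p : ℤ) ∣ (p : ℤ) * i - 1 := by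
        refine dvd_trans ?_ h1
        rw [hord]
        exact_mod_cast dvd_pow_self p hj0.ne'
      have h3 : (p : ℤ) ∣ 1 := by simpa using dvd_sub (dvd_mul_right (p : ℤ) i) h2
      have h4 : p = 1 := Nat.dvd_one.1 (by exact_mod_cast h3)
      exact hp.out.ne_one h4
  have hcq : Nat.card (commutator (P ⧸ M)) = p := by
    have h1 : commutator (P ⧸ M) = Subgroup.zpowers (c : P ⧸ M) := by
      have h2 : (commutator P).map (QuotientGroup.mk' M) = commutator (P ⧸ M) := by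
        rw [commutator_def, commutator_def, Subgroup.map_commutator,
          Subgroup.map_top_of_surjective _ (QuotientGroup.mk'_surjective M)]
      rw [← h2]
      refine le_antisymm ?_ (Subgroup.zpowers_le.2 ⟨c, hcC, rfl⟩)
      rintro _ ⟨z, hz, rfl⟩
      obtain ⟨i, rfl⟩ := hgen z hz
      exact ⟨i, by simp⟩
    rw [h1, Nat.card_zpowers]
    refine orderOf_eq_prime ?_ fun h => hcM ((QuotientGroup.eq_one_iff c).1 h)
    rw [← QuotientGroup.mk_pow, QuotientGroup.eq_one_iff, hM]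
    exact Subgroup.mem_zpowers _
  let ψ : A →* MulAut P := (Subgroup.normalizerMonoidHom P).comp (Subgroup.inclusion hA)
  have hmap : ∀ e : MulAut P, M.map (e : P →* P) = M := fun e => le_antisymm
    (by rintro _ ⟨x, hx, rfl⟩; exact hMinv e x hx)
    (fun x hx => ⟨e.symm x, hMinv e.symm x hx, e.apply_symm_apply x⟩)
  let ψq : A →* MulAut (P ⧸ M) := MonoidHom.mk' (fun a => QuotientGroup.congr M M (ψ a) (hmap _)) fun a b => by
    refine MulEquiv.ext fun x => ?_
    induction x using QuotientGroup.induction_on with | H y =>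
    show ((ψ (a * b) y : P) : P ⧸ M) = ((ψ a (ψ b y) : P) : P ⧸ M)
    rw [map_mul, MulAut.mul_apply]
  obtain ⟨U, hU, hdisp⟩ := not_full_class_two hp2 (hP.to_quotient M)
    (isMetacyclic_of_surjective (QuotientGroup.mk' M) (QuotientGroup.mk'_surjective M) hm) hcq hco ψq
  apply hU
  rw [eq_top_iff]
  intro x _
  obtain ⟨y, rfl⟩ := QuotientGroup.mk_surjective x
  have hy : (y : G) ∈ ⁅P, A⁆ := by rw [hfull]; exact y.2
  have hle2 : ⁅P, A⁆ ≤ (U.comap (QuotientGroup.mk' M)).map P.subtype := by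
    rw [Subgroup.commutator_le]
    intro r hr a ha
    refine ⟨(⟨r, hr⟩ : P) * ψ ⟨a, ha⟩ ⟨r, hr⟩⁻¹, ?_, ?_⟩
    · have h1 := hdisp ⟨a, ha⟩ ((⟨r, hr⟩⁻¹ : P) : P ⧸ M)
      rw [← QuotientGroup.mk_inv, inv_inv] at h1
      exact h1
    · show r * (a * r⁻¹ * a⁻¹) = ⁅r, a⁆
      rw [commutatorElement_def]; group
  obtain ⟨y', hy', e⟩ := hle2 hy
  rw [← Subtype.ext e]
  exact hy'

/-- A metacyclic `p`-group with a coprime operator group. -/
theorem split {G : Type u} [Group G] [Finite G] (hp2 : p ≠ 2) (R A : Subgroup G) (hR : IsPGroup p R)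
    (hRm : Cfsg.IsMetacyclic R) (hA : A ≤ Subgroup.normalizer (R : Set G)) (hcop : (Nat.card A).Coprime p) :
    IsMulCommutative ↥⁅R, A⁆ ∧ ⁅R, A⁆ ⊔ (R ⊓ Subgroup.centralizer (A : Set G)) = R ∧
      ⁅R, A⁆ ⊓ (R ⊓ Subgroup.centralizer (A : Set G)) = ⊥ ∧
      (¬ IsMulCommutative R → ¬ A ≤ Subgroup.centralizer (R : Set G) →
        ⁅R, A⁆ ≠ ⊥ ∧ IsCyclic ↥⁅R, A⁆ ∧ (R ⊓ Subgroup.centralizer (A : Set G)) ≠ ⊥ ∧
          IsCyclic ↥(R ⊓ Subgroup.centralizer (A : Set G)) ∧ ⁅R, R⁆ ≤ ⁅R, A⁆) := by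
  classical
  have hcoR : (Nat.card A).Coprime (Nat.card R) := by
    obtain ⟨k, hk⟩ := hR.exists_card_eq
    rw [hk]; exact hcop.pow_right k
  have hsol : Group.IsSolvable A ∨ Group.IsSolvable R := by
    haveI := hR.isNilpotent
    exact Or.inr inferInstance
  obtain ⟨h1, h2, h3⟩ := commutator_normal_in hA
  have hsub : ∀ X : Subgroup G, X ≤ R → Cfsg.IsMetacyclic X := fun X hX =>
    isMetacyclic_of_injective (Subgroup.inclusion hX) (Subgroup.inclusion_injective hX) hRm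
  haveI hab : IsMulCommutative ↥⁅R, A⁆ := abelian_of_full hp2 _ A (hR.to_le h1) (hsub _ h1) h3 hcop
    (commutator_commutator_eq hA hcoR hsol)
  have hsup := commutator_sup_fixed hA hcoR hsol
  have hinf : ⁅R, A⁆ ⊓ (R ⊓ Subgroup.centralizer (A : Set G)) = ⊥ := by
    have h := (Cfsg.Agent.S0055.decomp A ⁅R, A⁆ h3 (hcoR.coprime_dvd_right (Subgroup.card_dvd_of_le h1))).1
    rw [commutator_commutator_eq hA hcoR hsol] at h
    rw [eq_bot_iff] at h ⊢
    exact fun x hx => h ⟨⟨hx.1, hx.2.2⟩, hx.1⟩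
  refine ⟨hab, hsup, hinf, fun hnab hnc => ?_⟩
  have hD : ⁅R, A⁆ ≠ ⊥ := fun h => hnc (by
    rw [← Subgroup.commutator_eq_bot_iff_le_centralizer, Subgroup.commutator_comm, h])
  have hC : R ⊓ Subgroup.centralizer (A : Set G) ≠ ⊥ := fun h => by
    rw [h, sup_bot_eq] at hsup
    exact hnab (hsup ▸ hab)
  have hRnc : ¬ IsCyclic R := fun h => by
    haveI := h
    exact hnab IsCyclic.isMulCommutative
  have hcyc : ∀ X Y : Subgroup G, X ≤ R → Y ≤ R → X ⊓ Y = ⊥ → Y ≠ ⊥ → IsCyclic X := by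
    intro X Y hX hY hXY hY1
    by_contra hXc
    obtain ⟨-, hcR⟩ := Fusion.omega_metacyclic_noncyclic hp2 hR hRm hRnc
    obtain ⟨-, hcX⟩ := Fusion.omega_metacyclic_noncyclic hp2 (hR.to_le hX) (hsub X hX) hXc
    have hle : (Subgroup.closure {x : X | x ^ p = 1}).map (Subgroup.inclusion hX) ≤
        Subgroup.closure {x : R | x ^ p = 1} := by
      rw [MonoidHom.map_closure]
      refine Subgroup.closure_mono ?_
      rintro _ ⟨x, hx, rfl⟩
      show Subgroup.inclusion hX x ^ p = 1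
      rw [← map_pow, show x ^ p = 1 from hx, map_one]
    have heq := Subgroup.eq_of_le_of_card_ge hle (by
      rw [Subgroup.card_map_of_injective (Subgroup.inclusion_injective hX), hcX, hcR])
    obtain ⟨y, hy, hy1⟩ := (Subgroup.bot_or_exists_ne_one Y).resolve_left hY1
    obtain ⟨k, hk, hord⟩ : ∃ k, 0 < k ∧ orderOf y = p ^ k := by
      obtain ⟨k, hk⟩ := hR ⟨y, hY hy⟩
      obtain ⟨j, -, hj⟩ := (Nat.dvd_prime_pow hp.out).1 (orderOf_dvd_of_pow_eq_one (congrArg Subtype.val hk))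
      refine ⟨j, Nat.pos_of_ne_zero ?_, hj⟩
      rintro rfl
      exact hy1 (orderOf_eq_one_iff.1 (by simpa using hj))
    obtain ⟨z, hz⟩ : ∃ z, z = y ^ p ^ (k - 1) := ⟨_, rfl⟩
    have hzY : z ∈ Y := hz ▸ pow_mem hy _
    have hzp : z ^ p = 1 := by
      rw [hz, ← pow_mul, ← pow_succ, Nat.sub_add_cancel hk, ← hord, pow_orderOf_eq_one]
    have hz1 : z ≠ 1 := fun h => by
      rw [hz, ← orderOf_dvd_iff_pow_eq_one, hord] at h
      have := (Nat.pow_dvd_pow_iff_le_right hp.out.one_lt).1 h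
      omega
    have hzR : (⟨z, hY hzY⟩ : R) ∈ Subgroup.closure {x : R | x ^ p = 1} :=
      Subgroup.subset_closure (Subtype.ext (by simpa using hzp))
    rw [← heq] at hzR
    obtain ⟨x, -, hx⟩ := hzR
    have hzX : z ∈ X := by
      have := congrArg Subtype.val hx
      rw [Subgroup.coe_inclusion] at this
      exact (show (x : G) = z from this) ▸ x.2
    exact hz1 (Subgroup.mem_bot.1 (hXY.le ⟨hzX, hzY⟩))
  haveI hCc := hcyc _ _ inf_le_left h1 (by rw [inf_comm]; exact hinf) hD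
  refine ⟨hD, hcyc _ _ h1 inf_le_left hinf hC, hC, hCc, ?_⟩
  rw [Subgroup.commutator_le]
  intro x hx y hy
  obtain ⟨d, hd, c, hc, rfl⟩ := exists_commutator_mul_fixed hA hcoR hsol hx
  obtain ⟨d', hd', c', hc', rfl⟩ := exists_commutator_mul_fixed hA hcoR hsol hy
  have hcc : c * c' = c' * c :=
    congrArg Subtype.val ((IsCyclic.isMulCommutative (α := ↥(R ⊓ Subgroup.centralizer (A : Set G)))).is_comm.comm ⟨c, hc⟩ ⟨c', hc'⟩)
  have e : ⁅d * c, d' * c'⁆ = d * (c * d' * c⁻¹) * (c' * d⁻¹ * c'⁻¹) * d'⁻¹ := by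
    have e1 : ⁅d * c, d' * c'⁆ = d * (c * d' * c⁻¹) * (c * c' * c⁻¹) * d⁻¹ * c'⁻¹ * d'⁻¹ := by
      rw [commutatorElement_def]; group
    rw [e1, hcc]; group
  rw [e]
  exact mul_mem (mul_mem (mul_mem hd (conj_mem_of_mem_normalizer (h2 hc.1) hd'))
    (conj_mem_of_mem_normalizer (h2 hc'.1) (inv_mem hd))) (inv_mem hd')

end Cfsg.Agent.Solv.MetaAct
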