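import Cfsg.Agent.Lib.Solv.MaxSub
import Cfsg.Agent.Lib.Solv.MaxCenter
import Cfsg.Agent.Lib.Solv.Extraspecial

/-!
# `3`-groups of maximal class with an element of order `3` with centralizer of order `9`

Such a group is either the wreath product of order `81`, or all its subgroups are `2`-generated.
-/

set_option autoImplicit false
set_option linter.style.haveILetI false
set_option linter.unusedSectionVars false

open scoped commutatorElement

namespace Cfsg.Agent.Solv.MaxC

open PolySeq

universe u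

variable {G : Type u} [Group G] [Finite G] {p : ℕ} [hp : Fact p.Prime] {n : ℕ}

/-- A group of maximal class needs two generators. -/
theorem IsMax.two_gen (h : IsMax G p n) :
    ∃ T : Finset G, T.card ≤ 2 ∧ Subgroup.closure (T : Set G) = ⊤ := by
  haveI := h.isPGroup.isNilpotent
  obtain ⟨T, hT, he⟩ := exists_finset_sup h.isPGroup 2 (F G 2) (by
    have h1 := (F G 2).card_mul_index
    rw [h.F_card le_rfl h.two, h.card] at h1
    refine le_of_eq (Nat.eq_of_mul_eq_mul_left (pow_pos hp.out.pos (n - 2)) (h1.trans ?_))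
    rw [← pow_add]; congr 1; have := h.two; omega)
  refine ⟨T, hT, frattini_nongenerating (eq_top_iff.2 (he.symm.trans_le (sup_le_sup_left ?_ _)))⟩
  rw [show F G 2 = commutator G from rfl]
  exact commutator_le_frattini_pgroup h.isPGroup

/-- A subgroup containing an element with small centralizer needs two generators. -/
theorem two_gen_of_small_centralizer (hG : IsPGroup p G) (H : Subgroup G) {x : G} (hx : x ∈ H)
    (hC : Nat.card (Subgroup.centralizer ({x} : Set G)) ≤ p ^ 2) :
    ∃ T : Finset G, T.card ≤ 2 ∧ Subgroup.closure (T : Set G) = H := by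
  classical
  suffices ∃ T : Finset H, T.card ≤ 2 ∧ Subgroup.closure (T : Set H) = ⊤ by
    obtain ⟨T, hT, he⟩ := this
    refine ⟨T.image H.subtype, Finset.card_image_le.trans hT, ?_⟩
    rw [Finset.coe_image, ← MonoidHom.map_closure, he, ← MonoidHom.range_eq_map, Subgroup.range_subtype]
  obtain ⟨m, hm⟩ := (hG.to_subgroup H).exists_card_eq
  rcases le_or_gt m 1 with hm1 | hm1
  · obtain ⟨T, hT, he⟩ := exists_finset_sup (hG.to_subgroup H) 2 (⊥ : Subgroup H) (by
      rw [Subgroup.index_bot, hm]; exact Nat.pow_le_pow_right hp.out.pos (by omega))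
    exact ⟨T, hT, by rwa [sup_bot_eq] at he⟩
  refine IsMax.two_gen (p := p) (n := m) ⟨hm, hm1, lcs_ne_bot_of_small_centralizer (m - 2) (by
    rw [hm]; congr 1; omega) ⟨⟨x, hx⟩, le_trans ?_ hC⟩⟩
  refine Nat.card_le_card_of_injective (fun c => ⟨(c.1 : G), ?_⟩) fun c d hcd => ?_
  · exact Subgroup.mem_centralizer_singleton_iff.2
      (congrArg Subtype.val (Subgroup.mem_centralizer_singleton_iff.1 c.2))
  · exact Subtype.ext (Subtype.ext (Subtype.mk.inj hcd))

/-- Two-generation from the layers of `p`-th powers, for `p = 3`-like jumps by two. -/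
theorem two_gen_of_layers (h : IsMax G p n) (h5 : 4 ≤ n) {H : Subgroup G} (hH : H ≤ twoStep G 2)
    (hpow : ∀ i, 1 ≤ i → i + 2 < n → ∀ a ∈ twoStep G 2, a ∈ F G i → a ∉ F G (i + 1) →
      a ^ p ∈ F G (i + 2) ∧ a ^ p ∉ F G (i + 3)) :
    ∃ T : Finset G, T.card ≤ 2 ∧ Subgroup.closure (T : Set G) = H := by
  classical
  -- elements of each parity and least layer
  let P : ℕ → ℕ → Prop := fun c k =>
    ∃ a ∈ H, 1 ≤ k ∧ k % 2 = c ∧ a ∈ F G k ∧ a ∉ F G (k + 1)
  let g : ℕ → G := fun c => if hc : ∃ k, P c k then (Nat.find_spec hc).choose else 1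
  have hgH : ∀ c, g c ∈ H := by
    intro c
    simp only [g]
    split
    · next hc => exact (Nat.find_spec hc).choose_spec.1
    · exact one_mem H
  set K : Subgroup G := Subgroup.closure ((({g 0, g 1} : Finset G)) : Set G) with hK
  have hgK : ∀ c, c < 2 → g c ∈ K := fun c hc => by
    refine Subgroup.subset_closure ?_
    rcases (show c = 0 ∨ c = 1 by omega) with rfl | rfl <;> simp
  have hKH : K ≤ H := (Subgroup.closure_le H).2 (by
    intro y hy
    simp only [Finset.coe_insert, Finset.coe_singleton, Set.mem_insert_iff, Set.mem_singleton_iff] at hy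
    rcases hy with rfl | rfl <;> exact hgH _)
  have hlead : ∀ k, ∀ a ∈ H, 1 ≤ k → a ∈ F G k → a ∉ F G (k + 1) →
      ∃ b ∈ K, b ∈ F G k ∧ b ∉ F G (k + 1) := by
    intro k
    induction k using Nat.strong_induction_on with
    | _ k ih =>
      intro a ha hk hak hak'
      have hc : ∃ l, P (k % 2) l := ⟨k, a, ha, hk, rfl, hak, hak'⟩
      obtain ⟨l, hlk, hl1, hl2, hl3, hl4⟩ : ∃ l, l ≤ k ∧ 1 ≤ l ∧ l % 2 = k % 2 ∧
          g (k % 2) ∈ F G l ∧ g (k % 2) ∉ F G (l + 1) := by
        refine ⟨Nat.find hc, Nat.find_le ⟨a, ha, hk, rfl, hak, hak'⟩, ?_⟩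
        have hg : g (k % 2) = (Nat.find_spec hc).choose := by simp only [g]; rw [dif_pos hc]
        rw [hg]
        exact (Nat.find_spec hc).choose_spec.2
      rcases hlk.eq_or_lt with he | hlt
      · subst he
        exact ⟨_, hgK _ (Nat.mod_lt _ two_pos), hl3, hl4⟩
      obtain ⟨b, hbK, hb, hb'⟩ : ∃ b ∈ K, b ∈ F G (k - 2) ∧ b ∉ F G (k - 2 + 1) := by
        -- climb from the least layer in steps of two
        have climb : ∀ m, l + 2 * m ≤ k - 2 →
            ∃ b ∈ K, b ∈ F G (l + 2 * m) ∧ b ∉ F G (l + 2 * m + 1) := by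
          intro m
          induction m with
          | zero => intro _; exact ⟨g (k % 2), hgK _ (Nat.mod_lt _ two_pos), hl3, hl4⟩
          | succ m ihm =>
            intro hm
            obtain ⟨b, hbK, hb, hb'⟩ := ihm (by omega)
            have hkn : k < n := by
              by_contra hh
              exact hak' (by rw [h.F_bot (not_lt.1 hh), Subgroup.mem_bot] at hak; rw [hak]; exact one_mem _)
            obtain ⟨p1, p2⟩ := hpow _ (by omega) (by omega) b (hH (hKH hbK)) hb hb'
            exact ⟨b ^ p, pow_mem hbK p, p1, p2⟩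
        obtain ⟨m, hm⟩ : ∃ m, l + 2 * m = k - 2 := ⟨(k - 2 - l) / 2, by omega⟩
        obtain ⟨b, hbK, hb, hb'⟩ := climb m hm.le
        exact ⟨b, hbK, hm ▸ hb, hm ▸ hb'⟩
      have hkn : k < n := by
        by_contra hh
        exact hak' (by rw [h.F_bot (not_lt.1 hh), Subgroup.mem_bot] at hak; rw [hak]; exact one_mem _)
      have hk3 : l + 2 ≤ k := by omega
      obtain ⟨p1, p2⟩ := hpow _ (by omega) (by omega) b (hH (hKH hbK)) hb hb'
      rw [show k - 2 + 2 = k by omega] at p1
      rw [show k - 2 + 3 = k + 1 by omega] at p2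
      exact ⟨b ^ p, pow_mem hbK p, p1, p2⟩
  have hdown : ∀ d k, 1 ≤ k → n ≤ k + d → H ⊓ F G k ≤ K := by
    intro d
    induction d with
    | zero => intro k _ hkd; rw [h.F_bot (by omega), inf_bot_eq]; exact bot_le
    | succ d ih =>
      rintro k hk hkd a ⟨ha, hak⟩
      by_cases hak' : a ∈ F G (k + 1)
      · exact ih (k + 1) (by omega) (by omega) ⟨ha, hak'⟩
      obtain ⟨b, hbK, hb, hb'⟩ := hlead k a ha hk hak hak'
      haveI := F_normal (G := G) (k + 1)
      have hmem : a ∈ Subgroup.zpowers b ⊔ F G (k + 1) := by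
        rcases eq_or_lt_of_le hk with rfl | hk2
        · rw [← h.twoStep_eq (j := 2) (by omega) (by omega) hb' (hH (hKH hbK))]
          exact hH ha
        · rw [← h.F_gen hk2 hb hb']
          exact hak
      obtain ⟨u, hu, w, hw, rfl⟩ := Subgroup.mem_sup_of_normal_right.1 hmem
      obtain ⟨j, rfl⟩ := Subgroup.mem_zpowers_iff.1 hu
      have hwH : w ∈ H := by
        simpa using mul_mem (inv_mem (zpow_mem (hKH hbK) j)) ha
      exact mul_mem (zpow_mem hbK j) (ih (k + 1) (by omega) (by omega) ⟨hwH, hw⟩)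
  refine ⟨{g 0, g 1}, Finset.card_le_two, le_antisymm hKH fun a ha => hdown n 1 le_rfl (by omega) ?_⟩
  exact ⟨ha, by rw [F_one]; exact Subgroup.mem_top a⟩

theorem IsMax.center_card (h : IsMax G p n) (h3 : 3 ≤ n) : Nat.card (Subgroup.center G) = p := by
  rw [h.center_eq h3, h.F_card (by omega) (by omega), show n - (n - 1) = 1 by omega, pow_one]

section Three

variable {G : Type u} [Group G] [Finite G] {n : ℕ} [Fact (Nat.Prime 3)]

/-- An element of order `3` with centralizer of order `9` is outside the two-step centralizers. -/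
theorem IsMax.not_mem_twoStep (h : IsMax G 3 n) (h5 : 5 ≤ n) {x : G}
    (hC : Nat.card (Subgroup.centralizer ({x} : Set G)) ≤ 9) : x ∉ twoStep G 2 := by
  intro hx
  have hj : x ∈ twoStep G (n - 2) := by
    rw [IsMax.twoStep_eq_two (n - 2) h (by omega) (by omega) (by omega)]; exact hx
  have hle : F G (n - 2) ≤ Subgroup.centralizer ({x} : Set G) := fun a ha => by
    have := hj a ha
    rw [h.F_bot (by omega), Subgroup.mem_bot, commutatorElement_eq_one_iff_mul_comm] at this
    exact Subgroup.mem_centralizer_singleton_iff.2 this.symm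
  have hcard : Nat.card (F G (n - 2)) = 9 := by
    rw [h.F_card (by omega) (by omega), show n - (n - 2) = 2 by omega]; norm_num
  have heq := Subgroup.eq_of_le_of_card_ge hle (by rw [hcard]; exact hC)
  have hx2 : x ∈ F G (n - 2) := by
    rw [heq]; exact Subgroup.mem_centralizer_singleton_iff.2 rfl
  have hle3 : F G (n - 3) ≤ Subgroup.centralizer ({x} : Set G) := fun a ha => by
    have := F_commutator hx2 ha
    rw [h.F_bot (by omega), Subgroup.mem_bot, commutatorElement_eq_one_iff_mul_comm] at this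
    exact Subgroup.mem_centralizer_singleton_iff.2 this.symm
  have := (Subgroup.card_le_of_le hle3).trans hC
  rw [h.F_card (by omega) (by omega), show n - (n - 3) = 3 by omega] at this
  norm_num at this

/-- The whole coset of the derived subgroup consists of conjugates. -/
theorem IsMax.coset_pow_eq_one (h : IsMax G 3 n) (h4 : 3 ≤ n) {x : G} (hx3 : x ^ 3 = 1)
    (hC : Nat.card (Subgroup.centralizer ({x} : Set G)) ≤ 9) {b : G} (hb : b ∈ F G 2) : (x * b) ^ 3 = 1 := by
  set C := Subgroup.centralizer ({x} : Set G) with hCd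
  have hmem : ∀ g : G, x⁻¹ * (g * x * g⁻¹) ∈ F G 2 := fun g => by
    rw [show x⁻¹ * (g * x * g⁻¹) = ⁅x⁻¹, g⁆ by rw [commutatorElement_def]; group]
    exact F_commutator (show x⁻¹ ∈ F G 1 from Subgroup.mem_top _) (show g ∈ F G 1 from Subgroup.mem_top _)
  let φ : G ⧸ C → F G 2 := fun q => ⟨x⁻¹ * (q.out * x * q.out⁻¹), hmem _⟩
  have hinj : Function.Injective φ := by
    intro q r e
    have e' : q.out * x * q.out⁻¹ = r.out * x * r.out⁻¹ := mul_left_cancel (congrArg Subtype.val e)
    rw [← q.out_eq, ← r.out_eq]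
    refine QuotientGroup.eq.2 (Subgroup.mem_centralizer_singleton_iff.2 ?_)
    calc q.out⁻¹ * r.out * x = q.out⁻¹ * (r.out * x * r.out⁻¹) * r.out := by group
      _ = x * (q.out⁻¹ * r.out) := by rw [← e']; group
  have hbij := hinj.bijective_of_nat_card_le (by
    rw [← Subgroup.index_eq_card, h.F_card le_rfl h.two]
    have h1 := C.card_mul_index
    rw [h.card] at h1
    refine Nat.le_of_mul_le_mul_left ?_ (show 0 < 9 by norm_num)
    calc 9 * 3 ^ (n - 2) = 3 ^ n := by
          rw [show (9 : ℕ) = 3 ^ 2 by norm_num, ← pow_add]; congr 1; omega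
      _ = Nat.card C * C.index := h1.symm
      _ ≤ 9 * C.index := Nat.mul_le_mul_right _ hC)
  obtain ⟨q, hq⟩ := hbij.2 ⟨b, hb⟩
  have e : x⁻¹ * (q.out * x * q.out⁻¹) = b := congrArg Subtype.val hq
  rw [← e, mul_inv_cancel_left, conj_pow, hx3, mul_one, mul_inv_cancel]

/-- The last layer of cubes is non-trivial. -/
theorem IsMax.pow_last (h : IsMax G 3 n) (h5 : 5 ≤ n) {x a : G} (hx3 : x ^ 3 = 1)
    (hC : Nat.card (Subgroup.centralizer ({x} : Set G)) ≤ 9) (ha : a ∈ F G (n - 3))
    (ha' : a ∉ F G (n - 2)) : a ^ 3 ≠ 1 := by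
  intro hap
  have hx : Unif G n x := h.unif_of_not_mem (by omega) (h.not_mem_twoStep h5 hC)
  obtain ⟨hH, -⟩ := Unif.isMax_sup h hx (show 2 ≤ n - 3 by omega) (by omega)
  set H : Subgroup G := Subgroup.zpowers x ⊔ F G (n - 3) with hHd
  have hE := hH.engel (by omega) (u := ⟨x, Subgroup.mem_sup_left (Subgroup.mem_zpowers x)⟩)
    (v := ⟨a, Subgroup.mem_sup_right ha⟩) (fun s _ => by
      have e : (((⟨x, Subgroup.mem_sup_left (Subgroup.mem_zpowers x)⟩ : H) *
        (⟨a, Subgroup.mem_sup_right ha⟩ : H) ^ s) ^ 3) = 1 := Subtype.ext (by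
          simpa using h.coset_pow_eq_one (by omega) hx3 hC (_root_.pow_mem (F_antitone (show 2 ≤ n - 3 by omega) ha) s))
      rw [e]; exact one_mem _)
  rw [hH.F_bot (by omega), Subgroup.mem_bot] at hE
  have hE' : H.subtype _ = (1 : G) := congrArg H.subtype hE
  rw [map_mul, map_pow, map_eng] at hE'
  simp only [Subgroup.coe_subtype, hap, mul_one] at hE'
  refine h.eng_not_mem (u := x) (show 2 ≤ n - 3 by omega) ha (by rwa [show n - 3 + 1 = n - 2 by omega]) (3 - 1)
    (fun j hj1 hj2 => hx.2 j (by omega) (by omega)) ?_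
  rw [hE']
  exact one_mem _

/-- All subgroups of a large group are `2`-generated. -/
theorem IsMax.three_rank_two (h : IsMax G 3 n) (h5 : 5 ≤ n) {x : G} (hx3 : x ^ 3 = 1)
    (hC : Nat.card (Subgroup.centralizer ({x} : Set G)) ≤ 9) (H : Subgroup G) :
    ∃ T : Finset G, T.card ≤ 2 ∧ Subgroup.closure (T : Set G) = H := by
  by_cases hH : H ≤ twoStep G 2
  swap
  · obtain ⟨y, hy, hy'⟩ := SetLike.not_le_iff_exists.1 hH
    exact two_gen_of_small_centralizer h.isPGroup H hy
      (h.card_centralizer_le (by omega) (h.unif_of_not_mem (by omega) hy'))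
  refine two_gen_of_layers h (by omega) hH fun i hi hin a haT hai hai' => ?_
  have hmem : a ^ 3 ∈ F G (i + 2) := by
    rcases eq_or_lt_of_le hi with rfl | hi2
    · exact (h.pow_top (by omega)).1 a
    · simpa using h.pow_mem (by omega) hi2 hai
  refine ⟨hmem, ?_⟩
  rcases (show i + 3 ≤ n by omega).eq_or_lt with he | hlt
  · rw [h.F_bot he.ge, Subgroup.mem_bot]
    obtain rfl : i = n - 3 := by omega
    exact h.pow_last h5 hx3 hC hai (by rwa [show n - 3 + 1 = n - 2 by omega] at hai')
  · exact h.pow_not_mem (by omega) hi (by omega) hai hai' haT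

/-- Order `81`: an elementary subgroup of order `27` gives the wreath product. -/
theorem wreath_or_two_gen (hc : Nat.card G = 3 ^ 4) (h : IsMax G 3 4) {x : G}
    (hC : Nat.card (Subgroup.centralizer ({x} : Set G)) ≤ 9) :
    (∀ H : Subgroup G, ∃ T : Finset G, T.card ≤ 2 ∧ Subgroup.closure (T : Set G) = H) ∨
      ∃ W : Sylow 3 (Equiv.Perm (Fin 9)), Nonempty (G ≃* ↥(W : Subgroup (Equiv.Perm (Fin 9)))) := by
  classical
  have hG := h.isPGroup
  by_cases hel : ∀ H : Subgroup G, Nat.card H = 27 → frattini H ≠ ⊥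
  · left
    intro H
    obtain ⟨m, hm⟩ := (hG.to_subgroup H).exists_card_eq
    by_cases htop : H = ⊤
    · subst htop
      exact h.two_gen
    suffices ∃ T : Finset H, T.card ≤ 2 ∧ Subgroup.closure (T : Set H) = ⊤ by
      obtain ⟨T, hT, he⟩ := this
      refine ⟨T.image H.subtype, Finset.card_image_le.trans hT, ?_⟩
      rw [Finset.coe_image, ← MonoidHom.map_closure, he, ← MonoidHom.range_eq_map, Subgroup.range_subtype]
    have hm3 : m ≤ 3 := by
      by_contra hh
      refine htop (Subgroup.eq_top_of_le_card H ?_)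
      rw [hc, hm]; exact Nat.pow_le_pow_right (by norm_num) (by omega)
    haveI := (hG.to_subgroup H).isNilpotent
    rcases hm3.eq_or_lt with rfl | hlt
    · have hne := hel H (by rw [hm]; norm_num)
      obtain ⟨T, hT, he⟩ := exists_finset_sup (hG.to_subgroup H) 2 (frattini H) (by
        have h1 := (frattini H).card_mul_index
        rw [hm] at h1
        have h2 : 3 ≤ Nat.card (frattini H) := by
          have h3 := p_mul_card_le_of_lt (hG.to_subgroup H) (bot_lt_iff_ne_bot.2 hne)
          rwa [Subgroup.card_bot, mul_one] at h3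
        refine Nat.le_of_mul_le_mul_left ?_ (show 0 < 3 by norm_num)
        calc 3 * (frattini H).index ≤ Nat.card (frattini H) * (frattini H).index :=
              Nat.mul_le_mul_right _ h2
          _ = _ := by rw [h1]; norm_num)
      exact ⟨T, hT, frattini_nongenerating he⟩
    · obtain ⟨T, hT, he⟩ := exists_finset_sup (hG.to_subgroup H) 2 (⊥ : Subgroup H) (by
        rw [Subgroup.index_bot, hm]; exact Nat.pow_le_pow_right (by norm_num) (by omega))
      exact ⟨T, hT, by rwa [sup_bot_eq] at he⟩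
  right
  push Not at hel
  obtain ⟨A, hA, hΦ⟩ := hel
  haveI : Fact (Nat.Prime 3) := ⟨Nat.prime_three⟩
  have hAidx : A.index = 3 := by
    have := A.card_mul_index
    rw [hA, hc] at this; omega
  haveI hAn : A.Normal := normal_of_index_prime hG hAidx
  have hAab : ∀ a b : A, a * b = b * a := fun a b => commutatorElement_eq_one_iff_mul_comm.1 (by
    rw [← Subgroup.mem_bot, ← hΦ]
    exact commutator_le_frattini_pgroup (hG.to_subgroup A)
      (Subgroup.commutator_mem_commutator (Subgroup.mem_top _) (Subgroup.mem_top _)))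
  have hA3 : ∀ a ∈ A, a ^ 3 = 1 := fun a ha => by
    have := pow_mem_frattini (hG.to_subgroup A) (⟨a, ha⟩ : A)
    rw [hΦ, Subgroup.mem_bot] at this
    exact congrArg Subtype.val this
  -- the centre
  have hZc := h.center_card (by omega)
  obtain ⟨z, hz, hzZ, hz1⟩ : ∃ z ∈ A, z ∈ Subgroup.center G ∧ z ≠ 1 := by
    haveI : Nontrivial A := Finite.one_lt_card_iff_nontrivial.1 (by omega)
    exact Perm.exists_ne_one_center hG A
  have hZ : Subgroup.center G = Subgroup.zpowers z :=
    (Subgroup.eq_of_le_of_card_ge (Subgroup.zpowers_le.2 hzZ) (by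
      rw [hZc, Nat.card_zpowers, orderOf_eq_prime (hA3 z hz) hz1])).symm
  -- a complement of the centre in `A`
  obtain ⟨a, ha, haz⟩ : ∃ a ∈ A, a ∉ Subgroup.zpowers z := by
    refine SetLike.not_le_iff_exists.1 fun hle => ?_
    have := Subgroup.card_le_of_le hle
    rw [Nat.card_zpowers, orderOf_eq_prime (hA3 z hz) hz1, hA] at this
    omega
  have hcl : ∀ u v : G, u ∈ A → v ∈ A →
      Nat.card (Subgroup.zpowers u ⊔ Subgroup.zpowers v : Subgroup G) ≤ 9 := by
    intro u v hu hv
    have hnorm : Subgroup.zpowers u ≤ Subgroup.normalizer ((Subgroup.zpowers v : Subgroup G) : Set G) := by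
      refine Subgroup.zpowers_le.2 (Subgroup.centralizer_le_normalizer _ (Subgroup.mem_centralizer_iff.2 ?_))
      intro w hw
      obtain ⟨i, rfl⟩ := Subgroup.mem_zpowers_iff.1 hw
      exact congrArg Subtype.val (hAab ⟨v ^ i, zpow_mem hv i⟩ ⟨u, hu⟩)
    have h1 : ∀ w ∈ (Subgroup.zpowers u ⊔ Subgroup.zpowers v : Subgroup G),
        ∃ q : Subgroup.zpowers u × Subgroup.zpowers v, (q.1 : G) * q.2 = w := by
      intro w hw
      rw [← SetLike.mem_coe, Subgroup.coe_mul_of_left_le_normalizer_right _ _ hnorm] at hw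
      obtain ⟨r, hr, s, hs, rfl⟩ := hw
      exact ⟨(⟨r, hr⟩, ⟨s, hs⟩), rfl⟩
    choose f hf using h1
    refine le_trans (Nat.card_le_card_of_injective (fun w : ↥(Subgroup.zpowers u ⊔ Subgroup.zpowers v) => f w.1 w.2)
      fun w w' e => Subtype.ext (by rw [← hf w.1 w.2, ← hf w'.1 w'.2]; simp only at e; rw [e])) ?_
    rw [Nat.card_prod, Nat.card_zpowers, Nat.card_zpowers, show 9 = 3 * 3 from rfl]
    exact Nat.mul_le_mul (Nat.le_of_dvd (by norm_num) (orderOf_dvd_of_pow_eq_one (hA3 u hu)))
      (Nat.le_of_dvd (by norm_num) (orderOf_dvd_of_pow_eq_one (hA3 v hv)))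
  obtain ⟨b, hb, hbaz⟩ : ∃ b ∈ A, b ∉ Subgroup.zpowers a ⊔ Subgroup.zpowers z := by
    refine SetLike.not_le_iff_exists.1 fun hle => ?_
    have := (Subgroup.card_le_of_le hle).trans (hcl a z ha hz)
    omega
  set L : Subgroup G := Subgroup.zpowers a ⊔ Subgroup.zpowers b with hL
  have hLA : L ≤ A := sup_le (Subgroup.zpowers_le.2 ha) (Subgroup.zpowers_le.2 hb)
  have ha1 : a ≠ 1 := fun e => haz (e ▸ one_mem _)
  have hL9 : Nat.card L = 9 := by
    refine le_antisymm (hcl a b ha hb) ?_
    have hlt : Subgroup.zpowers a < L := lt_of_le_of_ne le_sup_left fun e => hbaz (by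
      refine Subgroup.mem_sup_left ?_
      rw [e]; exact Subgroup.mem_sup_right (Subgroup.mem_zpowers b))
    have := p_mul_card_le_of_lt hG hlt
    rwa [Nat.card_zpowers, orderOf_eq_prime (hA3 a ha) ha1] at this
  have hzL : z ∉ L := fun hzL => hbaz (by
    have hle : Subgroup.zpowers a ⊔ Subgroup.zpowers z ≤ L :=
      sup_le le_sup_left (Subgroup.zpowers_le.2 hzL)
    rw [Subgroup.eq_of_le_of_card_ge hle ?_]
    · exact Subgroup.mem_sup_right (Subgroup.mem_zpowers b)
    rw [hL9]
    have hlt : Subgroup.zpowers a < Subgroup.zpowers a ⊔ Subgroup.zpowers z :=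
      lt_of_le_of_ne le_sup_left fun e => haz (by
        have hz' : z ∈ Subgroup.zpowers a := e.symm ▸ Subgroup.mem_sup_right (Subgroup.mem_zpowers z)
        rw [Subgroup.eq_of_le_of_card_ge (Subgroup.zpowers_le.2 hz') (by
          rw [Nat.card_zpowers, Nat.card_zpowers, orderOf_eq_prime (hA3 a ha) ha1,
            orderOf_eq_prime (hA3 z hz) hz1])]
        exact Subgroup.mem_zpowers a)
    have := p_mul_card_le_of_lt hG hlt
    rwa [Nat.card_zpowers, orderOf_eq_prime (hA3 a ha) ha1] at this)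
  have hcore : L.normalCore = ⊥ := by
    by_contra hne
    haveI : Nontrivial L.normalCore := (Subgroup.nontrivial_iff_ne_bot _).2 hne
    obtain ⟨w, hw, hwZ, hw1⟩ := Perm.exists_ne_one_center hG L.normalCore
    rw [hZ] at hwZ
    refine hzL ?_
    rw [← Subgroup.zpowers_le, ← Subgroup.eq_of_le_of_card_ge (Subgroup.zpowers_le.2 hwZ) (by
      rw [Nat.card_zpowers, Nat.card_zpowers, orderOf_eq_prime (hA3 z hz) hz1,
        orderOf_eq_prime (hA3 w (hLA (Subgroup.normalCore_le L hw))) hw1]), Subgroup.zpowers_le]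
    exact Subgroup.normalCore_le L hw
  have hLidx : Nat.card (G ⧸ L) = 9 := by
    have := L.card_mul_index
    rw [hL9, hc, Subgroup.index_eq_card] at this; omega
  let e9 : (G ⧸ L) ≃ Fin 9 := (Finite.equivFin (G ⧸ L)).trans (finCongr hLidx)
  let ρ : G →* Equiv.Perm (Fin 9) := e9.permCongrHom.toMonoidHom.comp (MulAction.toPermHom G (G ⧸ L))
  have hρ : Function.Injective ρ := by
    refine e9.permCongrHom.injective.comp ((MonoidHom.ker_eq_bot_iff _).1 ?_)
    rw [← Subgroup.normalCore_eq_ker, hcore]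
  have hρp : IsPGroup 3 ρ.range := hG.of_surjective ρ.rangeRestrict ρ.rangeRestrict_surjective
  obtain ⟨W, hW⟩ := hρp.exists_le_sylow
  refine ⟨W, ⟨(MonoidHom.ofInjective hρ).trans (MulEquiv.subgroupCongr (Subgroup.eq_of_le_of_card_ge hW ?_))⟩⟩
  rw [← Nat.card_congr (MonoidHom.ofInjective hρ).toEquiv, hc, Sylow.card_eq_multiplicity]
  refine Nat.pow_le_pow_right (by norm_num) ?_
  rw [Nat.card_perm, Nat.card_fin]
  by_contra hh
  have hd : 3 ^ 5 ∣ Nat.factorial 9 := (pow_dvd_pow 3 (by omega)).trans (Nat.ordProj_dvd _ 3)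
  norm_num [Nat.factorial] at hd

end Three

end Cfsg.Agent.Solv.MaxC
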