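import Cfsg.Agent.Lib.Solv.MaxPower

/-!
# Subgroups of groups of maximal class: `|H : ℧₁ H| ≤ p ^ p`
-/

set_option autoImplicit false
set_option linter.style.haveILetI false
set_option linter.unusedSectionVars false

open scoped commutatorElement

namespace Cfsg.Agent.Solv.MaxC

open PolySeq

universe u

variable {G : Type u} [Group G] [Finite G] {p : ℕ} [hp : Fact p.Prime] {n : ℕ}

/-- The subgroup generated by the `p`-th powers of elements of `H`. -/
def powSub (p : ℕ) (H : Subgroup G) : Subgroup G :=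
  Subgroup.closure {y | ∃ h ∈ H, y = h ^ p}

theorem powSub_le (H : Subgroup G) : powSub p H ≤ H :=
  (Subgroup.closure_le H).2 (by rintro _ ⟨h, hh, rfl⟩; exact _root_.pow_mem hh p)

theorem pow_mem_powSub {H : Subgroup G} {h : G} (hh : h ∈ H) : h ^ p ∈ powSub p H :=
  Subgroup.subset_closure ⟨h, hh, rfl⟩

theorem powSub_top_normal : (powSub p (⊤ : Subgroup G)).Normal := by
  refine ⟨fun m hm g => ?_⟩
  have : (powSub p (⊤ : Subgroup G)).map (MulAut.conj g).toMonoidHom ≤ powSub p ⊤ := by
    rw [powSub, MonoidHom.map_closure]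
    refine Subgroup.closure_mono ?_
    rintro _ ⟨_, ⟨h, -, rfl⟩, rfl⟩
    exact ⟨g * h * g⁻¹, Subgroup.mem_top _, by simp [conj_pow]⟩
  exact this ⟨m, hm, rfl⟩

theorem IsMax.card_le_powSub_top (h : IsMax G p n) (hnp : p + 1 ≤ n) :
    Nat.card G ≤ Nat.card (powSub p (⊤ : Subgroup G)) * p ^ p := by
  have h2 := hp.out.two_le
  set N := powSub p (⊤ : Subgroup G) with hN
  haveI hNn : N.Normal := powSub_top_normal
  obtain ⟨y, hy⟩ := h.exists_pow_not_mem hnp
  have hup : ∀ j, p ≤ j → j < n → ∃ c ∈ N, c ∈ F G j ∧ c ∉ F G (j + 1) := by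
    intro j hj
    induction j, hj using Nat.le_induction with
    | base => intro _; exact ⟨_, pow_mem_powSub (Subgroup.mem_top y), (h.pow_top hnp).1 y, hy⟩
    | succ j hj ih =>
      intro hjn
      obtain ⟨c, hcN, hc, hc'⟩ := ih (by omega)
      obtain ⟨g, hg⟩ : ∃ g, g ∉ twoStep G j := by
        by_contra hh; push Not at hh
        exact h.twoStep_ne_top (by omega) (by omega) (eq_top_iff.2 fun g _ => hh g)
      exact ⟨⁅g, c⁆, by
        rw [commutatorElement_def]
        exact mul_mem (hNn.conj_mem c hcN g) (inv_mem hcN), h.comm_not_mem (by omega) hg hc hc'⟩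
  have hdown : ∀ d j, p ≤ j → n ≤ j + d → F G j ≤ N := by
    intro d
    induction d with
    | zero => intro j _ hjd; rw [h.F_bot (by omega)]; exact bot_le
    | succ d ih =>
      intro j hj hjd
      rcases Nat.lt_or_ge j n with hjn | hjn
      · obtain ⟨c, hcN, hc, hc'⟩ := hup j hj hjn
        rw [h.F_gen (by omega) hc hc']
        exact sup_le ((Subgroup.zpowers_le).2 hcN) (ih (j + 1) (by omega) (by omega))
      · rw [h.F_bot hjn]; exact bot_le
  have hle := Nat.le_of_dvd Nat.card_pos (Subgroup.card_dvd_of_le (hdown n p le_rfl (by omega)))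
  rw [h.F_card h2 (by omega)] at hle
  rw [h.card, show p ^ n = p ^ (n - p) * p ^ p by rw [← pow_add]; congr 1; omega]
  exact Nat.mul_le_mul_right _ hle

/-- **Blackburn**: every subgroup `H` has `|H : ℧₁ H| ≤ p ^ p`. -/
theorem IsMax.card_le_powSub (h : IsMax G p n) (H : Subgroup G) :
    Nat.card H ≤ Nat.card (powSub p H) * p ^ p := by
  have h2 := hp.out.two_le
  have hsmall : Nat.card H ≤ p ^ p → Nat.card H ≤ Nat.card (powSub p H) * p ^ p := fun hh =>
    hh.trans (Nat.le_mul_of_pos_left _ Nat.card_pos)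
  rcases le_or_gt n p with hn | hn
  · refine hsmall ?_
    refine (Nat.le_of_dvd Nat.card_pos H.card_subgroup_dvd_card).trans ?_
    rw [h.card]; exact Nat.pow_le_pow_right hp.out.pos hn
  by_cases hH : H = ⊤
  · subst hH
    rw [Subgroup.card_top]
    exact h.card_le_powSub_top hn
  obtain ⟨m, hm⟩ := (h.isPGroup.to_subgroup H).exists_card_eq
  rcases le_or_gt m p with hmp | hmp
  · exact hsmall (by rw [hm]; exact Nat.pow_le_pow_right hp.out.pos hmp)
  have hmn : m < n := by
    by_contra hh
    refine hH (Subgroup.eq_top_of_le_card H ?_)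
    rw [h.card, hm]; exact Nat.pow_le_pow_right hp.out.pos (not_lt.1 hh)
  have hnp : p + 2 ≤ n := by omega
  by_cases hG1 : H ≤ twoStep G 2
  swap
  · obtain ⟨x, hxH, hx⟩ := SetLike.not_le_iff_exists.1 hG1
    have hxu := h.unif_of_not_mem hnp hx
    have hmax : IsMax H p m := by
      refine ⟨hm, by omega, lcs_ne_bot_of_small_centralizer (m - 2)
        (by rw [hm]; congr 1; omega) ⟨⟨x, hxH⟩, ?_⟩⟩
      refine le_trans ?_ (h.card_centralizer_le (by omega) hxu)
      refine Nat.card_le_card_of_injective (fun c => ⟨(c.1 : G), ?_⟩) fun c d hcd => ?_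
      · exact Subgroup.mem_centralizer_singleton_iff.2
          (congrArg Subtype.val (Subgroup.mem_centralizer_singleton_iff.1 c.2))
      · exact Subtype.ext (Subtype.ext (Subtype.mk.inj hcd))
    refine (hmax.card_le_powSub_top (by omega)).trans (Nat.mul_le_mul_right _ (le_of_eq ?_))
    rw [← Subgroup.card_map_of_injective H.subtype_injective, powSub, MonoidHom.map_closure, powSub]
    refine congrArg (fun A : Subgroup G => Nat.card A) (congrArg Subgroup.closure ?_)
    ext z
    constructor
    · rintro ⟨_, ⟨u, -, rfl⟩, rfl⟩; exact ⟨u, u.2, by simp⟩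
    · rintro ⟨u, hu, rfl⟩; exact ⟨⟨u, hu⟩ ^ p, ⟨⟨u, hu⟩, Subgroup.mem_top _, rfl⟩, by simp⟩
  set P := powSub p H with hP
  have key : ∀ d k, 1 ≤ k → n ≤ k + p + d →
      Nat.card (H ⊓ F G k : Subgroup G) ≤ Nat.card (P ⊓ F G (k + p - 1) : Subgroup G) * p ^ p := by
    intro d
    induction d with
    | zero =>
      intro k hk hkd
      refine le_trans ?_ (Nat.le_mul_of_pos_left _ Nat.card_pos)
      rcases eq_or_lt_of_le hk with rfl | hk2
      · omega
      refine (Nat.le_of_dvd Nat.card_pos (Subgroup.card_dvd_of_le inf_le_right)).trans ?_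
      rcases le_or_gt k n with hkn | hkn
      · rw [h.F_card hk2 hkn]; exact Nat.pow_le_pow_right hp.out.pos (by omega)
      · rw [h.F_bot hkn.le, Subgroup.card_bot]; exact Nat.one_le_pow _ _ hp.out.pos
    | succ d ih =>
      intro k hk hkd
      rcases le_or_gt n (k + p + d) with hkd' | hkd'
      · exact ih k hk hkd'
      have hih := ih (k + 1) (by omega) (by omega)
      rw [show k + 1 + p - 1 = k + p by omega] at hih
      by_cases hsub : H ⊓ F G k ≤ F G (k + 1)
      · refine le_trans ?_ (hih.trans (Nat.mul_le_mul_right _ (Nat.le_of_dvd Nat.card_pos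
          (Subgroup.card_dvd_of_le (inf_le_inf_left P (F_antitone (by omega)))))))
        exact Nat.le_of_dvd Nat.card_pos (Subgroup.card_dvd_of_le (le_inf inf_le_left hsub))
      obtain ⟨a, ⟨haH, haF⟩, ha'⟩ := SetLike.not_le_iff_exists.1 hsub
      have haG1 := hG1 haH
      have hgen : H ⊓ F G k ≤ Subgroup.zpowers a ⊔ F G (k + 1) := by
        rcases eq_or_lt_of_le hk with rfl | hk2
        · rw [← h.twoStep_eq (by omega) (by omega) ha' haG1]
          exact inf_le_left.trans hG1
        · exact inf_le_right.trans (h.F_gen hk2 haF ha').le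
      have hap : a ^ p ∈ F G (k + p - 1) := by
        rcases eq_or_lt_of_le hk with rfl | hk2
        · rw [show 1 + p - 1 = p by omega]; exact (h.pow_top (by omega)).1 a
        · exact h.pow_mem (by omega) hk2 haF
      have hap' : a ^ p ∉ F G (k + p) := h.pow_not_mem hnp hk (by omega) haF ha' haG1
      have h1 : Nat.card (H ⊓ F G k : Subgroup G) ≤ Nat.card (H ⊓ F G (k + 1) : Subgroup G) * p := by
        set K := H ⊓ F G k with hK
        let g : K →* G ⧸ F G (k + 1) := (QuotientGroup.mk' (F G (k + 1))).comp K.subtype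
        rw [← g.ker.card_mul_index, Subgroup.index_ker]
        refine Nat.mul_le_mul ?_ ?_
        · rw [← Subgroup.card_map_of_injective K.subtype_injective]
          refine Nat.le_of_dvd Nat.card_pos (Subgroup.card_dvd_of_le ?_)
          rintro _ ⟨c, hc, rfl⟩
          exact ⟨c.2.1, (QuotientGroup.eq_one_iff (c : G)).1 hc⟩
        · have hle : g.range ≤ Subgroup.zpowers (a : G ⧸ F G (k + 1)) := by
            rintro _ ⟨c, rfl⟩
            have := Subgroup.mem_map_of_mem (QuotientGroup.mk' (F G (k + 1))) (hgen c.2)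
            rwa [Subgroup.map_sup, MonoidHom.map_zpowers,
              (Subgroup.map_eq_bot_iff _).2
                (show F G (k + 1) ≤ (QuotientGroup.mk' (F G (k + 1))).ker by simp),
              sup_bot_eq] at this
          refine (Nat.le_of_dvd Nat.card_pos (Subgroup.card_dvd_of_le hle)).trans ?_
          rw [Nat.card_zpowers]
          refine Nat.le_of_dvd hp.out.pos (orderOf_dvd_of_pow_eq_one ?_)
          rw [← QuotientGroup.mk_pow, QuotientGroup.eq_one_iff]
          exact F_antitone (by omega) hap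
      have h3 : Nat.card (P ⊓ F G (k + p) : Subgroup G) * p ≤
          Nat.card (P ⊓ F G (k + p - 1) : Subgroup G) := by
        rw [Nat.mul_comm]
        refine p_mul_card_le_of_lt h.isPGroup (lt_of_le_of_ne
          (inf_le_inf_left P (F_antitone (by omega))) fun e => hap' ?_)
        have : a ^ p ∈ P ⊓ F G (k + p - 1) := ⟨pow_mem_powSub haH, hap⟩
        rw [← e] at this
        exact this.2
      calc Nat.card (H ⊓ F G k : Subgroup G) ≤ Nat.card (H ⊓ F G (k + 1) : Subgroup G) * p := h1
        _ ≤ Nat.card (P ⊓ F G (k + p) : Subgroup G) * p ^ p * p := Nat.mul_le_mul_right _ hih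
        _ = Nat.card (P ⊓ F G (k + p) : Subgroup G) * p * p ^ p := by ring
        _ ≤ _ := Nat.mul_le_mul_right _ h3
  have := key n 1 le_rfl (by omega)
  rw [show (F G 1 : Subgroup G) = ⊤ from rfl, inf_top_eq] at this
  exact this.trans (Nat.mul_le_mul_right _ (Nat.le_of_dvd Nat.card_pos
    (Subgroup.card_dvd_of_le inf_le_left)))

/-- From the nilpotency class. -/
theorem isMax_of_class (hn : 2 ≤ n) (hc : Nat.card G = p ^ n) (hmax : Group.nilpotencyClass G = n - 1) :
    IsMax G p n := by
  haveI := (IsPGroup.of_card hc).isNilpotent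
  refine ⟨hc, hn, fun hbot => ?_⟩
  have := Subgroup.lowerCentralSeries_eq_bot_iff_nilpotencyClass_le.1 hbot
  omega

end Cfsg.Agent.Solv.MaxC

namespace Cfsg.Agent.Solv.MaxC

universe u

variable {G : Type u} [Group G] [Finite G] {p : ℕ} [hp : Fact p.Prime] {n : ℕ}

/-- Adding `d` elements fills up a subgroup of index at most `p ^ d`. -/
theorem exists_finset_sup (hG : IsPGroup p G) : ∀ (d : ℕ) (A : Subgroup G), A.index ≤ p ^ d →
    ∃ T : Finset G, T.card ≤ d ∧ Subgroup.closure (T : Set G) ⊔ A = ⊤ := by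
  classical
  intro d
  induction d with
  | zero =>
    intro A hA
    refine ⟨∅, le_rfl, ?_⟩
    have : A.index = 1 := le_antisymm hA (Nat.one_le_iff_ne_zero.2 A.index_ne_zero_of_finite)
    rw [Subgroup.index_eq_one.1 this, sup_top_eq]
  | succ d ih =>
    intro A hA
    by_cases h : A = ⊤
    · exact ⟨∅, Nat.zero_le _, by rw [h, sup_top_eq]⟩
    obtain ⟨x, -, hx⟩ := SetLike.exists_of_lt (lt_top_iff_ne_top.2 h)
    have hlt : A < Subgroup.zpowers x ⊔ A :=
      lt_of_le_of_ne le_sup_right fun e => hx (e.symm ▸ Subgroup.mem_sup_left (Subgroup.mem_zpowers x))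
    have hb : (Subgroup.zpowers x ⊔ A).index ≤ p ^ d := by
      have h1 := p_mul_card_le_of_lt hG hlt
      have e1 := A.card_mul_index
      have e2 := (Subgroup.zpowers x ⊔ A).card_mul_index
      by_contra hgt
      push Not at hgt
      have h2 : Nat.card (Subgroup.zpowers x ⊔ A : Subgroup G) * p ^ d < Nat.card G := by
        rw [← e2]; exact Nat.mul_lt_mul_of_pos_left hgt Nat.card_pos
      have h3 : Nat.card G ≤ Nat.card A * p ^ (d + 1) := by
        rw [← e1]; exact Nat.mul_le_mul_left _ hA
      have h4 : Nat.card A * p ^ (d + 1) ≤ Nat.card (Subgroup.zpowers x ⊔ A : Subgroup G) * p ^ d := by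
        rw [pow_succ', ← Nat.mul_assoc, Nat.mul_comm (Nat.card A)]
        exact Nat.mul_le_mul_right _ h1
      omega
    obtain ⟨T, hT, he⟩ := ih _ hb
    refine ⟨insert x T, (Finset.card_insert_le _ _).trans (Nat.succ_le_succ hT), ?_⟩
    rw [Finset.coe_insert, Set.insert_eq, Subgroup.closure_union, ← Subgroup.zpowers_eq_closure,
      ← he]
    ac_rfl

/-- **Blackburn**: a subgroup of a group of maximal class needs at most `p` generators. -/
theorem IsMax.exists_generators (h : IsMax G p n) (H : Subgroup G) :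
    ∃ T : Finset G, T.card ≤ p ∧ Subgroup.closure (T : Set G) = H := by
  classical
  have hH : IsPGroup p H := h.isPGroup.to_subgroup H
  have hle : (powSub p H).subgroupOf H ≤ frattini H := by
    rw [powSub, ← Subgroup.map_le_map_iff_of_injective H.subtype_injective]
    refine (Subgroup.map_comap_le _ _).trans ((Subgroup.closure_le _).2 ?_)
    rintro _ ⟨a, ha, rfl⟩
    exact ⟨⟨a, ha⟩ ^ p, pow_mem_frattini hH _, by simp⟩
  have hidx : (frattini H).index ≤ p ^ p := by
    refine (Nat.le_of_dvd (Nat.pos_of_ne_zero Subgroup.index_ne_zero_of_finite)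
      (Subgroup.index_dvd_of_le hle)).trans ?_
    have h1 := h.card_le_powSub H
    rw [← ((powSub p H).subgroupOf H).card_mul_index,
      Nat.card_congr (Subgroup.subgroupOfEquivOfLe (powSub_le H)).toEquiv] at h1
    exact Nat.le_of_mul_le_mul_left h1 Nat.card_pos
  obtain ⟨T, hT, he⟩ := exists_finset_sup hH p _ hidx
  refine ⟨T.image H.subtype, Finset.card_image_le.trans hT, ?_⟩
  rw [Finset.coe_image, ← MonoidHom.map_closure, frattini_nongenerating he, ← MonoidHom.range_eq_map,
    Subgroup.range_subtype]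

end Cfsg.Agent.Solv.MaxC
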