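import Mathlib
import Cfsg.Agent.S1452
import Cfsg.Agent.Lib.Fusion.RankTwoOmega
import Cfsg.Agent.Lib.Solv.UniqueSub

/-!
`p`-groups of rank at least three with a maximal elementary abelian subgroup of order `p²`.
-/

set_option autoImplicit false
set_option linter.style.haveILetI false

namespace Cfsg.Agent.Solv.NarrowBasic

open scoped commutatorElement
open Cfsg.Agent.Solv

universe u

variable {p : ℕ} [hp : Fact p.Prime]
variable {R : Type u} [Group R] [Finite R]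

/-- The elements of order dividing `p` of the second centre form a subgroup. -/
theorem pow_mem_omega (hp2 : p ≠ 2) {x : R}
    (hx : x ∈ Subgroup.closure {x : R | x ∈ Subgroup.upperCentralSeries R 2 ∧ x ^ p = 1}) :
    x ∈ Subgroup.upperCentralSeries R 2 ∧ x ^ p = 1 := by
  have hcen : ∀ a ∈ Subgroup.upperCentralSeries R 2, ∀ g : R, ⁅a, g⁆ ∈ Subgroup.center R := fun a ha g => by
    rw [← Subgroup.upperCentralSeries_one, commutatorElement_def]
    exact Subgroup.mem_upperCentralSeries_succ_iff.1 ha g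
  have hsc : Fusion.SmallClass p (Subgroup.upperCentralSeries R 2) := by
    refine Or.inl ⟨hp2, Subgroup.commutator_eq_bot_iff_le_centralizer.2 ?_⟩
    rw [commutator_def, Subgroup.commutator_le]
    intro a _ b _
    refine Subgroup.mem_centralizer_iff.2 fun g _ => Subtype.ext ?_
    exact Subgroup.mem_center_iff.1 (hcen a a.2 b) g
  induction hx using Subgroup.closure_induction with
  | mem x hx => exact hx
  | one => exact ⟨one_mem _, one_pow p⟩
  | mul a b _ _ iha ihb =>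
    exact ⟨mul_mem iha.1 ihb.1, congrArg Subtype.val (Fusion.mul_pow_eq_one hsc
      (x := ⟨a, iha.1⟩) (y := ⟨b, ihb.1⟩) (Subtype.ext iha.2) (Subtype.ext ihb.2))⟩
  | inv a _ iha => exact ⟨inv_mem iha.1, by rw [inv_pow, iha.2, inv_one]⟩

/-- The structure of `R`. -/
theorem structure_maximal (hp2 : p ≠ 2) (hR : IsPGroup p R) (hr : ¬ Cfsg.PRankLE p 2 R)
    (E : Subgroup R) (hE : Cfsg.IsElementaryAbelian p E) (hE2 : Nat.card E = p ^ 2)
    (hEmax : ∀ B : Subgroup R, Cfsg.IsElementaryAbelian p B → E ≤ B → B = E)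
    (W : Subgroup R) (hW : W = Subgroup.closure {x : R | x ∈ Subgroup.upperCentralSeries R 2 ∧ x ^ p = 1})
    (Z₀ : Subgroup R) (hZ₀ : Z₀ = Subgroup.closure {x : R | x ∈ Subgroup.center R ∧ x ^ p = 1}) :
    (¬ E ≤ Subgroup.centralizer (W : Set R) ∧ Nat.card Z₀ = p ∧ (Cfsg.IsElementaryAbelian p W ∧ Nat.card W = p ^ 2) ∧
      (Subgroup.centralizer (W : Set R)).Characteristic ∧ (Subgroup.centralizer (W : Set R)).index = p) ∧
    Cfsg.IsNarrow p R := by
  classical
  obtain ⟨hEc, hEe⟩ := hE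
  -- elements of order p commuting with E lie in E
  have hin : ∀ y : R, y ^ p = 1 → (∀ e ∈ E, Commute e y) → y ∈ E := by
    intro y hy hc
    let K : Subgroup R :=
      { carrier := {z | z ^ p = 1 ∧ z ∈ Subgroup.closure ((E : Set R) ∪ {y})}
        one_mem' := ⟨one_pow p, one_mem _⟩
        mul_mem' := fun {a b} ha hb => ⟨by
          have hab : Commute a b := by
            haveI : IsMulCommutative (Subgroup.closure ((E : Set R) ∪ {y})) := Subgroup.isMulCommutative_closure (by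
              rintro s (hs | hs) t (ht | ht)
              · exact congrArg Subtype.val (hEc.is_comm.comm ⟨s, hs⟩ ⟨t, ht⟩)
              · rw [Set.mem_singleton_iff.1 ht]; exact (hc s hs).eq
              · rw [Set.mem_singleton_iff.1 hs]; exact (hc t ht).symm.eq
              · rw [Set.mem_singleton_iff.1 hs, Set.mem_singleton_iff.1 ht])
            exact congrArg Subtype.val (IsMulCommutative.is_comm.comm (⟨a, ha.2⟩ : Subgroup.closure ((E : Set R) ∪ {y})) ⟨b, hb.2⟩)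
          rw [hab.mul_pow, ha.1, hb.1, one_mul], mul_mem ha.2 hb.2⟩
        inv_mem' := fun {a} ha => ⟨by rw [inv_pow, ha.1, inv_one], inv_mem ha.2⟩ }
    have hKE : E ≤ K := fun e he => ⟨hEe e he, Subgroup.subset_closure (Or.inl he)⟩
    have hKel : Cfsg.IsElementaryAbelian p K := by
      refine ⟨⟨⟨fun a b => Subtype.ext ?_⟩⟩, fun a ha => ha.1⟩
      haveI : IsMulCommutative (Subgroup.closure ((E : Set R) ∪ {y})) := Subgroup.isMulCommutative_closure (by
        rintro s (hs | hs) t (ht | ht)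
        · exact congrArg Subtype.val (hEc.is_comm.comm ⟨s, hs⟩ ⟨t, ht⟩)
        · rw [Set.mem_singleton_iff.1 ht]; exact (hc s hs).eq
        · rw [Set.mem_singleton_iff.1 hs]; exact (hc t ht).symm.eq
        · rw [Set.mem_singleton_iff.1 hs, Set.mem_singleton_iff.1 ht])
      show (a : R) * b = b * a
      exact congrArg Subtype.val (IsMulCommutative.is_comm.comm (⟨a, a.2.2⟩ : Subgroup.closure ((E : Set R) ∪ {y})) ⟨b, b.2.2⟩)
    rw [← hEmax K hKel hKE]
    exact ⟨hy, Subgroup.subset_closure (Or.inr rfl)⟩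
  have hbig : ∀ A : Subgroup R, (∀ a ∈ A, a ^ p = 1) → p ^ 2 < Nat.card A → (∀ a ∈ A, ∀ e ∈ E, Commute e a) → False :=
    fun A hAe hA hc => by
      have h1 := Subgroup.card_le_of_le (fun a ha => hin a (hAe a ha) (hc a ha) : A ≤ E)
      omega
  obtain ⟨A₀, hA₀c, hA₀e, hA₀⟩ : ∃ A : Subgroup R, IsMulCommutative A ∧ (∀ a ∈ A, a ^ p = 1) ∧ p ^ 2 < Nat.card A := by
    unfold Cfsg.PRankLE at hr
    push Not at hr
    exact hr
  haveI : Nontrivial R := by
    rw [← Finite.one_lt_card_iff_nontrivial]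
    calc 1 < p ^ 2 := Nat.one_lt_pow two_ne_zero hp.out.one_lt
      _ ≤ Nat.card R := hE2 ▸ Subgroup.card_le_card_group E
  -- the centre
  have hZ₀mem : ∀ z ∈ Z₀, z ∈ Subgroup.center R ∧ z ^ p = 1 := by
    intro z hz
    rw [hZ₀] at hz
    induction hz using Subgroup.closure_induction with
    | mem x hx => exact hx
    | one => exact ⟨one_mem _, one_pow p⟩
    | mul a b _ _ iha ihb =>
      exact ⟨mul_mem iha.1 ihb.1, by rw [(show Commute a b from (Subgroup.mem_center_iff.1 iha.1 b).symm).mul_pow, iha.2, ihb.2, one_mul]⟩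
    | inv a _ iha => exact ⟨inv_mem iha.1, by rw [inv_pow, iha.2, inv_one]⟩
  have hZ₀in : ∀ z : R, z ∈ Subgroup.center R → z ^ p = 1 → z ∈ Z₀ := fun z h1 h2 =>
    hZ₀ ▸ Subgroup.subset_closure ⟨h1, h2⟩
  have hZ₀E : Z₀ ≤ E := fun z hz => hin z (hZ₀mem z hz).2 fun e _ => Subgroup.mem_center_iff.1 (hZ₀mem z hz).1 e
  have hEZ : ¬ E ≤ Subgroup.center R := fun h => hbig A₀ hA₀e hA₀ fun a _ e he =>
    (Subgroup.mem_center_iff.1 (h he) a).symm
  have hgrow : ∀ U V : Subgroup R, U < V → Nat.card U * p ≤ Nat.card V := fun U V hlt => by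
    obtain ⟨i, hi⟩ := (hR.to_subgroup U).exists_card_eq
    obtain ⟨j, hj⟩ := (hR.to_subgroup V).exists_card_eq
    have h1 := card_lt_of_lt hlt
    rw [hi, hj] at h1 ⊢
    rw [← pow_succ]
    exact Nat.pow_le_pow_right hp.out.pos ((Nat.pow_lt_pow_iff_right hp.out.one_lt).1 h1)
  have hZ₀lt : Z₀ < E := lt_of_le_of_ne hZ₀E fun e => hEZ fun z hz => (hZ₀mem z (e ▸ hz)).1
  have hZ₀card : Nat.card Z₀ = p := by
    refine le_antisymm (Nat.le_of_mul_le_mul_right (by rw [← pow_two, ← hE2]; exact hgrow _ _ hZ₀lt) hp.out.pos) ?_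
    haveI : Nontrivial (Subgroup.center R) := hR.center_nontrivial
    obtain ⟨i, hi⟩ := (hR.to_subgroup (Subgroup.center R)).exists_card_eq
    have hi0 : i ≠ 0 := fun e => by
      rw [e, pow_zero] at hi
      exact (Finite.one_lt_card_iff_nontrivial.2 ‹_›).ne' hi
    obtain ⟨z, hz⟩ := exists_prime_orderOf_dvd_card' (G := Subgroup.center R) p (hi ▸ dvd_pow_self p hi0)
    have hzp : orderOf (z : R) = p := by rw [Subgroup.orderOf_coe, hz]
    calc p = Nat.card (Subgroup.zpowers (z : R)) := by rw [Nat.card_zpowers, hzp]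
      _ ≤ Nat.card Z₀ := Subgroup.card_le_of_le (Subgroup.zpowers_le.2
          (hZ₀in _ z.2 (hzp ▸ pow_orderOf_eq_one _)))
  obtain ⟨x, hxE, hxZ⟩ := SetLike.exists_of_lt hZ₀lt
  have hEgen : E = Z₀ ⊔ Subgroup.zpowers x := by
    refine (Subgroup.eq_of_le_of_card_ge (sup_le hZ₀E (Subgroup.zpowers_le.2 hxE)) ?_).symm
    rw [hE2, pow_two]
    exact (Nat.mul_le_mul_right p hZ₀card.ge).trans (hgrow _ _ (lt_of_le_of_ne le_sup_left
      fun e => hxZ (e ▸ Subgroup.mem_sup_right (Subgroup.mem_zpowers x))))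
  haveI hZ₀n : Z₀.Normal := ⟨fun z hz g => by
    rw [Subgroup.mem_center_iff.1 (hZ₀mem z hz).1 g, mul_inv_cancel_right]; exact hz⟩
  have hcomE : ∀ y : R, Commute x y → ∀ e ∈ E, Commute e y := by
    intro y hy e he
    rw [hEgen] at he
    obtain ⟨z, hz, _, ⟨i, rfl⟩, rfl⟩ := Subgroup.mem_sup_of_normal_left.1 he
    exact (show Commute z y from (Subgroup.mem_center_iff.1 (hZ₀mem z hz).1 y).symm).mul_left (hy.zpow_left i)
  -- `W`
  have hWmem : ∀ w ∈ W, w ∈ Subgroup.upperCentralSeries R 2 ∧ w ^ p = 1 := fun w hw => pow_mem_omega hp2 (hW ▸ hw)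
  have hWin : ∀ w : R, w ∈ Subgroup.upperCentralSeries R 2 → w ^ p = 1 → w ∈ W := fun w h1 h2 =>
    hW ▸ Subgroup.subset_closure ⟨h1, h2⟩
  have hWcom : ∀ w ∈ W, ∀ g : R, ⁅w, g⁆ ∈ Z₀ := by
    intro w hw g
    obtain ⟨h1, h2⟩ := hWmem w hw
    have hc : ∀ g : R, ⁅w, g⁆ ∈ Subgroup.center R := fun g => by
      rw [← Subgroup.upperCentralSeries_one, commutatorElement_def]
      exact Subgroup.mem_upperCentralSeries_succ_iff.1 h1 g
    have e1 : ∀ n : ℕ, g * w ^ n * g⁻¹ = ⁅w, g⁆⁻¹ ^ n * w ^ n := fun n => by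
      rw [← conj_pow, show g * w * g⁻¹ = ⁅w, g⁆⁻¹ * w by rw [commutatorElement_def]; group,
        (show Commute ⁅w, g⁆⁻¹ w from ((show Commute w ⁅w, g⁆ from Subgroup.mem_center_iff.1 (hc g) w).symm).inv_left).mul_pow]
    refine hZ₀in _ (hc g) ?_
    have h3 := e1 p
    rw [h2, mul_one, mul_inv_cancel, mul_one, inv_pow, eq_comm, inv_eq_one] at h3
    exact h3
  have hWE : ¬ E ≤ W := by
    intro hEW
    haveI : E.Normal := ⟨fun e he g => by
      rw [show g * e * g⁻¹ = ⁅e, g⁆⁻¹ * e by rw [commutatorElement_def]; group]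
      exact mul_mem (inv_mem (hZ₀E (hWcom e (hEW he) g))) he⟩
    obtain ⟨A, hEA, -, hAC, hA⟩ := S1452.result p hp2 hR hr E ⟨hEc, hEe⟩ hE2
    unfold Cfsg.PRankLE at hA
    push Not at hA
    obtain ⟨B, hBc, hBe, hB⟩ := hA
    refine hbig (B.map A.subtype) ?_ (by rwa [Subgroup.card_map_of_injective A.subtype_injective]) ?_
    · rintro _ ⟨b, hb, rfl⟩
      exact congrArg Subtype.val (hBe b hb)
    · rintro _ ⟨b, -, rfl⟩ e he
      have h1 : (b : R) ∈ Subgroup.centralizer (A : Set R) := by rw [hAC]; exact b.2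
      exact Subgroup.mem_centralizer_iff.1 h1 e (hEA he)
  let f : W →* Z₀ := MonoidHom.mk' (fun w => ⟨⁅(w : R), x⁆, hWcom w w.2 x⟩) fun a b => Subtype.ext (by
    show ⁅((a : R) * b), x⁆ = ⁅(a : R), x⁆ * ⁅(b : R), x⁆
    have hc := (hZ₀mem _ (hWcom b b.2 x)).1
    rw [show ⁅(a : R) * b, x⁆ = ((a : R) * ⁅(b : R), x⁆ * (a : R)⁻¹) * ⁅(a : R), x⁆ by
      simp only [commutatorElement_def]; group,
      Subgroup.mem_center_iff.1 hc, mul_inv_cancel_right, ← Subgroup.mem_center_iff.1 hc])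
  have hWcard : Nat.card W ≤ p ^ 2 := by
    have hker : f.ker.map W.subtype ≤ W ⊓ E := by
      rintro _ ⟨w, hw, rfl⟩
      have hcw : Commute (w : R) x := commutatorElement_eq_one_iff_commute.1 (congrArg Subtype.val hw)
      exact Subgroup.mem_inf.2 ⟨w.2, hin _ (hWmem w w.2).2 (hcomE _ hcw.symm)⟩
    have h1 : Nat.card (W ⊓ E : Subgroup R) ≤ p := by
      have hlt : W ⊓ E < E := lt_of_le_of_ne inf_le_right fun e => hWE (e ▸ inf_le_left)
      exact Nat.le_of_mul_le_mul_right (by rw [← pow_two, ← hE2]; exact hgrow _ _ hlt) hp.out.pos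
    have h2 := Subgroup.card_le_of_le hker
    rw [Subgroup.card_map_of_injective W.subtype_injective] at h2
    rw [← f.ker.card_mul_index, Subgroup.index_ker, pow_two]
    exact Nat.mul_le_mul (h2.trans h1) ((Subgroup.card_le_card_group f.range).trans hZ₀card.le)
  obtain ⟨A₁, -, hA₁n, ⟨hA₁c, hA₁e⟩, hA₁⟩ := Fusion.exists_normal_rank_two hp2 hR (⊤ : Subgroup R) (fun hc => by
    obtain ⟨i, hi⟩ := (hR.to_subgroup A₀).exists_card_eq
    haveI : IsCyclic R := isCyclic_of_surjective (Subgroup.topEquiv : (⊤ : Subgroup R) ≃* R).toMonoidHom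
      (Subgroup.topEquiv : (⊤ : Subgroup R) ≃* R).surjective
    obtain ⟨a, ha⟩ := IsCyclic.exists_generator (α := A₀)
    have h1 : Nat.card A₀ ≤ p := by
      rw [← orderOf_eq_card_of_forall_mem_zpowers ha]
      exact Nat.le_of_dvd hp.out.pos (orderOf_dvd_of_pow_eq_one (Subtype.ext (hA₀e a a.2)))
    have h2 : p ≤ p ^ 2 := Nat.le_self_pow two_ne_zero p
    omega)
  haveI := hA₁n
  have hA₁W : A₁ ≤ W := by
    obtain ⟨D, hD⟩ : ∃ D, D = A₁ ⊓ Subgroup.center R := ⟨_, rfl⟩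
    haveI : D.Normal := hD ▸ inferInstance
    haveI : (A₁.map (QuotientGroup.mk' D)).Normal := hA₁n.map _ (QuotientGroup.mk'_surjective D)
    have hc : Nat.card (A₁.map (QuotientGroup.mk' D)) ≤ p := by
      have h1 := card_map_mk'_mul_card_inf D A₁
      rw [inf_eq_left.2 (hD ▸ inf_le_left), hA₁, pow_two] at h1
      have h2 : p ≤ Nat.card D := by
        haveI : Group.IsNilpotent R := hR.isNilpotent
        obtain ⟨z, hz, hz1, hzc⟩ := Fusion.exists_central_of_normal hR A₁ (fun h => by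
          rw [h, Subgroup.card_bot] at hA₁
          exact (Nat.one_lt_pow two_ne_zero hp.out.one_lt).ne hA₁)
        calc p = Nat.card (Subgroup.zpowers z) := by rw [Nat.card_zpowers, orderOf_eq_prime (hA₁e z hz) hz1]
          _ ≤ Nat.card D := Subgroup.card_le_of_le (Subgroup.zpowers_le.2 (hD ▸ Subgroup.mem_inf.2 ⟨hz, hzc⟩))
      refine Nat.le_of_mul_le_mul_right ?_ hp.out.pos
      rw [← h1]
      exact Nat.mul_le_mul_left _ h2
    intro a ha
    have h3 := Fusion.le_center_of_card_prime (hR.to_quotient D) (A₁.map (QuotientGroup.mk' D)) hc ⟨a, ha, rfl⟩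
    refine hWin a (Subgroup.mem_upperCentralSeries_succ_iff.2 fun g => ?_) (hA₁e a ha)
    rw [Subgroup.upperCentralSeries_one]
    have h4 : ⁅a, g⁆ ∈ D := by
      rw [← QuotientGroup.eq_one_iff, ← QuotientGroup.mk'_apply, map_commutatorElement,
        commutatorElement_eq_one_iff_commute]
      exact (Subgroup.mem_center_iff.1 h3 _).symm
    rw [hD, commutatorElement_def] at h4
    exact (Subgroup.mem_inf.1 h4).2
  have hWeq : W = A₁ := (Subgroup.eq_of_le_of_card_ge hA₁W (hA₁ ▸ hWcard)).symm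
  have hET : ¬ E ≤ Subgroup.centralizer (W : Set R) := fun h => by
    have h1 : W ≤ E := fun w hw => hin w (hWmem w hw).2 fun e he =>
      (Subgroup.mem_centralizer_iff.1 (h he) w hw).symm
    exact hWE (Subgroup.eq_of_le_of_card_ge h1 (by rw [hE2, hWeq, hA₁])).symm.le
  obtain ⟨T, hT⟩ : ∃ T, T = Subgroup.centralizer (W : Set R) := ⟨_, rfl⟩
  have hTidx : T.index = p := by
    haveI : W.Normal := hWeq ▸ hA₁n
    have h1 : T.index ≤ p := hT ▸ Fusion.index_centralizer_le_of_small hR W (hWeq ▸ hA₁c) hWcard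
    have h2 : T.index ≠ 1 := fun e => hET (by rw [← hT, Subgroup.index_eq_one.1 e]; exact le_top)
    obtain ⟨i, hi⟩ := hR.index T
    rw [hi] at h1 h2 ⊢
    rcases Nat.lt_trichotomy i 1 with h | rfl | h
    · exact absurd (by rw [Nat.lt_one_iff.1 h, pow_zero]) h2
    · exact pow_one p
    · exact absurd h1 (not_le.2 (by
        calc p = p ^ 1 := (pow_one p).symm
          _ < p ^ i := Nat.pow_lt_pow_right hp.out.one_lt h))
  have hWchar : ∀ φ : R ≃* R, ∀ w ∈ W, φ w ∈ W := fun φ w hw => by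
    haveI : (Subgroup.upperCentralSeries R 2).Characteristic := inferInstance
    exact hWin _ ((Subgroup.characteristic_iff_map_eq.1 inferInstance φ).le ⟨w, (hWmem w hw).1, rfl⟩)
      (by rw [← map_pow, (hWmem w hw).2, map_one])
  refine ⟨⟨hET, hZ₀card, ⟨⟨hWeq ▸ hA₁c, fun w hw => (hWmem w hw).2⟩, hWeq ▸ hA₁⟩, ?_, hT ▸ hTidx⟩, ?_⟩
  · refine Subgroup.characteristic_iff_map_le.2 fun φ => ?_
    rintro _ ⟨t, ht, rfl⟩
    refine Subgroup.mem_centralizer_iff.2 fun w hw => ?_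
    obtain ⟨v, hv, rfl⟩ : ∃ v ∈ W, φ v = w := ⟨φ.symm w, hWchar φ.symm w hw, φ.apply_symm_apply w⟩
    show φ v * φ t = φ t * φ v
    rw [← map_mul, ← map_mul, Subgroup.mem_centralizer_iff.1 ht v hv]
  -- narrowness
  obtain ⟨x', hx'E, hx'T⟩ := SetLike.not_le_iff_exists.1 (hT ▸ hET : ¬ E ≤ T)
  have hx'1 : x' ≠ 1 := fun e => hx'T (e ▸ one_mem T)
  obtain ⟨R₀, hR₀⟩ : ∃ R₀, R₀ = Subgroup.zpowers x' := ⟨_, rfl⟩
  have hR₀c : Nat.card R₀ = p := by rw [hR₀, Nat.card_zpowers, orderOf_eq_prime (hEe x' hx'E) hx'1]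
  obtain ⟨R₁, hR₁⟩ : ∃ R₁, R₁ = T ⊓ Subgroup.centralizer (R₀ : Set R) := ⟨_, rfl⟩
  have hx'Z : x' ∉ Z₀ := fun h => hx'T (hT ▸ Subgroup.mem_centralizer_iff.2 fun w _ =>
    Subgroup.mem_center_iff.1 (hZ₀mem _ h).1 w)
  have hEgen' : E = Z₀ ⊔ R₀ := by
    refine (Subgroup.eq_of_le_of_card_ge (sup_le hZ₀E (hR₀ ▸ Subgroup.zpowers_le.2 hx'E)) ?_).symm
    rw [hE2, pow_two]
    exact (Nat.mul_le_mul_right p hZ₀card.ge).trans (hgrow _ _ (lt_of_le_of_ne le_sup_left
      fun e => hx'Z (e ▸ Subgroup.mem_sup_right (hR₀ ▸ Subgroup.mem_zpowers x'))))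
  have hTZ : Z₀ ≤ T := fun z hz => hT ▸ Subgroup.mem_centralizer_iff.2 fun w _ =>
    Subgroup.mem_center_iff.1 (hZ₀mem z hz).1 w
  haveI hTn : T.Normal := Subgroup.normal_of_index_eq_minFac_card (by
    rw [hTidx]
    obtain ⟨n, hn⟩ := hR.exists_card_eq
    rw [hn, Nat.Prime.pow_minFac hp.out]
    intro e
    rw [e, pow_zero] at hn
    exact (Finite.one_lt_card_iff_nontrivial.2 ‹Nontrivial R›).ne' hn)
  have hcap : ∀ y ∈ R₁, y ^ p = 1 → y ∈ Z₀ := by
    intro y hy hyp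
    rw [hR₁] at hy
    obtain ⟨hyT, hyC⟩ := Subgroup.mem_inf.1 hy
    have hyE : y ∈ E := hin y hyp fun e he => by
      rw [hEgen'] at he
      obtain ⟨z, hz, r, hr', rfl⟩ := Subgroup.mem_sup_of_normal_left.1 he
      exact (show Commute z y from (Subgroup.mem_center_iff.1 (hZ₀mem z hz).1 y).symm).mul_left
        (Subgroup.mem_centralizer_iff.1 hyC r hr')
    rw [hEgen'] at hyE
    obtain ⟨z, hz, r, hr', rfl⟩ := Subgroup.mem_sup_of_normal_left.1 hyE
    have hrT : r ∈ T := by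
      have := mul_mem (inv_mem (hTZ hz)) hyT
      rwa [inv_mul_cancel_left] at this
    by_cases hr1 : r = 1
    · rw [hr1, mul_one]; exact hz
    · exfalso
      refine hx'T ?_
      have h1 : Subgroup.zpowers r = R₀ := Subgroup.eq_of_le_of_card_ge (Subgroup.zpowers_le.2 hr') (by
        rw [hR₀c, Nat.card_zpowers, orderOf_eq_prime (p := p) ?_ hr1]
        rw [← hR₀c]
        exact congrArg Subtype.val (pow_card_eq_one' (x := (⟨r, hr'⟩ : R₀))))
      exact Subgroup.zpowers_le.2 hrT (h1 ▸ (hR₀ ▸ Subgroup.mem_zpowers x'))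
  haveI hR₁c : IsCyclic R₁ := by
    haveI : IsCyclic Z₀ := isCyclic_of_prime_card hZ₀card
    refine (cyclic_or_quaternion (hR.to_subgroup R₁) ?_).resolve_right fun h => hp2 h.1
    intro a b ha hb hb1
    have haZ : (a : R) ∈ Z₀ := hcap a a.2 (congrArg Subtype.val ha)
    have hbZ : (b : R) ∈ Z₀ := hcap b b.2 (congrArg Subtype.val hb)
    have h1 : Subgroup.zpowers (b : R) = Z₀ := Subgroup.eq_of_le_of_card_ge (Subgroup.zpowers_le.2 hbZ) (by
      rw [hZ₀card, Nat.card_zpowers, Subgroup.orderOf_coe, orderOf_eq_prime hb hb1])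
    rw [← h1] at haZ
    obtain ⟨i, hi⟩ := haZ
    exact ⟨i, Subtype.ext (by simpa using hi)⟩
  have hR₀C : R₀ ≤ Subgroup.centralizer (R₀ : Set R) := fun a ha => Subgroup.mem_centralizer_iff.2 fun b hb => by
    rw [hR₀] at ha hb
    obtain ⟨i, rfl⟩ := ha
    obtain ⟨j, rfl⟩ := hb
    exact (Commute.refl x').zpow_zpow j i
  refine Or.inr ⟨R₀, R₁, hR₀c, hR₁c, ?_, fun a ha b hb => ?_, le_antisymm (sup_le hR₀C (hR₁ ▸ inf_le_right)) ?_⟩
  · rw [eq_bot_iff]
    intro y hy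
    obtain ⟨hy0, hy1⟩ := Subgroup.mem_inf.1 hy
    by_contra hne
    have hy1' : y ≠ 1 := fun e => hne (Subgroup.mem_bot.2 e)
    have h1 : Subgroup.zpowers y = R₀ := Subgroup.eq_of_le_of_card_ge (Subgroup.zpowers_le.2 hy0) (by
      rw [hR₀c, Nat.card_zpowers, orderOf_eq_prime (p := p) ?_ hy1']
      rw [← hR₀c]
      exact congrArg Subtype.val (pow_card_eq_one' (x := (⟨y, hy0⟩ : R₀))))
    refine hx'T (Subgroup.zpowers_le.2 ((hR₁ ▸ hy1 : y ∈ T ⊓ _)).1 (h1 ▸ (hR₀ ▸ Subgroup.mem_zpowers x')))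
  · rw [hR₁] at hb
    exact Subgroup.mem_centralizer_iff.1 (Subgroup.mem_inf.1 hb).2 a ha
  · intro c hc
    have hq : QuotientGroup.mk' T c ∈ Subgroup.zpowers (QuotientGroup.mk' T x') := by
      rw [show Subgroup.zpowers (QuotientGroup.mk' T x') = ⊤ from Subgroup.eq_top_of_card_eq _ (by
        rw [Nat.card_zpowers, ← Subgroup.index_eq_card, hTidx]
        exact orderOf_eq_prime (by rw [← map_pow, hEe x' hx'E, map_one]) fun e => hx'T ((QuotientGroup.eq_one_iff x').1 e))]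
      exact Subgroup.mem_top _
    obtain ⟨i, hi⟩ := hq
    have hmem : (x' ^ i)⁻¹ * c ∈ R₁ := hR₁ ▸ Subgroup.mem_inf.2 ⟨QuotientGroup.eq.1 (by simpa using hi),
      mul_mem (inv_mem (hR₀C (hR₀ ▸ Subgroup.zpow_mem_zpowers x' i))) hc⟩
    rw [show c = x' ^ i * ((x' ^ i)⁻¹ * c) by group]
    exact mul_mem (Subgroup.mem_sup_left (hR₀ ▸ Subgroup.zpow_mem_zpowers x' i)) (Subgroup.mem_sup_right hmem)

end Cfsg.Agent.Solv.NarrowBasic
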