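import Mathlib
import Cfsg.Agent.Lib.Solv.MetacyclicSplit
import Cfsg.Agent.Lib.Solv.RankTwoConj
import Cfsg.Agent.Lib.Fusion.RankTwoAut
import Cfsg.Agent.Lib.Fusion.Blackburn

/-!
A `p`-group of rank at most two generated by the displacements of a coprime operator group of odd order.
-/

set_option autoImplicit false
set_option linter.style.haveILetI false

namespace Cfsg.Agent.Solv.MetaAct

open scoped commutatorElement

universe u v

variable {p : ℕ} [hp : Fact p.Prime]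

section steps

variable {R : Type u} [Group R] [Finite R]

theorem comm_mem_step (hR : IsPGroup p R) (N T : Subgroup R) [N.Normal] [T.Normal] (hle : N ≤ T)
    (hc : Nat.card T = Nat.card N * p) : ∀ t ∈ T, ∀ r : R, ⁅t, r⁆ ∈ N := by
  intro t ht r
  haveI : (T.map (QuotientGroup.mk' N)).Normal :=
    Subgroup.Normal.map inferInstance _ (QuotientGroup.mk'_surjective N)
  have hcard : Nat.card (T.map (QuotientGroup.mk' N)) = p := by
    rw [← Subgroup.relIndex_bot_left, ← Subgroup.relIndex_comap, MonoidHom.comap_bot, QuotientGroup.ker_mk']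
    have h2 := Subgroup.relIndex_mul_relIndex ⊥ N T bot_le hle
    rw [Subgroup.relIndex_bot_left, Subgroup.relIndex_bot_left, hc] at h2
    exact Nat.eq_of_mul_eq_mul_left Nat.card_pos h2
  have h := Fusion.le_center_of_card_prime (hR.to_quotient N) _ hcard.le ⟨t, ht, rfl⟩
  rw [← QuotientGroup.eq_one_iff, ← QuotientGroup.mk'_apply, map_commutatorElement,
    commutatorElement_eq_one_iff_mul_comm]
  exact (Subgroup.mem_center_iff.1 h _).symm

theorem card_mul_le_of_lt (hR : IsPGroup p R) {U V : Subgroup R} (hlt : U < V) :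
    Nat.card U * p ≤ Nat.card V := by
  obtain ⟨i, hi⟩ := (hR.to_subgroup U).exists_card_eq
  obtain ⟨j, hj⟩ := (hR.to_subgroup V).exists_card_eq
  have h1 : Nat.card U < Nat.card V := lt_of_le_of_ne (Subgroup.card_le_of_le hlt.le) fun e =>
    hlt.ne (Subgroup.eq_of_le_of_card_ge hlt.le e.ge)
  rw [hi, hj] at h1 ⊢
  rw [← pow_succ]
  exact Nat.pow_le_pow_right hp.out.pos ((Nat.pow_lt_pow_iff_right hp.out.one_lt).1 h1)

theorem sup_zpowers_eq (hR : IsPGroup p R) {N T : Subgroup R} (hle : N ≤ T) (hc : Nat.card T ≤ Nat.card N * p)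
    {y : R} (hy : y ∈ T) (hyN : y ∉ N) : N ⊔ Subgroup.zpowers y = T :=
  Subgroup.eq_of_le_of_card_ge (sup_le hle (Subgroup.zpowers_le.2 hy)) (hc.trans (card_mul_le_of_lt hR
    (lt_of_le_of_ne le_sup_left fun e => hyN (e ▸ Subgroup.mem_sup_right (Subgroup.mem_zpowers y)))))

theorem exists_pow_decomp (N : Subgroup R) [N.Normal] (y : R) {x : R} (hx : x ∈ N ⊔ Subgroup.zpowers y) :
    ∃ n ∈ N, ∃ k : ℕ, x = n * y ^ k := by
  obtain ⟨n, hn, z, hz, rfl⟩ := Subgroup.mem_sup_of_normal_left.1 hx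
  obtain ⟨k, rfl⟩ := mem_powers_iff_mem_zpowers.2 hz
  exact ⟨n, hn, k, rfl⟩

theorem conj_pow_pow {g x c : R} (hg : Commute g c) (hx : Commute x c) (h : g * x * g⁻¹ = c * x) (a b : ℕ) :
    g ^ a * x ^ b * (g ^ a)⁻¹ = c ^ (a * b) * x ^ b := by
  have h1 : g * x ^ b * g⁻¹ = c ^ b * x ^ b := by rw [← conj_pow, h, hx.symm.mul_pow]
  induction a with
  | zero => simp
  | succ a ih =>
    calc g ^ (a + 1) * x ^ b * (g ^ (a + 1))⁻¹ = g * (g ^ a * x ^ b * (g ^ a)⁻¹) * g⁻¹ := by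
          rw [pow_succ']; group
      _ = (g * c ^ (a * b)) * x ^ b * g⁻¹ := by rw [ih]; group
      _ = c ^ (a * b) * (g * x ^ b * g⁻¹) := by rw [(hg.pow_right (a * b)).eq]; group
      _ = _ := by rw [h1, ← mul_assoc, ← pow_add, Nat.succ_mul]

theorem commutator_pow_pow {g x : R} (hg : Commute g ⁅g, x⁆) (hx : Commute x ⁅g, x⁆) (a b : ℕ) :
    ⁅g ^ a, x ^ b⁆ = ⁅g, x⁆ ^ (a * b) := by
  rw [commutatorElement_def (g ^ a), conj_pow_pow hg hx (by rw [commutatorElement_def]; group) a b,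
    mul_inv_cancel_right]

theorem commute_of_zpowers_cover {Z : Subgroup R} (hZ : ∀ z ∈ Z, ∀ r, Commute z r) {u v : R}
    (huv : Commute u v) : ∀ x ∈ Z ⊔ Subgroup.zpowers u ⊔ Subgroup.zpowers v,
      ∀ y ∈ Z ⊔ Subgroup.zpowers u ⊔ Subgroup.zpowers v, Commute x y := by
  have key : ∀ t : R, (∀ z ∈ Z, Commute z t) → Commute u t → Commute v t →
      ∀ x ∈ Z ⊔ Subgroup.zpowers u ⊔ Subgroup.zpowers v, Commute x t := by
    intro t h1 h2 h3 x hx
    have hle : Z ⊔ Subgroup.zpowers u ⊔ Subgroup.zpowers v ≤ Subgroup.centralizer ({t} : Set R) := by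
      refine sup_le (sup_le (fun z hz => ?_) (Subgroup.zpowers_le.2 ?_)) (Subgroup.zpowers_le.2 ?_)
      · exact Subgroup.mem_centralizer_singleton_iff.2 (h1 z hz).eq
      · exact Subgroup.mem_centralizer_singleton_iff.2 h2.eq
      · exact Subgroup.mem_centralizer_singleton_iff.2 h3.eq
    exact Subgroup.mem_centralizer_singleton_iff.1 (hle hx)
  intro x hx y hy
  exact key y (fun z hz => hZ z hz y) (key u (fun z hz => hZ z hz u) (Commute.refl u) huv.symm y hy).symm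
    (key v (fun z hz => hZ z hz v) huv (Commute.refl v) y hy).symm x hx

end steps

/-- The central product decomposition. -/
theorem central_product {R : Type u} [Group R] [Finite R] (hp3 : 3 < p) (hR : IsPGroup p R)
    (hrk : Cfsg.PRankLE p 2 R) (hW3 : p ^ 2 < Nat.card (Subgroup.closure {x : R | x ^ p = 1}))
    {A : Type v} [Group A] [Finite A] (hco : (Nat.card A).Coprime p) (hodd : Odd (Nat.card A))
    (φ : A →* MulAut R) (hfull : ∀ U : Subgroup R, (∀ a x, x⁻¹ * φ a x ∈ U) → U = ⊤) :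
    ∃ W C : Subgroup R, W ⊔ C = ⊤ ∧ (∀ a ∈ W, ∀ b ∈ C, a * b = b * a) ∧ ¬ IsMulCommutative W ∧
      Nat.card W = p ^ 3 ∧ (∀ a ∈ W, a ^ p = 1) ∧ IsCyclic C ∧
      Subgroup.closure {x : R | x ∈ C ∧ x ^ p = 1} = ⁅W, W⁆ := by
  classical
  have hp2 : p ≠ 2 := by omega
  have hp0 := hp.out.pos
  obtain ⟨W, hWdef⟩ : ∃ W, W = Subgroup.closure {x : R | x ^ p = 1} := ⟨_, rfl⟩
  rw [← hWdef] at hW3
  have hWe : ∀ a ∈ W, a ^ p = 1 := fun a ha => Fusion.omega_pow_eq_one_of_rank_two hp3 hR hrk (hWdef ▸ ha)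
  have hWmem : ∀ x : R, x ^ p = 1 → x ∈ W := fun x hx => hWdef ▸ Subgroup.subset_closure hx
  have hcW : Nat.card W = p ^ 3 := by
    obtain ⟨j, hj⟩ := (hR.to_subgroup W).exists_card_eq
    have h1 := Fusion.closure_card_le_three hp2 hR hrk W hWe
    rw [hj] at h1 hW3 ⊢
    have := (Nat.pow_lt_pow_iff_right hp.out.one_lt).1 hW3
    have := (Nat.pow_le_pow_iff_right hp.out.one_lt).1 h1
    congr 1; omega
  haveI hWchar : W.Characteristic := Subgroup.characteristic_iff_map_le.2 fun e => by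
    rw [hWdef, MonoidHom.map_closure]
    refine Subgroup.closure_mono ?_
    rintro _ ⟨x, hx, rfl⟩
    show e x ^ p = 1
    rw [← map_pow, show x ^ p = 1 from hx, map_one]
  have hWnc : ¬ IsMulCommutative W := fun h => by
    have h1 := hrk W h hWe
    rw [hcW] at h1
    have := (Nat.pow_le_pow_iff_right hp.out.one_lt).1 h1
    omega
  have hWnc' : ¬ ∀ a ∈ W, ∀ b ∈ W, Commute a b :=
    fun h => hWnc ⟨⟨fun a b => Subtype.ext (h a a.2 b b.2)⟩⟩
  -- the derived subgroup of `W`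
  obtain ⟨Z, hZn, hZW, hZc⟩ := Fusion.exists_normal_le_of_card hR W 1 (by
    rw [hcW]; exact Nat.pow_le_pow_right hp0 (by norm_num))
  haveI := hZn
  rw [pow_one] at hZc
  have hZcen : ∀ z ∈ Z, ∀ r, Commute z r := fun z hz r =>
    (Subgroup.mem_center_iff.1 (Fusion.le_center_of_card_prime hR Z hZc.le hz) r).symm
  obtain ⟨L, hLn, hZL, hLW, hLc⟩ := Fusion.exists_normal_step hR Z W (lt_of_le_of_ne hZW fun e => by
    rw [e, hcW] at hZc
    have := Nat.pow_lt_pow_right hp.out.one_lt (show 1 < 3 by norm_num)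
    rw [pow_one] at this; omega)
  haveI := hLn
  rw [hZc] at hLc
  have hWc : Nat.card W = Nat.card L * p := by rw [hcW, hLc]; ring
  have hWL := comm_mem_step hR L W hLW hWc
  have hLZ := comm_mem_step hR Z L hZL (by rw [hLc, hZc])
  obtain ⟨w, hw, hwL⟩ : ∃ w ∈ W, w ∉ L := by
    refine SetLike.exists_of_lt (lt_of_le_of_ne hLW fun e => ?_)
    rw [e, hcW] at hLc
    have := Nat.pow_lt_pow_right hp.out.one_lt (show 2 < 3 by norm_num)
    rw [pow_two] at this; omega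
  obtain ⟨l₀, hl₀, hl₀Z⟩ : ∃ l₀ ∈ L, l₀ ∉ Z := by
    refine SetLike.exists_of_lt (lt_of_le_of_ne hZL fun e => ?_)
    rw [← e, hZc] at hLc
    have := hp.out.one_lt
    nlinarith
  have hWgen : L ⊔ Subgroup.zpowers w = W := sup_zpowers_eq hR hLW hWc.le hw hwL
  have hLgen : ∀ l ∈ L, l ∉ Z → Z ⊔ Subgroup.zpowers l = L := fun l hl hlZ =>
    sup_zpowers_eq hR hZL (by rw [hLc, hZc]) hl hlZ
  have hnl : ∀ l ∈ L, l ∉ Z → ¬ Commute l w := fun l hl hlZ hcm => hWnc' (by
    rw [← hWgen, ← hLgen l hl hlZ]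
    exact commute_of_zpowers_cover hZcen hcm)
  have hWW : ∀ a ∈ W, ∀ b ∈ W, ⁅a, b⁆ ∈ Z := by
    intro a ha b hb
    obtain ⟨a₁, ha₁, i, rfl⟩ := exists_pow_decomp L w (hWgen.ge ha)
    obtain ⟨b₁, hb₁, j, rfl⟩ := exists_pow_decomp L w (hWgen.ge hb)
    have hcen : ∀ l ∈ L, ∀ r : R ⧸ Z, Commute (l : R ⧸ Z) r := fun l hl r => by
      induction r using QuotientGroup.induction_on with | H y =>
      rw [← commutatorElement_eq_one_iff_commute, ← QuotientGroup.mk'_apply, ← QuotientGroup.mk'_apply,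
        ← map_commutatorElement]
      exact (QuotientGroup.eq_one_iff _).2 (hLZ l hl y)
    rw [← QuotientGroup.eq_one_iff, ← QuotientGroup.mk'_apply, map_commutatorElement,
      commutatorElement_eq_one_iff_commute, map_mul, map_mul]
    exact ((hcen a₁ ha₁ _)).mul_left (((hcen b₁ hb₁ _).symm).mul_right (by
      rw [map_pow, map_pow]; exact (Commute.refl _).pow_pow i j))
  have hWWeq : ⁅W, W⁆ = Z := by
    refine Subgroup.eq_of_le_of_card_ge (Subgroup.commutator_le.2 hWW) ?_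
    rw [hZc]
    obtain ⟨j, hj⟩ := (hR.to_subgroup ⁅W, W⁆).exists_card_eq
    rcases Nat.eq_zero_or_pos j with rfl | hj0
    · exfalso
      refine hWnc' fun a ha b hb => commutatorElement_eq_one_iff_commute.1 ?_
      have := Subgroup.commutator_mem_commutator ha hb
      rwa [(Subgroup.card_eq_one.1 (by simpa using hj) : ⁅W, W⁆ = ⊥), Subgroup.mem_bot] at this
    · rw [hj]; exact Nat.le_self_pow hj0.ne' p
  haveI hZchar : Z.Characteristic := hWWeq ▸ inferInstance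
  obtain ⟨C, hCdef⟩ : ∃ C, C = Subgroup.centralizer (W : Set R) := ⟨_, rfl⟩
  have hCW : ∀ a ∈ W, ∀ b ∈ C, Commute a b := fun a ha b hb => Subgroup.mem_centralizer_iff.1 (hCdef ▸ hb) a ha
  haveI hCn : C.Normal := hCdef ▸ inferInstance
  have hZC : Z ≤ C := fun z hz => hCdef ▸ Subgroup.mem_centralizer_iff.2 fun a _ => (hZcen z hz a).symm
  have hCWZ : ∀ x ∈ W, x ∈ C → x ∈ Z := by
    intro x hx hxC
    obtain ⟨l, hl, i, rfl⟩ := exists_pow_decomp L w (hWgen.ge hx)
    by_contra hxZ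
    by_cases hi : p ∣ i
    · obtain ⟨k, rfl⟩ := hi
      rw [pow_mul, hWe w hw, one_pow, mul_one] at hxZ hxC
      exact hnl l hl hxZ (hCW w hw l hxC).symm
    · have hcop : i.Coprime (orderOf w) :=
        (Nat.Coprime.coprime_dvd_right (orderOf_dvd_of_pow_eq_one (hWe w hw))
          (Nat.coprime_comm.1 (hp.out.coprime_iff_not_dvd.2 hi)))
      obtain ⟨k, hk⟩ := exists_pow_eq_self_of_coprime hcop
      have hL' : ∀ t ∈ L, Commute t w := by
        intro t ht
        have h1 : Commute t (l * w ^ i) := hCW t (hLW ht) _ hxC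
        have h2 : Commute t l := by
          have hab := commute_of_zpowers_cover (Z := Z) (u := l₀) (v := l₀) hZcen (Commute.refl l₀)
          rw [hLgen l₀ hl₀ hl₀Z] at hab
          exact hab t (Subgroup.mem_sup_left ht) l (Subgroup.mem_sup_left hl)
        have h3 : Commute t (w ^ i) := by
          have := h2.inv_right.mul_right h1
          rwa [inv_mul_cancel_left] at this
        exact hk ▸ h3.pow_right k
      exact hnl l₀ hl₀ hl₀Z (hL' l₀ hl₀)
  have hCelt : ∀ x ∈ C, x ^ p = 1 → x ∈ Z := fun x hx hxp => hCWZ x (hWmem x hxp) hx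
  have huniq : ∀ H : Subgroup R, (∀ x ∈ H, x ^ p = 1 → x ∈ Z) → IsCyclic H := by
    intro H hH
    have hu : UniqueOrderP p H := fun x y hx hy hy1 => by
      have hx' : (x : R) ∈ Z := hH x x.2 (by simpa using congrArg Subtype.val hx)
      have hy' : (y : R) ∈ Z := hH y y.2 (by simpa using congrArg Subtype.val hy)
      have h1 : Subgroup.zpowers (y : R) = Z := Subgroup.eq_of_le_of_card_ge (Subgroup.zpowers_le.2 hy') (by
        rw [hZc, Nat.card_zpowers, orderOf_eq_prime (by simpa using congrArg Subtype.val hy)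
          fun h => hy1 (Subtype.ext h)])
      obtain ⟨i, hi⟩ := h1.ge hx'
      exact ⟨i, Subtype.ext (by simpa using hi)⟩
    rcases Solv.cyclic_or_quaternion (hR.to_subgroup H) hu with h | ⟨h, -⟩
    · exact h
    · exact absurd h hp2
  have hCc : IsCyclic C := huniq C hCelt
  -- the elements inducing inner automorphisms
  obtain ⟨K, hK⟩ : ∃ K : Subgroup R, ∀ r, r ∈ K ↔ ⁅r, w⁆ ∈ Z := by
    let f : R →* R ⧸ Z := MonoidHom.mk' (fun r => ((⁅r, w⁆ : R) : R ⧸ Z)) fun r s => by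
      have hcm : Commute ((⁅r, w⁆ : R) : R ⧸ Z) (r : R ⧸ Z) ∧ Commute ((⁅s, w⁆ : R) : R ⧸ Z) (r : R ⧸ Z) := by
        have : ∀ t : R, Commute ((⁅t, w⁆ : R) : R ⧸ Z) (r : R ⧸ Z) := fun t => by
          rw [← commutatorElement_eq_one_iff_commute, ← QuotientGroup.mk'_apply, ← QuotientGroup.mk'_apply,
            ← map_commutatorElement]
          refine (QuotientGroup.eq_one_iff _).2 (hLZ _ ?_ r)
          rw [← commutatorElement_inv]
          exact inv_mem (hWL w hw t)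
        exact ⟨this r, this s⟩
      have hcs : Commute ((⁅r, w⁆ : R) : R ⧸ Z) ((⁅s, w⁆ : R) : R ⧸ Z) := by
        rw [← commutatorElement_eq_one_iff_commute, ← QuotientGroup.mk'_apply, ← QuotientGroup.mk'_apply,
          ← map_commutatorElement]
        refine (QuotientGroup.eq_one_iff _).2 (hLZ _ ?_ _)
        rw [← commutatorElement_inv]
        exact inv_mem (hWL w hw r)
      rw [show ⁅r * s, w⁆ = r * ⁅s, w⁆ * r⁻¹ * ⁅r, w⁆ by simp only [commutatorElement_def]; group,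
        QuotientGroup.mk_mul, QuotientGroup.mk_mul, QuotientGroup.mk_mul, QuotientGroup.mk_inv,
        ← hcm.2.eq, mul_inv_cancel_right, hcs.eq]
    exact ⟨f.ker, fun r => QuotientGroup.eq_one_iff _⟩
  have hKn : K.Normal := ⟨fun x hx r => by
    rw [hK] at hx ⊢
    have h1 : ∀ t : R, ⁅t, w⁆ ∈ L := fun t => by rw [← commutatorElement_inv]; exact inv_mem (hWL w hw t)
    have hcen : ∀ l ∈ L, ∀ s : R ⧸ Z, Commute (l : R ⧸ Z) s := fun l hl s => by
      induction s using QuotientGroup.induction_on with | H y =>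
      rw [← commutatorElement_eq_one_iff_commute, ← QuotientGroup.mk'_apply, ← QuotientGroup.mk'_apply,
        ← map_commutatorElement]
      exact (QuotientGroup.eq_one_iff _).2 (hLZ l hl y)
    rw [← QuotientGroup.eq_one_iff] at hx ⊢
    have e : ⁅r * x * r⁻¹, w⁆ = r * ⁅x, r⁻¹ * w * r⁆ * r⁻¹ := by simp only [commutatorElement_def]; group
    have e2 : r⁻¹ * w * r = ⁅r⁻¹, w⁆ * w := by simp only [commutatorElement_def]; group
    rw [e, e2, QuotientGroup.mk_mul, QuotientGroup.mk_mul, ← QuotientGroup.mk'_apply (N := Z) (x := ⁅x, _⁆),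
      map_commutatorElement, map_mul, QuotientGroup.mk'_apply, QuotientGroup.mk'_apply, QuotientGroup.mk'_apply]
    have h2 : ⁅(x : R ⧸ Z), (w : R ⧸ Z)⁆ = 1 := by
      rw [← QuotientGroup.mk'_apply, ← QuotientGroup.mk'_apply, ← map_commutatorElement]
      exact hx
    rw [commutatorElement_eq_one_iff_commute.2 (((hcen _ (h1 r⁻¹) _).symm).mul_right
      (commutatorElement_eq_one_iff_commute.1 h2)), mul_one, QuotientGroup.mk_inv, mul_inv_cancel]⟩
  have hKW : ∀ r ∈ K, ∀ x ∈ W, ⁅r, x⁆ ∈ Z := by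
    intro r hr x hx
    obtain ⟨l, hl, i, rfl⟩ := exists_pow_decomp L w (hWgen.ge hx)
    rw [← QuotientGroup.eq_one_iff, ← QuotientGroup.mk'_apply, map_commutatorElement,
      commutatorElement_eq_one_iff_commute, map_mul, map_pow]
    refine Commute.mul_right ?_ (Commute.pow_right ?_ i)
    · rw [← commutatorElement_eq_one_iff_commute, ← map_commutatorElement]
      exact (QuotientGroup.eq_one_iff _).2 (by rw [← commutatorElement_inv]; exact inv_mem (hLZ l hl r))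
    · rw [← commutatorElement_eq_one_iff_commute, ← map_commutatorElement]
      exact (QuotientGroup.eq_one_iff _).2 ((hK r).1 hr)
  have hKeq : K = W ⊔ C := by
    have hle : W ⊔ C ≤ K := sup_le (fun x hx => (hK x).2 (hWW x hx w hw)) fun x hx => (hK x).2 (by
      rw [commutatorElement_eq_one_iff_commute.2 (hCW w hw x hx).symm]; exact one_mem Z)
    refine (Subgroup.eq_of_le_of_card_ge hle ?_).symm
    have hsup := card_sup_mul_card_inf' W C (fun x _ => by rw [Subgroup.normalizer_eq_top]; exact Subgroup.mem_top x)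
    have hinf : W ⊓ C = Z := le_antisymm (fun x hx => hCWZ x hx.1 hx.2) (le_inf hZW hZC)
    rw [hinf, hcW, hZc] at hsup
    have h2 : Nat.card (W ⊔ C : Subgroup R) = p ^ 2 * Nat.card C := by
      have : Nat.card (W ⊔ C : Subgroup R) * p = p ^ 2 * Nat.card C * p := by rw [hsup]; ring
      exact Nat.eq_of_mul_eq_mul_right hp0 this
    rw [h2]
    let F : K → Z × Z := fun r => (⟨⁅(r : R), w⁆, hKW r r.2 w hw⟩, ⟨⁅(r : R), l₀⁆, hKW r r.2 l₀ (hLW hl₀)⟩)
    have hfib : ∀ r s : K, F r = F s → (s : R)⁻¹ * r ∈ C := by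
      intro r s h
      have hr : ∀ x : R, ⁅(r : R), x⁆ = ⁅(s : R), x⁆ → Commute ((s : R)⁻¹ * r) x := fun x e => by
        rw [commutatorElement_def, commutatorElement_def, mul_left_inj] at e
        show (s : R)⁻¹ * r * x = x * ((s : R)⁻¹ * r)
        calc (s : R)⁻¹ * r * x = (s : R)⁻¹ * ((r : R) * x * (r : R)⁻¹) * r := by group
          _ = (s : R)⁻¹ * ((s : R) * x * (s : R)⁻¹) * r := by rw [e]
          _ = _ := by group
      have h1 := hr w (congrArg (fun q : Z × Z => (q.1 : R)) h)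
      have h2 := hr l₀ (congrArg (fun q : Z × Z => (q.2 : R)) h)
      rw [hCdef]
      have hle : W ≤ Subgroup.centralizer ({(s : R)⁻¹ * r} : Set R) := by
        rw [← hWgen, ← hLgen l₀ hl₀ hl₀Z]
        refine sup_le (sup_le (fun z hz => ?_) (Subgroup.zpowers_le.2 ?_)) (Subgroup.zpowers_le.2 ?_)
        · exact Subgroup.mem_centralizer_singleton_iff.2 (hZcen z hz _).eq
        · exact Subgroup.mem_centralizer_singleton_iff.2 h2.eq.symm
        · exact Subgroup.mem_centralizer_singleton_iff.2 h1.eq.symm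
      exact Subgroup.mem_centralizer_iff.2 fun x hx => Subgroup.mem_centralizer_singleton_iff.1 (hle hx)
    haveI : Nonempty K := ⟨1⟩
    have hinj : Function.Injective (fun r : K => ((F r, (⟨((Function.invFun F (F r) : K) : R)⁻¹ * r,
        hfib r _ (Function.invFun_eq ⟨r, rfl⟩).symm⟩ : C)) : (Z × Z) × C)) := by
      intro r s h
      obtain ⟨h1, h2⟩ := Prod.mk.injEq _ _ _ _ ▸ h
      have h3 := congrArg Subtype.val h2
      simp only [h1] at h3
      exact Subtype.ext (mul_left_cancel h3)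
    refine (Nat.card_le_card_of_injective _ hinj).trans ?_
    rw [Nat.card_prod, Nat.card_prod, hZc, pow_two]
  have hfin : K = ⊤ → W ⊔ C = ⊤ := fun h => hKeq ▸ h
  have hCZ : Subgroup.closure {x : R | x ∈ C ∧ x ^ p = 1} = ⁅W, W⁆ := by
    rw [hWWeq]
    refine le_antisymm ((Subgroup.closure_le Z).2 fun x hx => hCelt x hx.1 hx.2) fun z hz => ?_
    exact Subgroup.subset_closure ⟨hZC hz, hWe z (hZW hz)⟩
  by_cases hKtop : K = ⊤
  · exact ⟨W, C, hfin hKtop, fun a ha b hb => hCW a ha b hb, hWnc, hcW, hWe, hCc, hCZ⟩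
  exfalso
  obtain ⟨g, hgK⟩ : ∃ g, g ∉ K := by
    by_contra h
    push Not at h
    exact hKtop (eq_top_iff.2 fun x _ => h x)
  obtain ⟨l, hldef⟩ : ∃ l, l = ⁅g, w⁆ := ⟨_, rfl⟩
  have hlL : l ∈ L := by rw [hldef, ← commutatorElement_inv]; exact inv_mem (hWL w hw g)
  have hlZ : l ∉ Z := fun h => hgK ((hK g).2 (hldef ▸ h))
  obtain ⟨z₁, hz₁def⟩ : ∃ z₁, z₁ = ⁅g, l⁆ := ⟨_, rfl⟩
  have hz₁ : z₁ ∈ Z := by rw [hz₁def, ← commutatorElement_inv]; exact inv_mem (hLZ l hlL g)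
  have hgl : ∀ i : ℕ, g ^ i * l * (g ^ i)⁻¹ = z₁ ^ i * l := fun i => by
    have := conj_pow_pow (hZcen z₁ hz₁ g).symm (hZcen z₁ hz₁ l).symm
      (show g * l * g⁻¹ = z₁ * l by rw [hz₁def, commutatorElement_def]; group) i 1
    simpa using this
  have hgw : ∀ i : ℕ, g ^ i * w * (g ^ i)⁻¹ = z₁ ^ i.choose 2 * l ^ i * w := by
    intro i
    induction i with
    | zero => simp
    | succ i ih =>
      have hg1 : g * w * g⁻¹ = l * w := by rw [hldef, commutatorElement_def]; group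
      have hg2 : g * l ^ i * g⁻¹ = z₁ ^ i * l ^ i := by
        rw [← conj_pow, show g * l * g⁻¹ = z₁ * l by rw [hz₁def, commutatorElement_def]; group,
          (hZcen z₁ hz₁ l).mul_pow]
      calc g ^ (i + 1) * w * (g ^ (i + 1))⁻¹ = g * (g ^ i * w * (g ^ i)⁻¹) * g⁻¹ := by rw [pow_succ']; group
        _ = (g * z₁ ^ i.choose 2) * (l ^ i * w) * g⁻¹ := by rw [ih]; group
        _ = z₁ ^ i.choose 2 * (g * l ^ i * g⁻¹) * (g * w * g⁻¹) := by
          rw [((hZcen z₁ hz₁ g).symm.pow_right _).eq]; group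
        _ = _ := by
          rw [hg1, hg2, show (i + 1).choose 2 = i + i.choose 2 by rw [Nat.choose_succ_succ, Nat.choose_one_right],
            pow_add z₁ i, ((Commute.refl z₁).pow_pow i (i.choose 2)).eq, pow_succ]
          group
  have hgpC : g ^ p ∈ C := by
    have h1 : g ^ p * l * (g ^ p)⁻¹ = l := by rw [hgl, hWe z₁ (hZW hz₁), one_mul]
    have h2 : g ^ p * w * (g ^ p)⁻¹ = w := by
      obtain ⟨k, hk⟩ : p ∣ p.choose 2 := hp.out.dvd_choose_self two_ne_zero (by omega)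
      rw [hgw, hk, pow_mul, hWe z₁ (hZW hz₁), one_pow, hWe l (hLW hlL), one_mul, one_mul]
    rw [hCdef]
    have hle : W ≤ Subgroup.centralizer ({g ^ p} : Set R) := by
      rw [← hWgen, ← hLgen l hlL hlZ]
      refine sup_le (sup_le (fun z hz => ?_) (Subgroup.zpowers_le.2 ?_)) (Subgroup.zpowers_le.2 ?_)
      · exact Subgroup.mem_centralizer_singleton_iff.2 (hZcen z hz _).eq
      · exact Subgroup.mem_centralizer_singleton_iff.2 (mul_inv_eq_iff_eq_mul.1 h1).symm
      · exact Subgroup.mem_centralizer_singleton_iff.2 (mul_inv_eq_iff_eq_mul.1 h2).symm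
    exact Subgroup.mem_centralizer_iff.2 fun x hx => Subgroup.mem_centralizer_singleton_iff.1 (hle hx)
  have hgdvd : ∀ i : ℤ, g ^ i ∈ K → (p : ℤ) ∣ i := by
    intro i hi
    by_contra hni
    have hgp : g ^ p ∈ K := hKeq ▸ Subgroup.mem_sup_right hgpC
    have hc : IsCoprime i (p : ℤ) := ((Nat.prime_iff_prime_int.1 hp.out).coprime_iff_not_dvd.2 hni).symm
    obtain ⟨a, b, hab⟩ := hc
    apply hgK
    have : g = (g ^ i) ^ a * (g ^ (p : ℤ)) ^ b := by
      rw [← zpow_mul, ← zpow_mul, ← zpow_add, mul_comm i, mul_comm (p : ℤ), hab, zpow_one]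
    rw [this]
    exact mul_mem (zpow_mem hi a) (zpow_mem (by rw [zpow_natCast]; exact hgp) b)
  obtain ⟨H, hH⟩ : ∃ H, H = C ⊔ Subgroup.zpowers g := ⟨_, rfl⟩
  have hHc : IsCyclic H := huniq H fun x hx hxp => by
    have hxW := hWmem x hxp
    rw [hH] at hx
    obtain ⟨c, hc, _, ⟨i, rfl⟩, rfl⟩ := Subgroup.mem_sup_of_normal_left.1 hx
    have hi : g ^ i ∈ K := by
      rw [hKeq]
      have := mul_mem (Subgroup.mem_sup_right (inv_mem hc) : _ ∈ W ⊔ C) (Subgroup.mem_sup_left hxW)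
      rwa [inv_mul_cancel_left] at this
    obtain ⟨k, rfl⟩ := hgdvd i hi
    refine hCWZ _ hxW (mul_mem hc ?_)
    show g ^ ((p : ℤ) * k) ∈ C
    rw [zpow_mul, zpow_natCast]
    exact zpow_mem hgpC k
  have hCH : ∀ c ∈ C, c ∈ H := fun c hc => hH ▸ Subgroup.mem_sup_left hc
  have hgH : g ∈ H := hH ▸ Subgroup.mem_sup_right (Subgroup.mem_zpowers g)
  have hgc : ∀ c ∈ C, Commute c g := fun c hc => congrArg Subtype.val
    ((IsCyclic.isMulCommutative (α := H)).is_comm.comm ⟨c, hCH c hc⟩ ⟨g, hgH⟩)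
  have hCg : C ≤ Subgroup.zpowers g := by
    obtain ⟨h, hh⟩ := IsCyclic.exists_generator (α := H)
    obtain ⟨j, hj⟩ := hh ⟨g, hgH⟩
    have hj' : (h : R) ^ j = g := by rw [← Subgroup.coe_zpow]; exact congrArg Subtype.val hj
    have hhp : (h : R) ^ p ∈ C := by
      have h2 : (h : R) ∈ C ⊔ Subgroup.zpowers g := hH ▸ h.2
      obtain ⟨c, hc, _, ⟨i, rfl⟩, e⟩ := Subgroup.mem_sup_of_normal_left.1 h2
      rw [← e, ((hgc c hc).zpow_right i).mul_pow, ← zpow_natCast (g ^ i), ← zpow_mul, mul_comm, zpow_mul,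
        zpow_natCast]
      exact mul_mem (pow_mem hc p) (zpow_mem hgpC i)
    have hnd : ¬ (p : ℤ) ∣ j := by
      rintro ⟨k, rfl⟩
      refine hgK (hKeq ▸ Subgroup.mem_sup_right ?_)
      rw [← hj', zpow_mul, zpow_natCast]
      exact zpow_mem hhp k
    obtain ⟨e, he⟩ := hR (h : R)
    have hc : IsCoprime j ((p : ℤ) ^ e) := (((Nat.prime_iff_prime_int.1 hp.out).coprime_iff_not_dvd.2 hnd).symm).pow_right
    obtain ⟨a, b, hab⟩ := hc
    have hhg : (h : R) ∈ Subgroup.zpowers g := by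
      refine ⟨a, ?_⟩
      show g ^ a = (h : R)
      rw [← hj', ← zpow_mul, mul_comm, show a * j = 1 - b * (p : ℤ) ^ e by linarith, zpow_sub, zpow_one,
        mul_comm b, zpow_mul, ← Nat.cast_pow, zpow_natCast, he, one_zpow, inv_one, mul_one]
    intro c hc'
    obtain ⟨i, hi⟩ := hh ⟨c, hCH c hc'⟩
    rw [← show (h : R) ^ i = c by rw [← Subgroup.coe_zpow]; exact congrArg Subtype.val hi]
    exact zpow_mem hhg i
  have hspan : W ⊔ Subgroup.zpowers g = ⊤ := by
    have h1 : K ⊔ Subgroup.zpowers g = ⊤ := by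
      refine sup_zpowers_eq hR le_top ?_ (Subgroup.mem_top g) hgK
      rw [Subgroup.card_top, ← K.card_mul_index]
      refine Nat.mul_le_mul_left _ ?_
      rw [Subgroup.index_eq_card]
      have hfL : ∀ x : R, ((⁅x, w⁆ : R) : R ⧸ Z) ∈ L.map (QuotientGroup.mk' Z) := fun x =>
        ⟨⁅x, w⁆, by rw [← commutatorElement_inv]; exact inv_mem (hWL w hw x), rfl⟩
      let F : R ⧸ K → L.map (QuotientGroup.mk' Z) := Quotient.lift (fun x => ⟨_, hfL x⟩) fun x y hxy => by
        replace hxy : x⁻¹ * y ∈ K := QuotientGroup.leftRel_apply.1 hxy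
        rw [hK] at hxy
        refine Subtype.ext ?_
        show ((⁅x, w⁆ : R) : R ⧸ Z) = ((⁅y, w⁆ : R) : R ⧸ Z)
        rw [show ⁅y, w⁆ = x * ⁅x⁻¹ * y, w⁆ * x⁻¹ * ⁅x, w⁆ by simp only [commutatorElement_def]; group,
          QuotientGroup.mk_mul, QuotientGroup.mk_mul, QuotientGroup.mk_mul, (QuotientGroup.eq_one_iff _).2 hxy,
          QuotientGroup.mk_inv, mul_one, mul_inv_cancel, one_mul]
      have hFinj : Function.Injective F := fun a b => Quotient.inductionOn₂ a b fun x y h => by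
        refine Quotient.sound ?_
        show QuotientGroup.leftRel K x y
        rw [QuotientGroup.leftRel_apply, hK]
        have h' : ((⁅x, w⁆ : R) : R ⧸ Z) = ((⁅y, w⁆ : R) : R ⧸ Z) := congrArg Subtype.val h
        have hfix : ((⁅x⁻¹ * y, w⁆ : R) : R ⧸ Z) = (x : R ⧸ Z)⁻¹ * ((⁅y, w⁆ : R) * ((⁅x, w⁆ : R) : R ⧸ Z)⁻¹) * x := by
          rw [← QuotientGroup.mk_inv, ← QuotientGroup.mk_inv, ← QuotientGroup.mk_mul, ← QuotientGroup.mk_mul,
            ← QuotientGroup.mk_mul]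
          congr 1
          simp only [commutatorElement_def]; group
        rw [← QuotientGroup.eq_one_iff, hfix, h', mul_inv_cancel, mul_one, inv_mul_cancel]
      refine (Nat.card_le_card_of_injective F hFinj).trans ?_
      rw [← Subgroup.relIndex_bot_left, ← Subgroup.relIndex_comap, MonoidHom.comap_bot, QuotientGroup.ker_mk']
      have h2 := Subgroup.relIndex_mul_relIndex ⊥ Z L bot_le hZL
      rw [Subgroup.relIndex_bot_left, Subgroup.relIndex_bot_left, hLc, hZc] at h2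
      exact (Nat.eq_of_mul_eq_mul_left hp0 h2).le
    rw [eq_top_iff, ← h1, hKeq]
    exact sup_le (sup_le le_sup_left (hCg.trans le_sup_right)) le_sup_right
  -- the derived subgroup is small
  have hder : ∀ x y : R, ⁅x, y⁆ ∈ L := by
    intro x y
    obtain ⟨x₁, hx₁, i, rfl⟩ := exists_pow_decomp W g (hspan ▸ Subgroup.mem_top x)
    obtain ⟨y₁, hy₁, j, rfl⟩ := exists_pow_decomp W g (hspan ▸ Subgroup.mem_top y)
    have hcen : ∀ a ∈ W, ∀ r : R ⧸ L, Commute (a : R ⧸ L) r := fun a ha r => by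
      induction r using QuotientGroup.induction_on with | H s =>
      rw [← commutatorElement_eq_one_iff_commute, ← QuotientGroup.mk'_apply, ← QuotientGroup.mk'_apply,
        ← map_commutatorElement]
      exact (QuotientGroup.eq_one_iff _).2 (hWL a ha s)
    rw [← QuotientGroup.eq_one_iff, ← QuotientGroup.mk'_apply, map_commutatorElement,
      commutatorElement_eq_one_iff_commute, map_mul, map_mul]
    exact ((hcen x₁ hx₁ _)).mul_left (((hcen y₁ hy₁ _).symm).mul_right (by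
      rw [map_pow, map_pow]; exact (Commute.refl _).pow_pow i j))
  have hR' : commutator R ≤ L := by
    rw [commutator_def, Subgroup.commutator_le]; exact fun x _ y _ => hder x y
  have hsc : Fusion.SmallClass p R := Or.inr ⟨hp3, le_bot_iff.1 (by
    refine le_trans (Subgroup.commutator_mono (le_trans (Subgroup.commutator_mono hR' le_rfl)
      (Subgroup.commutator_le.2 fun a ha b _ => hLZ a ha b)) le_rfl) (Subgroup.commutator_le.2 fun a ha b _ => ?_)
    exact Subgroup.mem_bot.2 (commutatorElement_eq_one_iff_commute.2 (hZcen a ha b)))⟩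
  have hmul : ∀ x y : R, (x * y) ^ p = x ^ p * y ^ p :=
    Fusion.mul_pow_of_derived hsc (hR'.trans (hLW.trans hWdef.le))
  obtain ⟨m, hm⟩ : ∃ m, orderOf g = p ^ (m + 2) := by
    obtain ⟨e, he⟩ := (IsPGroup.iff_orderOf.1 hR) g
    rcases e with _ | _ | e
    · exact absurd (hKeq ▸ Subgroup.mem_sup_left (hWmem g (by
        rw [(orderOf_eq_one_iff.1 (by simpa using he) : g = 1), one_pow]))) hgK
    · exact absurd (hKeq ▸ Subgroup.mem_sup_left (hWmem g (by
        rw [← orderOf_dvd_iff_pow_eq_one, he, zero_add, pow_one]))) hgK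
    · exact ⟨e, he⟩
  obtain ⟨n, hn⟩ : ∃ n, n = p ^ (m + 1) := ⟨_, rfl⟩
  have hmuln : ∀ x y : R, (x * y) ^ n = x ^ n * y ^ n := by
    rw [hn]
    clear hm hn
    induction m with
    | zero => intro x y; rw [zero_add, pow_one]; exact hmul x y
    | succ m ih => intro x y; rw [pow_succ, pow_mul, ih, hmul, ← pow_mul, ← pow_mul]
  obtain ⟨z₀, hz₀⟩ : ∃ z₀, z₀ = g ^ n := ⟨_, rfl⟩
  have hz₀o : orderOf z₀ = p := by
    rw [hz₀, hn, orderOf_pow_of_dvd (pow_ne_zero _ hp.out.ne_zero) (by rw [hm]; exact pow_dvd_pow p (by omega)), hm,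
      pow_succ, Nat.mul_div_cancel_left _ (pow_pos hp0 _)]
  have hz₀Z : z₀ ∈ Z := hCelt z₀ (by rw [hz₀, hn, pow_succ', pow_mul]; exact pow_mem hgpC _)
    (by rw [← hz₀o]; exact pow_orderOf_eq_one z₀)
  obtain ⟨z₂, hz₂⟩ : ∃ z₂, z₂ = ⁅w, l⁆ := ⟨_, rfl⟩
  have hz₂Z : z₂ ∈ Z := hz₂ ▸ hWW w hw l (hLW hlL)
  have hz₂o : orderOf z₂ = p := orderOf_eq_prime (hWe z₂ (hZW hz₂Z)) fun h =>
    hnl l hlL hlZ (commutatorElement_eq_one_iff_commute.1 (hz₂ ▸ h)).symm
  obtain ⟨t, ht⟩ : ∃ t : ℕ, z₂ = z₀ ^ t := by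
    have h1 : Subgroup.zpowers z₀ = Z := Subgroup.eq_of_le_of_card_ge (Subgroup.zpowers_le.2 hz₀Z) (by
      rw [hZc, Nat.card_zpowers, hz₀o])
    obtain ⟨t, ht⟩ := mem_powers_iff_mem_zpowers.2 (h1.ge hz₂Z)
    exact ⟨t, ht.symm⟩
  have hinvW : ∀ (e : MulAut R), ∀ x ∈ W, e x ∈ W := fun e x hx =>
    (Subgroup.characteristic_iff_map_eq.1 hWchar e).le ⟨x, hx, rfl⟩
  have hLeq : L = ⁅W, (⊤ : Subgroup R)⁆ ⊔ Z := by
    refine (Subgroup.eq_of_le_of_card_ge (sup_le (Subgroup.commutator_le.2 fun a ha b _ => hWL a ha b) hZL) ?_).symm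
    have hlt : Z < ⁅W, (⊤ : Subgroup R)⁆ ⊔ Z := lt_of_le_of_ne le_sup_right fun e => hlZ (e ▸
      Subgroup.mem_sup_left (by
        rw [hldef, ← commutatorElement_inv]
        exact inv_mem (Subgroup.commutator_mem_commutator hw (Subgroup.mem_top g))))
    rw [hLc]
    have h9 := card_mul_le_of_lt hR hlt
    rwa [hZc] at h9
  have hinvL : ∀ (e : MulAut R), ∀ x ∈ L, e x ∈ L := by
    intro e x hx
    have h1 : L.map e.toMonoidHom ≤ L := by
      rw [hLeq, Subgroup.map_sup, Subgroup.map_commutator]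
      refine sup_le_sup (Subgroup.commutator_mono ?_ le_top) (Subgroup.characteristic_iff_map_le.1 hZchar e)
      exact Subgroup.characteristic_iff_map_le.1 hWchar e
    exact h1 ⟨x, hx, rfl⟩
  have hμ : ∀ a : A, ∃ μ : ℕ, φ a w * (w ^ μ)⁻¹ ∈ L ∧ μ * μ ≡ 1 [MOD p] := by
    intro a
    obtain ⟨l', hl', μ, hμ⟩ := exists_pow_decomp L w (hWgen.ge (hinvW (φ a) w hw))
    obtain ⟨w', hw', ρ, hρ⟩ := exists_pow_decomp W g (hspan ▸ Subgroup.mem_top (φ a g))
    refine ⟨μ, by rw [hμ, mul_inv_cancel_right]; exact hl', ?_⟩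
    have hL1 : ∀ r : R, ∀ x ∈ L, Commute ((x : R) : R ⧸ Z) (r : R ⧸ Z) := fun r x hx => by
      rw [← commutatorElement_eq_one_iff_commute, ← QuotientGroup.mk'_apply, ← QuotientGroup.mk'_apply,
        ← map_commutatorElement]
      exact (QuotientGroup.eq_one_iff _).2 (hLZ x hx r)
    have hl1 : φ a l * (l ^ (ρ * μ))⁻¹ ∈ Z := by
      rw [← QuotientGroup.eq_one_iff, QuotientGroup.mk_mul, QuotientGroup.mk_inv, mul_inv_eq_one, hldef,
        map_commutatorElement, hμ, hρ, QuotientGroup.mk_pow, ← QuotientGroup.mk'_apply,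
        map_commutatorElement, map_mul, map_mul, map_pow, map_pow, QuotientGroup.mk'_apply]
      simp only [QuotientGroup.mk'_apply]
      have hWab : ∀ x ∈ W, ∀ y ∈ W, Commute ((x : R) : R ⧸ Z) (y : R ⧸ Z) := fun x hx y hy => by
        rw [← commutatorElement_eq_one_iff_commute, ← QuotientGroup.mk'_apply, ← QuotientGroup.mk'_apply,
          ← map_commutatorElement]
        exact (QuotientGroup.eq_one_iff _).2 (hWW x hx y hy)
      have hc : ∀ r : R ⧸ Z, Commute r ⁅(g : R ⧸ Z), (w : R ⧸ Z)⁆ := fun r => by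
        induction r using QuotientGroup.induction_on with | H s =>
        have := (hL1 s l hlL).symm
        rwa [hldef, ← QuotientGroup.mk'_apply, ← QuotientGroup.mk'_apply, map_commutatorElement] at this
      have e2 := commutator_pow_pow (hc (g : R ⧸ Z)) (hc (w : R ⧸ Z)) ρ μ
      rw [show ((⁅g, w⁆ : R) : R ⧸ Z) = ⁅(g : R ⧸ Z), (w : R ⧸ Z)⁆ from map_commutatorElement (QuotientGroup.mk' Z) g w,
        ← e2]
      simp only [commutatorElement_def]
      have c1 : Commute ((l' : R) : R ⧸ Z) ((g : R ⧸ Z) ^ ρ) := (hL1 g l' hl').pow_right ρ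
      have c2 : Commute ((l' : R) : R ⧸ Z) ((w : R ⧸ Z) ^ μ) := (hL1 w l' hl').pow_right μ
      have c3 : Commute ((w' : R) : R ⧸ Z) ((w : R ⧸ Z) ^ μ) := (hWab w' hw' w hw).pow_right μ
      have c4 : Commute ((l' : R) : R ⧸ Z) ((w' : R) : R ⧸ Z) := hL1 w' l' hl'
      obtain ⟨x1, hx1⟩ : ∃ x1, x1 = ((w' : R) : R ⧸ Z) := ⟨_, rfl⟩
      obtain ⟨x2, hx2⟩ : ∃ x2, x2 = (g : R ⧸ Z) ^ ρ := ⟨_, rfl⟩
      obtain ⟨x3, hx3⟩ : ∃ x3, x3 = ((l' : R) : R ⧸ Z) := ⟨_, rfl⟩
      obtain ⟨x4, hx4⟩ : ∃ x4, x4 = (w : R ⧸ Z) ^ μ := ⟨_, rfl⟩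
      rw [← hx1, ← hx2, ← hx3, ← hx4]
      rw [← hx2, ← hx3] at c1
      rw [← hx3, ← hx4] at c2
      rw [← hx1, ← hx4] at c3
      rw [← hx1, ← hx3] at c4
      have hcc : Commute x1 (x2 * x4 * x2⁻¹ * x4⁻¹) := by
        have h5 := (hc x1).pow_right (ρ * μ)
        rwa [← e2, commutatorElement_def, ← hx2, ← hx4] at h5
      calc x1 * x2 * (x3 * x4) * (x1 * x2)⁻¹ * (x3 * x4)⁻¹
          = x1 * (x2 * x3) * x4 * x2⁻¹ * x1⁻¹ * x4⁻¹ * x3⁻¹ := by group
        _ = x1 * x3 * x2 * x4 * x2⁻¹ * (x1⁻¹ * x4⁻¹) * x3⁻¹ := by rw [c1.symm.eq]; group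
        _ = x1 * x3 * x2 * x4 * x2⁻¹ * (x4⁻¹ * x1⁻¹) * x3⁻¹ := by rw [c3.inv_inv.eq]
        _ = x3 * (x1 * (x2 * x4 * x2⁻¹ * x4⁻¹)) * x1⁻¹ * x3⁻¹ := by rw [← c4.eq]; group
        _ = x3 * (x2 * x4 * x2⁻¹ * x4⁻¹) * x3⁻¹ := by rw [hcc.eq]; group
        _ = _ := by
          have h5 : Commute x3 (x2 * x4 * x2⁻¹ * x4⁻¹) :=
            ((c1.mul_right c2).mul_right c1.inv_right).mul_right c2.inv_right
          rw [h5.eq]; group
    have hz2 : φ a z₂ = z₂ ^ (μ * (ρ * μ)) := by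
      obtain ⟨z', hz', e⟩ : ∃ z' ∈ Z, φ a l = z' * l ^ (ρ * μ) := ⟨_, hl1, by group⟩
      rw [hz₂, map_commutatorElement, hμ, e]
      have hl'' : Commute l' (l ^ (ρ * μ)) := by
        have hab := commute_of_zpowers_cover (Z := Z) (u := l) (v := l) hZcen (Commute.refl l)
        rw [hLgen l hlL hlZ] at hab
        exact hab l' (Subgroup.mem_sup_left hl') _ (Subgroup.mem_sup_left (pow_mem hlL _))
      have hcz : ∀ r : R, Commute r ⁅w, l⁆ := fun r => (hZcen _ (hWW w hw l (hLW hlL)) r).symm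
      rw [← commutator_pow_pow (hcz w) (hcz l)]
      simp only [commutatorElement_def]
      have c1 := hZcen z' hz'
      obtain ⟨x4, hx4⟩ : ∃ x4, x4 = w ^ μ := ⟨_, rfl⟩
      obtain ⟨x5, hx5⟩ : ∃ x5, x5 = l ^ (ρ * μ) := ⟨_, rfl⟩
      rw [← hx4, ← hx5]
      rw [← hx5] at hl''
      have hz5 : Commute l' (x4 * x5 * x4⁻¹ * x5⁻¹) := by
        have h5 := (hcz l').pow_right (μ * (ρ * μ))
        rwa [← commutator_pow_pow (hcz w) (hcz l), commutatorElement_def, ← hx4, ← hx5] at h5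
      calc l' * x4 * (z' * x5) * (l' * x4)⁻¹ * (z' * x5)⁻¹
          = l' * x4 * z' * x5 * x4⁻¹ * l'⁻¹ * x5⁻¹ * z'⁻¹ := by group
        _ = z' * (l' * x4 * x5 * x4⁻¹ * (l'⁻¹ * x5⁻¹)) * z'⁻¹ := by rw [← (c1 (l' * x4)).eq]; group
        _ = z' * (l' * x4 * x5 * x4⁻¹ * (x5⁻¹ * l'⁻¹)) * z'⁻¹ := by rw [hl''.inv_inv.eq]
        _ = z' * ((l' * (x4 * x5 * x4⁻¹ * x5⁻¹)) * l'⁻¹) * z'⁻¹ := by group
        _ = _ := by rw [hz5.eq, mul_inv_cancel_right, (c1 _).eq, mul_inv_cancel_right]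
    have hz0 : φ a z₀ = z₀ ^ ρ := by
      rw [hz₀, map_pow, hρ, hmuln, show w' ^ n = 1 by rw [hn, pow_succ', pow_mul, hWe w' hw', one_pow], one_mul,
        ← pow_mul, ← pow_mul, mul_comm]
    have h3 : z₂ ^ (μ * (ρ * μ)) = z₂ ^ ρ := by
      rw [← hz2, ht, map_pow, hz0, ← pow_mul, ← pow_mul, mul_comm]
    rw [pow_eq_pow_iff_modEq, hz₂o] at h3
    have hρp : Nat.gcd p ρ = 1 := hp.out.coprime_iff_not_dvd.2 fun hd => by
      obtain ⟨k, rfl⟩ := hd
      rw [pow_mul, ← hz₀o, pow_orderOf_eq_one, one_pow, ← map_one (φ a)] at hz0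
      exact hp.out.ne_one (hz₀o ▸ orderOf_eq_one_iff.2 ((φ a).injective hz0))
    refine Nat.ModEq.cancel_left_of_coprime (c := ρ) hρp ?_
    rw [mul_one]
    rwa [show μ * (ρ * μ) = ρ * (μ * μ) by ring] at h3
  have hfix : ∀ a : A, w⁻¹ * φ a w ∈ L := by
    intro a
    obtain ⟨b, rfl⟩ : ∃ b, a = b * b := by
      obtain ⟨k, hk⟩ := hodd
      refine ⟨a ^ (k + 1), ?_⟩
      rw [← pow_add, show k + 1 + (k + 1) = Nat.card A + 1 by omega, pow_succ, pow_card_eq_one', one_mul]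
    obtain ⟨μ, hμ1, hμ2⟩ := hμ b
    rw [← QuotientGroup.eq_one_iff, QuotientGroup.mk_mul, QuotientGroup.mk_inv, inv_mul_eq_one, map_mul,
      MulAut.mul_apply]
    have e1 : ((φ b w : R) : R ⧸ L) = (w : R ⧸ L) ^ μ := by
      rw [← QuotientGroup.mk_pow, ← mul_inv_eq_one, ← QuotientGroup.mk_inv, ← QuotientGroup.mk_mul]
      exact (QuotientGroup.eq_one_iff _).2 hμ1
    obtain ⟨l', hl', e⟩ : ∃ l' ∈ L, φ b w = l' * w ^ μ := ⟨_, hμ1, by group⟩
    rw [e, map_mul, map_pow, QuotientGroup.mk_mul, QuotientGroup.mk_pow, e1,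
      (QuotientGroup.eq_one_iff _).2 (hinvL (φ b) l' hl'), one_mul, ← pow_mul]
    have ho : orderOf (w : R ⧸ L) ∣ p := orderOf_dvd_of_pow_eq_one (by
      rw [← QuotientGroup.mk_pow, hWe w hw, QuotientGroup.mk_one])
    exact ((pow_one _).symm.trans (pow_eq_pow_iff_modEq.2 (hμ2.symm.of_dvd ho)))
  obtain ⟨U, hU, hdisp⟩ := exists_displacement_bound hR L hder hco φ (fun a x hx => hinvL (φ a) x hx) hwL hfix
  exact hU (hfull U hdisp)

/-- A rank two `p`-group equal to its commutator with an operator group of odd order. -/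
theorem rank_two_full {G : Type u} [Group G] [Finite G] (hp2 : p ≠ 2) (R A : Subgroup G) (hR : IsPGroup p R)
    (hR1 : R ≠ ⊥) (hr : Cfsg.PRankLE p 2 R) (hA : A ≤ Subgroup.normalizer (R : Set G))
    (hcop : (Nat.card A).Coprime p) (hAodd : Odd (Nat.card A)) (hRA : ⁅R, A⁆ = R) :
    3 < p ∧ (IsMulCommutative R ∨ ∃ R₁ R₂ : Subgroup G, R₁ ⊔ R₂ = R ∧ (∀ a ∈ R₁, ∀ b ∈ R₂, a * b = b * a) ∧
        ¬ IsMulCommutative R₁ ∧ Nat.card R₁ = p ^ 3 ∧ Monoid.exponent R₁ = p ∧ IsCyclic R₂ ∧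
        Subgroup.closure {x : G | x ∈ R₂ ∧ x ^ p = 1} = ⁅R₁, R₁⁆) := by
  classical
  obtain ⟨φ, hφ⟩ := RankTwo.exists_conj R A hA
  have hfull : ∀ U : Subgroup R, (∀ a x, x⁻¹ * φ a x ∈ U) → U = ⊤ := by
    intro U hU
    have hle : ⁅R, A⁆ ≤ U.map R.subtype := by
      rw [Subgroup.commutator_le]
      intro r hr' a ha
      refine ⟨_, hU ⟨a, ha⟩ (⟨r, hr'⟩ : R)⁻¹, ?_⟩
      rw [R.subtype_apply, Subgroup.coe_mul, hφ, inv_inv, Subgroup.coe_inv, commutatorElement_def]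
      group
    rw [eq_top_iff]
    intro x _
    obtain ⟨y, hy, e⟩ := hle (hRA.ge x.2)
    exact Subtype.ext e ▸ hy
  have hp3 : 3 < p := by
    by_contra hcon
    have hp' : p = 3 := by
      have := hp.out.two_le
      omega
    have htriv : ∀ a, φ a = 1 := by
      intro a
      rw [← orderOf_eq_one_iff]
      by_contra hne
      obtain ⟨q, hq, hqd⟩ := Nat.exists_prime_and_dvd hne
      have hqA : q ∣ Nat.card A := hqd.trans ((orderOf_map_dvd φ a).trans (orderOf_dvd_natCard a))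
      have hqp : q ≠ p := fun h => hp.out.ne_one (Nat.eq_one_of_dvd_coprimes hcop (h ▸ hqA) dvd_rfl)
      have h8 := Fusion.prime_dvd_aut_of_rank_two hp2 hR hr q hq hqp (hqd.trans (orderOf_dvd_natCard _))
      rw [hp'] at h8
      have h2 : q = 2 := (Nat.prime_dvd_prime_iff_eq hq Nat.prime_two).1 (hq.dvd_of_dvd_pow (show q ∣ 2 ^ 3 by simpa using h8))
      exact (Nat.not_even_iff_odd.2 hAodd) (even_iff_two_dvd.2 (h2 ▸ hqA))
    refine hR1 (Subgroup.card_eq_one.1 ?_)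
    have h1 := hfull ⊥ fun a x => by rw [htriv, MulAut.one_apply, inv_mul_cancel]; exact one_mem _
    rw [← Subgroup.card_top, ← h1, Subgroup.card_bot]
  refine ⟨hp3, ?_⟩
  by_cases hsmall : Nat.card (Subgroup.closure {x : R | x ^ p = 1}) ≤ p ^ 2
  · refine Or.inl (abelian_of_full hp2 R A hR (Fusion.metacyclic_of_omega_small hp3 hR ?_) hA hcop hRA)
    have e : Cfsg.omegaOne p (⊤ : Subgroup R) = Subgroup.closure {x : R | x ^ p = 1} := by
      simp [Cfsg.omegaOne]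
    rw [e]; exact hsmall
  obtain ⟨W, C, h1, h2, h3, h4, h5, h6, h7⟩ := central_product hp3 hR hr (not_le.1 hsmall) hcop hAodd φ hfull
  haveI := h6
  refine Or.inr ⟨W.map R.subtype, C.map R.subtype, ?_, ?_, ?_, ?_, ?_, ?_, ?_⟩
  · rw [← Subgroup.map_sup, h1, ← MonoidHom.range_eq_map, Subgroup.range_subtype]
  · rintro _ ⟨a, ha, rfl⟩ _ ⟨b, hb, rfl⟩
    rw [← map_mul, ← map_mul, h2 a ha b hb]
  · intro h
    refine h3 ⟨⟨fun a b => Subtype.ext (Subtype.ext ?_)⟩⟩
    have h9 := congrArg Subtype.val (h.is_comm.comm ⟨_, a, a.2, rfl⟩ ⟨_, b, b.2, rfl⟩)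
    exact h9
  · rw [Subgroup.card_map_of_injective R.subtype_injective, h4]
  · rw [← Monoid.exponent_eq_of_mulEquiv (W.equivMapOfInjective R.subtype R.subtype_injective)]
    refine (Nat.Prime.eq_one_or_self_of_dvd hp.out _ (Monoid.exponent_dvd_of_forall_pow_eq_one
      fun x => Subtype.ext (by rw [SubgroupClass.coe_pow]; exact h5 x x.2))).resolve_left fun h => ?_
    haveI : Subsingleton W := Monoid.exp_eq_one_iff.1 h
    exact h3 ⟨⟨fun a b => Subsingleton.elim _ _⟩⟩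
  · exact isCyclic_of_surjective (R.subtype.subgroupMap C) (R.subtype.subgroupMap_surjective C)
  · rw [← Subgroup.map_commutator, ← h7, MonoidHom.map_closure]
    congr 1
    ext x
    constructor
    · rintro ⟨⟨y, hy, rfl⟩, hyp⟩
      exact ⟨y, ⟨hy, Subtype.ext (by simpa using hyp)⟩, rfl⟩
    · rintro ⟨y, ⟨hy, hyp⟩, rfl⟩
      exact ⟨⟨y, hy, rfl⟩, by rw [← map_pow, hyp, map_one]⟩

end Cfsg.Agent.Solv.MetaAct
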