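import Mathlib
import Cfsg.Agent.Lib.Solv.RankTwoGroups
import Cfsg.Agent.Lib.Solv.NarrowBasic
import Cfsg.Agent.Lib.Solv.Zipper
import Cfsg.Agent.Lib.Solv.Hall

/-!
Solvable groups of odd order with narrow cores: the derived subgroup lies in the Fitting subgroup.
-/

set_option autoImplicit false
set_option linter.style.haveILetI false

namespace Cfsg.Agent.Solv.RankTwo

open Cfsg
open Cfsg.Agent.Solv
open scoped commutatorElement

universe u

variable {G : Type u} [Group G] [Finite G]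

theorem conjHom_ker (T : Subgroup G) [T.Normal] :
    (MulAut.conjNormal (H := T) : G →* MulAut T).ker = Subgroup.centralizer (T : Set G) := by
  ext g
  rw [MonoidHom.mem_ker, Subgroup.mem_centralizer_iff]
  constructor
  · intro h x hx
    have h1 := congrArg Subtype.val (DFunLike.congr_fun h ⟨x, hx⟩)
    rw [MulAut.conjNormal_apply] at h1
    exact (mul_inv_eq_iff_eq_mul.1 h1).symm
  · intro h
    refine MulEquiv.ext fun x => Subtype.ext ?_
    rw [MulAut.conjNormal_apply, ← h x x.2, mul_inv_cancel_right]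
    rfl

/-- The action on a narrow core. -/
theorem core_action [Group.IsSolvable G] (hodd : Odd (Nat.card G)) {q : ℕ} [hq : Fact q.Prime]
    (hn : IsNarrow q ↥(pCore q G)) :
    (∀ r : ℕ, r.Prime → r ≠ q → ∀ x ∈ commutator G, (∃ k, x ^ r ^ k = 1) →
        x ∈ Subgroup.centralizer (pCore q G : Set G)) ∧
      ∀ r : ℕ, r.Prime → q < r → ∀ x : G, (∃ k, x ^ r ^ k = 1) → x ∈ Subgroup.centralizer (pCore q G : Set G) := by
  classical
  obtain ⟨T, hT⟩ : ∃ T, T = pCore q G := ⟨_, rfl⟩
  haveI : T.Normal := hT ▸ Cfsg.pCore_normal q G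
  rw [← hT] at hn ⊢
  have hTp : IsPGroup q T := hT ▸ Fusion.isPGroup_pCore q G
  by_cases h1 : T = ⊥
  · have hc : ∀ x : G, x ∈ Subgroup.centralizer (T : Set G) := fun x =>
      Subgroup.mem_centralizer_iff.2 fun t ht => by
        rw [h1, SetLike.mem_coe, Subgroup.mem_bot] at ht
        rw [ht, one_mul, mul_one]
    exact ⟨fun _ _ _ x _ _ => hc x, fun _ _ _ x _ => hc x⟩
  have hq2 : q ≠ 2 := by
    rintro rfl
    obtain ⟨j, hj⟩ := hTp.exists_card_eq
    rcases Nat.eq_zero_or_pos j with rfl | hj0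
    · exact h1 (Subgroup.card_eq_one.1 (by simpa using hj))
    · exact (Nat.not_even_iff_odd.2 hodd) (even_iff_two_dvd.2
        ((hj ▸ dvd_pow_self 2 hj0.ne').trans (Subgroup.card_subgroup_dvd_card T)))
  obtain ⟨φ, hφ⟩ : ∃ φ : G →* MulAut T, φ.ker = Subgroup.centralizer (T : Set G) :=
    ⟨MulAut.conjNormal (H := T), conjHom_ker T⟩
  rw [← hφ]
  haveI : Group.IsSolvable (G ⧸ φ.ker) := Group.isSolvable_of_surjective (QuotientGroup.mk'_surjective φ.ker)
  obtain ⟨hA, hAq⟩ := action hq2 hTp hn (hodd.of_dvd_nat (Subgroup.card_quotient_dvd_card φ.ker))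
    (QuotientGroup.kerLift φ) (QuotientGroup.kerLift_injective φ)
  refine ⟨fun r hr hrq x hx hxr => ?_, fun r hr hqr x hxr => ?_⟩
  · obtain ⟨k, hk⟩ := hxr
    have hmem : QuotientGroup.mk' φ.ker x ∈ commutator (G ⧸ φ.ker) := by
      have hle : (commutator G).map (QuotientGroup.mk' φ.ker) ≤ commutator (G ⧸ φ.ker) := by
        rw [commutator_def, commutator_def, Subgroup.map_commutator]
        exact Subgroup.commutator_mono le_top le_top
      exact hle ⟨x, hx, rfl⟩
    obtain ⟨i, hi⟩ := hA ⟨_, hmem⟩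
    exact (QuotientGroup.eq_one_iff x).1 (orderOf_eq_one_iff.1 (Nat.eq_one_of_dvd_coprimes
      (((Nat.coprime_primes hr hq.out).2 hrq).pow k i)
      (orderOf_dvd_of_pow_eq_one (by rw [← map_one (QuotientGroup.mk' φ.ker), ← hk]; exact (map_pow (QuotientGroup.mk' φ.ker) x _).symm))
      (orderOf_dvd_of_pow_eq_one (congrArg Subtype.val hi))))
  · obtain ⟨k, hk⟩ := hxr
    by_contra hne
    have h2 : orderOf (QuotientGroup.mk' φ.ker x) ∣ r ^ k := orderOf_dvd_of_pow_eq_one
      (by rw [← map_one (QuotientGroup.mk' φ.ker), ← hk]; exact (map_pow (QuotientGroup.mk' φ.ker) x _).symm)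
    obtain ⟨j, -, hj⟩ := (Nat.dvd_prime_pow hr).1 h2
    rcases Nat.eq_zero_or_pos j with rfl | hj0
    · exact hne ((QuotientGroup.eq_one_iff x).1 (orderOf_eq_one_iff.1 (show orderOf (QuotientGroup.mk' φ.ker x) = 1 by rw [hj, pow_zero])))
    · have h3 := hAq r hr ((hj ▸ dvd_pow_self r hj0.ne').trans (orderOf_dvd_natCard _))
      omega

/-- If all cores are narrow, the derived subgroup is inside the Fitting subgroup. -/
theorem commutator_le_fitting [Group.IsSolvable G] (hodd : Odd (Nat.card G))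
    (hn : ∀ q : ℕ, q.Prime → IsNarrow q ↥(pCore q G)) : commutator G ≤ fittingSubgroup G := by
  classical
  obtain ⟨D, hD⟩ : ∃ D, D = commutator G := ⟨_, rfl⟩
  rw [← hD]
  suffices h : (fittingSubgroup G).subgroupOf D = ⊤ by exact Subgroup.subgroupOf_eq_top.1 h
  refine eq_top_of_forall_sylow_le _ fun r hr => ?_
  obtain ⟨P⟩ : Nonempty (Sylow r D) := inferInstance
  refine ⟨P, fun x hx => ?_⟩
  rw [Subgroup.mem_subgroupOf]
  obtain ⟨K, hK⟩ : ∃ K : Subgroup G, K = ⨅ q : {q : Nat.Primes // (q : ℕ) ≠ r}, Subgroup.centralizer (pCore ((q.1 : Nat.Primes) : ℕ) G : Set G) :=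
    ⟨_, rfl⟩
  haveI : K.Normal := hK ▸ Subgroup.normal_iInf_normal fun q => by
    haveI := Cfsg.pCore_normal ((q.1 : Nat.Primes) : ℕ) G
    infer_instance
  obtain ⟨N, hN⟩ : ∃ N, N = D ⊓ K := ⟨_, rfl⟩
  haveI : D.Normal := hD ▸ inferInstance
  haveI : N.Normal := hN ▸ inferInstance
  have hxK : (x : G) ∈ N := by
    obtain ⟨k, hk⟩ := P.isPGroup' ⟨x, hx⟩
    refine hN ▸ Subgroup.mem_inf.2 ⟨x.2, ?_⟩
    rw [hK, Subgroup.mem_iInf]
    intro q
    haveI := Fact.mk q.1.2
    exact (core_action hodd (hn q.1 q.1.2)).1 r hr.out (Ne.symm q.2) x (hD ▸ x.2)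
      ⟨k, by have := congrArg (fun z : (P : Subgroup D) => (((z : D) : G))) hk; simpa using this⟩
  -- elements of order prime to `r` in `N` are central in `N`
  have hcen : ∀ y ∈ N, ∀ s : ℕ, s.Prime → s ≠ r → (∃ k, y ^ s ^ k = 1) → ∀ n ∈ N, Commute y n := by
    intro y hy s hs hsr hys n hn'
    haveI := Fact.mk hs
    rw [hN, Subgroup.mem_inf] at hy
    have hyC : y ∈ Subgroup.centralizer (fittingSubgroup G : Set G) := by
      rw [Subgroup.mem_centralizer_iff]
      suffices h : fittingSubgroup G ≤ Subgroup.centralizer ({y} : Set G) by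
        intro f hf
        exact Subgroup.mem_centralizer_singleton_iff.1 (h hf)
      rw [fitting_eq_iSup_pCore]
      refine iSup_le fun q f hf => Subgroup.mem_centralizer_singleton_iff.2 ?_
      haveI := Fact.mk q.2
      by_cases hqr : (q : ℕ) = r
      · exact Subgroup.mem_centralizer_iff.1
          ((core_action hodd (hn q q.2)).1 s hs (hqr ▸ hsr) y (hD ▸ hy.1) hys) f hf
      · have h1 := hy.2
        rw [hK, Subgroup.mem_iInf] at h1
        exact Subgroup.mem_centralizer_iff.1 (h1 ⟨q, hqr⟩) f hf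
    obtain ⟨k, hk⟩ := hys
    have hyF : y ∈ fittingSubgroup G := centralizer_fitting_le inferInstance hyC
    have hyp : IsPGroup s (Subgroup.zpowers y) := by
      obtain ⟨i, -, hi⟩ := (Nat.dvd_prime_pow hs).1 (orderOf_dvd_of_pow_eq_one hk)
      exact IsPGroup.of_card (n := i) (by rw [Nat.card_zpowers, hi])
    have hys' : y ∈ pCore s G := pgroup_le_pCore_of_le_fitting hyp (Subgroup.zpowers_le.2 hyF) (Subgroup.mem_zpowers y)
    rw [hN, Subgroup.mem_inf] at hn'
    have h1 := hn'.2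
    rw [hK, Subgroup.mem_iInf] at h1
    exact Subgroup.mem_centralizer_iff.1 (h1 ⟨⟨s, hs⟩, hsr⟩) y hys'
  obtain ⟨R⟩ : Nonempty (Sylow r N) := inferInstance
  have hRn : Subgroup.normalizer ((R : Subgroup N) : Set N) = ⊤ := by
    refine eq_top_of_forall_sylow_le _ fun s hs => ?_
    by_cases hsr : s = r
    · subst hsr
      exact ⟨R, Subgroup.le_normalizer⟩
    · obtain ⟨Q⟩ : Nonempty (Sylow s N) := inferInstance
      refine ⟨Q, fun y hy => Subgroup.mem_normalizer_iff.2 fun z => ?_⟩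
      obtain ⟨k, hk⟩ := Q.isPGroup' ⟨y, hy⟩
      have hc : ∀ w : N, Commute y w := fun w => Subtype.ext (hcen y y.2 s hs.out hsr
        ⟨k, by have := congrArg (fun z : (Q : Subgroup N) => (((z : N) : G))) hk; simpa using this⟩ w w.2).eq
      rw [(hc z).eq, mul_inv_cancel_right]
  haveI hRnn : (R : Subgroup N).Normal := Subgroup.normalizer_eq_top_iff.1 hRn
  haveI : (R : Subgroup N).Characteristic := R.characteristic_of_normal hRnn
  have hxR : (⟨x, hxK⟩ : N) ∈ (R : Subgroup N) := by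
    obtain ⟨k, hk⟩ := P.isPGroup' ⟨x, hx⟩
    have hk' : (⟨x, hxK⟩ : N) ^ r ^ k = 1 := Subtype.ext (by
      have := congrArg (fun z : (P : Subgroup D) => (((z : D) : G))) hk; simpa using this)
    obtain ⟨i, -, hi⟩ := (Nat.dvd_prime_pow hr.out).1 (orderOf_dvd_of_pow_eq_one hk')
    obtain ⟨Q, hQ⟩ := (IsPGroup.of_card (n := i) (by rw [Nat.card_zpowers, hi]) :
      IsPGroup r (Subgroup.zpowers (⟨x, hxK⟩ : N))).exists_le_sylow
    haveI := Sylow.unique_of_normal R hRnn
    rw [show R = Q from Subsingleton.elim R Q]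
    exact hQ (Subgroup.mem_zpowers _)
  haveI : ((R : Subgroup N).map N.subtype).Normal := ConjAct.normal_of_characteristic_of_normal
  exact normal_le_fitting ((R.isPGroup'.map N.subtype).isNilpotent) ⟨_, hxR, rfl⟩

theorem narrow_of_fitting_rank (hr : RankLE 2 (fittingSubgroup G)) (q : ℕ) (hq : q.Prime) :
    IsNarrow q ↥(pCore q G) :=
  haveI := Fact.mk hq
  Or.inl (prankLE_of_injective (Subgroup.inclusion (pCore_le_fitting q)) (Subgroup.inclusion_injective _) (hr q hq))

/-- The derived subgroup under the hypothesis on the centralizer of an elementary subgroup. -/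
theorem narrow_of_centralizer [Group.IsSolvable G] (hodd : Odd (Nat.card G)) {p : ℕ} [hp : Fact p.Prime]
    (E : Subgroup G) (hE : E ≤ fittingSubgroup G) (hEe : IsElementaryAbelian p E)
    (hr : RankLE 2 ↥(fittingSubgroup G ⊓ Subgroup.centralizer (E : Set G))) (q : ℕ) (hq : q.Prime) :
    IsNarrow q ↥(pCore q G) := by
  haveI := Fact.mk hq
  have hEp : E ≤ pCore p G := pgroup_le_pCore_of_le_fitting (fun x => ⟨1, Subtype.ext (by
    rw [SubgroupClass.coe_pow, pow_one, OneMemClass.coe_one]; exact hEe.2 x x.2)⟩) hE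
  rcases eq_or_ne q p with rfl | hqp
  swap
  · refine Or.inl (prankLE_of_injective (Subgroup.inclusion (le_inf (pCore_le_fitting q) fun x hx => ?_))
      (Subgroup.inclusion_injective _) (hr q hq))
    refine Subgroup.mem_centralizer_iff.2 fun e he => ?_
    haveI := Cfsg.pCore_normal q G
    haveI := Cfsg.pCore_normal p G
    exact Subgroup.commute_of_normal_of_disjoint _ _ inferInstance inferInstance
      (IsPGroup.disjoint_of_ne p q (Ne.symm hqp) _ _ (Fusion.isPGroup_pCore p G) (Fusion.isPGroup_pCore q G)) e x (hEp he) hx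
  by_cases hrR : PRankLE q 2 ↥(pCore q G)
  · exact Or.inl hrR
  obtain ⟨R, hR⟩ : ∃ R, R = pCore q G := ⟨_, rfl⟩
  rw [← hR] at hEp hrR ⊢
  have hRp : IsPGroup q R := hR ▸ Fusion.isPGroup_pCore q G
  obtain ⟨E', hE'⟩ : ∃ E', E' = E.subgroupOf R := ⟨_, rfl⟩
  have hq2 : q ≠ 2 := by
    rintro rfl
    refine hrR fun A hA hAe => ?_
    obtain ⟨j, hj⟩ := (hRp.to_subgroup A).exists_card_eq
    rcases Nat.eq_zero_or_pos j with rfl | hj0
    · rw [hj]; norm_num
    · exact absurd (even_iff_two_dvd.2 (((hj ▸ dvd_pow_self 2 hj0.ne').trans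
        (Subgroup.card_subgroup_dvd_card A)).trans (Subgroup.card_subgroup_dvd_card R))) (Nat.not_even_iff_odd.2 hodd)
  have hmemE : ∀ a : R, a ∈ E' ↔ (a : G) ∈ E := fun a => by rw [hE']; exact Subgroup.mem_subgroupOf
  have hE'e : IsElementaryAbelian q E' := by
    refine ⟨⟨⟨fun a b => Subtype.ext (Subtype.ext ?_)⟩⟩, fun a ha => Subtype.ext ?_⟩
    · show ((a : R) : G) * ((b : R) : G) = ((b : R) : G) * ((a : R) : G)
      exact congrArg Subtype.val (hEe.1.is_comm.comm ⟨_, (hmemE a).1 a.2⟩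
        ⟨_, (hmemE b).1 b.2⟩)
    · rw [SubgroupClass.coe_pow, OneMemClass.coe_one]
      exact hEe.2 _ ((hmemE a).1 ha)
  obtain ⟨B, ⟨hBe, hEB⟩, hBmax⟩ := Set.exists_max_image
    {B : Subgroup R | IsElementaryAbelian q B ∧ E' ≤ B} (fun B : Subgroup R => Nat.card B) (Set.toFinite _)
    ⟨E', hE'e, le_rfl⟩
  have hBmax' : ∀ B' : Subgroup R, IsElementaryAbelian q B' → B ≤ B' → B' = B := fun B' h1 h2 =>
    (Subgroup.eq_of_le_of_card_ge h2 (hBmax B' ⟨h1, hEB.trans h2⟩)).symm
  have hBC : ∀ b ∈ B, (b : G) ∈ fittingSubgroup G ⊓ Subgroup.centralizer (E : Set G) := fun b hb => by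
    refine Subgroup.mem_inf.2 ⟨pCore_le_fitting q (hR ▸ b.2), Subgroup.mem_centralizer_iff.2 fun e he => ?_⟩
    have h1 : (⟨e, hEp he⟩ : R) ∈ B := hEB ((hmemE _).2 he)
    exact congrArg (fun z : B => ((z : R) : G)) (hBe.1.is_comm.comm ⟨_, h1⟩ ⟨b, hb⟩)
  have hBle : Nat.card B ≤ q ^ 2 := by
    let f : B →* ↥(fittingSubgroup G ⊓ Subgroup.centralizer (E : Set G)) :=
      MonoidHom.mk' (fun b => ⟨((b : R) : G), hBC b b.2⟩) fun _ _ => rfl
    have hf : Function.Injective f := fun a b e => Subtype.ext (Subtype.ext (congrArg Subtype.val e :))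
    have h := prankLE_of_injective f hf (hr q hq) ⊤ (haveI := hBe.1; inferInstance) fun b _ => Subtype.ext (hBe.2 b b.2)
    rwa [Subgroup.card_top] at h
  obtain ⟨j, hj⟩ := (hRp.to_subgroup B).exists_card_eq
  rcases Nat.lt_or_ge j 2 with hlt | hge
  · -- a maximal subgroup of order at most `q`
    exfalso
    refine hrR fun A hA hAe => ?_
    have hZ : ∀ z : R, z ∈ Subgroup.center R → z ^ q = 1 → z ∈ B := by
      intro z hz hzq
      have hel : IsElementaryAbelian q (B ⊔ Subgroup.zpowers z) := by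
        haveI : (Subgroup.zpowers z).Normal := ⟨fun y hy g => by
          rw [Subgroup.mem_center_iff.1 ((Subgroup.zpowers_le.2 hz) hy) g, mul_inv_cancel_right]
          exact hy⟩
        refine ⟨⟨⟨fun a b => Subtype.ext ?_⟩⟩, fun a ha => ?_⟩
        · obtain ⟨a1, ha1, a2, ha2, e1⟩ := Subgroup.mem_sup_of_normal_right.1 a.2
          obtain ⟨b1, hb1, b2, hb2, e2⟩ := Subgroup.mem_sup_of_normal_right.1 b.2
          show (a : R) * b = b * a
          rw [← e1, ← e2]
          have c1 : ∀ u ∈ Subgroup.zpowers z, ∀ w : R, Commute u w := fun u hu w =>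
            (Subgroup.mem_center_iff.1 ((Subgroup.zpowers_le.2 hz) hu) w).symm
          exact (((show Commute a1 b1 from congrArg Subtype.val (hBe.1.is_comm.comm ⟨a1, ha1⟩ ⟨b1, hb1⟩)).mul_right
            ((c1 b2 hb2 a1).symm)).mul_left ((c1 a2 ha2 (b1 * b2)))).eq
        · obtain ⟨a1, ha1, a2, ⟨i, rfl⟩, rfl⟩ := Subgroup.mem_sup_of_normal_right.1 ha
          rw [(show Commute a1 (z ^ i) from Subgroup.mem_center_iff.1 (zpow_mem hz i) a1).mul_pow, hBe.2 a1 ha1,
            ← zpow_natCast (z ^ i), ← zpow_mul, mul_comm, zpow_mul, zpow_natCast, hzq, one_zpow, one_mul]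
      exact (hBmax' _ hel le_sup_left).le (Subgroup.mem_sup_right (Subgroup.mem_zpowers z))
    by_cases hA1 : A = ⊥
    · rw [hA1, Subgroup.card_bot]; exact Nat.one_le_pow _ _ hq.pos
    haveI : Nontrivial R := by
      obtain ⟨a, ha, hane⟩ := (Subgroup.bot_or_exists_ne_one A).resolve_left hA1
      exact ⟨a, 1, hane⟩
    haveI : Nontrivial (Subgroup.center R) := hRp.center_nontrivial
    obtain ⟨i, hi⟩ := (hRp.to_subgroup (Subgroup.center R)).exists_card_eq
    have hi0 : i ≠ 0 := fun e => by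
      rw [e, pow_zero] at hi
      exact (Finite.one_lt_card_iff_nontrivial.2 ‹_›).ne' hi
    obtain ⟨z, hz⟩ := exists_prime_orderOf_dvd_card' (G := Subgroup.center R) q (hi ▸ dvd_pow_self q hi0)
    have hzq : orderOf (z : R) = q := by rw [Subgroup.orderOf_coe, hz]
    have hBz : B = Subgroup.zpowers (z : R) := by
      refine (Subgroup.eq_of_le_of_card_ge (Subgroup.zpowers_le.2 (hZ _ z.2 (hzq ▸ pow_orderOf_eq_one _))) ?_).symm
      rw [hj, Nat.card_zpowers, hzq]
      exact (Nat.pow_le_pow_right hq.pos (by omega : j ≤ 1)).trans (pow_one q).le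
    have hBcen : ∀ b ∈ B, b ∈ Subgroup.center R := fun b hb => (Subgroup.zpowers_le.2 z.2) (hBz ▸ hb)
    have hAB : A ≤ B := by
      intro a ha
      haveI := hA
      haveI := hBe.1
      have hel : IsElementaryAbelian q (B ⊔ A) := by
        haveI : B.Normal := ⟨fun y hy g => by
          rw [Subgroup.mem_center_iff.1 (hBcen y hy) g, mul_inv_cancel_right]
          exact hy⟩
        refine ⟨⟨⟨fun x y => Subtype.ext ?_⟩⟩, fun x hx => ?_⟩
        · obtain ⟨a1, ha1, a2, ha2, e1⟩ := Subgroup.mem_sup_of_normal_left.1 x.2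
          obtain ⟨b1, hb1, b2, hb2, e2⟩ := Subgroup.mem_sup_of_normal_left.1 y.2
          show (x : R) * y = y * x
          rw [← e1, ← e2]
          have c1 : ∀ u ∈ B, ∀ w : R, Commute u w := fun u hu w => (Subgroup.mem_center_iff.1 (hBcen u hu) w).symm
          exact ((c1 a1 ha1 (b1 * b2)).mul_left ((c1 b1 hb1 a2).symm.mul_right
            (show Commute a2 b2 from congrArg Subtype.val (hA.is_comm.comm ⟨a2, ha2⟩ ⟨b2, hb2⟩)))).eq
        · obtain ⟨a1, ha1, a2, ha2, rfl⟩ := Subgroup.mem_sup_of_normal_left.1 hx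
          rw [(show Commute a1 a2 from (Subgroup.mem_center_iff.1 (hBcen a1 ha1) a2).symm).mul_pow, hBe.2 a1 ha1,
            hAe a2 ha2, one_mul]
      exact (hBmax' _ hel le_sup_left).le (Subgroup.mem_sup_right ha)
    exact (Subgroup.card_le_of_le hAB).trans hBle
  · have hB2 : Nat.card B = q ^ 2 := le_antisymm hBle (hj ▸ Nat.pow_le_pow_right hq.pos hge)
    exact (NarrowBasic.structure_maximal hq2 hRp hrR B hBe hB2 hBmax' _ rfl _ rfl).2

/-- Characteristic subgroups of a Sylow subgroup inside its derived subgroup. -/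
theorem char_normal [Group.IsSolvable G] (hD : commutator G ≤ fittingSubgroup G) {q : ℕ} [Fact q.Prime]
    (S : Sylow q G) (T : Subgroup ↥(S : Subgroup G)) (hT : T.Characteristic)
    (hTS : T.map (S : Subgroup G).subtype ≤ ⁅(S : Subgroup G), (S : Subgroup G)⁆) :
    (T.map (S : Subgroup G).subtype).Normal := by
  haveI := fittingSubgroup_normal (G := G)
  obtain ⟨U, hU⟩ : ∃ U, U = T.map (S : Subgroup G).subtype := ⟨_, rfl⟩
  rw [← hU] at hTS ⊢
  have hUS : U ≤ (S : Subgroup G) := hU ▸ Subgroup.map_subtype_le _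
  have hUF : U ≤ pCore q G := pgroup_le_pCore_of_le_fitting (S.isPGroup'.to_le hUS)
    (hTS.trans ((Subgroup.commutator_mono le_top le_top).trans ((commutator_def G).ge.trans hD)))
  have hF : fittingSubgroup G ≤ Subgroup.normalizer (U : Set G) := by
    rw [fitting_eq_iSup_pCore]
    refine iSup_le fun r => ?_
    haveI := Fact.mk r.2
    by_cases hrq : (r : ℕ) = q
    · intro x hx
      have hxS : x ∈ (S : Subgroup G) := Fusion.pCore_le_sylow S (hrq ▸ hx)
      rw [hU]
      haveI : T.Normal := inferInstance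
      exact Subgroup.le_normalizer_map (S : Subgroup G).subtype
        ⟨⟨x, hxS⟩, by rw [Subgroup.normalizer_eq_top]; trivial, rfl⟩
    · refine le_trans (fun x hx => ?_) (Subgroup.centralizer_le_normalizer (U : Set G))
      refine Subgroup.mem_centralizer_iff.2 fun u hu => ?_
      haveI := Cfsg.pCore_normal q G
      haveI := Cfsg.pCore_normal (r : ℕ) G
      exact Subgroup.commute_of_normal_of_disjoint _ _ inferInstance inferInstance
        (IsPGroup.disjoint_of_ne q (r : ℕ) (Ne.symm hrq) _ _ (Fusion.isPGroup_pCore q G) (Fusion.isPGroup_pCore (r : ℕ) G)) u x (hUF hu) hx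
  have hS : (S : Subgroup G) ≤ Subgroup.normalizer (U : Set G) := fun x hx => by
    rw [hU]
    haveI : T.Normal := inferInstance
    exact Subgroup.le_normalizer_map (S : Subgroup G).subtype
      ⟨⟨x, hx⟩, by rw [Subgroup.normalizer_eq_top]; trivial, rfl⟩
  obtain ⟨M, hM⟩ : ∃ M, M = fittingSubgroup G ⊔ (S : Subgroup G) := ⟨_, rfl⟩
  haveI hMn : M.Normal := ⟨fun x hx g => by
    have h1 : ⁅g, x⁆ ∈ M := hM ▸ Subgroup.mem_sup_left (hD (commutator_def G ▸
      Subgroup.commutator_mem_commutator (Subgroup.mem_top g) (Subgroup.mem_top x)))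
    rw [show g * x * g⁻¹ = ⁅g, x⁆ * x by rw [commutatorElement_def]; group]
    exact mul_mem h1 hx⟩
  have hfr := Sylow.normalizer_sup_eq_top (S.subtype (hM ▸ le_sup_right : (S : Subgroup G) ≤ M))
  rw [Sylow.coe_subtype, Subgroup.map_subgroupOf_eq_of_le (hM ▸ le_sup_right : (S : Subgroup G) ≤ M)] at hfr
  refine Subgroup.normalizer_eq_top_iff.1 (top_le_iff.1 ?_)
  rw [← hfr]
  refine sup_le (fun g hg => Subgroup.mem_normalizer_iff_map_conj_eq.2 ?_) (hM ▸ sup_le hF hS)
  have hφ : ∀ x : G, x ∈ (S : Subgroup G) ↔ g * x * g⁻¹ ∈ (S : Subgroup G) := Subgroup.mem_normalizer_iff.1 hg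
  let e : ↥(S : Subgroup G) ≃* ↥(S : Subgroup G) :=
    { toFun := fun x => ⟨g * x * g⁻¹, (hφ x).1 x.2⟩
      invFun := fun x => ⟨g⁻¹ * x * g, (hφ _).2 (by rw [show g * (g⁻¹ * (x : G) * g) * g⁻¹ = x by group]; exact x.2)⟩
      left_inv := fun x => Subtype.ext (by simp [mul_assoc])
      right_inv := fun x => Subtype.ext (by simp [mul_assoc])
      map_mul' := fun x y => Subtype.ext (by simp [mul_assoc]) }
  show U.map (MulAut.conj g).toMonoidHom = U
  rw [hU]
  conv_rhs => rw [← Subgroup.characteristic_iff_map_eq.1 hT e, Subgroup.map_map]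
  rw [Subgroup.map_map]
  congr 1

/-- The Hall subgroups for the primes above a bound. -/
theorem hall_above [Group.IsSolvable G] (hodd : Odd (Nat.card G)) (hn : ∀ q : ℕ, q.Prime → IsNarrow q ↥(pCore q G))
    (p : ℕ) : ∃ N : Subgroup G, N.Characteristic ∧ Cfsg.IsPiHall {q | q.Prime ∧ p < q} N := by
  classical
  have hD := commutator_le_fitting hodd hn
  obtain ⟨m, hm⟩ : ∃ m, m = ∏ q ∈ (Nat.card G).primeFactors.filter (p < ·), q ^ (Nat.card G).factorization q := ⟨_, rfl⟩
  obtain ⟨n, hn'⟩ : ∃ n, n = ∏ q ∈ (Nat.card G).primeFactors.filter (fun q => ¬ p < q), q ^ (Nat.card G).factorization q := ⟨_, rfl⟩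
  have hmn : Nat.card G = m * n := by
    rw [hm, hn', Finset.prod_filter_mul_prod_filter_not]
    exact (Nat.prod_factorization_pow_eq_self Nat.card_pos.ne').symm
  have hmp : ∀ q : ℕ, q.Prime → q ∣ m → p < q := fun q hq hqd => by
    rw [hm] at hqd
    obtain ⟨r, hr, hr'⟩ := (Prime.dvd_finset_prod_iff hq.prime _).1 hqd
    rw [Finset.mem_filter] at hr
    rw [(Nat.prime_dvd_prime_iff_eq hq (Nat.prime_of_mem_primeFactors hr.1)).1 (hq.dvd_of_dvd_pow hr')]
    exact hr.2
  have hnp : ∀ q : ℕ, q.Prime → q ∣ n → ¬ p < q := fun q hq hqd => by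
    rw [hn'] at hqd
    obtain ⟨r, hr, hr'⟩ := (Prime.dvd_finset_prod_iff hq.prime _).1 hqd
    rw [Finset.mem_filter] at hr
    rw [(Nat.prime_dvd_prime_iff_eq hq (Nat.prime_of_mem_primeFactors hr.1)).1 (hq.dvd_of_dvd_pow hr')]
    exact hr.2
  have hco : m.Coprime n := Nat.coprime_of_dvd fun q hq h1 h2 => hnp q hq h2 (hmp q hq h1)
  obtain ⟨H, hH⟩ := hall_exists (inferInstance : Group.IsSolvable G) hmn hco
  have hidx : H.index = n := Nat.eq_of_mul_eq_mul_left (Nat.card_pos (α := H)) (by rw [H.card_mul_index, hmn, hH])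
  haveI := fittingSubgroup_normal (G := G)
  have hFH : fittingSubgroup G ≤ Subgroup.normalizer (H : Set G) := by
    rw [fitting_eq_iSup_pCore]
    refine iSup_le fun r => ?_
    haveI := Fact.mk r.2
    haveI := Cfsg.pCore_normal (r : ℕ) G
    by_cases hrp : p < (r : ℕ)
    · refine le_trans ?_ Subgroup.le_normalizer
      refine normal_le_of_coprime_index _ _ ?_
      obtain ⟨j, hj⟩ := (Fusion.isPGroup_pCore (r : ℕ) G).exists_card_eq
      rw [hj, hidx]
      exact (r.2.coprime_iff_not_dvd.2 fun h => hnp r r.2 h hrp).pow_left j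
    · refine le_trans (fun x hx => ?_) (Subgroup.centralizer_le_normalizer (H : Set G))
      refine Subgroup.mem_centralizer_iff.2 fun h hh => ?_
      suffices e : (Subgroup.centralizer ({x} : Set G)).subgroupOf H = ⊤ by
        exact Subgroup.mem_centralizer_singleton_iff.1
          (Subgroup.mem_subgroupOf.1 (e ▸ Subgroup.mem_top (⟨h, hh⟩ : H)))
      refine eq_top_of_forall_sylow_le _ fun s hs => ?_
      obtain ⟨Q⟩ : Nonempty (Sylow s H) := inferInstance
      refine ⟨Q, fun y hy => ?_⟩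
      obtain ⟨k, hk⟩ := Q.isPGroup' ⟨y, hy⟩
      rw [Subgroup.mem_subgroupOf, Subgroup.mem_centralizer_singleton_iff]
      by_cases hy1 : (y : G) = 1
      · rw [hy1, one_mul, mul_one]
      have hk' : (y : G) ^ s ^ k = 1 := by
        have := congrArg (fun z : (Q : Subgroup H) => (((z : H) : G))) hk; simpa using this
      have hsd : s ∣ m := by
        obtain ⟨i, -, hi⟩ := (Nat.dvd_prime_pow hs.out).1 (orderOf_dvd_of_pow_eq_one hk')
        rcases Nat.eq_zero_or_pos i with rfl | hi0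
        · exact absurd (orderOf_eq_one_iff.1 (by rw [hi, pow_zero])) hy1
        · rw [← hH]
          exact (hi ▸ dvd_pow_self s hi0.ne').trans ((Subgroup.orderOf_coe y).symm ▸ orderOf_dvd_natCard y)
      have hc := (core_action hodd (hn r r.2)).2 s hs.out (by have := hmp s hs.out hsd; omega) (y : G) ⟨k, hk'⟩
      exact (Subgroup.mem_centralizer_iff.1 hc x hx).symm
  obtain ⟨M, hM⟩ : ∃ M, M = fittingSubgroup G ⊔ H := ⟨_, rfl⟩
  haveI hMn : M.Normal := ⟨fun x hx g => by
    have h1 : ⁅g, x⁆ ∈ M := hM ▸ Subgroup.mem_sup_left (hD (commutator_def G ▸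
      Subgroup.commutator_mem_commutator (Subgroup.mem_top g) (Subgroup.mem_top x)))
    rw [show g * x * g⁻¹ = ⁅g, x⁆ * x by rw [commutatorElement_def]; group]
    exact mul_mem h1 hx⟩
  have hHM : H ≤ M := hM ▸ le_sup_right
  haveI hHMn : (H.subgroupOf M).Normal :=
    (Subgroup.normal_subgroupOf_iff_le_normalizer hHM).2 (hM ▸ sup_le hFH Subgroup.le_normalizer)
  haveI hHn : H.Normal := ⟨fun x hx g => by
    obtain ⟨H', hH'⟩ : ∃ H', H' = H.map (MulAut.conj g).toMonoidHom := ⟨_, rfl⟩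
    have hH'M : H' ≤ M := by
      rw [hH']
      rintro _ ⟨y, hy, rfl⟩
      exact hMn.conj_mem y (hHM hy) g
    have hle : H'.subgroupOf M ≤ H.subgroupOf M := by
      refine le_of_coprime_index _ _ ?_
      rw [card_subgroupOf hH'M, hH', Subgroup.card_map_of_injective (MulAut.conj g).injective, hH]
      refine hco.coprime_dvd_right (hidx ▸ ?_)
      exact Subgroup.relIndex_dvd_index_of_le hHM
    have hmem : g * x * g⁻¹ ∈ H' := by rw [hH']; exact ⟨x, hx, rfl⟩
    exact hle (show (⟨g * x * g⁻¹, hH'M hmem⟩ : M) ∈ H'.subgroupOf M from Subgroup.mem_subgroupOf.2 hmem)⟩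
  refine ⟨H, Subgroup.characteristic_iff_map_le.2 fun e => ?_, fun q hq hqd => ⟨hq, hmp q hq (hH ▸ hqd)⟩,
    fun q hq hqπ hqd => hnp q hq (hidx ▸ hqd) hqπ.2⟩
  refine le_of_coprime_index _ _ ?_
  rw [Subgroup.card_map_of_injective e.injective, hH, hidx]
  exact hco

end Cfsg.Agent.Solv.RankTwo
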