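import Cfsg.Agent.Lib.Solv.Basic
import Mathlib.GroupTheory.SchurZassenhaus
import Mathlib.GroupTheory.Sylow

/-!
A Sylow subgroup centralized by all elements of prime power order prime to `p`.
-/

set_option autoImplicit false

open scoped Pointwise

namespace Cfsg.Agent.Solv

universe u

variable {G : Type u} [Group G]

theorem le_of_forall_isPGroup [Finite G] {K L : Subgroup G}
    (h : ∀ q : ℕ, q.Prime → ∀ Q : Subgroup G, Q ≤ K → IsPGroup q Q → Q ≤ L) : K ≤ L := by
  have hd : Nat.card K ∣ Nat.card (L ⊓ K : Subgroup G) := by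
    rw [Nat.dvd_iff_prime_pow_dvd_dvd]
    intro q k hq hk
    have := Fact.mk hq
    obtain ⟨Q, hQ⟩ := Sylow.exists_subgroup_card_pow_prime q (G := K) hk
    have hle : Q.map K.subtype ≤ L ⊓ K := le_inf
      (h q hq _ (Subgroup.map_subtype_le Q) (IsPGroup.of_card (by rw [card_map_subtype, hQ])))
      (Subgroup.map_subtype_le Q)
    rw [← hQ, ← card_map_subtype Q]
    exact Subgroup.card_dvd_of_le hle
  exact (Subgroup.eq_of_le_of_card_ge inf_le_right (Nat.le_of_dvd Nat.card_pos hd)).ge.trans inf_le_left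

theorem exists_direct_factor [Finite G] {p : ℕ} [Fact p.Prime] (P : Sylow p G)
    (h : ∀ q : ℕ, q.Prime → q ≠ p → ∀ Q : Subgroup G, IsPGroup q Q →
      Q ≤ Subgroup.centralizer ((P : Subgroup G) : Set G)) :
    (P : Subgroup G).Normal ∧ ∃ K : Subgroup G, K.Normal ∧ (P : Subgroup G) ⊓ K = ⊥ ∧
      (P : Subgroup G) ⊔ K = ⊤ ∧ K ≤ Subgroup.centralizer ((P : Subgroup G) : Set G) := by
  have hp : p.Prime := Fact.out
  have hNtop : Subgroup.normalizer ((P : Subgroup G) : Set G) = ⊤ := by
    rw [← Subgroup.index_eq_one, Nat.eq_one_iff_not_exists_prime_dvd]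
    intro q hq hd
    by_cases hqp : q = p
    · subst hqp
      exact P.not_dvd_index (hd.trans (Subgroup.index_dvd_of_le Subgroup.le_normalizer))
    · have := Fact.mk hq
      obtain ⟨Q⟩ : Nonempty (Sylow q G) := inferInstance
      exact Q.not_dvd_index (hd.trans (Subgroup.index_dvd_of_le
        ((h q hq hqp Q Q.isPGroup').trans (Subgroup.centralizer_le_normalizer _))))
  have hn : (P : Subgroup G).Normal := Subgroup.normalizer_eq_top_iff.1 hNtop
  refine ⟨hn, ?_⟩
  obtain ⟨K, hK⟩ := Subgroup.exists_right_complement'_of_coprime P.card_coprime_index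
  have hKc : K ≤ Subgroup.centralizer ((P : Subgroup G) : Set G) := by
    refine le_of_forall_isPGroup fun q hq Q hQK hQ => ?_
    by_cases hqp : q = p
    · subst hqp
      have := Fact.mk hq
      obtain ⟨k, hk⟩ := IsPGroup.iff_card.1 hQ
      rcases eq_or_ne k 0 with rfl | hk0
      · rw [pow_zero] at hk; rw [Subgroup.card_eq_one.1 hk]; exact bot_le
      · exfalso
        refine P.not_dvd_index ?_
        rw [hK.symm.index_eq_card]
        exact (dvd_pow_self q hk0).trans (hk ▸ Subgroup.card_dvd_of_le hQK)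
    · exact h q hq hqp Q hQ
  refine ⟨K, ?_, hK.disjoint.eq_bot, hK.sup_eq_top, hKc⟩
  rw [← Subgroup.normalizer_eq_top_iff, eq_top_iff, ← hK.sup_eq_top]
  refine sup_le (fun x hx => mem_normalizer_of_conj_smul (Subgroup.eq_of_le_of_card_ge ?_
    (by rw [card_conj_smul]))) Subgroup.le_normalizer
  rw [conj_smul_eq_map]
  rintro _ ⟨k, hk, rfl⟩
  show x * k * x⁻¹ ∈ K
  rw [Subgroup.mem_centralizer_iff.1 (hKc hk) x hx, mul_inv_cancel_right]
  exact hk

end Cfsg.Agent.Solv
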