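import Mathlib

/-!
Actions of the alternating group of degree seven on sixteen vectors.
-/

set_option autoImplicit false

namespace Cfsg.Agent.Solv.ASevenLinear

open MulAction
open scoped Pointwise

abbrev A7 := ↥(alternatingGroup (Fin 7))
abbrev S7 := Equiv.Perm (Fin 7)

theorem sign_a : Equiv.Perm.sign (Equiv.swap (1 : Fin 7) 4 * Equiv.swap 2 3) = 1 := by decide +kernel

theorem sign_b : Equiv.Perm.sign (Equiv.swap (0 : Fin 7) 1 * Equiv.swap 2 4) = 1 := by decide +kernel

/-- First involution. -/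
def ta : A7 := ⟨Equiv.swap 1 4 * Equiv.swap 2 3, sign_a⟩
/-- Second involution. -/
def tb : A7 := ⟨Equiv.swap 0 1 * Equiv.swap 2 4, sign_b⟩

theorem ta_sq : ta * ta = 1 ∧ ta ≠ 1 ∧ tb * tb = 1 ∧ tb ≠ 1 := by decide +kernel

theorem orderOf_prod : orderOf (ta * tb) = 5 :=
  haveI : Fact (Nat.Prime 5) := ⟨by norm_num⟩
  orderOf_eq_prime (by decide +kernel) (by decide +kernel)

theorem inv_count : (Finset.univ.filter fun g : A7 => g * g = 1 ∧ g ≠ 1).card ≤ 105 := by
  have h : (Finset.univ.filter fun g : S7 => g * g = 1 ∧ g ≠ 1 ∧ Equiv.Perm.sign g = 1).card ≤ 105 := by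
    decide +kernel
  refine le_trans (Finset.card_le_card_of_injOn (fun g => (g : S7)) ?_ Subtype.val_injective.injOn) h
  intro g hg
  simp only [Finset.coe_filter, Finset.mem_univ, true_and, Set.mem_setOf_eq] at hg ⊢
  exact ⟨congrArg Subtype.val hg.1, fun e => hg.2 (Subtype.ext e), g.2⟩

/-- The representative of the involutions. -/
def t0 : S7 := Equiv.swap 0 1 * Equiv.swap 2 3

theorem t0_spec : Equiv.Perm.cycleType t0 = {2, 2} ∧ Equiv.swap (0 : Fin 7) 1 * t0 = t0 * Equiv.swap 0 1 := by
  decide +kernel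

theorem cycleType_inv {g : A7} (hg : g * g = 1) (hne : g ≠ 1) : Equiv.Perm.cycleType (g : S7) = {2, 2} := by
  have ho : orderOf (g : S7) = 2 := by
    refine orderOf_eq_prime ?_ fun e => hne (Subtype.ext e)
    rw [pow_two]
    exact congrArg Subtype.val hg
  obtain ⟨n, hn⟩ := Equiv.Perm.cycleType_prime_order (by rw [ho]; exact Nat.prime_two)
  rw [ho] at hn
  have hs := Equiv.Perm.sum_cycleType_le (g : S7)
  rw [hn, Multiset.sum_replicate, Fintype.card_fin, smul_eq_mul] at hs
  have hsign : Equiv.Perm.sign (g : S7) = 1 := g.2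
  rw [Equiv.Perm.sign_of_cycleType, hn, Multiset.sum_replicate, Multiset.card_replicate, smul_eq_mul] at hsign
  obtain rfl : n = 1 := by
    have h3 : n ≤ 2 := by omega
    interval_cases n
    · norm_num at hsign
    · rfl
    · norm_num at hsign
  rw [hn]
  rfl

theorem conj_rep {g : A7} (hg : g * g = 1) (hne : g ≠ 1) : ∃ c : A7, (c : S7) * t0 * (c : S7)⁻¹ = g := by
  obtain ⟨π, hπ⟩ := isConj_iff.1 (Equiv.Perm.isConj_iff_cycleType_eq.2
    ((t0_spec.1).trans (cycleType_inv hg hne).symm))
  rcases Int.units_eq_one_or (Equiv.Perm.sign π) with h | h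
  · exact ⟨⟨π, h⟩, hπ⟩
  · refine ⟨⟨π * Equiv.swap 0 1, ?_⟩, ?_⟩
    · rw [Equiv.Perm.mem_alternatingGroup, map_mul, h, Equiv.Perm.sign_swap (by decide)]
      decide
    · rw [← hπ]
      show π * Equiv.swap 0 1 * t0 * (π * Equiv.swap 0 1)⁻¹ = π * t0 * π⁻¹
      rw [mul_assoc π, t0_spec.2, mul_inv_rev]
      group

theorem conj_inv {g h : A7} (hg : g * g = 1) (hne : g ≠ 1) (hh : h * h = 1) (hne' : h ≠ 1) :
    ∃ c : A7, c * g * c⁻¹ = h := by
  obtain ⟨c, hc⟩ := conj_rep hg hne
  obtain ⟨d, hd⟩ := conj_rep hh hne'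
  refine ⟨d * c⁻¹, Subtype.ext ?_⟩
  push_cast
  rw [← hc, ← hd]
  group

/-- A Sylow 2-subgroup element list. -/
def p0List : List S7 :=
  let a : S7 := Equiv.swap 0 1 * Equiv.swap 1 2 * Equiv.swap 2 3 * Equiv.swap 4 5
  let b : S7 := Equiv.swap 0 2 * Equiv.swap 4 5
  [1, a, a * a, a * a * a, b, a * b, a * a * b, a * a * a * b]

set_option maxRecDepth 100000 in
theorem p0_closed : (∀ x ∈ p0List, ∀ y ∈ p0List, x * y ∈ p0List) ∧ (∀ x ∈ p0List, x⁻¹ ∈ p0List) ∧
    (1 : S7) ∈ p0List ∧ (∀ x ∈ p0List, Equiv.Perm.sign x = 1) ∧ p0List.Nodup ∧ p0List.length = 8 ∧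
    5 ≤ (p0List.filter fun x => decide (x * x = 1 ∧ x ≠ 1)).length :=
  ⟨by decide +kernel, by decide +kernel, by decide +kernel, by decide +kernel, by decide +kernel,
    by decide +kernel, by decide +kernel⟩

/-- A subgroup of order eight. -/
def P0 : Subgroup A7 where
  carrier := {g | (g : S7) ∈ p0List}
  mul_mem' := fun {a b} ha hb => p0_closed.1 _ ha _ hb
  one_mem' := p0_closed.2.2.1
  inv_mem' := fun {a} ha => p0_closed.2.1 _ ha

theorem card_A7 : Nat.card A7 = 2520 := by
  rw [nat_card_alternatingGroup, Nat.card_fin]; rfl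

theorem card_P0 : Nat.card ↥P0 = 8 := by
  let e : ↥P0 ≃ {x : S7 // x ∈ p0List.toFinset} :=
    { toFun := fun g => ⟨((g : A7) : S7), List.mem_toFinset.2 g.2⟩
      invFun := fun x => ⟨⟨x.1, p0_closed.2.2.2.1 _ (List.mem_toFinset.1 x.2)⟩, List.mem_toFinset.1 x.2⟩
      left_inv := fun g => rfl
      right_inv := fun x => rfl }
  rw [Nat.card_congr e, Nat.card_eq_finsetCard, List.toFinset_card_of_nodup p0_closed.2.2.2.2.1,
    p0_closed.2.2.2.2.2.1]

open scoped Classical in
/-- A subgroup whose order is divisible by eight contains five involutions. -/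
theorem five_inv (L : Subgroup A7) (hL : 8 ∣ Nat.card ↥L) :
    5 ≤ (Finset.univ.filter fun g : A7 => g ∈ L ∧ g * g = 1 ∧ g ≠ 1).card := by
  haveI : Fact (Nat.Prime 2) := ⟨Nat.prime_two⟩
  have h2520 : (2520 : ℕ).factorization 2 = 3 := by
    rw [Nat.factorization_def _ Nat.prime_two]
    rw [show (2520 : ℕ) = 2 ^ 3 * 315 by norm_num, padicValNat.mul (by norm_num) (by norm_num),
      padicValNat.prime_pow, padicValNat.eq_zero_of_not_dvd (by norm_num)]
  let Q0 : Sylow 2 A7 := Sylow.ofCard P0 (by rw [card_A7, h2520, card_P0]; rfl)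
  obtain ⟨K, hK⟩ := Sylow.exists_subgroup_card_pow_prime 2 (n := 3) (G := ↥L) hL
  let P : Subgroup A7 := K.map L.subtype
  have hPc : Nat.card ↥P = 8 := by rw [Subgroup.card_map_of_injective L.subtype_injective, hK]; rfl
  let Q : Sylow 2 A7 := Sylow.ofCard P (by rw [card_A7, h2520, hPc]; rfl)
  obtain ⟨c, hc⟩ := MulAction.exists_smul_eq A7 Q0 Q
  have hmem : ∀ x : A7, x ∈ P0 → c * x * c⁻¹ ∈ L := by
    intro x hx
    have h1 : c * x * c⁻¹ ∈ (Q : Subgroup A7) := by
      rw [← hc]
      show c * x * c⁻¹ ∈ MulAut.conj c • P0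
      exact Subgroup.smul_mem_pointwise_smul x (MulAut.conj c) P0 hx
    obtain ⟨k, -, hk⟩ := (h1 : c * x * c⁻¹ ∈ P)
    rw [← hk]
    exact k.2
  have h5 : 5 ≤ (Finset.univ.filter fun g : A7 => g ∈ P0 ∧ g * g = 1 ∧ g ≠ 1).card := by
    refine p0_closed.2.2.2.2.2.2.trans ?_
    rw [← List.toFinset_card_of_nodup (p0_closed.2.2.2.2.1.filter _)]
    refine Finset.card_le_card_of_surjOn (fun g : A7 => (g : S7)) ?_
    intro x hx
    simp only [Finset.mem_coe, List.mem_toFinset, List.mem_filter, decide_eq_true_eq] at hx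
    refine ⟨⟨x, p0_closed.2.2.2.1 _ hx.1⟩, ?_, rfl⟩
    simp only [Finset.coe_filter, Finset.mem_univ, true_and, Set.mem_setOf_eq]
    exact ⟨hx.1, Subtype.ext hx.2.1, fun e => hx.2.2 (congrArg Subtype.val e)⟩
  refine h5.trans (Finset.card_le_card_of_injOn (fun g => c * g * c⁻¹) ?_ ?_)
  · intro x hx
    simp only [Finset.coe_filter, Finset.mem_univ, true_and, Set.mem_setOf_eq] at hx ⊢
    refine ⟨hmem x hx.1, ?_, fun e => hx.2.2 (conj_eq_one_iff.1 e)⟩
    rw [show c * x * c⁻¹ * (c * x * c⁻¹) = c * (x * x) * c⁻¹ by group, hx.2.1]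
    group
  · intro x _ y _ h
    exact mul_left_cancel (mul_right_cancel h)

open scoped Classical

set_option linter.unusedSectionVars false

variable {V : Type*} [AddCommGroup V] [Fintype V] [DistribMulAction A7 V] [FaithfulSMul A7 V]

/-- Fixed vectors. -/
def fixed (g : A7) : AddSubgroup V where
  carrier := {v | g • v = v}
  add_mem' := fun {a b} ha hb => show g • (a + b) = a + b by rw [smul_add]; exact congrArg₂ (· + ·) ha hb
  zero_mem' := smul_zero g
  neg_mem' := fun {a} ha => show g • (-a) = -a by rw [smul_neg]; exact congrArg Neg.neg ha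

theorem mem_fixed {g : A7} {v : V} : v ∈ fixed g ↔ g • v = v := Iff.rfl

theorem fixed_ne_top {g : A7} (hg : g ≠ 1) : fixed (V := V) g ≠ ⊤ := fun e =>
  hg (eq_of_smul_eq_smul (α := V) fun v => by
    rw [one_smul]; exact mem_fixed.1 ((AddSubgroup.eq_top_iff' _).1 e v))

theorem card_fixed_values (hV : Nat.card V = 16) {g : A7} (hg : g ≠ 1) :
    Nat.card ↥(fixed (V := V) g) ∈ ({1, 2, 4, 8} : Finset ℕ) := by
  have h : Nat.card ↥(fixed (V := V) g) ∈ Nat.divisors 16 :=
    Nat.mem_divisors.2 ⟨hV ▸ AddSubgroup.card_addSubgroup_dvd_card _, by norm_num⟩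
  have hne : Nat.card ↥(fixed (V := V) g) ≠ 16 := fun e =>
    fixed_ne_top hg (AddSubgroup.eq_top_of_card_eq _ (e.trans hV.symm))
  rw [show Nat.divisors 16 = {1, 2, 4, 8, 16} by decide +kernel] at h
  simp only [Finset.mem_insert, Finset.mem_singleton] at h ⊢
  tauto

theorem card_fixed_modEq (hV : Nat.card V = 16) {p : ℕ} [hp : Fact p.Prime] {g : A7} (hg : orderOf g = p) :
    16 ≡ Nat.card ↥(fixed (V := V) g) [MOD p] := by
  have hpg : IsPGroup p ↥(Subgroup.zpowers g) :=
    IsPGroup.of_card (n := 1) (by rw [Nat.card_zpowers, hg, pow_one])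
  have h := hpg.card_modEq_card_fixedPoints V
  rw [hV] at h
  have e : MulAction.fixedPoints ↥(Subgroup.zpowers g) V = (fixed (V := V) g : Set V) := by
    ext x
    constructor
    · intro hx
      exact hx ⟨g, Subgroup.mem_zpowers g⟩
    · rintro hx ⟨k, hk⟩
      obtain ⟨i, rfl⟩ := hk
      show g ^ i • x = x
      exact (Subgroup.zpow_mem (stabilizer A7 x) (hx : g • x = x) i)
  rw [e] at h
  exact h

theorem five_fpf (hV : Nat.card V = 16) {g : A7} (hg : orderOf g = 5) : Nat.card ↥(fixed (V := V) g) ≤ 1 := by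
  haveI : Fact (Nat.Prime 5) := ⟨by norm_num⟩
  have h := card_fixed_modEq hV hg
  have hm := card_fixed_values (V := V) hV (g := g) fun e => by rw [e, orderOf_one] at hg; norm_num at hg
  simp only [Finset.mem_insert, Finset.mem_singleton] at hm
  rcases hm with e | e | e | e <;> rw [e] at h <;> first | omega | norm_num [Nat.ModEq] at h

theorem seven_fix (hV : Nat.card V = 16) {g : A7} (hg : orderOf g = 7) : Nat.card ↥(fixed (V := V) g) ≤ 2 := by
  haveI : Fact (Nat.Prime 7) := ⟨by norm_num⟩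
  have h := card_fixed_modEq hV hg
  have hm := card_fixed_values (V := V) hV (g := g) fun e => by rw [e, orderOf_one] at hg; norm_num at hg
  simp only [Finset.mem_insert, Finset.mem_singleton] at hm
  rcases hm with e | e | e | e <;> rw [e] at h <;> first | omega | norm_num [Nat.ModEq] at h

theorem inv_fixed (hV : Nat.card V = 16) (h2 : ∀ x : V, x + x = 0) {t : A7} (ht : t * t = 1) (hne : t ≠ 1) :
    Nat.card ↥(fixed (V := V) t) = 4 := by
  have hge : ∀ s : A7, s * s = 1 → 4 ≤ Nat.card ↥(fixed (V := V) s) := by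
    intro s hs
    let D : V →+ V := { toFun := fun x => s • x + x, map_zero' := by simp,
                        map_add' := fun x y => by rw [smul_add]; abel }
    have hker : ∀ x, x ∈ D.ker ↔ x ∈ fixed s := fun x => by
      show s • x + x = 0 ↔ s • x = x
      constructor
      · intro h
        rw [eq_neg_of_add_eq_zero_left h, neg_eq_of_add_eq_zero_left (h2 x)]
      · intro h
        rw [h, h2]
    have hr : D.range ≤ D.ker := by
      rintro _ ⟨x, rfl⟩
      rw [hker, mem_fixed]
      show s • (s • x + x) = s • x + x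
      rw [smul_add, smul_smul, hs, one_smul, add_comm]
    have hm : Nat.card ↥D.ker * Nat.card ↥D.range = 16 := by
      rw [← hV, ← AddSubgroup.index_ker, AddSubgroup.card_mul_index]
    have hle := AddSubgroup.card_le_of_le hr
    have hk : Nat.card ↥D.ker = Nat.card ↥(fixed (V := V) s) :=
      Nat.card_congr (Equiv.subtypeEquivRight hker)
    rw [← hk]
    nlinarith
  have hm := card_fixed_values (V := V) hV hne
  simp only [Finset.mem_insert, Finset.mem_singleton] at hm
  have h4 := hge t ht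
  suffices Nat.card ↥(fixed (V := V) t) ≠ 8 by omega
  intro h8
  have hall : ∀ s : A7, s * s = 1 → s ≠ 1 → (fixed (V := V) s).index = 2 := by
    intro s hs hs1
    obtain ⟨c, hc⟩ := conj_inv ht hne hs hs1
    have he : Nat.card ↥(fixed (V := V) s) = 8 := by
      rw [← h8]
      refine (Nat.card_congr ((MulAction.toPerm c).subtypeEquiv fun v => ?_)).symm
      show t • v = v ↔ s • (c • v) = c • v
      rw [← hc, mul_smul, mul_smul, inv_smul_smul, smul_left_cancel_iff]
    have := AddSubgroup.card_mul_index (fixed (V := V) s)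
    rw [he, hV] at this
    omega
  have hi := AddSubgroup.index_inf_le (H := fixed (V := V) ta) (K := fixed (V := V) tb)
  rw [hall _ ta_sq.1 ta_sq.2.1, hall _ ta_sq.2.2.1 ta_sq.2.2.2] at hi
  have hm := AddSubgroup.card_mul_index (fixed (V := V) ta ⊓ fixed (V := V) tb)
  rw [hV] at hm
  have hle : Nat.card ↥(fixed (V := V) ta ⊓ fixed (V := V) tb) ≤ Nat.card ↥(fixed (V := V) (ta * tb)) := by
    refine AddSubgroup.card_le_of_le fun v hv => ?_
    show (ta * tb) • v = v
    rw [mul_smul, mem_fixed.1 hv.2, mem_fixed.1 hv.1]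
  have := five_fpf (V := V) hV orderOf_prod
  nlinarith

theorem nonzero_transitive (hV : Nat.card V = 16) {v : V} (hv : v ≠ 0) :
    (stabilizer A7 v).index = 15 := by
  rw [index_stabilizer]
  have hle : (orbit A7 v).ncard ≤ 15 := by
    refine (Set.ncard_le_ncard (t := ({0} : Set V)ᶜ) ?_).trans (le_of_eq ?_)
    · rintro _ ⟨g, rfl⟩ (e : g • v = 0)
      exact hv (by simpa using congrArg (g⁻¹ • ·) e)
    · rw [Set.ncard_compl, hV, Set.ncard_singleton]
  have h5 : 5 ∣ (orbit A7 v).ncard := by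
    rw [← index_stabilizer]
    have hm := Subgroup.card_mul_index (stabilizer A7 v)
    rw [card_A7] at hm
    rcases (Nat.Prime.dvd_mul (by norm_num : Nat.Prime 5)).1 (hm ▸ (by norm_num : 5 ∣ 2520)) with h | h
    · exfalso
      haveI : Fact (Nat.Prime 5) := ⟨by norm_num⟩
      obtain ⟨g, hg⟩ := exists_prime_orderOf_dvd_card' 5 h
      have hg' : orderOf (g : A7) = 5 := by rwa [Subgroup.orderOf_coe]
      have h1 := five_fpf (V := V) hV hg'
      have h2 : ({0, v} : Set V) ⊆ (fixed (V := V) (g : A7) : Set V) := by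
        rintro x (rfl | rfl)
        · exact smul_zero _
        · exact g.2
      have h3 := Set.ncard_le_ncard h2
      rw [Set.ncard_pair (Ne.symm hv), ← Nat.card_coe_set_eq] at h3
      exact absurd (h3.trans h1) (by norm_num)
    · exact h
  have hd : (orbit A7 v).ncard ∣ 2520 := by
    rw [← index_stabilizer, ← card_A7]; exact Subgroup.index_dvd_card _
  have hpos : 0 < (orbit A7 v).ncard := (Set.ncard_pos).2 ⟨v, mem_orbit_self v⟩
  by_contra hne
  have hsmall : (orbit A7 v).ncard ≤ 5 ∨ (orbit A7 v).ncard = 10 := by omega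
  rcases hsmall with hs | hs
  · haveI : IsSimpleGroup A7 := alternatingGroup.isSimpleGroup (by simp)
    rcases (MulAction.toPermHom A7 (orbit A7 v)).normal_ker.eq_bot_or_eq_top with e | e
    · have hd' := Subgroup.card_dvd_of_injective _ ((MonoidHom.ker_eq_bot_iff _).1 e)
      rw [card_A7, Nat.card_perm, Nat.card_coe_set_eq] at hd'
      have := hd'.trans (Nat.factorial_dvd_factorial hs)
      norm_num [Nat.factorial] at this
    · have h1 : (orbit A7 v).ncard = 1 := by
        rw [Set.ncard_eq_one]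
        refine ⟨v, Set.eq_singleton_iff_unique_mem.2 ⟨mem_orbit_self v, ?_⟩⟩
        rintro _ ⟨g, rfl⟩
        have := Equiv.Perm.ext_iff.1 (MonoidHom.mem_ker.1 ((Subgroup.eq_top_iff' _).1 e g)) ⟨v, mem_orbit_self v⟩
        exact congrArg Subtype.val this
      omega
  · -- the complementary five vectors form another orbit
    obtain ⟨w, hw, hwv⟩ : ∃ w, w ∈ ({0} : Set V)ᶜ ∧ w ∉ orbit A7 v := by
      refine Set.exists_mem_notMem_of_ncard_lt_ncard ?_
      rw [Set.ncard_compl, hV, Set.ncard_singleton, hs]; norm_num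
    have hw5 : (orbit A7 w).ncard ≤ 5 := by
      have hdis : Disjoint (orbit A7 v) (orbit A7 w) := by
        rw [Set.disjoint_left]
        intro x hx hx'
        apply hwv
        rw [← orbit_eq_iff.2 hx, orbit_eq_iff.2 hx']
        exact mem_orbit_self w
      have hsub : orbit A7 v ∪ orbit A7 w ⊆ ({0} : Set V)ᶜ := by
        rintro _ (⟨g, rfl⟩ | ⟨g, rfl⟩) (e : g • _ = 0)
        · exact hv (by simpa using congrArg (g⁻¹ • ·) e)
        · exact hw (by simpa using congrArg (g⁻¹ • ·) e)
      have := Set.ncard_le_ncard hsub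
      rw [Set.ncard_union_eq hdis, Set.ncard_compl, hV, Set.ncard_singleton, hs] at this
      omega
    haveI : IsSimpleGroup A7 := alternatingGroup.isSimpleGroup (by simp)
    rcases (MulAction.toPermHom A7 (orbit A7 w)).normal_ker.eq_bot_or_eq_top with e | e
    · have hd' := Subgroup.card_dvd_of_injective _ ((MonoidHom.ker_eq_bot_iff _).1 e)
      rw [card_A7, Nat.card_perm, Nat.card_coe_set_eq] at hd'
      have := hd'.trans (Nat.factorial_dvd_factorial hw5)
      norm_num [Nat.factorial] at this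
    · haveI : Fact (Nat.Prime 5) := ⟨by norm_num⟩
      have hfix : (ta * tb) • w = w := congrArg Subtype.val
        (Equiv.Perm.ext_iff.1 (MonoidHom.mem_ker.1 ((Subgroup.eq_top_iff' _).1 e (ta * tb))) ⟨w, mem_orbit_self w⟩)
      have h1 := five_fpf (V := V) hV orderOf_prod
      have h3 := Set.ncard_le_ncard (s := ({0, w} : Set V)) (t := (fixed (V := V) (ta * tb) : Set V))
        (by rintro x (rfl | rfl); exacts [smul_zero _, hfix])
      rw [Set.ncard_pair (Ne.symm hw), ← Nat.card_coe_set_eq] at h3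
      exact absurd (h3.trans h1) (by norm_num)

theorem two_transitive (hV : Nat.card V = 16) (h2 : ∀ x : V, x + x = 0) {v w v' w' : V}
    (hv : v ≠ 0) (hw : w ≠ 0) (hvw : v ≠ w) (hv' : v' ≠ 0) (hw' : w' ≠ 0) (hvw' : v' ≠ w') :
    ∃ g : A7, g • v = v' ∧ g • w = w' := by
  let N : Finset V := Finset.univ.filter (· ≠ 0)
  have hN : N.card = 15 := by
    rw [show N = Finset.univ.erase 0 from Finset.filter_ne' _ _, Finset.card_erase_of_mem (Finset.mem_univ _), Finset.card_univ,
      ← Nat.card_eq_fintype_card, hV]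
  let S : Finset (V × V) := N.offDiag
  have hS : S.card = 210 := by rw [Finset.offDiag_card, hN]
  have hSm : ∀ p : V × V, p ∈ S ↔ p.1 ≠ 0 ∧ p.2 ≠ 0 ∧ p.1 ≠ p.2 := fun p => by
    simp [S, N, Finset.mem_offDiag]
  suffices h : ∃ p ∈ S, ∀ q ∈ S, q ∈ orbit A7 p by
    obtain ⟨p, -, hp⟩ := h
    have h1 := hp (v, w) ((hSm _).2 ⟨hv, hw, hvw⟩)
    have h2 := hp (v', w') ((hSm _).2 ⟨hv', hw', hvw'⟩)
    rw [← orbit_eq_iff.2 h1] at h2
    obtain ⟨g, hg⟩ := h2
    exact ⟨g, congrArg Prod.fst hg, congrArg Prod.snd hg⟩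
  by_contra hcon
  push_neg at hcon
  -- every pair is fixed by at least five involutions
  let I : Finset A7 := Finset.univ.filter fun g => g * g = 1 ∧ g ≠ 1
  have hbig : ∀ p ∈ S, 5 ≤ (Finset.bipartiteAbove (fun p g => g • p = p) I p).card := by
    intro p hp
    obtain ⟨q, hq, hqp⟩ := hcon p hp
    have hsub : orbit A7 p ⊆ (S : Set (V × V)) := by
      rintro _ ⟨g, rfl⟩
      obtain ⟨a, b, c⟩ := (hSm p).1 hp
      refine (hSm _).2 ⟨fun e => a ?_, fun e => b ?_, fun e => c (smul_left_cancel g e)⟩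
      · simpa using congrArg (g⁻¹ • ·) (e : g • p.1 = 0)
      · simpa using congrArg (g⁻¹ • ·) (e : g • p.2 = 0)
    have hlt : (orbit A7 p).ncard < 210 := by
      rw [← hS, ← Set.ncard_coe_finset]
      exact Set.ncard_lt_ncard (hsub.ssubset_of_ne fun e => hqp (e ▸ hq))
    have hind : (stabilizer A7 p).index = (orbit A7 p).ncard := index_stabilizer A7 p
    have hm := Subgroup.card_mul_index (stabilizer A7 p)
    rw [card_A7] at hm
    have h15 : 15 ∣ (stabilizer A7 p).index := by
      rw [← nonzero_transitive (V := V) hV ((hSm p).1 hp).1]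
      refine Subgroup.index_dvd_of_le fun g (hg : g • p = p) => ?_
      exact congrArg Prod.fst hg
    have h7 : 7 ∣ (stabilizer A7 p).index := by
      rcases (Nat.Prime.dvd_mul (by norm_num : Nat.Prime 7)).1 (hm ▸ (by norm_num : 7 ∣ 2520)) with h | h
      · exfalso
        haveI : Fact (Nat.Prime 7) := ⟨by norm_num⟩
        obtain ⟨g, hg⟩ := exists_prime_orderOf_dvd_card' 7 h
        have hg' : orderOf (g : A7) = 7 := by rwa [Subgroup.orderOf_coe]
        have h1 := seven_fix (V := V) hV hg'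
        obtain ⟨a, b, c⟩ := (hSm p).1 hp
        have hgp : (g : A7) • p = p := g.2
        have h3 := Set.ncard_le_ncard (s := ({0, p.1, p.2} : Set V)) (t := (fixed (V := V) (g : A7) : Set V))
          (by rintro x (rfl | rfl | rfl)
              exacts [smul_zero _, congrArg Prod.fst hgp, congrArg Prod.snd hgp])
        rw [Set.ncard_eq_three.2 ⟨0, p.1, p.2, Ne.symm a, Ne.symm b, c, rfl⟩, ← Nat.card_coe_set_eq] at h3
        exact absurd (h3.trans h1) (by norm_num)
      · exact h
    have h105 : 105 ∣ (stabilizer A7 p).index := (Nat.Coprime.mul_dvd_of_dvd_of_dvd (by norm_num) h15 h7)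
    have hi : (stabilizer A7 p).index = 105 := by
      rw [hind] at h105 ⊢
      have : 0 < (orbit A7 p).ncard := (Set.ncard_pos).2 ⟨p, mem_orbit_self p⟩
      omega
    rw [hi] at hm
    refine (five_inv (stabilizer A7 p) (by rw [show Nat.card ↥(stabilizer A7 p) = 24 by omega]; norm_num)).trans
      (Finset.card_le_card fun g hg => ?_)
    simp only [Finset.mem_filter, Finset.mem_univ, true_and] at hg
    simp only [Finset.bipartiteAbove, I, Finset.mem_filter, Finset.mem_univ, true_and]
    exact ⟨hg.2, hg.1⟩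
  have hsmall : ∀ g ∈ I, (Finset.bipartiteBelow (fun p g => g • p = p) S g).card ≤ 6 := by
    intro g hg
    simp only [I, Finset.mem_filter, Finset.mem_univ, true_and] at hg
    let F : Finset V := Finset.univ.filter fun x => g • x = x ∧ x ≠ 0
    have hF : F.card ≤ 3 := by
      have h4 := inv_fixed (V := V) hV h2 hg.1 hg.2
      rw [Nat.card_eq_fintype_card, Fintype.card_subtype] at h4
      have hF' : F = (Finset.univ.filter (fun x : V => x ∈ fixed g)).erase 0 := by
        ext x
        simp [F, mem_fixed, and_comm]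
      rw [hF', Finset.card_erase_of_mem (by simp [mem_fixed]), h4]
    have hF2 : F.offDiag.card ≤ 6 := by
      rw [Finset.offDiag_card]
      interval_cases F.card <;> norm_num
    refine le_trans (Finset.card_le_card fun p hp => ?_) hF2
    simp only [Finset.bipartiteBelow, Finset.mem_filter, hSm] at hp
    simp only [F, Finset.mem_offDiag, Finset.mem_filter, Finset.mem_univ, true_and]
    exact ⟨⟨congrArg Prod.fst hp.2, hp.1.1⟩, ⟨congrArg Prod.snd hp.2, hp.1.2.1⟩, hp.1.2.2⟩
  have h := Finset.card_mul_le_card_mul (fun p g => g • p = p) hbig hsmall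
  have hI : I.card ≤ 105 := inv_count
  rw [hS] at h
  nlinarith

end Cfsg.Agent.Solv.ASevenLinear
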