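import Cfsg.Agent.Lib.Solv.PGroupPhi
import Cfsg.Agent.Lib.Solv.Cores
import Mathlib.GroupTheory.Abelianization.Finite
import Mathlib.GroupTheory.NoncommCoprod

/-!
`p`-groups whose abelianisation has order `p ^ 2` and a normal subgroup outside the derived
subgroup.
-/

set_option autoImplicit false
set_option linter.style.haveILetI false

open scoped commutatorElement

namespace Cfsg.Agent.Solv.PSq

variable {X : Type*} [Group X] [Finite X] {p : ℕ} [hp : Fact p.Prime]

omit hp in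
theorem card_mul_relIndex {H K : Subgroup X} (h : H ≤ K) :
    Nat.card H * H.relIndex K = Nat.card K := by
  rw [← Subgroup.relIndex_bot_left, ← Subgroup.relIndex_bot_left,
    Subgroup.relIndex_mul_relIndex _ _ _ bot_le h]

theorem card_le_centralizer_mul (x : X) :
    Nat.card X ≤ Nat.card (Subgroup.centralizer ({x} : Set X)) * Nat.card (commutator X) := by
  rw [← Subgroup.card_mul_index (Subgroup.centralizer ({x} : Set X)), Subgroup.index_eq_card]
  refine Nat.mul_le_mul_left _ (Nat.card_le_card_of_injective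
    (fun c => (⟨⁅c.out, x⁆, Subgroup.commutator_mem_commutator (Subgroup.mem_top _)
      (Subgroup.mem_top _)⟩ : commutator X)) ?_)
  intro c d h
  have h1 : ⁅c.out, x⁆ = ⁅d.out, x⁆ := congrArg Subtype.val h
  simp only [commutatorElement_def, mul_left_inj] at h1
  rw [← c.out_eq', ← d.out_eq', QuotientGroup.eq, Subgroup.mem_centralizer_singleton_iff]
  calc c.out⁻¹ * d.out * x = c.out⁻¹ * (d.out * x * d.out⁻¹) * d.out := by group
    _ = c.out⁻¹ * (c.out * x * c.out⁻¹) * d.out := by rw [h1]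
    _ = x * (c.out⁻¹ * d.out) := by group

theorem comm_eq_bot (h : ∀ x y : X, x * y = y * x) : commutator X = ⊥ := by
  rw [commutator_def, eq_bot_iff, Subgroup.commutator_le]
  intro x _ y _
  rw [Subgroup.mem_bot, commutatorElement_def, h x y, mul_assoc (y * x), mul_assoc y,
    ← mul_assoc x, mul_inv_cancel, one_mul, mul_inv_cancel]

theorem comm_of_zpowers_sup {N : Subgroup X} (hN : N ≤ frattini X) {a : X}
    (h : N ⊔ Subgroup.zpowers a = ⊤) (x y : X) : x * y = y * x := by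
  have ht : Subgroup.zpowers a = ⊤ := frattini_nongenerating (by
    rw [sup_comm, eq_top_iff, ← h]
    exact sup_le_sup_right hN _)
  obtain ⟨i, rfl⟩ := Subgroup.mem_zpowers_iff.1 (ht ▸ Subgroup.mem_top x)
  obtain ⟨j, rfl⟩ := Subgroup.mem_zpowers_iff.1 (ht ▸ Subgroup.mem_top y)
  rw [← zpow_add, ← zpow_add, add_comm]

theorem sup_zpowers_of_prime_index (M : Subgroup X) (hM : M.index = p) {a : X} (ha : a ∉ M) :
    M ⊔ Subgroup.zpowers a = ⊤ := by
  have h1 : (M ⊔ Subgroup.zpowers a).index ∣ p := hM ▸ Subgroup.index_dvd_of_le le_sup_left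
  rcases (Nat.dvd_prime hp.out).1 h1 with h | h
  · exact Subgroup.index_eq_one.1 h
  · refine absurd ?_ ha
    have h2 := Subgroup.relIndex_mul_index (le_sup_left : M ≤ M ⊔ Subgroup.zpowers a)
    rw [h, hM] at h2
    have h3 : M.relIndex (M ⊔ Subgroup.zpowers a) = 1 :=
      Nat.eq_of_mul_eq_mul_right hp.out.pos (h2.trans (one_mul p).symm)
    exact Subgroup.relIndex_eq_one.1 h3 (Subgroup.mem_sup_right (Subgroup.mem_zpowers a))

/-- A nonabelian `p`-group has abelianisation of order at least `p ^ 2`. -/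
theorem comm_of_index_lt (hX : IsPGroup p X) (h : (commutator X).index < p ^ 2) (x y : X) :
    x * y = y * x := by
  obtain ⟨k, hk⟩ := hX.index (commutator X)
  have hk2 : k < 2 := (Nat.pow_lt_pow_iff_right hp.out.one_lt).1 (hk ▸ h)
  have hΦ := commutator_le_frattini_pgroup hX
  obtain rfl | rfl : k = 0 ∨ k = 1 := by omega
  · refine comm_of_zpowers_sup hΦ (a := 1) ?_ x y
    rw [Subgroup.index_eq_one.1 (hk.trans (pow_zero p))]
    exact top_sup_eq _
  · have hne : commutator X ≠ ⊤ := fun ht => hp.out.one_lt.ne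
      (by rw [← pow_one p, ← hk, ht, Subgroup.index_top])
    obtain ⟨a, -, ha⟩ := SetLike.exists_of_lt hne.lt_top
    exact comm_of_zpowers_sup hΦ
      (sup_zpowers_of_prime_index _ (hk.trans (pow_one p)) ha) x y

theorem commutator_top_ne (hX : IsPGroup p X) (N : Subgroup X) (hN : N ≠ ⊥) :
    ⁅N, (⊤ : Subgroup X)⁆ ≠ N := by
  intro he
  haveI := hX.isNilpotent
  have hle : ∀ n, N ≤ (⊤ : Subgroup X).lowerCentralSeries n := by
    intro n
    induction n with
    | zero => rw [Subgroup.lowerCentralSeries_zero]; exact le_top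
    | succ d ih =>
      rw [← he]
      refine Subgroup.commutator_le.2 fun x hx y hy => ?_
      rw [Subgroup.lowerCentralSeries_succ]
      exact Subgroup.commutator_mem_commutator (ih hx) hy
  refine hN (eq_bot_iff.2 ?_)
  obtain ⟨n, hn⟩ := Subgroup.nilpotent_iff_lowerCentralSeries.1 hX.isNilpotent
  exact hn ▸ hle n

/-- The index of `[N, X]` in a nontrivial normal subgroup `N`. -/
theorem le_relIndex (hX : IsPGroup p X) (N : Subgroup X) [N.Normal] (hN : N ≠ ⊥) :
    p ≤ (⁅N, (⊤ : Subgroup X)⁆).relIndex N := by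
  obtain ⟨k, hk⟩ := (hX.to_subgroup N).index ((⁅N, (⊤ : Subgroup X)⁆).subgroupOf N)
  rw [Subgroup.relIndex, hk]
  refine Nat.le_self_pow (fun h0 => commutator_top_ne hX N hN ?_) p
  rw [h0, pow_zero, Subgroup.index_eq_one, Subgroup.subgroupOf_eq_top] at hk
  exact le_antisymm (Subgroup.commutator_le_left _ _) hk

/-- Two commuting-complementary normal pieces contribute multiplicatively. -/
theorem relIndex_two (N₁ N₂ : Subgroup X) [N₁.Normal] [N₂.Normal] (hd : N₁ ⊓ N₂ = ⊥) :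
    (⁅N₁, (⊤ : Subgroup X)⁆).relIndex N₁ * (⁅N₂, (⊤ : Subgroup X)⁆).relIndex N₂ ≤
      (⁅N₁ ⊔ N₂, (⊤ : Subgroup X)⁆).relIndex (N₁ ⊔ N₂) := by
  set D₁ := ⁅N₁, (⊤ : Subgroup X)⁆
  set D₂ := ⁅N₂, (⊤ : Subgroup X)⁆
  have hD : ⁅N₁ ⊔ N₂, (⊤ : Subgroup X)⁆ ≤ D₁ ⊔ D₂ := by
    refine Subgroup.commutator_le.2 fun x hx y hy => ?_
    obtain ⟨a, ha, b, hb, rfl⟩ := Subgroup.mem_sup_of_normal_left.1 hx
    have h1 : ⁅a * b, y⁆ = a * ⁅b, y⁆ * a⁻¹ * ⁅a, y⁆ := by
      simp only [commutatorElement_def]; group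
    rw [h1]
    exact mul_mem ((inferInstance : (D₁ ⊔ D₂).Normal).conj_mem _
      (Subgroup.mem_sup_right (Subgroup.commutator_mem_commutator hb hy)) a)
      (Subgroup.mem_sup_left (Subgroup.commutator_mem_commutator ha hy))
  have hd' : D₁ ⊓ D₂ = ⊥ := le_bot_iff.1 (hd ▸ inf_le_inf (Subgroup.commutator_le_left _ _)
    (Subgroup.commutator_le_left _ _))
  have c1 := card_sup_mul_card_inf N₁ N₂
  rw [hd, Subgroup.card_bot, mul_one] at c1
  have c2 := card_sup_mul_card_inf D₁ D₂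
  rw [hd', Subgroup.card_bot, mul_one] at c2
  refine le_trans (le_of_eq ?_) (Nat.le_of_dvd (Nat.pos_of_ne_zero
    (Subgroup.index_ne_zero_of_finite)) (Subgroup.relIndex_dvd_of_le_left _ hD))
  have e1 := card_mul_relIndex (H := D₁) (K := N₁) (Subgroup.commutator_le_left _ _)
  have e2 := card_mul_relIndex (H := D₂) (K := N₂) (Subgroup.commutator_le_left _ _)
  have e3 := card_mul_relIndex (H := D₁ ⊔ D₂) (K := N₁ ⊔ N₂)
    (sup_le_sup (Subgroup.commutator_le_left _ _) (Subgroup.commutator_le_left _ _))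
  rw [c1, c2, ← e1, ← e2] at e3
  refine Nat.eq_of_mul_eq_mul_left (Nat.mul_pos Nat.card_pos Nat.card_pos :
    0 < Nat.card D₁ * Nat.card D₂) ?_
  rw [e3]; ring

theorem commutator_eq_of_sup_zpowers (N : Subgroup X) [N.Normal] {a : X}
    (h : N ⊔ Subgroup.zpowers a = ⊤) : commutator X = ⁅N, (⊤ : Subgroup X)⁆ := by
  set D := ⁅N, (⊤ : Subgroup X)⁆
  refine le_antisymm ?_ (Subgroup.commutator_mono le_top le_rfl)
  rw [commutator_def, Subgroup.commutator_le]
  intro x _ y _
  have hc : ∀ n ∈ N, ∀ z : X ⧸ D, (n : X ⧸ D) * z = z * (n : X ⧸ D) := by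
    intro n hn z
    obtain ⟨z, rfl⟩ := QuotientGroup.mk_surjective z
    refine commutatorElement_eq_one_iff_mul_comm.1 ?_
    exact (map_commutatorElement (QuotientGroup.mk' D) n z).symm.trans
      ((QuotientGroup.eq_one_iff _).2
        (Subgroup.commutator_mem_commutator hn (Subgroup.mem_top z)))
  have hx : ∀ x : X, ∃ n ∈ N, ∃ i : ℤ, x = n * a ^ i := fun x => by
    obtain ⟨n, hn, z, hz, rfl⟩ := Subgroup.mem_sup_of_normal_left.1 (h ▸ Subgroup.mem_top x)
    obtain ⟨i, rfl⟩ := Subgroup.mem_zpowers_iff.1 hz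
    exact ⟨n, hn, i, rfl⟩
  rw [← QuotientGroup.eq_one_iff]
  refine (map_commutatorElement (QuotientGroup.mk' D) x y).trans
    (commutatorElement_eq_one_iff_mul_comm.2 ?_)
  obtain ⟨m, hm, i, rfl⟩ := hx x
  obtain ⟨n, hn, j, rfl⟩ := hx y
  simp only [QuotientGroup.mk'_apply, QuotientGroup.mk_mul, QuotientGroup.mk_zpow]
  have hu := hc m hm
  have hv := hc n hn
  calc (m : X ⧸ D) * (a : X ⧸ D) ^ i * ((n : X ⧸ D) * (a : X ⧸ D) ^ j)
      = (m : X ⧸ D) * ((n : X ⧸ D) * ((a : X ⧸ D) ^ i * (a : X ⧸ D) ^ j)) := by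
        rw [mul_assoc, ← mul_assoc ((a : X ⧸ D) ^ i), ← hv ((a : X ⧸ D) ^ i), mul_assoc]
    _ = (n : X ⧸ D) * ((m : X ⧸ D) * ((a : X ⧸ D) ^ j * (a : X ⧸ D) ^ i)) := by
        rw [← mul_assoc, hu, mul_assoc, ← zpow_add, ← zpow_add, add_comm i j]
    _ = (n : X ⧸ D) * (a : X ⧸ D) ^ j * ((m : X ⧸ D) * (a : X ⧸ D) ^ i) := by
        rw [mul_assoc, ← mul_assoc ((a : X ⧸ D) ^ j), ← hu ((a : X ⧸ D) ^ j), mul_assoc]

theorem exists_generator (hX : IsPGroup p X) (N : Subgroup X) [N.Normal]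
    (h : (commutator X).index = p ^ 2) (hN : ¬ N ≤ commutator X) :
    ∃ a, N ⊔ Subgroup.zpowers a = ⊤ := by
  have hΦ := commutator_le_frattini_pgroup hX
  set M := N ⊔ commutator X
  have key : ∀ H : Subgroup X, H ⊔ commutator X = ⊤ → H = ⊤ := fun H hH =>
    frattini_nongenerating (eq_top_iff.2 (hH ▸ sup_le_sup_left hΦ _))
  by_cases hM : M = ⊤
  · exact ⟨1, by rw [key N hM]; exact top_sup_eq _⟩
  obtain ⟨k, hk⟩ := hX.index M
  have h2 := Subgroup.relIndex_mul_index (le_sup_right : commutator X ≤ M)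
  rw [h, hk] at h2
  have hk0 : k ≠ 0 := fun h0 => hM (Subgroup.index_eq_one.1 (by rw [hk, h0, pow_zero]))
  obtain ⟨j, hj⟩ := (hX.to_subgroup M).index ((commutator X).subgroupOf M)
  have hj0 : j ≠ 0 := by
    intro h0
    rw [h0, pow_zero, Subgroup.index_eq_one, Subgroup.subgroupOf_eq_top] at hj
    exact hN (le_sup_left.trans hj)
  rw [Subgroup.relIndex, hj, ← pow_add] at h2
  have := Nat.pow_right_injective hp.out.two_le h2
  obtain rfl : k = 1 := by omega
  obtain ⟨a, -, ha⟩ := SetLike.exists_of_lt (Ne.lt_top hM)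
  refine ⟨a, key _ ?_⟩
  rw [sup_right_comm, sup_zpowers_of_prime_index M (hk.trans (pow_one p)) ha]

/-- The count `|X : X'| = |X : N| |N : [N, X]|`. -/
theorem index_mul (hX : IsPGroup p X) (N : Subgroup X) [N.Normal]
    (h : (commutator X).index = p ^ 2) (hN : ¬ N ≤ commutator X) :
    (⁅N, (⊤ : Subgroup X)⁆).relIndex N * N.index = p ^ 2 := by
  obtain ⟨a, ha⟩ := exists_generator hX N h hN
  rw [Subgroup.relIndex_mul_index (Subgroup.commutator_le_left _ _),
    ← commutator_eq_of_sup_zpowers N ha, h]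

theorem index_eq_p (hX : IsPGroup p X) (N : Subgroup X) [N.Normal]
    (h : (commutator X).index = p ^ 2) (hN : ¬ N ≤ commutator X) (hne : N ≠ ⊤) :
    N.index = p ∧ (⁅N, (⊤ : Subgroup X)⁆).relIndex N = p := by
  have hb : N ≠ ⊥ := fun hb => hN (hb ▸ bot_le)
  have h1 := index_mul hX N h hN
  have h2 := le_relIndex hX N hb
  obtain ⟨k, hk⟩ := hX.index N
  have hk0 : k ≠ 0 := fun h0 => hne (Subgroup.index_eq_one.1 (by rw [hk, h0, pow_zero]))
  have h3 : p ≤ N.index := hk ▸ Nat.le_self_pow hk0 p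
  have h4 : N.index ≤ p := Nat.le_of_mul_le_mul_left
    ((Nat.mul_le_mul_right _ h2).trans (h1.le.trans_eq (pow_two p))) hp.out.pos
  have h5 : N.index = p := le_antisymm h4 h3
  refine ⟨h5, ?_⟩
  rw [h5, pow_two] at h1
  exact Nat.eq_of_mul_eq_mul_right hp.out.pos h1

/-- An element outside a normal subgroup of prime index has centralizer of order at most
`p` times its fixed points there. -/
theorem centralizer_le (N : Subgroup X) [N.Normal] (b : X) :
    Nat.card (Subgroup.centralizer ({b} : Set X)) ≤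
      N.index * Nat.card (N ⊓ Subgroup.centralizer ({b} : Set X) : Subgroup X) := by
  rw [← card_mul_relIndex (inf_le_right : N ⊓ Subgroup.centralizer ({b} : Set X) ≤ _),
    Subgroup.inf_relIndex_right, mul_comm N.index]
  exact Nat.mul_le_mul_left _ (Nat.le_of_dvd (Nat.pos_of_ne_zero Subgroup.index_ne_zero_of_finite)
    (Subgroup.relIndex_dvd_index_of_normal _ _))

end Cfsg.Agent.Solv.PSq
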