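import Cfsg.Agent.Lib.Solv.AbelPSquare
import Cfsg.Agent.Lib.Solv.Component
import Cfsg.Agent.Lib.Solv.AbelianConj
import Cfsg.Agent.Lib.Fusion.TransferSplit
import Cfsg.Agent.Lib.Char.TISimpleSocle

/-!
Abelianisation of a Sylow `p`-subgroup of order `p ^ 2`: the components and the elements with small
centralizer.
-/

set_option autoImplicit false
set_option linter.style.haveILetI false

open scoped commutatorElement

namespace Cfsg.Agent.Solv.PSq

variable {G : Type*} [Group G] [Finite G] {p : ℕ} [hp : Fact p.Prime] (P : Sylow p G)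

omit [Finite G] hp in
theorem card_centralizer_subtype (b : (P : Subgroup G)) :
    Nat.card (Subgroup.centralizer ({b} : Set (P : Subgroup G))) =
      Nat.card ((P : Subgroup G) ⊓ Subgroup.centralizer ({(b : G)} : Set G) : Subgroup G) := by
  rw [← Subgroup.card_map_of_injective (K := Subgroup.centralizer ({b} : Set (P : Subgroup G)))
    (P : Subgroup G).subtype_injective]
  refine congrArg (fun S : Subgroup G => Nat.card S) ?_
  ext x
  constructor
  · rintro ⟨y, hy, rfl⟩
    exact ⟨y.2, Subgroup.mem_centralizer_singleton_iff.2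
      (congrArg Subtype.val (Subgroup.mem_centralizer_singleton_iff.1 hy))⟩
  · rintro ⟨hx, hc⟩
    exact ⟨⟨x, hx⟩, Subgroup.mem_centralizer_singleton_iff.2
      (Subtype.ext (Subgroup.mem_centralizer_singleton_iff.1 hc)), rfl⟩

/-- Every `p`-element has a conjugate in `P` whose centralizer in `P` is a Sylow subgroup of its
centralizer. -/
theorem exists_extremal (x : G) (hx : ∃ k : ℕ, orderOf x = p ^ k) :
    ∃ b : (P : Subgroup G), IsConj x (b : G) ∧ Nat.card (Subgroup.centralizer ({b} : Set (P : Subgroup G))) =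
      p ^ (Nat.card (Subgroup.centralizer ({x} : Set G))).factorization p := by
  set C := Subgroup.centralizer ({x} : Set G)
  have hxC : x ∈ C := Subgroup.mem_centralizer_singleton_iff.2 rfl
  obtain ⟨T⟩ := (inferInstance : Nonempty (Sylow p C))
  set T0 := (T : Subgroup C).map C.subtype
  set Z := Subgroup.zpowers x
  have hZ : IsPGroup p Z := by
    obtain ⟨k, hk⟩ := hx
    exact IsPGroup.of_card (n := k) (by rw [Nat.card_zpowers, hk])
  have hnorm : T0 ≤ Subgroup.normalizer (Z : Set G) := by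
    rintro _ ⟨t, -, rfl⟩
    refine Subgroup.mem_normalizer_fintype fun y hy => ?_
    obtain ⟨i, rfl⟩ := Subgroup.mem_zpowers_iff.1 hy
    have h1 : Commute (t : G) x := Subgroup.mem_centralizer_singleton_iff.1 t.2
    change C.subtype t * x ^ i * (C.subtype t)⁻¹ ∈ Z
    rw [Subgroup.subtype_apply, (h1.zpow_right i).eq, mul_inv_cancel_right]
    exact Subgroup.zpow_mem _ (Subgroup.mem_zpowers x) i
  have hU : IsPGroup p (T0 ⊔ Z : Subgroup G) :=
    IsPGroup.to_sup_of_normal_right' (T.2.map _) hZ hnorm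
  obtain ⟨S, hS⟩ := hU.exists_le_sylow
  obtain ⟨g, hg⟩ := MulAction.exists_smul_eq G S P
  have hmem : ∀ y ∈ T0 ⊔ Z, g * y * g⁻¹ ∈ (P : Subgroup G) := fun y hy => by
    rw [← hg, Sylow.coe_subgroup_smul, Subgroup.mem_smul_pointwise_iff_exists]
    exact ⟨y, hS hy, rfl⟩
  set b : (P : Subgroup G) := ⟨g * x * g⁻¹, hmem x (Subgroup.mem_sup_right (Subgroup.mem_zpowers x))⟩
  refine ⟨b, isConj_iff.2 ⟨g, rfl⟩, ?_⟩
  have hT0 : Nat.card T0 = p ^ (Nat.card C).factorization p := by
    rw [Subgroup.card_map_of_injective C.subtype_injective, T.card_eq_multiplicity]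
  refine le_antisymm ?_ (hT0 ▸ ?_)
  · obtain ⟨c, hc⟩ := IsPGroup.iff_card.1
      (P.2.to_subgroup (Subgroup.centralizer ({b} : Set (P : Subgroup G))))
    rw [hc]
    refine Nat.pow_le_pow_right hp.out.pos ((hp.out.pow_dvd_iff_le_factorization
      Nat.card_pos.ne').1 ?_)
    rw [← hc, card_centralizer_subtype,
      ← Subgroup.card_map_of_injective (K := C) (f := (MulAut.conj g).toMonoidHom)
        (MulAut.conj g).injective]
    refine (Subgroup.card_dvd_of_le inf_le_right).trans (dvd_of_eq ?_)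
    refine congrArg (fun S : Subgroup G => Nat.card S) ?_
    ext y
    rw [Subgroup.mem_map, Subgroup.mem_centralizer_singleton_iff]
    constructor
    · intro hy
      refine ⟨g⁻¹ * y * g, Subgroup.mem_centralizer_singleton_iff.2 ?_, by
        simp [MulAut.conj_apply, mul_assoc]⟩
      have : y * (g * x * g⁻¹) = g * x * g⁻¹ * y := hy
      calc g⁻¹ * y * g * x = g⁻¹ * (y * (g * x * g⁻¹)) * g := by group
        _ = g⁻¹ * (g * x * g⁻¹ * y) * g := by rw [this]
        _ = x * (g⁻¹ * y * g) := by group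
    · rintro ⟨z, hz, rfl⟩
      simp [b, MulAut.conj_apply, mul_assoc]
      rw [← mul_assoc z, Subgroup.mem_centralizer_singleton_iff.1 hz, mul_assoc]
  · rw [card_centralizer_subtype, ← Subgroup.card_map_of_injective (K := T0)
      (f := (MulAut.conj g).toMonoidHom) (MulAut.conj g).injective]
    refine Nat.le_of_dvd Nat.card_pos (Subgroup.card_dvd_of_le ?_)
    rintro _ ⟨y, hy, rfl⟩
    refine ⟨hmem y (Subgroup.mem_sup_left hy), Subgroup.mem_centralizer_singleton_iff.2 ?_⟩
    obtain ⟨z, -, rfl⟩ := hy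
    have hz := Subgroup.mem_centralizer_singleton_iff.1 z.2
    simp [b, MulAut.conj_apply, mul_assoc]
    rw [← mul_assoc (z : G), hz, mul_assoc]

theorem exists_of_bound (h : (commutator (P : Subgroup G)).index = p ^ 2) (M : Subgroup G) [hM : M.Normal]
    (a : (P : Subgroup G)) (ha : (a : G) ∉ M)
    (hb : ∀ b : (P : Subgroup G), (b : G) ∉ M → Nat.card (Subgroup.centralizer ({b} : Set (P : Subgroup G))) ≤ p ^ 2) :
    ∃ x : G, (∃ k : ℕ, orderOf x = p ^ k) ∧
      (Nat.card (Subgroup.centralizer ({x} : Set G))).factorization p = 2 := by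
  obtain ⟨k, hk⟩ := IsPGroup.iff_orderOf.1 P.2 a
  have hk' : orderOf (a : G) = p ^ k := by rwa [Subgroup.orderOf_coe]
  obtain ⟨b, hab, hc⟩ := exists_extremal P (a : G) ⟨k, hk'⟩
  obtain ⟨g, hg⟩ := isConj_iff.1 hab
  have hbM : (b : G) ∉ M := fun hb => ha (by
    have := hM.conj_mem _ hb g⁻¹
    rw [← hg] at this
    simpa [mul_assoc] using this)
  refine ⟨a, ⟨k, hk'⟩, ?_⟩
  have h1 := hb b hbM
  have h2 := card_le_centralizer_mul b
  rw [← (commutator (P : Subgroup G)).card_mul_index, h, mul_comm, hc] at h2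
  rw [hc] at h1
  refine le_antisymm ((Nat.pow_le_pow_iff_right hp.out.one_lt).1 h1) ?_
  exact (Nat.pow_le_pow_iff_right hp.out.one_lt).1 (Nat.le_of_mul_le_mul_right h2 Nat.card_pos)

/-- Order `p ^ 2`. -/
theorem exists_of_card (h : Nat.card (P : Subgroup G) = p ^ 2) :
    ∃ x : G, (∃ k : ℕ, orderOf x = p ^ k) ∧
      (Nat.card (Subgroup.centralizer ({x} : Set G))).factorization p = 2 := by
  refine ⟨1, ⟨0, by simp⟩, ?_⟩
  have h1 : Subgroup.centralizer ({1} : Set G) = ⊤ :=
    eq_top_iff.2 fun g _ => Subgroup.mem_centralizer_singleton_iff.2 (by simp)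
  rw [P.card_eq_multiplicity] at h
  rw [h1, Subgroup.card_top, Nat.pow_right_injective hp.out.two_le h]

theorem card_of_comm (h : (commutator (P : Subgroup G)).index = p ^ 2) (hc : ∀ x y : (P : Subgroup G), x * y = y * x) :
    Nat.card (P : Subgroup G) = p ^ 2 := by
  rw [comm_eq_bot hc, Subgroup.index_bot] at h
  exact h

theorem commutator_eq : (commutator (P : Subgroup G)).map (P : Subgroup G).subtype =
    ⁅(P : Subgroup G), (P : Subgroup G)⁆ := by
  rw [commutator_def, Subgroup.map_commutator, ← MonoidHom.range_eq_map, Subgroup.range_subtype]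

/-- A normal `p`-subgroup outside the derived subgroup. -/
theorem of_pCore (h : (commutator (P : Subgroup G)).index = p ^ 2) (hne : Cfsg.pCore p G ≠ ⊥)
    (hcore : (⁅(P : Subgroup G), (P : Subgroup G)⁆).normalCore = ⊥) :
    ∃ x : G, (∃ k : ℕ, orderOf x = p ^ k) ∧
      (Nat.card (Subgroup.centralizer ({x} : Set G))).factorization p = 2 := by
  set V := Cfsg.pCore p G
  haveI : V.Normal := pCore_normal p
  have hVP : V ≤ (P : Subgroup G) := (pCore_isPGroup (G := G) p).le_sylow_of_normal P
  have hVab : ∀ x ∈ V, ∀ y ∈ V, x * y = y * x := by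
    have h1 : ⁅V, V⁆ = ⊥ := le_bot_iff.1 (hcore ▸
      Subgroup.normal_le_normalCore.2 (Subgroup.commutator_mono hVP hVP))
    intro x hx y hy
    exact commutatorElement_eq_one_iff_mul_comm.1
      (Subgroup.mem_bot.1 (h1 ▸ Subgroup.commutator_mem_commutator hx hy))
  set N : Subgroup (P : Subgroup G) := V.subgroupOf (P : Subgroup G)
  have hN : ¬ N ≤ commutator (P : Subgroup G) := fun hN => hne (by
    refine le_bot_iff.1 (hcore ▸ Subgroup.normal_le_normalCore.2 fun v hv => ?_)
    rw [← commutator_eq P]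
    exact ⟨⟨v, hVP hv⟩, hN (show (⟨v, hVP hv⟩ : (P : Subgroup G)) ∈ N from hv), rfl⟩)
  by_cases htop : N = ⊤
  · refine exists_of_card P (card_of_comm P h fun x y => Subtype.ext ?_)
    exact hVab x (Subgroup.subgroupOf_eq_top.1 htop x.2) y
      (Subgroup.subgroupOf_eq_top.1 htop y.2)
  obtain ⟨hidx, hrel⟩ := index_eq_p (X := (P : Subgroup G)) P.2 N h hN htop
  obtain ⟨a, -, ha⟩ := SetLike.exists_of_lt (Ne.lt_top htop)
  refine exists_of_bound P h V a ha fun b hb => ?_
  refine (centralizer_le N b).trans ?_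
  rw [hidx, pow_two]
  refine Nat.mul_le_mul_left _ ?_
  have hab : ∀ x ∈ N, ∀ y ∈ N, x * y = y * x := fun x hx y hy => Subtype.ext (hVab x hx y hy)
  let f : N →* N :=
    { toFun := fun n => ⟨⁅(n : (P : Subgroup G)), b⁆, Subgroup.commutator_le_left N ⊤
        (Subgroup.commutator_mem_commutator n.2 (Subgroup.mem_top b))⟩
      map_one' := Subtype.ext (by simp)
      map_mul' := fun m n => Subtype.ext (by
        have h1 : ⁅(m : (P : Subgroup G)) * n, b⁆ = (m : (P : Subgroup G)) * ⁅(n : (P : Subgroup G)), b⁆ * (m : (P : Subgroup G))⁻¹ * ⁅(m : (P : Subgroup G)), b⁆ := by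
          simp only [commutatorElement_def]; group
        have h2 : ⁅(n : (P : Subgroup G)), b⁆ ∈ N := Subgroup.commutator_le_left N ⊤
          (Subgroup.commutator_mem_commutator n.2 (Subgroup.mem_top b))
        have h3 : ⁅(m : (P : Subgroup G)), b⁆ ∈ N := Subgroup.commutator_le_left N ⊤
          (Subgroup.commutator_mem_commutator m.2 (Subgroup.mem_top b))
        change ⁅((m * n : N) : (P : Subgroup G)), b⁆ = ⁅(m : (P : Subgroup G)), b⁆ * ⁅(n : (P : Subgroup G)), b⁆
        rw [Subgroup.coe_mul, h1, hab _ m.2 _ h2, mul_inv_cancel_right, hab _ h2 _ h3]) }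
  set R := f.range.map N.subtype
  have hmemR : ∀ n : N, ⁅(n : (P : Subgroup G)), b⁆ ∈ R := fun n => ⟨f n, ⟨n, rfl⟩, rfl⟩
  have hRN : R ≤ N := Subgroup.map_subtype_le _
  have hgen := sup_zpowers_of_prime_index N hidx (a := b) hb
  haveI hRn : R.Normal := by
    refine Subgroup.normalizer_eq_top_iff.1 (top_le_iff.1 (hgen ▸ sup_le ?_ ?_))
    · intro n hn
      refine Subgroup.mem_normalizer_fintype fun r hr => ?_
      rwa [hab n hn r (hRN hr), mul_inv_cancel_right]
    · rw [Subgroup.zpowers_le]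
      refine Subgroup.mem_normalizer_fintype ?_
      rintro _ ⟨_, ⟨n, rfl⟩, rfl⟩
      have := hmemR ⟨b * n * b⁻¹, (inferInstance : N.Normal).conj_mem _ n.2 b⟩
      convert this using 1
      simp [f, commutatorElement_def, mul_assoc]
  have hD : ⁅N, (⊤ : Subgroup (P : Subgroup G))⁆ ≤ R := by
    refine Subgroup.commutator_le.2 fun n hn x hx => ?_
    have hle : ⊤ ≤ (Subgroup.centralizer
        ((N.map (QuotientGroup.mk' R) : Subgroup ((P : Subgroup G) ⧸ R)) : Set ((P : Subgroup G) ⧸ R))).comap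
          (QuotientGroup.mk' R) := by
      rw [← hgen]
      refine sup_le ?_ ?_
      · intro y hy
        refine Subgroup.mem_centralizer_iff.2 ?_
        rintro _ ⟨z, hz, rfl⟩
        rw [← map_mul, ← map_mul, hab z hz y hy]
      · rw [Subgroup.zpowers_le]
        refine Subgroup.mem_centralizer_iff.2 ?_
        rintro _ ⟨z, hz, rfl⟩
        refine commutatorElement_eq_one_iff_mul_comm.1 ?_
        rw [← map_commutatorElement]
        exact (QuotientGroup.eq_one_iff _).2 (hmemR ⟨z, hz⟩)
    rw [← QuotientGroup.eq_one_iff]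
    refine (map_commutatorElement (QuotientGroup.mk' R) n x).trans
      (commutatorElement_eq_one_iff_mul_comm.2 ?_)
    exact Subgroup.mem_centralizer_iff.1 (hle hx) _ ⟨n, hn, rfl⟩
  have h1 := card_mul_relIndex (Subgroup.commutator_le_left N ⊤)
  rw [hrel] at h1
  have h2 := f.ker.card_mul_index
  rw [Subgroup.index_ker] at h2
  have h3 : Nat.card R = Nat.card f.range := Subgroup.card_map_of_injective N.subtype_injective
  have h4 : Nat.card f.ker ≤ p := by
    refine Nat.le_of_mul_le_mul_right ?_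
      (Nat.card_pos : 0 < Nat.card f.range)
    rw [h2, ← h1, mul_comm p, ← h3]
    exact Nat.mul_le_mul_right _ (Nat.le_of_dvd Nat.card_pos (Subgroup.card_dvd_of_le hD))
  refine le_trans ?_ h4
  refine Nat.card_le_card_of_injective (fun c => ⟨⟨c.1, c.2.1⟩, ?_⟩) ?_
  · refine Subtype.ext ?_
    exact commutatorElement_eq_one_iff_mul_comm.2
      (Subgroup.mem_centralizer_singleton_iff.1 c.2.2)
  · intro c d hcd
    exact Subtype.ext (congrArg (fun u : f.ker => ((u : N) : (P : Subgroup G))) hcd)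

end Cfsg.Agent.Solv.PSq
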