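import Cfsg.Agent.Lib.Solv.AbelPSquareMain

/-!
The semisimple case: several components permuted by the Sylow subgroup.
-/

set_option autoImplicit false
set_option linter.style.haveILetI false

open scoped commutatorElement Pointwise

namespace Cfsg.Agent.Solv.PSq

variable {G : Type*} [Group G] [Finite G] {p : ℕ} [hp : Fact p.Prime] (P : Sylow p G)

theorem fitting_eq_bot (h0 : Cfsg.pCore p G = ⊥) (h1 : Cfsg.pPrimeCore p G = ⊥) :
    Cfsg.fittingSubgroup G = ⊥ := by
  rw [fitting_eq_iSup_pCore, iSup_eq_bot]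
  intro q
  by_cases hq : (q : ℕ) = p
  · rw [hq]; exact h0
  haveI : Fact (q : ℕ).Prime := ⟨q.2⟩
  haveI := pCore_normal (G := G) (q : ℕ)
  refine le_bot_iff.1 (h1 ▸ normal_le_pPrimeCore ?_)
  obtain ⟨k, hk⟩ := IsPGroup.iff_card.1 (pCore_isPGroup (G := G) (q : ℕ))
  rw [hk]
  exact Nat.Coprime.pow_left k ((Nat.coprime_primes q.2 hp.out).2 hq)

omit hp in
theorem center_component_eq_bot (hF : Cfsg.fittingSubgroup G = ⊥) {K : Subgroup G}
    (hK : Cfsg.IsComponent K) : Subgroup.center K = ⊥ := by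
  have h := center_component_le_fitting hK
  rw [hF, le_bot_iff, Subgroup.map_eq_bot_iff_of_injective _ K.subtype_injective] at h
  exact h

omit hp in
theorem centralizer_layer_eq_bot (hF : Cfsg.fittingSubgroup G = ⊥) :
    Subgroup.centralizer ((Cfsg.layer G : Subgroup G) : Set G) = ⊥ := by
  have h := centralizer_gfit_le (G := G)
  rw [Cfsg.generalizedFittingSubgroup, hF, sup_bot_eq] at h
  refine (Subgroup.eq_bot_iff_forall _).2 fun z hz => ?_
  exact eq_one_of_central_in_commuting {K : Subgroup G | Cfsg.IsComponent K}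
    (fun K hK L hL hne => components_commute hK hL hne)
    (fun K hK => center_component_eq_bot hF hK) (h hz)
    fun K hK x hx => Subgroup.mem_centralizer_iff.1 hz x (component_le_layer hK hx)

omit hp in
theorem exists_two_components [Nontrivial G] (hF : Cfsg.fittingSubgroup G = ⊥)
    (hnas : ¬ ∃ S : Subgroup G, S.Normal ∧ IsSimpleGroup S ∧ ¬ IsMulCommutative S ∧
      Subgroup.centralizer (S : Set G) = ⊥) :
    ∃ K L : Subgroup G, Cfsg.IsComponent K ∧ Cfsg.IsComponent L ∧ K ≠ L := by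
  by_contra hcon
  push Not at hcon
  have hC := centralizer_layer_eq_bot hF
  by_cases hex : ∃ K : Subgroup G, Cfsg.IsComponent K
  swap
  · refine (bot_ne_top (α := Subgroup G)) (hC.symm.trans (eq_top_iff.2 fun g _ => ?_))
    have : Cfsg.layer G = ⊥ := le_bot_iff.1 (sSup_le fun K hK => absurd ⟨K, hK⟩ hex)
    refine Subgroup.mem_centralizer_iff.2 fun x hx => ?_
    rw [this, Subgroup.coe_bot, Set.mem_singleton_iff] at hx
    simp [hx]
  obtain ⟨K, hK⟩ := hex
  have hE : Cfsg.layer G = K :=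
    le_antisymm (sSup_le fun L hL => (hcon L K hL hK).le) (component_le_layer hK)
  haveI := qs_nontrivial hK.2
  refine hnas ⟨K, hE ▸ Local.layer_normal, ?_, ?_, hE ▸ hC⟩
  · have hs : IsSimpleGroup (K ⧸ Subgroup.center K) := hK.2.2
    exact IsSimpleGroup.isSimpleGroup_of_surjective
      (f := ((QuotientGroup.quotientMulEquivOfEq (center_component_eq_bot hF hK)).trans
        QuotientGroup.quotientBot).toMonoidHom)
      (MulEquiv.surjective _)
  · intro hc
    haveI := hc
    haveI := hK.2.1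
    exact Group.IsPerfect.not_isMulCommutative (G := K) hc

theorem pPrimeCore_subgroup_eq_bot (h1 : Cfsg.pPrimeCore p G = ⊥) (E : Subgroup G) [E.Normal] :
    Cfsg.pPrimeCore p E = ⊥ := by
  haveI := Char.TISocle.pPrimeCore_characteristic (p := p) (G := E)
  have h : (Cfsg.pPrimeCore p E).map E.subtype = ⊥ := le_bot_iff.1 (h1 ▸ normal_le_pPrimeCore
    (by rw [Subgroup.card_map_of_injective E.subtype_injective]; exact pPrimeCore_coprime p))
  exact (Subgroup.map_eq_bot_iff_of_injective _ E.subtype_injective).1 h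

theorem card_inf_of_normal_in (E M : Subgroup G) [E.Normal] (hME : M ≤ E)
    [hn : (M.subgroupOf E).Normal] :
    Nat.card ((P : Subgroup G) ⊓ M : Subgroup G) = p ^ (Nat.card M).factorization p := by
  have hcard : Nat.card ((P : Subgroup G).subgroupOf E) = p ^ (Nat.card E).factorization p := by
    rw [← Subgroup.card_map_of_injective E.subtype_injective, Subgroup.subgroupOf_map_subtype]
    exact AbelianConj.card_sylow_inf P E
  have h := AbelianConj.card_sylow_inf (Sylow.ofCard _ hcard : Sylow p E) (M.subgroupOf E)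
  rw [Nat.card_congr (Subgroup.subgroupOfEquivOfLe hME).toEquiv] at h
  rw [← h, ← Subgroup.card_map_of_injective (K := _ ⊓ M.subgroupOf E) E.subtype_injective]
  refine congrArg (fun S : Subgroup G => Nat.card S) ?_
  rw [Subgroup.map_inf _ _ _ E.subtype_injective, Sylow.coe_ofCard,
    Subgroup.subgroupOf_map_subtype, Subgroup.subgroupOf_map_subtype, inf_eq_left.2 hME,
    inf_assoc, inf_eq_right.2 hME]

/-- The join of a set of components, and of the others. -/
theorem part_facts (hF : Cfsg.fittingSubgroup G = ⊥) (O : Set (Subgroup G))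
    (hO : O ⊆ {K : Subgroup G | Cfsg.IsComponent K}) :
    sSup O ≤ Cfsg.layer G ∧ ((sSup O).subgroupOf (Cfsg.layer G)).Normal ∧
    sSup O ⊓ sSup ({K : Subgroup G | Cfsg.IsComponent K} \ O) = ⊥ ∧
    sSup O ≤ Subgroup.centralizer
      ((sSup ({K : Subgroup G | Cfsg.IsComponent K} \ O) : Subgroup G) : Set G) ∧
    sSup O ⊔ sSup ({K : Subgroup G | Cfsg.IsComponent K} \ O) = Cfsg.layer G := by
  have hle : sSup O ≤ Cfsg.layer G := sSup_le fun K hK => component_le_layer (hO hK)
  have hcomm : ∀ K ∈ O, ∀ L ∈ {K : Subgroup G | Cfsg.IsComponent K} \ O, ⁅K, L⁆ = ⊥ :=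
    fun K hK L hL => components_commute (hO hK) hL.1 fun he => hL.2 (he ▸ hK)
  have hc : sSup O ≤ Subgroup.centralizer
      ((sSup ({K : Subgroup G | Cfsg.IsComponent K} \ O) : Subgroup G) : Set G) :=
    sSup_le fun K hK => Subgroup.le_centralizer_iff.1 (sSup_le fun L hL =>
      Subgroup.commutator_eq_bot_iff_le_centralizer.1
        (by rw [Subgroup.commutator_comm]; exact hcomm K hK L hL))
  have hsup : sSup O ⊔ sSup ({K : Subgroup G | Cfsg.IsComponent K} \ O) = Cfsg.layer G := by
    rw [← sSup_union, Set.union_sdiff_cancel hO]; rfl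
  refine ⟨hle, ?_, ?_, hc, hsup⟩
  · refine (Subgroup.normal_subgroupOf_iff_le_normalizer hle).2 (hsup ▸ sup_le
      Subgroup.le_normalizer ((Subgroup.le_centralizer_iff.1 hc).trans
        (Subgroup.centralizer_le_normalizer _)))
  · refine (Subgroup.eq_bot_iff_forall _).2 fun z hz => ?_
    refine eq_one_of_central_in_commuting O
      (fun K hK L hL hne => components_commute (hO hK) (hO hL) hne)
      (fun K hK => center_component_eq_bot hF (hO hK)) hz.1 fun K hK x hx => ?_
    exact (Subgroup.mem_centralizer_iff.1 (hc (le_sSup hK hx)) z hz.2).symm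

theorem dvd_card_component (h0 : Cfsg.pCore p G = ⊥) (h1 : Cfsg.pPrimeCore p G = ⊥)
    {K : Subgroup G} (hK : Cfsg.IsComponent K) : p ∣ Nat.card K := by
  by_contra hnd
  have hF := fitting_eq_bot h0 h1
  obtain ⟨hle, hn, -⟩ := part_facts hF {K} (by simpa using hK)
  rw [sSup_singleton] at hle hn
  haveI := hn
  haveI : (Cfsg.layer G).Normal := Local.layer_normal
  have h : K.subgroupOf (Cfsg.layer G) = ⊥ := le_bot_iff.1
    (pPrimeCore_subgroup_eq_bot h1 (Cfsg.layer G) ▸ normal_le_pPrimeCore (by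
      rw [Nat.card_congr (Subgroup.subgroupOfEquivOfLe hle).toEquiv]
      exact ((Nat.Prime.coprime_iff_not_dvd hp.out).2 hnd).symm))
  rw [Subgroup.subgroupOf_eq_bot, disjoint_iff, inf_eq_left.2 hle] at h
  exact qs_ne_bot hK.2 h

theorem part_sylow (h0 : Cfsg.pCore p G = ⊥) (h1 : Cfsg.pPrimeCore p G = ⊥)
    (O : Set (Subgroup G)) (hO : O ⊆ {K : Subgroup G | Cfsg.IsComponent K}) :
    (sSup O).subgroupOf (P : Subgroup G) ⊔
      (sSup ({K : Subgroup G | Cfsg.IsComponent K} \ O)).subgroupOf (P : Subgroup G) =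
        (Cfsg.layer G).subgroupOf (P : Subgroup G) ∧
    (O.Nonempty → (sSup O).subgroupOf (P : Subgroup G) ≠ ⊥) := by
  have hF := fitting_eq_bot h0 h1
  haveI : (Cfsg.layer G).Normal := Local.layer_normal
  obtain ⟨hle, hn, hd, hc, hsup⟩ := part_facts hF O hO
  obtain ⟨hle', hn', -⟩ := part_facts hF ({K : Subgroup G | Cfsg.IsComponent K} \ O)
    Set.sdiff_subset
  set M := sSup O
  set M' := sSup ({K : Subgroup G | Cfsg.IsComponent K} \ O)
  have hcq : ∀ S : Subgroup G, Nat.card (S.subgroupOf (P : Subgroup G)) =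
      Nat.card ((P : Subgroup G) ⊓ S : Subgroup G) := fun S => by
    rw [← Subgroup.card_map_of_injective (P : Subgroup G).subtype_injective,
      Subgroup.subgroupOf_map_subtype, inf_comm]
  have hM : Nat.card (M.subgroupOf (P : Subgroup G)) = p ^ (Nat.card M).factorization p := by
    haveI := hn; rw [hcq]; exact card_inf_of_normal_in P _ M hle
  have hM' : Nat.card (M'.subgroupOf (P : Subgroup G)) = p ^ (Nat.card M').factorization p := by
    haveI := hn'; rw [hcq]; exact card_inf_of_normal_in P _ M' hle'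
  have hdis : M.subgroupOf (P : Subgroup G) ⊓ M'.subgroupOf (P : Subgroup G) = ⊥ := by
    rw [Subgroup.subgroupOf, Subgroup.subgroupOf, ← Subgroup.comap_inf, hd]
    exact Subgroup.bot_subgroupOf _
  have hcomm : ∀ (a : M.subgroupOf (P : Subgroup G)) (b : M'.subgroupOf (P : Subgroup G)),
      Commute ((M.subgroupOf (P : Subgroup G)).subtype a)
        ((M'.subgroupOf (P : Subgroup G)).subtype b) := fun a b =>
    Subtype.ext (Subgroup.mem_centralizer_iff.1 (hc a.2) _ b.2).symm
  have hcM : Nat.card M * Nat.card M' = Nat.card (Cfsg.layer G) := by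
    have hcomm' : ∀ (a : M) (b : M'), Commute (M.subtype a) (M'.subtype b) := fun a b =>
      (Subgroup.mem_centralizer_iff.1 (hc a.2) _ b.2).symm
    have hr := MonoidHom.noncommCoprod_range M.subtype M'.subtype hcomm'
    rw [Subgroup.range_subtype, Subgroup.range_subtype, hsup] at hr
    rw [← Nat.card_prod, ← hr]
    exact Nat.card_congr (MonoidHom.ofInjective
      ((MonoidHom.noncommCoprod_injective _ _ _).2 ⟨M.subtype_injective, M'.subtype_injective,
        by rw [Subgroup.range_subtype, Subgroup.range_subtype, disjoint_iff, hd]⟩)).toEquiv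
  refine ⟨?_, ?_⟩
  · refine Subgroup.eq_of_le_of_card_ge ?_ (le_of_eq ?_)
    · exact sup_le (Subgroup.comap_mono hle) (Subgroup.comap_mono hle')
    have hr := MonoidHom.noncommCoprod_range _ _ hcomm
    rw [Subgroup.range_subtype, Subgroup.range_subtype] at hr
    rw [hcq, AbelianConj.card_sylow_inf P (Cfsg.layer G), ← hcM,
      Nat.factorization_mul Nat.card_pos.ne' Nat.card_pos.ne', Finsupp.add_apply, pow_add, ← hM,
      ← hM', ← Nat.card_prod, ← hr]
    exact Nat.card_congr (MonoidHom.ofInjective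
      ((MonoidHom.noncommCoprod_injective _ _ hcomm).2 ⟨Subgroup.subtype_injective _,
        Subgroup.subtype_injective _,
        by rw [Subgroup.range_subtype, Subgroup.range_subtype, disjoint_iff, hdis]⟩)).toEquiv
  · rintro ⟨K, hKO⟩ hb
    rw [hb, Subgroup.card_bot] at hM
    have := hp.out.factorization_pos_of_dvd Nat.card_pos.ne'
      ((dvd_card_component h0 h1 (hO hKO)).trans (Subgroup.card_dvd_of_le (le_sSup hKO)))
    exact (Nat.one_lt_pow this.ne' hp.out.one_lt).ne hM

/-- The semisimple case. -/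
theorem of_components (h : (commutator (P : Subgroup G)).index = p ^ 2)
    (h0 : Cfsg.pCore p G = ⊥) (h1 : Cfsg.pPrimeCore p G = ⊥) (hG : Nontrivial G)
    (hnas : ¬ ∃ S : Subgroup G, S.Normal ∧ IsSimpleGroup S ∧ ¬ IsMulCommutative S ∧
      Subgroup.centralizer (S : Set G) = ⊥) :
    ∃ x : G, (∃ k : ℕ, orderOf x = p ^ k) ∧
      (Nat.card (Subgroup.centralizer ({x} : Set G))).factorization p = 2 := by
  classical
  have hF := fitting_eq_bot h0 h1
  obtain ⟨K, L, hK, hL, hKL⟩ := exists_two_components hF hnas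
  set E := Cfsg.layer G with hE
  haveI : E.Normal := Local.layer_normal
  set 𝒦 : Set (Subgroup G) := {K : Subgroup G | Cfsg.IsComponent K} with h𝒦
  set Q : Subgroup (P : Subgroup G) := E.subgroupOf (P : Subgroup G) with hQ
  have hQX : ¬ Q ≤ commutator (P : Subgroup G) := by
    intro hle
    have hT : E ⊓ (P : Subgroup G) ≤
        (frattini (P : Subgroup G)).map (P : Subgroup G).subtype := fun x hx =>
      ⟨⟨x, hx.2⟩, commutator_le_frattini_pgroup P.2 (hle hx.1), rfl⟩
    obtain ⟨S, N, hN, hNS⟩ := Fusion.hnpc_normal_of_frattini E P hT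
    haveI := hN
    have hcop : (Nat.card N).Coprime p := by
      refine ((Nat.Prime.coprime_iff_not_dvd hp.out).2 fun hd => ?_).symm
      refine S.not_dvd_index ?_
      rw [hNS.index_eq_card]
      exact hd
    have hNb : N = ⊥ := le_bot_iff.1 (pPrimeCore_subgroup_eq_bot h1 E ▸ normal_le_pPrimeCore hcop)
    have hEp : IsPGroup p E := by
      refine S.2.of_equiv ((MulEquiv.subgroupCongr ?_).trans Subgroup.topEquiv)
      have hs := hNS.sup_eq_top
      rwa [hNb, bot_sup_eq] at hs
    have hEb : E = ⊥ := le_bot_iff.1 (h0 ▸ normal_le_pCore hEp)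
    exact qs_ne_bot hK.2 (le_bot_iff.1 (hEb ▸ component_le_layer hK))
  have hnormQ : ∀ x : (P : Subgroup G), x ∈ Q → ∀ C ∈ 𝒦,
      (x : G) ∈ Subgroup.normalizer (C : Set G) := by
    intro x hx C hC
    obtain ⟨hle, hn, -⟩ := part_facts hF {C} (Set.singleton_subset_iff.2 hC)
    rw [sSup_singleton] at hle hn
    exact (Subgroup.normal_subgroupOf_iff_le_normalizer hle).1 hn hx
  have hinv : ∀ O ⊆ 𝒦, (∀ x : (P : Subgroup G), ∀ C ∈ O,
      C.map (MulAut.conj (x : G)).toMonoidHom ∈ O) →
      ((sSup O).subgroupOf (P : Subgroup G)).Normal ∧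
      ((sSup (𝒦 \ O)).subgroupOf (P : Subgroup G)).Normal := by
    intro O hO hx
    have key : ∀ O' : Set (Subgroup G), (∀ x : (P : Subgroup G), ∀ C ∈ O',
        C.map (MulAut.conj (x : G)).toMonoidHom ∈ O') →
        ((sSup O').subgroupOf (P : Subgroup G)).Normal := by
      intro O' h'
      refine ⟨fun y hy x => ?_⟩
      have hm : (sSup O').map (MulAut.conj (x : G)).toMonoidHom ≤ sSup O' := by
        rw [sSup_eq_iSup, Subgroup.map_iSup]
        refine iSup_le fun C => ?_
        rw [Subgroup.map_iSup]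
        exact iSup_le fun hC => le_iSup₂_of_le (C.map (MulAut.conj (x : G)).toMonoidHom)
          (h' x C hC) le_rfl
      exact hm ⟨(y : G), hy, rfl⟩
    refine ⟨key O hx, key _ fun x C hC => ⟨component_conj hC.1 _, fun hCO => hC.2 ?_⟩⟩
    have := hx x⁻¹ _ hCO
    rw [Subgroup.map_map] at this
    convert this using 1
    ext y
    simp [Subgroup.mem_map, MulAut.conj_apply, mul_assoc]
  have hirr : ∀ O ⊆ 𝒦, O.Nonempty → (𝒦 \ O).Nonempty → (∀ x : (P : Subgroup G), ∀ C ∈ O,
      C.map (MulAut.conj (x : G)).toMonoidHom ∈ O) →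
      Q = ⊤ ∧ (⁅(sSup O).subgroupOf (P : Subgroup G),
        (⊤ : Subgroup (P : Subgroup G))⁆).relIndex ((sSup O).subgroupOf (P : Subgroup G)) = p ∧
      (⁅(sSup (𝒦 \ O)).subgroupOf (P : Subgroup G),
        (⊤ : Subgroup (P : Subgroup G))⁆).relIndex
          ((sSup (𝒦 \ O)).subgroupOf (P : Subgroup G)) = p := by
    intro O hO hne hne' hx
    obtain ⟨i1, i2⟩ := hinv O hO hx
    obtain ⟨hs, hb⟩ := part_sylow P h0 h1 O hO
    have hb' := (part_sylow P h0 h1 (𝒦 \ O) Set.sdiff_subset).2 hne'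
    have hd : (sSup O).subgroupOf (P : Subgroup G) ⊓
        (sSup (𝒦 \ O)).subgroupOf (P : Subgroup G) = ⊥ := by
      rw [Subgroup.subgroupOf, Subgroup.subgroupOf, ← Subgroup.comap_inf,
        (part_facts hF O hO).2.2.1]
      exact Subgroup.bot_subgroupOf _
    have h2 := relIndex_two (X := (P : Subgroup G)) _ _ hd
    have h3 := le_relIndex (X := (P : Subgroup G)) P.2 _ (hb hne)
    have h4 := le_relIndex (X := (P : Subgroup G)) P.2 _ hb'
    have h5 := index_mul (X := (P : Subgroup G)) P.2 Q h hQX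
    rw [hs, ← hQ] at h2
    generalize (⁅(sSup O).subgroupOf (P : Subgroup G),
      (⊤ : Subgroup (P : Subgroup G))⁆).relIndex ((sSup O).subgroupOf (P : Subgroup G)) = u at *
    generalize (⁅(sSup (𝒦 \ O)).subgroupOf (P : Subgroup G),
      (⊤ : Subgroup (P : Subgroup G))⁆).relIndex
        ((sSup (𝒦 \ O)).subgroupOf (P : Subgroup G)) = w at *
    generalize (⁅Q, (⊤ : Subgroup (P : Subgroup G))⁆).relIndex Q = r at *
    have hr : p ^ 2 ≤ r := by
      rw [pow_two]; exact (Nat.mul_le_mul h3 h4).trans h2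
    have hidx : Q.index = 1 := by
      refine le_antisymm (Nat.le_of_mul_le_mul_left ?_ (pow_pos hp.out.pos 2))
        (Nat.pos_of_ne_zero Subgroup.index_ne_zero_of_finite)
      rw [mul_one]
      exact (Nat.mul_le_mul_right _ hr).trans h5.le
    rw [hidx, mul_one] at h5
    refine ⟨Subgroup.index_eq_one.1 hidx, le_antisymm ?_ h3, le_antisymm ?_ h4⟩
    · exact Nat.le_of_mul_le_mul_right ((Nat.mul_le_mul_left _ h4).trans
        (h2.trans (h5.le.trans_eq (pow_two p)))) hp.out.pos
    · exact Nat.le_of_mul_le_mul_left ((Nat.mul_le_mul_right _ h3).trans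
        (h2.trans (h5.le.trans_eq (pow_two p)))) hp.out.pos
  have hsingle : ∀ C : Subgroup G, ∀ x : G, x ∈ Subgroup.normalizer (C : Set G) →
      C.map (MulAut.conj x).toMonoidHom = C := fun C x hx => Subgroup.mem_normalizer_iff_map_conj_eq.1 hx
  have hK1 : ({K} : Set (Subgroup G)) ⊆ 𝒦 := by simpa [h𝒦] using hK
  have hK2 : (𝒦 \ {K}).Nonempty := ⟨L, hL, fun he => hKL (Set.mem_singleton_iff.1 he).symm⟩
  obtain ⟨hs, hb⟩ := part_sylow P h0 h1 {K} hK1
  obtain ⟨-, -, hd, hc, -⟩ := part_facts hF {K} hK1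
  set A := (sSup {K}).subgroupOf (P : Subgroup G) with hA
  set B := (sSup (𝒦 \ {K})).subgroupOf (P : Subgroup G) with hB
  have hAB : ∀ a ∈ A, ∀ b ∈ B, a * b = b * a := fun a ha b hb' =>
    Subtype.ext (Subgroup.mem_centralizer_iff.1 (hc ha) _ hb').symm
  have hdAB : A ⊓ B = ⊥ := by
    rw [hA, hB, Subgroup.subgroupOf, Subgroup.subgroupOf, ← Subgroup.comap_inf, hd]
    exact Subgroup.bot_subgroupOf _
  by_cases htop : Q = ⊤
  · have hx : ∀ x : (P : Subgroup G), ∀ C ∈ ({K} : Set (Subgroup G)),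
        C.map (MulAut.conj (x : G)).toMonoidHom ∈ ({K} : Set (Subgroup G)) := by
      rintro x C rfl
      exact hsingle C x (hnormQ x (htop ▸ Subgroup.mem_top x) C hK)
    obtain ⟨-, hu, hw⟩ := hirr {K} hK1 ⟨K, rfl⟩ hK2 hx
    obtain ⟨hAn, hBn⟩ := hinv {K} hK1 hx
    refine exists_of_card P (card_of_comm P h ?_)
    have hab : A ⊔ B = ⊤ := hs.trans htop
    have key : ∀ A B : Subgroup (P : Subgroup G), A.Normal → A ⊔ B = ⊤ →
        (∀ a ∈ A, ∀ b ∈ B, a * b = b * a) →
        (⁅A, (⊤ : Subgroup (P : Subgroup G))⁆).relIndex A = p →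
        ∀ a ∈ A, ∀ a' ∈ A, a * a' = a' * a := by
      intro A B hn hsup hcm hrel a ha a' ha'
      haveI := hn
      have hle : ⁅A, (⊤ : Subgroup (P : Subgroup G))⁆ ≤ (commutator A).map A.subtype := by
        refine Subgroup.commutator_le.2 fun m hm x hx => ?_
        obtain ⟨y, hy, z, hz, rfl⟩ := Subgroup.mem_sup_of_normal_left.1 (hsup ▸ hx)
        refine ⟨⁅⟨m, hm⟩, ⟨y, hy⟩⁆, Subgroup.commutator_mem_commutator (Subgroup.mem_top _)
          (Subgroup.mem_top _), ?_⟩
        have hz' : z * m⁻¹ * z⁻¹ = m⁻¹ := by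
          rw [← hcm _ (inv_mem hm) z hz, mul_inv_cancel_right]
        calc A.subtype ⁅(⟨m, hm⟩ : A), ⟨y, hy⟩⁆ = m * y * m⁻¹ * y⁻¹ := rfl
          _ = m * y * (z * m⁻¹ * z⁻¹) * y⁻¹ := by rw [hz']
          _ = ⁅m, y * z⁆ := by simp only [commutatorElement_def]; group
      refine congrArg Subtype.val (comm_of_index_lt (X := A) (P.2.to_subgroup A) ?_
        ⟨a, ha⟩ ⟨a', ha'⟩)
      refine lt_of_le_of_lt (Nat.le_of_dvd (Nat.pos_of_ne_zero Subgroup.index_ne_zero_of_finite)
        (Subgroup.index_dvd_of_le (H := (⁅A, (⊤ : Subgroup (P : Subgroup G))⁆).subgroupOf A) ?_))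
        (hrel.trans_lt (lt_self_pow₀ hp.out.one_lt one_lt_two))
      intro m hm
      obtain ⟨m', hm', he⟩ := hle hm
      rwa [← A.subtype_injective he]
    have hcA := key A B hAn hab hAB hu
    have hcB := key B A hBn (sup_comm A B ▸ hab) (fun b hb a ha => (hAB a ha b hb).symm) hw
    intro x y
    obtain ⟨a, ha, b, hb', rfl⟩ := Subgroup.mem_sup_of_normal_left.1
      (hab ▸ Subgroup.mem_top x : x ∈ A ⊔ B)
    obtain ⟨a', ha', b', hb'', rfl⟩ := Subgroup.mem_sup_of_normal_left.1
      (hab ▸ Subgroup.mem_top y : y ∈ A ⊔ B)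
    rw [mul_assoc, ← mul_assoc b, ← hAB a' ha' b hb', mul_assoc a', ← mul_assoc, hcA a ha a' ha',
      hcB b hb' b' hb'', mul_assoc a', ← mul_assoc a, hAB a ha b' hb'', mul_assoc, ← mul_assoc]
  obtain ⟨hidx, hrel⟩ := index_eq_p (X := (P : Subgroup G)) P.2 Q h hQX htop
  have hall : ∀ O ⊆ 𝒦, O.Nonempty → (∀ x : (P : Subgroup G), ∀ C ∈ O,
      C.map (MulAut.conj (x : G)).toMonoidHom ∈ O) → ∀ C ∈ 𝒦, C ∈ O := fun O hO hne hx C hC =>
    by_contra fun hn => htop (hirr O hO hne ⟨C, hC, hn⟩ hx).1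
  -- only elements of `Q` normalise `K`
  have hstab : ∀ b : (P : Subgroup G), b ∉ Q → (b : G) ∉ Subgroup.normalizer (K : Set G) := by
    intro b hb' hbn
    have hP : ⊤ ≤ (Subgroup.normalizer (K : Set G)).subgroupOf (P : Subgroup G) := by
      rw [← sup_zpowers_of_prime_index Q hidx hb']
      exact sup_le (fun x hx => hnormQ x hx K hK) (Subgroup.zpowers_le.2 hbn)
    refine (Set.singleton_ne_empty L) (Set.eq_empty_iff_forall_notMem.2 fun _ _ => hKL ?_)
    exact (Set.mem_singleton_iff.1 (hall {K} hK1 ⟨K, rfl⟩ (fun x C hC => by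
      rw [Set.mem_singleton_iff.1 hC]
      exact hsingle K x (hP (Subgroup.mem_top x))) L hL)).symm
  haveI hQn : Q.Normal := inferInstanceAs (E.subgroupOf (P : Subgroup G)).Normal
  have hAQ : A ≤ Q := le_sup_left.trans hs.le
  have hBQ : B ≤ Q := le_sup_right.trans hs.le
  -- the projection
  let e : A × B →* Q :=
    MonoidHom.noncommCoprod (Subgroup.inclusion hAQ) (Subgroup.inclusion hBQ)
      fun a b => Subtype.ext (hAB a a.2 b b.2)
  have hcm : ∀ (a : A) (b : B), Commute (Subgroup.inclusion hAQ a) (Subgroup.inclusion hBQ b) :=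
    fun a b => Subtype.ext (hAB a a.2 b b.2)
  have heb : Function.Bijective e := by
    refine ⟨(MonoidHom.noncommCoprod_injective _ _ _).2 ⟨Subgroup.inclusion_injective hAQ,
      Subgroup.inclusion_injective hBQ, ?_⟩, ?_⟩
    · rw [disjoint_iff, Subgroup.eq_bot_iff_forall]
      rintro _ ⟨⟨a, rfl⟩, b, hb'⟩
      have hab : (a : (P : Subgroup G)) = b := congrArg (fun u : Q => (u : (P : Subgroup G))) hb'.symm
      have : (a : (P : Subgroup G)) ∈ A ⊓ B := ⟨a.2, hab ▸ b.2⟩
      rw [hdAB, Subgroup.mem_bot] at this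
      exact Subtype.ext this
    · rintro ⟨q, hq⟩
      obtain ⟨a, ha, b, hb', rfl⟩ : ∃ a ∈ A, ∃ b ∈ B, a * b = q := by
        have hcr := MonoidHom.noncommCoprod_range A.subtype B.subtype
          (fun a b => hAB a a.2 b b.2)
        rw [Subgroup.range_subtype, Subgroup.range_subtype, hs] at hcr
        obtain ⟨⟨a, b⟩, hab⟩ : q ∈ (MonoidHom.noncommCoprod A.subtype B.subtype
          (fun a b => hAB a a.2 b b.2)).range := hcr ▸ hq
        exact ⟨a, a.2, b, b.2, hab⟩
      exact ⟨(⟨a, ha⟩, ⟨b, hb'⟩), rfl⟩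
  let prj : Q →* A := (MonoidHom.fst A B).comp (MulEquiv.ofBijective e heb).symm.toMonoidHom
  have hpA : ∀ (q : Q) (hq : (q : (P : Subgroup G)) ∈ A), prj q = ⟨q, hq⟩ := by
    intro q hq
    have : e (⟨q, hq⟩, 1) = q := Subtype.ext (mul_one (q : (P : Subgroup G)))
    change ((MulEquiv.ofBijective e heb).symm q).1 = _
    rw [MulEquiv.symm_apply_eq (MulEquiv.ofBijective e heb) |>.2 this.symm]
  have hpB : ∀ (q : Q), (q : (P : Subgroup G)) ∈ B → prj q = 1 := by
    intro q hq
    have : e (1, ⟨q, hq⟩) = q := Subtype.ext (one_mul (q : (P : Subgroup G)))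
    change ((MulEquiv.ofBijective e heb).symm q).1 = _
    rw [MulEquiv.symm_apply_eq (MulEquiv.ofBijective e heb) |>.2 this.symm]
  have hker : ∀ q : Q, prj q = 1 → (q : (P : Subgroup G)) ∈ B := by
    intro q hq
    obtain ⟨⟨a, b⟩, rfl⟩ := heb.2 q
    have : prj (e (a, b)) = a := by
      change ((MulEquiv.ofBijective e heb).symm ((MulEquiv.ofBijective e heb) (a, b))).1 = a
      rw [MulEquiv.symm_apply_apply]
    rw [this] at hq
    subst hq
    have he : ((e (1, b) : Q) : (P : Subgroup G)) = (1 : (P : Subgroup G)) * b := rfl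
    rw [he, one_mul]
    exact b.2
  let φ : Q →* Abelianization A := Abelianization.of.comp prj
  let τ : (P : Subgroup G) →* Abelianization A := MonoidHom.transfer φ
  have hτ : ∀ q : Q, (q : (P : Subgroup G)) ∈ A → τ q = φ q := by
    intro q hq
    rw [show τ = MonoidHom.transfer φ from rfl, MonoidHom.transfer_def φ default]
    unfold Subgroup.leftTransversals.diff
    simp only [Subgroup.smul_apply_eq_smul_apply_inv_smul]
    letI := Q.fintypeQuotientOfFiniteIndex
    set T : Q.LeftTransversal := default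
    have hfix : ∀ c : (P : Subgroup G) ⧸ Q, ((q : (P : Subgroup G))⁻¹) • c = c := by
      intro c
      obtain ⟨x, rfl⟩ := QuotientGroup.mk_surjective c
      refine (QuotientGroup.eq.2 ?_).symm
      exact mul_assoc x⁻¹ _ x ▸ hQn.conj_mem' _ (inv_mem q.2) x
    rw [Finset.prod_eq_single_of_mem (((1 : (P : Subgroup G)) : (P : Subgroup G) ⧸ Q))
      (Finset.mem_univ _) fun c _ hne => ?_]
    · set t : (P : Subgroup G) := ((T.2.leftQuotientEquiv ((1 : (P : Subgroup G)) :
        (P : Subgroup G) ⧸ Q)) : (P : Subgroup G))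
      have ht : t ∈ Q := (QuotientGroup.eq_one_iff t).1
        ((T.2.leftQuotientEquiv.symm_apply_apply _ :))
      rw [← mul_one (φ q), ← inv_mul_cancel (φ ⟨t, ht⟩), ← map_inv, ← mul_assoc,
        mul_comm (φ q), ← map_mul, ← map_mul]
      refine congrArg φ (Subtype.ext ?_)
      simp only [hfix, smul_eq_mul, Subgroup.coe_mul, InvMemClass.coe_inv]
      rw [mul_assoc]
    · rw [show φ = Abelianization.of.comp prj from rfl, MonoidHom.comp_apply]
      convert map_one (Abelianization.of (G := A))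
      refine hpB _ ?_
      simp only [hfix, smul_eq_mul]
      set t : (P : Subgroup G) := ((T.2.leftQuotientEquiv c) : (P : Subgroup G))
      have ht : t⁻¹ ∉ Q := fun ht => hne (by
        rw [← T.2.leftQuotientEquiv.symm_apply_apply c]
        exact (QuotientGroup.eq_one_iff t).2 (Subgroup.inv_mem_iff _ |>.1 ht))
      refine le_sSup (α := Subgroup G) (s := 𝒦 \ {K}) (a := K.map (MulAut.conj ((t⁻¹ : (P : Subgroup G)) :
        G)).toMonoidHom) ⟨component_conj hK _, fun he => hstab _ ht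
          (Subgroup.mem_normalizer_iff_map_conj_eq.2 (Set.mem_singleton_iff.1 he))⟩ ?_
      refine ⟨((q : (P : Subgroup G)) : G), ?_, ?_⟩
      · exact (sSup_singleton (a := K)).le hq
      · simp [mul_assoc]
  have hcardA : Nat.card (Abelianization A) ≤ p := by
    have hsurj : (τ.comp Q.subtype).range = ⊤ := by
      refine eq_top_iff.2 fun z _ => ?_
      obtain ⟨a, rfl⟩ := Quotient.mk_surjective z
      refine ⟨⟨a, hAQ a.2⟩, ?_⟩
      rw [MonoidHom.comp_apply, Subgroup.subtype_apply, hτ _ a.2]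
      exact congrArg Abelianization.of (hpA _ a.2)
    obtain ⟨a, ha⟩ := exists_generator (X := (P : Subgroup G)) P.2 Q h hQX
    have hd' : (⁅Q, (⊤ : Subgroup (P : Subgroup G))⁆).subgroupOf Q ≤ (τ.comp Q.subtype).ker :=
      fun x hx => Abelianization.commutator_subset_ker τ
        (by rw [commutator_eq_of_sup_zpowers Q ha]; exact hx)
    have h7 := Nat.le_of_dvd (by rw [← Subgroup.relIndex, hrel]; exact hp.out.pos)
      (Subgroup.index_dvd_of_le hd')
    rw [Subgroup.index_ker, hsurj, Subgroup.card_top] at h7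
    exact h7.trans_eq hrel
  have hAcard : Nat.card A ≤ p := by
    have hcA : ∀ x y : A, x * y = y * x := comm_of_index_lt (P.2.to_subgroup A)
      ((Subgroup.index_eq_card _).trans_lt
        (hcardA.trans_lt (lt_self_pow₀ hp.out.one_lt one_lt_two)))
    have h8 : (commutator A).index ≤ p := (Subgroup.index_eq_card _).trans_le hcardA
    rwa [comm_eq_bot hcA, Subgroup.index_bot] at h8
  obtain ⟨a, -, ha⟩ := SetLike.exists_of_lt (Ne.lt_top htop)
  refine exists_of_bound P h E a ha fun b hbE => (centralizer_le Q b).trans ?_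
  rw [hidx, pow_two]
  refine Nat.mul_le_mul_left _ (le_trans ?_ hAcard)
  refine Nat.card_le_card_of_injective (fun c => prj ⟨c.1, c.2.1⟩) ?_
  intro c d hcd
  have hq : prj (⟨c.1, c.2.1⟩⁻¹ * ⟨d.1, d.2.1⟩) = 1 := by
    rw [map_mul, map_inv, show prj ⟨c.1, c.2.1⟩ = prj ⟨d.1, d.2.1⟩ from hcd, inv_mul_cancel]
  have hqB := hker _ hq
  set q : (P : Subgroup G) := (c.1)⁻¹ * d.1 with hqdef
  have hqc : q ∈ Subgroup.centralizer ({b} : Set (P : Subgroup G)) :=
    mul_mem (inv_mem c.2.2) d.2.2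
  suffices hq1 : q = 1 from Subtype.ext (inv_mul_eq_one.1 hq1)
  set O : Set (Subgroup G) := {C ∈ 𝒦 | ∀ t ∈ C, t * (q : G) = (q : G) * t}
  have hOK : K ∈ O := ⟨hK, fun t ht => (Subgroup.mem_centralizer_iff.1
    (hc ((sSup_singleton (a := K)).symm.le ht)) _ hqB).symm⟩
  have hO : ∀ C ∈ 𝒦, C ∈ O := hall O (fun C hC => hC.1) ⟨K, hOK⟩ (by
    intro x C hC
    have hx : x ∈ Q ⊔ Subgroup.zpowers b :=
      (sup_zpowers_of_prime_index Q hidx (a := b) hbE).symm ▸ Subgroup.mem_top x
    obtain ⟨m, hm, z, hz, rfl⟩ := Subgroup.mem_sup_of_normal_left.1 hx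
    have hm' := hsingle _ _ (hnormQ m hm _
      (component_conj hC.1 ((z : (P : Subgroup G)) : G)))
    have e1 : C.map (MulAut.conj ((m * z : (P : Subgroup G)) : G)).toMonoidHom =
        C.map (MulAut.conj (z : G)).toMonoidHom := by
      conv_rhs => rw [← hm']
      rw [Subgroup.map_map]
      congr 1
      ext y
      simp [mul_assoc]
    rw [e1]
    refine ⟨component_conj hC.1 _, ?_⟩
    rintro _ ⟨t, ht, rfl⟩
    obtain ⟨i, rfl⟩ := Subgroup.mem_zpowers_iff.1 hz
    have hbq : Commute ((b ^ i : (P : Subgroup G)) : G) (q : G) :=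
      congrArg Subtype.val
        ((show Commute b q from (Subgroup.mem_centralizer_singleton_iff.1 hqc).symm).zpow_left i).eq
    have htq : Commute t (q : G) := hC.2 t ht
    exact ((hbq.mul_left htq).mul_left hbq.inv_left).eq)
  refine Subtype.ext (eq_one_of_central_in_commuting 𝒦
    (fun C hC D hD hne => components_commute hC hD hne)
    (fun C hC => center_component_eq_bot hF hC)
    (show (q : G) ∈ sSup 𝒦 from hBQ hqB) fun C hC x hx => (hO C hC).2 x hx)

end Cfsg.Agent.Solv.PSq
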