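import Cfsg.Agent.Lib.Solv.KegelProduct
import Cfsg.Agent.S0572

/-!
Derived length of a product of an abelian subgroup and a subgroup of class two.
-/

set_option autoImplicit false
set_option linter.style.haveILetI false
set_option linter.unusedSectionVars false

open scoped commutatorElement

namespace Cfsg.Agent.Solv.AbClassTwo

universe u

theorem derived_add {G : Type u} [Group G] (T : Subgroup G) {m : ℕ} (h : derivedSeries G m ≤ T) :
    ∀ k, derivedSeries G (m + k) ≤ (derivedSeries T k).map T.subtype := by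
  intro k
  induction k with
  | zero => rw [derivedSeries_zero, ← MonoidHom.range_eq_map, Subgroup.range_subtype]; exact h
  | succ k ih =>
    rw [← add_assoc, derivedSeries_succ, derivedSeries_succ, Subgroup.map_commutator]
    exact Subgroup.commutator_mono ih ih

theorem key {H : Type u} [Group H] [Group.IsSolvable H] (A K Z : Subgroup H)
    (hA : ∀ a ∈ A, ∀ a' ∈ A, a * a' = a' * a) (hZK : ∀ z ∈ Z, ∀ k ∈ K, z * k = k * z)
    (hle : Z ≤ ⁅K, K⁆) (hgen : A ⊔ Z = ⊤) : Z = ⊥ := by
  obtain ⟨D, hD⟩ : ∃ D, D = derivedSeries H 2 := ⟨_, rfl⟩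
  haveI hDn : D.Normal := hD ▸ derivedSeries_normal H 2
  have hD' : D = ⁅derivedSeries H 1, derivedSeries H 1⁆ := by rw [hD, derivedSeries_succ]
  have hZ1 : Z ≤ derivedSeries H 1 := by
    rw [derivedSeries_succ, derivedSeries_zero]
    exact hle.trans (Subgroup.commutator_mono le_top le_top)
  obtain ⟨N, hN⟩ : ∃ N, N = Subgroup.normalClosure (Z : Set H) := ⟨_, rfl⟩
  haveI hNn : N.Normal := hN ▸ inferInstance
  have hZN : Z ≤ N := hN ▸ Subgroup.le_normalClosure
  -- the quotient by `D` has abelian image of `N`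
  let f := QuotientGroup.mk' D
  have hNab : ∀ x ∈ N, ∀ y ∈ N, f x * f y = f y * f x := by
    intro x hx y hy
    have h1 : N ≤ derivedSeries H 1 := by
      rw [hN]
      haveI := derivedSeries_normal H 1
      exact Subgroup.normalClosure_le_normal hZ1
    rw [← commutatorElement_eq_one_iff_mul_comm, ← map_commutatorElement]
    refine (QuotientGroup.eq_one_iff _).2 ?_
    rw [hD']
    exact Subgroup.commutator_mem_commutator (h1 hx) (h1 hy)
  have hdec : ∀ h : H, ∃ a ∈ A, ∃ v ∈ N, h = a * v := by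
    intro h
    have : h ∈ A ⊔ N := (hgen.ge.trans (sup_le_sup_left hZN A)) trivial
    obtain ⟨a, ha, v, hv, e⟩ := Subgroup.mem_sup_of_normal_right.1 this
    exact ⟨a, ha, v, hv, e.symm⟩
  have hH'N : derivedSeries H 1 ≤ N := by
    rw [derivedSeries_succ, derivedSeries_zero, Subgroup.commutator_le]
    intro x _ y _
    rw [← QuotientGroup.eq_one_iff, ← QuotientGroup.mk'_apply, map_commutatorElement,
      commutatorElement_eq_one_iff_mul_comm]
    obtain ⟨a, ha, v, hv, rfl⟩ := hdec x
    obtain ⟨a', ha', v', hv', rfl⟩ := hdec y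
    rw [map_mul, map_mul, show QuotientGroup.mk' N v = 1 from (QuotientGroup.eq_one_iff v).2 hv,
      show QuotientGroup.mk' N v' = 1 from (QuotientGroup.eq_one_iff v').2 hv', mul_one, mul_one,
      ← map_mul, ← map_mul, hA a ha a' ha']
  -- the `A`-part of an element of `K` centralizes `N` modulo `D`
  have hcentr : ∀ k ∈ K, ∀ a ∈ A, ∀ v ∈ N, k = a * v → ∀ x ∈ N, f a * f x = f x * f a := by
    intro k hk a ha v hv e
    have hz : ∀ z ∈ Z, f a * f z = f z * f a := by
      intro z hz
      have h1 : f z * f k = f k * f z := by rw [← map_mul, hZK z hz k hk, map_mul]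
      rw [e, map_mul, ← mul_assoc, mul_assoc (f a) (f v), hNab v hv z (hZN hz), ← mul_assoc] at h1
      exact (mul_right_cancel h1).symm
    have hle : N ≤ (Subgroup.centralizer ({f a} : Set (H ⧸ D))).comap f := by
      rw [hN]
      refine (Subgroup.closure_le _).2 fun w hw => ?_
      obtain ⟨z, hz', hc⟩ := Group.mem_conjugatesOfSet_iff.1 hw
      obtain ⟨g, rfl⟩ := isConj_iff.1 hc
      rw [SetLike.mem_coe, Subgroup.mem_comap, Subgroup.mem_centralizer_singleton_iff]
      obtain ⟨c, hcA, u, hu, rfl⟩ := hdec g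
      have h1 : f (c * u * z * (c * u)⁻¹) = f c * f z * (f c)⁻¹ := by
        calc f (c * u * z * (c * u)⁻¹) = f c * (f u * f z) * (f u)⁻¹ * (f c)⁻¹ := by
              simp [mul_assoc]
          _ = _ := by rw [hNab u hu z (hZN hz'), mul_assoc (f c), mul_inv_cancel_right]
      have h2 : f a * f c = f c * f a := by rw [← map_mul, ← map_mul, hA a ha c hcA]
      have h3 : Commute (f a) (f c) := h2
      rw [h1]
      exact ((h3.mul_right (hz z hz')).mul_right h3.inv_right).eq.symm
    intro x hx
    exact (Subgroup.mem_centralizer_singleton_iff.1 (hle hx)).symm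
  have hKD : ⁅K, K⁆ ≤ D := by
    rw [Subgroup.commutator_le]
    intro x hx y hy
    rw [← QuotientGroup.eq_one_iff, ← QuotientGroup.mk'_apply, map_commutatorElement,
      commutatorElement_eq_one_iff_mul_comm]
    obtain ⟨a, ha, v, hv, e⟩ := hdec x
    obtain ⟨a', ha', v', hv', e'⟩ := hdec y
    have h1 : Commute (f a) (f v') := hcentr x hx a ha v hv e v' hv'
    have h2 : Commute (f a') (f v) := hcentr y hy a' ha' v' hv' e' v hv
    have h3 : Commute (f a) (f a') := by
      show f a * f a' = f a' * f a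
      rw [← map_mul, ← map_mul, hA a ha a' ha']
    have h4 : Commute (f v) (f v') := hNab v hv v' hv'
    rw [e, e', map_mul, map_mul]
    exact ((h3.mul_right h1).mul_left (h2.symm.mul_right h4)).eq
  have hND : N ≤ D := hN ▸ Subgroup.normalClosure_le_normal (hle.trans hKD)
  have h12 : derivedSeries H 1 = derivedSeries H 2 :=
    le_antisymm ((hH'N.trans hND).trans hD.le) (derivedSeries_antitone H (by norm_num))
  obtain ⟨d, hd⟩ := (inferInstance : Group.IsSolvable H)
  have hall : ∀ m, derivedSeries H (m + 1) = derivedSeries H 1 := by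
    intro m
    induction m with
    | zero => rfl
    | succ m ih => rw [derivedSeries_succ, ih, ← derivedSeries_succ, h12]
  have hbot : derivedSeries H 1 = ⊥ := by
    rw [← hall d]
    exact le_bot_iff.1 ((derivedSeries_antitone H (Nat.le_succ d)).trans hd.le)
  exact le_bot_iff.1 (hZ1.trans hbot.le)

theorem main : ∀ (n : ℕ) (G : Type u) [Group G] [Finite G] (A B : Subgroup G),
    (∀ a ∈ A, ∀ a' ∈ A, a * a' = a' * a) → (∀ z ∈ (⁅B, B⁆ : Subgroup G), ∀ b ∈ B, z * b = b * z) →
    (∀ g : G, ∃ a ∈ A, ∃ b ∈ B, g = a * b) → Nat.card (⁅B, B⁆ : Subgroup G) = n →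
    derivedSeries G (2 * (1 + n.primeFactorsList.length)) = ⊥ := by
  intro n
  induction n using Nat.strong_induction_on with
  | _ n ih =>
    intro G _ _ A B hA hB hAB hn
    haveI hAi : IsMulCommutative A := ⟨⟨fun a a' => Subtype.ext (hA a a.2 a' a'.2)⟩⟩
    obtain ⟨Z, hZdef⟩ : ∃ Z, Z = (⁅B, B⁆ : Subgroup G) := ⟨_, rfl⟩
    rw [← hZdef] at hn hB
    have hZB : Z ≤ B := hZdef ▸ Subgroup.commutator_le_self B
    rcases eq_or_ne Z ⊥ with hbot | hne
    · haveI : IsMulCommutative B := ⟨⟨fun b b' => Subtype.ext (commutatorElement_eq_one_iff_mul_comm.1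
        (Subgroup.mem_bot.1 (hbot ▸ hZdef ▸ Subgroup.commutator_mem_commutator b.2 b'.2)))⟩⟩
      refine le_bot_iff.1 ((derivedSeries_antitone G (show 2 ≤ 2 * (1 + n.primeFactorsList.length) by omega)).trans ?_)
      rw [S0572.result A B hAB]
    obtain ⟨N, hN⟩ : ∃ N, N = Subgroup.normalClosure (Z : Set G) := ⟨_, rfl⟩
    haveI hNn : N.Normal := hN ▸ inferInstance
    have h2N : derivedSeries G 2 ≤ N := by
      let f := QuotientGroup.mk' N
      haveI : IsMulCommutative (A.map f) := ⟨⟨by
        rintro ⟨_, a, ha, rfl⟩ ⟨_, a', ha', rfl⟩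
        exact Subtype.ext (show f a * f a' = f a' * f a by rw [← map_mul, ← map_mul, hA a ha a' ha'])⟩⟩
      haveI : IsMulCommutative (B.map f) := ⟨⟨by
        rintro ⟨_, a, ha, rfl⟩ ⟨_, a', ha', rfl⟩
        refine Subtype.ext (show f a * f a' = f a' * f a from ?_)
        rw [← commutatorElement_eq_one_iff_mul_comm, ← map_commutatorElement]
        exact (QuotientGroup.eq_one_iff _).2 (hN ▸ Subgroup.le_normalClosure
          (show ⁅a, a'⁆ ∈ (Z : Set G) from hZdef ▸ Subgroup.commutator_mem_commutator ha ha'))⟩⟩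
      have hq := S0572.result (A.map f) (B.map f) fun x => by
        obtain ⟨g, rfl⟩ := QuotientGroup.mk'_surjective N x
        obtain ⟨a, ha, b, hb, rfl⟩ := hAB g
        exact ⟨f a, ⟨a, ha, rfl⟩, f b, ⟨b, hb, rfl⟩, map_mul f a b⟩
      rw [← map_derivedSeries_eq (QuotientGroup.mk'_surjective N), Subgroup.map_eq_bot_iff,
        QuotientGroup.ker_mk'] at hq
      exact hq
    obtain ⟨H, hH⟩ : ∃ H, H = A ⊔ Z := ⟨_, rfl⟩
    have hAH : A ≤ H := hH ▸ le_sup_left
    have hZH : Z ≤ H := hH ▸ le_sup_right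
    have hNH : N ≤ H := by
      rw [hN]
      refine (Subgroup.closure_le _).2 fun w hw => ?_
      obtain ⟨z, hz, hc⟩ := Group.mem_conjugatesOfSet_iff.1 hw
      obtain ⟨g, rfl⟩ := isConj_iff.1 hc
      obtain ⟨a, ha, b, hb, rfl⟩ := hAB g
      have hzb : b * z * b⁻¹ = z := by rw [← hB z hz b hb, mul_inv_cancel_right]
      rw [show a * b * z * (a * b)⁻¹ = a * (b * z * b⁻¹) * a⁻¹ by group, hzb]
      exact H.mul_mem (H.mul_mem (hAH ha) (hZH hz)) (H.inv_mem (hAH ha))
    obtain ⟨K, hK⟩ : ∃ K, K = B.subgroupOf H := ⟨_, rfl⟩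
    have hKle : (⁅K, K⁆ : Subgroup H).map H.subtype ≤ Z := by
      rw [Subgroup.map_commutator, hZdef]
      exact Subgroup.commutator_mono (hK ▸ Subgroup.map_comap_le _ _) (hK ▸ Subgroup.map_comap_le _ _)
    have hA' : ∀ a ∈ A.subgroupOf H, ∀ a' ∈ A.subgroupOf H, a * a' = a' * a :=
      fun a ha a' ha' => Subtype.ext (hA a ha a' ha')
    have hAB' : ∀ x : H, ∃ a ∈ A.subgroupOf H, ∃ b ∈ K, x = a * b := by
      intro x
      obtain ⟨a, ha, b, hb, e⟩ := hAB (x : G)
      have hbH : b ∈ H := by
        rw [show b = a⁻¹ * (x : G) by rw [e, inv_mul_cancel_left]]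
        exact H.mul_mem (H.inv_mem (hAH ha)) x.2
      exact ⟨⟨a, hAH ha⟩, ha, ⟨b, hbH⟩, hK ▸ hb, Subtype.ext e⟩
    have hB' : ∀ z ∈ (⁅K, K⁆ : Subgroup H), ∀ b ∈ K, z * b = b * z := fun z hz b hb =>
      Subtype.ext (hB _ (hKle ⟨z, hz, rfl⟩) _ (show (b : G) ∈ B by rw [hK] at hb; exact hb))
    have hlt : Nat.card (⁅K, K⁆ : Subgroup H) < n := by
      rw [← hn, ← card_map_subtype (⁅K, K⁆ : Subgroup H)]
      refine card_lt_of_lt (lt_of_le_of_ne hKle fun e => hne ?_)
      haveI : Group.IsNilpotent B := by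
        have hker : (Abelianization.of : B →* Abelianization B).ker ≤ Subgroup.center B := by
          rw [Abelianization.ker_of]
          intro z hz
          rw [Subgroup.mem_center_iff]
          intro b
          refine Subtype.ext ((hB z ?_ b b.2).symm)
          rw [hZdef]
          have h1 : (z : G) ∈ (commutator B).map B.subtype := ⟨z, hz, rfl⟩
          rw [commutator_def, Subgroup.map_commutator, ← MonoidHom.range_eq_map, Subgroup.range_subtype] at h1
          exact h1
        haveI : Group.IsNilpotent (Abelianization B) := CommGroup.isNilpotent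
        exact Subgroup.isNilpotent_of_ker_le_center _ hker
      haveI : Group.IsNilpotent A := @CommGroup.isNilpotent A { (inferInstance : Group A) with mul_comm := hAi.is_comm.comm }
      haveI : Group.IsSolvable G := Cfsg.Agent.Solv.Fct.kegel _ G A B rfl inferInstance inferInstance hAB
      have hZ' := key (A.subgroupOf H) K (Z.subgroupOf H) hA'
        (fun z hz k hk => Subtype.ext (hB z hz k (show (k : G) ∈ B by rw [hK] at hk; exact hk))) (fun z hz => by
          have h1 : (z : G) ∈ (⁅K, K⁆ : Subgroup H).map H.subtype := e.symm ▸ hz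
          obtain ⟨w, hw, hwz⟩ := h1
          exact Subtype.ext hwz ▸ hw) (by
          rw [← Subgroup.subgroupOf_sup hAH hZH, ← hH, Subgroup.subgroupOf_self])
      rwa [Subgroup.subgroupOf_eq_bot, disjoint_iff, inf_eq_left.2 hZH] at hZ'
    have hH0 := ih _ hlt H (A.subgroupOf H) K hA' hB' hAB' rfl
    have hd : Nat.card (⁅K, K⁆ : Subgroup H) ∣ n := by
      rw [← hn, ← card_map_subtype (⁅K, K⁆ : Subgroup H)]; exact Subgroup.card_dvd_of_le hKle
    have hlen : (Nat.card (⁅K, K⁆ : Subgroup H)).primeFactorsList.length + 1 ≤ n.primeFactorsList.length := by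
      obtain ⟨e, he⟩ := hd
      have hn0 : n ≠ 0 := hn ▸ Nat.card_pos.ne'
      have he0 : e ≠ 0 := fun h => hn0 (by rw [he, h, mul_zero])
      have he1 : 1 < e := by
        by_contra h
        have : e = 1 := by omega
        rw [this, mul_one] at he
        omega
      have hp := (Nat.perm_primeFactorsList_mul (a := Nat.card (⁅K, K⁆ : Subgroup H)) (b := e) Nat.card_pos.ne' he0).length_eq
      rw [List.length_append, ← he] at hp
      have : 0 < e.primeFactorsList.length := by
        rw [List.length_pos_iff]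
        intro hnil
        rcases (Nat.primeFactorsList_eq_nil _).1 hnil with h | h <;> omega
      omega
    refine le_bot_iff.1 ((derivedSeries_antitone G (show 2 + 2 * (1 + (Nat.card (⁅K, K⁆ : Subgroup H)).primeFactorsList.length) ≤
      2 * (1 + n.primeFactorsList.length) by omega)).trans ?_)
    refine (derived_add H (h2N.trans hNH) _).trans ?_
    rw [hH0, Subgroup.map_bot]

end Cfsg.Agent.Solv.AbClassTwo
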