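import Mathlib
import Cfsg.Agent.Lib.Solv.AbelianConj

/-!
Finite groups in which two abelian subgroups of the same order are conjugate: quotients by normal
subgroups of odd order, Sylow subgroups and quotients of solvable such groups.
-/

set_option autoImplicit false
set_option linter.style.haveILetI false

open scoped Pointwise commutatorElement

namespace Cfsg.Agent.Solv.AbelianConj

universe u

variable {G : Type u} [Group G] [Finite G]

theorem quot_odd (hB : BConj G) (M : Subgroup G) [M.Normal] (hM : Odd (Nat.card M)) :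
    BConj (G ⧸ M) := by
  have hodd : ∀ q : ℕ, q ∣ Nat.card M → q ≠ 2 := by
    rintro q h rfl
    exact Nat.not_even_iff_odd.2 hM (even_iff_two_dvd.2 h)
  refine lift hB M ?_ ?_
  · intro q hq hqM hqI X hX hXM
    haveI := Fact.mk hq
    obtain ⟨P, hXP⟩ := hX.exists_le_sylow
    haveI := cyclic_of_odd_shared hB (hodd q hqM) M hqM hqI P.2
    exact inf_of_cyclic_sylow P M hXP hXM
  · intro q hq hqM hqI X hX
    haveI := Fact.mk hq
    exact Or.inl (comm_of_isCyclic (cyclic_of_odd_shared hB (hodd q hqM) M hqM hqI hX))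

theorem exists_max_coprime_normal (p : ℕ) [hp : Fact p.Prime] :
    ∃ K : Subgroup G, K.Normal ∧ ¬ p ∣ Nat.card K ∧
      ∀ T : Subgroup G, T.Normal → ¬ p ∣ Nat.card T → Nat.card T ≤ Nat.card K := by
  obtain ⟨K, ⟨h1, h2⟩, hmax⟩ := Set.exists_max_image
    {K : Subgroup G | K.Normal ∧ ¬ p ∣ Nat.card K} (fun K => Nat.card K) (Set.toFinite _)
    ⟨⊥, inferInstance, by rw [Subgroup.card_bot]; exact hp.out.not_dvd_one⟩
  exact ⟨K, h1, h2, fun T hT hT' => hmax T ⟨hT, hT'⟩⟩

theorem quot_no_coprime_normal {p : ℕ} [hp : Fact p.Prime] {K : Subgroup G} [K.Normal]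
    (hKp : ¬ p ∣ Nat.card K)
    (hmax : ∀ T : Subgroup G, T.Normal → ¬ p ∣ Nat.card T → Nat.card T ≤ Nat.card K)
    (T : Subgroup (G ⧸ K)) [T.Normal] (hT : ¬ p ∣ Nat.card T) : T = ⊥ := by
  have h := hmax (T.comap (QuotientGroup.mk' K)) (Subgroup.Normal.comap inferInstance _) (by
    rw [card_comap_mk']
    exact fun h => (hp.out.dvd_mul.1 h).elim hT hKp)
  rw [card_comap_mk'] at h
  refine Subgroup.card_eq_one.1 ?_
  have h1 := Nat.card_pos (α := T)
  have h2 := Nat.card_pos (α := K)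
  by_contra hne
  have : 2 ≤ Nat.card T := by omega
  nlinarith

/-- In a solvable group a `p`-subgroup of exponent `p` is abelian. -/
theorem comm_of_exp (hB : BConj G) (hsol : Group.IsSolvable G) {p : ℕ} [hp : Fact p.Prime]
    {P : Subgroup G} (hP : IsPGroup p P) (hexp : ∀ x ∈ P, x ^ p = 1) : IsMulCommutative P := by
  by_cases hP1 : P = ⊥
  · subst hP1; exact ⟨⟨fun a b => Subsingleton.elim _ _⟩⟩
  obtain ⟨K, hKn, hKp, hmax⟩ := exists_max_coprime_normal (G := G) p
  haveI := hKn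
  set f := QuotientGroup.mk' K with hf
  have hpG : p ∣ Nat.card G := by
    obtain ⟨k, hk⟩ := IsPGroup.iff_card.1 hP
    refine (dvd_trans (dvd_pow_self p fun h => ?_) hk.symm.dvd).trans
      (Subgroup.card_subgroup_dvd_card P)
    exact hP1 (Subgroup.card_eq_one.1 (by rw [hk, h, pow_zero]))
  haveI : Nontrivial (G ⧸ K) := by
    rw [← Finite.one_lt_card_iff_nontrivial, ← Subgroup.index_eq_card]
    by_contra h
    have : K.index = 1 := by
      have := Nat.pos_of_ne_zero (Subgroup.index_ne_zero_of_finite (H := K)); omega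
    exact hKp (by rw [Subgroup.index_eq_one.1 this, Subgroup.card_top]; exact hpG)
  obtain ⟨N, hNn, hN1, hNmin⟩ := exists_minimal_normal (G := G ⧸ K)
  haveI := hNn
  haveI : Group.IsSolvable (G ⧸ K) :=
    Group.isSolvable_of_surjective (QuotientGroup.mk'_surjective K)
  obtain ⟨hNab, q, hq, -, hNq⟩ := minimal_normal_elementaryAbelian N inferInstance hN1 hNmin
  haveI := Fact.mk hq
  have hqp : q = p := by
    by_contra hne
    refine hN1 (quot_no_coprime_normal hKp hmax N fun h => hne ?_)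
    obtain ⟨k, hk⟩ := IsPGroup.iff_card.1 hNq
    rw [hk] at h
    exact ((Nat.prime_dvd_prime_iff_eq hp.out hq).1 (hp.out.dvd_of_dvd_pow h)).symm
  subst hqp
  have hdvd : q ∣ Nat.card N := by
    obtain ⟨k, hk⟩ := IsPGroup.iff_card.1 hNq
    rw [hk]
    exact dvd_pow_self q fun h => hN1 (Subgroup.card_eq_one.1 (by rw [hk, h, pow_zero]))
  obtain ⟨w, hw⟩ := exists_prime_orderOf_dvd_card' q hdvd
  have hWc : Nat.card (Subgroup.zpowers (w : G ⧸ K)) = q := by
    rw [Nat.card_zpowers, Subgroup.orderOf_coe, hw]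
  obtain ⟨U, -, hUmap, hUc⟩ := SameOrderConj.lift_pgroup K (Subgroup.zpowers (w : G ⧸ K))
    (IsPGroup.of_card (n := 1) (by rw [hWc, pow_one]))
  have hUc' : Nat.card U = q := by
    rw [hUc, hWc, Nat.factorization_mul hq.ne_zero Nat.card_pos.ne', Finsupp.add_apply,
      hq.factorization_self, Nat.factorization_eq_zero_of_not_dvd hKp, pow_one]
  have hPN : ∀ x ∈ P, f x ∈ N := by
    intro x hx
    by_cases h1 : x = 1
    · rw [h1, map_one]; exact one_mem _
    obtain ⟨g, hg⟩ := hB U (Subgroup.zpowers x) (comm_of_isCyclic (isCyclic_of_prime_card hUc'))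
      (comm_zpowers x) (by rw [hUc', Nat.card_zpowers, orderOf_eq_prime (hexp x hx) h1])
    have hu := hg.ge (Subgroup.mem_zpowers x)
    rw [mem_conj_smul] at hu
    have h2 : f (g⁻¹ * x * g) ∈ N :=
      Subgroup.zpowers_le.2 w.2 (hUmap ▸ ⟨_, hu, rfl⟩)
    have := Subgroup.Normal.conj_mem inferInstance _ h2 (f g)
    simpa [mul_assoc] using this
  refine ⟨⟨fun a b => Subtype.ext ?_⟩⟩
  have h1 : (a : G) * b * (a : G)⁻¹ * (b : G)⁻¹ ∈ P ⊓ K := by
    refine ⟨P.mul_mem (P.mul_mem (P.mul_mem a.2 b.2) (P.inv_mem a.2)) (P.inv_mem b.2), ?_⟩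
    show (a : G) * b * (a : G)⁻¹ * (b : G)⁻¹ ∈ K
    rw [← QuotientGroup.eq_one_iff]
    show f _ = 1
    have := congrArg Subtype.val (hNab.is_comm.comm (⟨_, hPN a a.2⟩ : N) ⟨_, hPN b b.2⟩)
    simp only [Subgroup.coe_mul] at this
    rw [map_mul, map_mul, map_mul, map_inv, map_inv, this, mul_inv_cancel_right, mul_inv_cancel]
  have h2 : P ⊓ K = ⊥ := by
    refine coprime_inf ?_
    obtain ⟨k, hk⟩ := IsPGroup.iff_card.1 hP
    rw [hk]
    exact ((Nat.Prime.coprime_iff_not_dvd hq).2 hKp).pow_left k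
  rw [h2, Subgroup.mem_bot, ← commutatorElement_def, commutatorElement_eq_one_iff_mul_comm] at h1
  exact h1

theorem xa_order_four {n : ℕ} [NeZero n] (i : ZMod (2 * n)) :
    Nat.card (Subgroup.zpowers (QuaternionGroup.xa i : QuaternionGroup n)) = 4 := by
  rw [Nat.card_zpowers, QuaternionGroup.orderOf_xa]

/-- In a solvable group a Sylow `2`-subgroup with one involution is cyclic or quaternion of order
eight. -/
theorem quaternion_small (hB : BConj G) (hsol : Group.IsSolvable G) (S : Sylow 2 G)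
    (hu : UniqueOrderP 2 (S : Subgroup G)) :
    IsCyclic (S : Subgroup G) ∨ Nonempty ((S : Subgroup G) ≃* QuaternionGroup 2) := by
  haveI := Fact.mk Nat.prime_two
  rcases cyclic_or_quaternion S.2 hu with h | ⟨-, n, ⟨e⟩⟩
  · exact Or.inl h
  rcases (show n = 0 ∨ n = 1 ∨ 2 ≤ n by omega) with rfl | rfl | hn
  · haveI : IsCyclic (QuaternionGroup (2 ^ 0)) := QuaternionGroup.quaternionGroup_one_isCyclic
    exact Or.inl (isCyclic_of_surjective e.symm.toMonoidHom e.symm.surjective)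
  · exact Or.inr ⟨e⟩
  exfalso
  have hn4 : 2 ^ 2 ≤ 2 ^ n := Nat.pow_le_pow_right two_pos hn
  obtain ⟨K, hKn, hKp, hmax⟩ := exists_max_coprime_normal (G := G) 2
  haveI := hKn
  set f := QuotientGroup.mk' K with hf
  have hBq : BConj (G ⧸ K) := quot_odd hB K
    (Nat.not_even_iff_odd.1 fun h => hKp (even_iff_two_dvd.1 h))
  haveI : Group.IsSolvable (G ⧸ K) :=
    Group.isSolvable_of_surjective (QuotientGroup.mk'_surjective K)
  set R : Sylow 2 (G ⧸ K) := S.mapSurjective (QuotientGroup.mk'_surjective K) with hR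
  have hRc : (R : Subgroup (G ⧸ K)) = (S : Subgroup G).map f := S.coe_mapSurjective _
  have hinj : Function.Injective (f.subgroupMap (S : Subgroup G)) := by
    rw [← MonoidHom.ker_eq_bot_iff]
    refine (Subgroup.eq_bot_iff_forall _).2 fun x hx => Subtype.ext ?_
    have h1 : (x : G) ∈ (S : Subgroup G) ⊓ K :=
      ⟨x.2, (QuotientGroup.eq_one_iff _).1 (congrArg Subtype.val (MonoidHom.mem_ker.1 hx))⟩
    rw [coprime_inf (H := (S : Subgroup G)) (K := K) (by
      rw [S.card_eq_multiplicity]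
      exact ((Nat.Prime.coprime_iff_not_dvd Nat.prime_two).2 hKp).pow_left _)] at h1
    exact Subgroup.mem_bot.1 h1
  let e' : QuaternionGroup (2 ^ n) ≃* (R : Subgroup (G ⧸ K)) :=
    e.symm.trans ((MulEquiv.ofBijective _ ⟨hinj, f.subgroupMap_surjective (S : Subgroup G)⟩).trans
      (MulEquiv.subgroupCongr hRc.symm))
  have hRu : UniqueOrderP 2 (R : Subgroup (G ⧸ K)) := by
    intro x y hx hy hy1
    set c : (S : Subgroup G) ≃* (R : Subgroup (G ⧸ K)) := e.trans e'
    obtain ⟨i, hi⟩ := hu (c.symm x) (c.symm y) (by rw [← map_pow, hx, map_one])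
      (by rw [← map_pow, hy, map_one]) (fun h => hy1 (by
        rw [← c.apply_symm_apply y, h, map_one]))
    exact ⟨i, c.symm.injective (by rw [map_zpow]; exact hi)⟩
  have hnorm_le : ∀ T : Subgroup (G ⧸ K), T.Normal → IsPGroup 2 T → T ≤ R := by
    intro T hT hTp
    haveI := hT
    obtain ⟨Q, hQ⟩ := hTp.exists_le_sylow
    obtain ⟨g, hg⟩ := MulAction.exists_smul_eq (G ⧸ K) Q R
    rw [← hg, ← Subgroup.Normal.conj_smul_eq_self g T]
    exact Subgroup.pointwise_smul_le_pointwise_smul_iff.2 hQ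
  have hcardR : Nat.card (R : Subgroup (G ⧸ K)) = 4 * 2 ^ n := by
    rw [← Nat.card_congr e'.toEquiv, Nat.card_eq_fintype_card, QuaternionGroup.card]
  haveI : Nontrivial (G ⧸ K) := by
    rw [← Finite.one_lt_card_iff_nontrivial]
    have := Nat.le_of_dvd Nat.card_pos (Subgroup.card_subgroup_dvd_card (R : Subgroup (G ⧸ K)))
    omega
  obtain ⟨Z, hZn, hZ1, hZmin⟩ := exists_minimal_normal (G := G ⧸ K)
  haveI := hZn
  obtain ⟨hZab, q, hq, hZexp, hZq⟩ := minimal_normal_elementaryAbelian Z inferInstance hZ1 hZmin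
  haveI := Fact.mk hq
  have hq2 : q = 2 := by
    by_contra hne
    refine hZ1 (quot_no_coprime_normal hKp hmax Z fun h => hne ?_)
    obtain ⟨k, hk⟩ := IsPGroup.iff_card.1 hZq
    rw [hk] at h
    exact ((Nat.prime_dvd_prime_iff_eq Nat.prime_two hq).1 (Nat.prime_two.dvd_of_dvd_pow h)).symm
  subst hq2
  have hZR := hnorm_le Z hZn hZq
  obtain ⟨⟨z, hzZ⟩, hz1'⟩ := Subgroup.ne_bot_iff_exists_ne_one.1 hZ1
  have hz1 : z ≠ 1 := fun h => hz1' (Subtype.ext h)
  have hZz : Z = Subgroup.zpowers z := by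
    refine le_antisymm (fun x hx => ?_) (Subgroup.zpowers_le.2 hzZ)
    obtain ⟨i, hi⟩ := hRu ⟨x, hZR hx⟩ ⟨z, hZR hzZ⟩ (Subtype.ext (hZexp x hx))
      (Subtype.ext (hZexp z hzZ)) (fun h => hz1 (congrArg Subtype.val h))
    exact ⟨i, congrArg Subtype.val hi⟩
  have hZc : Nat.card Z = 2 := by
    rw [hZz, Nat.card_zpowers, orderOf_eq_prime (hZexp z hzZ) hz1]
  haveI : Nontrivial ((G ⧸ K) ⧸ Z) := by
    refine QuotientGroup.nontrivial_iff.2 fun h => ?_
    have := Nat.le_of_dvd Nat.card_pos (Subgroup.card_subgroup_dvd_card (R : Subgroup (G ⧸ K)))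
    rw [h, Subgroup.card_top] at hZc
    omega
  obtain ⟨Tb, hTn, hT1, hTmin⟩ := exists_minimal_normal (G := (G ⧸ K) ⧸ Z)
  haveI := hTn
  haveI : Group.IsSolvable ((G ⧸ K) ⧸ Z) :=
    Group.isSolvable_of_surjective (QuotientGroup.mk'_surjective Z)
  obtain ⟨-, r, hr, -, hTr⟩ := minimal_normal_elementaryAbelian Tb inferInstance hT1 hTmin
  haveI := Fact.mk hr
  set T := Tb.comap (QuotientGroup.mk' Z) with hT
  haveI hTnorm : T.Normal := Subgroup.Normal.comap inferInstance _
  have hTc : Nat.card T = Nat.card Tb * 2 := by rw [hT, card_comap_mk', hZc]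
  have hTb2 : 2 ≤ Nat.card Tb := by
    have := Nat.card_pos (α := Tb)
    by_contra h
    exact hT1 (Subgroup.card_eq_one.1 (by omega))
  obtain ⟨b, hb⟩ := IsPGroup.iff_card.1 hTr
  have hTp : IsPGroup 2 T := by
    by_cases hr2 : r = 2
    · subst hr2
      exact IsPGroup.of_card (n := b + 1) (by rw [hTc, hb, pow_succ])
    exfalso
    have hodd : ¬ 2 ∣ Nat.card Tb := by
      rw [hb]
      exact fun h => hr2 ((Nat.prime_dvd_prime_iff_eq Nat.prime_two hr).1
        (Nat.prime_two.dvd_of_dvd_pow h)).symm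
    obtain ⟨U, hU⟩ := Sylow.exists_subgroup_card_pow_prime r
      (show r ^ b ∣ Nat.card T by rw [hTc, hb]; exact dvd_mul_right _ _)
    set U' := U.map T.subtype with hU'
    have hU'c : Nat.card U' = Nat.card Tb := by rw [hU', card_map_subtype, hU, hb]
    have hmul : ∀ t ∈ T, t ^ Nat.card Tb = 1 → t ∈ U' := by
      intro t ht htp
      have hZT : Z ≤ T := QuotientGroup.le_comap_mk' Z Tb
      have hsup : Z ⊔ U' = T := by
        refine Subgroup.eq_of_le_of_card_ge (sup_le hZT (Subgroup.map_subtype_le U)) ?_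
        have h1 := card_sup_of_inf_eq_bot Z U' (coprime_inf (by
          rw [hZc, hU'c]; exact (Nat.Prime.coprime_iff_not_dvd Nat.prime_two).2 hodd))
        rw [h1, hZc, hU'c, hTc, mul_comm]
      obtain ⟨x, hx, u, hu, rfl⟩ := Subgroup.mem_sup_of_normal_left.1 (hsup.ge ht)
      rw [hZz] at hx
      obtain ⟨i, rfl⟩ := hx
      have hzc : Commute z u := by
        have h1 : u * z * u⁻¹ ∈ Z := hZn.conj_mem z hzZ u
        rw [hZz] at h1
        obtain ⟨j, hj⟩ := h1
        simp only at hj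
        have hj1 : z ^ j ≠ 1 := by
          rw [hj]; exact fun h => hz1 (conj_eq_one_iff.1 h)
        have : z ^ j = z := by
          obtain ⟨m, rfl | rfl⟩ := Int.even_or_odd' j
          · exact absurd (by rw [zpow_mul, show z ^ (2 : ℤ) = 1 by
              rw [show (2 : ℤ) = ((2 : ℕ) : ℤ) from rfl, zpow_natCast, hZexp z hzZ], one_zpow]) hj1
          · rw [zpow_add_one, zpow_mul, show z ^ (2 : ℤ) = 1 by
              rw [show (2 : ℤ) = ((2 : ℕ) : ℤ) from rfl, zpow_natCast, hZexp z hzZ], one_zpow, one_mul]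
        rw [this] at hj
        calc z * u = u * z * u⁻¹ * u := by rw [← hj]
          _ = u * z := by group
      simp only at htp ⊢
      have hu1 : u ^ Nat.card Tb = 1 := by
        rw [← hU'c]
        exact congrArg Subtype.val (pow_card_eq_one' (x := (⟨u, hu⟩ : U')))
      rw [(hzc.zpow_left i).mul_pow, hu1, mul_one] at htp
      have hz2 : (z ^ i) ^ 2 = 1 := hZexp _ (Subgroup.zpow_mem _ hzZ i)
      have := pow_gcd_eq_one.mpr ⟨htp, hz2⟩
      rw [Nat.coprime_iff_gcd_eq_one.mp ((Nat.Prime.coprime_iff_not_dvd Nat.prime_two).2 hodd).symm,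
        pow_one] at this
      rw [this, one_mul]
      exact hu
    haveI : U'.Normal := ⟨fun u hu g => hmul _
      (hTnorm.conj_mem u (Subgroup.map_subtype_le U hu) g) (by
        rw [conj_pow, show u ^ Nat.card Tb = 1 by
          rw [← hU'c]; exact congrArg Subtype.val (pow_card_eq_one' (x := (⟨u, hu⟩ : U'))),
          mul_one, mul_inv_cancel])⟩
    have := quot_no_coprime_normal hKp hmax U' (by rw [hU'c]; exact hodd)
    rw [this, Subgroup.card_bot] at hU'c
    omega
  have hTR := hnorm_le T hTnorm hTp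
  obtain ⟨W, hW⟩ := Sylow.exists_subgroup_card_pow_prime 2 (show 2 ^ 2 ∣ Nat.card T by
    obtain ⟨k, hk⟩ := IsPGroup.iff_card.1 hTp
    rw [hk]
    refine pow_dvd_pow 2 ?_
    by_contra h
    have : 2 ^ k ≤ 2 ^ 1 := Nat.pow_le_pow_right two_pos (by omega)
    omega)
  set W' := W.map T.subtype with hW'
  have hW'c : Nat.card W' = 2 ^ 2 := by rw [hW', card_map_subtype, hW]
  have hW'ab : IsMulCommutative W' := IsPGroup.isMulCommutative_of_card_eq_prime_sq hW'c
  have hfour : ∀ V : Subgroup (G ⧸ K), Nat.card V = 4 → V ≤ T := by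
    intro V hV
    obtain ⟨g, hg⟩ := hBq W' V hW'ab (IsPGroup.isMulCommutative_of_card_eq_prime_sq (p := 2)
      (by rw [hV]; rfl)) (by rw [hW'c, hV]; rfl)
    rw [← hg, ← Subgroup.Normal.conj_smul_eq_self g T]
    exact Subgroup.pointwise_smul_le_pointwise_smul_iff.2 (Subgroup.map_subtype_le W)
  have hxa : ∀ i, ((e' (QuaternionGroup.xa i) : (R : Subgroup (G ⧸ K))) : G ⧸ K) ∈ T := by
    intro i
    refine hfour _ ?_ (Subgroup.mem_zpowers _)
    rw [Nat.card_zpowers, Subgroup.orderOf_coe, MulEquiv.orderOf_eq, QuaternionGroup.orderOf_xa]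
  have hRT : (R : Subgroup (G ⧸ K)) ≤ T := by
    intro x hx
    rcases h : e'.symm ⟨x, hx⟩ with i | i
    · have hi : (QuaternionGroup.a i : QuaternionGroup (2 ^ n)) =
          QuaternionGroup.xa 0 * QuaternionGroup.xa (i - ((2 ^ n : ℕ) : ZMod (2 * 2 ^ n))) := by
        rw [QuaternionGroup.xa_mul_xa]; simp
      have := mul_mem (hxa 0) (hxa (i - ((2 ^ n : ℕ) : ZMod (2 * 2 ^ n))))
      rw [← Subgroup.coe_mul, ← map_mul, ← hi, ← h, e'.apply_symm_apply] at this
      exact this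
    · have := hxa i
      rw [← h, e'.apply_symm_apply] at this
      exact this
  have hTeq : T = (R : Subgroup (G ⧸ K)) := le_antisymm hTR hRT
  obtain ⟨c, hc⟩ : ∃ c, n = c + 1 := ⟨n - 1, by omega⟩
  set a0 : QuaternionGroup (2 ^ n) := QuaternionGroup.a 1 ^ 2 ^ c with ha0
  have ha0o : orderOf a0 = 4 := by
    have h2 : 2 * 2 ^ n = 2 ^ c * 4 := by rw [hc]; ring
    rw [ha0, orderOf_pow_of_dvd (by positivity) (by
      rw [QuaternionGroup.orderOf_a_one, h2]; exact dvd_mul_right _ _),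
      QuaternionGroup.orderOf_a_one, h2, Nat.mul_div_cancel_left _ (by positivity)]
  set W₀ := Subgroup.zpowers ((e' a0 : (R : Subgroup (G ⧸ K))) : G ⧸ K) with hW₀
  have hW₀n : W₀.Normal := by
    constructor
    rintro _ ⟨j, rfl⟩ g
    have hgR : ∀ y ∈ (R : Subgroup (G ⧸ K)), g * y * g⁻¹ ∈ (R : Subgroup (G ⧸ K)) := fun y hy =>
      hTeq ▸ hTnorm.conj_mem y (hTeq.ge hy) g
    set y := (e' (QuaternionGroup.a 1) : (R : Subgroup (G ⧸ K))) with hy
    set w : (R : Subgroup (G ⧸ K)) := ⟨g * y.1 * g⁻¹, hgR _ y.2⟩ with hw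
    have hwo : orderOf (e'.symm w) = 2 * 2 ^ n := by
      rw [MulEquiv.orderOf_eq, ← Subgroup.orderOf_coe, hw]
      show orderOf (MulAut.conj g y.1) = _
      rw [MulEquiv.orderOf_eq, Subgroup.orderOf_coe, hy, MulEquiv.orderOf_eq,
        QuaternionGroup.orderOf_a_one]
    rcases h : e'.symm w with i | i
    · have key : (g * ((e' a0 : (R : Subgroup (G ⧸ K))) : G ⧸ K) * g⁻¹) ∈ W₀ := by
        refine ⟨(i.val : ℤ), ?_⟩
        simp only [zpow_natCast]
        rw [← SubgroupClass.coe_pow, ← map_pow, ha0, ← pow_mul, Nat.mul_comm (2 ^ c) i.val, pow_mul,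
          QuaternionGroup.a_one_pow, ZMod.natCast_zmod_val, ← h, map_pow, e'.apply_symm_apply,
          SubgroupClass.coe_pow, hw, map_pow, SubgroupClass.coe_pow, conj_pow]
      simp only
      rw [← conj_zpow]
      exact Subgroup.zpow_mem _ key j
    · rw [h, QuaternionGroup.orderOf_xa] at hwo
      omega
  obtain ⟨g, hg⟩ := hBq W₀
    (Subgroup.zpowers ((e' (QuaternionGroup.xa 0) : (R : Subgroup (G ⧸ K))) : G ⧸ K))
    (comm_zpowers _) (comm_zpowers _) (by
      rw [hW₀, Nat.card_zpowers, Nat.card_zpowers, Subgroup.orderOf_coe, Subgroup.orderOf_coe,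
        MulEquiv.orderOf_eq, MulEquiv.orderOf_eq, ha0o, QuaternionGroup.orderOf_xa])
  haveI := hW₀n
  rw [Subgroup.Normal.conj_smul_eq_self g W₀] at hg
  obtain ⟨j, hj⟩ := hg.ge (Subgroup.mem_zpowers _)
  simp only at hj
  rw [← SubgroupClass.coe_zpow, Subtype.coe_inj, ← map_zpow, e'.injective.eq_iff, ha0,
    ← zpow_natCast, ← zpow_mul] at hj
  obtain ⟨m, hm⟩ : ∃ m : ℕ, (QuaternionGroup.a 1 : QuaternionGroup (2 ^ n)) ^ m =
      (QuaternionGroup.a 1 : QuaternionGroup (2 ^ n)) ^ (((2 ^ c : ℕ) : ℤ) * j) :=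
    mem_powers_iff_mem_zpowers.2 (Subgroup.zpow_mem_zpowers _ _)
  rw [← hm, QuaternionGroup.a_one_pow] at hj
  exact absurd hj (by simp)

/-- The Sylow subgroups of a solvable group with conjugate abelian subgroups. -/
theorem sylow_struct (hB : BConj G) (hsol : Group.IsSolvable G) {p : ℕ} [hp : Fact p.Prime]
    (P : Sylow p G) : IsCyclic (P : Subgroup G) ∨
      (IsMulCommutative (P : Subgroup G) ∧ ∀ x ∈ (P : Subgroup G), x ^ p = 1) ∨
      (p = 2 ∧ Nonempty ((P : Subgroup G) ≃* QuaternionGroup 2)) := by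
  by_cases hu : UniqueOrderP p (P : Subgroup G)
  · rcases cyclic_or_quaternion P.2 hu with h | ⟨rfl, -⟩
    · exact Or.inl h
    · exact (quaternion_small hB hsol P hu).imp id fun h => Or.inr ⟨rfl, h⟩
  · exact Or.inr (Or.inl ⟨comm_of_exp hB hsol P.2 (exp_of_not_unique hB P.2 hu),
      exp_of_not_unique hB P.2 hu⟩)

theorem comm_or_full (hB : BConj G) (hsol : Group.IsSolvable G) {p : ℕ} [hp : Fact p.Prime]
    {X : Subgroup G} (hX : IsPGroup p X) :
    IsMulCommutative X ∨ (p = 2 ∧ Nat.card X = 2 ^ (Nat.card G).factorization 2) := by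
  obtain ⟨P, hXP⟩ := hX.exists_le_sylow
  have key : IsMulCommutative (P : Subgroup G) → IsMulCommutative X := fun h =>
    ⟨⟨fun a b => Subtype.ext (congrArg Subtype.val (h.is_comm.comm
      ⟨(a : G), hXP a.2⟩ ⟨(b : G), hXP b.2⟩) : (a : G) * b = b * a)⟩⟩
  rcases sylow_struct hB hsol P with h | ⟨h, -⟩ | ⟨rfl, ⟨e⟩⟩
  · exact Or.inl (key (comm_of_isCyclic h))
  · exact Or.inl (key h)
  have h8 : Nat.card (P : Subgroup G) = 2 ^ 3 := by
    rw [Nat.card_congr e.toEquiv, Nat.card_eq_fintype_card, QuaternionGroup.card]; norm_num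
  obtain ⟨k, hk⟩ := IsPGroup.iff_card.1 hX
  have hk3 : k ≤ 3 := (Nat.pow_dvd_pow_iff_le_right (by norm_num)).1
    (hk ▸ h8 ▸ Subgroup.card_dvd_of_le hXP)
  rcases (show k = 0 ∨ k = 1 ∨ k = 2 ∨ k = 3 by omega) with rfl | rfl | rfl | rfl
  · haveI : Subsingleton X := Finite.card_le_one_iff_subsingleton.1 (by rw [hk, pow_zero])
    exact Or.inl ⟨⟨fun _ _ => Subsingleton.elim _ _⟩⟩
  · exact Or.inl (comm_of_isCyclic (isCyclic_of_prime_card (p := 2) (by rw [hk, pow_one])))
  · exact Or.inl (IsPGroup.isMulCommutative_of_card_eq_prime_sq hk)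
  · exact Or.inr ⟨rfl, by rw [hk, ← h8, P.card_eq_multiplicity]⟩

theorem quot_solvable (hB : BConj G) (hsol : Group.IsSolvable G) (M : Subgroup G) [M.Normal] :
    BConj (G ⧸ M) := by
  refine lift hB M ?_ fun q hq _ _ X hX => haveI := Fact.mk hq; comm_or_full hB hsol hX
  intro q hq hqM hqI X hX hXM
  haveI := Fact.mk hq
  obtain ⟨P, hXP⟩ := hX.exists_le_sylow
  have hu := unique_of_shared hB M hqM hqI P.2
  rcases cyclic_or_quaternion P.2 hu with h | ⟨rfl, -⟩
  · haveI := h
    exact inf_of_cyclic_sylow P M hXP hXM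
  rcases quaternion_small hB hsol P hu with h | ⟨⟨e⟩⟩
  · haveI := h
    exact inf_of_cyclic_sylow P M hXP hXM
  rw [← card_sylow_inf P M]
  have hPM : ¬ (P : Subgroup G) ≤ M := fun h =>
    P.not_dvd_index (hqI.trans (Subgroup.index_dvd_of_le h))
  have h8 : Nat.card (P : Subgroup G) = 2 ^ 3 := by
    rw [Nat.card_congr e.toEquiv, Nat.card_eq_fintype_card, QuaternionGroup.card]; norm_num
  obtain ⟨k, hk⟩ := IsPGroup.iff_card.1 (P.2.to_le (inf_le_left : (P : Subgroup G) ⊓ M ≤ P))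
  have hk3 : k ≤ 3 := (Nat.pow_dvd_pow_iff_le_right (by norm_num)).1
    (hk ▸ h8 ▸ Subgroup.card_dvd_of_le inf_le_left)
  have hk1 : k = 1 := by
    rcases (show k = 0 ∨ k = 1 ∨ k = 2 ∨ k = 3 by omega) with rfl | rfl | rfl | rfl
    · exfalso
      rw [card_sylow_inf P M] at hk
      have := Nat.pow_right_injective le_rfl hk
      have := Nat.prime_two.factorization_pos_of_dvd Nat.card_pos.ne' hqM
      omega
    · rfl
    · exfalso
      refine hPM fun x hx => ?_
      by_cases hx2 : x ^ 2 = 1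
      · exact mem_of_pow_eq_one hB M hqM hx2
      have hox : orderOf x = 4 := by
        have h4 : x ^ 2 ^ (1 + 1) = 1 := by
          have : ∀ w : QuaternionGroup 2, w ^ 4 = 1 := by decide
          have := e.injective (by rw [map_pow, map_one]; exact this _ :
            e ((⟨x, hx⟩ : (P : Subgroup G)) ^ 4) = e 1)
          exact congrArg Subtype.val this
        rw [orderOf_eq_prime_pow (p := 2) (n := 1) (by rwa [pow_one]) h4]; rfl
      obtain ⟨g, hg⟩ := hB _ _ (IsPGroup.isMulCommutative_of_card_eq_prime_sq hk) (comm_zpowers x)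
        (by rw [hk, Nat.card_zpowers, hox]; rfl)
      have h1 := hg.ge (Subgroup.mem_zpowers x)
      rw [mem_conj_smul] at h1
      have := Subgroup.Normal.conj_mem inferInstance _ h1.2 g
      simpa [mul_assoc] using this
    · exact absurd ((Subgroup.eq_of_le_of_card_ge inf_le_left (h8.trans hk.symm).le).ge.trans
        inf_le_right) hPM
  subst hk1
  refine le_antisymm (Subgroup.card_le_of_le (inf_le_inf_right M hXP)) ?_
  rw [hk, pow_one]
  have hX1 : X ≠ ⊥ := fun h => hXM (h ▸ bot_le)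
  obtain ⟨a, ha⟩ := IsPGroup.iff_card.1 hX
  obtain ⟨x, hx⟩ := exists_prime_orderOf_dvd_card' 2 (show 2 ∣ Nat.card X by
    rw [ha]; exact dvd_pow_self 2 fun h => hX1 (Subgroup.card_eq_one.1 (by rw [ha, h, pow_zero])))
  have hxM : (x : G) ∈ M := mem_of_pow_eq_one hB M hqM
    (congrArg Subtype.val (by rw [← hx]; exact pow_orderOf_eq_one x : x ^ 2 = 1))
  refine le_trans (le_of_eq ?_) (Subgroup.card_le_of_le
    (show Subgroup.zpowers (x : G) ≤ X ⊓ M from Subgroup.zpowers_le.2 ⟨x.2, hxM⟩))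
  rw [Nat.card_zpowers, Subgroup.orderOf_coe, hx]

end Cfsg.Agent.Solv.AbelianConj
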