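import Cfsg.Agent.Lib.Solv.Cores
import Cfsg.Agent.Lib.Solv.Coprime
import Cfsg.Agent.S0018
import Cfsg.Agent.S0205
import Cfsg.Agent.S0215
import Cfsg.Agent.S0223
import Cfsg.Agent.S1225

/-!
A finite group which is the product of an abelian 2-subgroup and a subgroup of odd order
(equivalently, with abelian Sylow 2-subgroups and a Hall 2'-subgroup) is solvable.
-/

set_option autoImplicit false
set_option linter.style.haveILetI false

namespace Cfsg.Agent.Solv.AbelianOdd

open Cfsg
open scoped Pointwise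

universe u

variable {G : Type u} [Group G]

/-- `G = P H` with `P` an abelian 2-subgroup and `H` of odd order. -/
structure Factored (P H : Subgroup G) : Prop where
  comm : IsMulCommutative P
  two : IsPGroup 2 P
  odd : Odd (Nat.card H)
  card : Nat.card P * Nat.card H = Nat.card G

theorem coprime_two_odd [Finite G] {P : Subgroup G} (hP : IsPGroup 2 P) {n : ℕ} (hn : Odd n) :
    (Nat.card P).Coprime n := by
  haveI := Fact.mk Nat.prime_two
  obtain ⟨a, ha⟩ := IsPGroup.iff_card.1 hP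
  rw [ha]
  exact Nat.Coprime.pow_left a (Nat.coprime_two_left.2 hn)

theorem Factored.coprime [Finite G] {P H : Subgroup G} (h : Factored P H) :
    (Nat.card P).Coprime (Nat.card H) := coprime_two_odd h.two h.odd

theorem Factored.compl [Finite G] {P H : Subgroup G} (h : Factored P H) :
    Subgroup.IsComplement' P H :=
  Subgroup.isComplement'_of_coprime h.card h.coprime

theorem Factored.exists_mul [Finite G] {P H : Subgroup G} (h : Factored P H) (g : G) :
    ∃ p ∈ P, ∃ k ∈ H, g = p * k := by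
  obtain ⟨⟨p, k⟩, hpk, -⟩ := h.compl.existsUnique g
  exact ⟨p, p.2, k, k.2, hpk.symm⟩

theorem subgroupOf_comm {P L : Subgroup G} (h : IsMulCommutative P) :
    IsMulCommutative (P.subgroupOf L) := by
  refine ⟨⟨fun x y => ?_⟩⟩
  apply Subtype.ext
  apply Subtype.ext
  have e := h.is_comm.comm ⟨_, x.2⟩ ⟨_, y.2⟩
  exact congrArg (fun z : P => (z : G)) e

theorem Factored.inter [Finite G] {P H : Subgroup G} (h : Factored P H) {C : Subgroup G}
    (hPC : P ≤ C) : Factored (P.subgroupOf C) (H.subgroupOf C) := by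
  have hodd : Odd (Nat.card (H.subgroupOf C)) := by
    refine h.odd.of_dvd_nat ?_
    rw [← card_map_subtype, Subgroup.subgroupOf_map_subtype]
    exact Subgroup.card_dvd_of_le inf_le_left
  have h2 : IsPGroup 2 (P.subgroupOf C) := h.two.of_equiv (Subgroup.subgroupOfEquivOfLe hPC).symm
  have hc : Subgroup.IsComplement' (P.subgroupOf C) (H.subgroupOf C) := by
    refine Subgroup.isComplement'_of_disjoint_and_mul_eq_univ
      (Subgroup.disjoint_of_coprime_natCard (coprime_two_odd h2 hodd)) ?_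
    rw [Set.eq_univ_iff_forall]
    intro g
    obtain ⟨p, hp, k, hk, e⟩ := h.exists_mul (g : G)
    have hkC : k ∈ C := by
      rw [show k = p⁻¹ * (g : G) by rw [e]; group]
      exact mul_mem (inv_mem (hPC hp)) g.2
    exact Set.mem_mul.2 ⟨⟨p, hPC hp⟩, hp, ⟨k, hkC⟩, hk, Subtype.ext e.symm⟩
  exact ⟨subgroupOf_comm h.comm, h2, hodd, hc.card_mul_card⟩

theorem Factored.normal [Finite G] {P H : Subgroup G} (h : Factored P H) (N : Subgroup G)
    [N.Normal] : Factored (P.subgroupOf N) (H.subgroupOf N) := by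
  have eP : Nat.card (P.subgroupOf N) = Nat.card (P ⊓ N : Subgroup G) := by
    rw [← card_map_subtype, Subgroup.subgroupOf_map_subtype]
  have eH : Nat.card (H.subgroupOf N) = Nat.card (H ⊓ N : Subgroup G) := by
    rw [← card_map_subtype, Subgroup.subgroupOf_map_subtype]
  have hco := h.coprime
  obtain ⟨a', ha'⟩ : Nat.card (P.subgroupOf N) ∣ Nat.card P :=
    eP ▸ Subgroup.card_dvd_of_le inf_le_left
  obtain ⟨b', hb'⟩ : Nat.card (H.subgroupOf N) ∣ Nat.card H :=
    eH ▸ Subgroup.card_dvd_of_le inf_le_left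
  have hcoab : (Nat.card (P.subgroupOf N)).Coprime (Nat.card (H.subgroupOf N)) :=
    Nat.Coprime.coprime_dvd_left ⟨a', ha'⟩ (Nat.Coprime.coprime_dvd_right ⟨b', hb'⟩ hco)
  obtain ⟨t, ht⟩ : Nat.card (P.subgroupOf N) * Nat.card (H.subgroupOf N) ∣ Nat.card N :=
    hcoab.mul_dvd_of_dvd_of_dvd (Subgroup.card_subgroup_dvd_card _)
      (Subgroup.card_subgroup_dvd_card _)
  have d1 : Nat.card N ∣ Nat.card H * Nat.card (P.subgroupOf N) := by
    have e := card_sup_mul_card_inf N P
    obtain ⟨c, hc⟩ := Subgroup.card_subgroup_dvd_card (N ⊔ P : Subgroup G)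
    rw [inf_comm, ← eP] at e
    refine ⟨c, Nat.eq_of_mul_eq_mul_left (Nat.card_pos : 0 < Nat.card P) ?_⟩
    rw [← mul_assoc, h.card, hc]
    calc Nat.card (N ⊔ P : Subgroup G) * c * Nat.card (P.subgroupOf N)
        = Nat.card (N ⊔ P : Subgroup G) * Nat.card (P.subgroupOf N) * c := by ring
      _ = Nat.card N * Nat.card P * c := by rw [e]
      _ = _ := by ring
  have d2 : Nat.card N ∣ Nat.card P * Nat.card (H.subgroupOf N) := by
    have e := card_sup_mul_card_inf N H
    obtain ⟨c, hc⟩ := Subgroup.card_subgroup_dvd_card (N ⊔ H : Subgroup G)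
    rw [inf_comm, ← eH] at e
    refine ⟨c, Nat.eq_of_mul_eq_mul_left (Nat.card_pos : 0 < Nat.card H) ?_⟩
    rw [← mul_assoc, mul_comm (Nat.card H), h.card, hc]
    calc Nat.card (N ⊔ H : Subgroup G) * c * Nat.card (H.subgroupOf N)
        = Nat.card (N ⊔ H : Subgroup G) * Nat.card (H.subgroupOf N) * c := by ring
      _ = Nat.card N * Nat.card H * c := by rw [e]
      _ = _ := by ring
  rw [ht, hb'] at d1
  rw [ht, ha'] at d2
  have t1 : t ∣ b' := by
    refine Nat.dvd_of_mul_dvd_mul_left (mul_pos Nat.card_pos Nat.card_pos :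
      0 < Nat.card (P.subgroupOf N) * Nat.card (H.subgroupOf N)) (d1.trans (dvd_of_eq ?_))
    ring
  have t2 : t ∣ a' := by
    refine Nat.dvd_of_mul_dvd_mul_left (mul_pos Nat.card_pos Nat.card_pos :
      0 < Nat.card (P.subgroupOf N) * Nat.card (H.subgroupOf N)) (d2.trans (dvd_of_eq ?_))
    ring
  have t3 : t = 1 := Nat.eq_one_of_dvd_coprimes hco
    (t2.trans ⟨_, ha'.trans (mul_comm _ _)⟩) (t1.trans ⟨_, hb'.trans (mul_comm _ _)⟩)
  refine ⟨subgroupOf_comm h.comm, ?_, h.odd.of_dvd_nat ⟨b', hb'⟩, by rw [ht, t3, mul_one]⟩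
  obtain ⟨n, hn⟩ := (IsPGroup.iff_card (p := 2)).1 h.two
  haveI := Fact.mk Nat.prime_two
  obtain ⟨j, -, hj⟩ := (Nat.dvd_prime_pow Nat.prime_two).1 (hn ▸ (⟨a', ha'⟩ : _ ∣ Nat.card P))
  exact IsPGroup.of_card (p := 2) (n := j) hj

theorem Factored.quot [Finite G] {P H : Subgroup G} (h : Factored P H) (N : Subgroup G)
    [N.Normal] :
    Factored (P.map (QuotientGroup.mk' N)) (H.map (QuotientGroup.mk' N)) := by
  have hodd : Odd (Nat.card (H.map (QuotientGroup.mk' N))) :=
    h.odd.of_dvd_nat (Subgroup.card_map_dvd _ _)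
  have h2 : IsPGroup 2 (P.map (QuotientGroup.mk' N)) := h.two.map _
  have hc : Subgroup.IsComplement' (P.map (QuotientGroup.mk' N)) (H.map (QuotientGroup.mk' N)) := by
    refine Subgroup.isComplement'_of_disjoint_and_mul_eq_univ
      (Subgroup.disjoint_of_coprime_natCard (coprime_two_odd h2 hodd)) ?_
    rw [Set.eq_univ_iff_forall]
    intro g
    obtain ⟨g, rfl⟩ := QuotientGroup.mk'_surjective N g
    obtain ⟨p, hp, k, hk, e⟩ := h.exists_mul g
    exact Set.mem_mul.2 ⟨_, Subgroup.mem_map_of_mem _ hp, _, Subgroup.mem_map_of_mem _ hk,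
      by rw [← map_mul, ← e]⟩
  refine ⟨⟨⟨fun x y => ?_⟩⟩, h2, hodd, hc.card_mul_card⟩
  obtain ⟨_, x, hx, rfl⟩ := x
  obtain ⟨_, y, hy, rfl⟩ := y
  apply Subtype.ext
  have e := congrArg (fun z : P => (z : G)) (h.comm.is_comm.comm ⟨x, hx⟩ ⟨y, hy⟩)
  simp only [Subgroup.coe_mul] at e ⊢
  rw [← map_mul, ← map_mul, e]

/-- An odd-order subgroup normalised by `P` lies in the core of `H`. -/
theorem Factored.le_normalCore [Finite G] {P H : Subgroup G} (h : Factored P H) {W : Subgroup G}
    (hW : Odd (Nat.card W)) (hPW : P ≤ Subgroup.normalizer (W : Set G)) : W ≤ H.normalCore := by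
  have hWH : W ≤ H := by
    have hcoWP : (Nat.card W).Coprime (Nat.card P) := (coprime_two_odd h.two hW).symm
    have hX : Nat.card (W ⊔ P : Subgroup G) = Nat.card W * Nat.card P := by
      have e := card_sup_mul_card_inf' W P hPW
      rwa [coprime_inf hcoWP, Subgroup.card_bot, mul_one] at e
    have hK : Nat.card (H ⊓ (W ⊔ P) : Subgroup G) = Nat.card W := by
      have e := (h.inter (le_sup_right : P ≤ W ⊔ P)).card
      rw [card_subgroupOf le_sup_right, hX, mul_comm (Nat.card W)] at e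
      rw [← Subgroup.subgroupOf_map_subtype, card_map_subtype]
      exact Nat.eq_of_mul_eq_mul_left Nat.card_pos e
    have hKn : H ⊓ (W ⊔ P) ≤ Subgroup.normalizer (W : Set G) :=
      inf_le_right.trans (sup_le Subgroup.le_normalizer hPW)
    have e := card_sup_mul_card_inf' W (H ⊓ (W ⊔ P)) hKn
    have hdvd : Nat.card (W ⊔ H ⊓ (W ⊔ P) : Subgroup G) ∣ Nat.card W := by
      have h1 : Nat.card (W ⊔ H ⊓ (W ⊔ P) : Subgroup G) ∣ Nat.card W * Nat.card P :=
        hX ▸ Subgroup.card_dvd_of_le (sup_le le_sup_left inf_le_right)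
      have h2 : Odd (Nat.card (W ⊔ H ⊓ (W ⊔ P) : Subgroup G)) := by
        rw [hK] at e
        exact Odd.of_dvd_nat (hW.mul hW) ⟨_, e.symm⟩
      exact Nat.Coprime.dvd_of_dvd_mul_right (coprime_two_odd h.two h2).symm h1
    have hle : H ⊓ (W ⊔ P) ≤ W := by
      have := Subgroup.eq_of_le_of_card_ge (le_sup_left : W ≤ W ⊔ H ⊓ (W ⊔ P))
        (Nat.le_of_dvd Nat.card_pos hdvd)
      exact le_of_le_of_eq le_sup_right this.symm
    have := Subgroup.eq_of_le_of_card_ge hle hK.ge
    exact this ▸ inf_le_left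
  intro w hw
  intro g
  obtain ⟨p, hp, k, hk, e⟩ := h.exists_mul g⁻¹
  have hg : g = k⁻¹ * p⁻¹ := by rw [← inv_inv g, e, mul_inv_rev]
  rw [hg, show k⁻¹ * p⁻¹ * w * (k⁻¹ * p⁻¹)⁻¹ = k⁻¹ * (p⁻¹ * w * (p⁻¹)⁻¹) * k by group]
  exact mul_mem (mul_mem (inv_mem hk)
    (hWH ((Subgroup.mem_normalizer_iff.1 (hPW (inv_mem hp)) w).1 hw))) hk

section Simple

variable [Finite G] {P H : Subgroup G}

theorem Factored.not_two_dvd_index (h : Factored P H) : ¬ 2 ∣ P.index := by
  have e := P.card_mul_index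
  rw [← h.card] at e
  rw [Nat.eq_of_mul_eq_mul_left Nat.card_pos e]
  exact fun hd => Nat.not_even_iff_odd.2 h.odd (even_iff_two_dvd.2 hd)

/-- There is no simple non-abelian group `G = P H`. -/
theorem not_simple [IsSimpleGroup G] (h : Factored P H) (hns : ¬ Group.IsSolvable G)
    (ih : ∀ C : Subgroup G, C ≠ ⊤ → P ≤ C → Group.IsSolvable C) : False := by
  haveI := Fact.mk Nat.prime_two
  haveI := h.comm
  have hodd : ¬ Odd (Nat.card G) := fun ho => hns (Agent.S0205.result ho)
  have hcen : Subgroup.center G = ⊥ := by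
    rcases (inferInstance : (Subgroup.center G).Normal).eq_bot_or_eq_top with e | e
    · exact e
    · refine absurd ?_ hns
      exact Group.isSolvable_of_comm fun a b =>
        Subgroup.mem_center_iff.1 (e ▸ Subgroup.mem_top b) a
  have hHne : H ≠ ⊤ := fun e => hodd (by
    rw [← Subgroup.card_top (G := G), ← e]; exact h.odd)
  have hcore : H.normalCore = ⊥ := by
    rcases H.normalCore_normal.eq_bot_or_eq_top with e | e
    · exact e
    · exact absurd (top_le_iff.1 (e ▸ H.normalCore_le)) hHne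
  have hW : ∀ W : Subgroup G, Odd (Nat.card W) → P ≤ Subgroup.normalizer (W : Set G) → W = ⊥ :=
    fun W h1 h2 => le_bot_iff.1 (hcore ▸ h.le_normalCore h1 h2)
  let S : Sylow 2 G := h.two.toSylow h.not_two_dvd_index
  have hS : (S : Subgroup G) = P := rfl
  have hPcomm : ∀ a ∈ P, ∀ b ∈ P, a * b = b * a := fun a ha b hb =>
    congrArg (fun z : P => (z : G)) (h.comm.is_comm.comm ⟨a, ha⟩ ⟨b, hb⟩)
  have hPne : P ≠ ⊥ := fun e => hodd (by
    rw [← h.card, e, Subgroup.card_bot, one_mul]; exact h.odd)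
  have hnP : ¬ P.Normal := fun hn => by
    rcases hn.eq_bot_or_eq_top with e | e
    · exact hPne e
    · exact hns (by
        exact Group.isSolvable_of_comm fun a b => hPcomm a (e ▸ Subgroup.mem_top a) b
          (e ▸ Subgroup.mem_top b))
  set M := Subgroup.normalizer (P : Set G) with hM
  have hPM : P ≤ M := Subgroup.le_normalizer
  have hMne : M ≠ ⊤ := fun e => hnP (Subgroup.normalizer_eq_top_iff.1 e)
  have hinvP : ∀ t ∈ M, orderOf t = 2 → t ∈ P := by
    intro t htM ht
    by_contra htP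
    have hle : P ⊔ Subgroup.zpowers t ≤ M := sup_le hPM (Subgroup.zpowers_le.2 htM)
    have h2 : IsPGroup 2 (P ⊔ Subgroup.zpowers t : Subgroup G) :=
      h.two.to_sup_of_normal_left' (IsPGroup.of_card (p := 2) (n := 1)
        (by rw [Nat.card_zpowers, ht, pow_one])) (Subgroup.zpowers_le.2 htM)
    have := S.is_maximal' h2 (hS ▸ le_sup_left)
    exact htP (hS ▸ this ▸ Subgroup.mem_sup_right (Subgroup.mem_zpowers t))
  -- centralisers of involutions of `P` normalise `P`
  have hC : ∀ t ∈ P, orderOf t = 2 → Subgroup.centralizer ({t} : Set G) ≤ M := by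
    intro t htP ht
    set C := Subgroup.centralizer ({t} : Set G) with hCdef
    have hPC : P ≤ C := fun x hx => Subgroup.mem_centralizer_singleton_iff.2 (hPcomm x hx t htP)
    have hCne : C ≠ ⊤ := fun e => by
      have : t ∈ Subgroup.center G := Subgroup.mem_center_iff.2 fun g =>
        Subgroup.mem_centralizer_singleton_iff.1 (e ▸ Subgroup.mem_top g : g ∈ C)
      rw [hcen, Subgroup.mem_bot] at this
      rw [this, orderOf_one] at ht; omega
    haveI := ih C hCne hPC
    have hf := h.inter hPC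
    let T : Sylow 2 C := hf.two.toSylow hf.not_two_dvd_index
    have hn : ((T : Subgroup C) ⊔ Cfsg.pPrimeCore 2 C).Normal :=
      Agent.S0018.result 2 T hf.comm
    have hO : Cfsg.pPrimeCore 2 C = ⊥ := by
      haveI := pPrimeCore_normal (G := C) 2
      have := hW ((Cfsg.pPrimeCore 2 C).map C.subtype) (by
        rw [card_map_subtype]; exact Nat.coprime_two_right.1 (pPrimeCore_coprime 2)) (by
        intro x hx
        rw [Subgroup.mem_normalizer_iff]
        intro y
        constructor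
        · rintro ⟨z, hz, rfl⟩
          exact ⟨⟨x, hPC hx⟩ * z * ⟨x, hPC hx⟩⁻¹, (pPrimeCore_normal (G := C) 2).conj_mem z hz _, rfl⟩
        · rintro ⟨z, hz, hzy⟩
          refine ⟨⟨x, hPC hx⟩⁻¹ * z * ⟨x, hPC hx⟩⁻¹⁻¹, (pPrimeCore_normal (G := C) 2).conj_mem z hz _, ?_⟩
          simp only [Subgroup.coe_subtype] at hzy
          simp [hzy, mul_assoc])
      exact (Subgroup.map_eq_bot_iff_of_injective _ C.subtype_injective).1 this
    rw [hO, sup_bot_eq] at hn
    change (P.subgroupOf C).Normal at hn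
    exact (Subgroup.normal_subgroupOf_iff_le_normalizer hPC).1 hn
  obtain ⟨⟨t, htP⟩, ht⟩ := exists_prime_orderOf_dvd_card' (G := P) 2 (by
    obtain ⟨n, hn⟩ := IsPGroup.iff_card.1 h.two
    rw [hn]
    refine dvd_pow_self 2 fun e => hPne (Subgroup.card_eq_one.1 (by rw [hn, e, pow_zero])))
  rw [Subgroup.orderOf_mk] at ht
  have htM : t ∈ M := hPM htP
  -- `M` is strongly embedded
  have hfus : ∀ a ∈ P, ∀ g : G, g * a * g⁻¹ ∈ P → ∃ n ∈ M, n * a * n⁻¹ = g * a * g⁻¹ := by
    intro a ha g hg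
    obtain ⟨n, hn, e⟩ := S.conj_eq_normalizer_conj_of_mem (_hP := hS ▸ h.comm) a g⁻¹ ha
      (by rw [inv_inv]; exact hg)
    rw [inv_inv] at e
    exact ⟨n⁻¹, inv_mem hn, by rw [inv_inv]; exact e.symm⟩
  have hev : Even (Nat.card M) := by
    rw [even_iff_two_dvd, ← ht]
    exact Subgroup.orderOf_dvd_natCard M htM
  have hSE : Cfsg.IsStronglyEmbedded M := by
    refine (Agent.S0223.result M hMne hev).2 ⟨fun t' htM ht => hC t' (hinvP t' htM ht) ht, ?_⟩
    intro a haM b hbM ha hb hab
    obtain ⟨g, hg⟩ := isConj_iff.1 hab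
    obtain ⟨n, hn, e⟩ := hfus a (hinvP a haM ha) g (hg ▸ hinvP b hbM hb)
    exact ⟨n, hn, e.trans hg⟩
  -- a second involution in `P`
  obtain ⟨s, hs, hsP, hst⟩ : ∃ s, orderOf s = 2 ∧ s ∈ P ∧ s ≠ t := by
    by_contra hc
    push Not at hc
    obtain ⟨N, hN, hNodd, hNc⟩ := Agent.S0215.result S t ht htP (fun g hg =>
      hc _ (by rw [← MulAut.conj_apply, MulEquiv.orderOf_eq, ht]) hg)
    rcases hN.eq_bot_or_eq_top with e | e
    · have : t ∈ Subgroup.center G := Subgroup.mem_center_iff.2 fun g => by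
        have := hNc g
        rw [e, Subgroup.mem_bot, mul_inv_eq_one, mul_inv_eq_iff_eq_mul] at this
        exact this.symm
      rw [hcen, Subgroup.mem_bot] at this
      rw [this, orderOf_one] at ht; omega
    · exact hodd (by rw [← Subgroup.card_top (G := G), ← e]; exact hNodd)
  -- an involution outside `M`
  obtain ⟨x, hxu⟩ : ∃ x : G, x * t * x⁻¹ ∉ M := by
    by_contra hc
    push Not at hc
    have htc : t ∈ M.normalCore := hc
    rcases M.normalCore_normal.eq_bot_or_eq_top with e | e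
    · rw [e, Subgroup.mem_bot] at htc
      rw [htc, orderOf_one] at ht; omega
    · exact hMne (top_le_iff.1 (e ▸ M.normalCore_le))
  set u := x * t * x⁻¹ with hu_def
  have hu : orderOf u = 2 := by rw [hu_def, ← MulAut.conj_apply, MulEquiv.orderOf_eq, ht]
  have huu : u * u = 1 := by rw [← sq, ← hu]; exact pow_orderOf_eq_one u
  have huinv : u⁻¹ = u := inv_eq_of_mul_eq_one_right huu
  set D := M ⊓ M.map (MulAut.conj u).toMonoidHom with hD
  have hDodd : Odd (Nat.card D) := hSE.2.2 u hxu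
  have hDu : ∀ d ∈ D, u * d * u⁻¹ ∈ D := by
    rintro d ⟨hd1, hd2⟩
    obtain ⟨m, hm, hmd⟩ := Subgroup.mem_map.1 hd2
    have hmd' : u * m * u⁻¹ = d := hmd
    refine ⟨?_, Subgroup.mem_map.2 ⟨d, hd1, rfl⟩⟩
    rw [← hmd', huinv, show u * (u * m * u) * u = (u * u) * m * (u * u) by group, huu,
      one_mul, mul_one]
    exact hm
  have hDP : ∀ p ∈ P, (∀ d ∈ D, d * p = p * d) → p = 1 := by
    intro p hp hpc
    by_contra hp1
    obtain ⟨c, hc, hcp⟩ : ∃ c, orderOf c = 2 ∧ c ∈ Subgroup.zpowers p := by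
      have hdd : 2 ∣ Nat.card (Subgroup.zpowers p) := by
        obtain ⟨j, hj⟩ := IsPGroup.iff_card.1
          (h.two.to_le (Subgroup.zpowers_le.2 hp) : IsPGroup 2 (Subgroup.zpowers p))
        rw [hj]
        refine dvd_pow_self 2 fun e => hp1 ?_
        rw [e, pow_zero, Nat.card_zpowers, orderOf_eq_one_iff] at hj
        exact hj
      obtain ⟨⟨c, hc⟩, hc2⟩ := exists_prime_orderOf_dvd_card' (G := Subgroup.zpowers p) 2 hdd
      exact ⟨c, by simpa using hc2, hc⟩
    obtain ⟨j, rfl⟩ := hcp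
    have hcP : p ^ j ∈ P := zpow_mem hp j
    have key : ∀ b ∈ P, orderOf b = 2 → b = p ^ j := by
      intro b hb hb2
      obtain ⟨⟨d, hd, e⟩, -⟩ := Agent.S1225.result M hSE u hu hxu (p ^ j) b hc (hPM hcP) hb2 (hPM hb)
      rw [← e, ((show Commute d p from hpc d hd).zpow_right j).eq, mul_inv_cancel_right]
    exact hst ((key s hsP hs).trans (key t htP ht).symm)
  -- a fixed point of `D` on `G ⧸ H`, necessarily unique
  have hDP' : D ≤ Subgroup.normalizer (P : Set G) := inf_le_left
  obtain ⟨q, hq, hqK⟩ : ∃ q : G, q ∈ P ∧ ∀ d ∈ D, q⁻¹ * d * q ∈ H := by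
    have hco : (Nat.card P).Coprime (Nat.card D) := coprime_two_odd h.two hDodd
    set X := P ⊔ D with hX
    have hXc : Nat.card X = Nat.card P * Nat.card D := by
      have e := card_sup_mul_card_inf' P D hDP'
      rwa [coprime_inf hco, Subgroup.card_bot, mul_one] at e
    have hK : Nat.card (H ⊓ X : Subgroup G) = Nat.card D := by
      have e := (h.inter (le_sup_left : P ≤ X)).card
      rw [card_subgroupOf le_sup_left, hXc] at e
      rw [← Subgroup.subgroupOf_map_subtype, card_map_subtype]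
      exact Nat.eq_of_mul_eq_mul_left Nat.card_pos e
    obtain ⟨g, hg, he⟩ := sz_conj_rel P D (H ⊓ X) hDP' inf_le_right hco hK
      (Or.inl (Group.isSolvable_of_comm fun a b => Subtype.ext (hPcomm a a.2 b b.2)))
    refine ⟨g⁻¹, inv_mem hg, fun d hd => ?_⟩
    have : g * d * g⁻¹ ∈ H ⊓ X := by
      rw [← he, mem_conj_smul]; simpa [mul_assoc] using hd
    simpa using this.1
  -- `u` must fix it
  obtain ⟨r, hr, k, hk, e⟩ := h.exists_mul (u * q)
  have hrq : r = q := by
    have : q⁻¹ * r = 1 := hDP _ (mul_mem (inv_mem hq) hr) fun d hd => by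
      have h1 : r⁻¹ * d * r ∈ H := by
        have h2 := hqK _ (hDu d hd)
        have : r = u * q * k⁻¹ := by rw [e]; group
        rw [this, show (u * q * k⁻¹)⁻¹ * d * (u * q * k⁻¹) =
          k * (q⁻¹ * (u⁻¹ * d * u) * q) * k⁻¹ by group]
        refine mul_mem (mul_mem hk ?_) (inv_mem hk)
        rw [show u⁻¹ * d * u = u * d * u⁻¹ by rw [huinv]]
        exact h2
      have h3 := hqK d hd
      set w := q⁻¹ * r with hw
      have hwP : w ∈ P := mul_mem (inv_mem hq) hr
      set d' := q⁻¹ * d * q with hd'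
      have h4 : w⁻¹ * d' * w ∈ H := by
        rw [hw, hd', show (q⁻¹ * r)⁻¹ * (q⁻¹ * d * q) * (q⁻¹ * r) = r⁻¹ * d * r by group]; exact h1
      have hdM : d' ∈ M := mul_mem (mul_mem (inv_mem (hPM hq)) (Subgroup.mem_inf.1 hd).1) (hPM hq)
      have h5 : w⁻¹ * (d' * w * d'⁻¹) ∈ P ⊓ H := Subgroup.mem_inf.2
        ⟨mul_mem (inv_mem hwP) ((Subgroup.mem_normalizer_iff.1 hdM w).1 hwP),
          by rw [show w⁻¹ * (d' * w * d'⁻¹) = (w⁻¹ * d' * w) * d'⁻¹ by group]
             exact mul_mem h4 (inv_mem h3)⟩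
      rw [coprime_inf h.coprime, Subgroup.mem_bot, inv_mul_eq_one] at h5
      -- `w` commutes with `d'`, hence with `d`
      have hdw : d = q * d' * q⁻¹ := by rw [hd']; group
      have hd'w : d' * w = w * d' := (mul_inv_eq_iff_eq_mul.1 h5.symm)
      rw [hdw]
      calc q * d' * q⁻¹ * w = q * d' * (q⁻¹ * w * q) * q⁻¹ := by group
        _ = q * d' * w * q⁻¹ := by rw [hPcomm _ (inv_mem hq) w hwP]; group
        _ = q * (w * d') * q⁻¹ := by rw [mul_assoc q d' w, hd'w]
        _ = q * w * q⁻¹ * (q * d' * q⁻¹) := by group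
        _ = w * (q * d' * q⁻¹) := by rw [hPcomm q hq w hwP]; group
    exact (inv_mul_eq_one.1 this).symm
  rw [hrq] at e
  have hkc : k = q⁻¹ * u * q := by rw [mul_assoc, e]; group
  have : 2 ∣ Nat.card H := by
    rw [← hu]
    have : orderOf k = orderOf u := by
      rw [hkc, show q⁻¹ * u * q = MulAut.conj q⁻¹ u by simp, MulEquiv.orderOf_eq]
    exact this ▸ Subgroup.orderOf_dvd_natCard H hk
  exact Nat.not_even_iff_odd.2 h.odd (even_iff_two_dvd.2 this)

end Simple

theorem isSolvable_aux : ∀ (n : ℕ) {G : Type u} [Group G] [Finite G] {P H : Subgroup G},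
    Nat.card G = n → Factored P H → Group.IsSolvable G := by
  intro n
  induction n using Nat.strong_induction_on with
  | _ n ih =>
  intro G _ _ P H hn h
  by_contra hns
  haveI : Nontrivial G := by
    by_contra hc
    rw [not_nontrivial_iff_subsingleton] at hc
    exact hns inferInstance
  by_cases hsim : IsSimpleGroup G
  · refine not_simple h hns fun C hC hPC => ih _ ?_ rfl (h.inter hPC)
    exact hn ▸ lt_of_le_of_ne (Subgroup.card_le_card_group C)
      fun e => hC (Subgroup.eq_top_of_card_eq C e)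
  · obtain ⟨N, hN, hN1, hN2⟩ : ∃ N : Subgroup G, N.Normal ∧ N ≠ ⊥ ∧ N ≠ ⊤ := by
      by_contra hc
      push Not at hc
      exact hsim ⟨fun N hN => or_iff_not_imp_left.2 (hc N hN)⟩
    haveI : Group.IsSolvable N := ih _ (hn ▸ lt_of_le_of_ne (Subgroup.card_le_card_group N)
      fun e => hN2 (Subgroup.eq_top_of_card_eq N e)) rfl (h.normal N)
    haveI : Group.IsSolvable (G ⧸ N) := ih _ (by
      rw [← hn, Subgroup.card_eq_card_quotient_mul_card_subgroup N]
      exact lt_mul_of_one_lt_right Nat.card_pos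
        (Nat.one_lt_iff_ne_zero_and_ne_one.2
          ⟨Nat.card_pos.ne', fun e => hN1 (Subgroup.card_eq_one.1 e)⟩)) rfl (h.quot N)
    exact hns (Group.isSolvable_of_ker_le_range N.subtype (QuotientGroup.mk' N) (by simp))

/-- `G = P H` with `P` an abelian 2-group and `H` of odd order is solvable. -/
theorem isSolvable [Finite G] {P H : Subgroup G} (h : Factored P H) : Group.IsSolvable G :=
  isSolvable_aux _ rfl h

end Cfsg.Agent.Solv.AbelianOdd

namespace Cfsg.Agent.Solv.AbelianOdd

universe v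

variable {G : Type v} [Group G]

/-- A perfect group with abelian Sylow 2-subgroups has no proper subgroup of 2-power index. -/
theorem eq_top_of_index_two_pow [Finite G] [Fact (Nat.Prime 2)] [Group.IsPerfect G] (P : Sylow 2 G)
    (hP : IsMulCommutative (P : Subgroup G)) {H : Subgroup G} {c : ℕ} (hH : H.index = 2 ^ c) :
    H = ⊤ := by
  by_contra hne
  obtain ⟨M, ⟨hM, hHM⟩⟩ := (eq_top_or_exists_le_coatom H).resolve_left hne
  obtain ⟨d, -, hd⟩ := (Nat.dvd_prime_pow Nat.prime_two).1 (hH ▸ Subgroup.index_dvd_of_le hHM)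
  set N := M.normalCore with hN
  haveI : N.Normal := M.normalCore_normal
  set π := QuotientGroup.mk' N with hπ
  have hπs : Function.Surjective π := QuotientGroup.mk'_surjective N
  set P' := (P : Subgroup G).map π with hP'
  set M' := M.map π with hM'
  have hker : N ≤ M := M.normalCore_le
  have hM'i : M'.index = 2 ^ d := by
    rw [hM', Subgroup.index_map_eq M hπs (by rwa [hπ, QuotientGroup.ker_mk']), hd]
  have hP'c : ∀ a ∈ P', ∀ b ∈ P', a * b = b * a := by
    rintro _ ⟨a, ha, rfl⟩ _ ⟨b, hb, rfl⟩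
    rw [← map_mul, ← map_mul,
      show a * b = b * a from congrArg (fun z : (P : Subgroup G) => (z : G))
        (hP.is_comm.comm ⟨a, ha⟩ ⟨b, hb⟩)]
  have hP'2 : IsPGroup 2 P' := P.isPGroup'.map π
  have hP'i : Odd P'.index := by
    refine (Nat.not_even_iff_odd.1 fun he => P.not_dvd_index
      (even_iff_two_dvd.1 he |>.trans ?_))
    exact (P : Subgroup G).index_map_dvd hπs
  -- `P'` is transitive on the cosets of `M'`
  have hprod : ∀ g : G ⧸ N, ∃ p ∈ P', ∃ m ∈ M', g = p * m := by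
    let f : P' ⧸ M'.subgroupOf P' → (G ⧸ N) ⧸ M' := Quotient.map' (fun g => (g : G ⧸ N))
      (fun g g' h => by
        rw [QuotientGroup.leftRel_apply] at h ⊢
        simpa [Subgroup.mem_subgroupOf] using h)
    have hf : Function.Injective f := by
      intro a b
      induction a using QuotientGroup.induction_on with | H a => ?_
      induction b using QuotientGroup.induction_on with | H b => ?_
      intro h
      change (QuotientGroup.mk (a : G ⧸ N) : (G ⧸ N) ⧸ M') = QuotientGroup.mk (b : G ⧸ N) at h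
      rw [QuotientGroup.eq] at h ⊢
      simpa [Subgroup.mem_subgroupOf] using h
    have hle : Nat.card ((G ⧸ N) ⧸ M') ≤ Nat.card (P' ⧸ M'.subgroupOf P') := by
      show M'.index ≤ (M'.subgroupOf P').index
      have h1 := (M'.subgroupOf P').card_mul_index
      have h2 : Nat.card (M'.subgroupOf P') ∣ Nat.card M' := by
        rw [← card_map_subtype, Subgroup.subgroupOf_map_subtype]
        exact Subgroup.card_dvd_of_le inf_le_left
      have h3 : Nat.card P' * P'.index = Nat.card M' * M'.index := by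
        rw [Subgroup.card_mul_index, Subgroup.card_mul_index]
      have h4 : M'.index ∣ (M'.subgroupOf P').index * P'.index := by
        obtain ⟨e, he⟩ := h2
        refine ⟨e, Nat.eq_of_mul_eq_mul_left (Nat.card_pos : 0 < Nat.card (M'.subgroupOf P')) ?_⟩
        rw [← mul_assoc, h1, h3, he]; ring
      exact Nat.le_of_dvd (Nat.pos_of_ne_zero Subgroup.index_ne_zero_of_finite)
        (Nat.Coprime.dvd_of_dvd_mul_right (hM'i ▸ Nat.Coprime.pow_left d
          (Nat.coprime_two_left.2 hP'i)) h4)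
    have hb := (Nat.bijective_iff_injective_and_card f).2
      ⟨hf, le_antisymm (Nat.card_le_card_of_injective f hf) hle⟩
    intro g
    obtain ⟨a, ha⟩ := hb.2 (QuotientGroup.mk g)
    induction a using QuotientGroup.induction_on with | H a => ?_
    change (QuotientGroup.mk (a : G ⧸ N) : (G ⧸ N) ⧸ M') = QuotientGroup.mk g at ha
    exact ⟨a, a.2, _, QuotientGroup.eq.1 ha, by group⟩
  -- a regular abelian group
  have hinf : P' ⊓ M' = ⊥ := by
    rw [eq_bot_iff]
    intro t ht
    obtain ⟨htP, g, hgM, rfl⟩ := ht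
    refine Subgroup.mem_bot.2 ((QuotientGroup.eq_one_iff g).2 ?_)
    intro x
    obtain ⟨p, hp, m, hm, e⟩ := hprod (π x⁻¹)
    have key : π (x * g * x⁻¹) ∈ M' := by
      have e1 : π x = m⁻¹ * p⁻¹ := by rw [← mul_inv_rev, ← e, map_inv, inv_inv]
      rw [map_mul, map_mul, map_inv, e1,
        show m⁻¹ * p⁻¹ * π g * (m⁻¹ * p⁻¹)⁻¹ = m⁻¹ * (p⁻¹ * π g * p) * m by group,
        show p⁻¹ * π g * p = π g by rw [mul_assoc, hP'c _ htP p hp]; group]
      exact mul_mem (mul_mem (inv_mem hm) ⟨g, hgM, rfl⟩) hm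
    obtain ⟨y, hy, ey⟩ := key
    have : y⁻¹ * (x * g * x⁻¹) ∈ N := QuotientGroup.eq.1 ey
    have := mul_mem hy (hker this)
    rwa [mul_inv_cancel_left] at this
  have hcompl : Subgroup.IsComplement' P' M' := by
    refine Subgroup.isComplement'_of_disjoint_and_mul_eq_univ (disjoint_iff.2 hinf) ?_
    rw [Set.eq_univ_iff_forall]
    intro g
    obtain ⟨p, hp, m, hm, e⟩ := hprod g
    exact Set.mem_mul.2 ⟨p, hp, m, hm, e.symm⟩
  have hcm : Nat.card P' * Nat.card M' = Nat.card (G ⧸ N) := hcompl.card_mul_card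
  have hfac : Factored P' M' := by
    refine ⟨⟨⟨fun a b => Subtype.ext (hP'c a a.2 b b.2)⟩⟩, hP'2, ?_, hcm⟩
    rw [← P'.card_mul_index] at hcm
    rw [Nat.eq_of_mul_eq_mul_left Nat.card_pos hcm]
    exact hP'i
  haveI := isSolvable hfac
  have hperf : Group.IsPerfect (G ⧸ N) := inferInstance
  have htriv : (⊤ : Subgroup (G ⧸ N)) = ⊥ := by
    obtain ⟨⟨n, hn⟩⟩ := (inferInstance : Group.IsSolvable (G ⧸ N))
    rwa [hperf.derivedSeries_eq_top] at hn
  refine hM.1 (top_le_iff.1 fun g _ => hker ?_)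
  exact (QuotientGroup.eq_one_iff g).1 (Subgroup.mem_bot.1 (htriv ▸ Subgroup.mem_top _))

end Cfsg.Agent.Solv.AbelianOdd
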