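import Mathlib
import Cfsg.Agent.Lib.Solv.Basic

/-!
Orders of nilpotent permutation groups.
-/

set_option autoImplicit false

namespace Cfsg.Agent.Solv.NilPerm

/-- The exponent of two in a factorial. -/
noncomputable def V (n : ℕ) : ℕ := padicValNat 2 n.factorial

/-- The bound. -/
noncomputable def F (n : ℕ) : ℕ :=
  (if n % 4 = 3 then 3 else if n % 4 = 2 then 2 else 1) * 2 ^ (3 * (n / 4) + V (n / 4))

theorem V_zero : V 0 = 0 := by simp [V]

theorem V_one : V 1 = 0 := by simp [V]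

theorem V_two_mul (k : ℕ) : V (2 * k) = k + V k := by
  haveI : Fact (Nat.Prime 2) := ⟨Nat.prime_two⟩
  rw [V, V, padicValNat_factorial_mul, add_comm]

theorem V_two_mul_add (k : ℕ) : V (2 * k + 1) = k + V k := by
  haveI : Fact (Nat.Prime 2) := ⟨Nat.prime_two⟩
  rw [V, padicValNat_factorial_mul_add k (by norm_num)]
  exact V_two_mul k

theorem V_add_le (a b : ℕ) : V a + V b ≤ V (a + b) := by
  haveI : Fact (Nat.Prime 2) := ⟨Nat.prime_two⟩
  rw [V, V, V, ← padicValNat.mul (Nat.factorial_ne_zero a) (Nat.factorial_ne_zero b)]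
  exact (padicValNat_dvd_iff_le (Nat.factorial_ne_zero _)).1
    (pow_padicValNat_dvd.trans (Nat.factorial_mul_factorial_dvd_factorial_add a b))

theorem V_succ_le (a : ℕ) : V a ≤ V (a + 1) := le_of_add_le_of_nonneg_left (V_add_le a 1) (Nat.zero_le _)

theorem F_four_mul (i : ℕ) {r : ℕ} (hr : r < 4) :
    F (4 * i + r) = (if r = 3 then 3 else if r = 2 then 2 else 1) * 2 ^ (3 * i + V i) := by
  rw [F, show (4 * i + r) % 4 = r by omega, show (4 * i + r) / 4 = i by omega]

theorem V_four_mul (i : ℕ) {r : ℕ} (hr : r < 4) : V (4 * i + r) = 3 * i + V i + r / 2 := by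
  interval_cases r
  · rw [show 4 * i + 0 = 2 * (2 * i) by ring, V_two_mul, V_two_mul]; omega
  · rw [show 4 * i + 1 = 2 * (2 * i) + 1 by ring, V_two_mul_add, V_two_mul]; omega
  · rw [show 4 * i + 2 = 2 * (2 * i + 1) by ring, V_two_mul, V_two_mul_add]; omega
  · rw [show 4 * i + 3 = 2 * (2 * i + 1) + 1 by ring, V_two_mul_add, V_two_mul_add]; omega

theorem F_ge (n : ℕ) : 2 ^ V n ≤ F n := by
  obtain ⟨i, r, hr, rfl⟩ : ∃ i r, r < 4 ∧ n = 4 * i + r := ⟨n / 4, n % 4, by omega, by omega⟩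
  rw [F_four_mul i hr, V_four_mul i hr, pow_add _ (3 * i + V i)]
  generalize 2 ^ (3 * i + V i) = X
  interval_cases r <;> norm_num <;> omega

theorem F_le (n : ℕ) : 2 * F n ≤ 3 * 2 ^ V n := by
  obtain ⟨i, r, hr, rfl⟩ : ∃ i r, r < 4 ∧ n = 4 * i + r := ⟨n / 4, n % 4, by omega, by omega⟩
  rw [F_four_mul i hr, V_four_mul i hr, pow_add _ (3 * i + V i)]
  generalize 2 ^ (3 * i + V i) = X
  interval_cases r <;> norm_num <;> omega

theorem F_eq (n : ℕ) (hn : n % 4 ≠ 3) : F n = 2 ^ V n := by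
  obtain ⟨i, r, hr, rfl⟩ : ∃ i r, r < 4 ∧ n = 4 * i + r := ⟨n / 4, n % 4, by omega, by omega⟩
  rw [F_four_mul i hr, V_four_mul i hr, pow_add _ (3 * i + V i)]
  generalize 2 ^ (3 * i + V i) = X
  interval_cases r <;> norm_num <;> omega

theorem F_pos (n : ℕ) : 0 < F n := lt_of_lt_of_le (pow_pos (by norm_num) _) (F_ge n)

theorem F_add (a b : ℕ) : F a * F b ≤ F (a + b) := by
  obtain ⟨i, r, hr, rfl⟩ : ∃ i r, r < 4 ∧ a = 4 * i + r := ⟨a / 4, a % 4, by omega, by omega⟩
  obtain ⟨j, s, hs, rfl⟩ : ∃ j s, s < 4 ∧ b = 4 * j + s := ⟨b / 4, b % 4, by omega, by omega⟩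
  rw [F_four_mul i hr, F_four_mul j hs]
  have hX : 2 ^ (3 * i + V i) * 2 ^ (3 * j + V j) ≤ 2 ^ (3 * (i + j) + V (i + j)) := by
    rw [← pow_add]
    exact Nat.pow_le_pow_right (by norm_num) (by have := V_add_le i j; omega)
  have hY : 8 * (2 ^ (3 * i + V i) * 2 ^ (3 * j + V j)) ≤ 2 ^ (3 * (i + j + 1) + V (i + j + 1)) := by
    refine (Nat.mul_le_mul_left 8 hX).trans ?_
    rw [show (8 : ℕ) = 2 ^ 3 by norm_num, ← pow_add]
    exact Nat.pow_le_pow_right (by norm_num) (by have := V_succ_le (i + j); omega)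
  have hZ : 2 ^ (3 * (i + j) + V (i + j)) ≤ 2 ^ (3 * (i + j + 1) + V (i + j + 1)) :=
    Nat.pow_le_pow_right (by norm_num) (by have := V_succ_le (i + j); omega)
  generalize 2 ^ (3 * i + V i) = X at hX hY ⊢
  generalize 2 ^ (3 * j + V j) = Y at hX hY ⊢
  by_cases h : r + s < 4
  · rw [show 4 * i + r + (4 * j + s) = 4 * (i + j) + (r + s) by ring, F_four_mul _ h]
    interval_cases r <;> interval_cases s <;> first | (exfalso; omega) | (norm_num; done) | (norm_num; nlinarith)
  · rw [show 4 * i + r + (4 * j + s) = 4 * (i + j + 1) + (r + s - 4) by omega,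
      F_four_mul _ (show r + s - 4 < 4 by omega)]
    interval_cases r <;> interval_cases s <;> first | (exfalso; omega) | (norm_num; done) | (norm_num; nlinarith)

theorem two_pow_le (h : ℕ) : 2 ^ h ≤ 2 ^ V h * (h + 1) := by
  induction h using Nat.strong_induction_on with
  | _ h ih =>
    rcases Nat.even_or_odd' h with ⟨i, rfl | rfl⟩
    · rcases Nat.eq_zero_or_pos i with rfl | hi
      · simp [V_zero]
      · rw [V_two_mul, pow_add, two_mul, pow_add, mul_assoc]
        exact Nat.mul_le_mul_left _ ((ih i (by omega)).trans (Nat.mul_le_mul_left _ (by omega)))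
    · rw [V_two_mul_add, pow_add 2 (2 * i) 1, pow_add 2 i (V i), two_mul i, pow_add, mul_assoc, mul_assoc]
      refine Nat.mul_le_mul_left _ ?_
      have := ih i (by omega)
      nlinarith

theorem pow_three_bound : ∀ t, 10 ≤ t → 3 * 3 ^ t * (t + 1) ≤ 2 * 4 ^ t := by
  intro t ht
  induction t, ht using Nat.le_induction with
  | base => norm_num
  | succ t ht ih =>
    rw [pow_succ, pow_succ]
    have : 3 * (t + 1 + 1) ≤ 4 * (t + 1) := by omega
    nlinarith [Nat.zero_le (3 ^ t)]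

theorem k_bound : ∀ k, 2 ≤ k → 3 * (2 * k + 1) ^ 3 ≤ 2 * 16 ^ k := by
  intro k hk
  induction k, hk using Nat.le_induction with
  | base => norm_num
  | succ k hk ih =>
    rw [pow_succ 16]
    have h1 : (2 * (k + 1) + 1) ^ 3 ≤ (2 * (2 * k + 1)) ^ 3 := Nat.pow_le_pow_left (by omega) 3
    rw [mul_pow] at h1
    norm_num at h1
    nlinarith

theorem k_bound_one : ∀ k, 3 ≤ k → 3 * (2 * k + 1) * (k + 1) ≤ 2 * 4 ^ k := by
  intro k hk
  induction k, hk using Nat.le_induction with
  | base => norm_num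
  | succ k hk ih => rw [pow_succ]; nlinarith

theorem t_bound (k : ℕ) (hk : 2 ≤ k) : ∀ t, 2 ≤ t → 3 * (2 * k + 1) ^ t * (k * t + 1) ≤ 2 * 4 ^ (k * t) := by
  intro t ht
  induction t, ht using Nat.le_induction with
  | base =>
    rw [show 4 ^ (k * 2) = 16 ^ k by rw [mul_comm, pow_mul]; norm_num]
    have := k_bound k hk
    nlinarith [Nat.zero_le ((2 * k + 1) ^ 2)]
  | succ t ht ih =>
    rw [pow_succ, mul_add k t 1, mul_one, pow_add]
    have h1 : (2 * k + 1) * 2 ≤ 4 ^ k := by
      clear ih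
      induction k, hk using Nat.le_induction with
      | base => norm_num
      | succ k hk ih => rw [pow_succ]; nlinarith
    have h2 : k * t + k + 1 ≤ 2 * (k * t + 1) := by nlinarith
    calc 3 * ((2 * k + 1) ^ t * (2 * k + 1)) * (k * t + k + 1)
        ≤ 3 * ((2 * k + 1) ^ t * (2 * k + 1)) * (2 * (k * t + 1)) := Nat.mul_le_mul_left _ h2
      _ = (3 * (2 * k + 1) ^ t * (k * t + 1)) * ((2 * k + 1) * 2) := by ring
      _ ≤ (2 * 4 ^ (k * t)) * 4 ^ k := Nat.mul_le_mul ih h1
      _ = 2 * (4 ^ (k * t) * 4 ^ k) := by ring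

theorem F_small : 3 * F 1 ≤ F 3 ∧ 5 * F 1 ≤ F 5 ∧ 3 ^ 3 * F 3 ≤ F 9 ∧ 3 ^ 9 * F 9 ≤ F 27 := by
  have h6 : V 6 = 4 := by rw [show (6 : ℕ) = 2 * (2 * 1 + 1) from rfl, V_two_mul, V_two_mul_add, V_one]
  have h2 : V 2 = 1 := by rw [show (2 : ℕ) = 2 * 1 from rfl, V_two_mul, V_one]
  norm_num [F, V_zero, V_one, h6, h2]

theorem F_mul_odd (k m t : ℕ) (hk : 1 ≤ k) (hp : (2 * k + 1).Prime) (htm : t ∣ m) (hm : 0 < m)
    (ht : ∃ a, t = (2 * k + 1) ^ a) :
    (2 * k + 1) ^ t * F m ≤ F ((2 * k + 1) * m) := by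
  -- it is enough to compare powers of two
  have hsuff : 3 * (2 * k + 1) ^ t ≤ 2 * 2 ^ (k * m + V (k * m)) →
      (2 * k + 1) ^ t * F m ≤ F ((2 * k + 1) * m) := by
    intro h
    refine le_trans ?_ (F_ge _)
    have hV : k * m + V (k * m) + V m ≤ V ((2 * k + 1) * m) := by
      rw [← V_two_mul, show (2 * k + 1) * m = 2 * (k * m) + m by ring]
      exact V_add_le _ _
    refine le_trans ?_ (Nat.pow_le_pow_right (by norm_num) hV)
    rw [pow_add]
    have h1 := F_le m
    refine Nat.le_of_mul_le_mul_left ?_ (by norm_num : 0 < 2)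
    calc 2 * ((2 * k + 1) ^ t * F m) = (2 * k + 1) ^ t * (2 * F m) := by ring
      _ ≤ (2 * k + 1) ^ t * (3 * 2 ^ V m) := Nat.mul_le_mul_left _ h1
      _ = 3 * (2 * k + 1) ^ t * 2 ^ V m := by ring
      _ ≤ 2 * 2 ^ (k * m + V (k * m)) * 2 ^ V m := Nat.mul_le_mul_right _ h
      _ = 2 * (2 ^ (k * m + V (k * m)) * 2 ^ V m) := by ring
  obtain ⟨r, rfl⟩ := htm
  have hr : 0 < r := Nat.pos_of_mul_pos_left hm
  rcases (show r = 1 ∨ 2 ≤ r by omega) with rfl | hr2
  · rw [mul_one] at *
    obtain ⟨a, rfl⟩ := ht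
    set t := (2 * k + 1) ^ a with hta
    have hbound : 3 * (2 * k + 1) ^ t * (k * t + 1) ≤ 2 * 4 ^ (k * t) →
        3 * (2 * k + 1) ^ t ≤ 2 * 2 ^ (k * t + V (k * t)) := by
      intro h
      refine Nat.le_of_mul_le_mul_right ?_ (Nat.succ_pos (k * t))
      refine h.trans ?_
      rw [show (4 : ℕ) ^ (k * t) = 2 ^ (k * t) * 2 ^ (k * t) by rw [← mul_pow]; norm_num, pow_add, mul_assoc, mul_assoc]
      exact Nat.mul_le_mul_left _ (Nat.mul_le_mul_left _ (two_pow_le _))
    by_cases hk1 : k = 1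
    · subst hk1
      rcases (show a = 0 ∨ a = 1 ∨ a = 2 ∨ 3 ≤ a by omega) with rfl | rfl | rfl | ha
      · simpa [hta] using F_small.1
      · simpa [hta] using F_small.2.2.1
      · simpa [hta] using F_small.2.2.2
      · have h27 : 27 ≤ t := le_trans (by norm_num) (Nat.pow_le_pow_right (by norm_num) ha)
        exact hsuff (hbound (by simpa using pow_three_bound t (by omega)))
    · by_cases ha : a = 0
      · subst ha
        rw [pow_zero] at hta
        subst t
        by_cases hk2 : k = 2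
        · subst hk2; simpa using F_small.2.1
        · exact hsuff (hbound (by simpa using k_bound_one k (by omega)))
      · refine hsuff (hbound (t_bound k (by omega) t ?_))
        calc 2 ≤ (2 * k + 1) ^ 1 := by rw [pow_one]; omega
          _ ≤ t := Nat.pow_le_pow_right (by omega) (by omega)
  · refine hsuff ?_
    have htp : 0 < t := Nat.pos_of_mul_pos_right hm
    have hh : 2 ≤ k * (t * r) := by nlinarith [Nat.mul_pos hk htp]
    have hV : 1 ≤ V (k * (t * r)) := by
      have h2 : V 2 = 1 := by rw [show (2 : ℕ) = 2 * 1 from rfl, V_two_mul, V_one]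
      have := V_add_le 2 (k * (t * r) - 2)
      rw [show 2 + (k * (t * r) - 2) = k * (t * r) by omega] at this
      omega
    have h1 : (2 * k + 1) ^ t ≤ 4 ^ (k * t) := by
      rw [pow_mul]
      refine Nat.pow_le_pow_left ?_ t
      have : k + 1 ≤ 2 ^ k := Nat.lt_two_pow_self
      rw [show (4 : ℕ) = 2 * 2 from rfl, mul_pow]
      nlinarith
    calc 3 * (2 * k + 1) ^ t ≤ 4 * 4 ^ (k * t) := Nat.mul_le_mul (by norm_num) h1
      _ = 2 * 2 ^ (2 * (k * t) + 1) := by rw [show (4 : ℕ) = 2 ^ 2 by norm_num, ← pow_mul, pow_succ 2 (2 * (k * t))]; ring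
      _ ≤ 2 * 2 ^ (k * (t * r) + V (k * (t * r))) := by
          refine Nat.mul_le_mul_left _ (Nat.pow_le_pow_right (by norm_num) ?_)
          have : 2 * (k * t) ≤ k * (t * r) := by
            calc 2 * (k * t) ≤ r * (k * t) := Nat.mul_le_mul_right _ hr2
              _ = k * (t * r) := by ring
          omega

theorem F_mul_two (a t : ℕ) (ht : t ≤ 2 ^ a) : 2 ^ t * F (2 ^ a) ≤ F (2 * 2 ^ a) := by
  have hne : ∀ b, 2 ^ b % 4 ≠ 3 := by
    intro b
    rcases b with _ | _ | b
    · norm_num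
    · norm_num
    · rw [show 2 ^ (b + 2) = 4 * 2 ^ b by ring]; omega
  rw [F_eq _ (hne a), show 2 * 2 ^ a = 2 ^ (a + 1) by ring, F_eq _ (hne (a + 1)), ← pow_add,
    show 2 ^ (a + 1) = 2 * 2 ^ a by ring, V_two_mul]
  exact Nat.pow_le_pow_right (by norm_num) (by omega)

open Subgroup

theorem centralizes_other {G : Type*} [Group G] [Finite G] [Group.IsNilpotent G] {p q : ℕ} [Fact p.Prime]
    [Fact q.Prime] (hpq : p ≠ q) (P : Sylow p G) (Q : Sylow q G) :
    (Q : Subgroup G) ≤ centralizer ((P : Subgroup G) : Set G) := by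
  haveI : (P : Subgroup G).Normal := inferInstance
  haveI : (Q : Subgroup G).Normal := inferInstance
  intro x hx
  rw [mem_centralizer_iff]
  intro y hy
  exact Subgroup.commute_of_normal_of_disjoint _ _ inferInstance inferInstance
    (IsPGroup.disjoint_of_ne p q hpq _ _ P.isPGroup' Q.isPGroup') y x hy hx

theorem exists_central {G : Type*} [Group G] [Finite G] [Group.IsNilpotent G] {p : ℕ} [hp : Fact p.Prime]
    (P : Sylow p G) (hd : p ∣ Nat.card G) : ∃ z ∈ center G, orderOf z = p := by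
  haveI : Nontrivial ↥(P : Subgroup G) := (nontrivial_iff_ne_bot _).2 (P.ne_bot_of_dvd_card hd)
  haveI := IsPGroup.center_nontrivial P.isPGroup'
  obtain ⟨k, hk⟩ := (P.isPGroup'.to_subgroup (center ↥(P : Subgroup G))).exists_card_eq
  have hk0 : k ≠ 0 := fun e => by
    rw [e, pow_zero] at hk
    exact absurd hk (Finite.one_lt_card (α := ↥(center ↥(P : Subgroup G)))).ne'
  obtain ⟨z, hz⟩ := exists_prime_orderOf_dvd_card' p (hk ▸ dvd_pow_self p hk0)
  refine ⟨((z : ↥(P : Subgroup G)) : G), ?_, by rw [Subgroup.orderOf_coe, Subgroup.orderOf_coe, hz]⟩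
  have hle : ∀ (q : ℕ) [Fact q.Prime] (Q : Sylow q G),
      (Q : Subgroup G) ≤ centralizer {((z : ↥(P : Subgroup G)) : G)} := by
    intro q hq Q x hx
    rw [mem_centralizer_singleton_iff]
    by_cases hpq : p = q
    · subst hpq
      haveI : Subsingleton (Sylow p G) := (Sylow.unique_of_normal P inferInstance).instSubsingleton
      have : Q = P := Subsingleton.elim _ _
      subst this
      exact congrArg Subtype.val (mem_center_iff.1 z.2 ⟨x, hx⟩)
    · exact (mem_centralizer_iff.1 (centralizes_other hpq P Q hx) _ (z : ↥(P : Subgroup G)).2).symm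
  have htop : centralizer {((z : ↥(P : Subgroup G)) : G)} = ⊤ := by
    refine eq_top_of_card_eq _ (Nat.dvd_antisymm (card_subgroup_dvd_card _) ?_)
    refine (Nat.factorization_le_iff_dvd Nat.card_pos.ne' Nat.card_pos.ne').1 fun q => ?_
    by_cases hq : q.Prime
    · haveI := Fact.mk hq
      refine (hq.pow_dvd_iff_le_factorization Nat.card_pos.ne').1 ?_
      rw [← Sylow.card_eq_multiplicity (default : Sylow q G)]
      exact card_dvd_of_le (hle q _)
    · simp [Nat.factorization_eq_zero_of_not_prime _ hq]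
  refine mem_center_iff.2 fun x => ?_
  exact mem_centralizer_singleton_iff.1 (htop ▸ mem_top x)

theorem index_centralizer {G : Type*} [Group G] [Finite G] [Group.IsNilpotent G] {p : ℕ} [Fact p.Prime]
    (P : Sylow p G) : ∃ j, (centralizer ((P : Subgroup G) : Set G)).index ∣ p ^ j := by
  set C := centralizer ((P : Subgroup G) : Set G)
  refine ⟨C.index.factorization p, ?_⟩
  refine (Nat.factorization_le_iff_dvd index_ne_zero_of_finite (pow_ne_zero _ (Fact.out : p.Prime).ne_zero)).1 fun q => ?_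
  by_cases hpq : p = q
  · subst hpq
    rw [Nat.Prime.factorization_pow Fact.out, Finsupp.single_eq_same]
  · by_cases hq : q.Prime
    · haveI := Fact.mk hq
      have h := index_dvd_of_le (centralizes_other hpq P (default : Sylow q G))
      rw [Nat.factorization_eq_zero_of_not_dvd fun hd => (default : Sylow q G).not_dvd_index (hd.trans h)]
      exact Nat.zero_le _
    · simp [Nat.factorization_eq_zero_of_not_prime _ hq]

/-- A transitive nilpotent group sits over its action on the cycles of a central element of prime order. -/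
theorem trans_core (n : ℕ) (hb : ∀ m < n, ∀ {β : Type} [Finite β] (G : Subgroup (Equiv.Perm β)), Nat.card β = m →
      Group.IsNilpotent ↥G → Nat.card ↥G ≤ F m)
    {α : Type} [Finite α] (G : Subgroup (Equiv.Perm α)) (hn : Nat.card α = n) [Group.IsNilpotent ↥G] (a₀ : α)
    (htr : ∀ x : α, ∃ g : ↥G, (g : Equiv.Perm α) a₀ = x) {p : ℕ} (hp : p.Prime) (hpn : p ∣ n) :
    ∃ t m a, n = p * m ∧ t = p ^ a ∧ t ∣ m ∧ Nat.card ↥G ≤ p ^ t * F m := by
    classical
    set H₀ := MulAction.stabilizer ↥G a₀ with hH₀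
    have hidx : H₀.index = n := by
      rw [MulAction.index_stabilizer, ← hn, ← Nat.card_coe_set_eq]
      refine Nat.card_congr (Equiv.subtypeUnivEquiv fun x => ?_)
      obtain ⟨g, hg⟩ := htr x
      exact ⟨g, hg⟩
    haveI := Fact.mk hp
    have hdG : p ∣ Nat.card ↥G := (hidx ▸ hpn).trans (index_dvd_card H₀)
    let P : Sylow p ↥G := default
    obtain ⟨z, hzc, hz⟩ := exists_central P hdG
    have hzmove : z ∉ H₀ := by
      intro h
      have h1 : z = 1 := by
        apply Subtype.ext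
        ext x
        obtain ⟨g, rfl⟩ := htr x
        have h2 := congrArg Subtype.val (mem_center_iff.1 hzc g)
        have h3 : (z : Equiv.Perm α) a₀ = a₀ := h
        calc (z : Equiv.Perm α) ((g : Equiv.Perm α) a₀) = ((g : Equiv.Perm α) * z) a₀ := by
              rw [show (g : Equiv.Perm α) * z = z * g from h2]; rfl
          _ = (g : Equiv.Perm α) a₀ := by rw [Equiv.Perm.mul_apply, h3]
      rw [h1, orderOf_one] at hz
      exact hp.ne_one hz.symm
    haveI : (zpowers z).Normal := ⟨fun x hx g => by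
      rw [mem_center_iff.1 ((zpowers_le.2 hzc) hx) g, mul_inv_cancel_right]
      exact hx⟩
    set H₁ := H₀ ⊔ zpowers z with hH₁
    -- index of the block stabiliser
    have hm : H₁.index * p = n := by
      rw [← hidx, ← relIndex_mul_index (le_sup_left : H₀ ≤ H₁), mul_comm (H₀.relIndex H₁)]
      congr 1
      have hinf : zpowers z ⊓ H₀ = ⊥ := by
        rw [eq_bot_iff]
        intro x hx
        obtain ⟨hx1, hx2⟩ := hx
        rw [mem_bot]
        by_contra hne
        have h1 : zpowers x = zpowers z := by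
          refine eq_of_le_of_card_ge (zpowers_le.2 hx1) ?_
          have h2 : orderOf x ∣ p := hz ▸ (orderOf_dvd_of_mem_zpowers hx1)
          rw [Nat.card_zpowers, Nat.card_zpowers, hz]
          exact ((Nat.dvd_prime hp).1 h2).resolve_left (fun e => hne (orderOf_eq_one_iff.1 e)) |>.ge
        exact hzmove ((zpowers_le.2 hx2) (h1 ▸ mem_zpowers z))
      have hc : Nat.card ↥H₁ = p * Nat.card ↥H₀ := by
        rw [hH₁, sup_comm, Solv.card_sup_of_inf_eq_bot (zpowers z) H₀ hinf, Nat.card_zpowers, hz]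
      have hr := card_mul_index (H₀.subgroupOf H₁)
      rw [Solv.card_subgroupOf le_sup_left, hc, mul_comm p] at hr
      exact (Nat.eq_of_mul_eq_mul_left Nat.card_pos hr).symm
    set m := H₁.index with hmdef
    have hm0 : 0 < m := Nat.pos_of_ne_zero index_ne_zero_of_finite
    -- the action on blocks
    let ψ := MulAction.toPermHom ↥G (↥G ⧸ H₁)
    have hrange : Nat.card ↥ψ.range ≤ F m := by
      refine hb m ?_ ψ.range rfl (Group.nilpotent_of_surjective ψ.rangeRestrict ψ.rangeRestrict_surjective)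
      rw [← hm]
      exact lt_mul_of_one_lt_right hm0 hp.one_lt
    set C := centralizer ((P : Subgroup ↥G) : Set ↥G) with hC
    haveI : (P : Subgroup ↥G).Normal := inferInstance
    haveI hCn : C.Normal := inferInstance
    set L := C ⊔ H₁ with hL
    -- kernel elements shift every point inside its cycle
    have hkmap : ∀ k ∈ ψ.ker, ∀ x : α, ∃ c : ↥(zpowers z),
        (k : Equiv.Perm α) x = ((c : ↥G) : Equiv.Perm α) x := by
      intro k hk x
      obtain ⟨g, rfl⟩ := htr x
      have h1 := Equiv.Perm.ext_iff.1 (MonoidHom.mem_ker.1 hk) (g : ↥G ⧸ H₁)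
      have h2 : g⁻¹ * (k * g) ∈ H₁ := QuotientGroup.eq.1 (Eq.symm h1)
      rw [hH₁, sup_comm, mem_sup_of_normal_left] at h2
      obtain ⟨y, hy, h, hh, e⟩ := h2
      refine ⟨⟨y, hy⟩, ?_⟩
      have h4 : k * g = y * g * h := by
        rw [← mem_center_iff.1 ((zpowers_le.2 hzc) hy) g, mul_assoc g, e]
        group
      have h5 := congrArg (fun u : ↥G => (u : Equiv.Perm α) a₀) h4
      simp only [Subgroup.coe_mul, Equiv.Perm.mul_apply] at h5
      rw [show (h : Equiv.Perm α) a₀ = a₀ from hh] at h5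
      exact h5
    have hkP : ∀ k ∈ ψ.ker, k ∈ (P : Subgroup ↥G) := by
      intro k hk
      have hkp : k ^ p = 1 := by
        apply Subtype.ext
        ext x
        obtain ⟨c, hc⟩ := hkmap k hk x
        have hi : ∀ i : ℕ, ((k ^ i : ↥G) : Equiv.Perm α) x = (((c : ↥G) ^ i : ↥G) : Equiv.Perm α) x := by
          intro i
          induction i with
          | zero => simp
          | succ i ihi =>
            rw [pow_succ', Subgroup.coe_mul, Equiv.Perm.mul_apply, ihi, ← Equiv.Perm.mul_apply, ← Subgroup.coe_mul,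
              mem_center_iff.1 ((center ↥G).pow_mem ((zpowers_le.2 hzc) c.2) i) k, Subgroup.coe_mul,
              Equiv.Perm.mul_apply, hc, ← Equiv.Perm.mul_apply, ← Subgroup.coe_mul, ← pow_succ]
        have hcp : (c : ↥G) ^ p = 1 := by
          obtain ⟨i, hi'⟩ := mem_zpowers_iff.1 c.2
          rw [← hi', ← zpow_natCast, ← zpow_mul, mul_comm, zpow_mul, zpow_natCast, ← hz, pow_orderOf_eq_one, one_zpow]
        rw [hi p, hcp]
      haveI : Subsingleton (Sylow p ↥G) := (Sylow.unique_of_normal P inferInstance).instSubsingleton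
      have hpk : IsPGroup p ↥(zpowers k) := by
        obtain ⟨i, -, hi⟩ := (Nat.dvd_prime_pow hp).1 (show orderOf k ∣ p ^ 1 by
          rw [pow_one]; exact orderOf_dvd_of_pow_eq_one hkp)
        exact IsPGroup.of_card (n := i) (by rw [Nat.card_zpowers, hi])
      obtain ⟨Q, hQ⟩ := hpk.exists_le_sylow
      rw [Subsingleton.elim P Q]
      exact hQ (mem_zpowers k)
    choose c hc using hkmap
    let f : ↥ψ.ker → (↥G ⧸ L → ↥(zpowers z)) := fun k q =>
      c k k.2 ((q.out : Equiv.Perm α) a₀)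
    have hf : Function.Injective f := by
      intro k k' hkk
      refine Subtype.ext (Subtype.ext (Equiv.ext fun x => ?_))
      obtain ⟨g, rfl⟩ := htr x
      obtain ⟨l, hl, hgl⟩ : ∃ l ∈ L, g = (g : ↥G ⧸ L).out * l :=
        ⟨((g : ↥G ⧸ L).out)⁻¹ * g, QuotientGroup.eq.1 (QuotientGroup.out_eq' _), by group⟩
      set q := (g : ↥G ⧸ L)
      have hbase : ((k : ↥G) : Equiv.Perm α) ((q.out : Equiv.Perm α) a₀) =
          ((k' : ↥G) : Equiv.Perm α) ((q.out : Equiv.Perm α) a₀) := by
        rw [hc k k.2, hc k' k'.2, show c k k.2 _ = c k' k'.2 _ from congrFun hkk q]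
      rw [hL, mem_sup_of_normal_left] at hl
      obtain ⟨u, hu, w, hw, rfl⟩ := hl
      rw [hH₁, sup_comm, mem_sup_of_normal_left] at hw
      obtain ⟨y, hy, h₀, hh₀, rfl⟩ := hw
      set v := q.out * u * (q.out)⁻¹ * y with hv
      have hvk : ∀ kk : ↥G, kk ∈ ψ.ker → kk * v = v * kk := by
        intro kk hkk
        have h1 : q.out * u * (q.out)⁻¹ ∈ C := hCn.conj_mem u hu _
        have h2 := mem_centralizer_iff.1 h1 kk (hkP kk hkk)
        have h3 := mem_center_iff.1 ((zpowers_le.2 hzc) hy) kk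
        rw [hv, ← mul_assoc, h2, mul_assoc, h3, ← mul_assoc]
      have hx : (g : Equiv.Perm α) a₀ = (v : Equiv.Perm α) ((q.out : Equiv.Perm α) a₀) := by
        have h4 : g = v * q.out * h₀ := by
          rw [hgl, hv, mul_assoc _ y q.out, ← mem_center_iff.1 ((zpowers_le.2 hzc) hy) q.out]
          group
        rw [h4, Subgroup.coe_mul, Equiv.Perm.mul_apply, show (h₀ : Equiv.Perm α) a₀ = a₀ from hh₀,
          Subgroup.coe_mul, Equiv.Perm.mul_apply]
      have hcomm : ∀ (kk : ↥G), kk ∈ ψ.ker → ∀ y', (kk : Equiv.Perm α) ((v : Equiv.Perm α) y') =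
          (v : Equiv.Perm α) ((kk : Equiv.Perm α) y') := fun kk hkk y' => by
        rw [← Equiv.Perm.mul_apply, ← Subgroup.coe_mul, hvk kk hkk, Subgroup.coe_mul, Equiv.Perm.mul_apply]
      rw [hx, hcomm k k.2, hcomm k' k'.2, hbase]
    have hK : Nat.card ↥ψ.ker ≤ p ^ L.index := by
      refine (Nat.card_le_card_of_injective f hf).trans (le_of_eq ?_)
      rw [Nat.card_fun, Nat.card_zpowers, hz]
      rfl
    obtain ⟨a, ha⟩ : ∃ a, L.index = p ^ a := by
      obtain ⟨j, hj⟩ := index_centralizer P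
      obtain ⟨a, -, ha⟩ := (Nat.dvd_prime_pow hp).1 ((index_dvd_of_le (le_sup_left : C ≤ L)).trans hj)
      exact ⟨a, ha⟩
    have htm : L.index ∣ m := index_dvd_of_le le_sup_right
    have hcard : Nat.card ↥G = Nat.card ↥ψ.ker * Nat.card ↥ψ.range := by
      rw [← index_ker, card_mul_index]
    rw [hcard]
    exact ⟨L.index, m, a, by rw [mul_comm, hm], ha, htm, (Nat.mul_le_mul hK hrange)⟩

/-- Only primes dividing the degree divide the order of a transitive nilpotent group. -/
theorem prime_dvd_degree {α : Type} [Finite α] (G : Subgroup (Equiv.Perm α)) [Group.IsNilpotent ↥G] (a₀ : α)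
    (htr : ∀ x : α, ∃ g : ↥G, (g : Equiv.Perm α) a₀ = x) {q : ℕ} (hq : q.Prime) (hqG : q ∣ Nat.card ↥G) :
    q ∣ Nat.card α := by
  haveI := Fact.mk hq
  obtain ⟨z, hzc, hz⟩ := exists_central (default : Sylow q ↥G) hqG
  have hfix : ∀ u ∈ zpowers z, (u : Equiv.Perm α) a₀ = a₀ → u = 1 := by
    intro u hu h
    apply Subtype.ext
    ext x
    obtain ⟨g, rfl⟩ := htr x
    rw [← Equiv.Perm.mul_apply, ← Subgroup.coe_mul, ← mem_center_iff.1 ((zpowers_le.2 hzc) hu) g,
      Subgroup.coe_mul, Equiv.Perm.mul_apply, h]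
    rfl
  have h := (IsPGroup.of_card (n := 1) (G := ↥(zpowers z)) (p := q)
    (by rw [Nat.card_zpowers, hz, pow_one])).card_modEq_card_fixedPoints α
  have he : MulAction.fixedPoints ↥(zpowers z) α = ∅ := by
    rw [Set.eq_empty_iff_forall_notMem]
    intro x hx
    obtain ⟨g, rfl⟩ := htr x
    have h1 : (z : Equiv.Perm α) ((g : Equiv.Perm α) a₀) = (g : Equiv.Perm α) a₀ := hx ⟨z, mem_zpowers z⟩
    rw [← Equiv.Perm.mul_apply, ← Subgroup.coe_mul, ← mem_center_iff.1 hzc g, Subgroup.coe_mul,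
      Equiv.Perm.mul_apply] at h1
    have h2 := hfix z (mem_zpowers z) ((g : Equiv.Perm α).injective h1)
    rw [h2, orderOf_one] at hz
    exact hq.ne_one hz.symm
  rw [he, Nat.card_coe_set_eq, Set.ncard_empty] at h
  exact Nat.modEq_zero_iff_dvd.1 h

theorem bound : ∀ n : ℕ, ∀ {α : Type} [Finite α] (G : Subgroup (Equiv.Perm α)), Nat.card α = n →
    Group.IsNilpotent ↥G → Nat.card ↥G ≤ F n := by
  intro n
  induction n using Nat.strong_induction_on with
  | _ n ih =>
  intro α _ G hn hG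
  haveI := hG
  classical
  rcases isEmpty_or_nonempty α with hα | ⟨⟨a₀⟩⟩
  · rw [Nat.card_eq_one_iff_unique.2 ⟨inferInstance, inferInstance⟩]
    exact F_pos n
  haveI : Nonempty α := ⟨a₀⟩
  by_cases htr : ∀ x : α, ∃ g : ↥G, (g : Equiv.Perm α) a₀ = x
  · by_cases hn1 : n = 1
    · haveI : Subsingleton α := (Nat.card_eq_one_iff_unique.1 (hn.trans hn1)).1
      rw [Nat.card_eq_one_iff_unique.2 ⟨inferInstance, inferInstance⟩]
      exact F_pos n
    set H₀ := MulAction.stabilizer ↥G a₀ with hH₀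
    have hidx : H₀.index = n := by
      rw [MulAction.index_stabilizer, ← hn, ← Nat.card_coe_set_eq]
      refine Nat.card_congr (Equiv.subtypeUnivEquiv fun x => ?_)
      obtain ⟨g, hg⟩ := htr x
      exact ⟨g, hg⟩
    obtain ⟨p, hp, hpn, hp2⟩ : ∃ p, p.Prime ∧ p ∣ n ∧ (p = 2 → ∃ a, n = 2 ^ a) := by
      by_cases h : ∃ p, p.Prime ∧ p ∣ n ∧ p ≠ 2
      · obtain ⟨p, h1, h2, h3⟩ := h
        exact ⟨p, h1, h2, fun e => absurd e h3⟩
      · push_neg at h
        have hpos : n ≠ 0 := hn ▸ Nat.card_pos.ne'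
        obtain ⟨a, ha⟩ : ∃ a, n = 2 ^ a := ⟨_, Nat.eq_prime_pow_of_unique_prime_dvd hpos fun {d} hd hdn => h d hd hdn⟩
        obtain ⟨p, h1, h2⟩ := Nat.exists_prime_and_dvd hn1
        exact ⟨p, h1, h2, fun _ => ⟨a, ha⟩⟩
    obtain ⟨t, m, a, hnm, ha, htm, hle⟩ := trans_core n ih G hn a₀ htr hp hpn
    refine hle.trans ?_
    have hm : m * p = n := by rw [hnm, mul_comm]
    have hm0 : 0 < m := Nat.pos_of_ne_zero fun e => by
      rw [e, mul_zero] at hnm
      exact (hn ▸ Nat.card_pos.ne' : n ≠ 0) hnm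
    rw [← hm, mul_comm m p]
    by_cases h2 : p = 2
    · subst h2
      obtain ⟨a', ha'⟩ := hp2 rfl
      rcases a' with _ | a'
      · exact absurd ha' hn1
      · have hm2 : m = 2 ^ a' := by rw [pow_succ] at ha'; omega
        rw [hm2] at htm ⊢
        exact F_mul_two a' _ (Nat.le_of_dvd (pow_pos two_pos _) htm)
    · obtain ⟨k, hk⟩ := hp.odd_of_ne_two h2
      subst hk
      exact F_mul_odd k m _ (by have := hp.two_le; omega) hp htm hm0 ⟨a, ha⟩
  · push_neg at htr
    obtain ⟨b, hb⟩ := htr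
    let O : Set α := MulAction.orbit ↥G a₀
    have hinv : ∀ (g : ↥G) (x : α), (g : Equiv.Perm α) x ∈ O ↔ x ∈ O := fun g x => by
      show g • x ∈ MulAction.orbit ↥G a₀ ↔ x ∈ MulAction.orbit ↥G a₀
      rw [← MulAction.orbit_eq_iff, ← MulAction.orbit_eq_iff, MulAction.orbit_smul]
    let r : ∀ (S : Set α), (∀ (g : ↥G) (x : α), (g : Equiv.Perm α) x ∈ S ↔ x ∈ S) → (↥G →* Equiv.Perm ↥S) :=
      fun S hS =>
        { toFun := fun g => Equiv.Perm.subtypePerm (g : Equiv.Perm α) fun x => (hS g x)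
          map_one' := Equiv.ext fun x => rfl
          map_mul' := fun g h => Equiv.ext fun x => rfl }
    let r₁ := r O hinv
    let r₂ := r Oᶜ fun g x => not_congr (hinv g x)
    have hsum : Nat.card ↥O + Nat.card ↥(Oᶜ) = n := by
      rw [← hn, Nat.card_coe_set_eq, Nat.card_coe_set_eq, Set.ncard_add_ncard_compl]
    have hO : 0 < Nat.card ↥O := Nat.card_pos_iff.2 ⟨⟨⟨a₀, MulAction.mem_orbit_self a₀⟩⟩, inferInstance⟩
    have hOc : 0 < Nat.card ↥(Oᶜ) :=
      Nat.card_pos_iff.2 ⟨⟨⟨b, fun ⟨g, hg⟩ => hb g hg⟩⟩, inferInstance⟩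
    have h1 := ih _ (by omega) r₁.range rfl (Group.nilpotent_of_surjective r₁.rangeRestrict r₁.rangeRestrict_surjective)
    have h2 := ih _ (by omega) r₂.range rfl (Group.nilpotent_of_surjective r₂.rangeRestrict r₂.rangeRestrict_surjective)
    have hinj : Function.Injective fun g : ↥G => ((r₁.rangeRestrict g, r₂.rangeRestrict g) : ↥r₁.range × ↥r₂.range) := by
      intro g h e
      apply Subtype.ext
      ext x
      by_cases hx : x ∈ O
      · have := congrArg (fun t : ↥r₁.range × ↥r₂.range => ((t.1 : Equiv.Perm ↥O) ⟨x, hx⟩ : α)) e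
        exact this
      · have := congrArg (fun t : ↥r₁.range × ↥r₂.range => ((t.2 : Equiv.Perm ↥(Oᶜ)) ⟨x, hx⟩ : α)) e
        exact this
    refine (Nat.card_le_card_of_injective _ hinj).trans ?_
    rw [Nat.card_prod, ← hsum]
    exact (Nat.mul_le_mul h1 h2).trans (F_add _ _)

end Cfsg.Agent.Solv.NilPerm
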