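import Mathlib
import Cfsg.Agent.Lib.Solv.NilpotentPermBound

/-!
Nilpotent permutation groups of largest order.
-/

set_option autoImplicit false

namespace Cfsg.Agent.Solv.NilPerm

open Equiv Subgroup
open scoped Classical

set_option linter.unusedSectionVars false

/-! ### Arithmetic -/

/-- The bound for even nilpotent groups. -/
noncomputable def H (n : ℕ) : ℕ :=
  if n = 0 ∨ n = 1 then 1 else if n = 3 then 3 else if n = 5 then 5 else if n = 6 then 9 else if n = 9 then 81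
  else F n / 2

theorem F_values : F 0 = 1 ∧ F 1 = 1 ∧ F 2 = 2 ∧ F 3 = 3 ∧ F 4 = 8 ∧ F 5 = 8 ∧ F 6 = 16 ∧ F 8 = 128 ∧ F 9 = 128 ∧
    F 10 = 256 ∧ F 11 = 384 ∧ F 12 = 1024 ∧ F 14 = 2048 ∧ F 15 = 3072 ∧ F 18 = 65536 := by
  have h2 : V 2 = 1 := by rw [show (2 : ℕ) = 2 * 1 from rfl, V_two_mul, V_one]
  have h3 : V 3 = 1 := by rw [show (3 : ℕ) = 2 * 1 + 1 from rfl, V_two_mul_add, V_one]
  have h4 : V 4 = 3 := by rw [show (4 : ℕ) = 2 * 2 from rfl, V_two_mul, h2]
  norm_num [F, V_zero, V_one, h2, h3, h4]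

theorem two_dvd_F {n : ℕ} (hn : 2 ≤ n) (h3 : n ≠ 3) : 2 ∣ F n := by
  unfold F
  by_cases h : n / 4 = 0
  · rw [show n = 2 by omega]; norm_num
  · exact dvd_mul_of_dvd_right (dvd_pow_self 2 (by omega)) _

theorem two_mul_H {n : ℕ} (hn : 2 ≤ n) (h3 : n ≠ 3) (h5 : n ≠ 5) (h6 : n ≠ 6) (h9 : n ≠ 9) : 2 * H n = F n := by
  rw [H, if_neg (by omega), if_neg h3, if_neg h5, if_neg h6, if_neg h9, Nat.mul_div_cancel' (two_dvd_F hn h3)]

theorem F_le_two_mul_H {n : ℕ} (hn : 2 ≤ n) : F n ≤ 2 * H n := by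
  by_cases h : n ≠ 3 ∧ n ≠ 5 ∧ n ≠ 6 ∧ n ≠ 9
  · exact (two_mul_H hn h.1 h.2.1 h.2.2.1 h.2.2.2).ge
  · obtain ⟨-, -, -, e3, -, e5, e6, -, e9, -⟩ := F_values
    rcases (show n = 3 ∨ n = 5 ∨ n = 6 ∨ n = 9 by omega) with rfl | rfl | rfl | rfl <;> simp [H, e3, e5, e6, e9]

theorem V_mono {a b : ℕ} (h : a ≤ b) : V a ≤ V b := by
  obtain ⟨c, rfl⟩ := Nat.exists_eq_add_of_le h
  exact le_of_add_le_of_nonneg_left (V_add_le a c) (Nat.zero_le _)

theorem small_odd : ∀ t, 14 ≤ t → 3 * 3 ^ t * (t + 1) ≤ 4 ^ t := by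
  intro t ht
  induction t, ht using Nat.le_induction with
  | base => norm_num
  | succ t ht ih =>
    rw [pow_succ, pow_succ]
    have : 3 * (t + 1 + 1) ≤ 4 * (t + 1) := by omega
    nlinarith [Nat.zero_le (3 ^ t)]

theorem k_small : ∀ k, 4 ≤ k → 3 * (2 * k + 1) * (k + 1) ≤ 4 ^ k := by
  intro k hk
  induction k, hk using Nat.le_induction with
  | base => norm_num
  | succ k hk ih => rw [pow_succ]; nlinarith

theorem k_cube : ∀ k, 2 ≤ k → 3 * (2 * k + 1) ^ 3 * (k * 3 + 1) ≤ 64 ^ k := by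
  intro k hk
  induction k, hk using Nat.le_induction with
  | base => norm_num
  | succ k hk ih =>
    rw [pow_succ 64]
    have h1 : (2 * (k + 1) + 1) ^ 3 ≤ (2 * (2 * k + 1)) ^ 3 := Nat.pow_le_pow_left (by omega) 3
    rw [mul_pow] at h1
    norm_num at h1
    have h2 : (k + 1) * 3 + 1 ≤ 2 * (k * 3 + 1) := by omega
    have := Nat.mul_le_mul h1 h2
    nlinarith

theorem t_small (k : ℕ) (hk : 2 ≤ k) : ∀ t, 3 ≤ t → 3 * (2 * k + 1) ^ t * (k * t + 1) ≤ 4 ^ (k * t) := by
  intro t ht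
  induction t, ht using Nat.le_induction with
  | base =>
    rw [show 4 ^ (k * 3) = 64 ^ k by rw [mul_comm, pow_mul]; norm_num]
    exact k_cube k hk
  | succ t ht ih =>
    rw [pow_succ, mul_add k t 1, mul_one, pow_add]
    have h1 : (2 * k + 1) * 2 ≤ 4 ^ k := by
      clear ih
      induction k, hk using Nat.le_induction with
      | base => norm_num
      | succ k hk ih => rw [pow_succ]; nlinarith
    have h2 : k * t + k + 1 ≤ 2 * (k * t + 1) := by nlinarith
    calc 3 * ((2 * k + 1) ^ t * (2 * k + 1)) * (k * t + k + 1)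
        ≤ 3 * ((2 * k + 1) ^ t * (2 * k + 1)) * (2 * (k * t + 1)) := Nat.mul_le_mul_left _ h2
      _ = (3 * (2 * k + 1) ^ t * (k * t + 1)) * ((2 * k + 1) * 2) := by ring
      _ ≤ (4 ^ (k * t)) * 4 ^ k := Nat.mul_le_mul ih h1

theorem half_odd (k m t : ℕ) (hk : 1 ≤ k) (hp : (2 * k + 1).Prime) (htm : t ∣ m) (hm : 0 < m)
    (ht : ∃ a, t = (2 * k + 1) ^ a)
    (hex : (2 * k + 1) * m ≠ 3 ∧ (2 * k + 1) * m ≠ 5 ∧ (2 * k + 1) * m ≠ 9) :
    2 * ((2 * k + 1) ^ t * F m) < 2 ^ V ((2 * k + 1) * m) := by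
  -- equality is impossible
  suffices h : 2 * ((2 * k + 1) ^ t * F m) ≤ 2 ^ V ((2 * k + 1) * m) by
    refine lt_of_le_of_ne h fun e => ?_
    have ht0 : t ≠ 0 := fun e0 => by rw [e0, zero_dvd_iff] at htm; omega
    have h2 : (2 * k + 1) ∣ 2 ^ V ((2 * k + 1) * m) :=
      e ▸ dvd_mul_of_dvd_right (dvd_mul_of_dvd_left (dvd_pow_self _ ht0) _) 2
    have := (Nat.prime_dvd_prime_iff_eq hp Nat.prime_two).1 (hp.dvd_of_dvd_pow h2)
    omega
  have hV : k * m + V (k * m) + V m ≤ V ((2 * k + 1) * m) := by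
    rw [← V_two_mul, show (2 * k + 1) * m = 2 * (k * m) + m by ring]
    exact V_add_le _ _
  have hfin : ∀ c, 2 * F m ≤ c * 2 ^ V m → c * (2 * k + 1) ^ t ≤ 2 ^ (k * m + V (k * m)) →
      2 * ((2 * k + 1) ^ t * F m) ≤ 2 ^ V ((2 * k + 1) * m) := by
    intro c hc h
    refine le_trans ?_ (Nat.pow_le_pow_right (by norm_num) hV)
    rw [pow_add]
    calc 2 * ((2 * k + 1) ^ t * F m) = (2 * k + 1) ^ t * (2 * F m) := by ring
      _ ≤ (2 * k + 1) ^ t * (c * 2 ^ V m) := Nat.mul_le_mul_left _ hc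
      _ = c * (2 * k + 1) ^ t * 2 ^ V m := by ring
      _ ≤ 2 ^ (k * m + V (k * m)) * 2 ^ V m := Nat.mul_le_mul_right _ h
  obtain ⟨r, rfl⟩ := htm
  have hr : 0 < r := Nat.pos_of_mul_pos_left hm
  rcases (show r = 1 ∨ 2 ≤ r by omega) with rfl | hr2
  · rw [mul_one] at *
    obtain ⟨a, rfl⟩ := ht
    set t := (2 * k + 1) ^ a with hta
    have hb : 3 * (2 * k + 1) ^ t * (k * t + 1) ≤ 4 ^ (k * t) →
        2 * ((2 * k + 1) ^ t * F t) ≤ 2 ^ V ((2 * k + 1) * t) := by
      intro h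
      refine hfin 3 (F_le t) (Nat.le_of_mul_le_mul_right (h.trans ?_) (Nat.succ_pos (k * t)))
      rw [show (4 : ℕ) ^ (k * t) = 2 ^ (k * t) * 2 ^ (k * t) by rw [← mul_pow]; norm_num, pow_add, mul_assoc]
      exact Nat.mul_le_mul_left _ (two_pow_le _)
    by_cases hk1 : k = 1
    · subst hk1
      rcases (show a = 0 ∨ a = 1 ∨ a = 2 ∨ 3 ≤ a by omega) with rfl | rfl | rfl | ha
      · exact absurd (by simp [hta]) hex.1
      · exact absurd (by simp [hta]) hex.2.2
      · have h6 : V 6 = 4 := by rw [show (6 : ℕ) = 2 * (2 * 1 + 1) from rfl, V_two_mul, V_two_mul_add, V_one]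
        have h27 : V 27 = 23 := by
          rw [show (27 : ℕ) = 4 * 6 + 3 from rfl, V_four_mul 6 (by norm_num), h6]
        simp [hta, F_values.2.2.2.2.2.2.2.2.1, h27]
      · have h27 : 27 ≤ t := le_trans (by norm_num) (Nat.pow_le_pow_right (by norm_num) ha)
        exact hb (by simpa using small_odd t (by omega))
    · by_cases ha : a = 0
      · subst ha
        rw [pow_zero] at hta
        subst t
        rcases (show k = 2 ∨ k = 3 ∨ 4 ≤ k by omega) with rfl | rfl | hk4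
        · exact absurd (by norm_num) hex.2.1
        · have h7 : V 7 = 4 := by
            rw [show (7 : ℕ) = 4 * 1 + 3 from rfl, V_four_mul 1 (by norm_num), V_one]
          simp [F_values.2.1, h7]
        · exact hb (by simpa using k_small k hk4)
      · refine hb (t_small k (by omega) t ?_)
        calc 3 ≤ (2 * k + 1) ^ 1 := by rw [pow_one]; omega
          _ ≤ t := Nat.pow_le_pow_right (by omega) (by omega)
  · have htp : 0 < t := Nat.pos_of_mul_pos_right hm
    have hkt : 0 < k * t := Nat.mul_pos hk htp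
    have hV1 : 1 ≤ V (k * (t * r)) := by
      refine le_trans ?_ (V_mono (show 2 ≤ k * (t * r) from ?_))
      · rw [show (2 : ℕ) = 2 * 1 from rfl, V_two_mul, V_one]
      · rw [← mul_assoc]; nlinarith
    have h1 : (2 * k + 1) ^ t ≤ 4 ^ (k * t) := by
      rw [pow_mul]
      refine Nat.pow_le_pow_left ?_ t
      have : k + 1 ≤ 2 ^ k := Nat.lt_two_pow_self
      rw [show (4 : ℕ) = 2 * 2 from rfl, mul_pow]
      nlinarith
    by_cases h3 : t * r % 4 = 3
    · have hr3 : 3 ≤ r := by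
        by_contra hlt
        obtain rfl : r = 2 := by omega
        omega
      refine hfin 3 (F_le _) ?_
      have h3kt : 3 * (k * t) ≤ k * (t * r) := by
        calc 3 * (k * t) ≤ r * (k * t) := Nat.mul_le_mul_right _ hr3
          _ = k * (t * r) := by ring
      calc 3 * (2 * k + 1) ^ t ≤ 3 * 4 ^ (k * t) := Nat.mul_le_mul_left _ h1
        _ ≤ 2 ^ (k * t + 1) * 4 ^ (k * t) := by
            refine Nat.mul_le_mul_right _ (le_trans (by norm_num : 3 ≤ 2 ^ 2) ?_)
            exact Nat.pow_le_pow_right (by norm_num) (by omega)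
        _ = 2 ^ (3 * (k * t) + 1) := by
            rw [show (4 : ℕ) = 2 ^ 2 by norm_num, ← pow_mul, ← pow_add]; ring_nf
        _ ≤ 2 ^ (k * (t * r) + V (k * (t * r))) := Nat.pow_le_pow_right (by norm_num) (by omega)
    · refine hfin 2 (by rw [F_eq _ h3]) ?_
      have h2kt : 2 * (k * t) ≤ k * (t * r) := by
        calc 2 * (k * t) ≤ r * (k * t) := Nat.mul_le_mul_right _ hr2
          _ = k * (t * r) := by ring
      calc 2 * (2 * k + 1) ^ t ≤ 2 * 4 ^ (k * t) := Nat.mul_le_mul_left _ h1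
        _ = 2 ^ (2 * (k * t) + 1) := by rw [show (4 : ℕ) = 2 ^ 2 by norm_num, ← pow_mul, pow_succ 2 (2 * (k * t))]; ring
        _ ≤ 2 ^ (k * (t * r) + V (k * (t * r))) := Nat.pow_le_pow_right (by norm_num) (by omega)

theorem mul_le_H (a T b : ℕ) (h : (a = 3 ∧ T = 3) ∨ (a = 5 ∧ T = 5) ∨ (a = 9 ∧ T = 81)) :
    T * H b ≤ H (a + b) ∧ ((a + b) % 4 = 3 → a ≠ 3 → T * H b < H (a + b)) := by
  obtain ⟨e0, e1, e2, e3, e4, e5, e6, e8, e9, e10, e11, e12, e14, e15, e18⟩ := F_values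
  by_cases hb : b = 0 ∨ b = 1 ∨ b = 3 ∨ b = 5 ∨ b = 6 ∨ b = 9
  · rcases hb with rfl | rfl | rfl | rfl | rfl | rfl <;> rcases h with ⟨rfl, rfl⟩ | ⟨rfl, rfl⟩ | ⟨rfl, rfl⟩ <;>
      norm_num [H, e0, e1, e2, e3, e4, e5, e6, e8, e9, e10, e11, e12, e14, e15, e18]
  · have hb2 := two_mul_H (n := b) (by omega) (by omega) (by omega) (by omega) (by omega)
    have hn := F_le_two_mul_H (n := a + b) (by omega)
    have hadd := F_add a b
    have hpos := F_pos b
    have hTa : T ≤ F a ∧ (a ≠ 3 → T < F a) := by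
      rcases h with ⟨rfl, rfl⟩ | ⟨rfl, rfl⟩ | ⟨rfl, rfl⟩ <;> simp [e3, e5, e9]
    constructor
    · nlinarith [hTa.1]
    · intro _ ha
      nlinarith [hTa.2 ha]

/-! ### Restriction to an invariant set -/

variable {α : Type} [Fintype α] [DecidableEq α]

/-- The restriction homomorphism. -/
def res (G : Subgroup (Perm α)) (p : α → Prop) (hp : ∀ g ∈ G, ∀ x, p ((g : Perm α) x) ↔ p x) :
    ↥G →* Perm {x // p x} where
  toFun g := (g : Perm α).subtypePerm fun x => hp g g.2 x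
  map_one' := Equiv.ext fun _ => rfl
  map_mul' _ _ := Equiv.ext fun _ => rfl

theorem not_inv {G : Subgroup (Perm α)} {p : α → Prop} (hp : ∀ g ∈ G, ∀ x, p ((g : Perm α) x) ↔ p x) :
    ∀ g ∈ G, ∀ x, ¬ p ((g : Perm α) x) ↔ ¬ p x :=
  fun g hg x => not_congr (hp g hg x)

theorem glue_res {G : Subgroup (Perm α)} {p : α → Prop} [DecidablePred p]
    (hp : ∀ g ∈ G, ∀ x, p ((g : Perm α) x) ↔ p x) (g : ↥G) :
    Perm.subtypeCongrHom p (res G p hp g, res G (fun x => ¬ p x) (not_inv hp) g) = (g : Perm α) := by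
  refine Equiv.ext fun x => ?_
  show Perm.subtypeCongr _ _ x = _
  by_cases hx : p x <;> simp [Perm.subtypeCongr.apply, hx, res]

theorem sign_res {G : Subgroup (Perm α)} {p : α → Prop} [DecidablePred p]
    (hp : ∀ g ∈ G, ∀ x, p ((g : Perm α) x) ↔ p x) (g : ↥G) :
    Perm.sign (g : Perm α) = Perm.sign (res G p hp g) * Perm.sign (res G (fun x => ¬ p x) (not_inv hp) g) := by
  conv_lhs => rw [← glue_res hp g]
  exact Perm.sign_subtypeCongr _ _

theorem card_le_res {G : Subgroup (Perm α)} {p : α → Prop} [DecidablePred p]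
    (hp : ∀ g ∈ G, ∀ x, p ((g : Perm α) x) ↔ p x) :
    Nat.card ↥G ≤ Nat.card ↥(res G p hp).range * Nat.card ↥(res G (fun x => ¬ p x) (not_inv hp)).range := by
  rw [← Nat.card_prod]
  refine Nat.card_le_card_of_injective
    (fun g => ((res G p hp).rangeRestrict g, (res G (fun x => ¬ p x) (not_inv hp)).rangeRestrict g)) fun g h e => ?_
  apply Subtype.ext
  rw [← glue_res hp g, ← glue_res hp h]
  exact congrArg (fun t => Perm.subtypeCongrHom p t)
    (Prod.ext (congrArg (fun t => ((t.1 : ↥(res G p hp).range) : Perm {x // p x})) e :)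
      (congrArg (fun t => ((t.2 : ↥(res G (fun x => ¬ p x) (not_inv hp)).range) : Perm {x // ¬ p x})) e :))

theorem card_compl (p : α → Prop) : Nat.card {x // p x} + Nat.card {x // ¬ p x} = Nat.card α := by
  rw [← Nat.card_sum]
  exact Nat.card_congr (Equiv.sumCompl p)

/-- A nilpotent group that is not a 2-group has a special orbit. -/
theorem split (G : Subgroup (Perm α)) [Group.IsNilpotent ↥G]
    (hodd : ∀ e, Nat.card ↥G ≠ 2 ^ e) :
    2 * Nat.card ↥G < F (Nat.card α) ∨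
      ∃ (p : α → Prop) (hp : ∀ g ∈ G, ∀ x, p ((g : Perm α) x) ↔ p x) (a T : ℕ),
        ((a = 3 ∧ T = 3) ∨ (a = 5 ∧ T = 5) ∨ (a = 9 ∧ T = 81)) ∧ Nat.card {x // p x} = a ∧
        Nat.card ↥(res G p hp).range ≤ T ∧ ∀ g, Perm.sign (res G p hp g) = 1 := by
  obtain ⟨q, hq, hqG, hq2⟩ : ∃ q, q.Prime ∧ q ∣ Nat.card ↥G ∧ q ≠ 2 := by
    by_contra h
    push_neg at h
    exact hodd _ (Nat.eq_prime_pow_of_unique_prime_dvd Nat.card_pos.ne' fun {d} hd hdn => h d hd hdn)
  haveI := Fact.mk hq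
  obtain ⟨z, hzc, hz⟩ := exists_central (default : Sylow q ↥G) hqG
  obtain ⟨a₀, ha₀⟩ : ∃ x, (z : Perm α) x ≠ x := by
    by_contra h
    push_neg at h
    have : z = 1 := Subtype.ext (Equiv.ext h)
    rw [this, orderOf_one] at hz
    exact hq.ne_one hz.symm
  obtain ⟨p, hpdef⟩ : ∃ p : α → Prop, ∀ x, p x ↔ ∃ g : ↥G, (g : Perm α) a₀ = x :=
    ⟨fun x => ∃ g : ↥G, (g : Perm α) a₀ = x, fun x => Iff.rfl⟩
  have hp : ∀ g ∈ G, ∀ x, p ((g : Perm α) x) ↔ p x := fun g hg x => by
    rw [hpdef, hpdef]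
    constructor
    · rintro ⟨k, hk⟩
      refine ⟨(⟨g, hg⟩ : ↥G)⁻¹ * k, ?_⟩
      rw [Subgroup.coe_mul, Perm.mul_apply, hk]
      exact g.symm_apply_apply x
    · rintro ⟨k, rfl⟩
      exact ⟨⟨g, hg⟩ * k, rfl⟩
  set R := (res G p hp).range with hR
  haveI : Group.IsNilpotent ↥R :=
    Group.nilpotent_of_surjective (res G p hp).rangeRestrict (res G p hp).rangeRestrict_surjective
  let b₀ : {x // p x} := ⟨a₀, (hpdef a₀).2 ⟨1, rfl⟩⟩
  have htr : ∀ y : {x // p x}, ∃ g : ↥R, (g : Perm {x // p x}) b₀ = y := by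
    rintro ⟨y, hy⟩
    obtain ⟨g, hg⟩ := (hpdef y).1 hy
    exact ⟨(res G p hp).rangeRestrict g, Subtype.ext hg⟩
  have hzR : q ∣ Nat.card ↥R := by
    have h1 : orderOf (res G p hp z) = q := by
      refine orderOf_eq_prime ?_ fun e => ha₀ (congrArg Subtype.val (Equiv.ext_iff.1 e b₀))
      rw [← map_pow, ← hz, pow_orderOf_eq_one, map_one]
    rw [← h1, ← Subgroup.orderOf_mk (H := R) (res G p hp z) (MonoidHom.mem_range.2 ⟨z, rfl⟩)]
    exact orderOf_dvd_natCard _
  set a := Nat.card {x // p x} with ha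
  have hqa : q ∣ a := prime_dvd_degree R b₀ htr hq hzR
  obtain ⟨t, m, e, hnm, hte, htm, hle⟩ :=
    trans_core a (fun m _ => fun {β} _ K hK hKn => bound m K hK hKn) R rfl b₀ htr hq hqa
  obtain ⟨k, hk⟩ := hq.odd_of_ne_two hq2
  have ha0 : 0 < a := Nat.card_pos_iff.2 ⟨⟨b₀⟩, inferInstance⟩
  have hm0 : 0 < m := Nat.pos_of_ne_zero fun h0 => by rw [h0, mul_zero] at hnm; omega
  by_cases hex : a ≠ 3 ∧ a ≠ 5 ∧ a ≠ 9
  · left
    subst hk
    have h1 := half_odd k m t (by have := hq.two_le; omega) hq htm hm0 ⟨e, hte⟩ (by rw [← hnm]; exact hex)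
    rw [← hnm] at h1
    set R₂ := (res G (fun x => ¬ p x) (not_inv hp)).range
    have h2 := bound _ R₂ rfl
      (Group.nilpotent_of_surjective (res G (fun x => ¬ p x) (not_inv hp)).rangeRestrict
        (MonoidHom.rangeRestrict_surjective _))
    have h3 := F_add a (Nat.card {x // ¬ p x})
    rw [ha, card_compl] at h3
    have h4 : 2 * Nat.card ↥G ≤ 2 * (Nat.card ↥R * Nat.card ↥R₂) := Nat.mul_le_mul_left 2 (card_le_res hp)
    have h5 : 2 * Nat.card ↥R < F a := lt_of_lt_of_le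
      (lt_of_le_of_lt (Nat.mul_le_mul_left 2 hle) h1) (F_ge a)
    calc 2 * Nat.card ↥G ≤ 2 * (Nat.card ↥R * Nat.card ↥R₂) := h4
      _ = 2 * Nat.card ↥R * Nat.card ↥R₂ := by ring
      _ < F a * Nat.card ↥R₂ := Nat.mul_lt_mul_of_pos_right h5 Nat.card_pos
      _ ≤ F a * F (Nat.card {x // ¬ p x}) := Nat.mul_le_mul_left _ h2
      _ ≤ F (Nat.card α) := h3
  · right
    have heven : ∀ g, Perm.sign (res G p hp g) = 1 := by
      intro g
      have hoddR : Odd (Nat.card ↥R) := by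
        rw [Nat.odd_iff, ← Nat.two_dvd_ne_zero]
        intro h2
        have := prime_dvd_degree R b₀ htr Nat.prime_two h2
        omega
      have h1 : res G p hp g ^ Nat.card ↥R = 1 := by
        have h2 : ((res G p hp).rangeRestrict g) ^ Nat.card ↥R = 1 := pow_card_eq_one'
        exact congrArg Subtype.val h2
      have h3 := congrArg Perm.sign h1
      rw [map_pow, map_one] at h3
      rcases Int.units_eq_one_or (Perm.sign (res G p hp g)) with h | h
      · exact h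
      · rw [h, hoddR.neg_one_pow] at h3
        exact absurd h3 (by decide)
    rcases (show a = 3 ∨ a = 5 ∨ a = 9 by omega) with h | h | h
    · refine ⟨p, hp, 3, 3, Or.inl ⟨rfl, rfl⟩, h, ?_, heven⟩
      have hq3 : q = 3 := (Nat.prime_dvd_prime_iff_eq hq Nat.prime_three).1 (h ▸ hqa)
      subst hq3
      have hm1 : m = 1 := by omega
      subst hm1
      rw [Nat.dvd_one] at htm
      rw [htm, F_values.2.1, pow_one, mul_one] at hle
      exact hle
    · refine ⟨p, hp, 5, 5, Or.inr (Or.inl ⟨rfl, rfl⟩), h, ?_, heven⟩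
      have hq5 : q = 5 := (Nat.prime_dvd_prime_iff_eq hq (by norm_num)).1 (h ▸ hqa)
      subst hq5
      have hm1 : m = 1 := by omega
      subst hm1
      rw [Nat.dvd_one] at htm
      rw [htm, F_values.2.1, pow_one, mul_one] at hle
      exact hle
    · refine ⟨p, hp, 9, 81, Or.inr (Or.inr ⟨rfl, rfl⟩), h, ?_, heven⟩
      have hq3 : q = 3 := by
        have h9 : q ∣ 3 ^ 2 := by rw [show (3 : ℕ) ^ 2 = 9 by norm_num, ← h]; exact hqa
        exact (Nat.prime_dvd_prime_iff_eq hq Nat.prime_three).1 (hq.dvd_of_dvd_pow h9)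
      subst hq3
      have hm3 : m = 3 := by omega
      subst hm3
      rw [F_values.2.2.2.1] at hle
      have : 3 ^ t ≤ 3 ^ 3 := Nat.pow_le_pow_right (by norm_num) (Nat.le_of_dvd (by norm_num) htm)
      exact hle.trans ((Nat.mul_le_mul_right 3 this).trans (by norm_num))

/-- Even nilpotent groups. -/
theorem alt_bound : ∀ n : ℕ, ∀ {α : Type} [Fintype α] [DecidableEq α] (G : Subgroup (Perm α)), Nat.card α = n →
    Group.IsNilpotent ↥G → (∀ g ∈ G, Perm.sign g = 1) → Nat.card ↥G ≤ H n ∧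
      (n % 4 = 3 → 4 ≤ n → Nat.card ↥G = H n → ∃ (p : α → Prop) (hp : ∀ g ∈ G, ∀ x, p ((g : Perm α) x) ↔ p x),
        Nat.card {x // p x} = 3 ∧ Nat.card ↥(res G p hp).range ≤ 3 ∧ ∀ g, Perm.sign (res G p hp g) = 1) := by
  intro n
  induction n using Nat.strong_induction_on with
  | _ n ih =>
  intro α _ _ G hn hG hsign
  haveI := hG
  by_cases hn1 : n ≤ 1
  · haveI : Subsingleton α := Finite.card_le_one_iff_subsingleton.1 (hn ▸ hn1)
    rw [Nat.card_eq_one_iff_unique.2 ⟨inferInstance, inferInstance⟩]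
    refine ⟨?_, fun h4 h4' => by omega⟩
    rw [H, if_pos (by omega)]
  have hFH := F_le_two_mul_H (n := n) (by omega)
  by_cases hpow : ∃ e, Nat.card ↥G = 2 ^ e
  · obtain ⟨e, he⟩ := hpow
    have hle : G ≤ alternatingGroup α := fun g hg => hsign g hg
    have h2 : 2 * Nat.card ↥G ∣ n.factorial := by
      have h := Subgroup.card_dvd_of_le hle
      haveI : Nontrivial α := Finite.one_lt_card_iff_nontrivial.1 (by omega)
      rw [← hn, ← Nat.card_perm, Nat.card_eq_fintype_card (α := Perm α), ← two_mul_card_alternatingGroup,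
        ← Nat.card_eq_fintype_card]
      exact Nat.mul_dvd_mul_left 2 h
    have h3 : 2 * Nat.card ↥G ≤ 2 ^ V n := by
      rw [he, ← pow_succ'] at h2 ⊢
      refine Nat.pow_le_pow_right (by norm_num) ?_
      haveI : Fact (Nat.Prime 2) := ⟨Nat.prime_two⟩
      exact (padicValNat_dvd_iff_le (Nat.factorial_ne_zero _)).1 h2
    refine ⟨by have := F_ge n; omega, fun hn3 _ heq => ?_⟩
    exfalso
    have h4 : 2 ^ V n < F n := by
      obtain ⟨i, rfl⟩ : ∃ i, n = 4 * i + 3 := ⟨n / 4, by omega⟩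
      rw [F_four_mul i (by norm_num), V_four_mul i (by norm_num), pow_add _ (3 * i + V i)]
      have : 0 < 2 ^ (3 * i + V i) := pow_pos two_pos _
      norm_num
      omega
    omega
  · push_neg at hpow
    rcases split G hpow with hlt | ⟨p, hp, a, T, haT, hca, hcard, heven⟩
    · rw [hn] at hlt
      exact ⟨by omega, fun _ _ heq => by omega⟩
    · set R₂ := (res G (fun x => ¬ p x) (not_inv hp)).range
      have hb : Nat.card {x // p x} + Nat.card {x // ¬ p x} = n := (card_compl p).trans hn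
      have h2 := (ih (Nat.card {x // ¬ p x}) (by omega) R₂ rfl
        (Group.nilpotent_of_surjective (res G (fun x => ¬ p x) (not_inv hp)).rangeRestrict
          (MonoidHom.rangeRestrict_surjective _)) (by
            rintro _ ⟨g, rfl⟩
            have h := sign_res hp g
            rw [hsign g g.2, heven g, one_mul] at h
            exact h.symm)).1
      have hG2 : Nat.card ↥G ≤ T * H (Nat.card {x // ¬ p x}) := (card_le_res hp).trans (Nat.mul_le_mul hcard h2)
      obtain ⟨hm1, hm2⟩ := mul_le_H a T (Nat.card {x // ¬ p x}) haT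
      rw [show a + Nat.card {x // ¬ p x} = n by omega] at hm1 hm2
      refine ⟨hG2.trans hm1, fun hn3 _ heq => ?_⟩
      by_cases ha3 : a = 3
      · subst ha3
        have hT : T = 3 := by rcases haT with ⟨-, e⟩ | ⟨e, -⟩ | ⟨e, -⟩ <;> omega
        exact ⟨p, hp, hca, hT ▸ hcard, heven⟩
      · have := hm2 hn3 ha3
        omega

/-- Nilpotent groups of largest order in degree `4i+3`. -/
theorem sym_eq {n : ℕ} (hn3 : n % 4 = 3) (G : Subgroup (Perm α)) (hn : Nat.card α = n)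
    [Group.IsNilpotent ↥G] (heq : Nat.card ↥G = F n) :
    ∃ (p : α → Prop) (hp : ∀ g ∈ G, ∀ x, p ((g : Perm α) x) ↔ p x),
      Nat.card {x // p x} = 3 ∧ Nat.card ↥(res G p hp).range ≤ 3 := by
  obtain ⟨i, hi⟩ : ∃ i, n = 4 * i + 3 := ⟨n / 4, by omega⟩
  have hF : F n = 3 * 2 ^ (3 * i + V i) := by rw [hi, F_four_mul i (by norm_num), if_pos rfl]
  have hodd : ∀ e, Nat.card ↥G ≠ 2 ^ e := by
    intro e he
    have h3 : 3 ∣ 2 ^ e := he ▸ heq ▸ hF ▸ dvd_mul_right 3 _
    exact absurd (Nat.prime_three.dvd_of_dvd_pow h3) (by norm_num)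
  rcases split G hodd with hlt | ⟨p, hp, a, T, haT, hca, hcard, -⟩
  · rw [hn, ← heq] at hlt
    omega
  · by_cases ha3 : a = 3
    · subst ha3
      have hT : T = 3 := by rcases haT with ⟨-, e⟩ | ⟨e, -⟩ | ⟨e, -⟩ <;> omega
      exact ⟨p, hp, hca, hT ▸ hcard⟩
    · exfalso
      obtain ⟨-, -, -, e3, -, e5, -, -, e9, -⟩ := F_values
      have hTa : T < F a := by
        rcases haT with ⟨rfl, rfl⟩ | ⟨rfl, rfl⟩ | ⟨rfl, rfl⟩
        · exact absurd rfl ha3
        · omega
        · omega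
      set R₂ := (res G (fun x => ¬ p x) (not_inv hp)).range
      have h2 := bound (Nat.card {x // ¬ p x}) R₂ rfl
        (Group.nilpotent_of_surjective (res G (fun x => ¬ p x) (not_inv hp)).rangeRestrict
          (MonoidHom.rangeRestrict_surjective _))
      have hG2 : Nat.card ↥G ≤ T * F (Nat.card {x // ¬ p x}) := (card_le_res hp).trans (Nat.mul_le_mul hcard h2)
      have h3 := F_add a (Nat.card {x // ¬ p x})
      rw [← hca, card_compl, hn, hca, ← heq] at h3
      have := F_pos (Nat.card {x // ¬ p x})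
      nlinarith

/-! ### The standard groups -/

/-- The product of the cyclic group on the three marked points with a group on the others. -/
def std (p : α → Prop) [DecidablePred p] (R : Subgroup (Perm {x // ¬ p x})) : Subgroup (Perm α) :=
  ((alternatingGroup {x // p x}).prod R).map (Perm.subtypeCongrHom p)

theorem card_alt_three {β : Type} [Fintype β] [DecidableEq β] (h : Nat.card β = 3) :
    Nat.card ↥(alternatingGroup β) = 3 := by
  haveI : Nontrivial β := Finite.one_lt_card_iff_nontrivial.1 (by omega)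
  rw [nat_card_alternatingGroup, h]
  rfl

theorem card_std (p : α → Prop) [DecidablePred p] (R : Subgroup (Perm {x // ¬ p x}))
    (h : Nat.card {x // p x} = 3) : Nat.card ↥(std p R) = 3 * Nat.card ↥R := by
  rw [std, Subgroup.card_map_of_injective (Perm.subtypeCongrHom_injective p),
    Nat.card_congr ((alternatingGroup {x // p x}).prodEquiv R).toEquiv, Nat.card_prod, card_alt_three h]

theorem std_sign (p : α → Prop) [DecidablePred p] (R : Subgroup (Perm {x // ¬ p x}))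
    (hR : ∀ g ∈ R, Perm.sign g = 1) : ∀ g ∈ std p R, Perm.sign g = 1 := by
  rintro _ ⟨⟨a, b⟩, ⟨ha, hb⟩, rfl⟩
  show Perm.sign (Perm.subtypeCongr a b) = 1
  rw [Perm.sign_subtypeCongr, Equiv.Perm.mem_alternatingGroup.1 ha, hR b hb, one_mul]

theorem std_equiv (p : α → Prop) [DecidablePred p] (R : Subgroup (Perm {x // ¬ p x}))
    (h : Nat.card {x // p x} = 3) : Nonempty (↥(std p R) ≃* ↥R × Multiplicative (ZMod 3)) := by
  haveI : Fact (Nat.Prime 3) := ⟨Nat.prime_three⟩
  have hc : Nat.card (Multiplicative (ZMod 3)) = 3 := by simp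
  let c : ↥(alternatingGroup {x // p x}) ≃* Multiplicative (ZMod 3) :=
    mulEquivOfPrimeCardEq (card_alt_three h) hc
  let e1 := (((alternatingGroup {x // p x}).prod R).equivMapOfInjective _ (Perm.subtypeCongrHom_injective p)).symm
  exact ⟨e1.trans (((alternatingGroup {x // p x}).prodEquiv R).trans
    (MulEquiv.prodComm.trans (MulEquiv.prodCongr (MulEquiv.refl ↥R) c)))⟩

theorem std_nilpotent (p : α → Prop) [DecidablePred p] (R : Subgroup (Perm {x // ¬ p x}))
    (h : Nat.card {x // p x} = 3) (hR : Group.IsNilpotent ↥R) : Group.IsNilpotent ↥(std p R) := by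
  obtain ⟨e⟩ := std_equiv p R h
  haveI := hR
  exact Group.nilpotent_of_mulEquiv e.symm

/-- A group with an invariant set of three points and large order is standard. -/
theorem eq_std {G : Subgroup (Perm α)} {p : α → Prop} [DecidablePred p]
    (hp : ∀ g ∈ G, ∀ x, p ((g : Perm α) x) ↔ p x) (h3 : Nat.card {x // p x} = 3)
    (hR : Nat.card ↥(res G p hp).range ≤ 3) {N : ℕ} (hN : 3 * N ≤ Nat.card ↥G) (hN0 : 0 < N)
    (hR₂ : Nat.card ↥(res G (fun x => ¬ p x) (not_inv hp)).range ≤ N) :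
    G = std p (res G (fun x => ¬ p x) (not_inv hp)).range ∧
      Nat.card ↥(res G (fun x => ¬ p x) (not_inv hp)).range = N := by
  set R₂ := (res G (fun x => ¬ p x) (not_inv hp)).range
  set R₁ := (res G p hp).range
  have hcard := card_le_res hp
  have h1 : Nat.card ↥R₁ = 3 := by
    have : 3 * N ≤ Nat.card ↥R₁ * N := hN.trans (hcard.trans (Nat.mul_le_mul_left _ hR₂))
    have := Nat.le_of_mul_le_mul_right this hN0
    omega
  have h2 : Nat.card ↥R₂ = N := by
    have : 3 * N ≤ 3 * Nat.card ↥R₂ := hN.trans (hcard.trans (le_of_eq (by rw [h1])))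
    omega
  have halt : R₁ = alternatingGroup {x // p x} := by
    refine Subgroup.eq_of_le_of_card_ge ?_ (by rw [card_alt_three h3, h1])
    rintro _ ⟨g, rfl⟩
    rw [Equiv.Perm.mem_alternatingGroup]
    have h4 : res G p hp g ^ 3 = 1 := by
      have h5 : ((res G p hp).rangeRestrict g) ^ Nat.card ↥R₁ = 1 := pow_card_eq_one'
      rw [h1] at h5
      exact congrArg Subtype.val h5
    have h6 := congrArg Perm.sign h4
    rw [map_pow, map_one] at h6
    rcases Int.units_eq_one_or (Perm.sign (res G p hp g)) with h | h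
    · exact h
    · rw [h] at h6; exact absurd h6 (by decide)
  refine ⟨Subgroup.eq_of_le_of_card_ge (fun g hg => ?_) (by rw [card_std p R₂ h3, h2]; exact hN), h2⟩
  refine ⟨(res G p hp ⟨g, hg⟩, res G (fun x => ¬ p x) (not_inv hp) ⟨g, hg⟩), ⟨?_, ⟨_, rfl⟩⟩,
    glue_res hp ⟨g, hg⟩⟩
  show res G p hp ⟨g, hg⟩ ∈ alternatingGroup {x // p x}
  rw [← halt]
  exact ⟨_, rfl⟩

/-- Standard groups are conjugate when the groups on the complements correspond. -/
theorem std_conj (p q : α → Prop) [DecidablePred p] [DecidablePred q]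
    (R : Subgroup (Perm {x // ¬ p x})) (e₁ : {x // p x} ≃ {x // q x}) (e₂ : {x // ¬ p x} ≃ {x // ¬ q x}) :
    (std p R).map (MulAut.conj (Equiv.subtypeCongr e₁ e₂)).toMonoidHom =
      std q (R.map e₂.permCongrHom.toMonoidHom) := by
  set π := Equiv.subtypeCongr e₁ e₂
  have key : ∀ (a : Perm {x // p x}) (b : Perm {x // ¬ p x}),
      π * Perm.subtypeCongrHom p (a, b) * π⁻¹ = Perm.subtypeCongrHom q (e₁.permCongr a, e₂.permCongr b) := by
    intro a b
    rw [mul_inv_eq_iff_eq_mul]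
    refine Equiv.ext fun x => ?_
    show π (Perm.subtypeCongr a b x) = Perm.subtypeCongr _ _ (π x)
    by_cases hx : p x
    · have h1 : π x = e₁ ⟨x, hx⟩ := by simp [π, Equiv.subtypeCongr, hx]
      have h2 : π (a ⟨x, hx⟩) = e₁ (a ⟨x, hx⟩) := by simp [π, Equiv.subtypeCongr, (a ⟨x, hx⟩).2]
      rw [h1, Perm.subtypeCongr.left_apply _ _ hx, h2, Perm.subtypeCongr.left_apply _ _ (e₁ ⟨x, hx⟩).2]
      simp
    · have h1 : π x = e₂ ⟨x, hx⟩ := by simp [π, Equiv.subtypeCongr, hx]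
      have h2 : π (b ⟨x, hx⟩) = e₂ (b ⟨x, hx⟩) := by simp [π, Equiv.subtypeCongr, (b ⟨x, hx⟩).2]
      rw [h1, Perm.subtypeCongr.right_apply _ _ hx, h2, Perm.subtypeCongr.right_apply _ _ (e₂ ⟨x, hx⟩).2]
      simp
  ext g
  constructor
  · rintro ⟨_, ⟨⟨a, b⟩, ⟨ha, hb⟩, rfl⟩, rfl⟩
    refine ⟨(e₁.permCongr a, e₂.permCongr b), ⟨?_, ⟨b, hb, rfl⟩⟩, (key a b).symm⟩
    show e₁.permCongr a ∈ alternatingGroup _
    rw [Equiv.Perm.mem_alternatingGroup, Perm.sign_permCongr]
    exact ha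
  · rintro ⟨⟨a', b'⟩, ⟨ha, ⟨b, hb, hbe⟩⟩, rfl⟩
    obtain ⟨a, rfl⟩ := e₁.permCongr.surjective a'
    refine ⟨_, ⟨(a, b), ⟨?_, hb⟩, rfl⟩, ?_⟩
    · show a ∈ alternatingGroup _
      rw [Equiv.Perm.mem_alternatingGroup, ← Perm.sign_permCongr e₁]
      exact ha
    · have hb' : e₂.permCongr b = b' := hbe
      rw [← hb']
      exact key a b

/-- A conjugating permutation of prescribed parity. -/
theorem exists_conj (p q : α → Prop) [DecidablePred p] [DecidablePred q]
    (R : Subgroup (Perm {x // ¬ p x})) (R' : Subgroup (Perm {x // ¬ q x})) (hp : Nat.card {x // p x} = 3)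
    (hq : Nat.card {x // q x} = 3) (e₂ : {x // ¬ p x} ≃ {x // ¬ q x}) (β : Perm {x // ¬ q x})
    (hβ : (R.map e₂.permCongrHom.toMonoidHom).map (MulAut.conj β).toMonoidHom = R') :
    ∀ s : ℤˣ, ∃ π : Perm α, Perm.sign π = s ∧ std q R' = (std p R).map (MulAut.conj π).toMonoidHom := by
  obtain ⟨e₁⟩ := Finite.card_eq.1 (hp.trans hq.symm)
  intro s
  obtain ⟨x, y, hxy⟩ : ∃ x y : {x // p x}, x ≠ y := by
    haveI : Nontrivial {x // p x} := Finite.one_lt_card_iff_nontrivial.1 (by omega)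
    exact exists_pair_ne _
  have hmain : ∀ f : {x // p x} ≃ {x // q x},
      std q R' = (std p R).map (MulAut.conj (Equiv.subtypeCongr f (e₂.trans β))).toMonoidHom := by
    intro f
    rw [std_conj p q R f (e₂.trans β), ← hβ, Subgroup.map_map]
    congr 1
  have hflip : Equiv.subtypeCongr ((Equiv.swap x y).trans e₁) (e₂.trans β) =
      Equiv.subtypeCongr e₁ (e₂.trans β) * Perm.subtypeCongrHom p (Equiv.swap x y, 1) := by
    refine Equiv.ext fun z => ?_
    show _ = Equiv.subtypeCongr e₁ (e₂.trans β) (Perm.subtypeCongr _ _ z)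
    by_cases hz : p z
    · rw [Perm.subtypeCongr.left_apply _ _ hz]
      simp [Equiv.subtypeCongr, hz, (Equiv.swap x y ⟨z, hz⟩).2]
    · rw [Perm.subtypeCongr.right_apply _ _ hz]
      simp [Equiv.subtypeCongr, hz]
  by_cases hs : Perm.sign (Equiv.subtypeCongr e₁ (e₂.trans β)) = s
  · exact ⟨_, hs, hmain e₁⟩
  · refine ⟨_, ?_, hmain ((Equiv.swap x y).trans e₁)⟩
    rw [hflip, map_mul]
    show Perm.sign (Equiv.subtypeCongr e₁ (e₂.trans β)) * Perm.sign (Perm.subtypeCongr (Equiv.swap x y) 1) = s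
    rw [Perm.sign_subtypeCongr, Perm.sign_swap hxy, map_one, mul_one]
    rcases Int.units_eq_one_or (Perm.sign (Equiv.subtypeCongr e₁ (e₂.trans β))) with h | h <;>
      rcases Int.units_eq_one_or s with h' | h' <;> rw [h] at hs ⊢ <;> rw [h'] at hs ⊢ <;>
      first | exact absurd rfl hs | decide

end Cfsg.Agent.Solv.NilPerm
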