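import Mathlib
import Cfsg.Agent.Lib.Solv.NilpotentPermExtremal

/-!
Abelian subgroups of largest order in alternating groups.
-/

set_option autoImplicit false

namespace Cfsg.Agent.Solv.AbPerm

open Equiv Subgroup
open Cfsg.Agent.Solv.NilPerm (res not_inv glue_res sign_res card_le_res card_compl)

set_option linter.unusedSectionVars false

/-! ### Arithmetic -/

/-- The largest order of an abelian subgroup of the symmetric group. -/
def SB (n : ℕ) : ℕ :=
  if n % 3 = 0 then 3 ^ (n / 3) else if n % 3 = 2 then 2 * 3 ^ (n / 3)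
  else if n = 1 then 1 else 4 * 3 ^ (n / 3 - 1)

/-- The largest order of an abelian subgroup of the alternating group. -/
def AB (n : ℕ) : ℕ :=
  if n % 3 = 0 then 3 ^ (n / 3) else if n % 3 = 1 then (if n = 1 then 1 else 4 * 3 ^ (n / 3 - 1))
  else if n = 2 then 1 else if n = 5 then 5 else 16 * 3 ^ (n / 3 - 2)

/-- The size of a distinguished orbit. -/
def T (n : ℕ) : ℕ := if n % 3 = 0 then 3 else if n = 5 then 5 else 4

theorem SB_big (n : ℕ) (hn : 3 ≤ n) :
    3 * SB n = (if n % 3 = 0 then 3 else if n % 3 = 2 then 6 else 4) * 3 ^ (n / 3) := by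
  obtain ⟨j, hj⟩ : ∃ j, n / 3 = j + 1 := ⟨n / 3 - 1, by omega⟩
  rcases (show n % 3 = 0 ∨ n % 3 = 1 ∨ n % 3 = 2 by omega) with h | h | h <;>
    simp [SB, h, show n ≠ 1 by omega, hj, pow_succ] <;> ring

theorem AB_big (n : ℕ) (hn : 6 ≤ n) :
    9 * AB n = (if n % 3 = 0 then 9 else if n % 3 = 1 then 12 else 16) * 3 ^ (n / 3) := by
  obtain ⟨j, hj⟩ : ∃ j, n / 3 = j + 2 := ⟨n / 3 - 2, by omega⟩
  rcases (show n % 3 = 0 ∨ n % 3 = 1 ∨ n % 3 = 2 by omega) with h | h | h <;>
    simp [AB, h, show n ≠ 1 by omega, show n ≠ 2 by omega, show n ≠ 5 by omega, hj, pow_succ] <;> ring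

theorem three_mul_SB (n : ℕ) : 3 * SB n ≤ SB (n + 3) := by
  by_cases h : n < 3
  · interval_cases n <;> norm_num [SB]
  · have h1 := SB_big n (by omega)
    have h2 := SB_big (n + 3) (by omega)
    rw [show (n + 3) % 3 = n % 3 by omega, show (n + 3) / 3 = n / 3 + 1 by omega, pow_succ] at h2
    nlinarith

theorem three_mul_AB (n : ℕ) : 3 * AB n ≤ AB (n + 3) := by
  by_cases h : n < 6
  · interval_cases n <;> norm_num [AB]
  · have h1 := AB_big n (by omega)
    have h2 := AB_big (n + 3) (by omega)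
    rw [show (n + 3) % 3 = n % 3 by omega, show (n + 3) / 3 = n / 3 + 1 by omega, pow_succ] at h2
    nlinarith

theorem SB_pos (n : ℕ) : 0 < SB n := by
  unfold SB; split_ifs <;> positivity

theorem AB_pos (n : ℕ) : 0 < AB n := by
  unfold AB; split_ifs <;> positivity

theorem mul_SB : ∀ a b, 0 < a → a * SB b ≤ SB (a + b) := by
  intro a
  induction a using Nat.strong_induction_on with
  | _ a ih =>
    intro b ha
    by_cases ha6 : 6 ≤ a
    · have h1 := ih (a - 3) (by omega) b (by omega)
      have h2 := three_mul_SB (a - 3 + b)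
      rw [show a - 3 + b + 3 = a + b by omega] at h2
      have h3 : a * SB b ≤ 3 * (a - 3) * SB b := Nat.mul_le_mul_right _ (by omega)
      nlinarith
    · by_cases hb : b < 3
      · interval_cases b <;> interval_cases a <;> norm_num [SB]
      · obtain ⟨j, r, hr, rfl⟩ : ∃ j r, r < 3 ∧ b = 3 * j + r := ⟨b / 3, b % 3, by omega, by omega⟩
        have key : a + (3 * j + r) = 3 * (j + (a + r) / 3) + (a + r) % 3 := by omega
        have h1 := SB_big (3 * j + r) (by omega)
        have h2 := SB_big (a + (3 * j + r)) (by omega)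
        rw [show (3 * j + r) % 3 = r by omega, show (3 * j + r) / 3 = j by omega] at h1
        rw [show (a + (3 * j + r)) % 3 = (a + r) % 3 by omega,
          show (a + (3 * j + r)) / 3 = j + (a + r) / 3 by omega, pow_add] at h2
        generalize SB (3 * j + r) = X at h1 ⊢
        generalize SB (a + (3 * j + r)) = Y at h2 ⊢
        generalize 3 ^ j = Z at h1 h2
        interval_cases a <;> interval_cases r <;> norm_num at h1 h2 ⊢ <;> omega

theorem mul_AB : ∀ a b, 0 < a → a ≠ 2 → a * AB b ≤ AB (a + b) ∧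
    (3 ≤ a + b → a * AB b = AB (a + b) → a = 3 ∨ a = T (a + b)) := by
  intro a
  induction a using Nat.strong_induction_on with
  | _ a ih =>
    intro b ha ha2
    by_cases ha6 : 6 ≤ a
    · have h1 := (ih (a - 3) (by omega) b (by omega) (by omega)).1
      have h2 := three_mul_AB (a - 3 + b)
      rw [show a - 3 + b + 3 = a + b by omega] at h2
      have h3 : a * AB b < 3 * (a - 3) * AB b := Nat.mul_lt_mul_of_pos_right (by omega) (AB_pos b)
      exact ⟨by nlinarith, fun _ e => by nlinarith⟩
    · by_cases hb : b < 6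
      · interval_cases b <;> interval_cases a <;> first | exact absurd rfl ha2 | simp [AB, T]
      · obtain ⟨j, r, hr, rfl⟩ : ∃ j r, r < 3 ∧ b = 3 * j + r := ⟨b / 3, b % 3, by omega, by omega⟩
        have h1 := AB_big (3 * j + r) (by omega)
        have h2 := AB_big (a + (3 * j + r)) (by omega)
        have hT : T (a + (3 * j + r)) = if (a + r) % 3 = 0 then 3 else 4 := by
          rw [T, show (a + (3 * j + r)) % 3 = (a + r) % 3 by omega, if_neg (show a + (3 * j + r) ≠ 5 by omega)]
        have hpos := AB_pos (3 * j + r)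
        rw [show (3 * j + r) % 3 = r by omega, show (3 * j + r) / 3 = j by omega] at h1
        rw [show (a + (3 * j + r)) % 3 = (a + r) % 3 by omega,
          show (a + (3 * j + r)) / 3 = j + (a + r) / 3 by omega, pow_add] at h2
        rw [hT]
        generalize AB (3 * j + r) = X at h1 hpos ⊢
        generalize AB (a + (3 * j + r)) = Y at h2 ⊢
        generalize 3 ^ j = Z at h1 h2
        interval_cases a <;> interval_cases r <;> first | exact absurd rfl ha2 | (norm_num at h1 h2 ⊢ <;> omega)

theorem SB_lt (n : ℕ) (hn : n ≠ 2) : SB n < 2 * AB n := by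
  by_cases h : n < 6
  · interval_cases n <;> first | exact absurd rfl hn | norm_num [SB, AB]
  · have h1 := SB_big n (by omega)
    have h2 := AB_big n (by omega)
    have hp : 0 < 3 ^ (n / 3) := pow_pos (by norm_num) _
    rcases (show n % 3 = 0 ∨ n % 3 = 1 ∨ n % 3 = 2 by omega) with hs | hs | hs <;> simp [hs] at h1 h2 <;> omega

theorem T_mul (n : ℕ) (hn : 3 ≤ n) : T n ≤ n ∧ T n * AB (n - T n) = AB n := by
  by_cases h : n < 12
  · interval_cases n <;> norm_num [T, AB]
  · have h2 := AB_big n (by omega)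
    rcases (show n % 3 = 0 ∨ n % 3 = 1 ∨ n % 3 = 2 by omega) with hs | hs | hs <;>
      simp only [T, hs, show n ≠ 5 by omega] <;> norm_num
    · refine ⟨by omega, ?_⟩
      have h1 := AB_big (n - 3) (by omega)
      obtain ⟨j, hj⟩ : ∃ j, n / 3 = j + 1 := ⟨n / 3 - 1, by omega⟩
      rw [show (n - 3) % 3 = 0 by omega, show (n - 3) / 3 = j by omega] at h1
      rw [hs, hj, pow_succ] at h2
      norm_num at h1 h2
      nlinarith
    · refine ⟨by omega, ?_⟩
      have h1 := AB_big (n - 4) (by omega)
      obtain ⟨j, hj⟩ : ∃ j, n / 3 = j + 1 := ⟨n / 3 - 1, by omega⟩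
      rw [show (n - 4) % 3 = 0 by omega, show (n - 4) / 3 = j by omega] at h1
      rw [hs, hj, pow_succ] at h2
      norm_num at h1 h2
      nlinarith
    · refine ⟨by omega, ?_⟩
      have h1 := AB_big (n - 4) (by omega)
      obtain ⟨j, hj⟩ : ∃ j, n / 3 = j + 1 := ⟨n / 3 - 1, by omega⟩
      rw [show (n - 4) % 3 = 1 by omega, show (n - 4) / 3 = j by omega] at h1
      rw [hs, hj, pow_succ] at h2
      norm_num at h1 h2
      nlinarith

theorem T_cases (n : ℕ) : T n = 3 ∨ T n = 4 ∨ T n = 5 := by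
  unfold T; split_ifs <;> simp

/-- A bit as a sign. -/
def sgn : Bool → ℤˣ
  | true => -1
  | false => 1

theorem sgn_inj : ∀ a b, sgn a = sgn b → a = b := by decide

/-! ### Orbit decomposition -/

section
open scoped Classical

variable {α : Type} [Fintype α] [DecidableEq α]

theorem orbit_split (G : Subgroup (Perm α)) (hab : ∀ x y : ↥G, x * y = y * x) (a₀ : α) :
    ∃ (p : α → Prop) (hp : ∀ g ∈ G, ∀ x, p ((g : Perm α) x) ↔ p x),
      Nat.card {x // p x} = (MulAction.orbit ↥G a₀).ncard ∧ 0 < Nat.card {x // p x} ∧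
      Nat.card ↥(res G p hp).range = Nat.card {x // p x} := by
  obtain ⟨p, hpd⟩ : ∃ p : α → Prop, ∀ x, p x ↔ x ∈ MulAction.orbit ↥G a₀ :=
    ⟨fun x => x ∈ MulAction.orbit ↥G a₀, fun x => Iff.rfl⟩
  have hp : ∀ g ∈ G, ∀ x, p ((g : Perm α) x) ↔ p x := fun g hg x => by
    rw [hpd, hpd]
    show (⟨g, hg⟩ : ↥G) • x ∈ _ ↔ _
    rw [← MulAction.orbit_eq_iff, ← MulAction.orbit_eq_iff, MulAction.orbit_smul]
  refine ⟨p, hp, ?_, ?_, ?_⟩
  · rw [← Nat.card_coe_set_eq]
    exact Nat.card_congr (Equiv.subtypeEquivRight hpd)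
  · exact Nat.card_pos_iff.2 ⟨⟨⟨a₀, (hpd a₀).2 (MulAction.mem_orbit_self a₀)⟩⟩, inferInstance⟩
  · refine Nat.card_congr (Equiv.ofBijective
      (fun r : ↥(res G p hp).range => (r : Perm {x // p x}) ⟨a₀, (hpd a₀).2 (MulAction.mem_orbit_self a₀)⟩) ⟨?_, ?_⟩)
    · rintro ⟨_, g, rfl⟩ ⟨_, h, rfl⟩ e
      refine Subtype.ext (Equiv.ext fun y => Subtype.ext ?_)
      obtain ⟨k, hk⟩ := (hpd y.1).1 y.2
      have e' : (g : Perm α) a₀ = (h : Perm α) a₀ := congrArg Subtype.val e
      show (g : Perm α) y.1 = (h : Perm α) y.1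
      rw [← hk]
      show (g : Perm α) ((k : Perm α) a₀) = (h : Perm α) ((k : Perm α) a₀)
      rw [← Perm.mul_apply, ← Subgroup.coe_mul, hab g k, Subgroup.coe_mul, Perm.mul_apply, e',
        ← Perm.mul_apply, ← Subgroup.coe_mul, hab k h, Subgroup.coe_mul, Perm.mul_apply]
    · intro y
      obtain ⟨k, hk⟩ := (hpd y.1).1 y.2
      exact ⟨⟨_, k, rfl⟩, Subtype.ext hk⟩

theorem range_comm {G : Subgroup (Perm α)} (hab : ∀ x y : ↥G, x * y = y * x) {β : Type} (f : ↥G →* Perm β) :
    ∀ x y : ↥f.range, x * y = y * x := by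
  rintro ⟨_, g, rfl⟩ ⟨_, h, rfl⟩
  apply Subtype.ext
  show f g * f h = f h * f g
  rw [← map_mul, ← map_mul, hab]

theorem sym_bound : ∀ n : ℕ, ∀ {α : Type} [Fintype α] [DecidableEq α] (G : Subgroup (Perm α)), Nat.card α = n →
    (∀ x y : ↥G, x * y = y * x) → Nat.card ↥G ≤ SB n := by
  intro n
  induction n using Nat.strong_induction_on with
  | _ n ih =>
  intro α _ _ G hn hab
  rcases isEmpty_or_nonempty α with hα | ⟨⟨a₀⟩⟩
  · rw [Nat.card_eq_one_iff_unique.2 ⟨inferInstance, inferInstance⟩]
    exact SB_pos n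
  obtain ⟨p, hp, -, hpos, hcard⟩ := orbit_split G hab a₀
  have hb := card_compl p
  rw [hn] at hb
  have h2 := ih _ (by omega) _ rfl (range_comm hab (res G (fun x => ¬ p x) (not_inv hp)))
  refine (card_le_res hp).trans ((Nat.mul_le_mul hcard.le h2).trans ?_)
  rw [← hb]
  exact mul_SB _ _ hpos

theorem alt_bound : ∀ n : ℕ, ∀ {α : Type} [Fintype α] [DecidableEq α] (G : Subgroup (Perm α)), Nat.card α = n →
    (∀ x y : ↥G, x * y = y * x) → (∀ g ∈ G, Perm.sign g = 1) →
    Nat.card ↥G ≤ AB n ∧ (3 ≤ n → Nat.card ↥G = AB n → ∃ (p : α → Prop) (hp : ∀ g ∈ G, ∀ x, p ((g : Perm α) x) ↔ p x),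
      Nat.card {x // p x} = T n ∧ Nat.card ↥(res G p hp).range = T n ∧
        Nat.card ↥(res G (fun x => ¬ p x) (not_inv hp)).range = AB (n - T n) ∧
        (∀ g, Perm.sign (res G p hp g) = 1) ∧
        ∀ g, Perm.sign (res G (fun x => ¬ p x) (not_inv hp) g) = 1) := by
  intro n
  induction n using Nat.strong_induction_on with
  | _ n ih =>
  intro α _ _ G hn hab hsign
  by_cases hn2 : n ≤ 2
  · refine ⟨?_, fun h => by omega⟩
    have hbot : G = ⊥ := by
      refine eq_bot_iff.2 fun g hg => ?_
      have h1 : Nat.card ↥(alternatingGroup α) = 1 := by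
        rcases Nat.lt_or_ge (Nat.card α) 2 with h | h
        · haveI : Subsingleton α := Finite.card_le_one_iff_subsingleton.1 (by omega)
          exact Nat.card_eq_one_iff_unique.2 ⟨inferInstance, inferInstance⟩
        · haveI : Nontrivial α := Finite.one_lt_card_iff_nontrivial.1 (by omega)
          rw [nat_card_alternatingGroup, show Nat.card α = 2 by omega]
          rfl
      rw [← Subgroup.card_eq_one.1 h1]
      exact hsign g hg
    rw [hbot, Subgroup.card_bot]
    exact AB_pos n
  -- the estimate from any orbit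
  have key : ∀ a₀ : α, ∀ (p : α → Prop) (hp : ∀ g ∈ G, ∀ x, p ((g : Perm α) x) ↔ p x),
      0 < Nat.card {x // p x} → Nat.card ↥(res G p hp).range = Nat.card {x // p x} →
      Nat.card ↥G ≤ AB n ∧ (Nat.card ↥G = AB n →
        (Nat.card {x // p x} = 3 ∨ Nat.card {x // p x} = T n) ∧
        Nat.card {x // p x} * AB (Nat.card {x // ¬ p x}) = AB n ∧
        Nat.card ↥(res G (fun x => ¬ p x) (not_inv hp)).range = AB (Nat.card {x // ¬ p x}) ∧
        (∀ g, Perm.sign (res G p hp g) = 1) ∧
        ∀ g, Perm.sign (res G (fun x => ¬ p x) (not_inv hp) g) = 1) := by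
    intro _ p hp hpos hcard
    have hb := card_compl p
    rw [hn] at hb
    by_cases heven : ∀ g, Perm.sign (res G p hp g) = 1
    · have heven2 : ∀ g, Perm.sign (res G (fun x => ¬ p x) (not_inv hp) g) = 1 := fun g => by
        have h := sign_res hp g
        rw [hsign g g.2, heven g, one_mul] at h
        exact h.symm
      have h2 := (ih _ (by omega) _ rfl (range_comm hab (res G (fun x => ¬ p x) (not_inv hp)))
        (by rintro _ ⟨g, rfl⟩; exact heven2 g)).1
      have ha2 : Nat.card {x // p x} ≠ 2 := by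
        intro e
        haveI : Nontrivial {x // p x} := Finite.one_lt_card_iff_nontrivial.1 (by omega)
        have h : Nat.card ↥(res G p hp).range ≤ Nat.card ↥(alternatingGroup {x // p x}) :=
          Subgroup.card_le_of_le (by rintro _ ⟨g, rfl⟩; exact Equiv.Perm.mem_alternatingGroup.2 (heven g))
        rw [hcard, e, nat_card_alternatingGroup, e] at h
        norm_num [Nat.factorial] at h
      have h3 := mul_AB (Nat.card {x // p x}) (Nat.card {x // ¬ p x}) hpos ha2
      rw [hb] at h3
      have h4 := card_le_res hp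
      rw [hcard] at h4
      refine ⟨h4.trans ((Nat.mul_le_mul_left _ h2).trans h3.1), fun heq => ?_⟩
      have h5 : Nat.card {x // p x} * AB (Nat.card {x // ¬ p x}) = AB n :=
        le_antisymm h3.1 (heq ▸ h4.trans (Nat.mul_le_mul_left _ h2))
      refine ⟨h3.2 (by omega) h5, h5, le_antisymm h2 ?_, heven, heven2⟩
      refine Nat.le_of_mul_le_mul_left ?_ hpos
      rw [h5, ← heq]
      exact h4
    · push_neg at heven
      obtain ⟨u, hu⟩ := heven
      have hu' : Perm.sign (res G p hp u) = -1 := (Int.units_eq_one_or _).resolve_left hu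
      set R₁ := (res G p hp).range
      set R₂ := (res G (fun x => ¬ p x) (not_inv hp)).range
      let f : ↥G × Bool → ↥R₁ × ↥R₂ := fun t =>
        ((res G p hp).rangeRestrict t.1 * (if t.2 then (res G p hp).rangeRestrict u else 1),
          (res G (fun x => ¬ p x) (not_inv hp)).rangeRestrict t.1)
      have hs : ∀ t, Perm.sign ((f t).1 : Perm {x // p x}) * Perm.sign ((f t).2 : Perm {x // ¬ p x}) =
          sgn t.2 := by
        rintro ⟨g, t⟩
        have h := sign_res hp g
        rw [hsign g g.2] at h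
        rcases t with _ | _
        · show Perm.sign ((res G p hp g) * 1) * Perm.sign (res G (fun x => ¬ p x) (not_inv hp) g) = 1
          rw [mul_one, h]
        · show Perm.sign (res G p hp g * res G p hp u) * Perm.sign (res G (fun x => ¬ p x) (not_inv hp) g) = -1
          rw [map_mul, hu', mul_right_comm, ← h, one_mul]
      have hf : Function.Injective f := by
        rintro ⟨g, t⟩ ⟨h, t'⟩ e
        have htt : t = t' := by
          have h1 := hs (g, t)
          rw [e, hs (h, t')] at h1
          exact sgn_inj _ _ h1.symm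
        subst htt
        have e1 := congrArg Prod.fst e
        have e2 := congrArg Prod.snd e
        refine Prod.ext (Subtype.ext ?_) rfl
        rw [← glue_res hp g, ← glue_res hp h]
        exact congrArg (Perm.subtypeCongrHom p) (Prod.ext (congrArg Subtype.val (mul_right_cancel e1) :)
          (congrArg Subtype.val e2 :))
      have h4 := Nat.card_le_card_of_injective f hf
      rw [Nat.card_prod, Nat.card_prod, hcard, show Nat.card Bool = 2 by simp] at h4
      have h2 := sym_bound _ R₂ rfl (range_comm hab (res G (fun x => ¬ p x) (not_inv hp)))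
      have h3 := mul_SB (Nat.card {x // p x}) (Nat.card {x // ¬ p x}) hpos
      rw [hb] at h3
      have h5 := SB_lt n (by omega)
      have h6 : Nat.card ↥G < AB n := by
        have := h4.trans ((Nat.mul_le_mul_left _ h2).trans h3)
        omega
      exact ⟨h6.le, fun e => absurd e h6.ne⟩
  obtain ⟨a₀⟩ : Nonempty α := (Nat.card_pos_iff.1 (by omega)).1
  obtain ⟨p, hp, -, hpos, hcard⟩ := orbit_split G hab a₀
  refine ⟨(key a₀ p hp hpos hcard).1, fun _ heq => ?_⟩
  -- some orbit has the distinguished size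
  obtain ⟨x, hx⟩ : ∃ x : α, (MulAction.orbit ↥G x).ncard = T n := by
    by_contra hne
    push_neg at hne
    have h3 : ∀ x : α, (MulAction.orbit ↥G x).ncard = 3 := fun x => by
      obtain ⟨q, hq, hqc, hqpos, hqr⟩ := orbit_split G hab x
      rw [← hqc]
      exact ((key x q hq hqpos hqr).2 heq).1.resolve_right (hqc ▸ hne x)
    have hsum : n = 3 * Nat.card (Quotient (MulAction.orbitRel ↥G α)) := by
      haveI : Fintype (Quotient (MulAction.orbitRel ↥G α)) := Fintype.ofFinite _
      rw [← hn, Nat.card_congr (MulAction.selfEquivSigmaOrbits ↥G α), Nat.card_sigma,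
        Finset.sum_congr rfl (fun ω _ => by rw [Nat.card_coe_set_eq, h3]), Finset.sum_const, Finset.card_univ,
        smul_eq_mul, mul_comm, ← Nat.card_eq_fintype_card]
    obtain ⟨x⟩ : Nonempty α := ⟨a₀⟩
    refine hne x ?_
    rw [h3, T, if_pos (by omega)]
  obtain ⟨q, hq, hqc, hqpos, hqr⟩ := orbit_split G hab x
  obtain ⟨-, -, h5, h6, h7⟩ := (key x q hq hqpos hqr).2 heq
  refine ⟨q, hq, hqc.trans hx, hqr.trans (hqc.trans hx), ?_, h6, h7⟩
  have hb := card_compl q
  rw [hn, hqc.trans hx] at hb
  rw [h5, show Nat.card {x // ¬ q x} = n - T n by omega]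

end

end Cfsg.Agent.Solv.AbPerm
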