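import Mathlib
import Cfsg.Agent.Lib.Solv.AbelianPermExtremal

/-!
Existence and conjugacy of the largest abelian subgroups of alternating groups.
-/

set_option autoImplicit false

namespace Cfsg.Agent.Solv.AbPerm

open Equiv Subgroup
open scoped Pointwise Classical
open Cfsg.Agent.Solv.NilPerm (res not_inv glue_res card_compl)

theorem small_sylow (a : ℕ) (ha : a = 3 ∨ a = 4 ∨ a = 5) : ∃ q k : ℕ, q.Prime ∧ q ^ k = a ∧ k ≤ 2 ∧
    q ^ k ∣ a.factorial / 2 ∧ ¬ q ^ (k + 1) ∣ a.factorial / 2 := by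
  rcases ha with rfl | rfl | rfl
  · exact ⟨3, 1, Nat.prime_three, rfl, by norm_num, by decide, by decide⟩
  · exact ⟨2, 2, Nat.prime_two, rfl, by norm_num, by decide, by decide⟩
  · exact ⟨5, 1, by norm_num, rfl, by norm_num, by decide, by decide⟩

section
variable {β : Type} [Fintype β] [DecidableEq β]

theorem block_exists (ha : Nat.card β = 3 ∨ Nat.card β = 4 ∨ Nat.card β = 5) :
    ∃ R : Subgroup (Perm β), Nat.card ↥R = Nat.card β ∧ (∀ x y : ↥R, x * y = y * x) ∧ ∀ g ∈ R, Perm.sign g = 1 := by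
  obtain ⟨q, k, hq, hqk, hk2, hd, -⟩ := small_sylow _ ha
  haveI := Fact.mk hq
  haveI : Nontrivial β := Finite.one_lt_card_iff_nontrivial.1 (by omega)
  obtain ⟨K, hK⟩ := Sylow.exists_subgroup_card_pow_prime q (n := k) (G := ↥(alternatingGroup β))
    (by rw [nat_card_alternatingGroup]; exact hd)
  refine ⟨K.map (alternatingGroup β).subtype, by rw [Solv.card_map_subtype, hK, hqk], ?_, ?_⟩
  · have hc : ∀ x y : ↥K, x * y = y * x := by
      rcases (show k = 0 ∨ k = 1 ∨ k = 2 by omega) with rfl | rfl | rfl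
      · rw [pow_zero] at hqk; omega
      · haveI : IsCyclic ↥K := isCyclic_of_prime_card (p := q) (by rw [hK, pow_one])
        exact mul_comm'
      · intro x y
        exact (IsPGroup.commGroupOfCardEqPrimeSq hK).mul_comm x y
    rintro ⟨_, x, hx, rfl⟩ ⟨_, y, hy, rfl⟩
    exact Subtype.ext (congrArg (fun t : ↥K => ((t : ↥(alternatingGroup β)) : Perm β)) (hc ⟨x, hx⟩ ⟨y, hy⟩) :)
  · rintro _ ⟨x, _, rfl⟩
    exact Equiv.Perm.mem_alternatingGroup.1 x.2

theorem block_conj (ha : Nat.card β = 3 ∨ Nat.card β = 4 ∨ Nat.card β = 5) (R R' : Subgroup (Perm β))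
    (hR : Nat.card ↥R = Nat.card β) (hR' : Nat.card ↥R' = Nat.card β) (hs : ∀ g ∈ R, Perm.sign g = 1)
    (hs' : ∀ g ∈ R', Perm.sign g = 1) (s : ℤˣ) :
    ∃ c : Perm β, Perm.sign c = s ∧ R.map c.permCongrHom.toMonoidHom = R' := by
  obtain ⟨q, k, hq, hqk, -, hd, hnd⟩ := small_sylow _ ha
  haveI := Fact.mk hq
  haveI : Nontrivial β := Finite.one_lt_card_iff_nontrivial.1 (by omega)
  set A := alternatingGroup β
  have hAc : Nat.card ↥A = (Nat.card β).factorial / 2 := nat_card_alternatingGroup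
  have hfac : (Nat.card ↥A).factorization q = k := by
    refine le_antisymm ?_ ((hq.pow_dvd_iff_le_factorization Nat.card_pos.ne').1 (hAc ▸ hd))
    by_contra hgt
    exact hnd (hAc ▸ (hq.pow_dvd_iff_le_factorization (k := k + 1) Nat.card_pos.ne').2 (by omega))
  -- any two such groups are conjugate by an even permutation
  have hconj : ∀ Q Q' : Subgroup (Perm β), Nat.card ↥Q = Nat.card β → Nat.card ↥Q' = Nat.card β →
      (∀ g ∈ Q, Perm.sign g = 1) → (∀ g ∈ Q', Perm.sign g = 1) →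
      ∃ c : Perm β, Perm.sign c = 1 ∧ Q.map c.permCongrHom.toMonoidHom = Q' := by
    intro Q Q' hQ hQ' hQs hQs'
    have hle : Q ≤ A := fun g hg => Equiv.Perm.mem_alternatingGroup.2 (hQs g hg)
    have hle' : Q' ≤ A := fun g hg => Equiv.Perm.mem_alternatingGroup.2 (hQs' g hg)
    let S : Sylow q ↥A := Sylow.ofCard (Q.subgroupOf A) (by rw [Solv.card_subgroupOf hle, hQ, hfac, hqk])
    let S' : Sylow q ↥A := Sylow.ofCard (Q'.subgroupOf A) (by rw [Solv.card_subgroupOf hle', hQ', hfac, hqk])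
    obtain ⟨c, hc⟩ := MulAction.exists_smul_eq ↥A S S'
    refine ⟨c, Equiv.Perm.mem_alternatingGroup.1 c.2, ?_⟩
    have h : ((Q.subgroupOf A).map (MulAut.conj c).toMonoidHom).map A.subtype = (Q'.subgroupOf A).map A.subtype :=
      congrArg (fun U : Sylow q ↥A => (U : Subgroup ↥A).map A.subtype) hc
    rw [Subgroup.subgroupOf_map_subtype Q', inf_eq_left.2 hle', Subgroup.map_map] at h
    rw [← h]
    have e : Q = (Q.subgroupOf A).map A.subtype :=
      ((Subgroup.subgroupOf_map_subtype Q _).trans (inf_eq_left.2 hle)).symm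
    conv_lhs => rw [e, Subgroup.map_map]
    congr 1
  obtain ⟨c, hc1, hc⟩ := hconj R R' hR hR' hs hs'
  rcases Int.units_eq_one_or s with rfl | rfl
  · exact ⟨c, hc1, hc⟩
  · obtain ⟨x, y, hxy⟩ := exists_pair_ne β
    set R'' := R.map (Equiv.swap x y).permCongrHom.toMonoidHom
    obtain ⟨d, hd1, hd2⟩ := hconj R'' R' (by rw [Subgroup.card_map_of_injective (Equiv.swap x y).permCongrHom.injective, hR])
      hR' (by rintro _ ⟨g, hg, rfl⟩; show Perm.sign ((Equiv.swap x y).permCongr g) = 1; rw [Perm.sign_permCongr]; exact hs g hg) hs'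
    refine ⟨d * Equiv.swap x y, by rw [map_mul, hd1, Perm.sign_swap hxy, one_mul], ?_⟩
    rw [← hd2, Subgroup.map_map]
    congr 1

end

theorem glue_conj {α β : Type} (p : α → Prop) (q : β → Prop) [DecidablePred p] [DecidablePred q]
    (f : {x // p x} ≃ {x // q x}) (e : {x // ¬ p x} ≃ {x // ¬ q x}) :
    ∃ π : α ≃ β, ∀ a b, π.permCongr (Perm.subtypeCongrHom p (a, b)) =
      Perm.subtypeCongrHom q (f.permCongr a, e.permCongr b) := by
  refine ⟨(Equiv.sumCompl p).symm.trans ((Equiv.sumCongr f e).trans (Equiv.sumCompl q)), fun a b => ?_⟩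
  refine Equiv.ext fun x => ?_
  set π := (Equiv.sumCompl p).symm.trans ((Equiv.sumCongr f e).trans (Equiv.sumCompl q)) with hπ
  obtain ⟨z, rfl⟩ := π.surjective x
  show π (Perm.subtypeCongr a b (π.symm (π z))) = Perm.subtypeCongr _ _ (π z)
  rw [Equiv.symm_apply_apply]
  by_cases hz : p z
  · have h1 : π z = f ⟨z, hz⟩ := by simp [hπ, hz]
    have h2 : π (a ⟨z, hz⟩) = f (a ⟨z, hz⟩) := by simp [hπ, (a ⟨z, hz⟩).2]
    rw [h1, Perm.subtypeCongr.left_apply _ _ hz, h2, Perm.subtypeCongr.left_apply _ _ (f ⟨z, hz⟩).2]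
    simp
  · have h1 : π z = e ⟨z, hz⟩ := by simp [hπ, hz]
    have h2 : π (b ⟨z, hz⟩) = e (b ⟨z, hz⟩) := by simp [hπ, (b ⟨z, hz⟩).2]
    rw [h1, Perm.subtypeCongr.right_apply _ _ hz, h2, Perm.subtypeCongr.right_apply _ _ (e ⟨z, hz⟩).2]
    simp

theorem exists_max : ∀ n : ℕ, ∀ {α : Type} [Fintype α] [DecidableEq α], Nat.card α = n →
    ∃ G : Subgroup (Perm α), (∀ x y : ↥G, x * y = y * x) ∧ (∀ g ∈ G, Perm.sign g = 1) ∧ Nat.card ↥G = AB n := by
  intro n
  induction n using Nat.strong_induction_on with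
  | _ n ih =>
  intro α _ _ hn
  by_cases hn2 : n ≤ 2
  · refine ⟨⊥, fun x y => Subsingleton.elim _ _, fun g hg => by rw [Subgroup.mem_bot.1 hg, map_one], ?_⟩
    rw [Subgroup.card_bot]
    interval_cases n <;> rfl
  obtain ⟨hT, hmul⟩ := T_mul n (by omega)
  obtain ⟨s, hs⟩ := Finset.exists_subset_card_eq (s := (Finset.univ : Finset α)) (n := T n)
    (by rw [Finset.card_univ, ← Nat.card_eq_fintype_card, hn]; exact hT)
  obtain ⟨p, hp⟩ : ∃ p : α → Prop, ∀ x, p x ↔ x ∈ s := ⟨fun x => x ∈ s, fun x => Iff.rfl⟩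
  have hpc : Nat.card {x // p x} = T n := by
    rw [Nat.card_congr (Equiv.subtypeEquivRight hp), Nat.card_eq_finsetCard, hs.2]
  have hb := card_compl p
  rw [hn, hpc] at hb
  obtain ⟨R, hR, hRc, hRs⟩ := block_exists (β := {x // p x}) (by rw [hpc]; exact T_cases n)
  obtain ⟨K, hKc, hKs, hK⟩ := ih (Nat.card {x // ¬ p x}) (by rcases T_cases n with e | e | e <;> omega)
    (α := {x // ¬ p x}) rfl
  refine ⟨(R.prod K).map (Perm.subtypeCongrHom p), ?_, ?_, ?_⟩
  · rintro ⟨_, ⟨a, b⟩, ⟨ha, hb'⟩, rfl⟩ ⟨_, ⟨c, d⟩, ⟨hc, hd⟩, rfl⟩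
    refine Subtype.ext ?_
    show Perm.subtypeCongrHom p (a, b) * Perm.subtypeCongrHom p (c, d) = _
    rw [← map_mul, Prod.mk_mul_mk, show a * c = c * a from congrArg Subtype.val (hRc ⟨a, ha⟩ ⟨c, hc⟩),
      show b * d = d * b from congrArg Subtype.val (hKc ⟨b, hb'⟩ ⟨d, hd⟩), ← Prod.mk_mul_mk, map_mul]
    rfl
  · rintro _ ⟨⟨a, b⟩, ⟨ha, hb'⟩, rfl⟩
    show Perm.sign (Perm.subtypeCongr a b) = 1
    rw [Perm.sign_subtypeCongr, hRs a ha, hKs b hb', one_mul]
  · rw [Subgroup.card_map_of_injective (Perm.subtypeCongrHom_injective p),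
      Nat.card_congr (R.prodEquiv K).toEquiv, Nat.card_prod, hR, hK, hpc,
      show Nat.card {x // ¬ p x} = n - T n by omega, hmul]

theorem eq_glue {α : Type} [Fintype α] [DecidableEq α] {G : Subgroup (Perm α)} {p : α → Prop}
    (hp : ∀ g ∈ G, ∀ x, p ((g : Perm α) x) ↔ p x)
    (h : Nat.card ↥(res G p hp).range * Nat.card ↥(res G (fun x => ¬ p x) (not_inv hp)).range ≤ Nat.card ↥G) :
    G = ((res G p hp).range.prod (res G (fun x => ¬ p x) (not_inv hp)).range).map (Perm.subtypeCongrHom p) := by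
  refine Subgroup.eq_of_le_of_card_ge (fun g hg => ?_) ?_
  · exact ⟨(res G p hp ⟨g, hg⟩, res G (fun x => ¬ p x) (not_inv hp) ⟨g, hg⟩), ⟨⟨_, rfl⟩, ⟨_, rfl⟩⟩,
      glue_res hp ⟨g, hg⟩⟩
  · rwa [Subgroup.card_map_of_injective (Perm.subtypeCongrHom_injective p),
      Nat.card_congr (Subgroup.prodEquiv _ _).toEquiv, Nat.card_prod]

/-- Two largest abelian groups correspond under a bijection of any parity. -/
theorem conj_max : ∀ n : ℕ, ∀ {α β : Type} [Fintype α] [DecidableEq α] [Fintype β] [DecidableEq β]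
    (G : Subgroup (Perm α)) (G' : Subgroup (Perm β)), Nat.card α = n → Nat.card β = n →
    (∀ x y : ↥G, x * y = y * x) → (∀ x y : ↥G', x * y = y * x) →
    (∀ g ∈ G, Perm.sign g = 1) → (∀ g ∈ G', Perm.sign g = 1) →
    Nat.card ↥G = AB n → Nat.card ↥G' = AB n → ∃ π : α ≃ β, G.map π.permCongrHom.toMonoidHom = G' := by
  intro n
  induction n using Nat.strong_induction_on with
  | _ n ih =>
  intro α β _ _ _ _ G G' hα hβ hab hab' hs hs' hc hc'
  by_cases hn2 : n ≤ 2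
  · have h1 : AB n = 1 := by interval_cases n <;> rfl
    obtain ⟨π⟩ := Finite.card_eq.1 (hα.trans hβ.symm)
    exact ⟨π, by rw [Subgroup.card_eq_one.1 (hc.trans h1), Subgroup.card_eq_one.1 (hc'.trans h1), Subgroup.map_bot]⟩
  obtain ⟨p, hp, hpc, hR, hK, hRs, hKs⟩ := (alt_bound n G hα hab hs).2 (by omega) hc
  obtain ⟨q, hq, hqc, hR', hK', hRs', hKs'⟩ := (alt_bound n G' hβ hab' hs').2 (by omega) hc'
  obtain ⟨hT, hmul⟩ := T_mul n (by omega)
  have hb := card_compl p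
  have hb' := card_compl q
  rw [hα, hpc] at hb
  rw [hβ, hqc] at hb'
  have hT3 : 3 ≤ T n := by rcases T_cases n with e | e | e <;> omega
  obtain ⟨e, he⟩ := ih (n - T n) (by omega) (res G (fun x => ¬ p x) (not_inv hp)).range
    (res G' (fun x => ¬ q x) (not_inv hq)).range (by omega) (by omega) (range_comm hab _) (range_comm hab' _)
    (by rintro _ ⟨g, rfl⟩; exact hKs g) (by rintro _ ⟨g, rfl⟩; exact hKs' g) hK hK'
  obtain ⟨f₀⟩ := Finite.card_eq.1 (hpc.trans hqc.symm)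
  obtain ⟨c, -, hc2⟩ := block_conj (β := {x // q x}) (by rw [hqc]; exact T_cases n)
    ((res G p hp).range.map f₀.permCongrHom.toMonoidHom) (res G' q hq).range
    (by rw [Subgroup.card_map_of_injective f₀.permCongrHom.injective, hR, hqc]) (by rw [hR', hqc])
    (by rintro _ ⟨g, ⟨k, rfl⟩, rfl⟩; show Perm.sign (f₀.permCongr _) = 1; rw [Perm.sign_permCongr]; exact hRs k)
    (by rintro _ ⟨g, rfl⟩; exact hRs' g) 1
  obtain ⟨π, hπ⟩ := glue_conj p q (f₀.trans c) e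
  refine ⟨π, ?_⟩
  rw [eq_glue hp (by rw [hR, hK, hmul, hc]), eq_glue hq (by rw [hR', hK', hmul, hc']), Subgroup.map_map, ← hc2, ← he]
  ext g
  constructor
  · rintro ⟨⟨a, b⟩, ⟨ha, hb⟩, rfl⟩
    exact ⟨(c.permCongr (f₀.permCongr a), e.permCongr b), ⟨⟨_, ⟨a, ha, rfl⟩, rfl⟩, ⟨b, hb, rfl⟩⟩, (hπ a b).symm⟩
  · rintro ⟨⟨a', b'⟩, ⟨⟨_, ⟨a, ha, rfl⟩, rfl⟩, ⟨b, hb, rfl⟩⟩, rfl⟩
    exact ⟨(a, b), ⟨ha, hb⟩, hπ a b⟩

end Cfsg.Agent.Solv.AbPerm
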