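import Mathlib

/-!
Automorphisms of prime order with few fixed points: sections, abelian groups, and elementary facts
about derived series.
-/

set_option autoImplicit false
set_option linter.style.haveILetI false
set_option linter.unusedSectionVars false

open scoped commutatorElement

namespace Cfsg.Agent.Solv.AlperinDL

/-- A subgroup moved by `σ` only within cosets of `L` has order at most the number of fixed points
times the order of `L`. -/
theorem card_le_fixed_mul {G : Type*} [Group G] [Finite G] (σ : MulAut G) (S L : Subgroup G)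
    (hS : ∀ s ∈ S, s⁻¹ * σ s ∈ L) :
    Nat.card S ≤ Nat.card {s : S // σ (s : G) = s} * Nat.card L := by
  classical
  obtain ⟨ψ, hψ⟩ : ∃ ψ : S → L, ∀ s, (ψ s : G) = (s : G)⁻¹ * σ s :=
    ⟨fun s => ⟨_, hS s s.2⟩, fun _ => rfl⟩
  have hfix : ∀ s t : S, ψ s = ψ t → σ ((s * t⁻¹ : S) : G) = ((s * t⁻¹ : S) : G) := by
    intro s t h
    have h1 := congrArg Subtype.val h
    rw [hψ, hψ] at h1
    push_cast
    rw [map_mul, map_inv, show σ (s : G) = s * ((s : G)⁻¹ * σ s) by group, h1]
    group
  have hsec : ∀ s, ψ (Function.invFun ψ (ψ s)) = ψ s := fun s => Function.invFun_eq ⟨s, rfl⟩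
  rw [← Nat.card_prod]
  refine Nat.card_le_card_of_injective
    (fun s => (⟨s * (Function.invFun ψ (ψ s))⁻¹, hfix _ _ (hsec s).symm⟩, ψ s)) ?_
  intro s t h
  simp only [Prod.mk.injEq, Subtype.mk.injEq] at h
  rw [h.2] at h
  exact mul_right_cancel h.1

theorem sub_one_pow_prime {R : Type*} [Ring R] {p : ℕ} (hp : p.Prime) (f : R) :
    ∃ r : R, (f - 1) ^ p = f ^ p - 1 + p * r := by
  obtain ⟨r, hr⟩ := Commute.exists_add_pow_prime_eq hp (Commute.neg_right (Commute.one_right f))
  rw [← sub_eq_add_neg] at hr
  rcases hp.eq_two_or_odd' with h | h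
  · subst h
    refine ⟨f * -1 * r + 1, ?_⟩
    rw [hr, neg_sq, one_pow, mul_assoc ((2 : ℕ) : R), mul_assoc ((2 : ℕ) : R)]
    push_cast
    noncomm_ring
  · refine ⟨f * -1 * r, ?_⟩
    rw [hr, h.neg_one_pow, mul_assoc (p : R), mul_assoc (p : R), ← sub_eq_add_neg]

/-- The elements of order dividing `p` in an abelian group with few fixed points. -/
theorem card_omega_le {V : Type*} [CommGroup V] [Finite V] {p : ℕ} [hp : Fact p.Prime] (β : MulAut V)
    (hβ : β ^ p = 1) (n : ℕ) (hfix : Nat.card {v : V // β v = v} ≤ p ^ n) :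
    Nat.card (powMonoidHom p : V →* V).ker ≤ p ^ (p * n) := by
  classical
  obtain ⟨Ω, hΩ⟩ : ∃ Ω : Subgroup V, Ω = (powMonoidHom p : V →* V).ker := ⟨_, rfl⟩
  rw [← hΩ]
  set δ : V →* V := MonoidHom.mk' (fun v => β v / v)
    (fun a b => by simp [div_mul_div_comm]) with hδ
  have hδa : ∀ v, δ v = β v / v := fun v => rfl
  have hpow : ∀ v ∈ Ω, δ^[p] v = 1 := by
    let f : AddMonoid.End (Additive V) := MonoidHom.toAdditive β.toMonoidHom
    have hf : ∀ (j : ℕ) (v : V), ((f ^ j) (Additive.ofMul v)) = Additive.ofMul ((β ^ j) v) := by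
      intro j
      induction j with
      | zero => intro v; simp
      | succ j ih =>
        intro v
        rw [pow_succ', pow_succ', AddMonoid.End.coe_mul, Function.comp_apply, ih, MulAut.mul_apply]
        rfl
    have hd : ∀ (j : ℕ) (v : V), ((f - 1) ^ j) (Additive.ofMul v) = Additive.ofMul (δ^[j] v) := by
      intro j
      induction j with
      | zero => intro v; simp
      | succ j ih =>
        intro v
        rw [pow_succ', AddMonoid.End.coe_mul, Function.comp_apply, ih, Function.iterate_succ_apply']
        rfl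
    intro v hv
    rw [hΩ] at hv
    obtain ⟨r, hr⟩ := sub_one_pow_prime hp.out f
    have hpv : p • Additive.ofMul v = 0 := by
      rw [← ofMul_pow, show v ^ p = 1 from hv, ofMul_one]
    have h3 : (f ^ p) (Additive.ofMul v) = Additive.ofMul v := by
      rw [hf, hβ]; rfl
    have h2 : ((p : AddMonoid.End (Additive V)) * r) (Additive.ofMul v) = 0 := by
      rw [(Nat.cast_commute p r).eq, AddMonoid.End.coe_mul, Function.comp_apply,
        AddMonoid.End.natCast_apply, hpv, map_zero]
    have h5 : ((f - 1) ^ p) (Additive.ofMul v) = 0 := by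
      rw [hr]
      show (f ^ p) (Additive.ofMul v) - Additive.ofMul v + _ = (0 : Additive V)
      erw [h2, h3, add_zero, sub_self]
    rw [hd] at h5
    exact Additive.ofMul.injective (h5.trans ofMul_one.symm)
  let K : ℕ → Subgroup V := fun j => Nat.rec (motive := fun _ => Subgroup V) (⊥ : Subgroup V) (fun _ S => Ω ⊓ S.comap δ) j
  have hKs : ∀ j, K (j + 1) = Ω ⊓ (K j).comap δ := fun j => rfl
  have hfix' : Nat.card δ.ker ≤ p ^ n := by
    refine le_of_eq_of_le (Nat.card_congr (Equiv.subtypeEquivRight fun v => ?_)) hfix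
    rw [MonoidHom.mem_ker, hδa, div_eq_one]
  have hKc : ∀ j, Nat.card (K j) ≤ p ^ (n * j) := by
    intro j
    induction j with
    | zero => simp [K]
    | succ j ih =>
      let ψ : K (j + 1) →* K j := (δ.comp (K (j + 1)).subtype).codRestrict (K j) fun x =>
        (Subgroup.mem_inf.1 ((hKs j).le x.2)).2
      have h1 : Nat.card ψ.ker ≤ p ^ n := by
        refine le_trans (Nat.card_le_card_of_injective
          (fun x => (⟨((x : K (j + 1)) : V), ?_⟩ : δ.ker)) ?_) hfix'
        · exact congrArg Subtype.val x.2
        · intro a b h; exact Subtype.ext (Subtype.ext (congrArg Subtype.val h :))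
      have h2 : ψ.ker.index ≤ p ^ (n * j) := by
        rw [Subgroup.index_ker]
        exact (Subgroup.card_le_card_group _).trans ih
      rw [← Subgroup.card_mul_index ψ.ker, Nat.mul_succ, pow_add, mul_comm (p ^ (n * j))]
      exact Nat.mul_le_mul h1 h2
  have hmemK : ∀ (j : ℕ) (v : V), v ∈ Ω → δ^[j] v = 1 → v ∈ K j := by
    intro j
    induction j with
    | zero => intro v _ h; exact Subgroup.mem_bot.2 h
    | succ j ih =>
      intro v hv h
      rw [hKs, Subgroup.mem_inf]
      refine ⟨hv, ih _ ?_ h⟩
      rw [hΩ] at hv ⊢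
      show (δ v) ^ p = 1
      rw [← map_pow, show v ^ p = 1 from hv, map_one]
  rw [mul_comm p n]
  exact (Subgroup.card_le_of_le fun v hv => hmemK p v hv (hpow v hv)).trans (hKc p)

/-- An abelian group of exponent dividing `p ^ 2` with few fixed points. -/
theorem card_le_of_exp_sq {V : Type*} [CommGroup V] [Finite V] {p : ℕ} [hp : Fact p.Prime]
    (β : MulAut V) (hβ : β ^ p = 1) (n : ℕ) (hfix : Nat.card {v : V // β v = v} ≤ p ^ n)
    (hexp : ∀ v : V, v ^ (p * p) = 1) : Nat.card V ≤ p ^ (2 * (p * n)) := by
  have h1 := card_omega_le β hβ n hfix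
  have h2 : (powMonoidHom p : V →* V).range ≤ (powMonoidHom p : V →* V).ker := by
    rintro _ ⟨v, rfl⟩
    rw [MonoidHom.mem_ker, powMonoidHom_apply, powMonoidHom_apply, ← pow_mul, hexp]
  rw [← Subgroup.card_mul_index (powMonoidHom p : V →* V).ker, Subgroup.index_ker, two_mul, pow_add]
  exact Nat.mul_le_mul h1 ((Subgroup.card_le_of_le h2).trans h1)

section Derived

variable {G : Type*} [Group G] [Finite G]

theorem derived_bot_of_card (hs : Group.IsSolvable G) (i B : ℕ)
    (hB : Nat.card (derivedSeries G i) ≤ B) : derivedSeries G (i + B) = ⊥ := by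
  have key : ∀ j, derivedSeries G (i + j) = ⊥ ∨ Nat.card (derivedSeries G (i + j)) + j ≤ B := by
    intro j
    induction j with
    | zero => exact Or.inr (by simpa using hB)
    | succ j ih =>
      rcases ih with h | h
      · left
        rw [← add_assoc, derivedSeries_succ, h, Subgroup.commutator_bot_left]
      · by_cases hb : derivedSeries G (i + j) = ⊥
        · left
          rw [← add_assoc, derivedSeries_succ, hb, Subgroup.commutator_bot_left]
        · refine Or.inr ?_
          have hlt : derivedSeries G (i + j + 1) < derivedSeries G (i + j) := by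
            rw [derivedSeries_succ]
            exact IsSolvable.commutator_lt_of_ne_bot hb
          have := Set.ncard_lt_ncard (SetLike.coe_ssubset_coe.2 hlt) (Set.toFinite _)
          rw [← Nat.card_coe_set_eq, ← Nat.card_coe_set_eq] at this
          simp only [SetLike.coe_sort_coe] at this
          show Nat.card (derivedSeries G (i + j + 1)) + (j + 1) ≤ B
          omega
  rcases key B with h | h
  · exact h
  · exact Subgroup.eq_bot_of_card_le _ (by omega)

theorem derived_le_ker {H : Type*} [Group H] [Finite H] (hs : Group.IsSolvable G) (f : G →* H) :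
    derivedSeries G (Nat.card H) ≤ f.ker := by
  haveI := hs
  have hsr : Group.IsSolvable f.range :=
    Group.isSolvable_of_surjective f.rangeRestrict_surjective
  have hB : Nat.card (derivedSeries f.range 0) ≤ Nat.card H :=
    (Subgroup.card_le_card_group _).trans (Subgroup.card_le_card_group _)
  have h := derived_bot_of_card hsr 0 _ hB
  rw [zero_add, ← map_derivedSeries_eq f.rangeRestrict_surjective, Subgroup.map_eq_bot_iff,
    MonoidHom.ker_rangeRestrict] at h
  exact h

end Derived

end Cfsg.Agent.Solv.AlperinDL
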