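import Cfsg.Agent.Lib.Solv.FPFClass
import Cfsg.Agent.Lib.Solv.AlperinFixed

/-!
An automorphism of prime order `p` with few fixed points of a finite `p`-group: a section of the
lower central series of bounded index has bounded exponent.
-/

set_option autoImplicit false
set_option linter.style.haveILetI false
set_option linter.unusedSectionVars false

open scoped commutatorElement TensorProduct

namespace Cfsg.Agent.Solv.AlperinDL

universe u

open GrLie GradedLie FPFClass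

variable {p : ℕ} [hp : Fact p.Prime] {G : Type u} [Group G] [Finite G] (hG : IsPGroup p G)
  {σ : MulAut G} (hσ : σ ^ p = 1) {n : ℕ} (hfix : Nat.card {g : G // σ g = g} ≤ p ^ n)

include hG hfix in
/-- Fixed elements of a section are killed by `p ^ n`. -/
theorem smul_fixed {i : ℕ} {g : G} (hg : g ∈ γ G i) (h : act σ (ι i g hg) = ι i g hg) :
    (p ^ n) • ι i g hg = 0 := by
  rw [act_ι, ← sub_eq_zero, sub_eq_add_neg, ← ι_inv, add_comm, ← ι_mul, ι_eq_zero] at h
  obtain ⟨S, hS⟩ : ∃ S : Subgroup G, ∀ x, x ∈ S ↔ x ∈ γ G i ∧ x⁻¹ * σ x ∈ γ G (i + 1) :=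
    ⟨{ carrier := {x | x ∈ γ G i ∧ x⁻¹ * σ x ∈ γ G (i + 1)}
       one_mem' := ⟨one_mem _, by simp⟩
       mul_mem' := fun {a b} ha hb => ⟨mul_mem ha.1 hb.1, by
         have e : (a * b)⁻¹ * σ (a * b) = b⁻¹ * (a⁻¹ * σ a) * b⁻¹⁻¹ * (b⁻¹ * σ b) := by
           rw [map_mul]; group
         rw [e]
         exact mul_mem (((⊤ : Subgroup G).lowerCentralSeries_normal _).conj_mem _ ha.2 _) hb.2⟩
       inv_mem' := fun {a} ha => ⟨inv_mem ha.1, by
         have e : a⁻¹⁻¹ * σ a⁻¹ = a * (a⁻¹ * σ a)⁻¹ * a⁻¹ := by rw [map_inv]; group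
         rw [e]
         exact ((⊤ : Subgroup G).lowerCentralSeries_normal _).conj_mem _ (inv_mem ha.2) _⟩ },
      fun x => Iff.rfl⟩
  have hL : γ G (i + 1) ≤ S := fun x hx =>
    (hS x).2 ⟨γ_succ_le G i hx, mul_mem (inv_mem hx) (map_mem_γ σ hx)⟩
  have h1 := card_le_fixed_mul σ S (γ G (i + 1)) fun x hx => ((hS x).1 hx).2
  have h2 : Nat.card {s : S // σ (s : G) = s} ≤ p ^ n :=
    (Nat.card_le_card_of_injective
      (fun s : {s : S // σ (s : G) = s} => (⟨(s.1 : G), s.2⟩ : {g : G // σ g = g}))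
      fun (a b : {s : S // σ (s : G) = s}) hab =>
        Subtype.ext (Subtype.ext (congrArg (fun z : {g : G // σ g = g} => (z : G)) hab))).trans hfix
  have hcard : Nat.card (γ G (i + 1)) * ((γ G (i + 1)).subgroupOf S).index = Nat.card S := by
    rw [← Nat.card_congr (Subgroup.subgroupOfEquivOfLe hL).toEquiv]
    exact Subgroup.card_mul_index _
  have h3 : ((γ G (i + 1)).subgroupOf S).index ≤ p ^ n := by
    refine le_of_mul_le_mul_left ?_ (Nat.card_pos (α := γ G (i + 1)))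
    rw [hcard, mul_comm _ (p ^ n)]
    exact h1.trans (Nat.mul_le_mul_right _ h2)
  obtain ⟨k, hk⟩ := (hG.to_subgroup S).index ((γ G (i + 1)).subgroupOf S)
  rw [hk] at h3
  have hkn : k ≤ n := (Nat.pow_le_pow_iff_right hp.out.one_lt).1 h3
  have hgS : g ∈ S := (hS g).2 ⟨hg, h⟩
  have h4 := Subgroup.pow_index_mem ((γ G (i + 1)).subgroupOf S) ⟨g, hgS⟩
  rw [hk, Subgroup.mem_subgroupOf] at h4
  have h5 : g ^ (p ^ n) ∈ γ G (i + 1) := by
    rw [show p ^ n = p ^ k * p ^ (n - k) by rw [← pow_add, Nat.add_sub_cancel' hkn], pow_mul]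
    exact pow_mem h4 _
  have key : ∀ m : ℕ, m • ι i g hg = ι i (g ^ m) (pow_mem hg m) := fun m => by
    induction m with
    | zero => rw [zero_smul]; exact ((ι_congr rfl (pow_zero g) _ (one_mem _)).trans (ι_one i)).symm
    | succ m ih =>
      rw [succ_nsmul, ih, ← ι_mul]
      exact ι_congr rfl (pow_succ g m).symm _ _
  rw [key, ι_eq_zero]
  exact h5

include hG hσ hfix in
theorem smul_sum_A (x : Rp p ⊗[ℤ] Gr G) : (p ^ n) • ∑ k : ZMod p, A p (σ ^ k.val) x = 0 := by
  induction x using TensorProduct.induction_on with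
  | zero => simp
  | add a b ha hb => simp only [map_add, Finset.sum_add_distrib, smul_add, ha, hb, add_zero]
  | tmul r y =>
    simp only [A_tmul, ← TensorProduct.tmul_sum]
    suffices h : (p ^ n) • ∑ k : ZMod p, act (σ ^ k.val : MulAut G) y = 0 by
      rw [← TensorProduct.tmul_smul, h, TensorProduct.tmul_zero]
    induction y using GrLie.induction_on with
    | h0 => simp
    | hadd a b ha hb => simp only [map_add, Finset.sum_add_distrib, smul_add, ha, hb, add_zero]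
    | hι i g hg =>
      simp only [act_ι]
      classical
      have key : ∀ s : Finset (ZMod p), ∃ h, ∃ hh : h ∈ γ G i,
          ∑ k ∈ s, ι i ((σ ^ k.val : MulAut G) g) (map_mem_γ _ hg) = ι i h hh := fun s => by
        induction s using Finset.induction_on with
        | empty => exact ⟨1, one_mem _, by rw [Finset.sum_empty, ι_one]⟩
        | insert a s ha ih =>
          obtain ⟨h, hh, he⟩ := ih
          exact ⟨_, mul_mem (map_mem_γ _ hg) hh, by rw [Finset.sum_insert ha, he, ι_mul]⟩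
      obtain ⟨h, hh, he⟩ := key Finset.univ
      rw [he]
      refine smul_fixed hG hfix hh ?_
      rw [← he, map_sum]
      refine Fintype.sum_equiv (Equiv.addRight (1 : ZMod p)) _ _ fun k => ?_
      rw [act_ι]
      exact ι_congr rfl (by rw [Equiv.coe_addRight, pow_val_succ p hσ]; rfl) _ _

include hσ in
theorem smul_mem_iSup_comp (x : Rp p ⊗[ℤ] Gr G) : p • x ∈ ⨆ j, comp p σ j := by
  have hsum : ∑ j : ZMod p, ∑ k : ZMod p, pw p (-(j * k)) • A p (σ ^ k.val) x = p • x := by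
    rw [Finset.sum_comm, Finset.sum_eq_single (0 : ZMod p)]
    · simp only [mul_zero, neg_zero, pw_zero, one_smul, ZMod.val_zero, pow_zero, A_one,
        Finset.sum_const, Finset.card_univ, ZMod.card]
    · intro k _ hk
      rw [← Finset.sum_smul, sum_pw_mul p hk, zero_smul]
    · exact fun h => absurd (Finset.mem_univ _) h
  rw [← hsum]
  refine sum_mem fun j _ => AddSubgroup.mem_iSup_of_mem j ?_
  rw [mem_comp, map_sum, Finset.smul_sum]
  refine Fintype.sum_equiv (Equiv.addRight (1 : ZMod p)) _ _ fun k => ?_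
  rw [Equiv.coe_addRight, map_smul, A_comp, ← pow_val_succ p hσ, smul_smul, ← pw_add]
  congr 2
  ring

/-- The multiples of the components. -/
noncomputable def comp' (p : ℕ) [Fact p.Prime] (σ : MulAut G) (m : ℕ) : Fam (Rp p ⊗[ℤ] Gr G) p := fun j =>
  (comp p σ j).map (DistribSMul.toAddMonoidHom _ (p ^ m))

theorem mem_comp' {σ : MulAut G} {m : ℕ} {j : ZMod p} {x : Rp p ⊗[ℤ] Gr G} :
    x ∈ comp' p σ m j ↔ ∃ u ∈ comp p σ j, (p ^ m) • u = x := Iff.rfl

include hG hσ hfix in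
theorem graded' : Graded (comp' p σ (n + 1)) := by
  refine ⟨?_, eq_bot_iff.2 ?_⟩
  · intro i j u hu v hv
    obtain ⟨u0, hu0, rfl⟩ := mem_comp'.1 hu
    obtain ⟨v0, hv0, rfl⟩ := mem_comp'.1 hv
    refine mem_comp'.2 ⟨(p ^ (n + 1)) • ⁅u0, v0⁆, nsmul_mem ?_ _, ?_⟩
    · rw [mem_comp] at hu0 hv0 ⊢
      rw [A_lie, hu0, hv0, pw_add]
      exact (smul_lie (pw p i) u0 (pw p j • v0)).trans
        ((congrArg (pw p i • ·) (lie_smul (pw p j) u0 v0)).trans (smul_smul _ _ _))
    · rw [nsmul_lie, lie_nsmul]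
  · intro x hx
    obtain ⟨u, hu, rfl⟩ := mem_comp'.1 hx
    rw [mem_comp, pw_zero, one_smul] at hu
    have h1 := smul_sum_A hG hσ hfix u
    simp only [A_pow_of_fixed p hσ hu, Finset.sum_const, Finset.card_univ, ZMod.card] at h1
    rw [AddSubgroup.mem_bot, pow_succ, mul_smul, h1]

include hσ in
theorem smul_mem_iSup_comp' (m : ℕ) (x : Rp p ⊗[ℤ] Gr G) :
    (p ^ (m + 1)) • x ∈ ⨆ j, comp' p σ m j := by
  rw [pow_succ, mul_smul]
  refine AddSubgroup.iSup_induction _ (C := fun y => (p ^ m) • y ∈ ⨆ j, comp' p σ m j)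
    (smul_mem_iSup_comp hσ x) ?_ ?_ ?_
  · exact fun j y hy => AddSubgroup.mem_iSup_of_mem j (mem_comp'.2 ⟨y, hy, rfl⟩)
  · rw [smul_zero]; exact zero_mem _
  · intro a b ha hb; rw [smul_add]; exact add_mem ha hb

include hσ in
theorem mem_Γ' (m : ℕ) : ∀ (s : ℕ) (g : G) (hg : g ∈ γ G s) (r : Rp p),
    (p ^ ((m + 1) * (s + 1))) • (r ⊗ₜ[ℤ] ι s g hg) ∈ ⨆ d, Γ (comp' p σ m) s d
  | 0, g, hg, r => by
    rw [Nat.zero_add, mul_one]
    exact smul_mem_iSup_comp' hσ m _
  | s + 1, g, hg, r => by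
    obtain ⟨W, hW⟩ : ∃ W, W = ⨆ d, Γ (comp' p σ m) (s + 1) d := ⟨_, rfl⟩
    obtain ⟨N, hN⟩ : ∃ N, N = p ^ ((m + 1) * (s + 1 + 1)) := ⟨_, rfl⟩
    rw [← hW, ← hN]
    suffices h : ∀ g' : G, g' ∈ ⁅γ G s, (⊤ : Subgroup G)⁆ →
        ∃ hg' : g' ∈ γ G (s + 1), ∀ r : Rp p, N • (r ⊗ₜ[ℤ] ι (s + 1) g' hg') ∈ W from (h g hg).2 r
    intro g' hg'
    rw [Subgroup.commutator_def] at hg'
    induction hg' using Subgroup.closure_induction with
    | one => exact ⟨one_mem _, fun r => by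
        rw [ι_one, TensorProduct.tmul_zero, smul_zero]; exact zero_mem _⟩
    | mul a b _ _ iha ihb =>
      exact ⟨mul_mem iha.1 ihb.1, fun r => by
        rw [ι_mul iha.1 ihb.1, TensorProduct.tmul_add, smul_add]; exact add_mem (iha.2 r) (ihb.2 r)⟩
    | inv a _ iha =>
      exact ⟨inv_mem iha.1, fun r => by
        rw [ι_inv iha.1, TensorProduct.tmul_neg, smul_neg]; exact neg_mem (iha.2 r)⟩
    | mem x hx =>
      obtain ⟨h, hh, k, -, rfl⟩ := hx
      refine ⟨Subgroup.commutator_mem_commutator hh (Subgroup.mem_top k), fun r => ?_⟩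
      have hk : k ∈ γ G 0 := Subgroup.mem_top k
      have hh' : h ∈ γ G s := hh
      have hm := comm_mem (G := G) (s := s) (t := 0) (g := h) (h := k) hh' hk
      have hm' : ⁅h, k⁆ ∈ γ G (s + 1) := hm
      show N • (r ⊗ₜ[ℤ] ι (s + 1) ⁅h, k⁆ hm') ∈ W
      rw [ι_congr (i := s + 1) (j := s + 0 + 1) (g := ⁅h, k⁆) (h := ⁅h, k⁆) rfl rfl hm' hm,
        ← lie_ι hh' hk, ← mul_one r, ← LieAlgebra.ExtendScalars.bracket_tmul, hN,
        mul_add (m + 1) (s + 1), mul_one, pow_add, mul_smul, ← lie_nsmul, ← nsmul_lie]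
      refine AddSubgroup.iSup_induction _
        (C := fun x => ⁅x, (p ^ (m + 1)) • ((1 : Rp p) ⊗ₜ[ℤ] ι 0 k hk)⁆ ∈ W) (mem_Γ' m s h hh' r) ?_ ?_ ?_
      · intro i x hx
        refine AddSubgroup.iSup_induction _ (C := fun y => ⁅x, y⁆ ∈ W)
          (smul_mem_iSup_comp' hσ m _) ?_ ?_ ?_
        · intro j y hy
          rw [hW]
          exact AddSubgroup.mem_iSup_of_mem (i + j) (mem_br hx hy)
        · rw [lie_zero]; exact zero_mem _
        · intro a b ha hb; rw [lie_add]; exact add_mem ha hb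
      · rw [zero_lie]; exact zero_mem _
      · intro a b ha hb; rw [add_lie]; exact add_mem ha hb

/-- The bound of Higman, Kreknin and Kostrikin. -/
def hkkBound (p : ℕ) : ℕ := ∑ i ∈ Finset.range (2 ^ (p - 1) - 1), (p - 1) ^ i

/-- The exponent of the section below the bound. -/
def secExp (p n : ℕ) : ℕ := (n + 1 + 1) * (hkkBound p + 1)

include hG hσ hfix in
theorem pow_mem_γ_succ (g : G) (hg : g ∈ γ G (hkkBound p)) :
    g ^ (p ^ secExp p n) ∈ γ G (hkkBound p + 1) := by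
  have h1 := mem_Γ' hσ (n + 1) (hkkBound p) g hg 1
  have h2 : ⨆ d, Γ (comp' p σ (n + 1)) (hkkBound p) d = ⊥ := by
    rw [hkkBound, hkk (graded' hG hσ hfix)]; simp
  rw [h2, AddSubgroup.mem_bot, ← secExp] at h1
  obtain ⟨φ, hφ⟩ := exists_coord p
  have h3 := congrArg (fun t => TensorProduct.lid ℤ (Gr G) (LinearMap.rTensor (Gr G) φ t)) h1
  simp only [map_nsmul, LinearMap.rTensor_tmul, hφ, TensorProduct.lid_tmul, one_smul, map_zero] at h3
  have key : ∀ m : ℕ, m • ι (hkkBound p) g hg = ι (hkkBound p) (g ^ m) (pow_mem hg m) := fun m => by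
    induction m with
    | zero => rw [zero_smul]; exact ((ι_congr rfl (pow_zero g) _ (one_mem _)).trans (ι_one _)).symm
    | succ m ih =>
      rw [succ_nsmul, ih, ← ι_mul]
      exact ι_congr rfl (pow_succ g m).symm _ _
  rw [key, ι_eq_zero] at h3
  exact h3

end Cfsg.Agent.Solv.AlperinDL
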