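import Cfsg.Agent.Lib.Solv.AlperinPowerful
import Cfsg.Agent.Lib.Solv.AlperinLie

/-!
Alperin: the derived length of a `p`-group with an automorphism of order `p` with at most `p ^ n`
fixed points is bounded by a function of `p` and `n`.
-/

set_option autoImplicit false
set_option linter.style.haveILetI false
set_option linter.unusedSectionVars false

open scoped commutatorElement

namespace Cfsg.Agent.Solv.AlperinDL

/-- Degree of the permutation representations. -/
def permDeg (p n : ℕ) : ℕ := p ^ (2 * (p * n))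

variable {G : Type*} [Group G] [Finite G] {p : ℕ} [hp : Fact p.Prime] (n : ℕ)

/-- The intersection of the kernels of the permutation representations of bounded degree. -/
def smallKer (p : ℕ) (G : Type*) [Group G] (n : ℕ) : Subgroup G :=
  ⨅ φ : G →* Equiv.Perm (Fin (permDeg p n)), φ.ker

instance smallKer_normal (p : ℕ) (G : Type*) [Group G] (n : ℕ) : (smallKer p G n).Normal :=
  Subgroup.normal_iInf_normal fun φ => inferInstance

theorem le_ker_of_card_le {X : Type*} [Finite X] (hX : Nat.card X ≤ permDeg p n)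
    (φ : G →* Equiv.Perm X) : smallKer p G n ≤ φ.ker := by
  obtain ⟨e⟩ : Nonempty (X ↪ Fin (permDeg p n)) := by
    haveI := Fintype.ofFinite X
    exact Function.Embedding.nonempty_of_card_le (by
      rw [Fintype.card_fin, ← Nat.card_eq_fintype_card]; exact hX)
  refine (iInf_le _ ((Equiv.Perm.viaEmbeddingHom e).comp φ)).trans fun x hx => ?_
  exact Equiv.Perm.viaEmbeddingHom_injective e ((MonoidHom.mem_ker.1 hx).trans (map_one _).symm)

variable (P : Subgroup G) [hP : P.Normal] {a : G} (ha : a ^ p = 1)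
  (hfix : Nat.card ↥(P ⊓ Subgroup.centralizer {a}) ≤ p ^ n)

/-- A section of `P` has at most as many fixed points as `P`. -/
theorem card_fixed_section (H L : Subgroup G) [H.Normal] [hL : L.Normal] (hLH : L ≤ H) (hHP : H ≤ P)
    (hfix : Nat.card ↥(P ⊓ Subgroup.centralizer {a}) ≤ p ^ n)
    (f : G →* G ⧸ L) (hf : f.ker = L) (hs : Function.Surjective f) (hH : (H.map f).Normal) :
    Nat.card {y : H.map f // (MulAut.conjNormal (f a) : MulAut (H.map f)) y = y} ≤ p ^ n := by
  have _ := hH
  obtain ⟨C, hC⟩ : ∃ C : Subgroup G, C = H ⊓ (Subgroup.centralizer {f a}).comap f := ⟨_, rfl⟩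
  have hLC : L ≤ C := by
    rw [hC]
    refine le_inf hLH fun x hx => ?_
    rw [Subgroup.mem_comap, Subgroup.mem_centralizer_singleton_iff,
      (MonoidHom.mem_ker.1 (hf.ge hx) : f x = 1), one_mul, mul_one]
  have hS : ∀ s ∈ C, s⁻¹ * (MulAut.conj a) s ∈ L := by
    intro s hs
    rw [hC] at hs
    have h2 := Subgroup.mem_centralizer_singleton_iff.1 (Subgroup.mem_comap.1 hs.2)
    rw [← hf, MonoidHom.mem_ker, MulAut.conj_apply, map_mul, map_mul, map_mul, map_inv, map_inv,
      ← h2]
    group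
  have h1 := card_le_fixed_mul (MulAut.conj a) C L hS
  have h2 : Nat.card {s : C // (MulAut.conj a) (s : G) = s} ≤ p ^ n := by
    refine (Nat.card_le_card_of_injective
      (fun s : {s : C // (MulAut.conj a) (s : G) = s} =>
        (⟨(s.1 : G), ?_⟩ : ↥(P ⊓ Subgroup.centralizer {a}))) ?_).trans hfix
    · refine ⟨hHP (hC.le s.1.2).1, Subgroup.mem_centralizer_singleton_iff.2 ?_⟩
      have h := s.2
      rw [MulAut.conj_apply, mul_inv_eq_iff_eq_mul] at h
      exact h.symm
    · intro s t h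
      exact Subtype.ext (Subtype.ext (congrArg Subtype.val h :))
  have h3 := card_map_mul_card_inf_ker f C
  rw [hf, inf_eq_left.2 hLC] at h3
  have h4 : Nat.card (C.map f) ≤ p ^ n := by
    refine Nat.le_of_mul_le_mul_right ?_ (Nat.card_pos (α := L))
    rw [h3]
    exact h1.trans (Nat.mul_le_mul_right _ h2)
  refine (Nat.card_le_card_of_injective
    (fun y : {y : H.map f // (MulAut.conjNormal (f a) : MulAut (H.map f)) y = y} =>
      (⟨((y.1 : H.map f) : G ⧸ L), ?_⟩ : ↥(C.map f))) ?_).trans h4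
  · obtain ⟨x, hx, hxy⟩ := y.1.2
    refine ⟨x, ?_, hxy⟩
    show x ∈ C
    rw [hC]
    refine ⟨hx, Subgroup.mem_comap.2 (Subgroup.mem_centralizer_singleton_iff.2 ?_)⟩
    have h := congrArg Subtype.val y.2
    rw [MulAut.conjNormal_apply, mul_inv_eq_iff_eq_mul] at h
    rw [hxy]
    exact h.symm
  · intro s t h
    exact Subtype.ext (Subtype.ext (congrArg Subtype.val h :))

include ha hfix in
/-- An abelian section of exponent dividing `p * p`. -/
theorem card_section_le_sq (H L : Subgroup G) [hH : H.Normal] [L.Normal] (hLH : L ≤ H) (hHP : H ≤ P)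
    (f : G →* G ⧸ L) (hf : f.ker = L) (hs : Function.Surjective f)
    (hcomm : ∀ x ∈ H.map f, ∀ y ∈ H.map f, x * y = y * x)
    (hexp : ∀ x ∈ H.map f, x ^ (p * p) = 1) : Nat.card (H.map f) ≤ p ^ (2 * (p * n)) := by
  haveI hn := hH.map f hs
  letI : CommGroup (H.map f) :=
    { (inferInstance : Group (H.map f)) with
      mul_comm := fun x y => Subtype.ext (hcomm x x.2 y y.2) }
  refine card_le_of_exp_sq (p := p) (MulAut.conjNormal (f a) : MulAut (H.map f)) ?_ n
    (card_fixed_section n P H L hLH hHP hfix f hf hs hn) fun v => Subtype.ext ?_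
  · rw [← map_pow, ← map_pow, ha, map_one, map_one]
  · rw [Subgroup.coe_pow, hexp v v.2]; rfl

include ha hfix in
/-- An abelian section of exponent dividing `p`. -/
theorem card_section_le (H L : Subgroup G) [hH : H.Normal] [L.Normal] (hLH : L ≤ H) (hHP : H ≤ P)
    (f : G →* G ⧸ L) (hf : f.ker = L) (hs : Function.Surjective f)
    (hcomm : ∀ x ∈ H.map f, ∀ y ∈ H.map f, x * y = y * x)
    (hexp : ∀ x ∈ H.map f, x ^ p = 1) : Nat.card (H.map f) ≤ p ^ (p * n) := by
  haveI hn := hH.map f hs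
  letI : CommGroup (H.map f) :=
    { (inferInstance : Group (H.map f)) with
      mul_comm := fun x y => Subtype.ext (hcomm x x.2 y y.2) }
  refine le_trans ?_ (card_omega_le (p := p) (MulAut.conjNormal (f a) : MulAut (H.map f)) ?_ n
    (card_fixed_section n P H L hLH hHP hfix f hf hs hn))
  · refine Nat.card_le_card_of_injective (fun v => ⟨v, ?_⟩) fun v w h => congrArg Subtype.val h
    exact Subtype.ext (by
      show (((v : H.map f) ^ p : H.map f) : G ⧸ L) = 1
      rw [Subgroup.coe_pow, hexp v v.2])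
  · rw [← map_pow, ← map_pow, ha, map_one, map_one]

variable (hG : IsPGroup p G)

include ha hfix hG in
/-- Every normal subgroup inside the small kernel is powerfully embedded in it. -/
theorem powerful_embedded : ∀ N : Subgroup G, N.Normal → N ≤ P ⊓ smallKer p G n →
    ⁅N, P ⊓ smallKer p G n⁆ ≤ pw (qexp p) N := by
  obtain ⟨V, hV⟩ : ∃ V, V = P ⊓ smallKer p G n := ⟨_, rfl⟩
  rw [← hV]
  have hVn : V.Normal := hV ▸ Subgroup.normal_inf_normal _ _
  intro N
  induction hN : Nat.card N using Nat.strong_induction_on generalizing N with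
  | _ c ih =>
  intro hNn hNV
  haveI : Group.IsNilpotent G := hG.isNilpotent
  by_contra hne
  obtain ⟨Q, hQ⟩ : ∃ Q, Q = pw (qexp p) N := ⟨_, rfl⟩
  rw [← hQ] at hne
  haveI hQn : Q.Normal := hQ ▸ inferInstance
  obtain ⟨K, hK⟩ : ∃ K, K = ⁅N, V⁆ ⊔ Q := ⟨_, rfl⟩
  haveI hKn : K.Normal := hK ▸ Subgroup.sup_normal _ _
  obtain ⟨L, hL⟩ : ∃ L, L = ⁅K, (⊤ : Subgroup G)⁆ ⊔ Q := ⟨_, rfl⟩
  haveI hLn : L.Normal := hL ▸ Subgroup.sup_normal _ _
  have hQN : Q ≤ N := hQ ▸ pw_le_self _ _
  have hKN : K ≤ N := hK ▸ sup_le (Subgroup.commutator_le_left N V) hQN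
  have hKV : ¬ ⁅N, V⁆ ≤ L := fun h => hne (by
    have h1 : K ≤ Q := le_of_le_commutator_sup K Q (by
      rw [← hL, hK]; exact sup_le h (hL ▸ le_sup_right))
    exact (hK ▸ le_sup_left).trans h1)
  obtain ⟨M0, hM0⟩ : ∃ M0, M0 = ⁅N, (⊤ : Subgroup G)⁆ ⊔ Q := ⟨_, rfl⟩
  have hM0N : M0 < N := by
    refine lt_of_le_of_ne (hM0 ▸ sup_le (Subgroup.commutator_le_left N _) hQN) fun h => hne ?_
    exact (Subgroup.commutator_le_left N V).trans
      (le_of_le_commutator_sup N Q (by rw [← hM0, h]))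
  obtain ⟨M, ⟨hM0M, hMN⟩, hmax⟩ := ({M : Subgroup G | M0 ≤ M ∧ M < N}).toFinite.exists_maximal
    ⟨M0, le_rfl, hM0N⟩
  have hMn : M.Normal := ⟨fun m hm g => by
    have h1 : ⁅g, m⁆ ∈ M := hM0M (hM0 ▸ Subgroup.mem_sup_left (by
      rw [← commutatorElement_inv m g]
      exact inv_mem (Subgroup.commutator_mem_commutator (hMN.le hm) (Subgroup.mem_top g))))
    have h2 := mul_mem h1 hm
    rwa [commutatorElement_def, show g * m * g⁻¹ * m⁻¹ * m = g * m * g⁻¹ by group] at h2⟩
  have hIH : ⁅M, V⁆ ≤ L := by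
    refine le_trans ?_ (hL ▸ le_sup_right : Q ≤ L)
    rw [hQ]
    exact (ih (Nat.card M) (hN ▸ card_lt_of_lt hMN) M rfl hMn (hMN.le.trans hNV)).trans
      (pw_mono hMN.le)
  obtain ⟨a0, ha0N, ha0M⟩ := SetLike.exists_of_lt hMN
  have hgen : M ⊔ Subgroup.zpowers a0 = N := by
    by_contra hh
    have h1 : M ⊔ Subgroup.zpowers a0 < N :=
      lt_of_le_of_ne (sup_le hMN.le ((Subgroup.zpowers_le).2 ha0N)) hh
    exact ha0M (hmax ⟨hM0M.trans le_sup_left, h1⟩ le_sup_left
      (Subgroup.mem_sup_right (Subgroup.mem_zpowers a0)))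
  have hLN : L ≤ N := hL ▸ sup_le ((Subgroup.commutator_le_left K _).trans hKN) hQN
  obtain ⟨f, hf, hs⟩ : ∃ f : G →* G ⧸ L, f.ker = L ∧ Function.Surjective f :=
    ⟨QuotientGroup.mk' L, QuotientGroup.ker_mk' L, QuotientGroup.mk'_surjective L⟩
  have hker : ∀ x : G, f x = 1 ↔ x ∈ L := fun x => by rw [← MonoidHom.mem_ker, hf]
  have hMc : ∀ m ∈ M, ∀ v ∈ V, Commute (f m) (f v) := fun m hm v hv => by
    refine commutatorElement_eq_one_iff_mul_comm.1 ?_
    rw [← map_commutatorElement, hker]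
    exact hIH (Subgroup.commutator_mem_commutator hm hv)
  have hab : ∀ x ∈ N.map f, ∀ y ∈ N.map f, x * y = y * x := by
    have h1 : N.map f ≤ Subgroup.centralizer {f a0} := by
      rw [← hgen, Subgroup.map_sup, sup_le_iff]
      constructor
      · rintro _ ⟨m, hm, rfl⟩
        exact Subgroup.mem_centralizer_singleton_iff.2 (hMc m hm a0 (hNV ha0N))
      · rw [MonoidHom.map_zpowers, Subgroup.zpowers_le, Subgroup.mem_centralizer_singleton_iff]
    have h2 : N.map f ≤ Subgroup.centralizer (N.map f : Set (G ⧸ L)) := by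
      conv_lhs => rw [← hgen]
      rw [Subgroup.map_sup, sup_le_iff]
      constructor
      · rintro _ ⟨m, hm, rfl⟩
        refine Subgroup.mem_centralizer_iff.2 ?_
        rintro _ ⟨y, hy, rfl⟩
        exact (hMc m hm y (hNV hy)).eq.symm
      · rw [MonoidHom.map_zpowers, Subgroup.zpowers_le, Subgroup.mem_centralizer_iff]
        exact fun y hy => Subgroup.mem_centralizer_singleton_iff.1 (h1 hy)
    exact fun x hx y hy => (Subgroup.mem_centralizer_iff.1 (h2 hx) y hy).symm
  have hexp : ∀ x ∈ N.map f, x ^ (p * p) = 1 := by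
    rintro _ ⟨x, hx, rfl⟩
    rw [← map_pow, hker]
    refine (hL ▸ le_sup_right : Q ≤ L) ?_
    rw [hQ]
    obtain ⟨d, hd⟩ := qexp_dvd (p := p)
    rw [hd, mul_comm, pow_mul]
    exact pow_mem_pw (pow_mem hx d)
  haveI hn : (N.map f).Normal := hNn.map f hs
  have hcard := card_section_le_sq n P ha hfix N L hLN (hNV.trans (hV.le.trans inf_le_left)) f hf hs hab hexp
  obtain ⟨φ, hφ⟩ : ∃ φ : G →* Equiv.Perm (N.map f), ∀ g y, φ g y = MulAut.conjNormal (f g) y :=
    ⟨(MulAut.toPerm _).comp (MulAut.conjNormal.comp f), fun g y => rfl⟩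
  refine hKV (Subgroup.commutator_le.2 fun x hx v hv => ?_)
  have h1 : v ∈ φ.ker := le_ker_of_card_le n hcard φ (hV.le hv).2
  have h2 := congrArg (fun e : Equiv.Perm (N.map f) => ((e ⟨f x, ⟨x, hx, rfl⟩⟩ : N.map f) : G ⧸ L))
    (MonoidHom.mem_ker.1 h1)
  simp only [hφ, MulAut.conjNormal_apply, Equiv.Perm.coe_one, id_eq] at h2
  rw [← hker, map_commutatorElement, commutatorElement_eq_one_iff_mul_comm]
  exact (mul_inv_eq_iff_eq_mul.1 h2).symm

/-- The bound for the derived length of a `p`-group. -/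
noncomputable def pBound (p n : ℕ) : ℕ :=
  Nat.card (Equiv.Perm (Fin (permDeg p n))) + 1 + hkkBound p +
    p ^ (p * n * ((hkkBound p + 2) * secExp p n))

include ha hfix hG in
theorem derived_bot (hGP : commutator G ≤ P) : derivedSeries G (pBound p n) = ⊥ := by
  obtain ⟨V, hV⟩ : ∃ V, V = P ⊓ smallKer p G n := ⟨_, rfl⟩
  haveI hVn : V.Normal := hV ▸ Subgroup.normal_inf_normal _ _
  have hPE : ∀ N : Subgroup G, N.Normal → N ≤ V → ⁅N, V⁆ ≤ pw (qexp p) N := by
    rw [hV]; exact powerful_embedded n P ha hfix hG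
  have hVP : V ≤ P := hV ▸ inf_le_left
  haveI : Group.IsNilpotent G := hG.isNilpotent
  have hsol : Group.IsSolvable G := inferInstance
  obtain ⟨c, hc⟩ : ∃ c, c = secExp p n := ⟨_, rfl⟩
  obtain ⟨h, hh⟩ : ∃ h, h = hkkBound p := ⟨_, rfl⟩
  -- the bound on the order of a term annihilated by iterated powers
  have hsize : ∀ (i : ℕ) (N : Subgroup G), N.Normal → N ≤ V → A p i N = ⊥ →
      Nat.card N ≤ p ^ (p * n * i) := by
    intro i
    induction i with
    | zero => intro N _ _ hN; rw [A_zero] at hN; simp [hN]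
    | succ i ih =>
      intro N hNn hNV hN
      rw [A_succ'] at hN
      have h1 := ih (pw p N) inferInstance ((pw_le_self p N).trans hNV) hN
      obtain ⟨f, hf, hs⟩ : ∃ f : G →* G ⧸ pw p N, f.ker = pw p N ∧ Function.Surjective f :=
        ⟨QuotientGroup.mk' _, QuotientGroup.ker_mk' _, QuotientGroup.mk'_surjective _⟩
      have h2 : Nat.card (N.map f) ≤ p ^ (p * n) := by
        refine card_section_le n P ha hfix N (pw p N) (pw_le_self p N) (hNV.trans hVP) f hf hs ?_ ?_
        · rintro _ ⟨x, hx, rfl⟩ _ ⟨y, hy, rfl⟩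
          refine commutatorElement_eq_one_iff_mul_comm.1 ?_
          rw [← map_commutatorElement, ← MonoidHom.mem_ker, hf]
          exact commutator_le_pw V hPE hNn hNV (Subgroup.commutator_mem_commutator hx (hNV hy))
        · rintro _ ⟨x, hx, rfl⟩
          rw [← map_pow, ← MonoidHom.mem_ker, hf]
          exact pow_mem_pw hx
      have h3 := card_map_mul_card_inf_ker f N
      rw [hf, inf_eq_left.2 (pw_le_self p N)] at h3
      rw [← h3, Nat.mul_succ, pow_add, mul_comm (p ^ (p * n * i))]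
      exact Nat.mul_le_mul h2 h1
  -- the Lie ring bound for `H`
  obtain ⟨H, hH⟩ : ∃ H, H = A p c V := ⟨_, rfl⟩
  haveI hHn : H.Normal := hH ▸ A_normal p V c
  have hHP : H ≤ P := (hH ▸ A_le p V c).trans hVP
  have hlie : ∀ z ∈ H.lowerCentralSeries h, z ^ p ^ c ∈ H.lowerCentralSeries (h + 1) := by
    intro z hz
    rw [← Subgroup.top_subtype_lowerCentralSeries] at hz ⊢
    obtain ⟨g, hg, rfl⟩ := hz
    refine ⟨g ^ p ^ c, ?_, map_pow _ _ _⟩
    rw [hc, hh]
    subst hh
    refine pow_mem_γ_succ (G := H) (hG.to_subgroup H) (σ := MulAut.conjNormal a)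
      (by rw [← map_pow, ha, map_one]) ?_ g hg
    refine (Nat.card_le_card_of_injective
      (fun s : {g : H // MulAut.conjNormal a g = g} =>
        (⟨((s.1 : H) : G), ?_⟩ : ↥(P ⊓ Subgroup.centralizer {a}))) ?_).trans hfix
    · refine ⟨hHP s.1.2, Subgroup.mem_centralizer_singleton_iff.2 ?_⟩
      have h1 := congrArg Subtype.val s.2
      rw [MulAut.conjNormal_apply, mul_inv_eq_iff_eq_mul] at h1
      exact h1.symm
    · intro s t hst
      exact Subtype.ext (Subtype.ext (congrArg Subtype.val hst :))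
  obtain ⟨X, hX⟩ : ∃ X, X = V.lowerCentralSeries h := ⟨_, rfl⟩
  haveI hXn : X.Normal := hX ▸ inferInstance
  have hXV : X ≤ V := hX ▸ V.lowerCentralSeries_antitone (Nat.zero_le h)
  have hT : A p ((h + 2) * c) X = ⊥ := by
    refine eq_bot_of_pw_eq hG ?_
    have e : (h + 2) * c = c + (h + 1) * c := by ring
    have h1 : A p ((h + 2) * c) X ≤ A p c (H.lowerCentralSeries h) := by
      rw [e, A_add, hH, hX]
      exact A_mono (A_le_lcs V hPE hG c h) c
    have h2 : A p c (H.lowerCentralSeries h) ≤ H.lowerCentralSeries (h + 1) := by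
      refine A_le_of_pow_mem c hlie fun x hx y hy => ?_
      rw [Subgroup.lowerCentralSeries_succ]
      exact Subgroup.commutator_mem_commutator hx (H.lowerCentralSeries_antitone (Nat.zero_le h) hy)
    have h3 : H.lowerCentralSeries (h + 1) ≤ A p ((h + 2) * c) (V.lowerCentralSeries (h + 1)) := by
      rw [hH]; exact lcs_A_le V hPE c (h + 1)
    refine (h1.trans (h2.trans h3)).trans ?_
    rw [← A_succ, A_succ']
    refine A_mono ?_ _
    rw [Subgroup.lowerCentralSeries_succ, ← hX]
    exact commutator_le_pw V hPE hXn hXV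
  -- the derived series reaches `X`
  obtain ⟨K0, hK0⟩ : ∃ K0, K0 = Nat.card (Equiv.Perm (Fin (permDeg p n))) + 1 := ⟨_, rfl⟩
  have hD : ∀ k, derivedSeries G (K0 + k) ≤ V.lowerCentralSeries k := by
    intro k
    induction k with
    | zero =>
      rw [add_zero, Subgroup.lowerCentralSeries_zero, hV]
      refine le_inf ((derivedSeries_antitone G (by omega : 1 ≤ K0)).trans ?_) (le_iInf fun φ => ?_)
      · rw [derivedSeries_one]; exact hGP
      · exact (derivedSeries_antitone G (by omega : _ ≤ K0)).trans (derived_le_ker hsol φ)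
    | succ k ih =>
      rw [← add_assoc, derivedSeries_succ, Subgroup.lowerCentralSeries_succ]
      exact Subgroup.commutator_mono ih (ih.trans (V.lowerCentralSeries_antitone (Nat.zero_le k)))
  have hfin := derived_bot_of_card hsol (K0 + h) (p ^ (p * n * ((h + 2) * c)))
    ((Subgroup.card_le_of_le ((hD h).trans hX.ge)).trans (hsize _ X hXn hXV hT))
  rw [hK0, hh, hc] at hfin
  exact hfin

end Cfsg.Agent.Solv.AlperinDL
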