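import Cfsg.Agent.Lib.Solv.LCS
import Cfsg.Agent.Lib.Solv.Basic
import Cfsg.Agent.Lib.Solv.AlperinFixed

/-!
A calculus of powers and commutators inside a normal subgroup `V` of a finite `p`-group in which
every normal subgroup `N` satisfies `[N, V] ≤ N ^ p` (`≤ N ^ 4` for `p = 2`).
-/

set_option autoImplicit false
set_option linter.style.haveILetI false
set_option linter.unusedSectionVars false

open scoped commutatorElement

namespace Cfsg.Agent.Solv.AlperinDL

variable {G : Type*} [Group G]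

/-- The subgroup generated by the `k`-th powers. -/
def pw (k : ℕ) (H : Subgroup G) : Subgroup G := Subgroup.closure ((fun x => x ^ k) '' (H : Set G))

theorem pow_mem_pw {k : ℕ} {H : Subgroup G} {x : G} (hx : x ∈ H) : x ^ k ∈ pw k H :=
  Subgroup.subset_closure ⟨x, hx, rfl⟩

theorem pw_le {k : ℕ} {H K : Subgroup G} (h : ∀ x ∈ H, x ^ k ∈ K) : pw k H ≤ K :=
  (Subgroup.closure_le _).2 fun _ ⟨x, hx, e⟩ => e ▸ h x hx

theorem pw_le_self (k : ℕ) (H : Subgroup G) : pw k H ≤ H := pw_le fun _ hx => pow_mem hx k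

theorem pw_mono {k : ℕ} {H K : Subgroup G} (h : H ≤ K) : pw k H ≤ pw k K :=
  pw_le fun _ hx => pow_mem_pw (h hx)

theorem pw_le_pw_of_dvd {j k : ℕ} (h : j ∣ k) (H : Subgroup G) : pw k H ≤ pw j H := by
  obtain ⟨d, rfl⟩ := h
  refine pw_le fun x hx => ?_
  rw [mul_comm, pow_mul]
  exact pow_mem_pw (pow_mem hx d)

theorem map_pw {Q : Type*} [Group Q] (f : G →* Q) (k : ℕ) (H : Subgroup G) :
    (pw k H).map f = pw k (H.map f) := by
  rw [pw, pw, MonoidHom.map_closure, ← Set.image_comp, Subgroup.coe_map, ← Set.image_comp]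
  congr 2
  funext x
  exact map_pow f x k

theorem map_conj_eq {H : Subgroup G} [hH : H.Normal] (g : G) :
    H.map (MulAut.conj g).toMonoidHom = H := by
  refine le_antisymm ?_ fun x hx => ⟨g⁻¹ * x * g, ?_, ?_⟩
  · rintro _ ⟨x, hx, rfl⟩
    exact hH.conj_mem x hx g
  · simpa using hH.conj_mem x hx g⁻¹
  · show g * (g⁻¹ * x * g) * g⁻¹ = x
    group

instance pw_normal (k : ℕ) (H : Subgroup G) [H.Normal] : (pw k H).Normal := by
  refine ⟨fun x hx g => ?_⟩
  have h1 := Subgroup.mem_map_of_mem (MulAut.conj g).toMonoidHom hx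
  rw [map_pw, map_conj_eq] at h1
  exact h1

/-- Iterated powers. -/
def A (p i : ℕ) (H : Subgroup G) : Subgroup G := (pw p)^[i] H

theorem A_zero (p : ℕ) (H : Subgroup G) : A p 0 H = H := rfl

theorem A_succ (p i : ℕ) (H : Subgroup G) : A p (i + 1) H = pw p (A p i H) :=
  Function.iterate_succ_apply' _ _ _

theorem A_succ' (p i : ℕ) (H : Subgroup G) : A p (i + 1) H = A p i (pw p H) :=
  Function.iterate_succ_apply _ _ _

theorem A_add (p i j : ℕ) (H : Subgroup G) : A p (i + j) H = A p i (A p j H) :=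
  Function.iterate_add_apply _ _ _ _

theorem A_mono {p : ℕ} {H K : Subgroup G} (h : H ≤ K) : ∀ i, A p i H ≤ A p i K
  | 0 => h
  | i + 1 => by rw [A_succ, A_succ]; exact pw_mono (A_mono h i)

theorem A_le (p : ℕ) (H : Subgroup G) : ∀ i, A p i H ≤ H
  | 0 => le_rfl
  | i + 1 => by rw [A_succ]; exact (pw_le_self _ _).trans (A_le p H i)

theorem A_normal (p : ℕ) (H : Subgroup G) [H.Normal] : ∀ i, (A p i H).Normal
  | 0 => by rw [A_zero]; infer_instance
  | i + 1 => by rw [A_succ]; haveI := A_normal p H i; infer_instance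

theorem le_of_le_commutator_sup [Group.IsNilpotent G] (K Q : Subgroup G) [hKn : K.Normal] [Q.Normal]
    (h : K ≤ ⁅K, (⊤ : Subgroup G)⁆ ⊔ Q) : K ≤ Q := by
  obtain ⟨f, hf, hs⟩ : ∃ f : G →* G ⧸ Q, f.ker = Q ∧ Function.Surjective f :=
    ⟨QuotientGroup.mk' Q, QuotientGroup.ker_mk' Q, QuotientGroup.mk'_surjective Q⟩
  haveI : (K.map f).Normal := hKn.map f hs
  by_contra hne
  have hb : K.map f ≠ ⊥ := by rwa [Ne, Subgroup.map_eq_bot_iff, hf]
  haveI : Group.IsNilpotent (G ⧸ Q) := Group.nilpotent_of_surjective f hs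
  refine (commutator_top_lt (K.map f) hb).not_ge ?_
  have h1 := Subgroup.map_mono (f := f) h
  rwa [Subgroup.map_sup, Subgroup.map_commutator, Subgroup.map_top_of_surjective f hs,
    (Subgroup.map_eq_bot_iff Q (f := f)).2 hf.ge, sup_bot_eq] at h1

variable [Finite G] {p : ℕ} [hp : Fact p.Prime]

theorem eq_bot_of_pw_eq (hG : IsPGroup p G) {H : Subgroup G} (h : H ≤ pw p H) : H = ⊥ := by
  by_contra hb
  haveI : Group.IsNilpotent H := (hG.to_subgroup H).isNilpotent
  haveI : Nontrivial H := (Subgroup.nontrivial_iff_ne_bot H).2 hb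
  haveI : Group.IsSolvable H := inferInstance
  obtain ⟨M, hM, -⟩ : ∃ M : Subgroup H, IsCoatom M ∧ ⊥ ≤ M :=
    (eq_top_or_exists_le_coatom (⊥ : Subgroup H)).resolve_left bot_ne_top
  haveI : M.Normal :=
    Subgroup.NormalizerCondition.normal_of_coatom M Group.normalizerCondition_of_isNilpotent hM
  obtain ⟨k, hk⟩ := (hG.to_subgroup H).index M
  have hdvd : p ∣ Nat.card (H ⧸ M) := by
    rw [← Subgroup.index_eq_card, hk]
    exact dvd_pow_self p fun h0 => hM.1 (Subgroup.index_eq_one.1 (by rw [hk, h0, pow_zero]))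
  obtain ⟨xb, hxb⟩ := exists_prime_orderOf_dvd_card' p hdvd
  obtain ⟨x, rfl⟩ := QuotientGroup.mk'_surjective M xb
  have hgen : M ⊔ Subgroup.zpowers x = ⊤ := hM.2 _ (lt_of_le_of_ne le_sup_left fun e => by
    have hx : x ∈ M := e ▸ Subgroup.mem_sup_right (Subgroup.mem_zpowers x)
    rw [QuotientGroup.mk'_apply, (QuotientGroup.eq_one_iff x).2 hx, orderOf_one] at hxb
    exact hp.out.one_lt.ne hxb)
  have hexp : ∀ y : H ⧸ M, y ^ p = 1 := by
    intro y
    have htop : Subgroup.zpowers (QuotientGroup.mk' M x) = ⊤ := by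
      rw [← MonoidHom.map_zpowers]
      rw [← Subgroup.map_top_of_surjective _ (QuotientGroup.mk'_surjective M), ← hgen,
        Subgroup.map_sup, (Subgroup.map_eq_bot_iff M (f := QuotientGroup.mk' M)).2
          (QuotientGroup.ker_mk' M).ge, bot_sup_eq]
    obtain ⟨z, rfl⟩ := Subgroup.mem_zpowers_iff.1 (htop.ge (Subgroup.mem_top y))
    rw [← zpow_natCast, ← zpow_mul, mul_comm, zpow_mul, zpow_natCast, ← hxb, pow_orderOf_eq_one,
      one_zpow]
  refine hM.1 (top_le_iff.1 fun y _ => ?_)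
  have h1 : pw p H ≤ M.map H.subtype := pw_le fun z hz =>
    ⟨⟨z, hz⟩ ^ p, (QuotientGroup.eq_one_iff _).1 (by rw [QuotientGroup.mk_pow]; exact hexp _), rfl⟩
  obtain ⟨z, hz, hzy⟩ := h1 (h y.2)
  rwa [Subtype.ext hzy] at hz

/-- The exponent `p`, or `4` if `p = 2`. -/
def qexp (p : ℕ) : ℕ := if p = 2 then 4 else p

omit hp [Finite G] in
theorem dvd_qexp : p ∣ qexp p := by
  unfold qexp; split <;> rename_i h
  · subst h; exact ⟨2, rfl⟩
  · rfl

omit hp [Finite G] in
theorem qexp_dvd : qexp p ∣ p * p := by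
  unfold qexp; split <;> rename_i h
  · subst h; rfl
  · exact dvd_mul_right p p

omit [Finite G] in
theorem conj_pow_of_commute {a m x : G} (h1 : a * m * a⁻¹ = x * m) (h2 : Commute a x) :
    ∀ k : ℕ, a ^ k * m * (a ^ k)⁻¹ = x ^ k * m
  | 0 => by simp
  | k + 1 => by
    have ih := conj_pow_of_commute h1 h2 k
    calc a ^ (k + 1) * m * (a ^ (k + 1))⁻¹ = a * (a ^ k * m * (a ^ k)⁻¹) * a⁻¹ := by
          rw [pow_succ']; group
      _ = (a * x ^ k) * a⁻¹ * (a * m * a⁻¹) := by rw [ih]; group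
      _ = x ^ k * (x * m) := by rw [(h2.pow_right k).eq, h1]; group
      _ = x ^ (k + 1) * m := by rw [pow_succ]; group

omit [Finite G] in
theorem conj_pow_of_central {a m x z : G} (h1 : a * m * a⁻¹ = x * m) (h2 : a * x * a⁻¹ = z * x)
    (hza : Commute a z) (hzx : Commute x z) :
    ∀ k : ℕ, a ^ k * m * (a ^ k)⁻¹ = z ^ k.choose 2 * x ^ k * m
  | 0 => by simp
  | k + 1 => by
    have ih := conj_pow_of_central h1 h2 hza hzx k
    have h3 : ∀ j : ℕ, a * x ^ j * a⁻¹ = z ^ j * x ^ j := fun j => by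
      rw [← conj_pow, h2, hzx.symm.mul_pow]
    have hC : (k + 1).choose 2 = k.choose 2 + k := by
      rw [Nat.choose_succ_succ, Nat.choose_one_right, add_comm]
    calc a ^ (k + 1) * m * (a ^ (k + 1))⁻¹ = a * (a ^ k * m * (a ^ k)⁻¹) * a⁻¹ := by
          rw [pow_succ']; group
      _ = (a * z ^ k.choose 2) * a⁻¹ * (a * x ^ k * a⁻¹) * (a * m * a⁻¹) := by rw [ih]; group
      _ = z ^ k.choose 2 * (z ^ k * x ^ k) * (x * m) := by
        rw [(hza.pow_right _).eq, h3, h1]; group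
      _ = z ^ (k + 1).choose 2 * x ^ (k + 1) * m := by
        rw [hC, pow_add, pow_succ x k]; simp only [mul_assoc]

omit [Finite G] in
theorem mul_pow_of_central {g h z : G} (h1 : h * g * h⁻¹ = z * g) (hzg : Commute g z)
    (hzh : Commute h z) : ∀ k : ℕ, (g * h) ^ k = z ^ k.choose 2 * g ^ k * h ^ k
  | 0 => by simp
  | k + 1 => by
    have ih := mul_pow_of_central h1 hzg hzh k
    have hC : (k + 1).choose 2 = k.choose 2 + k := by
      rw [Nat.choose_succ_succ, Nat.choose_one_right, add_comm]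
    have h3 : ∀ j : ℕ, h ^ j * g * (h ^ j)⁻¹ = z ^ j * g := conj_pow_of_commute h1 hzh
    calc (g * h) ^ (k + 1) = z ^ k.choose 2 * g ^ k * h ^ k * (g * h) := by rw [pow_succ, ih]
      _ = z ^ k.choose 2 * g ^ k * (h ^ k * g * (h ^ k)⁻¹) * (h ^ k * h) := by group
      _ = z ^ k.choose 2 * (g ^ k * z ^ k) * g * (h ^ k * h) := by rw [h3]; group
      _ = z ^ (k + 1).choose 2 * g ^ (k + 1) * h ^ (k + 1) := by
        rw [((hzg.pow_pow k k)).eq, hC, pow_add, pow_succ g k, pow_succ h k]; simp only [mul_assoc]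

variable (V : Subgroup G) (hPE : ∀ N : Subgroup G, N.Normal → N ≤ V → ⁅N, V⁆ ≤ pw (qexp p) N)

include hPE in
theorem commutator_le_pw {N : Subgroup G} (hN : N.Normal) (hNV : N ≤ V) : ⁅N, V⁆ ≤ pw p N :=
  (hPE N hN hNV).trans (pw_le_pw_of_dvd dvd_qexp N)

include hPE in
theorem commutator_pw_le {N M : Subgroup G} [hN : N.Normal] [M.Normal] (hNV : N ≤ V) (hMV : M ≤ V) :
    ⁅pw p N, M⁆ ≤ pw p ⁅N, M⁆ := by
  obtain ⟨Z, hZ⟩ : ∃ Z, Z = pw p ⁅N, M⁆ := ⟨_, rfl⟩
  haveI : Z.Normal := hZ ▸ inferInstance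
  obtain ⟨f, hf, hs⟩ : ∃ f : G →* G ⧸ Z, f.ker = Z ∧ Function.Surjective f :=
    ⟨QuotientGroup.mk' Z, QuotientGroup.ker_mk' Z, QuotientGroup.mk'_surjective Z⟩
  rw [← hZ, ← hf, ← Subgroup.map_eq_bot_iff, Subgroup.map_commutator,
    Subgroup.commutator_eq_bot_iff_le_centralizer, map_pw]
  refine pw_le fun a' ha' => Subgroup.mem_centralizer_iff.2 fun m' hm' => ?_
  obtain ⟨a, ha, rfl⟩ := ha'
  obtain ⟨m, hm, rfl⟩ := hm'
  have hx : ⁅a, m⁆ ∈ ⁅N, M⁆ := Subgroup.commutator_mem_commutator ha hm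
  have h1 : f a * f m * (f a)⁻¹ = f ⁅a, m⁆ * f m := by
    simp only [commutatorElement_def, map_mul, map_inv]; group
  have h2 : Commute (f a) (f ⁅a, m⁆) := by
    have hc : ⁅⁅a, m⁆, a⁆ ∈ Z := by
      rw [hZ]
      exact commutator_le_pw V hPE inferInstance ((Subgroup.commutator_le_left N M).trans hNV)
        (Subgroup.commutator_mem_commutator hx (hNV ha))
    rw [← hf, MonoidHom.mem_ker, map_commutatorElement, commutatorElement_eq_one_iff_mul_comm] at hc
    exact hc.symm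
  have h3 : (f ⁅a, m⁆) ^ p = 1 := by
    rw [← map_pow, ← MonoidHom.mem_ker, hf, hZ]
    exact pow_mem_pw hx
  have h4 := conj_pow_of_commute h1 h2 p
  rw [h3, one_mul, mul_inv_eq_iff_eq_mul] at h4
  exact h4.symm

include hPE in
theorem pw_commutator_le (hG : IsPGroup p G) {N M : Subgroup G} [hN : N.Normal] [M.Normal]
    (hNV : N ≤ V) (hMV : M ≤ V) : pw p ⁅N, M⁆ ≤ ⁅pw p N, M⁆ := by
  obtain ⟨X, hX⟩ : ∃ X, X = ⁅N, M⁆ := ⟨_, rfl⟩
  obtain ⟨Y, hY⟩ : ∃ Y, Y = ⁅pw p N, M⁆ := ⟨_, rfl⟩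
  rw [← hX, ← hY]
  haveI hXn : X.Normal := hX ▸ inferInstance
  haveI hYn : Y.Normal := hY ▸ inferInstance
  have hXN : X ≤ N := hX ▸ Subgroup.commutator_le_left N M
  have hXV : X ≤ V := hXN.trans hNV
  -- the key step, modulo the squares of the powers
  have key : pw p X ≤ Y ⊔ pw p (pw p X) := by
    obtain ⟨Z, hZ⟩ : ∃ Z, Z = Y ⊔ pw p (pw p X) := ⟨_, rfl⟩
    haveI : Z.Normal := hZ ▸ Subgroup.sup_normal _ _
    obtain ⟨f, hf, hs⟩ : ∃ f : G →* G ⧸ Z, f.ker = Z ∧ Function.Surjective f :=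
      ⟨QuotientGroup.mk' Z, QuotientGroup.ker_mk' Z, QuotientGroup.mk'_surjective Z⟩
    have hker : ∀ x : G, f x = 1 ↔ x ∈ Z := fun x => by rw [← MonoidHom.mem_ker, hf]
    -- `[X, V]` is central modulo `Z`, of exponent `p`, and trivial for `p = 2`
    have hXW : ⁅X, V⁆ ≤ pw p X := commutator_le_pw V hPE hXn hXV
    have hexpW : ∀ w ∈ pw p X, f w ^ p = 1 := fun w hw => by
      rw [← map_pow, hker, hZ]; exact Subgroup.mem_sup_right (pow_mem_pw hw)
    have hcen : ∀ w ∈ pw p X, ∀ v ∈ V, Commute (f w) (f v) := fun w hw v hv => by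
      refine commutatorElement_eq_one_iff_mul_comm.1 ?_
      rw [← map_commutatorElement, hker, hZ]
      exact Subgroup.mem_sup_right (commutator_le_pw V hPE inferInstance
        ((pw_le_self p X).trans hXV) (Subgroup.commutator_mem_commutator hw hv))
    have hc2 : ∀ x ∈ X, ∀ v ∈ V, f ⁅v, x⁆ ^ p.choose 2 = 1 := fun x hx v hv => by
      have hz : ⁅v, x⁆ ∈ ⁅X, V⁆ := by
        rw [← commutatorElement_inv x v]
        exact inv_mem (Subgroup.commutator_mem_commutator hx hv)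
      rcases hp.out.eq_two_or_odd' with h2 | hodd
      · subst h2
        have h4 : pw (qexp 2) X ≤ pw 2 (pw 2 X) := pw_le fun y hy => by
          rw [show qexp 2 = 2 * 2 from rfl, pow_mul]; exact pow_mem_pw (pow_mem_pw hy)
        rw [(hker _).2 (hZ ▸ Subgroup.mem_sup_right (h4 (hPE X hXn hXV hz))), one_pow]
      · have hd : p ∣ p.choose 2 := hp.out.dvd_choose_self two_ne_zero (by
          rcases hodd with ⟨r, hr⟩; have := hp.out.two_le; omega)
        obtain ⟨d, hd⟩ := hd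
        rw [hd, pow_mul, hexpW _ (hXW hz), one_pow]
    have hgen : ∀ a ∈ N, ∀ m ∈ M, f ⁅a, m⁆ ^ p = 1 := by
      intro a ha m hm
      have hx : ⁅a, m⁆ ∈ X := hX ▸ Subgroup.commutator_mem_commutator ha hm
      have hzW : ⁅a, ⁅a, m⁆⁆ ∈ pw p X := hXW (by
        rw [← commutatorElement_inv ⁅a, m⁆ a]
        exact inv_mem (Subgroup.commutator_mem_commutator hx (hNV ha)))
      have h1 : f a * f m * (f a)⁻¹ = f ⁅a, m⁆ * f m := by
        simp only [commutatorElement_def, map_mul, map_inv]; group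
      have h2 : f a * f ⁅a, m⁆ * (f a)⁻¹ = f ⁅a, ⁅a, m⁆⁆ * f ⁅a, m⁆ := by
        simp only [commutatorElement_def, map_mul, map_inv]; group
      have h3 := conj_pow_of_central h1 h2 (hcen _ hzW a (hNV ha)).symm
        (hcen _ hzW _ (hXV hx)).symm p
      rw [hc2 _ hx _ (hNV ha), one_mul] at h3
      have h5 : f (a ^ p) * f m * (f (a ^ p))⁻¹ = f m := by
        rw [mul_inv_eq_iff_eq_mul]
        refine commutatorElement_eq_one_iff_mul_comm.1 ?_
        rw [← map_commutatorElement, hker, hZ, hY]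
        exact Subgroup.mem_sup_left (Subgroup.commutator_mem_commutator (pow_mem_pw ha) hm)
      rw [map_pow, h3] at h5
      exact mul_eq_right.1 h5
    have hmul : ∀ g ∈ X, ∀ h ∈ X, f g ^ p = 1 → f h ^ p = 1 → f (g * h) ^ p = 1 := by
      intro g hg h hh hg1 hh1
      have hzW : ⁅h, g⁆ ∈ pw p X := hXW (Subgroup.commutator_mem_commutator hh (hXV hg))
      have h1 : f h * f g * (f h)⁻¹ = f ⁅h, g⁆ * f g := by
        simp only [commutatorElement_def, map_mul, map_inv]; group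
      rw [map_mul, mul_pow_of_central h1 (hcen _ hzW g (hXV hg)).symm (hcen _ hzW h (hXV hh)).symm,
        hc2 g hg h (hXV hh), hg1, hh1, one_mul, one_mul]
    obtain ⟨E, hE⟩ : ∃ E : Subgroup G, ∀ g, g ∈ E ↔ g ∈ X ∧ f g ^ p = 1 :=
      ⟨{ carrier := {g | g ∈ X ∧ f g ^ p = 1}
         one_mem' := ⟨one_mem _, by rw [map_one, one_pow]⟩
         mul_mem' := fun {g h} hg hh => ⟨mul_mem hg.1 hh.1, hmul g hg.1 h hh.1 hg.2 hh.2⟩
         inv_mem' := fun {g} hg => ⟨inv_mem hg.1, by rw [map_inv, inv_pow, hg.2, inv_one]⟩ },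
        fun g => Iff.rfl⟩
    have hXE : X ≤ E := by
      rw [hX]
      exact Subgroup.commutator_le.2 fun a ha m hm =>
        (hE _).2 ⟨hX ▸ Subgroup.commutator_mem_commutator ha hm, hgen a ha m hm⟩
    rw [← hZ]
    exact pw_le fun g hg => (hker _).1 (by rw [map_pow]; exact ((hE g).1 (hXE hg)).2)
  obtain ⟨f, hf, hs⟩ : ∃ f : G →* G ⧸ Y, f.ker = Y ∧ Function.Surjective f :=
    ⟨QuotientGroup.mk' Y, QuotientGroup.ker_mk' Y, QuotientGroup.mk'_surjective Y⟩
  have h1 := Subgroup.map_mono (f := f) key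
  rw [Subgroup.map_sup, (Subgroup.map_eq_bot_iff Y (f := f)).2 hf.ge, bot_sup_eq,
    map_pw f p (pw p X)] at h1
  have h2 := eq_bot_of_pw_eq (hG.of_surjective f hs) h1
  rw [Subgroup.map_eq_bot_iff, hf] at h2
  exact h2

include hPE in
theorem commutator_A_le {N M : Subgroup G} [N.Normal] [M.Normal] (hNV : N ≤ V) (hMV : M ≤ V) :
    ∀ i, ⁅A p i N, M⁆ ≤ A p i ⁅N, M⁆
  | 0 => le_rfl
  | i + 1 => by
    haveI := A_normal p N i
    rw [A_succ, A_succ]
    exact (commutator_pw_le V hPE ((A_le p N i).trans hNV) hMV).trans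
      (pw_mono (commutator_A_le hNV hMV i))

include hPE in
theorem A_commutator_le (hG : IsPGroup p G) {N M : Subgroup G} [N.Normal] [M.Normal] (hNV : N ≤ V)
    (hMV : M ≤ V) : ∀ i, A p i ⁅N, M⁆ ≤ ⁅A p i N, M⁆
  | 0 => le_rfl
  | i + 1 => by
    haveI := A_normal p N i
    rw [A_succ, A_succ]
    exact (pw_mono (A_commutator_le hG hNV hMV i)).trans
      (pw_commutator_le V hPE hG ((A_le p N i).trans hNV) hMV)

include hPE in
theorem commutator_A_A_le {N M : Subgroup G} [N.Normal] [M.Normal] (hNV : N ≤ V) (hMV : M ≤ V)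
    (i j : ℕ) : ⁅A p i N, A p j M⁆ ≤ A p (i + j) ⁅N, M⁆ := by
  haveI := A_normal p M j
  refine (commutator_A_le V hPE hNV ((A_le p M j).trans hMV) i).trans ?_
  rw [A_add, Subgroup.commutator_comm N, Subgroup.commutator_comm N M]
  exact A_mono (commutator_A_le V hPE hMV hNV j) i

include hPE in
theorem A_A_commutator_le (hG : IsPGroup p G) {N M : Subgroup G} [N.Normal] [M.Normal]
    (hNV : N ≤ V) (hMV : M ≤ V) (i j : ℕ) :
    A p (i + j) ⁅N, M⁆ ≤ ⁅A p i N, A p j M⁆ := by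
  haveI := A_normal p M j
  refine le_trans ?_ (A_commutator_le V hPE hG hNV ((A_le p M j).trans hMV) i)
  rw [A_add, Subgroup.commutator_comm N, Subgroup.commutator_comm N (A p j M)]
  exact A_mono (A_commutator_le V hPE hG hMV hNV j) i

include hPE in
theorem lcs_A_le [hV : V.Normal] (c : ℕ) : ∀ k, (A p c V).lowerCentralSeries k ≤ A p ((k + 1) * c) (V.lowerCentralSeries k)
  | 0 => by rw [Nat.zero_add, one_mul]; exact le_rfl
  | k + 1 => by
    rw [Subgroup.lowerCentralSeries_succ, Subgroup.lowerCentralSeries_succ]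
    refine (Subgroup.commutator_mono (lcs_A_le c k) le_rfl).trans ?_
    rw [show (k + 1 + 1) * c = (k + 1) * c + c by ring]
    exact commutator_A_A_le V hPE (V.lowerCentralSeries_antitone (Nat.zero_le k)) le_rfl _ _

include hPE in
theorem A_le_lcs [hV : V.Normal] (hG : IsPGroup p G) (c : ℕ) :
    ∀ k, A p ((k + 1) * c) (V.lowerCentralSeries k) ≤ (A p c V).lowerCentralSeries k
  | 0 => by rw [Nat.zero_add, one_mul]; exact le_rfl
  | k + 1 => by
    rw [Subgroup.lowerCentralSeries_succ, Subgroup.lowerCentralSeries_succ,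
      show (k + 1 + 1) * c = (k + 1) * c + c by ring]
    exact (A_A_commutator_le V hPE hG (V.lowerCentralSeries_antitone (Nat.zero_le k)) le_rfl _ _).trans
      (Subgroup.commutator_mono (A_le_lcs hG c k) le_rfl)

theorem A_le_of_pow_mem {Z T : Subgroup G} [T.Normal] :
    ∀ c, (∀ z ∈ Z, z ^ p ^ c ∈ T) → (∀ a ∈ Z, ∀ b ∈ Z, ⁅a, b⁆ ∈ T) → A p c Z ≤ T := by
  intro c
  induction c generalizing Z with
  | zero => exact fun h _ z hz => by simpa using h z hz
  | succ c ih =>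
    intro h hcomm
    rw [A_succ']
    refine ih ?_ fun a ha b hb => hcomm a (pw_le_self p Z ha) b (pw_le_self p Z hb)
    intro z hz
    suffices hz' : z ∈ Z ∧ z ^ p ^ c ∈ T from hz'.2
    have hpow : ∀ a ∈ Z, ∀ b ∈ Z, a ^ p ^ c ∈ T → b ^ p ^ c ∈ T → (a * b) ^ p ^ c ∈ T := by
      intro a ha b hb ha1 hb1
      rw [← QuotientGroup.eq_one_iff, QuotientGroup.mk_pow] at ha1 hb1 ⊢
      rw [QuotientGroup.mk_mul]
      have hc : Commute (a : G ⧸ T) (b : G ⧸ T) := by
        refine commutatorElement_eq_one_iff_mul_comm.1 ?_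
        have h1 := map_commutatorElement (QuotientGroup.mk' T) a b
        rw [QuotientGroup.mk'_apply, (QuotientGroup.eq_one_iff _).2 (hcomm a ha b hb)] at h1
        exact h1.symm
      rw [hc.mul_pow, ha1, hb1, one_mul]
    induction hz using Subgroup.closure_induction with
    | mem x hx =>
      obtain ⟨y, hy, rfl⟩ := hx
      refine ⟨pow_mem hy p, ?_⟩
      show (y ^ p) ^ p ^ c ∈ T
      rw [← pow_mul, ← pow_succ']
      exact h y hy
    | one => exact ⟨one_mem _, by rw [one_pow]; exact one_mem _⟩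
    | mul x y _ _ hx hy => exact ⟨mul_mem hx.1 hy.1, hpow x hx.1 y hy.1 hx.2 hy.2⟩
    | inv x _ hx => exact ⟨inv_mem hx.1, by rw [inv_pow]; exact inv_mem hx.2⟩

end Cfsg.Agent.Solv.AlperinDL
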