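import Mathlib

set_option linter.style.haveILetI false

/-!
Commutators of normal subgroups with terms of the lower central series, and the bound
`p ^ n ≤ |γ_i N : γ_{i+1} N|` for `N ≤ γ_n G`.
-/

namespace Cfsg.Agent.Solv

open Subgroup
open scoped commutatorElement

variable {G : Type*} [Group G]

/-- Three subgroups lemma modulo a normal subgroup. -/
theorem commutator_commutator_le_of_rotate (H₁ H₂ H₃ N : Subgroup G) [N.Normal]
    (h1 : ⁅⁅H₂, H₃⁆, H₁⁆ ≤ N) (h2 : ⁅⁅H₃, H₁⁆, H₂⁆ ≤ N) : ⁅⁅H₁, H₂⁆, H₃⁆ ≤ N := by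
  have key : ∀ K : Subgroup G, K ≤ N ↔ K.map (QuotientGroup.mk' N) = ⊥ := fun K => by
    rw [Subgroup.map_eq_bot_iff, QuotientGroup.ker_mk']
  rw [key, Subgroup.map_commutator, Subgroup.map_commutator] at h1 h2 ⊢
  exact Subgroup.commutator_commutator_eq_bot_of_rotate h1 h2

/-- `iterComm D k` is `[D, G, …, G]` with `k` copies of `G`. -/
def iterComm (D : Subgroup G) : ℕ → Subgroup G
  | 0 => D
  | k + 1 => ⁅iterComm D k, ⊤⁆

theorem iterComm_succ' (D : Subgroup G) (k : ℕ) :
    iterComm ⁅D, (⊤ : Subgroup G)⁆ k = iterComm D (k + 1) := by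
  induction k with
  | zero => rfl
  | succ k ih => show ⁅_, _⁆ = ⁅_, _⁆; rw [ih]

theorem iterComm_normal (D : Subgroup G) [D.Normal] (k : ℕ) : (iterComm D k).Normal := by
  induction k with
  | zero => exact ‹_›
  | succ k ih => exact Subgroup.commutator_normal _ _

theorem iterComm_le_lcs (D : Subgroup G) (k : ℕ) :
    iterComm D k ≤ (⊤ : Subgroup G).lowerCentralSeries k := by
  induction k with
  | zero => exact le_top
  | succ k ih => exact Subgroup.commutator_mono ih le_rfl

theorem commutator_lcs_le_iterComm (j : ℕ) : ∀ (D : Subgroup G) [D.Normal],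
    ⁅D, (⊤ : Subgroup G).lowerCentralSeries j⁆ ≤ iterComm D (j + 1) := by
  induction j with
  | zero => intro D _; exact le_rfl
  | succ j ih =>
    intro D hD
    haveI := iterComm_normal D (j + 1 + 1)
    rw [Subgroup.lowerCentralSeries_succ, Subgroup.commutator_comm]
    apply commutator_commutator_le_of_rotate
    · rw [Subgroup.commutator_comm ⊤ D, ← iterComm_succ' D (j + 1)]
      exact ih _
    · exact Subgroup.commutator_mono (ih D) le_rfl

theorem commutator_top_lt [Group.IsNilpotent G] (A : Subgroup G) [A.Normal] (hA : A ≠ ⊥) :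
    ⁅A, (⊤ : Subgroup G)⁆ < A := by
  refine lt_of_le_of_ne (Subgroup.commutator_le_left _ _) fun h => hA ?_
  obtain ⟨m, hm⟩ := Subgroup.nilpotent_iff_lowerCentralSeries.1 ‹Group.IsNilpotent G›
  have : ∀ k, iterComm A k = A := by
    intro k
    induction k with
    | zero => rfl
    | succ k ih => show ⁅_, _⁆ = _; rw [ih, h]
  rw [eq_bot_iff, ← hm, ← this m]
  exact iterComm_le_lcs A m

theorem iterComm_le_of_index [Finite G] {p : ℕ} [Fact p.Prime] (hG : IsPGroup p G)
    (A B : Subgroup G) [A.Normal] [B.Normal] (hAB : A ≤ B) (r : ℕ)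
    (h : A.relIndex B < p ^ (r + 1)) : iterComm B r ≤ A := by
  haveI : Group.IsNilpotent G := hG.isNilpotent
  obtain ⟨m, hm⟩ := Subgroup.nilpotent_iff_lowerCentralSeries.1 ‹Group.IsNilpotent G›
  by_contra hne
  let E : ℕ → Subgroup G := fun k => iterComm B k ⊔ A
  have hanti : ∀ k, iterComm B (k + 1) ≤ iterComm B k := fun k => by
    haveI := iterComm_normal B k
    exact Subgroup.commutator_le_left _ _
  have hEle : ∀ k, E (k + 1) ≤ E k := fun k => sup_le_sup_right (hanti k) _
  -- a stationary term lies in A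
  have hstat : ∀ k, E (k + 1) = E k → E k ≤ A := by
    intro k hk
    have hall : ∀ j, iterComm B k ≤ iterComm B (k + j) ⊔ A := by
      intro j
      induction j with
      | zero => exact le_sup_left
      | succ j ih =>
        have h1 : iterComm B k ≤ iterComm B (k + 1) ⊔ A := by
          have : iterComm B k ≤ E k := le_sup_left
          rwa [← hk] at this
        refine h1.trans (sup_le ?_ le_sup_right)
        haveI := iterComm_normal B (k + j + 1)
        haveI : (iterComm B (k + j + 1) ⊔ A).Normal := Subgroup.sup_normal _ _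
        calc iterComm B (k + 1) = ⁅iterComm B k, ⊤⁆ := rfl
          _ ≤ ⁅iterComm B (k + j) ⊔ A, ⊤⁆ := Subgroup.commutator_mono ih le_rfl
          _ ≤ iterComm B (k + j + 1) ⊔ A := by
              rw [Subgroup.commutator_le]
              intro x hx y _
              haveI := iterComm_normal B (k + j)
              obtain ⟨u, hu, v, hv, rfl⟩ := Subgroup.mem_sup_of_normal_left.1 hx
              have e : ⁅u * v, y⁆ = u * ⁅v, y⁆ * u⁻¹ * ⁅u, y⁆ := by
                simp only [commutatorElement_def]; group
              rw [e]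
              refine mul_mem (Subgroup.Normal.conj_mem inferInstance _ ?_ _) ?_
              · exact (le_sup_right : A ≤ _)
                  (Subgroup.commutator_le_left A ⊤ (Subgroup.commutator_mem_commutator hv (Subgroup.mem_top y)))
              · exact (le_sup_left : iterComm B (k + j + 1) ≤ _)
                  (Subgroup.commutator_mem_commutator hu (Subgroup.mem_top y))
    refine sup_le ((hall m).trans (sup_le ?_ le_rfl)) le_rfl
    refine le_trans (le_trans (iterComm_le_lcs B (k + m)) ?_) bot_le
    rw [← hm]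
    exact Subgroup.lowerCentralSeries_antitone _ (Nat.le_add_left m k)
  have hrec : ∀ k, k ≤ r + 1 → p ^ k * Nat.card ↥(E k) ≤ Nat.card ↥B := by
    intro k
    induction k with
    | zero =>
      intro _
      simp only [pow_zero, one_mul]
      exact Subgroup.card_le_of_le (sup_le le_rfl hAB)
    | succ k ih =>
      intro hk
      have hlt : E (k + 1) < E k := by
        refine lt_of_le_of_ne (hEle k) fun hcon => hne ?_
        have hmono : ∀ j, iterComm B (k + j) ≤ iterComm B k := by
          intro j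
          induction j with
          | zero => exact le_rfl
          | succ j ihj => exact (hanti (k + j)).trans ihj
        obtain ⟨j, rfl⟩ := Nat.exists_eq_add_of_le (Nat.le_of_succ_le_succ hk)
        exact (hmono j).trans (le_sup_left.trans (hstat k hcon))
      obtain ⟨a, ha⟩ := (hG.to_subgroup (E k)).exists_card_eq
      obtain ⟨b, hb⟩ := (hG.to_subgroup (E (k + 1))).exists_card_eq
      have hcard : Nat.card ↥(E (k + 1)) < Nat.card ↥(E k) := by
        rcases lt_or_ge (Nat.card ↥(E (k + 1))) (Nat.card ↥(E k)) with h' | h'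
        · exact h'
        · exact absurd (Subgroup.eq_of_le_of_card_ge hlt.le h') hlt.ne
      have : p * Nat.card ↥(E (k + 1)) ≤ Nat.card ↥(E k) := by
        rw [ha, hb] at *
        have hba : b < a := (Nat.pow_lt_pow_iff_right (Fact.out : p.Prime).one_lt).1 hcard
        rw [← pow_succ']
        exact Nat.pow_le_pow_right (Fact.out : p.Prime).pos hba
      calc p ^ (k + 1) * Nat.card ↥(E (k + 1))
          = p ^ k * (p * Nat.card ↥(E (k + 1))) := by ring
        _ ≤ p ^ k * Nat.card ↥(E k) := Nat.mul_le_mul_left _ this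
        _ ≤ Nat.card ↥B := ih (Nat.le_of_succ_le hk)
  have h1 := hrec (r + 1) le_rfl
  have h2 : Nat.card ↥A ≤ Nat.card ↥(E (r + 1)) := Subgroup.card_le_of_le le_sup_right
  have h3 : A.relIndex B * Nat.card ↥A = Nat.card ↥B := by
    rw [mul_comm, ← Subgroup.relIndex_bot_left, Subgroup.relIndex_mul_relIndex _ _ _ bot_le hAB,
      Subgroup.relIndex_bot_left]
  have h4 : p ^ (r + 1) * Nat.card ↥A ≤ A.relIndex B * Nat.card ↥A := by
    rw [h3]; exact le_trans (Nat.mul_le_mul_left _ h2) h1
  exact absurd (Nat.le_of_mul_le_mul_right h4 Nat.card_pos) (not_le.2 h)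

/-- If `N ≤ γ_n G` is normal in a `p`-group `G`, `B` is normal and `[B, N]` is nontrivial, then
`|B : [B, N]| ≥ p ^ n` (indices shifted: `N ≤ lowerCentralSeries (n-1)`). -/
theorem pow_le_relIndex_commutator [Finite G] {p : ℕ} [Fact p.Prime] (hG : IsPGroup p G)
    (n : ℕ) (N B : Subgroup G) [N.Normal] [B.Normal]
    (hN : N ≤ (⊤ : Subgroup G).lowerCentralSeries n) (hne : ⁅B, N⁆ ≠ ⊥) :
    p ^ (n + 1) ≤ (⁅B, N⁆).relIndex B := by
  by_contra hlt
  push Not at hlt
  haveI : Group.IsNilpotent G := hG.isNilpotent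
  haveI : (⁅B, N⁆).Normal := Subgroup.commutator_normal _ _
  have h1 : iterComm B n ≤ ⁅B, N⁆ :=
    iterComm_le_of_index hG _ B (Subgroup.commutator_le_left _ _) n hlt
  have h2 : ⁅B, N⁆ ≤ ⁅⁅B, N⁆, (⊤ : Subgroup G)⁆ :=
    calc ⁅B, N⁆ ≤ ⁅B, (⊤ : Subgroup G).lowerCentralSeries n⁆ :=
          Subgroup.commutator_mono le_rfl hN
      _ ≤ iterComm B (n + 1) := commutator_lcs_le_iterComm n B
      _ ≤ _ := Subgroup.commutator_mono h1 le_rfl
  exact absurd h2 (commutator_top_lt _ hne).not_ge

theorem lowerCentralSeries_normal' (N : Subgroup G) [N.Normal] (i : ℕ) :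
    (N.lowerCentralSeries i).Normal := by
  induction i with
  | zero => exact ‹_›
  | succ i ih => exact Subgroup.commutator_normal _ _

end Cfsg.Agent.Solv
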