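import Mathlib
import Cfsg.Agent.Lib.Solv.LCS

set_option linter.style.haveILetI false

/-!
Lower bounds for `|D : D'|` for a normal subgroup `D ≤ γ_m G` of a `p`-group, and the resulting
bound for the order of a `p`-group of given derived length (Hall, Mann).
-/

namespace Cfsg.Agent.Solv

open Subgroup
open scoped commutatorElement

variable {G : Type*} [Group G]

theorem iterComm_lcs (a k : ℕ) :
    iterComm ((⊤ : Subgroup G).lowerCentralSeries a) k =
      (⊤ : Subgroup G).lowerCentralSeries (a + k) := by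
  induction k with
  | zero => rfl
  | succ k ih => show ⁅_, _⁆ = ⁅_, _⁆; rw [ih]; rfl

theorem commutator_lcs_le (a b : ℕ) :
    ⁅(⊤ : Subgroup G).lowerCentralSeries a, (⊤ : Subgroup G).lowerCentralSeries b⁆ ≤
      (⊤ : Subgroup G).lowerCentralSeries (a + b + 1) := by
  refine (commutator_lcs_le_iterComm b _).trans ?_
  rw [iterComm_lcs]
  exact le_of_eq (by ring_nf)

/-- Commutators of a subgroup generated by `S ∪ L` modulo a normal subgroup. -/
theorem commutator_le_of_generators {S : Set G} {D L K : Subgroup G} [K.Normal]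
    (hD : D ≤ closure S ⊔ L) (hSS : ∀ s ∈ S, ∀ t ∈ S, ⁅s, t⁆ ∈ K)
    (hSL : ∀ s ∈ S, ∀ l ∈ L, ⁅s, l⁆ ∈ K) (hLL : ∀ s ∈ L, ∀ l ∈ L, ⁅s, l⁆ ∈ K) :
    ⁅D, D⁆ ≤ K := by
  set T : Set G := S ∪ (L : Set G) with hT
  have hD' : D ≤ closure T := by
    rw [hT, Subgroup.closure_union, Subgroup.closure_eq]; exact hD
  refine (Subgroup.commutator_mono hD' hD').trans ?_
  have hcomm : ∀ s ∈ T, ∀ t ∈ T, ⁅s, t⁆ ∈ K := by
    rintro s (hs | hs) t (ht | ht)
    · exact hSS s hs t ht
    · exact hSL s hs t ht
    · rw [← commutatorElement_inv]; exact K.inv_mem (hSL t ht s hs)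
    · exact hLL s hs t ht
  rw [← QuotientGroup.ker_mk' K, ← Subgroup.map_eq_bot_iff, Subgroup.map_commutator,
    MonoidHom.map_closure, Subgroup.commutator_eq_bot_iff_le_centralizer,
    Subgroup.centralizer_closure, Subgroup.closure_le]
  rintro _ ⟨s, hs, rfl⟩
  rw [SetLike.mem_coe, Subgroup.mem_centralizer_iff]
  rintro _ ⟨t, ht, rfl⟩
  rw [← commutatorElement_eq_one_iff_mul_comm, ← map_commutatorElement]
  exact (QuotientGroup.eq_one_iff _).2 (hcomm t ht s hs)

theorem zpowers_sup_lcs_normal {j : ℕ} {c : G}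
    (hc : c ∈ (⊤ : Subgroup G).lowerCentralSeries j) :
    (zpowers c ⊔ (⊤ : Subgroup G).lowerCentralSeries (j + 1)).Normal := by
  refine ⟨fun x hx g => ?_⟩
  have h1 : g * x * g⁻¹ = ⁅g, x⁆ * x := by simp only [commutatorElement_def]; group
  rw [h1]
  refine mul_mem (Subgroup.mem_sup_right ?_) hx
  have hxj : x ∈ (⊤ : Subgroup G).lowerCentralSeries j := by
    refine (sup_le ?_ ?_ : _ ≤ (⊤ : Subgroup G).lowerCentralSeries j) hx
    · exact (Subgroup.zpowers_le).2 hc
    · exact Subgroup.lowerCentralSeries_antitone _ (Nat.le_succ j)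
  rw [Subgroup.lowerCentralSeries_succ, Subgroup.commutator_comm]
  exact Subgroup.commutator_mem_commutator (Subgroup.mem_top g) hxj

theorem card_mul_pow_le_of_lt [Finite G] {p : ℕ} [Fact p.Prime] (hG : IsPGroup p G)
    {A B : Subgroup G} (h : A < B) : p * Nat.card ↥A ≤ Nat.card ↥B := by
  obtain ⟨a, ha⟩ := (hG.to_subgroup A).exists_card_eq
  obtain ⟨b, hb⟩ := (hG.to_subgroup B).exists_card_eq
  have hlt : Nat.card ↥A < Nat.card ↥B := by
    rcases lt_or_ge (Nat.card ↥A) (Nat.card ↥B) with h' | h'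
    · exact h'
    · exact absurd (Subgroup.eq_of_le_of_card_ge h.le h') h.ne
  rw [ha, hb] at hlt ⊢
  rw [← pow_succ']
  exact Nat.pow_le_pow_right (Fact.out : p.Prime).pos
    ((Nat.pow_lt_pow_iff_right (Fact.out : p.Prime).one_lt).1 hlt)

/-- If `D ≤ γ_{m+1} G` is normal and nonabelian then `|D : D'| ≥ p ^ (m + 2)`, and in case of
equality `D'' ≤ γ_{4m+5} G`. -/
theorem derived_index_bound [Finite G] {p : ℕ} [Fact p.Prime] (hG : IsPGroup p G) (m : ℕ)
    (D : Subgroup G) [D.Normal] (hD : D ≤ (⊤ : Subgroup G).lowerCentralSeries m)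
    (hne : ⁅D, D⁆ ≠ ⊥) :
    p ^ (m + 2) * Nat.card ↥⁅D, D⁆ ≤ Nat.card ↥D ∧
      (Nat.card ↥D < p ^ (m + 3) * Nat.card ↥⁅D, D⁆ →
        ⁅⁅D, D⁆, ⁅D, D⁆⁆ ≤ (⊤ : Subgroup G).lowerCentralSeries (4 * m + 4)) := by
  haveI : Group.IsNilpotent G := hG.isNilpotent
  have hp : p.Prime := Fact.out
  set D1 := ⁅D, (⊤ : Subgroup G)⁆ with hD1def
  haveI hD1n : D1.Normal := Subgroup.commutator_normal _ _
  have hDD : ⁅D, D⁆ ≤ D1 := Subgroup.commutator_mono le_rfl le_top
  have hDbot : D ≠ ⊥ := fun h => hne (eq_bot_iff.2 ((Subgroup.commutator_le_left D D).trans h.le))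
  have hD1lt : D1 < D := commutator_top_lt D hDbot
  have hD1 : D1 ≤ (⊤ : Subgroup G).lowerCentralSeries (m + 1) :=
    Subgroup.commutator_mono hD le_rfl
  have hDD1 : ⁅D, D1⁆ ≤ (⊤ : Subgroup G).lowerCentralSeries (2 * m + 2) := by
    refine (Subgroup.commutator_mono hD hD1).trans ((commutator_lcs_le _ _).trans ?_)
    exact le_of_eq (by ring_nf)
  have hDDlcs : ⁅D, D⁆ ≤ (⊤ : Subgroup G).lowerCentralSeries (2 * m + 1) := by
    refine (Subgroup.commutator_mono hD hD).trans ((commutator_lcs_le _ _).trans ?_)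
    exact le_of_eq (by ring_nf)
  obtain ⟨x, hxD, hxD1⟩ := SetLike.exists_of_lt hD1lt
  set X1 := closure {x} ⊔ D1 with hX1
  have hX1D : X1 ≤ D :=
    sup_le ((Subgroup.closure_le _).2 (by simpa using hxD)) hD1lt.le
  have hX1lt : D1 < X1 :=
    lt_of_le_of_ne le_sup_right fun h => hxD1 (by
      rw [h]; exact Subgroup.mem_sup_left (Subgroup.subset_closure rfl))
  have h2m : ⁅(⊤ : Subgroup G).lowerCentralSeries (2 * m + 1),
      (⊤ : Subgroup G).lowerCentralSeries (2 * m + 2)⁆ ≤
        (⊤ : Subgroup G).lowerCentralSeries (4 * m + 4) :=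
    (commutator_lcs_le _ _).trans (le_of_eq (by ring_nf))
  rcases hX1D.lt_or_eq with hlt | heq
  · -- `|D : [D, G]| ≥ p ^ 2`
    obtain ⟨y, hyD, hyX⟩ := SetLike.exists_of_lt hlt
    set X2 := closure {x, y} ⊔ D1 with hX2
    have hX2D : X2 ≤ D := sup_le ((Subgroup.closure_le _).2 (by
      intro z hz
      rcases hz with rfl | rfl
      · exact hxD
      · exact hyD)) hD1lt.le
    have hX12 : X1 < X2 := by
      refine lt_of_le_of_ne (sup_le_sup_right (Subgroup.closure_mono (by simp)) _) fun h => hyX ?_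
      rw [h]
      exact Subgroup.mem_sup_left (Subgroup.subset_closure (by simp))
    have hc : p ^ 2 * Nat.card ↥D1 ≤ Nat.card ↥X2 := by
      calc p ^ 2 * Nat.card ↥D1 = p * (p * Nat.card ↥D1) := by ring
        _ ≤ p * Nat.card ↥X1 := Nat.mul_le_mul_left _ (card_mul_pow_le_of_lt hG hX1lt)
        _ ≤ _ := card_mul_pow_le_of_lt hG hX12
    have hX2card : Nat.card ↥X2 ≤ Nat.card ↥D := Subgroup.card_le_of_le hX2D
    have hidx : p ^ m * Nat.card ↥⁅D, D⁆ ≤ Nat.card ↥D1 := by
      have h3 : (⁅D, D⁆).relIndex D1 * Nat.card ↥⁅D, D⁆ = Nat.card ↥D1 := by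
        rw [mul_comm, ← Subgroup.relIndex_bot_left,
          Subgroup.relIndex_mul_relIndex _ _ _ bot_le hDD, Subgroup.relIndex_bot_left]
      rw [← h3]
      refine Nat.mul_le_mul_right _ ?_
      by_contra hsm
      push Not at hsm
      obtain _ | m' := m
      · rw [pow_zero, Nat.lt_one_iff] at hsm
        rw [hsm, zero_mul] at h3
        exact absurd h3.symm Nat.card_pos.ne'
      · haveI : (⁅D, D⁆).Normal := Subgroup.commutator_normal _ _
        have hit := iterComm_le_of_index hG ⁅D, D⁆ D1 hDD m' hsm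
        rw [hD1def, iterComm_succ'] at hit
        have h4 : ⁅D, D⁆ ≤ ⁅⁅D, D⁆, (⊤ : Subgroup G)⁆ :=
          calc ⁅D, D⁆ ≤ ⁅D, (⊤ : Subgroup G).lowerCentralSeries (m' + 1)⁆ :=
                Subgroup.commutator_mono le_rfl hD
            _ ≤ iterComm D (m' + 1 + 1) := commutator_lcs_le_iterComm _ D
            _ ≤ _ := Subgroup.commutator_mono hit le_rfl
        exact absurd h4 (commutator_top_lt _ hne).not_ge
    refine ⟨?_, fun hsmall => ?_⟩
    · calc p ^ (m + 2) * Nat.card ↥⁅D, D⁆ = p ^ 2 * (p ^ m * Nat.card ↥⁅D, D⁆) := by ring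
        _ ≤ p ^ 2 * Nat.card ↥D1 := Nat.mul_le_mul_left _ hidx
        _ ≤ _ := hc.trans hX2card
    · have hX2eq : X2 = D := by
        by_contra hXne
        have h5 := card_mul_pow_le_of_lt hG (lt_of_le_of_ne hX2D hXne)
        have h6 : p ^ (m + 3) * Nat.card ↥⁅D, D⁆ ≤ Nat.card ↥D := by
          calc p ^ (m + 3) * Nat.card ↥⁅D, D⁆ = p * (p ^ 2 * (p ^ m * Nat.card ↥⁅D, D⁆)) := by ring
            _ ≤ p * (p ^ 2 * Nat.card ↥D1) := Nat.mul_le_mul_left _ (Nat.mul_le_mul_left _ hidx)
            _ ≤ p * Nat.card ↥X2 := Nat.mul_le_mul_left _ hc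
            _ ≤ _ := h5
        exact absurd h6 (not_le.2 hsmall)
      have hcmem : ⁅x, y⁆ ∈ (⊤ : Subgroup G).lowerCentralSeries (2 * m + 1) :=
        hDDlcs (Subgroup.commutator_mem_commutator hxD hyD)
      haveI hK : (zpowers ⁅x, y⁆ ⊔
          (⊤ : Subgroup G).lowerCentralSeries (2 * m + 2)).Normal := zpowers_sup_lcs_normal hcmem
      have hDK : ⁅D, D⁆ ≤ zpowers ⁅x, y⁆ ⊔ (⊤ : Subgroup G).lowerCentralSeries (2 * m + 2) := by
        refine commutator_le_of_generators (S := {x, y}) (L := D1) hX2eq.ge ?_ ?_ ?_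
        · intro s hs t ht
          simp only [Set.mem_insert_iff, Set.mem_singleton_iff] at hs ht
          rcases hs with hs | hs <;> rcases ht with ht | ht <;> rw [hs, ht]
          · rw [commutatorElement_self]; exact one_mem _
          · exact Subgroup.mem_sup_left (Subgroup.mem_zpowers _)
          · rw [← commutatorElement_inv x y]
            exact Subgroup.inv_mem _ (Subgroup.mem_sup_left (Subgroup.mem_zpowers _))
          · rw [commutatorElement_self]; exact one_mem _
        · intro s hs l hl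
          refine Subgroup.mem_sup_right (hDD1 (Subgroup.commutator_mem_commutator ?_ hl))
          rcases hs with rfl | rfl
          · exact hxD
          · exact hyD
        · intro s hs l hl
          exact Subgroup.mem_sup_right
            (hDD1 (Subgroup.commutator_mem_commutator (hD1lt.le hs) hl))
      refine commutator_le_of_generators (S := {⁅x, y⁆})
        (L := (⊤ : Subgroup G).lowerCentralSeries (2 * m + 2))
        (hDK.trans (sup_le_sup_right ?_ _)) ?_ ?_ ?_
      · rw [Subgroup.zpowers_eq_closure]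
      · rintro s rfl t rfl
        rw [commutatorElement_self]; exact one_mem _
      · rintro s rfl l hl
        exact h2m (Subgroup.commutator_mem_commutator hcmem hl)
      · intro s hs l hl
        exact h2m (Subgroup.commutator_mem_commutator
          (Subgroup.lowerCentralSeries_antitone _ (Nat.le_succ (2 * m + 1)) hs) hl)
  · -- `|D : [D, G]| = p`
    have hDeq : ⁅D, D⁆ ≤ ⁅D, D1⁆ := by
      haveI : (⁅D, D1⁆).Normal := Subgroup.commutator_normal _ _
      refine commutator_le_of_generators (S := {x}) (L := D1) heq.ge ?_ ?_ ?_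
      · rintro s rfl t rfl
        rw [commutatorElement_self]; exact one_mem _
      · rintro s rfl l hl
        exact Subgroup.commutator_mem_commutator hxD hl
      · intro s hs l hl
        exact Subgroup.commutator_mem_commutator (hD1lt.le hs) hl
    have hEq : ⁅D, D⁆ = ⁅D, D1⁆ :=
      le_antisymm hDeq (Subgroup.commutator_mono le_rfl hD1lt.le)
    refine ⟨?_, fun _ => ?_⟩
    · have h1 := pow_le_relIndex_commutator hG (m + 1) D1 D hD1 (hEq ▸ hne)
      rw [← hEq] at h1
      calc p ^ (m + 2) * Nat.card ↥⁅D, D⁆ ≤ (⁅D, D⁆).relIndex D * Nat.card ↥⁅D, D⁆ :=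
            Nat.mul_le_mul_right _ h1
        _ = Nat.card ↥D := by
          rw [mul_comm, ← Subgroup.relIndex_bot_left,
            Subgroup.relIndex_mul_relIndex _ _ _ bot_le (Subgroup.commutator_le_left D D),
            Subgroup.relIndex_bot_left]
    · have hL : ⁅D, D⁆ ≤ (⊤ : Subgroup G).lowerCentralSeries (2 * m + 2) := hEq.le.trans hDD1
      exact (Subgroup.commutator_mono hDDlcs hL).trans h2m

theorem derivedSeries_le_lcs' (j : ℕ) :
    derivedSeries G j ≤ (⊤ : Subgroup G).lowerCentralSeries (2 ^ j - 1) := by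
  induction j with
  | zero => simp
  | succ j ih =>
    rw [derivedSeries_succ]
    refine (Subgroup.commutator_mono ih ih).trans ((commutator_lcs_le _ _).trans (le_of_eq ?_))
    congr 1
    have := Nat.one_le_two_pow (n := j)
    rw [pow_succ]; omega

theorem derived_length_card_bound [Finite G] {p : ℕ} [Fact p.Prime] (hG : IsPGroup p G) (k : ℕ)
    (hk : derivedSeries G k ≠ ⊥) :
    p ^ (2 ^ k + 2 * k - 2) ≤ Nat.card G := by
  classical
  have hp : p.Prime := Fact.out
  haveI hn : ∀ j, (derivedSeries G j).Normal := fun j => derivedSeries_normal G j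
  have hne : ∀ j < k, ⁅derivedSeries G j, derivedSeries G j⁆ ≠ ⊥ := by
    intro j hj h
    refine hk (eq_bot_iff.2 ?_)
    rw [← h, ← derivedSeries_succ]
    exact derivedSeries_antitone G hj
  -- deep terms
  have hdeep : ∀ i j, i ≤ j → derivedSeries G i ≤ (⊤ : Subgroup G).lowerCentralSeries (2 ^ i) →
      derivedSeries G j ≤ (⊤ : Subgroup G).lowerCentralSeries (2 ^ j) := by
    intro i j hij hi
    induction hij with
    | refl => exact hi
    | step _ ih =>
      rename_i j' _
      rw [derivedSeries_succ]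
      refine (Subgroup.commutator_mono ih ih).trans ((commutator_lcs_le _ _).trans ?_)
      refine Subgroup.lowerCentralSeries_antitone _ ?_
      rw [pow_succ]; omega
  let good : ℕ → Prop := fun j =>
    p ^ (2 ^ j + 2) * Nat.card ↥(derivedSeries G (j + 1)) ≤ Nat.card ↥(derivedSeries G j)
  have hbase : ∀ j < k,
      p ^ (2 ^ j + 1) * Nat.card ↥(derivedSeries G (j + 1)) ≤ Nat.card ↥(derivedSeries G j) := by
    intro j hj
    have h := (derived_index_bound hG (2 ^ j - 1) _ (derivedSeries_le_lcs' j) (hne j hj)).1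
    have h1 := Nat.one_le_two_pow (n := j)
    rwa [show 2 ^ j - 1 + 2 = 2 ^ j + 1 by omega, ← derivedSeries_succ] at h
  have hbad : ∀ i j, i + 2 ≤ j → j < k → ¬ good i → good j := by
    intro i j hij hj hi
    have h1 := Nat.one_le_two_pow (n := i)
    have h2 := (derived_index_bound hG (2 ^ i - 1) _ (derivedSeries_le_lcs' i)
      (hne i (by omega))).2 (by
        rw [show 2 ^ i - 1 + 3 = 2 ^ i + 2 by omega, ← derivedSeries_succ]
        exact not_le.1 hi)
    rw [← derivedSeries_succ, ← derivedSeries_succ,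
      show 4 * (2 ^ i - 1) + 4 = 2 ^ (i + 1 + 1) by rw [pow_succ, pow_succ]; omega] at h2
    have h3 := (derived_index_bound hG (2 ^ j) _ (hdeep (i + 1 + 1) j (by omega) h2) (hne j hj)).1
    rwa [← derivedSeries_succ] at h3
  let e : ℕ → ℕ := fun j => if good j then 1 else 0
  have hprod : ∀ l ≤ k, p ^ (∑ j ∈ Finset.range l, (2 ^ j + 1 + e j)) *
      Nat.card ↥(derivedSeries G l) ≤ Nat.card G := by
    intro l
    induction l with
    | zero => intro _; simp
    | succ l ih =>
      intro hl
      have hstep : p ^ (2 ^ l + 1 + e l) * Nat.card ↥(derivedSeries G (l + 1)) ≤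
          Nat.card ↥(derivedSeries G l) := by
        by_cases hg : good l
        · simp only [e, if_pos hg]; exact hg
        · simp only [e, if_neg hg]; exact hbase l (by omega)
      rw [Finset.sum_range_succ, pow_add, mul_assoc]
      exact le_trans (Nat.mul_le_mul_left _ hstep) (ih (by omega))
  have hsum : k ≤ (∑ j ∈ Finset.range k, e j) + 2 := by
    have hcard : (∑ j ∈ Finset.range k, e j) = ((Finset.range k).filter good).card := by
      rw [Finset.card_filter]
    have hsplit : ((Finset.range k).filter good).card +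
        ((Finset.range k).filter fun j => ¬ good j).card = k := by
      rw [Finset.card_filter_add_card_filter_not, Finset.card_range]
    have hbadcard : ((Finset.range k).filter fun j => ¬ good j).card ≤ 2 := by
      set B := (Finset.range k).filter fun j => ¬ good j with hB
      rcases B.eq_empty_or_nonempty with h | h
      · simp [h]
      · obtain ⟨i, hi, hmin⟩ := B.exists_min_image id h
        have : B ⊆ {i, i + 1} := by
          intro j hj
          have hij : i ≤ j := hmin j hj
          simp only [Finset.mem_insert, Finset.mem_singleton]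
          by_contra hcon
          rw [hB, Finset.mem_filter, Finset.mem_range] at hi hj
          exact hj.2 (hbad i j (by omega) hj.1 hi.2)
        exact (Finset.card_le_card this).trans Finset.card_le_two
    omega
  have hfin : p * p ^ (∑ j ∈ Finset.range k, (2 ^ j + 1 + e j)) ≤ Nat.card G := by
    have h2 : p ≤ Nat.card ↥(derivedSeries G k) := by
      have := card_mul_pow_le_of_lt hG (bot_lt_iff_ne_bot.2 hk)
      simpa using this
    rw [mul_comm]
    exact le_trans (Nat.mul_le_mul_left _ h2) (hprod k le_rfl)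
  refine le_trans ?_ hfin
  rw [← pow_succ']
  refine Nat.pow_le_pow_right hp.pos ?_
  have hgeo : ∀ l, ∑ j ∈ Finset.range l, (2 ^ j + 1) + 1 = 2 ^ l + l := by
    intro l
    induction l with
    | zero => simp
    | succ l ih => rw [Finset.sum_range_succ, pow_succ]; omega
  rw [Finset.sum_add_distrib]
  have := hgeo k
  omega

end Cfsg.Agent.Solv
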