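import Mathlib

/-!
Lie rings graded by the integers modulo a prime `p` with trivial component of degree zero:
solvability of length `2 ^ (p - 1) - 1` (Kreknin) and the bound of Higman, Kreknin and Kostrikin on
the nilpotency class. Components are given as families of additive subgroups.
-/

set_option autoImplicit false
set_option linter.style.haveILetI false
set_option linter.unusedSectionVars false

namespace Cfsg.Agent.Solv.GradedLie

variable {M : Type*} [LieRing M] {p : ℕ}

/-- A family of homogeneous components. -/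
abbrev Fam (M : Type*) [LieRing M] (p : ℕ) := ZMod p → AddSubgroup M

/-- The family spanned by brackets. -/
def br (U V : Fam M p) : Fam M p := fun d =>
  AddSubgroup.closure {x | ∃ (i j : ZMod p) (u v : M), u ∈ U i ∧ v ∈ V j ∧ i + j = d ∧ x = ⁅u, v⁆}

theorem mem_br {U V : Fam M p} {i j : ZMod p} {u v : M} (hu : u ∈ U i) (hv : v ∈ V j) :
    ⁅u, v⁆ ∈ br U V (i + j) :=
  AddSubgroup.subset_closure ⟨i, j, u, v, hu, hv, rfl, rfl⟩

theorem br_le {U V W : Fam M p}
    (h : ∀ i j : ZMod p, ∀ u ∈ U i, ∀ v ∈ V j, ⁅u, v⁆ ∈ W (i + j)) : br U V ≤ W := fun d =>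
  (AddSubgroup.closure_le _).2 (by rintro _ ⟨i, j, u, v, hu, hv, rfl, rfl⟩; exact h i j u hu v hv)

theorem br_mono {U U' V V' : Fam M p} (hU : U ≤ U') (hV : V ≤ V') : br U V ≤ br U' V' :=
  br_le fun i j _ hu _ hv => mem_br (hU i hu) (hV j hv)

/-- Bracket with a fixed element on the right. -/
def rb (v : M) : M →+ M := AddMonoidHom.mk' (fun x => ⁅x, v⁆) fun a b => add_lie a b v

/-- Bracket with a fixed element on the left. -/
def lb (v : M) : M →+ M := AddMonoidHom.mk' (fun x => ⁅v, x⁆) fun a b => lie_add v a b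

theorem rb_closure {S : Set M} {v x : M} {W : AddSubgroup M} (h : ∀ s ∈ S, ⁅s, v⁆ ∈ W)
    (hx : x ∈ AddSubgroup.closure S) : ⁅x, v⁆ ∈ W :=
  ((AddSubgroup.closure_le (W.comap (rb v))).2 h : _) hx

theorem lb_closure {S : Set M} {v x : M} {W : AddSubgroup M} (h : ∀ s ∈ S, ⁅v, s⁆ ∈ W)
    (hx : x ∈ AddSubgroup.closure S) : ⁅v, x⁆ ∈ W :=
  ((AddSubgroup.closure_le (W.comap (lb v))).2 h : _) hx

theorem jacobi_left (u v w : M) : ⁅u, ⁅v, w⁆⁆ = ⁅⁅u, v⁆, w⁆ - ⁅⁅u, w⁆, v⁆ := by
  rw [leibniz_lie u v w, ← lie_skew v ⁅u, w⁆, sub_eq_add_neg]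

theorem jacobi_right (u v w : M) : ⁅⁅u, v⁆, w⁆ = ⁅⁅u, w⁆, v⁆ + ⁅u, ⁅v, w⁆⁆ := by
  rw [jacobi_left u v w]; abel

/-- A graded Lie ring without component of degree zero. -/
structure Graded (C : Fam M p) : Prop where
  closed : ∀ i j : ZMod p, ∀ u ∈ C i, ∀ v ∈ C j, ⁅u, v⁆ ∈ C (i + j)
  zero : C 0 = ⊥

/-- The derived series. -/
def D (C : Fam M p) : ℕ → Fam M p
  | 0 => C
  | r + 1 => br (D C r) (D C r)

/-- The lower central series, starting with index zero. -/
def Γ (C : Fam M p) : ℕ → Fam M p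
  | 0 => C
  | s + 1 => br (Γ C s) C

theorem D_add (C : Fam M p) (a : ℕ) : ∀ b, D C (b + a) = D (D C a) b
  | 0 => by rw [Nat.zero_add]; rfl
  | b + 1 => by rw [Nat.succ_add]; show br _ _ = br _ _; rw [D_add C a b]

theorem D_mono {C C' : Fam M p} (h : C ≤ C') : ∀ r, D C r ≤ D C' r
  | 0 => h
  | r + 1 => br_mono (D_mono h r) (D_mono h r)

variable {C : Fam M p} (hC : Graded C)
include hC

theorem D_le : ∀ r, D C r ≤ C
  | 0 => le_rfl
  | r + 1 => br_le fun i j u hu v hv => hC.closed i j u (D_le r i hu) v (D_le r j hv)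

theorem D_graded (r : ℕ) : Graded (D C r) := by
  refine ⟨?_, le_bot_iff.1 (hC.zero ▸ D_le hC r 0)⟩
  induction r with
  | zero => exact hC.closed
  | succ r ih =>
    intro i j u hu v hv
    exact mem_br (br_le ih i hu) (br_le ih j hv)

theorem Γ_le : ∀ s, Γ C s ≤ C
  | 0 => le_rfl
  | s + 1 => br_le fun i j u hu v hv => hC.closed i j u (Γ_le s i hu) v hv

theorem Γ_succ_le : ∀ s, Γ C (s + 1) ≤ Γ C s
  | 0 => br_le hC.closed
  | s + 1 => br_mono (Γ_succ_le s) le_rfl

theorem Γ_anti : Antitone (Γ C) := antitone_nat_of_succ_le (Γ_succ_le hC)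

theorem Γ_bracket : ∀ (t s : ℕ) (i j : ZMod p), ∀ u ∈ Γ C s i, ∀ v ∈ Γ C t j,
    ⁅u, v⁆ ∈ Γ C (s + t + 1) (i + j)
  | 0, _, _, _, _, hu, _, hv => mem_br hu hv
  | t + 1, s, i, j, u, hu, v, hv => by
    refine lb_closure ?_ hv
    rintro _ ⟨j1, j2, v1, v2, h1, h2, rfl, rfl⟩
    rw [jacobi_left]
    refine sub_mem ?_ ?_
    · rw [show s + (t + 1) + 1 = s + t + 1 + 1 by omega, ← add_assoc i j1 j2]
      exact (mem_br (Γ_bracket t s i j1 u hu v1 h1) h2 :)
    · rw [show s + (t + 1) + 1 = s + 1 + t + 1 by omega, show i + (j1 + j2) = i + j2 + j1 by abel]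
      exact Γ_bracket t (s + 1) (i + j2) j1 _ (mem_br hu h2) v1 h1

theorem D_ideal : ∀ (r : ℕ) (i j : ZMod p), ∀ u ∈ D C r i, ∀ v ∈ C j, ⁅u, v⁆ ∈ D C r (i + j)
  | 0, i, j, u, hu, v, hv => hC.closed i j u hu v hv
  | r + 1, i, j, u, hu, v, hv => by
    refine rb_closure ?_ hu
    rintro _ ⟨i1, i2, u1, u2, h1, h2, rfl, rfl⟩
    rw [jacobi_right]
    refine add_mem ?_ ?_
    · rw [show i1 + i2 + j = i1 + j + i2 by abel]
      exact mem_br (D_ideal r i1 j u1 h1 v hv) h2
    · rw [add_assoc]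
      exact mem_br h1 (D_ideal r i2 j u2 h2 v hv)

omit hC

/-! ### Kreknin -/

/-- Left-normed monomials in components of degree above `k`. -/
inductive Mono (k : ℕ) (C : Fam M p) : M → ZMod p → Prop
  | of {a : M} {d : ZMod p} (hd : k < d.val) (ha : a ∈ C d) : Mono k C a d
  | mul {w a : M} {e d : ZMod p} (hw : Mono k C w e) (hd : k < d.val) (ha : a ∈ C d) :
      Mono k C ⁅w, a⁆ (e + d)

/-- The subring generated by the components of degree above `k`. -/
def H (k : ℕ) (C : Fam M p) : Fam M p := fun d => AddSubgroup.closure {x | Mono k C x d}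

include hC

theorem Mono.mem {k : ℕ} {w : M} {e : ZMod p} (h : Mono k C w e) : w ∈ C e := by
  induction h with
  | of hd ha => exact ha
  | mul hw hd ha ih => exact hC.closed _ _ _ ih _ ha

theorem H_closed (k : ℕ) : ∀ i j : ZMod p, ∀ u ∈ H k C i, ∀ v ∈ H k C j, ⁅u, v⁆ ∈ H k C (i + j) := by
  have key : ∀ {a : M} {j : ZMod p}, Mono k C a j → ∀ {i : ZMod p} {u : M}, u ∈ H k C i →
      ⁅u, a⁆ ∈ H k C (i + j) := by
    intro a j ha
    induction ha with
    | @of a d hd ha =>
      intro i u hu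
      refine rb_closure (fun w hw => ?_) hu
      exact AddSubgroup.subset_closure (Mono.mul hw hd ha)
    | @mul w a e d hw hd ha ih =>
      intro i u hu
      rw [jacobi_left]
      refine sub_mem ?_ ?_
      · rw [← add_assoc]
        exact rb_closure (fun x hx => AddSubgroup.subset_closure (Mono.mul hx hd ha)) (ih hu)
      · rw [show i + (e + d) = i + d + e by abel]
        exact ih (rb_closure (fun x hx => AddSubgroup.subset_closure (Mono.mul hx hd ha)) hu)
  intro i j u hu v hv
  exact lb_closure (fun x hx => key hx hu) hv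

variable [Fact p.Prime]

theorem step {k : ℕ} (hk : k + 1 < p) {u : M} {i : ZMod p} (hu : Mono k C u i) :
    ∀ j : ZMod p, ∀ v ∈ C j, i + j = ((k + 1 : ℕ) : ZMod p) →
      ⁅u, v⁆ ∈ H (k + 1) C ((k + 1 : ℕ) : ZMod p) := by
  haveI : NeZero p := ⟨(Fact.out : p.Prime).ne_zero⟩
  obtain ⟨K, hK⟩ : ∃ K : ZMod p, K = ((k + 1 : ℕ) : ZMod p) := ⟨_, rfl⟩
  have hKv : K.val = k + 1 := by rw [hK, ZMod.val_natCast_of_lt hk]
  have hval : ∀ d j : ZMod p, k + 1 < d.val → d + j = K → k + 1 < j.val := by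
    intro d j hd hdj
    by_contra hle
    have h1 := ZMod.val_add d j
    rw [hdj, hKv] at h1
    rcases lt_or_ge (d.val + j.val) p with hlt | hge
    · rw [Nat.mod_eq_of_lt hlt] at h1; omega
    · rw [Nat.mod_eq_sub_mod hge, Nat.mod_eq_of_lt (by have := ZMod.val_lt d; omega)] at h1
      have := ZMod.val_lt d
      omega
  rw [← hK]
  induction hu with
  | @of a d hd ha =>
    intro j v hv hdj
    rcases (Nat.succ_le_of_lt hd).eq_or_lt with heq | hlt
    · have hdK : d = K := ZMod.val_injective p (by omega)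
      rw [hdK] at hdj
      have : v ∈ C 0 := by rwa [add_eq_left.1 hdj] at hv
      rw [hC.zero, AddSubgroup.mem_bot] at this
      rw [this, lie_zero]; exact zero_mem _
    · rw [← hdj]
      exact AddSubgroup.subset_closure (Mono.mul (Mono.of hlt ha) (hval d j hlt hdj) hv)
  | @mul w a e d hw hd ha ih =>
    intro j v hv hdj
    rw [jacobi_right]
    refine add_mem ?_ (ih (d + j) _ (hC.closed d j a ha v hv) (by rw [← hdj]; abel))
    have hwv := hC.closed e j w (hw.mem hC) v hv
    rcases (Nat.succ_le_of_lt hd).eq_or_lt with heq | hlt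
    · have hdK : d = K := ZMod.val_injective p (by omega)
      have h0 : e + j = 0 := add_eq_right.1 (show e + j + K = K by
        rw [← hdK]; rw [add_right_comm]; rw [hdK]; rw [hdK] at hdj; exact hdj)
      rw [h0, hC.zero, AddSubgroup.mem_bot] at hwv
      rw [hwv, zero_lie]; exact zero_mem _
    · have he : e + j + d = K := by rw [← hdj]; abel
      rw [← he]
      exact AddSubgroup.subset_closure
        (Mono.mul (Mono.of (hval d (e + j) hlt (by rw [← he]; abel)) hwv) hlt ha)

omit hC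

/-- Kreknin: the derived series reaches zero. -/
theorem kreknin_aux : ∀ (k : ℕ), k < p → ∀ (C : Fam M p), Graded C →
    ∀ d, D C (2 ^ k - 1) d ≤ H k C d := by
  haveI : NeZero p := ⟨(Fact.out : p.Prime).ne_zero⟩
  intro k
  induction k with
  | zero =>
    intro _ C hC d x hx
    rcases eq_or_ne d 0 with rfl | hd
    · have : x ∈ C 0 := hx
      rw [hC.zero, AddSubgroup.mem_bot] at this
      rw [this]; exact zero_mem _
    · exact AddSubgroup.subset_closure (Mono.of (Nat.pos_of_ne_zero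
        (fun h => hd ((ZMod.val_eq_zero d).1 h))) hx)
  | succ k ih =>
    intro hk C hC d
    obtain ⟨f, hf⟩ : ∃ f, f = 2 ^ k - 1 := ⟨_, rfl⟩
    have hexp : 2 ^ (k + 1) - 1 = f + (f + 1) := by
      have := Nat.one_le_two_pow (n := k)
      rw [hf, pow_succ]; omega
    rw [hexp, D_add]
    have h1 := ih (by omega) (D C (f + 1)) (D_graded hC _) d
    rw [← hf] at h1
    refine h1.trans ?_
    -- monomials in the deeper term lie in the subring generated in degrees above `k + 1`
    have hgen : ∀ (a : M) (d : ZMod p), k < d.val → a ∈ D C (f + 1) d → a ∈ H (k + 1) C d := by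
      intro a d hd ha
      rcases (Nat.succ_le_of_lt hd).eq_or_lt with heq | hlt
      · have hdK : d = ((k + 1 : ℕ) : ZMod p) :=
          ZMod.val_injective p (by rw [ZMod.val_natCast_of_lt hk]; omega)
        subst hdK
        refine (AddSubgroup.closure_le _).2 ?_ ha
        rintro _ ⟨i, j, u, v, hu, hv, hij, rfl⟩
        have h2 := ih (by omega) C hC i
        rw [← hf] at h2
        exact rb_closure (fun w hw => step hC hk hw j v (D_le hC f j hv) hij) (h2 hu)
      · exact AddSubgroup.subset_closure (Mono.of hlt (D_le hC _ d ha))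
    refine (AddSubgroup.closure_le _).2 fun x hx => ?_
    have hx' : Mono k (D C (f + 1)) x d := hx
    clear hx h1
    induction hx' with
    | of hd ha => exact hgen _ _ hd ha
    | mul hw hd ha ih' => exact H_closed hC (k + 1) _ _ _ ih' _ (hgen _ _ hd ha)

theorem kreknin (hC : Graded C) : D C (2 ^ (p - 1) - 1) = ⊥ := by
  haveI : NeZero p := ⟨(Fact.out : p.Prime).ne_zero⟩
  funext d
  refine le_bot_iff.1 ((kreknin_aux (p - 1) (Nat.sub_lt (NeZero.pos p) one_pos) C hC d).trans ?_)
  refine (AddSubgroup.closure_le _).2 fun x hx => ?_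
  have hx' : Mono (p - 1) C x d := hx
  cases hx' with
  | of hd ha => have := ZMod.val_lt d; omega
  | @mul w a e d hw hd ha => have := ZMod.val_lt d; omega

theorem zmod_three : ∀ a b c : ZMod 3, a = 0 ∨ b = 0 ∨ c = 0 ∨ a + b = 0 ∨ a + b + c = 0 ∨
    (a + c = 0 ∧ b + c = 0) := by decide

/-! ### Higman's reduction -/

/-- A word: letters with a weight and a degree. -/
abbrev Word (M : Type*) (p : ℕ) := List (M × ℕ × ZMod p)

/-- The value of a word applied to an element. -/
def val : M → Word M p → M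
  | a, [] => a
  | a, x :: l => val ⁅a, x.1⁆ l

/-- The weight of a word. -/
def wt (l : Word M p) : ℕ := (l.map fun x => x.2.1 + 1).sum

/-- The degree of a word. -/
def dg (l : Word M p) : ZMod p := (l.map fun x => x.2.2).sum

/-- All letters lie in the recorded terms. -/
def Ok (C : Fam M p) (l : Word M p) : Prop := ∀ x ∈ l, x.1 ∈ Γ C x.2.1 x.2.2

omit [Fact p.Prime] in
theorem val_add (a b : M) : ∀ l : Word M p, val (a + b) l = val a l + val b l := by
  intro l
  induction l generalizing a b with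
  | nil => rfl
  | cons x l ih => show val ⁅a + b, x.1⁆ l = _; rw [add_lie, ih]; rfl

omit [Fact p.Prime] in
theorem val_zero : ∀ l : Word M p, val (0 : M) l = 0 := by
  intro l
  induction l with
  | nil => rfl
  | cons x l ih => show val ⁅(0 : M), x.1⁆ l = _; rw [zero_lie, ih]

omit [Fact p.Prime] in
theorem val_append (l₂ : Word M p) : ∀ (l₁ : Word M p) (a : M), val a (l₁ ++ l₂) = val (val a l₁) l₂ := by
  intro l₁
  induction l₁ with
  | nil => intro a; rfl
  | cons x l ih => intro a; exact ih _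

omit [Fact p.Prime] in
theorem subset_sums {α : Type*} (f : α → ZMod p) (l : List α) [Fact p.Prime]
    (h0 : ∀ x ∈ l, f x ≠ 0) :
    ∃ S : Finset (ZMod p), min p (l.length + 1) ≤ S.card ∧
      ∀ s ∈ S, ∃ l₁ l₂ : List α, (l₁ ++ l₂).Perm l ∧ (l₁.map f).sum = s := by
  classical
  haveI : NeZero p := ⟨(Fact.out : p.Prime).ne_zero⟩
  induction l with
  | nil =>
    refine ⟨{0}, by simp, fun s hs => ⟨[], [], by simp, ?_⟩⟩
    rw [Finset.mem_singleton] at hs
    simp [hs]
  | cons x l ih =>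
    obtain ⟨S, hcard, hS⟩ := ih fun y hy => h0 y (List.mem_cons_of_mem _ hy)
    refine ⟨S ∪ S.image (· + f x), ?_, fun s hs => ?_⟩
    · rcases le_or_gt p S.card with hp | hp
      · exact (min_le_left _ _).trans (hp.trans (Finset.card_le_card Finset.subset_union_left))
      have hlt : S.card < (S ∪ S.image (· + f x)).card := by
        refine Finset.card_lt_card (Finset.ssubset_iff_subset_ne.2 ⟨Finset.subset_union_left, fun he => ?_⟩)
        obtain ⟨s, hs⟩ := Finset.card_pos.1 (lt_of_lt_of_le (lt_min (NeZero.pos p) (Nat.succ_pos _)) hcard)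
        have hinv : ∀ n : ℕ, s + (n : ZMod p) * f x ∈ S := by
          intro n
          induction n with
          | zero => simpa using hs
          | succ n ihn =>
            rw [he]
            refine Finset.mem_union_right _ (Finset.mem_image.2 ⟨_, ihn, ?_⟩)
            push_cast; ring
        have huniv : (Finset.univ : Finset (ZMod p)) ⊆ S := fun y _ => by
          have hy := hinv ((y - s) / f x).val
          rwa [ZMod.natCast_zmod_val, div_mul_cancel₀ _ (h0 x List.mem_cons_self), add_sub_cancel] at hy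
        exact absurd (Finset.card_le_card huniv) (by rw [Finset.card_univ, ZMod.card]; omega)
      rw [List.length_cons]
      rw [min_eq_right (show l.length + 1 ≤ p from by
        by_contra hc; rw [min_eq_left (by omega)] at hcard; omega)] at hcard
      exact (min_le_right _ _).trans (by omega)
    · rcases Finset.mem_union.1 hs with hs | hs
      · obtain ⟨l₁, l₂, hp, hsum⟩ := hS s hs
        exact ⟨l₁, x :: l₂, (List.perm_middle).trans (hp.cons x), hsum⟩
      · obtain ⟨t, ht, rfl⟩ := Finset.mem_image.1 hs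
        obtain ⟨l₁, l₂, hp, hsum⟩ := hS t ht
        exact ⟨x :: l₁, l₂, hp.cons x, by rw [List.map_cons, List.sum_cons, hsum, add_comm]⟩

variable (hC : Graded C)
include hC

theorem val_mem (k : ℕ) : ∀ (l : Word M p), Ok C l → ∀ (a : M) (e : ZMod p), a ∈ D C k e →
    val a l ∈ D C k (e + dg l) := by
  intro l
  induction l with
  | nil => intro _ a e ha; simpa [dg, val] using ha
  | cons x l ih =>
    intro hl a e ha
    have h1 := ih (fun y hy => hl y (List.mem_cons_of_mem _ hy)) _ _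
      (D_ideal hC k e x.2.2 a ha x.1 (Γ_le hC _ _ (hl x List.mem_cons_self)))
    show val ⁅a, x.1⁆ l ∈ _
    rw [show dg (x :: l) = x.2.2 + dg l from rfl, ← add_assoc]
    exact h1

theorem perm_congr (k : ℕ) {l l' : Word M p} (hp : l.Perm l') : Ok C l → ∀ (a : M) (e : ZMod p),
    a ∈ D C k e →
    (∀ l'', Ok C l'' → l''.length < l.length → wt l'' = wt l → dg l'' = dg l →
      val a l'' ∈ D C (k + 1) (e + dg l)) →
    val a l - val a l' ∈ D C (k + 1) (e + dg l) := by
  induction hp with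
  | nil => intro _ a e _ _; rw [sub_self]; exact zero_mem _
  | @cons x l l' hp ih =>
    intro hl a e ha hshort
    have hx : x.1 ∈ C x.2.2 := Γ_le hC _ _ (hl x List.mem_cons_self)
    have h1 := ih (fun y hy => hl y (List.mem_cons_of_mem _ hy)) _ _
      (D_ideal hC k e x.2.2 a ha x.1 hx) fun l'' hok hlen hwt hdg => by
        have h2 := hshort (x :: l'') (fun y hy => ?_) (by simpa using hlen)
          (by rw [show wt (x :: l'') = x.2.1 + 1 + wt l'' from rfl, hwt]; rfl)
          (by rw [show dg (x :: l'') = x.2.2 + dg l'' from rfl, hdg]; rfl)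
        · rw [show dg (x :: l) = x.2.2 + dg l from rfl, ← add_assoc] at h2
          exact h2
        · rcases List.mem_cons.1 hy with rfl | hy'
          exacts [hl _ List.mem_cons_self, hok y hy']
    rw [show dg (x :: l) = x.2.2 + dg l from rfl, ← add_assoc]
    exact h1
  | @swap x y l =>
    intro hl a e ha hshort
    have hy' := hl y List.mem_cons_self
    have hx' := hl x (List.mem_cons_of_mem _ List.mem_cons_self)
    have h2 := hshort ((⁅y.1, x.1⁆, y.2.1 + x.2.1 + 1, y.2.2 + x.2.2) :: l) (fun z hz => ?_)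
      (by simp) (by simp [wt]; omega) (by simp [dg, add_assoc])
    · show val ⁅⁅a, y.1⁆, x.1⁆ l - val ⁅⁅a, x.1⁆, y.1⁆ l ∈ _
      rw [jacobi_right a y.1 x.1, val_add, add_sub_cancel_left]
      exact h2
    · rcases List.mem_cons.1 hz with rfl | hz'
      · exact Γ_bracket hC _ _ _ _ _ hy' _ hx'
      · exact hl z (List.mem_cons_of_mem _ (List.mem_cons_of_mem _ hz'))
  | @trans l₁ l₂ l₃ hp₁ hp₂ ih₁ ih₂ =>
    intro hl a e ha hshort
    have hd : dg l₂ = dg l₁ := (hp₁.map _).sum_eq.symm
    have hw : wt l₂ = wt l₁ := (hp₁.map _).sum_eq.symm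
    have h2 := ih₂ (fun z hz => hl z (hp₁.mem_iff.2 hz)) a e ha fun l'' hok hlen hwt hdg => by
      rw [hd]; exact hshort l'' hok (hp₁.length_eq ▸ hlen) (hwt.trans hw) (hdg.trans hd)
    rw [hd] at h2
    have h3 := add_mem (ih₁ hl a e ha hshort) h2
    rwa [sub_add_sub_cancel] at h3

theorem val_mem_next (k c : ℕ) (hc : ∀ d, Γ C c d ≤ D C k d) : ∀ (N : ℕ) (l : Word M p),
    l.length = N → Ok C l → (p - 2) * c < wt l → ∀ (a : M) (e : ZMod p), a ∈ D C k e →
    val a l ∈ D C (k + 1) (e + dg l) := by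
  haveI : NeZero p := ⟨(Fact.out : p.Prime).ne_zero⟩
  intro N
  induction N using Nat.strong_induction_on with
  | _ N ih =>
  intro l hN hl hwt a e ha
  by_cases hbig : ∃ x ∈ l, x.1 ∈ D C k x.2.2
  · obtain ⟨x, hx, hxA⟩ := hbig
    obtain ⟨l₁, l₂, rfl⟩ := List.append_of_mem hx
    rw [val_append]
    have h1 := val_mem hC k l₁ (fun y hy => hl y (List.mem_append_left _ hy)) a e ha
    have h2 : ⁅val a l₁, x.1⁆ ∈ D C (k + 1) (e + dg l₁ + x.2.2) := mem_br h1 hxA
    have h3 := val_mem hC (k + 1) l₂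
      (fun y hy => hl y (List.mem_append_right _ (List.mem_cons_of_mem _ hy))) _ _ h2
    rw [show dg (l₁ ++ x :: l₂) = dg l₁ + (x.2.2 + dg l₂) by simp [dg], ← add_assoc, ← add_assoc]
    exact h3
  push Not at hbig
  have hs : ∀ x ∈ l, x.2.1 + 1 ≤ c := fun x hx => by
    by_contra hlt
    exact hbig x hx (hc _ (Γ_anti hC (by omega) _ (hl x hx)))
  have hd0 : ∀ x ∈ l, x.2.2 ≠ 0 := fun x hx h0 => hbig x hx (by
    have h1 := Γ_le hC _ _ (hl x hx)
    rw [h0, hC.zero, AddSubgroup.mem_bot] at h1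
    rw [h1]; exact zero_mem _)
  have hlen : p - 1 ≤ l.length := by
    have h1 : wt l ≤ l.length * c := by
      have h2 := List.sum_le_card_nsmul (l.map fun x => x.2.1 + 1) c (by
        intro n hn
        obtain ⟨x, hx, rfl⟩ := List.mem_map.1 hn
        exact hs x hx)
      simpa [wt] using h2
    have h2 := Nat.lt_of_mul_lt_mul_right (hwt.trans_le h1)
    omega
  obtain ⟨S, hcard, hS⟩ := subset_sums (fun x : M × ℕ × ZMod p => x.2.2) l hd0
  have huniv : S = Finset.univ := Finset.eq_univ_of_card S (le_antisymm (Finset.card_le_univ S) (by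
    rw [ZMod.card]; exact le_trans (le_min le_rfl (by omega)) hcard))
  obtain ⟨l₁, l₂, hperm, hsum⟩ := hS (-e) (huniv ▸ Finset.mem_univ _)
  have hl₁ : Ok C l₁ := fun y hy => hl y (hperm.mem_iff.1 (List.mem_append_left _ hy))
  have h0 : val a l₁ = 0 := by
    have h1 := D_le hC k _ (val_mem hC k l₁ hl₁ a e ha)
    rwa [show e + dg l₁ = 0 by rw [show dg l₁ = -e from hsum, add_neg_cancel], hC.zero,
      AddSubgroup.mem_bot] at h1
  have h1 := perm_congr hC k hperm.symm hl a e ha fun l'' hok hlen' hwt' hdg => by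
    rw [← hdg]; exact ih _ (hN ▸ hlen') l'' rfl hok (hwt'.symm ▸ hwt) a e ha
  rwa [val_append, h0, val_zero, sub_zero] at h1

theorem span (c : ℕ) : ∀ (m : ℕ) (d : ZMod p), Γ C (c + m) d ≤ AddSubgroup.closure
    {x | ∃ (a : M) (e : ZMod p) (l : Word M p), a ∈ Γ C c e ∧ Ok C l ∧ wt l = m ∧ e + dg l = d ∧
      x = val a l}
  | 0, d => fun x hx => AddSubgroup.subset_closure
      ⟨x, d, [], hx, fun _ h => absurd h List.not_mem_nil, rfl, by simp [dg], rfl⟩
  | m + 1, d => by
    refine (AddSubgroup.closure_le _).2 ?_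
    rintro _ ⟨i, j, u, v, hu, hv, rfl, rfl⟩
    refine rb_closure ?_ (span c m i hu)
    rintro _ ⟨a, e, l, ha, hl, hw, hd, rfl⟩
    refine AddSubgroup.subset_closure ⟨a, e, l ++ [(v, 0, j)], ha, fun y hy => ?_, ?_, ?_, ?_⟩
    · rcases List.mem_append.1 hy with hy | hy
      · exact hl y hy
      · rw [List.mem_singleton.1 hy]; exact hv
    · simp [wt, ← hw]
    · rw [← hd]; simp [dg, add_assoc]
    · rw [val_append]; rfl

/-- Higman's reduction of nilpotency to solvability. -/
theorem higman : ∀ (k : ℕ), Γ C (∑ i ∈ Finset.range k, (p - 1) ^ i) ≤ D C k := by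
  intro k
  induction k with
  | zero => exact le_rfl
  | succ k ih =>
    obtain ⟨c, hc⟩ : ∃ c, c = ∑ i ∈ Finset.range k, (p - 1) ^ i := ⟨_, rfl⟩
    rw [← hc] at ih
    have h2 := (Fact.out : p.Prime).two_le
    have hsum : ∑ i ∈ Finset.range (k + 1), (p - 1) ^ i = c + ((p - 2) * c + 1) := by
      obtain ⟨q, rfl⟩ := Nat.exists_eq_add_of_le h2
      rw [hc, geom_sum_succ, show 2 + q - 1 = q + 1 by omega, show 2 + q - 2 = q by omega]
      ring
    rw [hsum]
    intro d
    refine (span hC c _ d).trans ((AddSubgroup.closure_le _).2 ?_)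
    rintro _ ⟨a, e, l, ha, hl, hw, rfl, rfl⟩
    exact val_mem_next hC k c ih _ l rfl hl (by omega) a e (ih _ ha)

/-- The bound of Higman, Kreknin and Kostrikin. -/
theorem hkk : Γ C (∑ i ∈ Finset.range (2 ^ (p - 1) - 1), (p - 1) ^ i) = ⊥ :=
  le_bot_iff.1 ((higman hC _).trans (kreknin hC).le)

/-- For `p = 3` the class is at most two. -/
theorem class_two (hp : p = 3) : Γ C 2 = ⊥ := by
  subst hp
  refine le_bot_iff.1 fun d => (AddSubgroup.closure_le _).2 ?_
  rintro _ ⟨i, k, w, z, hw, hz, rfl, rfl⟩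
  refine rb_closure ?_ hw
  rintro _ ⟨i1, i2, u, v, hu, hv, rfl, rfl⟩
  have hz0 : ∀ {x : M} {m : ZMod 3}, x ∈ C m → m = 0 → x = 0 := fun {x m} hx hm => by
    rwa [hm, hC.zero, AddSubgroup.mem_bot] at hx
  show _ = (0 : M)
  have hall := zmod_three
  rcases hall i1 i2 k with h | h | h | h | h | ⟨h, h'⟩
  · rw [hz0 hu h, zero_lie, zero_lie]
  · rw [hz0 hv h, lie_zero, zero_lie]
  · rw [hz0 hz h, lie_zero]
  · rw [hz0 (hC.closed _ _ _ hu _ hv) h, zero_lie]
  · exact hz0 (hC.closed _ _ _ (hC.closed _ _ _ hu _ hv) _ hz) h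
  · rw [jacobi_right, hz0 (hC.closed _ _ _ hu _ hz) h, hz0 (hC.closed _ _ _ hv _ hz) h', zero_lie,
      lie_zero, add_zero]

end Cfsg.Agent.Solv.GradedLie
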