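import Cfsg.Agent.Lib.Solv.GrLie
import Cfsg.Agent.Lib.Solv.GradedLie

/-!
The class of a nilpotent group with a fixed-point-free automorphism of prime order `p`: the Lie
ring of the lower central series, with scalars extended by a `p`-th root of unity, is graded by the
integers modulo `p` without component of degree zero.
-/

set_option autoImplicit false
set_option linter.style.haveILetI false
set_option linter.unusedSectionVars false

open scoped commutatorElement TensorProduct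

namespace Cfsg.Agent.Solv.FPFClass

universe u

open GrLie GradedLie

variable (p : ℕ)

/-- The integers with a `p`-th root of unity. -/
abbrev Rp : Type := AdjoinRoot (Polynomial.cyclotomic p ℤ)

/-- The root of unity. -/
noncomputable def ω : Rp p := AdjoinRoot.root _

/-- Powers of the root, indexed modulo `p`. -/
noncomputable def pw (z : ZMod p) : Rp p := ω p ^ z.val

variable [hp : Fact p.Prime]

theorem sum_ω : ∑ i ∈ Finset.range p, ω p ^ i = 0 := by
  have h := AdjoinRoot.eval₂_root (Polynomial.cyclotomic p ℤ)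
  have h' := congrArg (Polynomial.eval₂ (AdjoinRoot.of (Polynomial.cyclotomic p ℤ)) (ω p))
    (Polynomial.cyclotomic_prime ℤ p)
  rw [show Polynomial.eval₂ _ (ω p) (Polynomial.cyclotomic p ℤ) = 0 from h,
    Polynomial.eval₂_finsetSum] at h'
  simpa only [Polynomial.eval₂_X_pow] using h'.symm

theorem ω_pow : ω p ^ p = 1 := by
  have h := geom_sum_mul (ω p) p
  rw [sum_ω, zero_mul] at h
  exact sub_eq_zero.1 h.symm

theorem pw_zero : pw p 0 = 1 := by rw [pw, ZMod.val_zero, pow_zero]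

theorem pw_add (a b : ZMod p) : pw p (a + b) = pw p a * pw p b := by
  haveI : NeZero p := ⟨hp.out.ne_zero⟩
  rw [pw, pw, pw, ← pow_add, ZMod.val_add]
  exact (pow_eq_pow_mod _ (ω_pow p)).symm

theorem sum_pw : ∑ z : ZMod p, pw p z = 0 := by
  haveI : NeZero p := ⟨hp.out.ne_zero⟩
  refine Eq.trans ?_ (sum_ω p)
  refine Finset.sum_bij (fun z _ => z.val) (fun z _ => Finset.mem_range.2 (ZMod.val_lt z))
    (fun a _ b _ h => ZMod.val_injective p h)
    (fun i hi => ⟨(i : ZMod p), Finset.mem_univ _, ZMod.val_natCast_of_lt (Finset.mem_range.1 hi)⟩)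
    (fun z _ => rfl)

theorem sum_pw_mul {k : ZMod p} (hk : k ≠ 0) : ∑ j : ZMod p, pw p (-(j * k)) = 0 := by
  refine Eq.trans ?_ (sum_pw p)
  exact Fintype.sum_equiv ((Equiv.mulRight₀ k hk).trans (Equiv.neg _)) _ _ fun j => rfl

/-- A coordinate with value one at one. -/
theorem exists_coord : ∃ φ : Rp p →ₗ[ℤ] ℤ, φ 1 = 1 := by
  let pb := AdjoinRoot.powerBasis' (Polynomial.cyclotomic.monic p ℤ)
  have hd : 0 < pb.dim := by
    show 0 < (Polynomial.cyclotomic p ℤ).natDegree
    rw [Polynomial.natDegree_cyclotomic]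
    exact Nat.totient_pos.2 hp.out.pos
  refine ⟨pb.basis.coord ⟨0, hd⟩, ?_⟩
  have h1 : pb.basis ⟨0, hd⟩ = 1 := by rw [pb.basis_eq_pow, pow_zero]
  rw [← h1, Module.Basis.coord_apply, Module.Basis.repr_self, Finsupp.single_eq_same]

variable {G : Type u} [Group G]

/-- The automorphism of the extended Lie ring. -/
noncomputable def A (σ : MulAut G) : Rp p ⊗[ℤ] Gr G →ₗ[Rp p] Rp p ⊗[ℤ] Gr G :=
  LinearMap.baseChange (Rp p) (act σ).toIntLinearMap

theorem A_tmul (σ : MulAut G) (r : Rp p) (x : Gr G) : A p σ (r ⊗ₜ x) = r ⊗ₜ act σ x := rfl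

theorem A_comp (σ τ : MulAut G) (x : Rp p ⊗[ℤ] Gr G) : A p σ (A p τ x) = A p (σ * τ) x := by
  induction x using TensorProduct.induction_on with
  | zero => simp
  | tmul r y => rw [A_tmul, A_tmul, A_tmul, act_comp]
  | add a b ha hb => simp only [map_add, ha, hb]

theorem A_one (x : Rp p ⊗[ℤ] Gr G) : A p (1 : MulAut G) x = x := by
  induction x using TensorProduct.induction_on with
  | zero => simp
  | tmul r y => rw [A_tmul, act_one]
  | add a b ha hb => simp only [map_add, ha, hb]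

theorem br_zero (x : Rp p ⊗[ℤ] Gr G) : ⁅x, (0 : Rp p ⊗[ℤ] Gr G)⁆ = 0 := lie_zero x

theorem br_add (x y z : Rp p ⊗[ℤ] Gr G) : ⁅x, y + z⁆ = ⁅x, y⁆ + ⁅x, z⁆ := lie_add x y z

theorem A_lie (σ : MulAut G) (x y : Rp p ⊗[ℤ] Gr G) : A p σ ⁅x, y⁆ = ⁅A p σ x, A p σ y⁆ := by
  induction x using TensorProduct.induction_on with
  | zero => simp
  | add a b ha hb => simp only [add_lie, map_add, ha, hb]
  | tmul r a =>
    induction y using TensorProduct.induction_on with
    | zero => rw [br_zero, map_zero, br_zero]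
    | add b c hb hc => rw [br_add, map_add, map_add, hb, hc, br_add]
    | tmul s b =>
      rw [A_tmul, A_tmul, LieAlgebra.ExtendScalars.bracket_tmul, A_tmul,
        LieAlgebra.ExtendScalars.bracket_tmul, act_lie]

/-- The eigenspaces. -/
noncomputable def comp (σ : MulAut G) : Fam (Rp p ⊗[ℤ] Gr G) p := fun j =>
  { carrier := {x | A p σ x = pw p j • x}
    add_mem' := fun {a b} ha hb => by
      show A p σ (a + b) = _
      rw [map_add, ha, hb, smul_add]
    zero_mem' := by show A p σ 0 = _; rw [map_zero, smul_zero]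
    neg_mem' := fun {a} ha => by
      show A p σ (-a) = _
      rw [map_neg, ha, smul_neg] }

theorem mem_comp {σ : MulAut G} {j : ZMod p} {x : Rp p ⊗[ℤ] Gr G} :
    x ∈ comp p σ j ↔ A p σ x = pw p j • x := Iff.rfl

variable [Finite G]

theorem fixed_free (σ : MulAut G) (hfpf : ∀ g : G, σ g = g → g = 1) {i : ℕ} {g : G} (hg : g ∈ γ G i)
    (h : act σ (ι i g hg) = ι i g hg) : ι i g hg = 0 := by
  rw [act_ι, ← sub_eq_zero, sub_eq_add_neg, ← ι_inv, add_comm, ← ι_mul, ι_eq_zero] at h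
  obtain ⟨f, hf⟩ : ∃ f : ↥(γ G (i + 1)) → ↥(γ G (i + 1)),
      ∀ x, (f x : G) = (x : G)⁻¹ * σ x :=
    ⟨fun x => ⟨(x : G)⁻¹ * σ x, mul_mem (inv_mem x.2) (map_mem_γ σ x.2)⟩, fun x => rfl⟩
  have hinj : Function.Injective f := fun a b hab => by
    have h1 := congrArg Subtype.val hab
    rw [hf, hf] at h1
    have h2 : σ ((b : G) * (a : G)⁻¹) = (b : G) * (a : G)⁻¹ := by
      rw [map_mul, map_inv, show σ (b : G) = (b : G) * ((b : G)⁻¹ * σ b) by group, ← h1]
      group
    exact Subtype.ext (mul_inv_eq_one.1 (hfpf _ h2)).symm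
  obtain ⟨x, hx⟩ := (Finite.injective_iff_surjective.1 hinj) ⟨g⁻¹ * σ g, h⟩
  have h1 := congrArg Subtype.val hx
  rw [hf] at h1
  have h2 : σ (g * (x : G)⁻¹) = g * (x : G)⁻¹ := by
    rw [map_mul, map_inv, show σ (x : G) = (x : G) * ((x : G)⁻¹ * σ x) by group, h1]
    group
  exact (ι_eq_zero _).2 (mul_inv_eq_one.1 (hfpf _ h2) ▸ x.2)

variable {σ : MulAut G} (hσ : σ ^ p = 1) (hfpf : ∀ g : G, σ g = g → g = 1)
  (hco : (Nat.card G).Coprime p)

include hσ in
theorem pow_val_succ (k : ZMod p) : σ ^ (k + 1).val = σ * σ ^ k.val := by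
  haveI : NeZero p := ⟨hp.out.ne_zero⟩
  haveI : Fact (1 < p) := ⟨hp.out.one_lt⟩
  rw [ZMod.val_add, ← pow_eq_pow_mod _ hσ, ZMod.val_one, pow_succ']

include hσ hfpf in
theorem sum_A (x : Rp p ⊗[ℤ] Gr G) : ∑ k : ZMod p, A p (σ ^ k.val) x = 0 := by
  induction x using TensorProduct.induction_on with
  | zero => simp
  | add a b ha hb => simp only [map_add, Finset.sum_add_distrib, ha, hb, add_zero]
  | tmul r y =>
    simp only [A_tmul, ← TensorProduct.tmul_sum]
    suffices h : ∑ k : ZMod p, act (σ ^ k.val : MulAut G) y = 0 by rw [h, TensorProduct.tmul_zero]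
    induction y using GrLie.induction_on with
    | h0 => simp
    | hadd a b ha hb => simp only [map_add, Finset.sum_add_distrib, ha, hb, add_zero]
    | hι i g hg =>
      simp only [act_ι]
      classical
      have key : ∀ s : Finset (ZMod p), ∃ h, ∃ hh : h ∈ γ G i,
          ∑ k ∈ s, ι i ((σ ^ k.val : MulAut G) g) (map_mem_γ _ hg) = ι i h hh := fun s => by
        induction s using Finset.induction_on with
        | empty => exact ⟨1, one_mem _, by rw [Finset.sum_empty, ι_one]⟩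
        | insert a s ha ih =>
          obtain ⟨h, hh, he⟩ := ih
          exact ⟨_, mul_mem (map_mem_γ _ hg) hh, by rw [Finset.sum_insert ha, he, ι_mul]⟩
      obtain ⟨h, hh, he⟩ := key Finset.univ
      rw [he]
      refine fixed_free σ hfpf hh ?_
      rw [← he, map_sum]
      refine Fintype.sum_equiv (Equiv.addRight (1 : ZMod p)) _ _ fun k => ?_
      rw [act_ι]
      exact ι_congr rfl (by rw [Equiv.coe_addRight, pow_val_succ p hσ]; rfl) _ _

include hσ in
theorem A_pow_of_fixed {x : Rp p ⊗[ℤ] Gr G} (hx : A p σ x = x) : ∀ n : ℕ, A p (σ ^ n) x = x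
  | 0 => by rw [pow_zero, A_one]
  | n + 1 => by rw [pow_succ, ← A_comp, hx, A_pow_of_fixed hx n]

include hco in
theorem eq_smul_p (x : Rp p ⊗[ℤ] Gr G) : ∃ m : ℤ, x = m • (p : ℤ) • x := by
  have h0 : (Nat.card G : ℤ) • x = 0 := by
    induction x using TensorProduct.induction_on with
    | zero => simp
    | tmul r y => rw [← TensorProduct.tmul_smul, card_smul, TensorProduct.tmul_zero]
    | add a b ha hb => rw [smul_add, ha, hb, add_zero]
  obtain ⟨u, v, h⟩ : IsCoprime (Nat.card G : ℤ) (p : ℤ) := Nat.Coprime.isCoprime hco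
  refine ⟨v, ?_⟩
  calc x = (u * (Nat.card G : ℤ) + v * (p : ℤ)) • x := by rw [h, one_smul]
    _ = _ := by rw [add_smul, mul_smul, mul_smul, h0, smul_zero, zero_add]

include hσ hfpf hco in
theorem graded : Graded (comp p σ) := by
  refine ⟨fun i j u hu v hv => ?_, eq_bot_iff.2 fun x hx => ?_⟩
  · rw [mem_comp] at hu hv ⊢
    rw [A_lie, hu, hv, pw_add]
    exact (smul_lie (pw p i) u (pw p j • v)).trans
      ((congrArg (pw p i • ·) (lie_smul (pw p j) u v)).trans (smul_smul _ _ _))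
  · rw [mem_comp, pw_zero, one_smul] at hx
    have h1 := sum_A p hσ hfpf x
    simp only [A_pow_of_fixed p hσ hx, Finset.sum_const, Finset.card_univ, ZMod.card] at h1
    obtain ⟨m, hm⟩ := eq_smul_p p hco x
    rw [AddSubgroup.mem_bot, hm, natCast_zsmul, h1, smul_zero]

include hσ hco in
theorem iSup_comp : ⨆ j, comp p σ j = ⊤ := by
  refine eq_top_iff.2 fun x _ => ?_
  obtain ⟨m, hm⟩ := eq_smul_p p hco x
  rw [hm]
  refine zsmul_mem ?_ _
  have hsum : ∑ j : ZMod p, ∑ k : ZMod p, pw p (-(j * k)) • A p (σ ^ k.val) x = (p : ℤ) • x := by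
    rw [Finset.sum_comm, Finset.sum_eq_single (0 : ZMod p)]
    · simp only [mul_zero, neg_zero, pw_zero, one_smul, ZMod.val_zero, pow_zero, A_one,
        Finset.sum_const, Finset.card_univ, ZMod.card, natCast_zsmul]
    · intro k _ hk
      rw [← Finset.sum_smul, sum_pw_mul p hk, zero_smul]
    · exact fun h => absurd (Finset.mem_univ _) h
  rw [← hsum]
  refine sum_mem fun j _ => AddSubgroup.mem_iSup_of_mem j ?_
  rw [mem_comp, map_sum, Finset.smul_sum]
  refine Fintype.sum_equiv (Equiv.addRight (1 : ZMod p)) _ _ fun k => ?_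
  rw [Equiv.coe_addRight, map_smul, A_comp, ← pow_val_succ p hσ, smul_smul, ← pw_add]
  congr 2
  ring

include hσ hco in
theorem mem_Γ : ∀ (s : ℕ) (g : G) (hg : g ∈ γ G s) (r : Rp p),
    r ⊗ₜ[ℤ] ι s g hg ∈ ⨆ d, Γ (comp p σ) s d
  | 0, g, hg, r => by
    show _ ∈ ⨆ d, comp p σ d
    rw [iSup_comp p hσ hco]
    trivial
  | s + 1, g, hg, r => by
    obtain ⟨W, hW⟩ : ∃ W, W = ⨆ d, Γ (comp p σ) (s + 1) d := ⟨_, rfl⟩
    rw [← hW]
    suffices h : ∀ g' : G, g' ∈ ⁅γ G s, (⊤ : Subgroup G)⁆ →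
        ∃ hg' : g' ∈ γ G (s + 1), ∀ r : Rp p, r ⊗ₜ[ℤ] ι (s + 1) g' hg' ∈ W from (h g hg).2 r
    intro g' hg'
    rw [Subgroup.commutator_def] at hg'
    induction hg' using Subgroup.closure_induction with
    | one => exact ⟨one_mem _, fun r => by rw [ι_one, TensorProduct.tmul_zero]; exact zero_mem _⟩
    | mul a b _ _ iha ihb =>
      exact ⟨mul_mem iha.1 ihb.1, fun r => by
        rw [ι_mul iha.1 ihb.1, TensorProduct.tmul_add]; exact add_mem (iha.2 r) (ihb.2 r)⟩
    | inv a _ iha =>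
      exact ⟨inv_mem iha.1, fun r => by
        rw [ι_inv iha.1, TensorProduct.tmul_neg]; exact neg_mem (iha.2 r)⟩
    | mem x hx =>
      obtain ⟨h, hh, k, -, rfl⟩ := hx
      refine ⟨Subgroup.commutator_mem_commutator hh (Subgroup.mem_top k), fun r => ?_⟩
      have hk : k ∈ γ G 0 := Subgroup.mem_top k
      have hh' : h ∈ γ G s := hh
      have hm := comm_mem (G := G) (s := s) (t := 0) (g := h) (h := k) hh' hk
      have hm' : ⁅h, k⁆ ∈ γ G (s + 1) := hm
      show r ⊗ₜ[ℤ] ι (s + 1) ⁅h, k⁆ hm' ∈ W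
      rw [ι_congr (i := s + 1) (j := s + 0 + 1) (g := ⁅h, k⁆) (h := ⁅h, k⁆) rfl rfl hm' hm,
        ← lie_ι hh' hk, ← mul_one r, ← LieAlgebra.ExtendScalars.bracket_tmul]
      have hb : (1 : Rp p) ⊗ₜ[ℤ] ι 0 k hk ∈ ⨆ d, comp p σ d := by
        rw [iSup_comp p hσ hco]; trivial
      refine AddSubgroup.iSup_induction _
        (C := fun x => ⁅x, (1 : Rp p) ⊗ₜ[ℤ] ι 0 k hk⁆ ∈ W) (mem_Γ s h hh' r) ?_ ?_ ?_
      · intro i x hx
        refine AddSubgroup.iSup_induction _ (C := fun y => ⁅x, y⁆ ∈ W) hb ?_ ?_ ?_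
        · intro j y hy
          rw [hW]
          exact AddSubgroup.mem_iSup_of_mem (i + j) (mem_br hx hy)
        · rw [lie_zero]; exact zero_mem _
        · intro a b ha hb; rw [lie_add]; exact add_mem ha hb
      · rw [zero_lie]; exact zero_mem _
      · intro a b ha hb; rw [add_lie]; exact add_mem ha hb

include hσ hco in
theorem γ_eq_bot [Group.IsNilpotent G] {N : ℕ} (hΓ : Γ (comp p σ) N = ⊥) : γ G N = ⊥ := by
  have hle : γ G N ≤ γ G (N + 1) := fun g hg => by
    have h1 := mem_Γ p hσ hco N g hg 1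
    have h2 : ⨆ d, Γ (comp p σ) N d = ⊥ := by
      rw [hΓ]; simp
    rw [h2, AddSubgroup.mem_bot] at h1
    obtain ⟨φ, hφ⟩ := exists_coord p
    have h3 := congrArg (fun t => TensorProduct.lid ℤ (Gr G) (LinearMap.rTensor (Gr G) φ t)) h1
    simp only [LinearMap.rTensor_tmul, hφ, TensorProduct.lid_tmul, one_smul, map_zero] at h3
    exact (ι_eq_zero hg).1 h3
  have hall : ∀ k, γ G N ≤ γ G k := fun k => by
    induction k with
    | zero => exact le_top
    | succ k ih =>
      exact hle.trans (Subgroup.commutator_mono ih le_rfl)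
  obtain ⟨k, hk⟩ := Subgroup.nilpotent_iff_lowerCentralSeries.1 ‹Group.IsNilpotent G›
  exact le_bot_iff.1 ((hall k).trans hk.le)

end Cfsg.Agent.Solv.FPFClass
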