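import Cfsg.Agent.Lib.Solv.AlperinPGroup
import Cfsg.Agent.Lib.Solv.HallHigman
import Cfsg.Agent.Lib.Solv.DerivedBound
import Cfsg.Agent.Lib.Char.OneBlock
import Cfsg.Agent.Lib.Char.ItoConverse
import Cfsg.Agent.S3779

/-!
Alperin: the derived length of a solvable group with an automorphism of order `p` with `p ^ n`
fixed points is bounded by a function of `p` and `n`.
-/

set_option autoImplicit false
set_option linter.style.haveILetI false
set_option linter.unusedSectionVars false

open scoped commutatorElement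

namespace Cfsg.Agent.Solv.AlperinDL

variable {p : ℕ} [hp : Fact p.Prime] {n : ℕ}

theorem pgroup_derived_bot {P : Type*} [Group P] [Finite P] (hP : IsPGroup p P) (σ : MulAut P)
    (hσ : σ ^ p = 1) (hfix : Nat.card {g : P // σ g = g} ≤ p ^ n) :
    derivedSeries P (pBound p n) = ⊥ := by
  haveI : Finite (MulAut P) := Finite.of_injective (fun e => (e : P → P)) DFunLike.coe_injective
  obtain ⟨φ, hφ⟩ : ∃ φ, φ = (Subgroup.zpowers σ).subtype := ⟨_, rfl⟩
  haveI : Finite (P ⋊[φ] Subgroup.zpowers σ) := Finite.of_equiv _ SemidirectProduct.equivProd.symm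
  have hG : IsPGroup p (P ⋊[φ] Subgroup.zpowers σ) := by
    obtain ⟨k, hk⟩ := hP.exists_card_eq
    obtain ⟨j, -, hj⟩ := (Nat.dvd_prime_pow hp.out).1
      (show orderOf σ ∣ p ^ 1 by rw [pow_one]; exact orderOf_dvd_of_pow_eq_one hσ)
    exact IsPGroup.of_card (n := k + j)
      (by rw [Nat.card_congr SemidirectProduct.equivProd, Nat.card_prod, hk, Nat.card_zpowers, hj, pow_add])
  obtain ⟨a, ha⟩ : ∃ a : P ⋊[φ] Subgroup.zpowers σ,
      a = SemidirectProduct.inr ⟨σ, Subgroup.mem_zpowers σ⟩ := ⟨_, rfl⟩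
  haveI : (SemidirectProduct.inl : P →* P ⋊[φ] Subgroup.zpowers σ).range.Normal := by
    rw [SemidirectProduct.range_inl_eq_ker_rightHom]; infer_instance
  have hap : a ^ p = 1 := by
    rw [ha, ← map_pow, show (⟨σ, Subgroup.mem_zpowers σ⟩ : Subgroup.zpowers σ) ^ p = 1 from
      Subtype.ext (by rw [Subgroup.coe_pow]; exact hσ), map_one]
  have hf : Nat.card ↥((SemidirectProduct.inl : P →* P ⋊[φ] Subgroup.zpowers σ).range ⊓
      Subgroup.centralizer {a}) ≤ p ^ n := by
    refine le_trans ?_ hfix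
    refine Nat.card_le_card_of_surjective
      (fun g : {g : P // σ g = g} => (⟨SemidirectProduct.inl g.1, ⟨g.1, rfl⟩,
        Subgroup.mem_centralizer_singleton_iff.2 ?_⟩ :
        ↥((SemidirectProduct.inl : P →* P ⋊[φ] Subgroup.zpowers σ).range ⊓ Subgroup.centralizer {a}))) ?_
    · have h1 := SemidirectProduct.inl_aut (φ := φ) ⟨σ, Subgroup.mem_zpowers σ⟩ g.1
      rw [show φ ⟨σ, Subgroup.mem_zpowers σ⟩ g.1 = g.1 by rw [hφ]; exact g.2, ← ha, map_inv, ← ha,
        eq_mul_inv_iff_mul_eq] at h1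
      exact h1
    · rintro ⟨_, ⟨g, rfl⟩, hg⟩
      have h2 := Subgroup.mem_centralizer_singleton_iff.1 hg
      refine ⟨⟨g, SemidirectProduct.inl_injective (φ := φ) ?_⟩, rfl⟩
      have h1 := SemidirectProduct.inl_aut (φ := φ) ⟨σ, Subgroup.mem_zpowers σ⟩ g
      rw [← ha, map_inv, ← ha, ← h2, mul_inv_cancel_right] at h1
      rw [← h1, hφ]
      rfl
  have hcomm : commutator (P ⋊[φ] Subgroup.zpowers σ) ≤
      (SemidirectProduct.inl : P →* P ⋊[φ] Subgroup.zpowers σ).range := by
    rw [SemidirectProduct.range_inl_eq_ker_rightHom, commutator_def, Subgroup.commutator_le]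
    intro x _ y _
    rw [MonoidHom.mem_ker, map_commutatorElement, commutatorElement_eq_one_iff_mul_comm]
    exact mul_comm' _ _
  have h := derived_bot (G := P ⋊[φ] Subgroup.zpowers σ) n _ hap hf hG hcomm
  have h1 := map_derivedSeries_le_derivedSeries (SemidirectProduct.inl : P →* P ⋊[φ] Subgroup.zpowers σ)
    (pBound p n)
  rw [h, le_bot_iff, Subgroup.map_eq_bot_iff_of_injective _ SemidirectProduct.inl_injective] at h1
  exact h1

theorem derivedSeries_le_map {G : Type*} [Group G] (N : Subgroup G) {i : ℕ}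
    (h : derivedSeries G i ≤ N) :
    ∀ j, derivedSeries G (i + j) ≤ (derivedSeries N j).map N.subtype
  | 0 => by rw [add_zero, derivedSeries_zero, ← MonoidHom.range_eq_map, Subgroup.range_subtype]; exact h
  | j + 1 => by
    rw [← add_assoc, derivedSeries_succ, derivedSeries_succ, Subgroup.map_commutator]
    exact Subgroup.commutator_mono (derivedSeries_le_map N h j) (derivedSeries_le_map N h j)

theorem card_fixed_quotient {G : Type*} [Group G] [Finite G] (σ : MulAut G) (N : Subgroup G)
    [N.Normal] (hN : N.map (σ : G →* G) = N) :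
    Nat.card {y : G ⧸ N // QuotientGroup.congr N N σ hN y = y} ≤ Nat.card {g : G // σ g = g} := by
  obtain ⟨F, hF⟩ : ∃ F : Subgroup (G ⧸ N), ∀ y, y ∈ F ↔ QuotientGroup.congr N N σ hN y = y :=
    ⟨{ carrier := {y | QuotientGroup.congr N N σ hN y = y}
       one_mem' := map_one _
       mul_mem' := fun {a b} ha hb => by
         show QuotientGroup.congr N N σ hN (a * b) = a * b
         rw [map_mul, ha, hb]
       inv_mem' := fun {a} ha => by
         show QuotientGroup.congr N N σ hN a⁻¹ = a⁻¹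
         rw [map_inv, ha] }, fun y => Iff.rfl⟩
  have h1 := card_le_fixed_mul σ (F.comap (QuotientGroup.mk' N)) N fun s hs => by
    have h2 := (hF _).1 (Subgroup.mem_comap.1 hs)
    rw [QuotientGroup.mk'_apply, QuotientGroup.congr_mk] at h2
    exact QuotientGroup.eq.1 h2.symm
  have h2 : Nat.card {s : F.comap (QuotientGroup.mk' N) // σ (s : G) = s} ≤
      Nat.card {g : G // σ g = g} :=
    Nat.card_le_card_of_injective
      (fun s : {s : F.comap (QuotientGroup.mk' N) // σ (s : G) = s} =>
        (⟨(s.1 : G), s.2⟩ : {g : G // σ g = g}))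
      (fun s t h => Subtype.ext (Subtype.ext (congrArg Subtype.val h :)))
  rw [card_comap_mk', mul_comm (Nat.card {s : F.comap (QuotientGroup.mk' N) // σ (s : G) = s})] at h1
  refine le_trans (le_of_eq (Nat.card_congr (Equiv.subtypeEquivRight fun y => (hF y).symm))) ?_
  refine Nat.le_of_mul_le_mul_left ?_ (Nat.card_pos (α := N))
  have h3 := h1.trans (Nat.mul_le_mul_left _ h2)
  simpa [mul_comm] using h3

/-- The bound modulo the `p'`-core. -/
noncomputable def coreBound (p n : ℕ) : ℕ := Nat.factorial (p ^ (p * n)) + pBound p n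

/-- The case of a trivial `p'`-core. -/
theorem reduced_derived_bot {Q : Type*} [Group Q] [Finite Q] (hs : Group.IsSolvable Q)
    (h0 : Cfsg.pPrimeCore p Q = ⊥) (σ : MulAut Q) (hσ : σ ^ p = 1)
    (hfix : Nat.card {g : Q // σ g = g} ≤ p ^ n) : derivedSeries Q (coreBound p n) = ⊥ := by
  obtain ⟨R, hR⟩ : ∃ R, R = Cfsg.pCore p Q := ⟨_, rfl⟩
  haveI hRn : R.Normal := hR ▸ pCore_normal p
  haveI hRc : R.Characteristic := hR ▸ Fusion.pCore_characteristic
  have hRp : IsPGroup p R := hR ▸ pCore_isPGroup p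
  have hcR : Subgroup.centralizer (R : Set Q) ≤ R := by
    rw [hR]
    exact Char.centralizer_pCore_le_of_pSolvable (Char.isPSolvable_of_isSolvable hp.out _ rfl hs) h0
  -- the restriction of the automorphism
  have hmap : ∀ x ∈ R, σ x ∈ R := fun x hx => by
    rw [← Subgroup.characteristic_iff_map_eq.1 hRc σ]; exact ⟨x, hx, rfl⟩
  have hmap' : ∀ x ∈ R, σ.symm x ∈ R := fun x hx => by
    rw [← Subgroup.characteristic_iff_map_eq.1 hRc σ.symm]; exact ⟨x, hx, rfl⟩
  obtain ⟨τ, hτ⟩ : ∃ τ : MulAut R, ∀ x : R, (τ x : Q) = σ x :=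
    ⟨{ toFun := fun x => ⟨σ x, hmap _ x.2⟩
       invFun := fun x => ⟨σ.symm x, hmap' _ x.2⟩
       left_inv := fun x => Subtype.ext (σ.symm_apply_apply _)
       right_inv := fun x => Subtype.ext (σ.apply_symm_apply _)
       map_mul' := fun x y => Subtype.ext (map_mul σ _ _) }, fun x => rfl⟩
  have hτk : ∀ (k : ℕ) (x : R), ((τ ^ k) x : Q) = (σ ^ k) x := by
    intro k
    induction k with
    | zero => intro x; rfl
    | succ k ih => intro x; rw [pow_succ', pow_succ', MulAut.mul_apply, MulAut.mul_apply, hτ, ih]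
  have hτp : τ ^ p = 1 := by
    refine MulEquiv.ext fun x => Subtype.ext ?_
    rw [hτk, hσ]; rfl
  have hτfix : Nat.card {g : R // τ g = g} ≤ p ^ n := by
    refine (Nat.card_le_card_of_injective
      (fun g : {g : R // τ g = g} => (⟨((g.1 : R) : Q), ?_⟩ : {g : Q // σ g = g})) ?_).trans hfix
    · rw [← hτ, g.2]
    · exact fun g h e => Subtype.ext (Subtype.ext (congrArg Subtype.val e :))
  have hRbot := pgroup_derived_bot hRp τ hτp hτfix
  -- the Frattini quotient
  haveI : (frattini R).Normal := inferInstance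
  have hchar : (frattini R).map (τ : R →* R) = frattini R :=
    Subgroup.characteristic_iff_map_eq.1 inferInstance τ
  letI : CommGroup (R ⧸ frattini R) :=
    { (inferInstance : Group (R ⧸ frattini R)) with
      mul_comm := quotient_mul_comm (frattini R) (commutatorElement_mem_frattini hRp) }
  obtain ⟨β, hβ⟩ : ∃ β : MulAut (R ⧸ frattini R),
      ∀ x, β x = QuotientGroup.congr (frattini R) (frattini R) τ hchar x :=
    ⟨QuotientGroup.congr (frattini R) (frattini R) τ hchar, fun x => rfl⟩
  have hβp : β ^ p = 1 := by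
    have hk : ∀ (k : ℕ) (x : R), (β ^ k) (QuotientGroup.mk x) = QuotientGroup.mk ((τ ^ k) x) := by
      intro k
      induction k with
      | zero => intro x; rfl
      | succ k ih =>
        intro x
        rw [pow_succ', pow_succ', MulAut.mul_apply, MulAut.mul_apply, ih, hβ, QuotientGroup.congr_mk]
    refine MulEquiv.ext fun y => ?_
    obtain ⟨x, rfl⟩ := QuotientGroup.mk_surjective y
    rw [hk, hτp]; rfl
  have hβfix : Nat.card {y // β y = y} ≤ p ^ n :=
    le_trans (le_of_eq (Nat.card_congr (Equiv.subtypeEquivRight fun y => by rw [hβ])))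
      ((card_fixed_quotient τ (frattini R) hchar).trans hτfix)
  have hcard : Nat.card (R ⧸ frattini R) ≤ p ^ (p * n) := by
    refine le_trans (Nat.card_le_card_of_injective
      (fun y => (⟨y, ?_⟩ : (powMonoidHom p : R ⧸ frattini R →* _).ker)) fun y z h =>
        congrArg Subtype.val h) (card_omega_le β hβp n hβfix)
    obtain ⟨x, rfl⟩ := QuotientGroup.mk_surjective y
    rw [MonoidHom.mem_ker, powMonoidHom_apply, ← QuotientGroup.mk_pow, QuotientGroup.eq_one_iff]
    exact pow_mem_frattini hRp x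
  -- the action by conjugation
  obtain ⟨φ, hφ⟩ : ∃ φ : Q →* Equiv.Perm (R ⧸ frattini R),
      ∀ (g : Q) (x : R), φ g (QuotientGroup.mk x) = QuotientGroup.mk (MulAut.conjNormal g x) := by
    have hc : ∀ g : Q, (frattini R).map ((MulAut.conjNormal g : MulAut R) : R →* R) = frattini R :=
      fun g => Subgroup.characteristic_iff_map_eq.1 inferInstance _
    refine ⟨MonoidHom.mk' (fun g => (QuotientGroup.congr (frattini R) (frattini R)
      (MulAut.conjNormal g) (hc g)).toEquiv) fun g h => Equiv.ext fun y => ?_, fun g x => rfl⟩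
    obtain ⟨x, rfl⟩ := QuotientGroup.mk_surjective y
    show QuotientGroup.mk (MulAut.conjNormal (g * h) x) = QuotientGroup.mk (MulAut.conjNormal g (MulAut.conjNormal h x))
    rw [map_mul]; rfl
  have hkco : ∀ g ∈ φ.ker, (orderOf g).Coprime p → g = 1 := by
    intro g hg hco
    have hcen : g ∈ Subgroup.centralizer (R : Set Q) := by
      refine centralizes_of_frattini R hRp g (by rw [Subgroup.normalizer_eq_top]; trivial) hco ?_
      intro x hx
      have h1 := congrArg (fun e : Equiv.Perm (R ⧸ frattini R) => e (QuotientGroup.mk (⟨x, hx⟩ : R)⁻¹))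
        (MonoidHom.mem_ker.1 hg)
      simp only [hφ, Equiv.Perm.coe_one, id_eq] at h1
      refine ⟨_, QuotientGroup.eq.1 h1.symm, ?_⟩
      simp only [Subgroup.coe_subtype, Subgroup.coe_mul, Subgroup.coe_inv, inv_inv,
        MulAut.conjNormal_apply, commutatorElement_def]
      group
    obtain ⟨k, hk⟩ := IsPGroup.iff_orderOf.1 hRp ⟨g, hcR hcen⟩
    rw [← Subgroup.orderOf_coe] at hk
    refine orderOf_eq_one_iff.1 ?_
    exact Nat.eq_one_of_dvd_coprimes (hco.pow_right k) dvd_rfl (hk ▸ dvd_rfl)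
  have hker : φ.ker ≤ R := by
    refine le_trans (normal_le_pCore (p := p) (IsPGroup.of_card (n := (Nat.card φ.ker).primeFactorsList.length) ?_)) hR.ge
    refine Nat.eq_prime_pow_of_unique_prime_dvd Nat.card_pos.ne' fun {q} hq hqd => ?_
    by_contra hne
    haveI := Fact.mk hq
    obtain ⟨x, hx⟩ := exists_prime_orderOf_dvd_card' q hqd
    have h1 := hkco (x : Q) x.2 (by
      rw [Subgroup.orderOf_coe, hx]; exact (Nat.coprime_primes hq hp.out).2 hne)
    rw [← orderOf_eq_one_iff, Subgroup.orderOf_coe, hx] at h1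
    exact hq.one_lt.ne' h1
  have hD : derivedSeries Q (Nat.factorial (p ^ (p * n))) ≤ R := by
    refine le_trans ?_ hker
    refine (derivedSeries_antitone Q ?_).trans (derived_le_ker hs φ)
    rw [Nat.card_perm]
    exact Nat.factorial_le hcard
  have h1 := derivedSeries_le_map R hD (pBound p n)
  rw [hRbot, Subgroup.map_bot] at h1
  exact le_bot_iff.1 h1

theorem fpf_derived_bot {N : Type*} [Group N] [Finite N] (σ : MulAut N) (hσ : σ ^ p = 1)
    (hfpf : ∀ g : N, σ g = g → g = 1) : derivedSeries N (hkkBound p) = ⊥ := by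
  rcases eq_or_ne σ 1 with h | h
  · rw [eq_bot_iff]
    intro x _
    exact hfpf x (by rw [h]; rfl)
  · obtain ⟨-, -, h3⟩ := S3779.result hp.out σ (orderOf_eq_prime hσ h) hfpf
    refine le_bot_iff.1 ((derivedSeries_le_lcs' _).trans ?_)
    rw [← h3]
    refine (⊤ : Subgroup N).lowerCentralSeries_antitone ?_
    rw [← hkkBound]
    have := Nat.lt_two_pow_self (n := hkkBound p)
    omega

theorem alperin (p : ℕ) (hp : p.Prime) (n : ℕ) : ∃ l : ℕ, ∀ (G : Type) [Group G] [Finite G],
    Group.IsSolvable G → ∀ α : MulAut G, orderOf α = p →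
      Nat.card {g : G // α g = g} = p ^ n → derivedSeries G l = ⊥ := by
  haveI := Fact.mk hp
  refine ⟨coreBound p n + hkkBound p, fun G _ _ hs α hα hfix => ?_⟩
  have hαp : α ^ p = 1 := hα ▸ pow_orderOf_eq_one α
  obtain ⟨N, hN⟩ : ∃ N, N = Cfsg.pPrimeCore p G := ⟨_, rfl⟩
  haveI hNn : N.Normal := hN ▸ pPrimeCore_normal p
  haveI hNc : N.Characteristic := hN ▸ Fusion.pPrimeCore_characteristic
  have hmap : N.map (α : G →* G) = N := Subgroup.characteristic_iff_map_eq.1 hNc α
  -- the quotient
  obtain ⟨β, hβ⟩ : ∃ β : MulAut (G ⧸ N), ∀ x, β x = QuotientGroup.congr N N α hmap x :=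
    ⟨QuotientGroup.congr N N α hmap, fun x => rfl⟩
  have hβp : β ^ p = 1 := by
    have hk : ∀ (k : ℕ) (x : G), (β ^ k) (QuotientGroup.mk x) = QuotientGroup.mk ((α ^ k) x) := by
      intro k
      induction k with
      | zero => intro x; rfl
      | succ k ih =>
        intro x
        rw [pow_succ', pow_succ', MulAut.mul_apply, MulAut.mul_apply, ih, hβ, QuotientGroup.congr_mk]
    refine MulEquiv.ext fun y => ?_
    obtain ⟨x, rfl⟩ := QuotientGroup.mk_surjective y
    rw [hk, hαp]; rfl
  have hβfix : Nat.card {y // β y = y} ≤ p ^ n :=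
    le_trans (le_of_eq (Nat.card_congr (Equiv.subtypeEquivRight fun y => by rw [hβ])))
      ((card_fixed_quotient α N hmap).trans hfix.le)
  haveI := hs
  have hq : derivedSeries (G ⧸ N) (coreBound p n) = ⊥ := by
    refine reduced_derived_bot (Group.isSolvable_of_surjective (QuotientGroup.mk'_surjective N))
      ?_ β hβp hβfix
    subst hN
    exact Fusion.pPrimeCore_quotient_eq_bot
  have hD : derivedSeries G (coreBound p n) ≤ N := by
    rw [← map_derivedSeries_eq (QuotientGroup.mk'_surjective N), Subgroup.map_eq_bot_iff,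
      QuotientGroup.ker_mk'] at hq
    exact hq
  -- the `p'`-core
  have hmem : ∀ x ∈ N, α x ∈ N := fun x hx => hmap.le ⟨x, hx, rfl⟩
  have hmem' : ∀ x ∈ N, α.symm x ∈ N := fun x hx => by
    obtain ⟨y, hy, rfl⟩ := hmap.ge hx
    simpa using hy
  obtain ⟨τ, hτ⟩ : ∃ τ : MulAut N, ∀ x : N, (τ x : G) = α x :=
    ⟨{ toFun := fun x => ⟨α x, hmem _ x.2⟩
       invFun := fun x => ⟨α.symm x, hmem' _ x.2⟩
       left_inv := fun x => Subtype.ext (α.symm_apply_apply _)
       right_inv := fun x => Subtype.ext (α.apply_symm_apply _)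
       map_mul' := fun x y => Subtype.ext (map_mul α _ _) }, fun x => rfl⟩
  have hτk : ∀ (k : ℕ) (x : N), ((τ ^ k) x : G) = (α ^ k) x := by
    intro k
    induction k with
    | zero => intro x; rfl
    | succ k ih => intro x; rw [pow_succ', pow_succ', MulAut.mul_apply, MulAut.mul_apply, hτ, ih]
  have hτp : τ ^ p = 1 := MulEquiv.ext fun x => Subtype.ext (by rw [hτk, hαp]; rfl)
  have hfpf : ∀ g : N, τ g = g → g = 1 := by
    intro g hg
    obtain ⟨C, hC⟩ : ∃ C : Subgroup G, ∀ y, y ∈ C ↔ α y = y :=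
      ⟨{ carrier := {y | α y = y}
         one_mem' := map_one _
         mul_mem' := fun {a b} ha hb => by show α (a * b) = a * b; rw [map_mul, ha, hb]
         inv_mem' := fun {a} ha => by show α a⁻¹ = a⁻¹; rw [map_inv, ha] }, fun y => Iff.rfl⟩
    have hCc : Nat.card C = p ^ n := by
      rw [← hfix]; exact Nat.card_congr (Equiv.subtypeEquivRight hC)
    have h1 : C ⊓ N = ⊥ := coprime_inf (by
      rw [hCc]
      exact Nat.Coprime.pow_left _ (Nat.Coprime.symm (hN ▸ pPrimeCore_coprime p)))
    have h2 : (g : G) ∈ C ⊓ N := ⟨(hC _).2 (by rw [← hτ, hg]), g.2⟩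
    rw [h1] at h2
    exact Subtype.ext (Subgroup.mem_bot.1 h2)
  have h1 := derivedSeries_le_map N hD (hkkBound p)
  rw [fpf_derived_bot τ hτp hfpf, Subgroup.map_bot] at h1
  exact le_bot_iff.1 h1

end Cfsg.Agent.Solv.AlperinDL
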