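import Cfsg.Agent.Lib.Solv.Basic
import Mathlib

/-!
Groups `D` with an elementary central subgroup `E` containing all squares and all involutions, with equally
large square-root sets: a group of odd order of automorphisms trivial on `E` admits no four-group of
operators trivial on `E`.
-/

set_option autoImplicit false
set_option linter.style.haveILetI false

open scoped commutatorElement

namespace Cfsg.Agent.Solv.AnisoQuad

open scoped Classical

variable {D : Type*} [Group D] [Fintype D]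

/-- The hypotheses on the pair `(D, E)`. -/
structure Data (E : Subgroup D) : Prop where
  inv_iff : ∀ x : D, x ^ 2 = 1 ↔ x ∈ E
  sq_mem : ∀ x : D, x ^ 2 ∈ E
  central : ∀ e ∈ E, ∀ x : D, x * e = e * x
  center_le : Subgroup.center D ≤ E
  fibres : ∀ e ∈ E, e ≠ 1 → ∀ e' ∈ E, e' ≠ 1 →
    Nat.card {d : D // d ^ 2 = e} = Nat.card {d : D // d ^ 2 = e'}
  big : 4 ≤ Nat.card E

variable {E : Subgroup D}

namespace Data

variable (h : Data E)
include h

theorem sq_e {e : D} (he : e ∈ E) : e ^ 2 = 1 := (h.inv_iff e).2 he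

theorem inv_e {e : D} (he : e ∈ E) : e⁻¹ = e := by
  rw [inv_eq_iff_mul_eq_one, ← pow_two, h.sq_e he]

theorem comm_mem (x y : D) : ⁅x, y⁆ ∈ E := by
  have h1 : ⁅x, y⁆ = x ^ 2 * (x⁻¹ * y) ^ 2 * (y ^ 2)⁻¹ := by
    rw [commutatorElement_def, pow_two, pow_two, pow_two]; group
  rw [h1]
  exact E.mul_mem (E.mul_mem (h.sq_mem x) (h.sq_mem _)) (E.inv_mem (h.sq_mem y))

theorem comm_symm (x y : D) : ⁅y, x⁆ = ⁅x, y⁆ := by
  rw [← commutatorElement_inv, h.inv_e (h.comm_mem x y)]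

theorem comm_mul_left (x y z : D) : ⁅x * y, z⁆ = ⁅x, z⁆ * ⁅y, z⁆ := by
  have h1 : ⁅x * y, z⁆ = (x * ⁅y, z⁆ * x⁻¹) * ⁅x, z⁆ := by
    simp only [commutatorElement_def]; group
  rw [h1, h.central _ (h.comm_mem y z) x, mul_inv_cancel_right, ← h.central _ (h.comm_mem y z)]

theorem comm_mul_right (x y z : D) : ⁅x, y * z⁆ = ⁅x, y⁆ * ⁅x, z⁆ := by
  rw [h.comm_symm (y * z) x, h.comm_mul_left, h.comm_symm x y, h.comm_symm x z]

theorem comm_of_mem {e : D} (he : e ∈ E) (x : D) : ⁅x, e⁆ = 1 :=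
  commutatorElement_eq_one_iff_mul_comm.2 (h.central e he x)

theorem comm_self_inv (x y : D) : ⁅x⁻¹, y⁆ = ⁅x, y⁆ := by
  have h1 := h.comm_mul_left x⁻¹ x y
  rw [inv_mul_cancel, commutatorElement_one_left] at h1
  rw [eq_inv_of_mul_eq_one_left h1.symm, h.inv_e (h.comm_mem x y)]

theorem mul_sq (x y : D) : (x * y) ^ 2 = x ^ 2 * y ^ 2 * ⁅y, x⁆ := by
  have h1 : (x * y) ^ 2 = x * ⁅y, x⁆ * x * (y * y) := by
    rw [pow_two, commutatorElement_def]; group
  rw [h1, h.central _ (h.comm_mem y x) x, mul_assoc ⁅y, x⁆ x x, ← pow_two, ← pow_two, mul_assoc,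
    ← h.central _ (h.comm_mem y x) (x ^ 2 * y ^ 2)]

theorem mul_e_sq (x : D) {e : D} (he : e ∈ E) : (x * e) ^ 2 = x ^ 2 := by
  rw [h.mul_sq, h.sq_e he, mul_one, h.comm_symm, h.comm_of_mem he, mul_one]

theorem sq_eq_of_mem {x y : D} (hxy : x⁻¹ * y ∈ E) : y ^ 2 = x ^ 2 := by
  conv_lhs => rw [← mul_inv_cancel_left x y]
  exact h.mul_e_sq x hxy

theorem normal_of_le {A : Subgroup D} (hA : E ≤ A) : A.Normal :=
  ⟨fun a ha g => by
    have h1 : g * a * g⁻¹ = ⁅g, a⁆ * a := by rw [commutatorElement_def]; group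
    rw [h1]
    exact A.mul_mem (hA (h.comm_mem g a)) ha⟩

theorem isPGroup : IsPGroup 2 D := fun x => ⟨2, by
  rw [show (2 : ℕ) ^ 2 = 2 * 2 from rfl, pow_mul]
  exact h.sq_e (h.sq_mem x)⟩

theorem exists_pow (A : Subgroup D) : ∃ a : ℕ, Nat.card A = 2 ^ a :=
  IsPGroup.iff_card.1 (h.isPGroup.to_subgroup A)

/-! ### Characters of `E` -/

omit h in
/-- A character of `E`, extended by zero. -/
noncomputable def cv (χ : E →* ℤˣ) (x : D) : ℤ := if hx : x ∈ E then (χ ⟨x, hx⟩ : ℤ) else 0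

omit h in
theorem cv_mul (χ : E →* ℤˣ) {x y : D} (hx : x ∈ E) (hy : y ∈ E) : cv χ (x * y) = cv χ x * cv χ y := by
  unfold cv
  rw [dif_pos hx, dif_pos hy, dif_pos (E.mul_mem hx hy), ← Units.val_mul, ← map_mul]
  rfl

omit h in
theorem cv_one (χ : E →* ℤˣ) : cv χ 1 = 1 := by
  unfold cv
  rw [dif_pos E.one_mem]
  show ((χ 1 : ℤˣ) : ℤ) = 1
  rw [map_one, Units.val_one]

omit h in
theorem cv_mul_self (χ : E →* ℤˣ) {x : D} (hx : x ∈ E) : cv χ x * cv χ x = 1 := by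
  unfold cv
  rw [dif_pos hx]
  exact Int.units_coe_mul_self _

theorem exists_char {e : E} (he : e ≠ 1) : ∃ χ : E →* ℤˣ, χ e ≠ 1 := by
  haveI : IsMulCommutative E := ⟨⟨fun a b => Subtype.ext (h.central b b.2 a)⟩⟩
  letI : CommGroup E := { (inferInstance : Group E) with mul_comm := fun a b => Subtype.ext (h.central b b.2 a) }
  letI : Module (ZMod 2) (Additive E) := AddCommGroup.zmodModule (n := 2) fun x => by
    apply Additive.toMul.injective
    exact Subtype.ext (h.sq_e (Additive.toMul x).2)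
  obtain ⟨f, hf⟩ := Module.Projective.exists_dual_ne_zero (ZMod 2) (x := Additive.ofMul e)
    (fun h0 => he (Additive.ofMul.injective h0))
  let s : ZMod 2 → ℤˣ := fun a => if a = 0 then 1 else -1
  have hs : ∀ a b : ZMod 2, s (a + b) = s a * s b := by decide
  refine ⟨MonoidHom.mk' (fun x => s (f (Additive.ofMul x))) fun x y => by
    rw [ofMul_mul, map_add, hs], ?_⟩
  show s (f (Additive.ofMul e)) ≠ 1
  simp only [s, if_neg hf]
  decide

theorem sum_chars {e : E} (he : e ≠ 1) [Fintype (E →* ℤˣ)] : ∑ χ : E →* ℤˣ, (χ e : ℤ) = 0 := by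
  obtain ⟨χ₀, hχ₀⟩ := h.exists_char he
  have h1 : ∑ χ : E →* ℤˣ, (χ e : ℤ) = (χ₀ e : ℤ) * ∑ χ : E →* ℤˣ, (χ e : ℤ) := by
    rw [Finset.mul_sum]
    refine (Fintype.sum_equiv (Equiv.mulLeft χ₀) _ _ fun χ => ?_).symm
    show (χ₀ e : ℤ) * (χ e : ℤ) = ((χ₀ * χ) e : ℤ)
    rw [MonoidHom.mul_apply, Units.val_mul]
  rcases Int.units_eq_one_or (χ₀ e) with h2 | h2
  · exact absurd h2 hχ₀
  · rw [h2, Units.val_neg, Units.val_one] at h1
    omega

omit h in
theorem sum_hom {A : Type*} [Group A] [Fintype A] (f : A → ℤ) (hm : ∀ a b, f (a * b) = f a * f b)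
    {a : A} (ha : f a ≠ 1) : ∑ x, f x = 0 := by
  have h1 : ∑ x, f x = f a * ∑ x, f x := by
    rw [Finset.mul_sum]
    refine (Fintype.sum_equiv (Equiv.mulLeft a) _ _ fun x => ?_).symm
    exact (hm a x).symm
  exact mul_left_eq_self₀.1 h1.symm |>.resolve_left ha

/-! ### The sums -/

omit h in
/-- The sum of a character over the squares of the elements of `A`. -/
noncomputable def S (A : Subgroup D) (χ : E →* ℤˣ) : ℤ := ∑ d : A, cv χ ((d : D) ^ 2)

theorem S_sq (A : Subgroup D) (hA : E ≤ A) (χ : E →* ℤˣ) :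
    S A χ = 0 ∨ ∃ r : ℕ, S A χ ^ 2 = ((Nat.card A * r : ℕ) : ℤ) ∧ Nat.card E ≤ r ∧ r ∣ Nat.card A := by
  let R : Subgroup A :=
    { carrier := {u | ∀ d : A, cv χ ⁅(u : D), (d : D)⁆ = 1}
      one_mem' := fun d => by simp [cv_one]
      mul_mem' := fun {u v} hu hv d => by
        rw [Subgroup.coe_mul, h.comm_mul_left, cv_mul χ (h.comm_mem _ _) (h.comm_mem _ _), hu d, hv d, mul_one]
      inv_mem' := fun {u} hu d => by rw [InvMemClass.coe_inv, h.comm_self_inv]; exact hu d }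
  have key : S A χ ^ 2 = (Nat.card A : ℤ) * ∑ u : R, cv χ (((u : A) : D) ^ 2) := by
    have e1 : S A χ ^ 2 = ∑ d : A, ∑ u : A, cv χ ((u : D) ^ 2) * cv χ ⁅(u : D), (d : D)⁆ := by
      rw [pow_two, S, Finset.sum_mul]
      refine Finset.sum_congr rfl fun d _ => ?_
      rw [Finset.mul_sum]
      refine (Fintype.sum_equiv (Equiv.mulLeft d) _ _ fun u => ?_).symm
      show cv χ ((u : D) ^ 2) * cv χ ⁅(u : D), (d : D)⁆ = cv χ ((d : D) ^ 2) * cv χ (((d * u : A) : D) ^ 2)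
      rw [Subgroup.coe_mul, h.mul_sq, cv_mul χ (E.mul_mem (h.sq_mem _) (h.sq_mem _)) (h.comm_mem _ _),
        cv_mul χ (h.sq_mem _) (h.sq_mem _), ← mul_assoc, ← mul_assoc, cv_mul_self χ (h.sq_mem _), one_mul]
    rw [e1, Finset.sum_comm]
    simp only [← Finset.mul_sum]
    have e2 : ∀ u : A, ∑ d : A, cv χ ⁅(u : D), (d : D)⁆ = if u ∈ R then (Nat.card A : ℤ) else 0 := by
      intro u
      split_ifs with hu
      · rw [Finset.sum_congr rfl (fun d _ => hu d), Finset.sum_const, Finset.card_univ, Nat.card_eq_fintype_card,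
          nsmul_eq_mul, mul_one]
      · obtain ⟨d, hd⟩ : ∃ d : A, cv χ ⁅(u : D), (d : D)⁆ ≠ 1 := not_forall.1 hu
        exact sum_hom (A := A) (fun d => cv χ ⁅(u : D), (d : D)⁆) (fun a b => by
          rw [Subgroup.coe_mul, h.comm_mul_right, cv_mul χ (h.comm_mem _ _) (h.comm_mem _ _)]) hd
    simp only [e2, mul_ite, mul_zero]
    rw [← Finset.sum_filter, Finset.mul_sum]
    rw [Finset.sum_subtype (p := fun x => x ∈ R) (F := inferInstance) (Finset.univ.filter fun x => x ∈ R)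
      (fun x => by simp)]
    exact Finset.sum_congr rfl fun x _ => mul_comm _ _
  by_cases htriv : ∀ u : R, cv χ (((u : A) : D) ^ 2) = 1
  · refine Or.inr ⟨Nat.card R, ?_, ?_, R.card_subgroup_dvd_card⟩
    · rw [key, Finset.sum_congr rfl (fun u _ => htriv u), Finset.sum_const, Finset.card_univ,
        ← Nat.card_eq_fintype_card, nsmul_eq_mul, mul_one, Nat.cast_mul]
    · refine Nat.card_le_card_of_injective (fun e : E => (⟨⟨e, hA e.2⟩, fun d => ?_⟩ : R)) ?_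
      · rw [h.comm_symm, h.comm_of_mem e.2, cv_one]
      · intro a b hab
        exact Subtype.ext (congrArg (fun x : R => ((x : A) : D)) hab)
  · obtain ⟨u, hu⟩ := not_forall.1 htriv
    refine Or.inl ?_
    have h0 := sum_hom (A := R) (fun u => cv χ (((u : A) : D) ^ 2)) (fun a b => by
      rw [Subgroup.coe_mul, Subgroup.coe_mul, h.mul_sq, cv_mul χ (E.mul_mem (h.sq_mem _) (h.sq_mem _))
        (h.comm_mem _ _), cv_mul χ (h.sq_mem _) (h.sq_mem _), b.2 (a : A), mul_one]) hu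
    rw [h0, mul_zero] at key
    exact pow_eq_zero_iff (two_ne_zero) |>.1 key

omit h in
/-- The number of square roots. -/
noncomputable def fib (e : D) : ℕ := (Finset.univ.filter fun d : D => d ^ 2 = e).card

omit h in
theorem fib_eq (e : D) : fib e = Nat.card {d : D // d ^ 2 = e} := by
  rw [Nat.card_eq_fintype_card, Fintype.card_subtype]; rfl

theorem fib_one : fib (1 : D) = Nat.card E := by
  rw [fib_eq]
  exact Nat.card_congr (Equiv.subtypeEquivRight fun x => h.inv_iff x)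

theorem card_le_fib (d : D) : Nat.card E ≤ fib (d ^ 2) := by
  rw [fib_eq]
  refine Nat.card_le_card_of_injective (fun e : E => (⟨d * e, h.mul_e_sq d e.2⟩ : {x : D // x ^ 2 = d ^ 2})) ?_
  intro a b hab
  exact Subtype.ext (mul_left_cancel (congrArg Subtype.val hab))

theorem exists_nontrivial : ∃ e ∈ E, e ≠ 1 := by
  by_contra hall
  push Not at hall
  have := h.big
  rw [(Subgroup.eq_bot_iff_forall E).2 hall, Subgroup.card_bot] at this
  omega

theorem sq_sum (g : D → ℤ) : ∑ d : D, g (d ^ 2) = ∑ e : E, (fib (e : D) : ℤ) * g e := by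
  rw [← Finset.sum_fiberwise Finset.univ (fun d : D => (⟨d ^ 2, h.sq_mem d⟩ : E))]
  refine Finset.sum_congr rfl fun e _ => ?_
  have h1 : ∀ d ∈ Finset.univ.filter (fun d : D => (⟨d ^ 2, h.sq_mem d⟩ : E) = e), g (d ^ 2) = g e := by
    intro d hd
    rw [show d ^ 2 = (e : D) from congrArg Subtype.val (Finset.mem_filter.1 hd).2]
  rw [Finset.sum_congr rfl h1, Finset.sum_const, nsmul_eq_mul]
  congr 2
  rw [fib]
  congr 1
  ext d
  simp [Subtype.ext_iff]

/-- The possible orders of `D`. -/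
theorem card_cases (hne : ∃ d : D, d ∉ E) :
    (∀ d : D, d ∉ E → fib (d ^ 2) = Nat.card E) ∨
      Nat.card D = Nat.card E ^ 3 ∧ ∀ e ∈ E, e ≠ 1 → fib e = Nat.card E + Nat.card E ^ 2 := by
  obtain ⟨d₀, hd₀⟩ := hne
  have hd₁ : d₀ ^ 2 ≠ 1 := fun h0 => hd₀ ((h.inv_iff d₀).1 h0)
  set c := fib (d₀ ^ 2) with hc
  have hconst : ∀ e ∈ E, e ≠ 1 → fib e = c := by
    intro e he he1
    rw [hc, fib_eq, fib_eq]
    exact h.fibres e he he1 _ (h.sq_mem _) hd₁
  obtain ⟨k, hk⟩ := h.exists_pow E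
  obtain ⟨n, hn⟩ := IsPGroup.iff_card.1 h.isPGroup
  have hce : 2 ^ k ≤ c := hk ▸ h.card_le_fib d₀
  have hval : ∀ χ : E →* ℤˣ, ∑ d : D, cv χ (d ^ 2) = (2 : ℤ) ^ k + (c : ℤ) * (∑ e : E, cv χ e - 1) := by
    intro χ
    have h2 : ∑ e ∈ ({1} : Finset E)ᶜ, (fib (e : D) : ℤ) * cv χ e = (c : ℤ) * ∑ e ∈ ({1} : Finset E)ᶜ, cv χ (e : D) := by
      rw [Finset.mul_sum]
      refine Finset.sum_congr rfl fun e he => ?_
      have he1 : (e : D) ≠ 1 := fun h1 => (Finset.mem_compl.1 he) (Finset.mem_singleton.2 (Subtype.ext (h1.trans E.coe_one.symm)))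
      rw [hconst e e.2 he1]
    rw [h.sq_sum (cv χ), Fintype.sum_eq_add_sum_compl (1 : E) (fun e : E => (fib (e : D) : ℤ) * cv χ e),
      Fintype.sum_eq_add_sum_compl (1 : E) (fun e : E => cv χ (e : D)), h2, Subgroup.coe_one, h.fib_one, cv_one, hk]
    push_cast
    ring
  have hD := hval 1
  have e1 : ∀ x : D, x ∈ E → cv (1 : E →* ℤˣ) x = 1 := fun x hx => by simp [cv, hx]
  rw [Finset.sum_congr rfl (fun d _ => e1 _ (h.sq_mem d)), Finset.sum_congr rfl (fun (e : E) _ => e1 _ e.2),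
    Finset.sum_const, Finset.sum_const, Finset.card_univ, Finset.card_univ, ← Nat.card_eq_fintype_card,
    ← Nat.card_eq_fintype_card, hn, hk, nsmul_eq_mul, nsmul_eq_mul, mul_one, mul_one] at hD
  push_cast at hD
  rcases eq_or_lt_of_le hce with hceq | hlt
  · left
    intro d hd
    rw [hconst _ (h.sq_mem d) (fun h0 => hd ((h.inv_iff d).1 h0)), ← hceq, hk]
  right
  obtain ⟨e₀, he₀, he₀1⟩ := h.exists_nontrivial
  obtain ⟨χ, hχ⟩ := h.exists_char (e := ⟨e₀, he₀⟩) (fun h0 => he₀1 (congrArg Subtype.val h0))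
  have hS := hval χ
  have hsum0 : ∑ e : E, cv χ e = 0 := sum_hom (A := E) (fun e => cv χ e)
    (fun a b => by rw [Subgroup.coe_mul, cv_mul χ a.2 b.2]) (a := ⟨e₀, he₀⟩) (by
      show cv χ e₀ ≠ 1
      unfold cv
      rw [dif_pos he₀]
      exact fun h0 => hχ (Units.ext h0))
  rw [hsum0] at hS
  have hST : S (⊤ : Subgroup D) χ = ∑ d : D, cv χ (d ^ 2) :=
    Fintype.sum_equiv Subgroup.topEquiv.toEquiv _ _ fun _ => rfl
  rcases h.S_sq ⊤ le_top χ with h0 | ⟨r, hr, -, hrd⟩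
  · rw [hST, hS] at h0
    have : (2 : ℤ) ^ k = c := by linarith
    exact absurd (by exact_mod_cast this : 2 ^ k = c) hlt.ne
  rw [Subgroup.card_top, hn] at hr hrd
  obtain ⟨i, -, rfl⟩ := (Nat.dvd_prime_pow Nat.prime_two).1 hrd
  rw [hST, hS] at hr
  have hsq : (c - 2 ^ k) ^ 2 = 2 ^ (n + i) := by
    have h1 : ((c - 2 ^ k : ℕ) : ℤ) ^ 2 = ((2 ^ (n + i) : ℕ) : ℤ) := by
      rw [Nat.cast_sub hlt.le]
      push_cast
      rw [pow_add]
      push_cast at hr
      linarith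
    exact_mod_cast h1
  obtain ⟨j, -, hj⟩ := (Nat.dvd_prime_pow Nat.prime_two).1
    ((dvd_pow_self (c - 2 ^ k) two_ne_zero).trans hsq.dvd)
  have hcj : (c : ℤ) = 2 ^ k + 2 ^ j := by
    have : c = 2 ^ k + 2 ^ j := by omega
    exact_mod_cast this
  have hN : (2 : ℤ) ^ n = 2 ^ (2 * k) + 2 ^ j * (2 ^ k - 1) := by
    rw [hD, hcj, two_mul, pow_add]; ring
  have hk2 : 2 ≤ k := by
    by_contra hk2
    have := Nat.pow_le_pow_right (show 0 < 2 by norm_num) (show k ≤ 1 by omega)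
    have := h.big
    omega
  have hk1 : (1 : ℤ) ≤ 2 ^ k := one_le_pow₀ (by norm_num)
  have hodd : ∀ m : ℕ, m ≠ 0 → ¬ (2 : ℤ) ∣ (2 ^ m - 1) := by
    intro m hm hd
    have h1 : (2 : ℤ) ∣ 2 ^ m := dvd_pow_self 2 hm
    have h2 := dvd_sub h1 hd
    norm_num at h2
  have hnpow : ∀ (m : ℕ) (x : ℤ), (2 : ℤ) ^ n = 2 ^ m * x → ¬ (2 : ℤ) ∣ x → x = 1 := by
    intro m x hx hxo
    rcases lt_trichotomy n m with hnm | hnm | hnm
    · exfalso
      obtain ⟨d, rfl⟩ : ∃ d, m = n + (d + 1) := ⟨m - n - 1, by omega⟩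
      rw [pow_add, mul_assoc] at hx
      have h1 : (1 : ℤ) = 2 ^ (d + 1) * x := mul_left_cancel₀ (pow_ne_zero n two_ne_zero) (by rw [mul_one]; exact hx)
      have h2 : (2 : ℤ) ∣ 1 := h1 ▸ (dvd_pow_self 2 (Nat.succ_ne_zero d)).mul_right x
      norm_num at h2
    · subst hnm
      exact (mul_left_cancel₀ (pow_ne_zero n two_ne_zero) (by rw [mul_one]; exact hx)).symm
    · exfalso
      obtain ⟨d, rfl⟩ : ∃ d, n = m + (d + 1) := ⟨n - m - 1, by omega⟩
      rw [pow_add] at hx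
      exact hxo (mul_left_cancel₀ (pow_ne_zero m two_ne_zero) hx ▸ dvd_pow_self 2 (Nat.succ_ne_zero d))
  rcases lt_trichotomy j (2 * k) with hjk | hjk | hjk
  · exfalso
    obtain ⟨d, hd⟩ : ∃ d, 2 * k = j + (d + 1) := ⟨2 * k - j - 1, by omega⟩
    have h1 : (2 : ℤ) ^ n = 2 ^ j * (2 ^ (d + 1) + (2 ^ k - 1)) := by rw [hN, hd, pow_add]; ring
    have h2 := hnpow _ _ h1 (fun hdv => hodd k (by omega) ((dvd_add_right (dvd_pow_self 2 (Nat.succ_ne_zero d))).1 hdv))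
    have : (2 : ℤ) ≤ 2 ^ (d + 1) := le_self_pow₀ (by norm_num) (Nat.succ_ne_zero d)
    linarith
  · refine ⟨?_, fun e he he1 => ?_⟩
    · have h1 : (2 : ℤ) ^ n = 2 ^ (3 * k) := by
        rw [hN, hjk, show 3 * k = 2 * k + k by ring, pow_add (2 : ℤ) (2 * k) k]; ring
      have h2 : 2 ^ n = 2 ^ (3 * k) := by exact_mod_cast h1
      rw [hn, hk, h2, ← pow_mul, mul_comm k 3]
    · rw [hconst e he he1, hk, ← pow_mul, mul_comm k 2, ← hjk]
      omega
  · exfalso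
    obtain ⟨d, hd⟩ : ∃ d, j = 2 * k + (d + 1) := ⟨j - 2 * k - 1, by omega⟩
    have h1 : (2 : ℤ) ^ n = 2 ^ (2 * k) * (1 + 2 ^ (d + 1) * (2 ^ k - 1)) := by
      rw [hN, hd, pow_add]; ring
    have h2 := hnpow _ _ h1 (fun hdv => by
      have h3 := (dvd_add_left ((dvd_pow_self (2 : ℤ) (Nat.succ_ne_zero d)).mul_right _)).1 hdv
      norm_num at h3)
    have : (2 : ℤ) ≤ 2 ^ k := le_self_pow₀ (by norm_num) (by omega)
    have : (2 : ℤ) ≤ 2 ^ (d + 1) := le_self_pow₀ (by norm_num) (Nat.succ_ne_zero d)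
    nlinarith

/-! ### Operators -/

omit h in
/-- `τ` is trivial modulo `E`. -/
def Near (E : Subgroup D) (τ : MulAut D) : Prop := ∀ d : D, d⁻¹ * τ d ∈ E

omit h in
theorem exact_of_mod {τ : MulAut D} (hfix : ∀ e ∈ E, τ e = e) (ho : Odd (orderOf τ))
    (hsq : ∀ e ∈ E, e ^ 2 = 1) {d : D} (hd : d⁻¹ * τ d ∈ E) : τ d = d := by
  have hpow : ∀ i : ℕ, (τ ^ i) d = d * (d⁻¹ * τ d) ^ i := by
    intro i
    induction i with
    | zero => simp
    | succ i ih =>
      rw [pow_succ', MulAut.mul_apply, ih, map_mul, hfix _ (E.pow_mem hd i), pow_succ', ← mul_assoc,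
        mul_inv_cancel_left]
  have h1 := hpow (orderOf τ)
  rw [pow_orderOf_eq_one, MulAut.one_apply] at h1
  obtain ⟨m, hm⟩ := ho
  rw [hm, pow_succ, pow_mul, hsq _ hd, one_pow, one_mul, mul_inv_cancel_left] at h1
  exact h1.symm

/-- Every nontrivial element of odd order trivial on `E` has fixed points only in `E`. -/
theorem fpf (hcard : Nat.card D = Nat.card E ^ 3)
    (hfib : ∀ e ∈ E, e ≠ 1 → fib e = Nat.card E + Nat.card E ^ 2)
    {τ : MulAut D} (hfix : ∀ e ∈ E, τ e = e) (ho : Odd (orderOf τ)) (hne : τ ≠ 1) {d : D} (hd : τ d = d) :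
    d ∈ E := by
  by_contra hdE
  let C : Subgroup D := τ.toMonoidHom.eqLocus (MonoidHom.id D)
  have hEC : E ≤ C := fun e he => hfix e he
  set A := Subgroup.closure (Set.range (fun x : D => x⁻¹ * τ x) ∪ (E : Set D)) with hA
  have hEA : E ≤ A := fun e he => Subgroup.subset_closure (Or.inr he)
  haveI hAn : A.Normal := h.normal_of_le hEA
  have hmemA : ∀ x : D, x⁻¹ * τ x ∈ A := fun x => Subgroup.subset_closure (Or.inl ⟨x, rfl⟩)
  have hAC : ∀ a ∈ A, ∀ c ∈ C, ⁅a, c⁆ = 1 := by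
    intro a ha c hc
    induction ha using Subgroup.closure_induction with
    | mem x hx =>
      rcases hx with ⟨y, rfl⟩ | hx
      · show ⁅y⁻¹ * τ y, c⁆ = 1
        have hc' : τ c = c := hc
        have h1 : ⁅τ y, c⁆ = ⁅y, c⁆ := by
          conv_lhs => rw [← hc', ← map_commutatorElement]
          exact hfix _ (h.comm_mem y c)
        rw [h.comm_mul_left, h.comm_self_inv, h1, ← pow_two, h.sq_e (h.comm_mem y c)]
      · rw [h.comm_symm]; exact h.comm_of_mem hx c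
    | one => exact commutatorElement_one_left c
    | mul x y _ _ hx hy => rw [h.comm_mul_left, hx, hy, one_mul]
    | inv x _ hx => rw [h.comm_self_inv, hx]
  have hprod : ∀ x : D, ∃ a ∈ A, ∃ c ∈ C, a * c = x := by
    intro x
    obtain ⟨P, hP0, hPs⟩ : ∃ P : ℕ → D, P 0 = 1 ∧ ∀ i, P (i + 1) = x * τ (P i) :=
      ⟨fun i => Nat.rec 1 (fun _ w => x * τ w) i, rfl, fun _ => rfl⟩
    have h1 : ∀ i, P (i + 1) = P i * (τ ^ i) x := by
      intro i
      induction i with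
      | zero => rw [hPs, hP0, map_one, mul_one, one_mul, pow_zero, MulAut.one_apply]
      | succ i ih =>
        conv_lhs => rw [hPs, ih, map_mul, ← mul_assoc, ← hPs]
        rw [pow_succ', MulAut.mul_apply]
    have h2 : ∀ i, (x ^ i)⁻¹ * P i ∈ A := by
      intro i
      induction i with
      | zero => rw [hP0]; simp
      | succ i ih =>
        have h3 : (x ^ (i + 1))⁻¹ * P (i + 1) = (x ^ i)⁻¹ * P i * ((P i)⁻¹ * τ (P i)) := by
          rw [hPs, pow_succ']; group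
        rw [h3]
        exact A.mul_mem ih (hmemA _)
    set n := orderOf τ with hn
    have hc : P n ∈ C := by
      show τ (P n) = P n
      refine exact_of_mod hfix ho (fun e he => h.sq_e he) ?_
      have h3 : τ (P n) = x⁻¹ * P (n + 1) := by rw [hPs]; group
      rw [h3, h1, pow_orderOf_eq_one, MulAut.one_apply]
      have h4 := h.comm_mem (P n)⁻¹ x⁻¹
      rw [commutatorElement_def, inv_inv, inv_inv] at h4
      simpa [mul_assoc] using h4
    obtain ⟨m, hm⟩ := ho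
    refine ⟨x * (P n)⁻¹, ?_, P n, hc, by group⟩
    have h3 := A.inv_mem (h2 n)
    rw [mul_inv_rev, inv_inv] at h3
    have h5 : P n * ((P n)⁻¹ * x ^ n) * (P n)⁻¹ ∈ A := hAn.conj_mem _ h3 (P n)
    have h6 : x * (P n)⁻¹ = (x ^ (2 * m))⁻¹ * (P n * ((P n)⁻¹ * x ^ n) * (P n)⁻¹) := by
      rw [hm]; group
    rw [h6]
    exact A.mul_mem (A.inv_mem (hEA (by rw [pow_mul]; exact E.pow_mem (h.sq_mem x) m))) h5
  have hint : ∀ x, x ∈ A → x ∈ C → x ∈ E := by
    intro x hxA hxC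
    refine h.center_le (Subgroup.mem_center_iff.2 fun y => ?_)
    obtain ⟨a, ha, c, hc, rfl⟩ := hprod y
    have h1 : ⁅a * c, x⁆ = 1 := by
      rw [h.comm_mul_left, hAC a ha x hxC, h.comm_symm, hAC x hxA c hc, one_mul]
    exact commutatorElement_eq_one_iff_mul_comm.1 h1
  have hpair : ∀ g : D → ℤ, ∑ a : A, ∑ c : C, g ((a : D) * c) = (Nat.card E : ℤ) * ∑ x : D, g x := by
    intro g
    rw [← Fintype.sum_prod_type' (f := fun (a : A) (c : C) => g ((a : D) * c)),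
      ← Finset.sum_fiberwise Finset.univ (fun z : A × C => (z.1 : D) * z.2), Finset.mul_sum]
    refine Finset.sum_congr rfl fun x _ => ?_
    rw [Finset.sum_congr rfl (fun z hz => congrArg g (Finset.mem_filter.1 hz).2), Finset.sum_const, nsmul_eq_mul]
    congr 1
    obtain ⟨a₀, ha₀, c₀, hc₀, hx⟩ := hprod x
    rw [Nat.cast_inj, Nat.card_eq_fintype_card, ← Finset.card_univ]
    refine (Finset.card_bij
      (fun (e : E) _ => ((⟨a₀ * e, A.mul_mem ha₀ (hEA e.2)⟩ : A), (⟨(e : D)⁻¹ * c₀, C.mul_mem (C.inv_mem (hEC e.2)) hc₀⟩ : C)))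
      (fun e _ => ?_) (fun e _ e' _ he => ?_) (fun z hz => ?_)).symm
    · refine Finset.mem_filter.2 ⟨Finset.mem_univ _, ?_⟩
      show a₀ * e * ((e : D)⁻¹ * c₀) = x
      rw [← hx]; group
    · exact Subtype.ext (mul_left_cancel (congrArg (fun z : A × C => (z.1 : D)) he))
    · have hz' : (z.1 : D) * z.2 = a₀ * c₀ := (Finset.mem_filter.1 hz).2.trans hx.symm
      have h3 : a₀⁻¹ * (z.1 : D) = c₀ * (z.2 : D)⁻¹ := by
        have : a₀⁻¹ * ((z.1 : D) * z.2) * (z.2 : D)⁻¹ = a₀⁻¹ * (a₀ * c₀) * (z.2 : D)⁻¹ := by rw [hz']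
        simpa [mul_assoc] using this
      have h4 : a₀⁻¹ * (z.1 : D) ∈ E := hint _ (A.mul_mem (A.inv_mem ha₀) z.1.2)
        (h3 ▸ C.mul_mem hc₀ (C.inv_mem z.2.2))
      refine ⟨⟨_, h4⟩, Finset.mem_univ _, Prod.ext (Subtype.ext ?_) (Subtype.ext ?_)⟩
      · show a₀ * (a₀⁻¹ * (z.1 : D)) = z.1
        group
      · show (a₀⁻¹ * (z.1 : D))⁻¹ * c₀ = z.2
        rw [h3]; group
  obtain ⟨k, hk⟩ := h.exists_pow E
  obtain ⟨a, ha⟩ := h.exists_pow A
  obtain ⟨b, hb⟩ := h.exists_pow C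
  have hab : a + b = 4 * k := by
    have h1 := hpair (fun _ => 1)
    simp only [Finset.sum_const, Finset.card_univ, ← Nat.card_eq_fintype_card, nsmul_eq_mul, mul_one] at h1
    rw [hk, ha, hb, hcard, hk] at h1
    have h2 : 2 ^ (a + b) = 2 ^ (4 * k) := by
      rw [pow_add, show 4 * k = k + k * 3 by ring, pow_add, pow_mul]
      exact_mod_cast h1
    exact Nat.pow_right_injective le_rfl h2
  have hak : k < a := by
    have hlt : E < A := lt_of_le_of_ne hEA fun hEA' => hne (MulEquiv.ext fun x =>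
      exact_of_mod hfix ho (fun e he => h.sq_e he) (hEA' ▸ hmemA x))
    have h1 := card_lt_of_lt hlt
    rw [hk, ha] at h1
    exact (Nat.pow_lt_pow_iff_right one_lt_two).1 h1
  have hbk : k < b := by
    have h1 := card_lt_of_lt (lt_of_le_of_ne hEC fun hEC' => hdE (hEC' ▸ (hd : d ∈ C)))
    rw [hk, hb] at h1
    exact (Nat.pow_lt_pow_iff_right one_lt_two).1 h1
  haveI : Finite (E →* ℤˣ) := Finite.of_injective _ DFunLike.coe_injective
  letI : Fintype (E →* ℤˣ) := Fintype.ofFinite _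
  have hEsum : ∀ χ : E →* ℤˣ, χ ≠ 1 → ∑ e : E, cv χ e = 0 := by
    intro χ hχ
    obtain ⟨e₀, he₀⟩ : ∃ e₀ : E, χ e₀ ≠ 1 := by
      by_contra hall
      push Not at hall
      exact hχ (MonoidHom.ext hall)
    refine sum_hom (A := E) (fun e => cv χ e) (fun a b => by rw [Subgroup.coe_mul, cv_mul χ a.2 b.2]) (a := e₀) ?_
    show cv χ e₀ ≠ 1
    unfold cv
    rw [dif_pos e₀.2]
    exact fun h0 => he₀ (Units.ext h0)
  have hcvE : ∀ (χ : E →* ℤˣ) (e : E), cv χ e = (χ e : ℤ) := fun χ e => by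
    unfold cv; rw [dif_pos e.2]
  have hX : (Fintype.card (E →* ℤˣ) : ℤ) = 2 ^ k := by
    have h1 : ∑ χ : E →* ℤˣ, ∑ e : E, cv χ e = (2 : ℤ) ^ k := by
      rw [Fintype.sum_eq_single (1 : E →* ℤˣ) (fun χ hχ => hEsum χ hχ)]
      simp only [hcvE, MonoidHom.one_apply, Units.val_one, Finset.sum_const, Finset.card_univ,
        ← Nat.card_eq_fintype_card, hk, nsmul_eq_mul, mul_one]
      push_cast; rfl
    rw [Finset.sum_comm, Fintype.sum_eq_single (1 : E) (fun e he => by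
      rw [Finset.sum_congr rfl (fun χ _ => hcvE χ e)]; exact h.sum_chars he)] at h1
    simpa [hcvE, cv_one] using h1
  -- the value of `|S A χ|`
  have hSA : ∀ χ : E →* ℤˣ, χ ≠ 1 → S A χ ^ 2 = 2 ^ (a + k) := by
    intro χ hχ
    have hSD : ∑ x : D, cv χ (x ^ 2) = -(2 : ℤ) ^ (2 * k) := by
      rw [h.sq_sum (cv χ), Fintype.sum_eq_add_sum_compl (1 : E) (fun e : E => (fib (e : D) : ℤ) * cv χ e),
        Finset.sum_congr rfl (fun (e : E) he => by
          have he1 : (e : D) ≠ 1 := fun h1 => (Finset.mem_compl.1 he) (Finset.mem_singleton.2 (Subtype.ext (h1.trans E.coe_one.symm)))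
          rw [hfib e e.2 he1]),
        ← Finset.mul_sum, Subgroup.coe_one, h.fib_one, hk, cv_one]
      have h1 := hEsum χ hχ
      rw [Fintype.sum_eq_add_sum_compl (1 : E) (fun e : E => cv χ (e : D)), Subgroup.coe_one, cv_one] at h1
      rw [show ∑ e ∈ ({1} : Finset E)ᶜ, cv χ (e : D) = -1 by linarith]
      push_cast
      ring
    have hmul : S A χ * S C χ = -(2 : ℤ) ^ (3 * k) := by
      have h1 := hpair (fun x => cv χ (x ^ 2))
      rw [hSD, hk] at h1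
      rw [S, S, Finset.sum_mul]
      simp only [Finset.mul_sum]
      rw [Finset.sum_congr rfl (fun (x : A) _ => Finset.sum_congr rfl (fun (y : C) _ => ?_)), h1]
      · push_cast
        rw [show 3 * k = k + 2 * k by ring, pow_add (2 : ℤ) k]; ring
      · rw [h.mul_sq, h.comm_symm, hAC x x.2 y y.2, mul_one, cv_mul χ (h.sq_mem _) (h.sq_mem _)]
    have hne0 : S A χ ≠ 0 ∧ S C χ ≠ 0 := by
      constructor <;> intro h0 <;> rw [h0] at hmul <;> simp at hmul
    obtain ⟨r₁, hr₁, hr₁k, hr₁d⟩ := (h.S_sq A hEA χ).resolve_left hne0.1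
    obtain ⟨r₂, hr₂, hr₂k, -⟩ := (h.S_sq C hEC χ).resolve_left hne0.2
    have h2 : (S A χ * S C χ) ^ 2 = 2 ^ (6 * k) := by
      rw [hmul, neg_sq, ← pow_mul]; congr 1; ring
    rw [mul_pow, hr₁, hr₂, ha, hb] at h2
    rw [hk] at hr₁k hr₂k
    have h4 : 2 ^ a * r₁ * (2 ^ b * r₂) = 2 ^ (6 * k) := by exact_mod_cast h2
    have h5 : r₁ * r₂ = 2 ^ k * 2 ^ k := by
      have e6 : 6 * k = a + b + (k + k) := by omega
      rw [e6, pow_add, pow_add, pow_add] at h4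
      refine Nat.eq_of_mul_eq_mul_left (show 0 < 2 ^ a * 2 ^ b by positivity) ?_
      linarith
    have h6 : r₁ = 2 ^ k := by
      have : 0 < 2 ^ k := by positivity
      nlinarith
    rw [hr₁, ha, h6, pow_add]
    push_cast
    rfl
  obtain ⟨χ₁, hχ₁⟩ : ∃ χ : E →* ℤˣ, χ ≠ 1 := by
    obtain ⟨e₀, he₀, he₀1⟩ := h.exists_nontrivial
    obtain ⟨χ, hχ⟩ := h.exists_char (e := ⟨e₀, he₀⟩) (fun h0 => he₀1 (congrArg Subtype.val h0))
    exact ⟨χ, fun h0 => hχ (by rw [h0]; rfl)⟩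
  obtain ⟨j, hj⟩ : ∃ j, a + k = 2 * j := by
    have h1 := congrArg Int.natAbs (hSA χ₁ hχ₁)
    rw [Int.natAbs_pow, Int.natAbs_pow] at h1
    obtain ⟨i, -, hi⟩ := (Nat.dvd_prime_pow Nat.prime_two).1
      ((dvd_pow_self (S A χ₁).natAbs two_ne_zero).trans h1.dvd)
    rw [hi, ← pow_mul] at h1
    exact ⟨i, by have := Nat.pow_right_injective (a := 2) le_rfl h1; omega⟩
  have hpm : ∀ χ : E →* ℤˣ, χ ≠ 1 → ∃ u : ℤ, ¬ (2 : ℤ) ∣ u ∧ S A χ = 2 ^ j * u := by
    intro χ hχ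
    have h1 := hSA χ hχ
    rw [hj, mul_comm, pow_mul, sq_eq_sq_iff_eq_or_eq_neg] at h1
    rcases h1 with h1 | h1
    · exact ⟨1, by norm_num, by rw [h1, mul_one]⟩
    · exact ⟨-1, by norm_num, by rw [h1]; ring⟩
  choose! u hu hu' using hpm
  have htot : ∑ χ : E →* ℤˣ, S A χ = 2 ^ (2 * k) := by
    simp only [S]
    rw [Finset.sum_comm]
    have h1 : ∀ x : A, ∑ χ : E →* ℤˣ, cv χ ((x : D) ^ 2) = if (x : D) ∈ E then (2 : ℤ) ^ k else 0 := by
      intro x
      split_ifs with hx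
      · rw [Finset.sum_congr rfl (fun χ _ => show cv χ ((x : D) ^ 2) = 1 by rw [h.sq_e hx, cv_one]),
          Finset.sum_const, Finset.card_univ, nsmul_eq_mul, mul_one, hX]
      · rw [Finset.sum_congr rfl (fun χ _ => hcvE χ ⟨(x : D) ^ 2, h.sq_mem x⟩)]
        exact h.sum_chars fun h0 => hx ((h.inv_iff _).1 (congrArg Subtype.val h0))
    rw [Finset.sum_congr rfl (fun x _ => h1 x), ← Finset.sum_filter, Finset.sum_const, nsmul_eq_mul]
    have h2 : (Finset.univ.filter fun x : A => (x : D) ∈ E).card = 2 ^ k := by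
      rw [← Fintype.card_subtype, ← Nat.card_eq_fintype_card, ← hk]
      exact Nat.card_congr
        { toFun := fun x => (⟨(x.1 : D), x.2⟩ : E)
          invFun := fun e => ⟨⟨e, hEA e.2⟩, e.2⟩
          left_inv := fun _ => rfl
          right_inv := fun _ => rfl }
    rw [h2, two_mul, pow_add]
    push_cast
    rfl
  rw [Fintype.sum_eq_add_sum_compl (1 : E →* ℤˣ), Finset.sum_congr rfl (fun χ hχ => hu' χ (by simpa using hχ)),
    ← Finset.mul_sum] at htot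
  have hS1 : S A (1 : E →* ℤˣ) = 2 ^ a := by
    have e1 : ∀ x : A, cv (1 : E →* ℤˣ) ((x : D) ^ 2) = 1 := fun x => by simp [cv, h.sq_mem]
    rw [S, Finset.sum_congr rfl (fun x _ => e1 x), Finset.sum_const, Finset.card_univ, nsmul_eq_mul, mul_one,
      ← Nat.card_eq_fintype_card, ha]
    push_cast; rfl
  rw [hS1] at htot
  have hmod : ∀ χ ∈ ({1} : Finset (E →* ℤˣ))ᶜ, ((u χ : ℤ) : ZMod 2) = 1 := fun χ hχ => by
    have h1 := hu χ (by simpa using hχ)
    rw [show (2 : ℤ) = ((2 : ℕ) : ℤ) from rfl, ← ZMod.intCast_zmod_eq_zero_iff_dvd] at h1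
    generalize ((u χ : ℤ) : ZMod 2) = z at h1
    revert h1; revert z; decide
  obtain ⟨d₁, hd₁⟩ : ∃ d₁, a = j + (d₁ + 1) := ⟨a - j - 1, by omega⟩
  obtain ⟨d₂, hd₂⟩ : ∃ d₂, 2 * k = j + (d₂ + 1) := ⟨2 * k - j - 1, by omega⟩
  rw [hd₁, hd₂, pow_add _ j, pow_add _ j, ← mul_add] at htot
  have hfin := congrArg (fun z : ℤ => (z : ZMod 2)) (mul_left_cancel₀ (pow_ne_zero j (two_ne_zero (α := ℤ))) htot)
  push_cast at hfin
  rw [Finset.sum_congr rfl hmod, Finset.sum_const, Finset.card_compl, Finset.card_singleton, nsmul_eq_mul, mul_one,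
    show (2 : ZMod 2) = 0 from rfl, zero_pow (Nat.succ_ne_zero _), zero_pow (Nat.succ_ne_zero _), zero_add] at hfin
  have hX' : Fintype.card (E →* ℤˣ) = 2 ^ k := by exact_mod_cast hX
  rw [hX', Nat.cast_sub (Nat.one_le_two_pow), Nat.cast_pow, show ((2 : ℕ) : ZMod 2) = 0 from rfl,
    zero_pow (by omega), Nat.cast_one] at hfin
  revert hfin; decide

omit h in
theorem pow_fix {Hs : Subgroup (MulAut D)} (hHfix : ∀ g ∈ Hs, ∀ e ∈ E, g e = e) {g : MulAut D} (hg : g ∈ Hs)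
    {d : D} (hd : d⁻¹ * g d ∈ E) (hsq : ∀ e ∈ E, e ^ 2 = 1) (hodd : Odd (orderOf g)) : g d = d :=
  exact_of_mod (hHfix g hg) hodd hsq hd

/-- The two-sided inverse of an automorphism fixing `E` fixes `E`. -/
theorem fix_inv {τ : MulAut D} (hfix : ∀ e ∈ E, τ e = e) : ∀ e ∈ E, τ⁻¹ e = e := fun e he => by
  conv_lhs => rw [← hfix e he]
  exact MulEquiv.symm_apply_apply τ e

/-- Commutators of displacements of an operator trivial on `E` whose square is trivial modulo `E`. -/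
theorem displacement_commute {t : MulAut D} (hfix : ∀ e ∈ E, t e = e) (ht : Near E (t * t)) (x y : D) :
    ⁅x⁻¹ * t x, y⁻¹ * t y⁆ = 1 := by
  have h1 : ∀ a b : D, ⁅t a, t b⁆ = ⁅a, b⁆ := fun a b => by
    rw [← map_commutatorElement]; exact hfix _ (h.comm_mem a b)
  have h2 : ⁅x, t y⁆ = ⁅t x, y⁆ := by
    have h3 := h1 (t x) y
    have h4 : t (t x) = x * (x⁻¹ * (t * t) x) := by rw [mul_inv_cancel_left, MulAut.mul_apply]
    rw [h4, h.comm_mul_left, h.comm_symm (t y) (x⁻¹ * (t * t) x), h.comm_of_mem (ht x), mul_one] at h3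
    exact h3
  rw [h.comm_mul_left, h.comm_mul_right, h.comm_mul_right, h.comm_self_inv, h.comm_self_inv, h.comm_symm (y⁻¹) x,
    h.comm_self_inv, h.comm_symm x y, h1, h2, h.comm_symm (y⁻¹) (t x), h.comm_self_inv, h.comm_symm (t x) y]
  have hab : ∀ a ∈ E, ∀ b ∈ E, a * b * (b * a) = 1 := fun a ha b hb => by
    rw [mul_assoc, ← mul_assoc b b a, ← pow_two, h.sq_e hb, one_mul, ← pow_two, h.sq_e ha]
  exact hab _ (h.comm_mem _ _) _ (h.comm_mem _ _)

omit h in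
/-- The points fixed modulo `E`. -/
def modFix (E : Subgroup D) (hc : ∀ e ∈ E, ∀ x : D, x * e = e * x) (t : MulAut D) (hfix : ∀ e ∈ E, t e = e) :
    Subgroup D where
  carrier := {d | d⁻¹ * t d ∈ E}
  one_mem' := by simp [E.one_mem]
  mul_mem' := fun {a b} ha hb => by
    have h1 : (a * b)⁻¹ * t (a * b) = (b⁻¹ * (a⁻¹ * t a) * b) * (b⁻¹ * t b) := by rw [map_mul]; group
    show (a * b)⁻¹ * t (a * b) ∈ E
    rw [h1, mul_assoc b⁻¹, ← hc _ ha b, inv_mul_cancel_left]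
    exact E.mul_mem ha hb
  inv_mem' := fun {a} ha => by
    show (a⁻¹)⁻¹ * t a⁻¹ ∈ E
    have h1 : (a⁻¹)⁻¹ * t a⁻¹ = a * (a⁻¹ * t a)⁻¹ * a⁻¹ := by rw [map_inv]; group
    rw [h1, hc _ (E.inv_mem ha) a, mul_inv_cancel_right]
    exact E.inv_mem ha

/-- An element of `Hs` inverted by `t`, and separation of the points fixed by `t` modulo `E` by their squares. -/
theorem per_operator (hcard : Nat.card D = Nat.card E ^ 3)
    (hfib : ∀ e ∈ E, e ≠ 1 → fib e = Nat.card E + Nat.card E ^ 2)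
    (Hs : Subgroup (MulAut D)) (hHfix : ∀ g ∈ Hs, ∀ e ∈ E, g e = e) (hHodd : ∀ g ∈ Hs, Odd (orderOf g))
    (hHC : ∀ d : D, (∀ g ∈ Hs, g d = d) → d ∈ E)
    {t : MulAut D} (hfix : ∀ e ∈ E, t e = e) (hnorm : ∀ g ∈ Hs, t * g * t⁻¹ ∈ Hs)
    (ht : Near E (t * t)) (hnn : ¬ Near E t) :
    (∃ x ∈ Hs, x ≠ 1 ∧ t * x * t⁻¹ = x⁻¹) ∧
      (∃ d, d ∉ E ∧ d⁻¹ * t d ∈ E) ∧
      ∀ d d' : D, d⁻¹ * t d ∈ E → d'⁻¹ * t d' ∈ E → d ^ 2 = d' ^ 2 → d⁻¹ * d' ∈ E := by
  have hsq : ∀ e ∈ E, e ^ 2 = 1 := fun e he => h.sq_e he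
  have hexact : ∀ g ∈ Hs, ∀ d, d⁻¹ * g d ∈ E → g d = d := fun g hg d hd =>
    exact_of_mod (hHfix g hg) (hHodd g hg) hsq hd
  have hnear : ∀ g ∈ Hs, Near E g → g = 1 := fun g hg hg' => MulEquiv.ext fun d => hexact g hg d (hg' d)
  -- conjugation by `t` squares to the identity on `Hs`
  have htt : ∀ g ∈ Hs, t * (t * g * t⁻¹) * t⁻¹ = g := by
    intro g hg
    have hz : t * (t * g * t⁻¹) * t⁻¹ * g⁻¹ ∈ Hs := Hs.mul_mem (hnorm _ (hnorm g hg)) (Hs.inv_mem hg)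
    refine mul_inv_eq_one.1 (hnear _ hz fun d => ?_)
    set w := t⁻¹ (t⁻¹ (g⁻¹ d)) with hw
    have hz' : (t * (t * g * t⁻¹) * t⁻¹ * g⁻¹) d = t (t (g w)) := by simp [MulAut.mul_apply, hw]
    have h1 : g⁻¹ d = (t * t) w := by simp [MulAut.mul_apply, hw]
    have h2 : w⁻¹ * g⁻¹ d ∈ E := h1 ▸ ht w
    have h3 : (g w)⁻¹ * d ∈ E := by
      have h4 : g (w⁻¹ * g⁻¹ d) = (g w)⁻¹ * d := by
        rw [map_mul, map_inv, MulAut.apply_inv_self]
      rw [← h4, hHfix g hg _ h2]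
      exact h2
    rw [hz']
    have h5 : (g w)⁻¹ * t (t (g w)) ∈ E := ht (g w)
    have h6 : d⁻¹ * t (t (g w)) = ((g w)⁻¹ * d)⁻¹ * ((g w)⁻¹ * t (t (g w))) := by group
    rw [h6]
    exact E.mul_mem (E.inv_mem h3) h5
  obtain ⟨x, hx, hx1, hxt⟩ : ∃ x ∈ Hs, x ≠ 1 ∧ t * x * t⁻¹ = x⁻¹ := by
    by_contra hall
    push Not at hall
    have hcomm : ∀ g ∈ Hs, t * g * t⁻¹ = g := by
      intro g hg
      by_contra hne
      refine hall (g⁻¹ * (t * g * t⁻¹)) (Hs.mul_mem (Hs.inv_mem hg) (hnorm g hg))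
        (fun h0 => hne (inv_mul_eq_one.1 h0).symm) ?_
      calc t * (g⁻¹ * (t * g * t⁻¹)) * t⁻¹ = (t * g * t⁻¹)⁻¹ * (t * (t * g * t⁻¹) * t⁻¹) := by group
        _ = (t * g * t⁻¹)⁻¹ * g := by rw [htt g hg]
        _ = (g⁻¹ * (t * g * t⁻¹))⁻¹ := by group
    obtain ⟨d, hd⟩ := not_forall.1 hnn
    obtain ⟨g, hg, hg1⟩ : ∃ g ∈ Hs, g ≠ 1 := by
      by_contra hall'
      push Not at hall'
      refine hd (E.mul_mem (E.inv_mem ?_) ?_) <;>
        exact hHC _ fun g hg => by rw [hall' g hg, MulAut.one_apply]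
    set a := d⁻¹ * t d with ha
    refine hd (h.fpf hcard hfib (hHfix g hg) (hHodd g hg) hg1 ?_)
    refine hexact g hg a ((h.inv_iff _).1 ?_)
    have hga : g a = (g d)⁻¹ * t (g d) := by
      have : t (g d) = g (t d) := by
        have h1 : t * g = g * t := mul_inv_eq_iff_eq_mul.1 (hcomm g hg)
        exact DFunLike.congr_fun h1 d
      rw [ha, map_mul, map_inv, this]
    have hcc : ⁅g a, a⁆ = 1 := by rw [hga, ha]; exact h.displacement_commute hfix ht _ _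
    have hga2 : (g a) ^ 2 = a ^ 2 := by rw [← map_pow]; exact hHfix g hg _ (h.sq_mem a)
    rw [h.mul_sq, h.comm_symm a⁻¹ (g a), h.comm_self_inv, h.comm_symm (g a) a, hcc, mul_one, inv_pow, hga2,
      inv_mul_cancel]
  refine ⟨⟨x, hx, hx1, hxt⟩, ?_⟩
  set C := modFix E h.central t hfix with hC
  have hEC : E ≤ C := fun e he => by
    show e⁻¹ * t e ∈ E
    rw [hfix e he, inv_mul_cancel]; exact E.one_mem
  have hxC : ∀ d ∈ C, x d ∈ C → d ∈ E := by
    intro d hd hxd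
    have hx2 : x * x ≠ 1 := by
      intro h0
      obtain ⟨m, hm⟩ := hHodd x hx
      have h1 := pow_orderOf_eq_one x
      rw [hm, pow_succ, pow_mul, pow_two, h0, one_pow, one_mul] at h1
      exact hx1 h1
    refine h.fpf hcard hfib (hHfix _ (Hs.mul_mem hx hx)) (hHodd _ (Hs.mul_mem hx hx)) hx2
      (hexact _ (Hs.mul_mem hx hx) d ?_)
    have h1 : t * x = x⁻¹ * t := mul_inv_eq_iff_eq_mul.1 hxt
    have h2 : t (x d) = x⁻¹ (t d) := DFunLike.congr_fun h1 d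
    have hd' : d⁻¹ * t d ∈ E := hd
    have h3 : t (x d) = x⁻¹ d * (d⁻¹ * t d) := by
      rw [h2]
      conv_lhs => rw [← mul_inv_cancel_left d (t d), map_mul, h.fix_inv (hHfix x hx) _ hd']
    have h4 : (x d)⁻¹ * x⁻¹ d ∈ E := by
      have h5 := E.mul_mem (show (x d)⁻¹ * t (x d) ∈ E from hxd) (E.inv_mem hd')
      rwa [h3, mul_assoc, mul_assoc, mul_inv_cancel, mul_one] at h5
    have h6 : x ((x d)⁻¹ * x⁻¹ d) = ((x * x) d)⁻¹ * d := by
      rw [map_mul, map_inv, MulAut.apply_inv_self, MulAut.mul_apply]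
    rw [hHfix x hx _ h4] at h6
    have := E.inv_mem (h6 ▸ h4)
    rwa [mul_inv_rev, inv_inv] at this
  haveI : C.Normal := h.normal_of_le hEC
  have hCle : Nat.card C ≤ Nat.card E ^ 2 := by
    have h1 := card_sup_mul_card_inf C (C.map x.toMonoidHom)
    rw [Subgroup.card_map_of_injective x.injective] at h1
    have h2 : C ⊓ C.map x.toMonoidHom ≤ E := by
      rintro y ⟨hy, d, hd, rfl⟩
      have hdE := hxC d hd hy
      show x d ∈ E
      rw [hHfix x hx d hdE]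
      exact hdE
    have h3 : Nat.card C * Nat.card C ≤ Nat.card D * Nat.card E := by
      rw [← h1]
      exact Nat.mul_le_mul (Subgroup.card_le_card_group _) (Subgroup.card_le_of_le h2)
    rw [hcard] at h3
    by_contra hlt
    push Not at hlt
    nlinarith
  let FC : E → Finset D := fun e => Finset.univ.filter fun d => d ∈ C ∧ d ^ 2 = (e : D)
  have hne : ∀ e : E, (FC e).Nonempty := by
    intro e
    by_cases he : (e : D) = 1
    · exact ⟨1, Finset.mem_filter.2 ⟨Finset.mem_univ _, C.one_mem, by rw [he]; exact one_pow 2⟩⟩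
    by_contra hemp
    rw [Finset.not_nonempty_iff_eq_empty] at hemp
    set F := Finset.univ.filter fun d : D => d ^ 2 = (e : D) with hF
    have hnC : ∀ d ∈ F, d⁻¹ * t d ∉ E := fun d hd hd' => by
      have h0 : d ∈ FC e := Finset.mem_filter.2 ⟨Finset.mem_univ _, hd', (Finset.mem_filter.1 hd).2⟩
      rw [hemp] at h0
      exact Finset.notMem_empty d h0
    set Q := F.image (QuotientGroup.mk : D → D ⧸ E) with hQ
    have hout : ∀ q ∈ Q, q.out ∈ F := by
      intro q hq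
      obtain ⟨d, hd, rfl⟩ := Finset.mem_image.1 hq
      refine Finset.mem_filter.2 ⟨Finset.mem_univ _, ?_⟩
      rw [h.sq_eq_of_mem (QuotientGroup.eq.1 (QuotientGroup.out_eq' (d : D ⧸ E)).symm)]
      exact (Finset.mem_filter.1 hd).2
    have hcardF : F.card = Q.card * Nat.card E := by
      refine Finset.card_eq_sum_card_image (QuotientGroup.mk : D → D ⧸ E) F |>.trans ?_
      rw [Finset.sum_congr rfl (fun q hq => ?_), Finset.sum_const, smul_eq_mul]
      rw [Nat.card_eq_fintype_card, ← Finset.card_univ]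
      refine (Finset.card_bij (fun (e' : E) _ => q.out * (e' : D)) (fun e' _ => ?_)
        (fun a _ b _ hab => Subtype.ext (mul_left_cancel hab)) (fun d hd => ?_)).symm
      · refine Finset.mem_filter.2 ⟨Finset.mem_filter.2 ⟨Finset.mem_univ _, ?_⟩, ?_⟩
        · rw [h.mul_e_sq _ e'.2]; exact (Finset.mem_filter.1 (hout q hq)).2
        · rw [QuotientGroup.mk_mul_of_mem _ e'.2, QuotientGroup.out_eq']
      · have h1 : q.out⁻¹ * d ∈ E := QuotientGroup.eq.1 ((QuotientGroup.out_eq' q).trans (Finset.mem_filter.1 hd).2.symm)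
        exact ⟨⟨_, h1⟩, Finset.mem_univ _, mul_inv_cancel_left _ _⟩
    have heven : ((Q.card : ℕ) : ZMod 2) = 0 := by
      rw [Finset.card_eq_sum_ones, Nat.cast_sum]
      refine Finset.sum_involution (fun q _ => ((t q.out : D) : D ⧸ E)) (fun q _ => by decide)
        (fun q hq _ h0 => hnC _ (hout q hq) (QuotientGroup.eq.1 ((QuotientGroup.out_eq' q).trans h0.symm)))
        (fun q hq => Finset.mem_image.2 ⟨t q.out, Finset.mem_filter.2 ⟨Finset.mem_univ _, by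
          rw [← map_pow, (Finset.mem_filter.1 (hout q hq)).2]; exact hfix _ e.2⟩, rfl⟩)
        (fun q hq => ?_)
      show ((t ((t q.out : D) : D ⧸ E).out : D) : D ⧸ E) = q
      have h1 : ((t q.out : D) : D ⧸ E).out⁻¹ * t q.out ∈ E :=
        QuotientGroup.eq.1 (QuotientGroup.out_eq' _)
      conv_rhs => rw [← QuotientGroup.out_eq' q]
      refine QuotientGroup.eq.2 ?_
      set w := ((t q.out : D) : D ⧸ E).out with hw
      have h2 : t (w⁻¹ * t q.out) = (t w)⁻¹ * (t * t) q.out := by rw [map_mul, map_inv, MulAut.mul_apply]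
      rw [hfix _ h1] at h2
      have h3 : (t w)⁻¹ * q.out = (t w)⁻¹ * (t * t) q.out * (q.out⁻¹ * (t * t) q.out)⁻¹ := by group
      rw [h3, ← h2]
      exact E.mul_mem h1 (E.inv_mem (ht q.out))
    have h4 : F.card = Nat.card E + Nat.card E ^ 2 := hfib e e.2 he
    have h5 : Q.card = 1 + Nat.card E := by
      refine Nat.eq_of_mul_eq_mul_right (show 0 < Nat.card E from Nat.card_pos) ?_
      rw [← hcardF, h4]; ring
    obtain ⟨k, hk⟩ := h.exists_pow E
    have hk1 : k ≠ 0 := by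
      rintro rfl
      have := h.big
      rw [hk, pow_zero] at this
      omega
    rw [h5, hk, Nat.cast_add, Nat.cast_pow, show ((2 : ℕ) : ZMod 2) = 0 from rfl, zero_pow hk1, add_zero,
      Nat.cast_one] at heven
    exact one_ne_zero heven
  refine ⟨?_, fun d d' hd hd' hdd => ?_⟩
  · obtain ⟨e, he, he1⟩ := h.exists_nontrivial
    obtain ⟨d, hd⟩ := hne ⟨e, he⟩
    obtain ⟨-, hdC, hd2⟩ := Finset.mem_filter.1 hd
    refine ⟨d, fun hdE => he1 ?_, hdC⟩
    rw [h.sq_e hdE] at hd2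
    exact hd2.symm
  · by_contra hnd
    have hsum : Nat.card C = ∑ e : E, (FC e).card := by
      rw [Nat.card_eq_fintype_card, Fintype.card_subtype]
      refine (Finset.card_eq_sum_card_fiberwise (f := fun d : D => (⟨d ^ 2, h.sq_mem d⟩ : E))
        (fun _ _ => Finset.mem_univ _)).trans (Finset.sum_congr rfl fun e _ => congrArg Finset.card ?_)
      ext y
      simp [FC, Subtype.ext_iff]
    have hcoset : ∀ (e : E), ∀ y ∈ FC e, (Finset.univ.image fun e' : E => y * (e' : D)) ⊆ FC e ∧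
        (Finset.univ.image fun e' : E => y * (e' : D)).card = Nat.card E := by
      intro e y hy
      obtain ⟨-, hyC, hy2⟩ := Finset.mem_filter.1 hy
      refine ⟨fun z hz => ?_, ?_⟩
      · obtain ⟨e', -, rfl⟩ := Finset.mem_image.1 hz
        exact Finset.mem_filter.2 ⟨Finset.mem_univ _, C.mul_mem hyC (hEC e'.2), by rw [h.mul_e_sq y e'.2, hy2]⟩
      · rw [Finset.card_image_of_injective _ (fun a b hab => Subtype.ext (mul_left_cancel hab)), Finset.card_univ,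
          ← Nat.card_eq_fintype_card]
    have hge : ∀ e : E, Nat.card E ≤ (FC e).card := fun e => by
      obtain ⟨y, hy⟩ := hne e
      rw [← (hcoset e y hy).2]
      exact Finset.card_le_card (hcoset e y hy).1
    set e₁ : E := ⟨d ^ 2, h.sq_mem d⟩ with he₁
    have hgt : Nat.card E < (FC e₁).card := by
      have hd1 : d ∈ FC e₁ := Finset.mem_filter.2 ⟨Finset.mem_univ _, hd, rfl⟩
      rw [← (hcoset e₁ d hd1).2]
      refine Finset.card_lt_card (Finset.ssubset_iff_of_subset (hcoset e₁ d hd1).1 |>.2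
        ⟨d', Finset.mem_filter.2 ⟨Finset.mem_univ _, hd', hdd.symm⟩, fun h0 => hnd ?_⟩)
      obtain ⟨e', -, rfl⟩ := Finset.mem_image.1 h0
      rw [inv_mul_cancel_left]; exact e'.2
    have hlt : ∑ _e : E, Nat.card E < ∑ e : E, (FC e).card :=
      Finset.sum_lt_sum (fun e _ => hge e) ⟨e₁, Finset.mem_univ _, hgt⟩
    rw [Finset.sum_const, Finset.card_univ, ← Nat.card_eq_fintype_card, smul_eq_mul, ← hsum, ← pow_two] at hlt
    omega

/-- No four-group of operators modulo `E`. -/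
theorem no_four (Hs : Subgroup (MulAut D)) (hHfix : ∀ g ∈ Hs, ∀ e ∈ E, g e = e)
    (hHodd : ∀ g ∈ Hs, Odd (orderOf g)) (hHC : ∀ d : D, (∀ g ∈ Hs, g d = d) → d ∈ E)
    {t s : MulAut D} (htfix : ∀ e ∈ E, t e = e) (hsfix : ∀ e ∈ E, s e = e)
    (htn : ∀ g ∈ Hs, t * g * t⁻¹ ∈ Hs) (hsn : ∀ g ∈ Hs, s * g * s⁻¹ ∈ Hs)
    (ht2 : Near E (t * t)) (hs2 : Near E (s * s)) (hts : ∀ d, (t (s d))⁻¹ * s (t d) ∈ E)
    (htnn : ¬ Near E t) (hsnn : ¬ Near E s) (hunn : ¬ Near E (t * s)) : False := by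
  have hsq : ∀ e ∈ E, e ^ 2 = 1 := fun e he => h.sq_e he
  obtain ⟨d₀, hd₀⟩ := not_forall.1 htnn
  rcases h.card_cases ⟨d₀, fun h0 => hd₀ (by rw [htfix d₀ h0, inv_mul_cancel]; exact E.one_mem)⟩ with
    heq | ⟨hcard, hfib⟩
  · refine htnn fun d => ?_
    by_cases hd : d ∈ E
    · rw [htfix d hd, inv_mul_cancel]; exact E.one_mem
    have hsub : (Finset.univ.image fun e : E => d * (e : D)) ⊆ Finset.univ.filter fun y : D => y ^ 2 = d ^ 2 := by
      intro y hy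
      obtain ⟨e, -, rfl⟩ := Finset.mem_image.1 hy
      exact Finset.mem_filter.2 ⟨Finset.mem_univ _, h.mul_e_sq d e.2⟩
    have hcrd : (Finset.univ.image fun e : E => d * (e : D)).card = Nat.card E := by
      rw [Finset.card_image_of_injective _ (fun a b hab => Subtype.ext (mul_left_cancel hab)), Finset.card_univ,
        ← Nat.card_eq_fintype_card]
    have hall := Finset.eq_of_subset_of_card_le hsub (by rw [hcrd, ← heq d hd]; rfl)
    have hmem : t d ∈ Finset.univ.filter fun y : D => y ^ 2 = d ^ 2 :=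
      Finset.mem_filter.2 ⟨Finset.mem_univ _, by rw [← map_pow]; exact htfix _ (h.sq_mem d)⟩
    rw [← hall] at hmem
    obtain ⟨e, -, he⟩ := Finset.mem_image.1 hmem
    rw [← he, inv_mul_cancel_left]
    exact e.2
  have hE1 : ∀ {x y : D}, x⁻¹ * y ∈ E → y⁻¹ * x ∈ E := fun hxy => by
    have := E.inv_mem hxy; rwa [mul_inv_rev, inv_inv] at this
  have htr : ∀ {x y z : D}, x⁻¹ * y ∈ E → y⁻¹ * z ∈ E → x⁻¹ * z ∈ E := fun {x y z} h1 h2 => by
    have := E.mul_mem h1 h2; rwa [mul_assoc, mul_inv_cancel_left] at this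
  have hmapE : ∀ (a : MulAut D), (∀ e ∈ E, a e = e) → ∀ {x y : D}, x⁻¹ * y ∈ E → (a x)⁻¹ * a y ∈ E :=
    fun a ha {x y} hxy => by rw [← map_inv, ← map_mul, ha _ hxy]; exact hxy
  set u := t * s with hu
  have hufix : ∀ e ∈ E, u e = e := fun e he => by rw [hu, MulAut.mul_apply, hsfix e he, htfix e he]
  have hun : ∀ g ∈ Hs, u * g * u⁻¹ ∈ Hs := fun g hg => by
    have := htn _ (hsn g hg)
    rwa [show t * (s * g * s⁻¹) * t⁻¹ = u * g * u⁻¹ by rw [hu]; group] at this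
  have hu2 : Near E (u * u) := fun d => by
    show d⁻¹ * t (s (t (s d))) ∈ E
    have h1 : (t (s (s d)))⁻¹ * s (t (s d)) ∈ E := hts (s d)
    have h2 := hmapE t htfix h1
    have h3 : (s (s d))⁻¹ * t (t (s (s d))) ∈ E := ht2 (s (s d))
    exact htr (hs2 d) (htr h3 h2)
  have hexact : ∀ g ∈ Hs, ∀ d, d⁻¹ * g d ∈ E → g d = d := fun g hg d hd =>
    exact_of_mod (hHfix g hg) (hHodd g hg) hsq hd
  -- centralizers in `Hs` agree
  have key : ∀ a b : MulAut D, (∀ e ∈ E, a e = e) → (∀ e ∈ E, b e = e) → (∀ g ∈ Hs, a * g * a⁻¹ ∈ Hs) →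
      (∀ g ∈ Hs, b * g * b⁻¹ ∈ Hs) → Near E (a * a) → ¬ Near E a → (∀ d, (a (b d))⁻¹ * b (a d) ∈ E) →
      ∀ g ∈ Hs, a * g * a⁻¹ = g → b * g * b⁻¹ = g := by
    intro a b hafix hbfix han hbn ha2 hann hab g hg hga
    obtain ⟨-, ⟨d, hdE, hd⟩, hsep⟩ := h.per_operator hcard hfib Hs hHfix hHodd hHC hafix han ha2 hann
    have hbC : ∀ y, y⁻¹ * a y ∈ E → (b y)⁻¹ * a (b y) ∈ E ∧ y⁻¹ * b y ∈ E := by
      intro y hy
      have h1 : (b y)⁻¹ * a (b y) ∈ E := htr (hmapE b hbfix hy) (hE1 (hab y))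
      exact ⟨h1, hsep y (b y) hy h1 (by rw [← map_pow, hbfix _ (h.sq_mem y)])⟩
    have hgC : ∀ y, y⁻¹ * a y ∈ E → (g⁻¹ y)⁻¹ * a (g⁻¹ y) ∈ E := by
      intro y hy
      have hga' : a * g⁻¹ = g⁻¹ * a := by
        have h1 : a * g = g * a := mul_inv_eq_iff_eq_mul.1 hga
        have h2 : g⁻¹ * (a * g) * g⁻¹ = g⁻¹ * (g * a) * g⁻¹ := by rw [h1]
        simpa [mul_assoc] using h2.symm
      rw [show a (g⁻¹ y) = g⁻¹ (a y) from DFunLike.congr_fun hga' y]
      exact hmapE g⁻¹ (hHfix _ (Hs.inv_mem hg)) hy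
    have hc : b * g * b⁻¹ * g⁻¹ ∈ Hs := Hs.mul_mem (hbn g hg) (Hs.inv_mem hg)
    by_contra hne
    refine hdE (h.fpf hcard hfib (hHfix _ hc) (hHodd _ hc) (fun h0 => hne (mul_inv_eq_one.1 h0)) (hexact _ hc d ?_))
    show d⁻¹ * b (g (b⁻¹ (g⁻¹ d))) ∈ E
    have h1 := (hbC _ (hgC d hd)).2
    have h2 := hmapE b⁻¹ (h.fix_inv hbfix) h1
    rw [MulAut.inv_apply_self] at h2
    have h3 := hmapE b hbfix (hmapE g (hHfix g hg) (hE1 h2))
    rw [MulAut.apply_inv_self] at h3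
    exact htr (hbC d hd).2 (hE1 (hE1 h3))
  have hst : ∀ d, (s (t d))⁻¹ * t (s d) ∈ E := fun d => hE1 (hts d)
  have hut : ∀ d, (u (t d))⁻¹ * t (u d) ∈ E := fun d => hmapE t htfix (hst d)
  obtain ⟨⟨x, hx, hx1, hxt⟩, -⟩ := h.per_operator hcard hfib Hs hHfix hHodd hHC htfix htn ht2 htnn
  -- conjugations commute on `Hs`
  have hcommHs : ∀ g ∈ Hs, s * (t * g * t⁻¹) * s⁻¹ = t * (s * g * s⁻¹) * t⁻¹ := by
    intro g hg
    have hz : (s * (t * g * t⁻¹) * s⁻¹) * (t * (s * g * s⁻¹) * t⁻¹)⁻¹ ∈ Hs :=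
      Hs.mul_mem (hsn _ (htn g hg)) (Hs.inv_mem (htn _ (hsn g hg)))
    refine mul_inv_eq_one.1 (MulEquiv.ext fun d => hexact _ hz d ?_)
    obtain ⟨d', hd'⟩ : ∃ d', d' = g⁻¹ (s⁻¹ (t⁻¹ d)) := ⟨_, rfl⟩
    have hd : d = t (s (g d')) := by rw [hd']; simp
    have hz' : ((s * (t * g * t⁻¹) * s⁻¹) * (t * (s * g * s⁻¹) * t⁻¹)⁻¹) d
        = s (t (g (t⁻¹ (s⁻¹ (t (s d')))))) := by
      rw [hd']; simp [MulAut.mul_apply]
    rw [hz']
    have h1 := hmapE t⁻¹ (h.fix_inv htfix) (hmapE s⁻¹ (h.fix_inv hsfix) (hts d'))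
    rw [MulAut.inv_apply_self, MulAut.inv_apply_self] at h1
    have h2 := hmapE s hsfix (hmapE t htfix (hmapE g (hHfix g hg) h1))
    rw [hd]
    exact htr (hts (g d')) (hE1 h2)
  have hinv : ∀ g ∈ Hs, s * (s * g * s⁻¹) * s⁻¹ = g := by
    intro g hg
    have hz : s * (s * g * s⁻¹) * s⁻¹ * g⁻¹ ∈ Hs := Hs.mul_mem (hsn _ (hsn g hg)) (Hs.inv_mem hg)
    refine mul_inv_eq_one.1 (MulEquiv.ext fun d => hexact _ hz d ?_)
    obtain ⟨w, hw⟩ : ∃ w, w = s⁻¹ (s⁻¹ (g⁻¹ d)) := ⟨_, rfl⟩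
    have hd : d = g (s (s w)) := by rw [hw]; simp
    have hz' : (s * (s * g * s⁻¹) * s⁻¹ * g⁻¹) d = s (s (g w)) := by rw [hw]; simp [MulAut.mul_apply]
    rw [hz', hd]
    exact htr (hE1 (hmapE g (hHfix g hg) (hs2 w))) (hs2 (g w))
  set n := orderOf ((s * x * s⁻¹)⁻¹ * x) with hn
  have hdmem : (s * x * s⁻¹)⁻¹ * x ∈ Hs := Hs.mul_mem (Hs.inv_mem (hsn x hx)) hx
  obtain ⟨m, hm⟩ := hHodd _ hdmem
  set b := ((s * x * s⁻¹)⁻¹ * x) ^ (m + 1) with hb
  have hbmem : b ∈ Hs := Hs.pow_mem hdmem _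
  have hb2 : b * b = (s * x * s⁻¹)⁻¹ * x := by
    rw [hb, ← pow_add, show m + 1 + (m + 1) = 2 * m + 1 + 1 by ring, pow_succ, ← hm, pow_orderOf_eq_one, one_mul]
  have hsd : s * ((s * x * s⁻¹)⁻¹ * x) * s⁻¹ = ((s * x * s⁻¹)⁻¹ * x)⁻¹ := by
    calc s * ((s * x * s⁻¹)⁻¹ * x) * s⁻¹ = (s * (s * x * s⁻¹) * s⁻¹)⁻¹ * (s * x * s⁻¹) := by
          simp only [mul_inv_rev, inv_inv, mul_assoc, inv_mul_cancel_left]
      _ = x⁻¹ * (s * x * s⁻¹) := by rw [hinv x hx]
      _ = _ := by group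
  have hsb : s * b * s⁻¹ = b⁻¹ := by rw [hb, ← conj_pow, hsd, inv_pow]
  set c := x * b⁻¹ with hc
  have hcmem : c ∈ Hs := Hs.mul_mem hx (Hs.inv_mem hbmem)
  have hsx : s * x * s⁻¹ = x * b⁻¹ * b⁻¹ := by
    have h1 : x * b⁻¹ * b⁻¹ = x * (b * b)⁻¹ := by group
    rw [h1, hb2]; group
  have hsc : s * c * s⁻¹ = c := by
    calc s * c * s⁻¹ = (s * x * s⁻¹) * (s * b * s⁻¹)⁻¹ := by rw [hc]; group
      _ = x * b⁻¹ * b⁻¹ * b := by rw [hsb, hsx, inv_inv]
      _ = c := by rw [hc]; group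
  have htc : t * c * t⁻¹ = c := key s t hsfix htfix hsn htn hs2 hsnn hst c hcmem hsc
  have htb : t * b * t⁻¹ = c⁻¹ * b⁻¹ * c⁻¹ := by
    calc t * b * t⁻¹ = (t * c * t⁻¹)⁻¹ * (t * x * t⁻¹) := by rw [hc]; group
      _ = c⁻¹ * x⁻¹ := by rw [htc, hxt]
      _ = _ := by rw [hc]; group
  have hz1 : c⁻¹ * b * c⁻¹ = c * b * c := by
    have h1 := hcommHs b hbmem
    rw [htb, hsb] at h1
    have h2 : s * (c⁻¹ * b⁻¹ * c⁻¹) * s⁻¹ = c⁻¹ * b * c⁻¹ := by
      calc s * (c⁻¹ * b⁻¹ * c⁻¹) * s⁻¹ = (s * c * s⁻¹)⁻¹ * (s * b * s⁻¹)⁻¹ * (s * c * s⁻¹)⁻¹ := by group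
        _ = _ := by rw [hsc, hsb, inv_inv]
    have h3 : t * b⁻¹ * t⁻¹ = c * b * c := by
      calc t * b⁻¹ * t⁻¹ = (t * b * t⁻¹)⁻¹ := by group
        _ = _ := by rw [htb]; group
    rw [h2, h3] at h1
    exact h1
  set z := c * c with hz
  have hzinv : b⁻¹ * z * b = z⁻¹ := by
    calc b⁻¹ * z * b = b⁻¹ * c * (c * b * c) * c⁻¹ := by rw [hz]; group
      _ = b⁻¹ * c * (c⁻¹ * b * c⁻¹) * c⁻¹ := by rw [hz1]
      _ = z⁻¹ := by rw [hz]; group
  have hb2c : Commute (b * b) z := by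
    have h1 : b⁻¹ * (b⁻¹ * z * b) * b = z := by
      rw [hzinv]
      calc b⁻¹ * z⁻¹ * b = (b⁻¹ * z * b)⁻¹ := by group
        _ = z := by rw [hzinv, inv_inv]
    calc b * b * z = b * b * (b⁻¹ * (b⁻¹ * z * b) * b) := by rw [h1]
      _ = z * (b * b) := by group
  obtain ⟨mb, hmb⟩ := hHodd b hbmem
  have hbz : Commute b z := by
    have h1 : b = (b * b) ^ (mb + 1) := by
      rw [← pow_two, ← pow_mul, show 2 * (mb + 1) = 2 * mb + 1 + 1 by ring, pow_succ, ← hmb, pow_orderOf_eq_one,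
        one_mul]
    rw [h1]
    exact hb2c.pow_left _
  have hodd2 : ∀ g ∈ Hs, g * g = 1 → g = 1 := by
    intro g hg h0
    obtain ⟨i, hi⟩ := hHodd g hg
    have h1 := pow_orderOf_eq_one g
    rwa [hi, pow_succ, pow_mul, pow_two, h0, one_pow, one_mul] at h1
  have hc1 : c = 1 := by
    refine hodd2 c hcmem (hodd2 z (Hs.mul_mem hcmem hcmem) ?_)
    rw [mul_assoc, ← hbz.eq, inv_mul_cancel_left] at hzinv
    calc z * z = z * z⁻¹ := by rw [← hzinv]
      _ = 1 := mul_inv_cancel z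
  have hxb : x = b := by
    have : c * b = x := by rw [hc]; group
    rw [hc1, one_mul] at this
    exact this.symm
  have hux : u * x * u⁻¹ = x := by
    calc u * x * u⁻¹ = t * (s * x * s⁻¹) * t⁻¹ := by rw [hu]; group
      _ = (t * b * t⁻¹)⁻¹ := by rw [hxb, hsb]; group
      _ = x := by rw [htb, hc1, hxb]; group
  have htx := key u t hufix htfix hun htn hu2 hunn hut x hx hux
  rw [hxt] at htx
  exact hx1 (hodd2 x hx (inv_eq_iff_mul_eq_one.1 htx))

end Data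

end Cfsg.Agent.Solv.AnisoQuad
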