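import Mathlib.GroupTheory.Commutator.Basic
import Mathlib.Algebra.BigOperators.Group.Finset.Basic
import Mathlib.Algebra.Group.MinimalAxioms
import Mathlib.Tactic.Group

/-! The Baer correspondence for groups of class two and odd exponent. -/

set_option autoImplicit false

open scoped commutatorElement

namespace Cfsg.Agent.Solv

variable {G : Type*} [Group G]

theorem comm_bilinear_right (hz : ∀ a b c : G, Commute ⁅a, b⁆ c) (a b c : G) :
    ⁅a, b * c⁆ = ⁅a, b⁆ * ⁅a, c⁆ := by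
  rw [show ⁅a, b * c⁆ = ⁅a, b⁆ * (b * ⁅a, c⁆ * b⁻¹) by
    simp only [commutatorElement_def]; group, ← (hz a c b).eq, mul_inv_cancel_right]

theorem comm_bilinear_left (hz : ∀ a b c : G, Commute ⁅a, b⁆ c) (a b c : G) :
    ⁅a * b, c⁆ = ⁅a, c⁆ * ⁅b, c⁆ := by
  rw [show ⁅a * b, c⁆ = a * ⁅b, c⁆ * a⁻¹ * ⁅a, c⁆ by
    simp only [commutatorElement_def]; group, ← (hz b c a).eq, mul_inv_cancel_right, (hz b c _).eq]

theorem comm_central_eq_one {z : G} (hz : ∀ c : G, Commute z c) (a : G) :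
    ⁅a, z⁆ = 1 ∧ ⁅z, a⁆ = 1 :=
  ⟨commutatorElement_eq_one_iff_mul_comm.2 (hz a).eq.symm,
    commutatorElement_eq_one_iff_mul_comm.2 (hz a).eq⟩

/-- The underlying set of a class two group, to carry the Baer addition. -/
@[ext] structure Baer (G : Type*) where
  /-- the element -/
  val : G

/-- The Baer group law. -/
abbrev baerGroup (hz : ∀ a b c : G, Commute ⁅a, b⁆ c) (m : ℕ)
    (hm : ∀ a b : G, ⁅a, b⁆ ^ (2 * m) = ⁅a, b⁆) : CommGroup (Baer G) :=
  letI : Mul (Baer G) := ⟨fun x y => ⟨x.val * y.val * ⁅y.val, x.val⁆ ^ m⟩⟩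
  letI : Inv (Baer G) := ⟨fun x => ⟨x.val⁻¹⟩⟩
  letI : One (Baer G) := ⟨⟨1⟩⟩
  { Group.ofLeftAxioms (G := Baer G)
    (fun x y z => Baer.ext (by
      show x.val * y.val * ⁅y.val, x.val⁆ ^ m * z.val *
          ⁅z.val, x.val * y.val * ⁅y.val, x.val⁆ ^ m⁆ ^ m =
        x.val * (y.val * z.val * ⁅z.val, y.val⁆ ^ m) *
          ⁅y.val * z.val * ⁅z.val, y.val⁆ ^ m, x.val⁆ ^ m
      set a := x.val
      set b := y.val
      set c := z.val
      have hzp : ∀ u v w : G, Commute (⁅u, v⁆ ^ m) w := fun u v w => (hz u v w).pow_left m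
      rw [comm_bilinear_right hz c, comm_bilinear_right hz c a b,
        (comm_central_eq_one (hzp b a) c).1, mul_one,
        comm_bilinear_left hz _ _ a, comm_bilinear_left hz b c a,
        (comm_central_eq_one (hzp c b) a).2, mul_one,
        (hz c a _).mul_pow, (hz b a _).mul_pow]
      calc a * b * ⁅b, a⁆ ^ m * c * (⁅c, a⁆ ^ m * ⁅c, b⁆ ^ m)
          = a * b * (⁅b, a⁆ ^ m * c) * (⁅c, a⁆ ^ m * ⁅c, b⁆ ^ m) := by group
        _ = a * b * c * (⁅b, a⁆ ^ m * (⁅c, a⁆ ^ m * ⁅c, b⁆ ^ m)) := by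
            rw [(hzp b a c).eq]; group
        _ = a * b * c * (⁅c, b⁆ ^ m * (⁅b, a⁆ ^ m * ⁅c, a⁆ ^ m)) := by
            rw [← mul_assoc (⁅b, a⁆ ^ m), (hzp c b (⁅b, a⁆ ^ m * ⁅c, a⁆ ^ m)).eq]
        _ = _ := by group))
    (fun x => Baer.ext (by
      show 1 * x.val * ⁅x.val, 1⁆ ^ m = x.val
      simp))
    (fun x => Baer.ext (by
      show x.val⁻¹ * x.val * ⁅x.val, x.val⁻¹⁆ ^ m = 1
      rw [commutatorElement_eq_one_iff_mul_comm.2 (by simp), one_pow, mul_one, inv_mul_cancel])) with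
    mul_comm :=
      fun x y => Baer.ext (by
      show x.val * y.val * ⁅y.val, x.val⁆ ^ m = y.val * x.val * ⁅x.val, y.val⁆ ^ m
      set a := x.val
      set b := y.val
      have h1 : a * b = b * a * ⁅a, b⁆ := by
        rw [(hz a b (b * a)).eq.symm, commutatorElement_def]; group
      have h2 : ⁅a, b⁆ * ⁅b, a⁆ ^ m = ⁅a, b⁆ ^ m := by
        rw [← commutatorElement_inv a b, inv_pow, mul_inv_eq_iff_eq_mul, ← pow_add, ← two_mul, hm]
      rw [h1, mul_assoc, h2]) }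

end Cfsg.Agent.Solv
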