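import Mathlib

/-!
Transitive groups containing a full cycle of prime power order: the theorem of Burnside and Schur,
by the congruence `T ^ p ≡ T^(p)`.
-/

set_option autoImplicit false
set_option linter.style.haveILetI false

namespace Cfsg.Agent.Solv.BSchur

universe u

variable {G : Type u} [Group G] {n : ℕ} [NeZero n] [MulAction G (ZMod n)]

/-- A function constant on the orbits of the stabilizer of `0`. -/
def Inv (G : Type u) [Group G] {n : ℕ} [MulAction G (ZMod n)] {α : Type*} (f : ZMod n → α) : Prop :=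
  ∀ g : G, g • (0 : ZMod n) = 0 → ∀ x, f (g • x) = f x

section

variable (hs : ∀ c : ZMod n, ∃ s : G, ∀ x : ZMod n, s • x = x + c)

include hs in
theorem Inv.edge {α : Type*} {f : ZMod n → α} (hf : Inv G f) (g : G) (i j : ZMod n) :
    f (g • j - g • i) = f (j - i) := by
  obtain ⟨s, hs'⟩ := hs i
  obtain ⟨t, ht⟩ := hs (-(g • i))
  have h := hf (t * g * s) (by rw [mul_smul, mul_smul, hs', zero_add, ht, add_neg_cancel]) (j - i)
  rwa [mul_smul, mul_smul, hs', sub_add_cancel, ht, ← sub_eq_add_neg] at h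

include hs in
theorem Inv.conv {R : Type*} [Semiring R] {f h : ZMod n → R} (hf : Inv G f) (hh : Inv G h) :
    Inv G (fun y => ∑ i : ZMod n, f i * h (y - i)) := by
  intro g hg y
  refine (Fintype.sum_equiv (MulAction.toPerm g) _ _ fun i => ?_).symm
  rw [MulAction.toPerm_apply]
  congr 1
  · exact (hf g hg i).symm
  · exact (Inv.edge hs hh g i y).symm

include hs in
/-- The congruence: the number of `x ∈ T` with `p • x = y` is invariant modulo `p`. -/
theorem inv_frobenius {p : ℕ} [Fact p.Prime] (T : Finset (ZMod n)) (hT : Inv G (fun x => decide (x ∈ T))) :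
    Inv G (fun y => ((T.filter fun x => p • x = y).card : ZMod p)) := by
  classical
  obtain ⟨a, ha⟩ : ∃ a : AddMonoidAlgebra (ZMod p) (ZMod n),
      a = ∑ x ∈ T, AddMonoidAlgebra.single x (1 : ZMod p) := ⟨_, rfl⟩
  haveI : CharP (AddMonoidAlgebra (ZMod p) (ZMod n)) p :=
    charP_of_injective_algebraMap (FaithfulSMul.algebraMap_injective (ZMod p) _) p
  have hinv : ∀ k : ℕ, Inv G fun y => (a ^ k).coeff y := by
    intro k
    induction k with
    | zero =>
      intro g hg x
      simp only [pow_zero, AddMonoidAlgebra.one_def, AddMonoidAlgebra.coeff_single, Finsupp.single_apply]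
      refine if_congr ⟨fun h => ?_, fun h => ?_⟩ rfl rfl
      · exact MulAction.injective g (hg.trans h)
      · rw [← h, hg]
    | succ k ih =>
      have hfun : (fun y => (a ^ (k + 1)).coeff y) =
          fun y => ∑ i : ZMod n, (fun x => if x ∈ T then (1 : ZMod p) else 0) i * (a ^ k).coeff (y - i) := by
        funext y
        rw [pow_succ', ha, Finset.sum_mul, AddMonoidAlgebra.coeff_sum, Finsupp.finset_sum_apply]
        simp only [ite_mul, one_mul, zero_mul, Finset.sum_ite_mem, Finset.univ_inter]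
        refine Finset.sum_congr rfl fun i _ => ?_
        rw [AddMonoidAlgebra.coeff_single_mul_eq_mul_coeff (y - i) (fun m' _ => eq_sub_iff_add_eq'.symm), one_mul]
      rw [hfun]
      refine Inv.conv hs (fun g hg x => ?_) ih
      have h := hT g hg x
      simp only [decide_eq_decide] at h
      exact if_congr h rfl rfl
  intro g hg y
  have hp := hinv p g hg y
  have hc : ∀ z, (a ^ p).coeff z = ((T.filter fun x => p • x = z).card : ZMod p) := by
    intro z
    rw [ha, sum_pow_char p, AddMonoidAlgebra.coeff_sum, Finsupp.finset_sum_apply, Finset.card_eq_sum_ones, Nat.cast_sum,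
      Finset.sum_filter]
    refine Finset.sum_congr rfl fun x _ => ?_
    rw [AddMonoidAlgebra.single_pow, one_pow, AddMonoidAlgebra.coeff_single, Finsupp.single_apply]
    split_ifs <;> simp
  simp only [hc] at hp
  exact hp

open scoped Classical in
include hs in
/-- The subgroup generated by an invariant set is invariant. -/
theorem closure_invariant (Y : Set (ZMod n)) (hY : Inv G (fun x => decide (x ∈ Y)))
    {g : G} (hg : g • (0 : ZMod n) = 0) :
    ∀ x ∈ AddSubgroup.closure Y, g • x ∈ AddSubgroup.closure Y := by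
  intro x hx
  classical
  induction hx using AddSubgroup.closure_induction_right with
  | zero => rw [hg]; exact zero_mem _
  | add_right a _ b hb ih =>
    have h := Inv.edge hs hY g a (a + b)
    rw [add_sub_cancel_left, decide_eq_decide] at h
    rw [← sub_add_cancel (g • (a + b)) (g • a)]
    exact add_mem (AddSubgroup.subset_closure (h.2 hb)) ih
  | add_neg_cancel a _ b hb ih =>
    have h := Inv.edge hs hY g (a + -b) a
    rw [show a - (a + -b) = b by abel, decide_eq_decide] at h
    rw [show g • (a + -b) = g • a + -(g • a - g • (a + -b)) by abel]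
    exact add_mem ih (neg_mem (AddSubgroup.subset_closure (h.2 hb)))

include hs in
/-- The translates stabilizing an invariant set form an invariant subgroup. -/
theorem stab_invariant (T : Finset (ZMod n)) (hT : Inv G (fun x => decide (x ∈ T))) :
    Inv G (fun h => decide (∀ x ∈ T, x - h ∈ T)) := by
  classical
  have hf : Inv G (fun h => ∑ i : ZMod n, (if i ∈ T then 1 else 0) * (if i - h ∈ T then (1 : ℕ) else 0)) := by
    intro g hg h
    refine (Fintype.sum_equiv (MulAction.toPerm g) _ _ fun i => ?_).symm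
    rw [MulAction.toPerm_apply]
    have h1 := hT g hg i
    have h2 := Inv.edge hs hT g h i
    simp only [decide_eq_decide] at h1 h2
    congr 1
    · exact if_congr h1.symm rfl rfl
    · exact if_congr h2.symm rfl rfl
  have key : ∀ h, (∀ x ∈ T, x - h ∈ T) ↔
      ∑ i : ZMod n, (if i ∈ T then 1 else 0) * (if i - h ∈ T then (1 : ℕ) else 0) = T.card := by
    intro h
    simp only [ite_mul, one_mul, zero_mul, Finset.sum_ite_mem, Finset.univ_inter]
    rw [← Finset.sum_filter, ← Finset.card_eq_sum_ones, Finset.card_filter_eq_iff]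
  intro g hg h
  rw [decide_eq_decide, key, key]
  exact Eq.congr_left (hf g hg h)

theorem exists_invariant_subgroup {p m : ℕ} [hp : Fact p.Prime] (hm : 2 ≤ m) (hn : n = p ^ m)
    (hs : ∀ c : ZMod n, ∃ s : G, ∀ x : ZMod n, s • x = x + c)
    (h2 : ∃ x y : ZMod n, x ≠ 0 ∧ y ≠ 0 ∧ ∀ g : G, g • (0 : ZMod n) = 0 → g • x ≠ y) :
    ∃ L : AddSubgroup (ZMod n), L ≠ ⊥ ∧ L ≠ ⊤ ∧
      ∀ g : G, g • (0 : ZMod n) = 0 → ∀ x ∈ L, g • x ∈ L := by
  classical
  obtain ⟨K, hK⟩ : ∃ K : AddSubgroup (ZMod n), ∀ x, x ∈ K ↔ p • x = 0 :=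
    ⟨{ carrier := {x | p • x = 0}
       add_mem' := fun {a b} (ha : p • a = 0) (hb : p • b = 0) => show p • (a + b) = 0 by
        rw [nsmul_add, ha, hb, add_zero]
       zero_mem' := nsmul_zero p
       neg_mem' := fun {a} (ha : p • a = 0) => show p • -a = 0 by rw [neg_nsmul, ha, neg_zero] }, fun _ => Iff.rfl⟩
  have hpn : p ^ (m - 1) * p = n := by rw [hn, ← pow_succ, Nat.sub_add_cancel (by omega)]
  obtain ⟨e, he⟩ : ∃ e : ZMod n, e = ((p ^ (m - 1) : ℕ) : ZMod n) := ⟨_, rfl⟩
  have heK : p • e = 0 := by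
    rw [he, nsmul_eq_mul, ← Nat.cast_mul, mul_comm, hpn, ZMod.natCast_self]
  have hlt : p ^ (m - 1) < n := by rw [hn]; exact Nat.pow_lt_pow_right hp.out.one_lt (by omega)
  have he0 : e ≠ 0 := by
    rw [he, Ne, ZMod.natCast_eq_zero_iff]
    exact Nat.not_dvd_of_pos_of_lt (pow_pos hp.out.pos _) hlt
  have hKbot : K ≠ ⊥ := fun h => he0 (by
    have := (hK e).2 heK
    rwa [h, AddSubgroup.mem_bot] at this)
  have hKmult : ∀ x ∈ K, ∃ j : Fin p, ((j : ℕ) : ZMod n) * e = x := by
    intro x hx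
    have h1 := (hK x).1 hx
    rw [nsmul_eq_mul, ← ZMod.natCast_zmod_val x, ← Nat.cast_mul, ZMod.natCast_eq_zero_iff] at h1
    have h3 : p ^ (m - 1) ∣ x.val := by
      have h5 : p * p ^ (m - 1) ∣ p * x.val := by rwa [mul_comm p (p ^ (m - 1)), hpn]
      exact Nat.dvd_of_mul_dvd_mul_left hp.out.pos h5
    obtain ⟨j, hj⟩ := h3
    have hjp : j < p := by
      have h4 := ZMod.val_lt x
      rw [hj] at h4
      nlinarith [hpn, pow_pos hp.out.pos (m - 1)]
    refine ⟨⟨j, hjp⟩, ?_⟩
    rw [he, ← Nat.cast_mul]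
    conv_rhs => rw [← ZMod.natCast_zmod_val x, hj, mul_comm]
  have hKp : (Finset.univ.filter fun x : ZMod n => x ∈ K).card ≤ p := by
    refine le_trans (Finset.card_le_card (t := (Finset.univ : Finset (Fin p)).image
      fun j : Fin p => ((j : ℕ) : ZMod n) * e) fun x hx => ?_) (Finset.card_image_le.trans (by simp))
    obtain ⟨j, hj⟩ := hKmult x (Finset.mem_filter.1 hx).2
    exact Finset.mem_image.2 ⟨j, Finset.mem_univ j, hj⟩
  have hpimg : ∀ x : ZMod n, p • x ≠ 1 := by
    intro x h1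
    have h2 := congrArg (fun z => p ^ (m - 1) • z) h1
    simp only [← mul_nsmul', hpn] at h2
    rw [nsmul_eq_mul, ZMod.natCast_self, zero_mul, nsmul_eq_mul, mul_one, ← he] at h2
    exact he0 h2.symm
  have hK1 : (1 : ZMod n) ∉ K := fun h => by
    rw [hK, nsmul_eq_mul, mul_one, ZMod.natCast_eq_zero_iff] at h
    have h1 : p ^ 2 ∣ n := hn ▸ pow_dvd_pow p hm
    have h3 := Nat.le_of_dvd hp.out.pos (h1.trans h)
    nlinarith [hp.out.two_le]
  -- orbits of the stabilizer
  obtain ⟨T, hT⟩ : ∃ T : ZMod n → Finset (ZMod n),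
      ∀ x y, y ∈ T x ↔ ∃ g : G, g • (0 : ZMod n) = 0 ∧ g • x = y :=
    ⟨fun x => Finset.univ.filter fun y => ∃ g : G, g • (0 : ZMod n) = 0 ∧ g • x = y, fun x y => by simp⟩
  have hTself : ∀ x, x ∈ T x := fun x => (hT x x).2 ⟨1, one_smul _ _, one_smul _ _⟩
  have hTinv : ∀ x, Inv G (fun y => decide (y ∈ T x)) := by
    intro x g hg y
    rw [decide_eq_decide, hT, hT]
    constructor
    · rintro ⟨k, hk, hky⟩
      exact ⟨g⁻¹ * k, by rw [mul_smul, hk, inv_smul_eq_iff, hg], by rw [mul_smul, hky, inv_smul_smul]⟩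
    · rintro ⟨k, hk, rfl⟩
      exact ⟨g * k, by rw [mul_smul, hk, hg], mul_smul _ _ _⟩
  have hTeq : ∀ x y, y ∈ T x → T y = T x := by
    intro x y hy
    obtain ⟨g, hg, rfl⟩ := (hT x y).1 hy
    ext z
    rw [hT, hT]
    constructor
    · rintro ⟨k, hk, rfl⟩
      exact ⟨k * g, by rw [mul_smul, hg, hk], mul_smul _ _ _⟩
    · rintro ⟨k, hk, rfl⟩
      exact ⟨k * g⁻¹, by rw [mul_smul, inv_smul_eq_iff.2 hg.symm, hk], by rw [mul_smul, inv_smul_smul]⟩
  have hT0 : ∀ x, x ≠ 0 → (0 : ZMod n) ∉ T x := fun x hx h => by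
    obtain ⟨g, hg, hgx⟩ := (hT x 0).1 h
    exact hx (MulAction.injective g (hgx.trans hg.symm))
  have mk : ∀ Y : Set (ZMod n), Inv G (fun y => decide (y ∈ Y)) →
      (∃ y ∈ Y, y ≠ 0) → AddSubgroup.closure Y ≠ ⊤ →
      ∃ L : AddSubgroup (ZMod n), L ≠ ⊥ ∧ L ≠ ⊤ ∧
        ∀ g : G, g • (0 : ZMod n) = 0 → ∀ x ∈ L, g • x ∈ L := by
    rintro Y hY ⟨y, hy, hy0⟩ htop
    refine ⟨_, fun h => hy0 ?_, htop, fun g hg => closure_invariant hs Y hY hg⟩
    exact AddSubgroup.mem_bot.1 (h ▸ AddSubgroup.subset_closure hy)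
  -- the image under multiplication by `p`
  by_cases hA : ∃ x y : ZMod n, y ≠ 0 ∧ (((T x).filter fun z => p • z = y).card : ZMod p) ≠ 0
  · obtain ⟨x, y, hy, hc⟩ := hA
    obtain ⟨Y, hY⟩ : ∃ Y : Set (ZMod n),
        ∀ w, w ∈ Y ↔ w ≠ 0 ∧ (((T x).filter fun z => p • z = w).card : ZMod p) ≠ 0 :=
      ⟨{w | w ≠ 0 ∧ (((T x).filter fun z => p • z = w).card : ZMod p) ≠ 0}, fun w => Iff.rfl⟩
    refine mk Y (fun g hg w => ?_) ⟨y, (hY y).2 ⟨hy, hc⟩, hy⟩ fun h => ?_
    · have h1 := inv_frobenius (p := p) hs (T x) (hTinv x) g hg w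
      rw [decide_eq_decide, hY, hY]
      simp only at h1
      rw [h1]
      exact and_congr_left' (not_congr ⟨fun h => MulAction.injective g (h.trans hg.symm), fun h => by rw [h, hg]⟩)
    · have hle : AddSubgroup.closure Y ≤ (nsmulAddMonoidHom (α := ZMod n) p).range := by
        rw [AddSubgroup.closure_le]
        intro w hw
        obtain ⟨z, hz⟩ := Finset.card_ne_zero.1 (fun h' => ((hY w).1 hw).2 (by rw [h', Nat.cast_zero]))
        exact ⟨z, (Finset.mem_filter.1 hz).2⟩
      obtain ⟨z, hz⟩ := hle (h ▸ AddSubgroup.mem_top (1 : ZMod n))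
      exact hpimg z hz
  push Not at hA
  have hcoset : ∀ x z k, z ∈ T x → z ∉ K → k ∈ K → z + k ∈ T x := by
    intro x z k hz hzK hk
    have h1 := hA x (p • z) (fun h => hzK ((hK z).2 h))
    rw [ZMod.natCast_eq_zero_iff] at h1
    have hsub : ((T x).filter fun w => p • w = p • z) ⊆
        (Finset.univ.filter fun w : ZMod n => w ∈ K).image (fun w => z + w) := by
      intro w hw
      obtain ⟨-, hw⟩ := Finset.mem_filter.1 hw
      refine Finset.mem_image.2 ⟨w - z, Finset.mem_filter.2 ⟨Finset.mem_univ _, ?_⟩, add_sub_cancel z w⟩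
      rw [hK, nsmul_sub, hw, sub_self]
    have hpos : 0 < ((T x).filter fun w => p • w = p • z).card :=
      Finset.card_pos.2 ⟨z, Finset.mem_filter.2 ⟨hz, rfl⟩⟩
    have heq := Finset.eq_of_subset_of_card_le hsub
      ((Finset.card_image_le.trans hKp).trans (Nat.le_of_dvd hpos h1))
    have hmem : z + k ∈ ((T x).filter fun w => p • w = p • z) :=
      heq ▸ Finset.mem_image.2 ⟨k, Finset.mem_filter.2 ⟨Finset.mem_univ _, hk⟩, rfl⟩
    exact (Finset.mem_filter.1 hmem).1
  by_cases hB : ∃ x, x ≠ 0 ∧ ∀ z ∈ T x, z ∉ K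
  · obtain ⟨x, hx, hxK⟩ := hB
    refine mk {h | ∀ z ∈ T x, z - h ∈ T x} (fun g hg w => ?_) ⟨e, fun z hz => ?_, he0⟩ fun h => ?_
    · have := stab_invariant hs (T x) (hTinv x) g hg w
      simpa using this
    · rw [sub_eq_add_neg]
      exact hcoset x z _ hz (hxK z hz) (neg_mem ((hK e).2 heK))
    · obtain ⟨St, hSt⟩ : ∃ St : AddSubgroup (ZMod n), ∀ h, h ∈ St ↔ ∀ z, z ∈ T x ↔ z - h ∈ T x :=
        ⟨{ carrier := {h | ∀ z, z ∈ T x ↔ z - h ∈ T x}
           add_mem' := fun {a b} ha hb z => by rw [ha z, hb (z - a), sub_sub]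
           zero_mem' := fun z => by rw [sub_zero]
           neg_mem' := fun {a} ha z => by
            rw [ha (z - -a), sub_neg_eq_add, add_sub_cancel_right] }, fun _ => Iff.rfl⟩
      have hle : AddSubgroup.closure {h | ∀ z ∈ T x, z - h ∈ T x} ≤ St := by
        rw [AddSubgroup.closure_le]
        intro w hw
        rw [SetLike.mem_coe, hSt]
        have himg : (T x).image (fun z => z - w) = T x :=
          Finset.eq_of_subset_of_card_le (fun z hz => by
            obtain ⟨z', hz', rfl⟩ := Finset.mem_image.1 hz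
            exact hw z' hz') (by rw [Finset.card_image_of_injective _ sub_left_injective])
        refine fun z => ⟨hw z, fun hz => ?_⟩
        obtain ⟨z', hz', hzz⟩ := Finset.mem_image.1 (himg.symm ▸ hz : z - w ∈ (T x).image fun z => z - w)
        rwa [← sub_left_injective hzz]
      rw [h] at hle
      have := ((hSt x).1 (hle (AddSubgroup.mem_top x)) x).1 (hTself x)
      rw [sub_self] at this
      exact hT0 x hx this
  push Not at hB
  -- counting translates
  have hcount : ∀ x, x ≠ 0 → ((T x).filter fun z => z ∉ K).card * (n - 1) + (T x).card ≤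
      (T x).card * (T x).card := by
    intro x hx
    obtain ⟨f, hf⟩ : ∃ f : ZMod n → ℕ, ∀ h, f h = ((T x).filter fun z => z - h ∈ T x).card := ⟨_, fun _ => rfl⟩
    have hfinv : Inv G f := by
      intro g hg h
      rw [hf, hf]
      refine (Finset.card_bij (fun z _ => g • z) (fun z hz => ?_) (fun a _ b _ hab => MulAction.injective g hab)
        fun z hz => ?_).symm
      · rw [Finset.mem_filter] at hz ⊢
        have h1 := hTinv x g hg z
        have h2 := Inv.edge hs (hTinv x) g h z
        rw [decide_eq_decide] at h1 h2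
        exact ⟨h1.2 hz.1, h2.2 hz.2⟩
      · rw [Finset.mem_filter] at hz
        refine ⟨g⁻¹ • z, ?_, smul_inv_smul g z⟩
        have h1 := hTinv x g hg (g⁻¹ • z)
        have h2 := Inv.edge hs (hTinv x) g h (g⁻¹ • z)
        rw [decide_eq_decide] at h1 h2
        rw [smul_inv_smul] at h1 h2
        exact Finset.mem_filter.2 ⟨h1.1 hz.1, h2.1 hz.2⟩
    have hlow : ∀ h, h ≠ 0 → ((T x).filter fun z => z ∉ K).card ≤ f h := by
      intro h hh
      obtain ⟨k, hk, hkK⟩ := hB h hh
      obtain ⟨g, hg, rfl⟩ := (hT h k).1 hk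
      rw [← hfinv g hg h, hf]
      refine Finset.card_le_card fun z hz => ?_
      rw [Finset.mem_filter] at hz ⊢
      exact ⟨hz.1, by rw [sub_eq_add_neg]; exact hcoset x z _ hz.1 hz.2 (neg_mem hkK)⟩
    have hf0 : f 0 = (T x).card := by
      rw [hf, Finset.filter_true_of_mem fun z hz => by rwa [sub_zero]]
    have hsum : ∑ h : ZMod n, f h = (T x).card * (T x).card := by
      have h1 : ∑ h : ZMod n, f h = ∑ h : ZMod n, ∑ z ∈ T x, if z - h ∈ T x then 1 else 0 :=
        Finset.sum_congr rfl fun h _ => by rw [hf, Finset.card_filter]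
      rw [h1, Finset.sum_comm]
      have h2 : ∀ z : ZMod n, (∑ w : ZMod n, if z - w ∈ T x then 1 else 0) = (T x).card := fun z => by
        rw [Fintype.sum_equiv (Equiv.subLeft z) (fun w => if z - w ∈ T x then 1 else 0)
          (fun w => if w ∈ T x then 1 else 0) (fun w => rfl)]
        simp
      rw [Finset.sum_congr rfl fun z _ => h2 z, Finset.sum_const, smul_eq_mul]
    rw [← hsum, ← Finset.add_sum_erase Finset.univ f (Finset.mem_univ 0), hf0, add_comm]
    refine Nat.add_le_add_left (le_trans ?_ (Finset.card_nsmul_le_sum _ _ _ fun h hh =>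
      hlow h (Finset.ne_of_mem_erase hh))) _
    rw [Finset.card_erase_of_mem (Finset.mem_univ _), Finset.card_univ, ZMod.card, smul_eq_mul, mul_comm]
  -- two orbits with elements outside `K`
  obtain ⟨a, ha0, haK⟩ : ∃ a : ZMod n, a ≠ 0 ∧ a ∉ K :=
    ⟨1, fun h => hK1 (h ▸ zero_mem K), hK1⟩
  obtain ⟨x₀, y₀, hx₀, hy₀, hxy⟩ := h2
  obtain ⟨b, hb0, hba⟩ : ∃ b, b ≠ 0 ∧ b ∉ T a := by
    by_contra h
    push Not at h
    have h1 := h x₀ hx₀
    have h2 := h y₀ hy₀
    rw [← hTeq a x₀ h1] at h2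
    obtain ⟨g, hg, hgx⟩ := (hT x₀ y₀).1 h2
    exact hxy g hg hgx
  by_cases hC : ∀ z ∈ T b, z ∈ K
  · refine mk (T b : Set (ZMod n)) (fun g hg w => by simpa using hTinv b g hg w)
      ⟨b, hTself b, hb0⟩ fun h => ?_
    have hle : AddSubgroup.closure (T b : Set (ZMod n)) ≤ K :=
      (AddSubgroup.closure_le K).2 fun z hz => hC z hz
    exact hK1 (hle (h ▸ AddSubgroup.mem_top _))
  exfalso
  push Not at hC
  obtain ⟨b', hb', hb'K⟩ := hC
  obtain ⟨T0, hT0'⟩ : ∃ T0 : ZMod n → ℕ, ∀ x, T0 x = ((T x).filter fun z => z ∈ K).card := ⟨_, fun _ => rfl⟩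
  have hsplit : ∀ x, (T x).card = ((T x).filter fun z => z ∉ K).card + T0 x := fun x => by
    rw [hT0', add_comm]
    exact (Finset.card_filter_add_card_filter_not _).symm
  have hdisj : Disjoint (T a) (T b) := Finset.disjoint_left.2 fun z hza hzb =>
    hba (hTeq a z hza ▸ hTeq b z hzb ▸ hTself b)
  have hbig : ∀ x z, z ∈ T x → z ∉ K → p ≤ ((T x).filter fun w => w ∉ K).card := by
    intro x z hz hzK
    refine le_trans ?_ (Finset.card_le_card
      (s := (Finset.univ : Finset (Fin p)).image fun j : Fin p => z + ((j : ℕ) : ZMod n) * e) fun w hw => ?_)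
    · rw [Finset.card_image_of_injective, Finset.card_univ, Fintype.card_fin]
      intro i j hij
      have h1 := add_left_cancel hij
      rw [he, ← Nat.cast_mul, ← Nat.cast_mul, ZMod.natCast_eq_natCast_iff'] at h1
      have hb : ∀ i : Fin p, (i : ℕ) * p ^ (m - 1) < n := fun i => by
        rw [← hpn, mul_comm]; exact Nat.mul_lt_mul_of_pos_left i.2 (pow_pos hp.out.pos _)
      rw [Nat.mod_eq_of_lt (hb i), Nat.mod_eq_of_lt (hb j)] at h1
      exact Fin.ext (Nat.eq_of_mul_eq_mul_right (pow_pos hp.out.pos _) h1)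
    · obtain ⟨j, -, rfl⟩ := Finset.mem_image.1 hw
      have hjK : ((j : ℕ) : ZMod n) * e ∈ K := by rw [hK, ← mul_smul_comm, heK, mul_zero]
      refine Finset.mem_filter.2 ⟨hcoset x z _ hz hzK hjK, fun h => hzK ?_⟩
      simpa using sub_mem h hjK
  have htsum : T0 a + T0 b + 1 ≤ p := by
    rw [hT0', hT0', ← Finset.card_union_of_disjoint (Finset.disjoint_filter_filter hdisj)]
    refine le_trans (le_of_eq (Finset.card_insert_of_notMem (a := (0 : ZMod n)) ?_).symm)
      (le_trans (Finset.card_le_card fun z hz => ?_) hKp)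
    · rw [Finset.mem_union, Finset.mem_filter, Finset.mem_filter]
      rintro (⟨h, -⟩ | ⟨h, -⟩)
      · exact hT0 a ha0 h
      · exact hT0 b hb0 h
    · rw [Finset.mem_insert, Finset.mem_union, Finset.mem_filter, Finset.mem_filter] at hz
      refine Finset.mem_filter.2 ⟨Finset.mem_univ _, ?_⟩
      rcases hz with rfl | ⟨-, h⟩ | ⟨-, h⟩
      · exact zero_mem K
      · exact h
      · exact h
  have htot : (T a).card + (T b).card + 1 ≤ n := by
    rw [← Finset.card_union_of_disjoint hdisj,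
      ← Finset.card_insert_of_notMem (a := (0 : ZMod n)) (by
        rw [Finset.mem_union]; rintro (h | h)
        · exact hT0 a ha0 h
        · exact hT0 b hb0 h)]
    exact (Finset.card_le_univ _).trans (ZMod.card n).le
  have c1 := hcount a ha0
  have c2 := hcount b hb0
  have o1 := hbig a a (hTself a) haK
  have o2 := hbig b b' hb' hb'K
  rw [hsplit a] at c1 htot
  rw [hsplit b] at c2 htot
  generalize ((T a).filter fun z => z ∉ K).card = A at *
  generalize ((T b).filter fun z => z ∉ K).card = B at *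
  generalize T0 a = s at *
  generalize T0 b = t at *
  have k1 : A * (A + s + (B + t)) ≤ A * (n - 1) := Nat.mul_le_mul le_rfl (by omega)
  have k2 : B * (A + s + (B + t)) ≤ B * (n - 1) := Nat.mul_le_mul le_rfl (by omega)
  rcases le_total s t with h | h
  · nlinarith [k1, c1, o1, o2, mul_le_mul o1 o2 (Nat.zero_le _) (Nat.zero_le _)]
  · nlinarith [k2, c2, o1, o2, mul_le_mul o1 o2 (Nat.zero_le _) (Nat.zero_le _)]

end

end Cfsg.Agent.Solv.BSchur
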