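import Cfsg.Agent.Lib.Char.StarAction
import Cfsg.Agent.Lib.Char.Defect
import Cfsg.Agent.Lib.Char.Height
import Cfsg.Agent.Lib.Char.Osima

/-!
# The sum of the squares of the degrees in a block modulo powers of `p`

The idempotent is a power of itself, so its coefficient at one is a sum over tuples with product one.
A Sylow group permutes the tuples, and a tuple with a large stabilizer only sees coefficients in the local
ideal.  So the sum of the squared degrees is divisible by `p ^ (2a - d)`.
-/

set_option autoImplicit false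
set_option linter.unusedSectionVars false
set_option linter.style.haveILetI false

namespace Cfsg.Agent.Solv.BlockSquares

open Cfsg Cfsg.Agent.Char
open scoped ComplexConjugate

universe u

variable {G : Type u} [Group G] [Fintype G] {M : Ideal AlgInt} {p : ℕ} {B : Set (IrrCharacter G)}

open scoped Classical in
/-- A coefficient of the idempotent as a sum over tuples. -/
theorem coeff_tuples (B : Set (IrrCharacter G)) : ∀ (n : ℕ) (x : G),
    ∑ f : Fin (n + 1) → G with (List.ofFn f).prod = x, ∏ i, blockCoeff B (f i) = blockCoeff B x := by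
  intro n
  induction n with
  | zero =>
    intro x
    rw [Finset.sum_eq_single_of_mem (fun _ : Fin 1 => x) (by simp) fun f hf hne => absurd
      (funext fun i => by
        have h := (Finset.mem_filter.mp hf).2
        simpa [List.ofFn_succ, Subsingleton.elim i 0] using h) hne]
    simp
  | succ n ih =>
    intro x
    conv_rhs => rw [← conv_blockCoeff B]
    show _ = ∑ y : G, blockCoeff B y * blockCoeff B (y⁻¹ * x)
    rw [Finset.sum_congr rfl fun y _ => congrArg (blockCoeff B y * ·) (ih (y⁻¹ * x)).symm]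
    simp only [Finset.mul_sum, Finset.sum_filter]
    rw [← (Fin.consEquiv fun _ : Fin (n + 2) => G).sum_comp, Fintype.sum_prod_type]
    refine Finset.sum_congr rfl fun y _ => Finset.sum_congr rfl fun g _ => ?_
    show (if (List.ofFn (Fin.cons y g : Fin (n + 2) → G)).prod = x then
      ∏ i, blockCoeff B ((Fin.cons y g : Fin (n + 2) → G) i) else 0) = _
    rw [List.ofFn_succ, List.prod_cons, Fin.prod_univ_succ]
    simp only [Fin.cons_zero, Fin.cons_succ]
    split_ifs with h1 h2 h2
    · rfl
    · exact absurd (eq_inv_mul_iff_mul_eq.mpr h1) h2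
    · exact absurd (eq_inv_mul_iff_mul_eq.mp h2) h1
    · simp

/-- A natural number divisible by a power of `p` in the local ring is divisible by it. -/
theorem dvd_of_local (hM : IsPModular p M) {N k : ℕ} {z : ℂ} (hz : MemLocalRing M z)
    (h : (N : ℂ) = (p : ℂ) ^ k * z) : p ^ k ∣ N := by
  have hpk : p ^ k ≠ 0 := pow_ne_zero k hM.1.ne_zero
  have e : z = (((N : ℚ) / (p ^ k : ℕ) : ℚ) : ℂ) := by
    push_cast
    rw [eq_div_iff (by exact_mod_cast hpk), h]
    ring
  have hd := rat_den_not_dvd hM (e ▸ hz)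
  have hden : ((N : ℚ) / (p ^ k : ℕ)).den ∣ p ^ k := by
    have h1 := Rat.den_div_intCast_eq_one_iff
    have h2 : ((N : ℚ) / (p ^ k : ℕ)) = Rat.divInt (N : ℤ) ((p ^ k : ℕ) : ℤ) := by
      rw [Rat.divInt_eq_div]
      norm_num
    rw [h2]
    exact_mod_cast Rat.den_dvd (N : ℤ) ((p ^ k : ℕ) : ℤ)
  obtain ⟨j, -, hj⟩ := (Nat.dvd_prime_pow hM.1).mp hden
  have hj0 : j = 0 := by
    by_contra hne
    exact hd (hj ▸ dvd_pow_self p hne)
  rw [hj0, pow_zero] at hj
  have h3 : (N : ℚ) = (((N : ℚ) / (p ^ k : ℕ)).num : ℚ) * ((p ^ k : ℕ) : ℚ) := by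
    have h4 := Rat.num_div_den ((N : ℚ) / (p ^ k : ℕ))
    rw [hj] at h4
    rw [show ((((N : ℚ) / (p ^ k : ℕ)).num : ℤ) : ℚ) = (N : ℚ) / (p ^ k : ℕ) by simpa using h4,
      div_mul_cancel₀ _ (by exact_mod_cast hpk)]
  have h5 : ((p ^ k : ℕ) : ℤ) ∣ (N : ℤ) := ⟨((N : ℚ) / (p ^ k : ℕ)).num, by
    have h6 : ((N : ℤ) : ℚ) = ((((N : ℚ) / (p ^ k : ℕ)).num * ((p ^ k : ℕ) : ℤ) : ℤ) : ℚ) := by
      exact_mod_cast h3
    rw [mul_comm]
    exact_mod_cast h6⟩
  exact_mod_cast h5

open scoped Classical in
/-- The coefficient at one is divisible by the index of a defect group in a Sylow group. -/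
theorem coeff_one_dvd (hM : IsPModular p M) (hB : IsPBlock M B) {D : Subgroup G}
    (hD : IsDefectGroup p M B D) :
    ∃ y, MemLocalRing M y ∧
      blockCoeff B 1 = (p : ℂ) ^ ((Nat.card G).factorization p - blockDefect p B) * y := by
  haveI := Fact.mk hM.1
  have hP := pmod_prime hM
  set a := (Nat.card G).factorization p
  set d := blockDefect p B
  set k := a - d with hk
  obtain ⟨g₀, hg, hgD⟩ := (isDefectGroup_iff B D).mp hD
  obtain ⟨S⟩ : Nonempty (Sylow p G) := inferInstance
  have hcoe := fun x => memLR_blockCoeff hM hB x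
  have hnx : ∀ x : G, ∃ n : ℕ, MemLocalIdeal M (blockCoeff B x) →
      ∀ c, n ≤ c → ∃ y, MemLocalRing M y ∧ blockCoeff B x ^ c = (p : ℂ) ^ k * y := by
    intro x
    by_cases hx : MemLocalIdeal M (blockCoeff B x)
    · obtain ⟨n, y, hy, e⟩ := memLI_pow_dvd hM hx k
      exact ⟨n, fun _ c hc => ⟨y * blockCoeff B x ^ (c - n),
        memLR_mul hP hy (memLR_pow hP (hcoe x) _), by
          rw [← mul_assoc, ← e, ← pow_add]; congr 1; omega⟩⟩
    · exact ⟨0, fun h => absurd h hx⟩
  choose nx hnx using hnx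
  set L := ∑ x, nx x with hL
  set n := Nat.card G * L with hn
  let W := {f : Fin (n + 1) → G // (List.ofFn f).prod = 1}
  letI : MulAction (S : Subgroup G) W :=
    { smul := fun s f => ⟨fun i => (s : G) * f.1 i * (s : G)⁻¹, by
        have h := List.prod_hom (List.ofFn f.1) (MulAut.conj (s : G)).toMonoidHom
        rw [f.2, map_one, List.map_ofFn] at h
        exact h⟩
      one_smul := fun f => Subtype.ext (funext fun i => by
        show ((1 : (S : Subgroup G)) : G) * f.1 i * ((1 : (S : Subgroup G)) : G)⁻¹ = f.1 i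
        simp)
      mul_smul := fun s t f => Subtype.ext (funext fun i => by
        show ((s * t : (S : Subgroup G)) : G) * f.1 i * ((s * t : (S : Subgroup G)) : G)⁻¹ =
          (s : G) * ((t : G) * f.1 i * (t : G)⁻¹) * (s : G)⁻¹
        simp only [Subgroup.coe_mul, mul_inv_rev, mul_assoc]) }
  let w : W → ℂ := fun f => ∏ i, blockCoeff B (f.1 i)
  have hw : ∀ (s : (S : Subgroup G)) (f : W), w (s • f) = w f := fun s f =>
    Finset.prod_congr rfl fun i _ => isClassFunction_blockCoeff B (f.1 i) (s : G)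
  have hsum : blockCoeff B 1 = ∑ f : W, w f := by
    rw [← coeff_tuples B n 1]
    exact Finset.sum_subtype (p := fun f : Fin (n + 1) → G => (List.ofFn f).prod = 1) _ (fun f => by simp)
      fun f : Fin (n + 1) → G => ∏ i, blockCoeff B (f i)
  rw [hsum, ← (MulAction.selfEquivSigmaOrbits (S : Subgroup G) W).symm.sum_comp, Fintype.sum_sigma]
  suffices key : ∀ o : MulAction.orbitRel.Quotient (S : Subgroup G) W,
      ∃ y, MemLocalRing M y ∧ (∑ f : MulAction.orbit (S : Subgroup G) o.out,
        w ((MulAction.selfEquivSigmaOrbits (S : Subgroup G) W).symm ⟨o, f⟩)) = (p : ℂ) ^ k * y by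
    choose y hy hye using key
    refine ⟨∑ o, y o, memLR_sum hP _ _ fun o _ => hy o, ?_⟩
    rw [Finset.mul_sum]
    exact Finset.sum_congr rfl fun o _ => hye o
  intro o
  have hval : ∀ f : MulAction.orbit (S : Subgroup G) o.out,
      w ((MulAction.selfEquivSigmaOrbits (S : Subgroup G) W).symm ⟨o, f⟩) = w o.out := by
    rintro ⟨_, s, rfl⟩
    exact hw s o.out
  rw [Finset.sum_congr rfl fun f _ => hval f, Finset.sum_const, nsmul_eq_mul, Finset.card_univ,
    ← Nat.card_eq_fintype_card]
  have hwR : MemLocalRing M (w o.out) := memLR_prod hP _ _ fun i _ => hcoe _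
  set T := MulAction.stabilizer (S : Subgroup G) o.out
  have horb : Nat.card (MulAction.orbit (S : Subgroup G) o.out) = T.index := by
    rw [Nat.card_coe_set_eq, ← MulAction.index_stabilizer]
  have hScard : Nat.card (S : Subgroup G) = p ^ a := S.card_eq_multiplicity
  obtain ⟨t, ht, htc⟩ := (Nat.dvd_prime_pow hM.1).mp (hScard ▸ Subgroup.card_subgroup_dvd_card T)
  have hidx : T.index = p ^ (a - t) := by
    have h := T.card_mul_index
    rw [htc, hScard, ← Nat.add_sub_cancel' ht, pow_add] at h
    exact mul_left_cancel₀ (pow_ne_zero t hM.1.ne_zero) h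
  rw [horb, hidx]
  by_cases htd : t ≤ d
  · refine ⟨(p : ℂ) ^ (a - t - k) * w o.out, memLR_mul hP
      (memLR_pow hP (memLR_natCast hP p) _) hwR, ?_⟩
    rw [← mul_assoc, ← pow_add, Nat.cast_pow]
    congr 2
    omega
  · -- every coefficient of the tuple lies in the local ideal
    set Q := T.map (S : Subgroup G).subtype with hQ
    have hQp : IsPGroup p Q := S.isPGroup'.to_le (Subgroup.map_subtype_le _)
    have hmem : ∀ i, MemLocalIdeal M (blockCoeff B (o.out.1 i)) := by
      intro i
      by_contra hno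
      have hcen : o.out.1 i ∈ Subgroup.centralizer (Q : Set G) := by
        rintro _ ⟨s, hs, rfl⟩
        have h1 : (s : G) * o.out.1 i * (s : G)⁻¹ = o.out.1 i :=
          congrFun (congrArg Subtype.val (MulAction.mem_stabilizer_iff.mp hs)) i
        show (s : G) * o.out.1 i = o.out.1 i * (s : G)
        rwa [mul_inv_eq_iff_eq_mul] at h1
      obtain ⟨c, hc⟩ := le_defect_of_detect hM hB hg hgD hQp hcen hno
      have h2 := Subgroup.card_le_of_le hc
      rw [Subgroup.card_map_of_injective (f := (MulAut.conj c).toMonoidHom) (MulAut.conj c).injective,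
        card_defectGroup hM hB hD, hQ,
        Subgroup.card_map_of_injective (Subgroup.subtype_injective _), htc] at h2
      exact htd ((Nat.pow_le_pow_iff_right hM.1.one_lt).mp h2)
    obtain ⟨g, -, hgc⟩ := Finset.exists_lt_card_fiber_of_mul_lt_card_of_maps_to
      (s := (Finset.univ : Finset (Fin (n + 1)))) (t := (Finset.univ : Finset G)) (f := o.out.1)
      (fun i _ => Finset.mem_univ _) (n := L) (by
        rw [Finset.card_univ, Finset.card_univ, Fintype.card_fin, ← Nat.card_eq_fintype_card]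
        omega)
    set F := Finset.univ.filter fun i => o.out.1 i = g with hF
    have hFne : F.Nonempty := Finset.card_pos.mp (by omega)
    obtain ⟨i₀, hi₀⟩ := hFne
    have hgI : MemLocalIdeal M (blockCoeff B g) := (Finset.mem_filter.mp hi₀).2 ▸ hmem i₀
    obtain ⟨y, hy, hye⟩ := hnx g hgI F.card
      ((Finset.single_le_sum (fun x _ => Nat.zero_le (nx x)) (Finset.mem_univ g)).trans hgc.le)
    refine ⟨((p : ℂ) ^ (a - t)) * (y * ∏ i ∈ Fᶜ, blockCoeff B (o.out.1 i)),
      memLR_mul hP (memLR_pow hP (memLR_natCast hP p) _)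
        (memLR_mul hP hy (memLR_prod hP _ _ fun i _ => hcoe _)), ?_⟩
    have hwe : w o.out = blockCoeff B g ^ F.card * ∏ i ∈ Fᶜ, blockCoeff B (o.out.1 i) := by
      show ∏ i, blockCoeff B (o.out.1 i) = _
      rw [← Finset.prod_mul_prod_compl F]
      congr 1
      exact Finset.prod_eq_pow_card fun i hi => by rw [(Finset.mem_filter.mp hi).2]
    rw [hwe, hye, Nat.cast_pow]
    ring

open scoped Classical in
/-- The sum of the squared degrees is divisible by `p ^ (2a - d)`. -/
theorem pow_dvd_sum (hM : IsPModular p M) (hB : IsPBlock M B) {D : Subgroup G}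
    (hD : IsDefectGroup p M B D) :
    p ^ ((Nat.card G).factorization p + ((Nat.card G).factorization p - blockDefect p B)) ∣
      ∑ χ : IrrCharacter G with χ ∈ B, charDegree (χ : G → ℂ) ^ 2 := by
  have hP := pmod_prime hM
  obtain ⟨y, hy, hye⟩ := coeff_one_dvd hM hB hD
  set a := (Nat.card G).factorization p
  obtain ⟨m, hm⟩ : p ^ a ∣ Nat.card G := Nat.ordProj_dvd _ _
  refine dvd_of_local hM (z := (m : ℂ) * y) (memLR_mul hP (memLR_natCast hP m) hy) ?_
  have h1 : ((∑ χ : IrrCharacter G with χ ∈ B, charDegree (χ : G → ℂ) ^ 2 : ℕ) : ℂ) =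
      (Nat.card G : ℂ) * blockCoeff B 1 := by
    rw [blockCoeff, ← mul_assoc, mul_inv_cancel₀ (Nat.cast_ne_zero.mpr Nat.card_pos.ne'), one_mul,
      finsum_mem_eq_toFinset_sum, Nat.cast_sum]
    refine Finset.sum_congr (by ext χ; simp) fun χ _ => ?_
    rw [Nat.cast_pow, charDegree_eq_deg, ← char_one_eq_deg (irr_isCharacter χ.2), sq]
    congr 1
    rw [char_one_eq_deg (irr_isCharacter χ.2), Complex.conj_natCast]
  rw [h1, hye, hm, pow_add]
  push_cast
  ring

/-- The degree divided by the least power of `p` occurring in the block. -/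
noncomputable def redDeg (p : ℕ) (B : Set (IrrCharacter G)) (χ : IrrCharacter G) : ℕ :=
  charDegree (χ : G → ℂ) / p ^ dmin p B

theorem redDeg_spec {χ : IrrCharacter G} (hχ : χ ∈ B) :
    charDegree (χ : G → ℂ) = p ^ dmin p B * redDeg p B χ :=
  (Nat.mul_div_cancel' ((pow_dvd_pow p (dmin_le hχ)).trans (Nat.ordProj_dvd _ p))).symm

theorem redDeg_dvd_iff (hM : IsPModular p M) {χ : IrrCharacter G} (hχ : χ ∈ B) :
    p ∣ redDeg p B χ ↔ blockHeight p B (χ : G → ℂ) ≠ 0 := by
  have hp := hM.1
  have hdeg : charDegree (χ : G → ℂ) ≠ 0 := by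
    rw [charDegree_eq_deg]; exact (deg_pos χ.2).ne'
  have hr : redDeg p B χ ≠ 0 := fun h => hdeg (by rw [redDeg_spec hχ, h, mul_zero])
  rw [Nat.Prime.dvd_iff_one_le_factorization hp hr, blockHeight_eq]
  have h1 : (charDegree (χ : G → ℂ)).factorization p = dmin p B + (redDeg p B χ).factorization p := by
    conv_lhs => rw [redDeg_spec (p := p) hχ]
    rw [Nat.factorization_mul (pow_ne_zero _ hp.ne_zero) hr, Finsupp.add_apply, hp.factorization_pow,
      Finsupp.single_eq_same]
  show 1 ≤ _ ↔ (charDegree (χ : G → ℂ)).factorization p - dmin p B ≠ 0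
  omega

open scoped Classical in
/-- The congruence for the characters of height zero. -/
theorem height_zero_congr (hM : IsPModular p M) (hB : IsPBlock M B) {D : Subgroup G}
    (hD : IsDefectGroup p M B D) {j : ℕ} (hj : j ≤ blockDefect p B) (hj2 : j ≤ 2) :
    p ^ j ∣ ∑ χ : IrrCharacter G with χ ∈ B ∧ blockHeight p B (χ : G → ℂ) = 0, redDeg p B χ ^ 2 := by
  have hne := block_nonempty (pmod_prime hM) hB
  have hda := dmin_add_defect (p := p) hne
  have h := pow_dvd_sum hM hB hD
  have e : ∑ χ : IrrCharacter G with χ ∈ B, charDegree (χ : G → ℂ) ^ 2 =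
      p ^ (2 * dmin p B) * ∑ χ : IrrCharacter G with χ ∈ B, redDeg p B χ ^ 2 := by
    rw [Finset.mul_sum]
    refine Finset.sum_congr rfl fun χ hχ => ?_
    rw [redDeg_spec (p := p) (Finset.mem_filter.mp hχ).2, mul_pow, ← pow_mul, mul_comm (dmin p B)]
  rw [e, show (Nat.card G).factorization p + ((Nat.card G).factorization p - blockDefect p B) =
    2 * dmin p B + blockDefect p B by omega, pow_add] at h
  have h2 : p ^ j ∣ ∑ χ : IrrCharacter G with χ ∈ B, redDeg p B χ ^ 2 :=
    (pow_dvd_pow p hj).trans (Nat.dvd_of_mul_dvd_mul_left (pow_pos hM.1.pos _) h)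
  rw [← Finset.sum_filter_add_sum_filter_not (Finset.univ.filter fun χ : IrrCharacter G => χ ∈ B)
    fun χ : IrrCharacter G => blockHeight p B (χ : G → ℂ) = 0, Finset.filter_filter] at h2
  refine (Nat.dvd_add_left (Finset.dvd_sum fun χ hχ => ?_)).mp h2
  obtain ⟨hχB, hne0⟩ := Finset.mem_filter.mp hχ
  exact (pow_dvd_pow p hj2).trans
    (pow_dvd_pow_of_dvd ((redDeg_dvd_iff hM (Finset.mem_filter.mp hχB).2).mpr hne0) 2)

open scoped Classical in
/-- In a block of positive defect at the primes two and three the number of height zero characters is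
divisible by the prime. -/
theorem count_small (hM : IsPModular p M) (hp : p ≤ 3) (hB : IsPBlock M B) {D : Subgroup G}
    (hD : IsDefectGroup p M B D) (hd : 1 ≤ blockDefect p B) :
    p ∣ Nat.card {χ : IrrCharacter G // χ ∈ B ∧ blockHeight p B (χ : G → ℂ) = 0} := by
  haveI := Fact.mk hM.1
  have h := height_zero_congr hM hB hD hd (by norm_num)
  rw [pow_one] at h
  rw [Nat.card_eq_fintype_card, Fintype.card_subtype]
  have h1 : ((∑ χ : IrrCharacter G with χ ∈ B ∧ blockHeight p B (χ : G → ℂ) = 0, redDeg p B χ ^ 2 : ℕ) :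
      ZMod p) = ((Finset.univ.filter fun χ : IrrCharacter G =>
        χ ∈ B ∧ blockHeight p B (χ : G → ℂ) = 0).card : ZMod p) := by
    rw [Nat.cast_sum, Finset.sum_congr rfl fun χ hχ => ?_, Finset.sum_const, nsmul_eq_mul, mul_one]
    obtain ⟨hχB, h0⟩ := (Finset.mem_filter.mp hχ).2
    have hnd : ¬ p ∣ redDeg p B χ := fun hh => (redDeg_dvd_iff hM hχB).mp hh h0
    have hx : ((redDeg p B χ : ℕ) : ZMod p) ≠ 0 := fun hh =>
      hnd ((ZMod.natCast_eq_zero_iff _ p).mp hh)
    have key : ∀ q : ℕ, q = 2 ∨ q = 3 → ∀ z : ZMod q, z ≠ 0 → z ^ 2 = 1 := by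
      rintro q (rfl | rfl) <;> decide
    rw [Nat.cast_pow]
    refine key p ?_ _ hx
    have := hM.1.two_le
    omega
  rw [(ZMod.natCast_eq_zero_iff _ p).mpr h] at h1
  exact (ZMod.natCast_eq_zero_iff _ p).mp h1.symm

end Cfsg.Agent.Solv.BlockSquares
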