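import Cfsg.Agent.Lib.Char.StarAction
import Cfsg.Agent.Lib.Solv.BlockSquares

/-!
# Height zero characters come in free orbits of constant degree

The linear characters of a defect group trivial on the focal subgroup act freely on the characters of
height zero, and they preserve degrees.
-/

set_option autoImplicit false
set_option linter.unusedSectionVars false
set_option linter.style.haveILetI false

namespace Cfsg.Agent.Solv.BlockSquares

open Cfsg Cfsg.Agent.Char Cfsg.Agent.Char.Star Relation

universe u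

variable {G : Type u} [Group G] [Fintype G] {M : Ideal AlgInt} {p : ℕ} {B : Set (IrrCharacter G)}
  {P : Subgroup G} {e : Set (IrrCharacter (Subgroup.centralizer (P : Set G)))}

open scoped Classical in
/-- A sum invariant under a free action. -/
theorem sum_free {A X : Type*} [Group A] [Finite A] [Fintype X] [MulAction A X]
    (hfree : ∀ x : X, MulAction.stabilizer A x = ⊥) (w : X → ℕ) (hw : ∀ (a : A) x, w (a • x) = w x) :
    ∃ (r : ℕ) (f : Fin r → ℕ), Fintype.card X = Nat.card A * r ∧ ∑ x, w x = Nat.card A * ∑ i, f i ∧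
      ∀ i, ∃ x, w x = f i := by
  let Q := MulAction.orbitRel.Quotient A X
  let eQ := Fintype.equivFin Q
  have horb : ∀ o : Q, Fintype.card (MulAction.orbit A o.out) = Nat.card A := fun o => by
    rw [← Nat.card_eq_fintype_card, Nat.card_coe_set_eq, ← MulAction.index_stabilizer, hfree,
      Subgroup.index_bot]
  refine ⟨Fintype.card Q, fun i => w (eQ.symm i).out, ?_, ?_, fun i => ⟨_, rfl⟩⟩
  · rw [Fintype.card_congr (MulAction.selfEquivSigmaOrbits A X), Fintype.card_sigma,
      Finset.sum_congr rfl fun o _ => horb o, Finset.sum_const, smul_eq_mul, Finset.card_univ, mul_comm]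
  · rw [← (MulAction.selfEquivSigmaOrbits A X).symm.sum_comp, Fintype.sum_sigma, Finset.mul_sum,
      ← eQ.symm.sum_comp]
    refine Finset.sum_congr rfl fun i _ => ?_
    have hval : ∀ x : MulAction.orbit A (eQ.symm i).out,
        w ((MulAction.selfEquivSigmaOrbits A X).symm ⟨eQ.symm i, x⟩) = w (eQ.symm i).out := by
      rintro ⟨_, a, rfl⟩
      exact hw a _
    rw [Finset.sum_congr rfl fun x _ => hval x, Finset.sum_const, smul_eq_mul, Finset.card_univ, horb]

open scoped Classical in
/-- The height zero characters in orbits. -/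
theorem height_zero_orbits (hM : IsPModular p M) {F : FusionSystem P}
    (hF : IsBlockFusionSystemOn p M B P e F) :
    ∃ (r : ℕ) (f : Fin r → ℕ),
      Nat.card {χ : IrrCharacter G // χ ∈ B ∧ blockHeight p B (χ : G → ℂ) = 0} =
        (F.focalSubgroup.subgroupOf P).index * r ∧
      (∑ χ : IrrCharacter G with χ ∈ B ∧ blockHeight p B (χ : G → ℂ) = 0, redDeg p B χ ^ 2) =
        (F.focalSubgroup.subgroupOf P).index * ∑ i, f i ∧
      ∀ i, ∃ χ : IrrCharacter G, χ ∈ B ∧ blockHeight p B (χ : G → ℂ) = 0 ∧ redDeg p B χ ^ 2 = f i := by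
  have hmax := hF.1
  haveI := Fact.mk hM.1
  set N := F.focalSubgroup.subgroupOf P with hN
  have hcomm : ∀ x y : P, x⁻¹ * (y * x * y⁻¹) ∈ N := fun x y =>
    Subgroup.subset_closure ⟨P, conjHom P (y : G), x, F.conj_mem le_rfl y.2, rfl⟩
  haveI hNn : N.Normal := ⟨fun n hn g => by
    have h1 := mul_mem hn (hcomm n g)
    rwa [mul_inv_cancel_left] at h1⟩
  letI : CommGroup (P ⧸ N) :=
    { (inferInstance : Group (P ⧸ N)) with
      mul_comm := fun a b => by
        induction a using QuotientGroup.induction_on with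
        | H a =>
          induction b using QuotientGroup.induction_on with
          | H b =>
            rw [← QuotientGroup.mk_mul, ← QuotientGroup.mk_mul, QuotientGroup.eq]
            have h1 := hcomm b a⁻¹
            rw [inv_inv] at h1
            rwa [mul_inv_rev, ← mul_assoc, mul_assoc b⁻¹, mul_assoc b⁻¹] at * }
  haveI : NeZero (Monoid.exponent (P ⧸ N)) := ⟨Monoid.exponent_ne_zero_of_finite⟩
  haveI : Finite ((P ⧸ N) →* ℂˣ) := Nat.finite_of_card_ne_zero (by
    rw [CommGroup.card_monoidHom_of_hasEnoughRootsOfUnity]; exact Nat.card_pos.ne')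
  let lf : ((P ⧸ N) →* ℂˣ) → (P →* ℂˣ) := fun μ => μ.comp (QuotientGroup.mk' N)
  have hst : ∀ μ, Stable p M P e (linFun (lf μ)) := fun μ => stable_linFun hM hmax hF fun x hx => by
    show μ (QuotientGroup.mk x) = 1
    rw [(QuotientGroup.eq_one_iff x).mpr hx, map_one]
  let X := {χ : IrrCharacter G // χ ∈ B ∧ blockHeight p B (χ : G → ℂ) = 0}
  choose act hactB hact hacth using fun (μ : (P ⧸ N) →* ℂˣ) (χ : X) =>
    exists_act hM hmax (hst μ) χ.1 χ.2.1
  letI : MulAction ((P ⧸ N) →* ℂˣ) X :=
    { smul := fun μ χ => ⟨act μ χ, hactB μ χ, (hacth μ χ).trans χ.2.2⟩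
      one_smul := fun χ => Subtype.ext (Subtype.ext (by
        show (act 1 χ : G → ℂ) = _
        rw [← hact]
        conv_rhs => rw [← theta_one hM hmax χ.2.1]
        funext g
        refine Finset.sum_congr rfl fun a ha => ?_
        obtain ⟨w, hw, -, e1⟩ := exists_into hM hmax (hst 1) ha
        rw [e1, wt_one hM hmax ha, show linFun (lf 1) _ = _ from linFun_mem (lf 1) ⟨_, hw⟩]
        rfl))
      mul_smul := fun μ ν χ => Subtype.ext (Subtype.ext (by
        show (act (μ * ν) χ : G → ℂ) = (act μ ⟨act ν χ, _⟩ : G → ℂ)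
        rw [← hact, ← hact]
        show _ = theta p M B P e (linFun (lf μ)) (act ν χ : G → ℂ)
        rw [← hact, theta_theta hM _ (hst ν) (isClassFunction_character (irr_isCharacter χ.1.2)),
          ← linFun_mul]
        rfl)) }
  have hdeg : ∀ (μ : (P ⧸ N) →* ℂˣ) (χ : X),
      charDegree ((μ • χ : X).1 : G → ℂ) = charDegree (χ.1 : G → ℂ) := fun μ χ => by
    show charDegree (act μ χ : G → ℂ) = _
    have h1 : (act μ χ : G → ℂ) 1 = (χ.1 : G → ℂ) 1 := by
      rw [← hact, theta_degree hM hmax (hst μ) χ.2.1,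
        show linFun (lf μ) (1 : G) = _ from linFun_mem (lf μ) 1, map_one, Units.val_one, one_mul]
    rw [charDegree_eq_deg, charDegree_eq_deg]
    rw [char_one_eq_deg (irr_isCharacter (act μ χ).2), char_one_eq_deg (irr_isCharacter χ.1.2)] at h1
    exact_mod_cast h1
  have hfree : ∀ χ : X, MulAction.stabilizer ((P ⧸ N) →* ℂˣ) χ = ⊥ := by
    intro χ
    refine (Subgroup.eq_bot_iff_forall _).2 fun μ hμ => MonoidHom.ext fun q => ?_
    induction q using QuotientGroup.induction_on with
    | H z =>
      have hfix : theta p M B P e (linFun (lf μ)) (χ.1 : G → ℂ) = (χ.1 : G → ℂ) := by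
        rw [hact μ χ]
        exact congrArg (fun c : X => (c.1 : G → ℂ)) hμ
      have hle : Subgroup.zpowers (z : G) ≤ P := Subgroup.zpowers_le.mpr z.2
      obtain ⟨f, ⟨hfb, hf⟩, -⟩ := existsUnique_subpair hM hmax.1.1 hle
      have hS := (isBrauerPair_of_le hmax.1.1 hf).1
      obtain ⟨k, hk⟩ := IsPGroup.iff_card.mp hS
      have hQ : Subgroup.zpowers (z : G) ≤ Subgroup.centralizer (Subgroup.zpowers (z : G) : Set G) :=
        Subgroup.zpowers_le.mpr (mem_czp.mpr (Commute.refl _))
      have hind := CentralPairs.induced_of_pair hM hQ ((brauerPairOf_subpair hM hmax.1.2.1 hf).mpr hmax.1)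
      obtain ⟨s, hs, hne⟩ := exists_part_ne hM ⟨k, by rwa [Nat.card_zpowers] at hk⟩ hfb hind χ.2.1 (Or.inl χ.2.2)
      have h := weight_one_of_fixed hM hmax (hst μ) χ.2.1 hfix z.2 hf hs hne
      rw [linFun_mem] at h
      exact Units.val_eq_one.mp h
  obtain ⟨r, f, hcard, hsum, hex⟩ := sum_free hfree (fun χ : X => redDeg p B χ.1 ^ 2) fun μ χ => by
    show (charDegree ((μ • χ : X).1 : G → ℂ) / _) ^ 2 = _
    rw [hdeg]
    rfl
  have hA : Nat.card ((P ⧸ N) →* ℂˣ) = N.index := by
    rw [CommGroup.card_monoidHom_of_hasEnoughRootsOfUnity, Subgroup.index_eq_card]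
  rw [hA] at hcard hsum
  refine ⟨r, f, by rw [Nat.card_eq_fintype_card]; exact hcard, ?_, fun i => ?_⟩
  · rw [← hsum]
    exact Finset.sum_subtype _ (fun χ => by simp) fun χ => redDeg p B χ ^ 2
  · obtain ⟨χ, hχ⟩ := hex i
    exact ⟨χ.1, χ.2.1, χ.2.2, hχ⟩

end Cfsg.Agent.Solv.BlockSquares
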