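import Cfsg.Agent.Lib.Char.ZStar

/-!
A principal block criterion: a set of involutions that is closed, up to the values of the
characters of the principal block, under products with a conjugacy class forces a nontrivial
character whose kernel contains the class.
-/

set_option autoImplicit false

namespace Cfsg.Agent.Solv.BlockProd

open Cfsg Cfsg.Agent.Char

universe u

variable {G : Type u} [Group G] [Fintype G]

open scoped Classical in
/-- If the products of the members of `X` with the conjugates of `a` take, on the principal block,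
the values of members of `X`, then `a` lies in the kernel of a nontrivial character of the block. -/
theorem exists_kernel_char {M : Ideal AlgInt} (hM : IsPModular 2 M) (a x₀ : G) (X : Set G)
    (hx₀ : x₀ ∈ X) (hX : ∀ x ∈ X, orderOf x = 2)
    (hstep : ∀ x ∈ X, ∀ s : G, ∃ z ∈ X, ∀ χ : IrrCharacter G, χ ∈ principalBlock M G →
      (χ : G → ℂ) (x * (s * a * s⁻¹)) = (χ : G → ℂ) z) :
    ∃ χ : IrrCharacter G, (χ : G → ℂ) ≠ (fun _ => 1) ∧ (χ : G → ℂ) a = (χ : G → ℂ) 1 := by
  by_contra hcon
  push Not at hcon
  have hP := pmod_prime hM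
  have hG : (Nat.card G : ℂ) ≠ 0 := Nat.cast_ne_zero.mpr Nat.card_pos.ne'
  set ω : IrrCharacter G → ℂ := fun χ => (χ : G → ℂ) a / (χ : G → ℂ) 1 with hω
  -- orthogonality with the identity, twisted by powers of `ω`
  have hpow : ∀ n : ℕ, ∀ x ∈ X, ∑ χ : IrrCharacter G with χ ∈ principalBlock M G,
      ω χ ^ n * ((χ : G → ℂ) 1 * (χ : G → ℂ) x) = 0 := by
    intro n
    induction n with
    | zero =>
      intro x hx
      have hx2 : x * x = 1 := by
        rw [← pow_two, ← hX x hx, pow_orderOf_eq_one]
      have h := weak_orthogonality hM (isPBlock_principalBlock (G := G) M) (x := 1) (y := x⁻¹)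
        (by simp) (by rw [orderOf_inv, hX x hx])
      rw [finsum_mem_irr] at h
      rw [← h]
      refine Finset.sum_congr rfl fun χ _ => ?_
      rw [char_inv (irr_isCharacter χ.2), Complex.conj_conj, pow_zero, one_mul]
    | succ n ih =>
      intro x hx
      choose z hz hzχ using hstep x hx
      have key : ∀ χ : IrrCharacter G, χ ∈ principalBlock M G →
          (Nat.card G : ℂ) * (ω χ ^ (n + 1) * ((χ : G → ℂ) 1 * (χ : G → ℂ) x)) =
            ∑ s : G, ω χ ^ n * ((χ : G → ℂ) 1 * (χ : G → ℂ) (z s)) := by
        intro χ hχ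
        have h := sum_conj_mul χ.2 x a
        rw [Finset.sum_congr rfl fun s _ => hzχ s χ hχ, Finset.mul_sum] at h
        rw [← Finset.mul_sum, h, pow_succ]
        have hne := irr_one_ne_zero χ.2
        simp only [hω]
        field_simp
      refine (mul_eq_zero.mp (?_ : (Nat.card G : ℂ) * _ = 0)).resolve_left hG
      rw [Finset.mul_sum, Finset.sum_congr rfl fun χ hχ => key χ (Finset.mem_filter.mp hχ).2,
        Finset.sum_comm]
      exact Finset.sum_eq_zero fun s _ => ih (z s) (hz s)
  set triv : IrrCharacter G := ⟨fun _ => 1, isIrrCharacter_one⟩ with htriv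
  have htB : triv ∈ (Finset.univ : Finset (IrrCharacter G)).filter (fun χ => χ ∈ principalBlock M G) :=
    Finset.mem_filter.mpr ⟨Finset.mem_univ _,
      show (⟨_, isIrrCharacter_one⟩ : IrrCharacter G) ∈ principalBlock M G from sameBlock_refl hP _⟩
  -- a polynomial separating the trivial character
  set S : Finset ℂ := (((Finset.univ : Finset (IrrCharacter G)).filter
    (fun χ => χ ∈ principalBlock M G)).erase triv).image ω with hS
  have h1S : (1 : ℂ) ∉ S := by
    intro h
    obtain ⟨χ, hχ, he⟩ := Finset.mem_image.mp h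
    refine hcon χ (fun e => (Finset.mem_erase.mp hχ).1 (Subtype.ext e)) ?_
    exact (div_eq_one_iff_eq (irr_one_ne_zero χ.2)).mp he
  set q : Polynomial ℂ := ∏ r ∈ S, (Polynomial.X - Polynomial.C r) with hq
  have hlin : ∑ χ : IrrCharacter G with χ ∈ principalBlock M G,
      q.eval (ω χ) * ((χ : G → ℂ) 1 * (χ : G → ℂ) x₀) = 0 := by
    simp only [Polynomial.eval_eq_sum_range, Finset.sum_mul]
    rw [Finset.sum_comm]
    refine Finset.sum_eq_zero fun n _ => ?_
    simp only [mul_assoc]
    rw [← Finset.mul_sum, hpow n x₀ hx₀, mul_zero]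
  rw [Finset.sum_eq_single triv] at hlin
  · simp only [htriv, hω, div_one, mul_one] at hlin
    rw [hq, Polynomial.eval_prod] at hlin
    obtain ⟨r, hr, hr0⟩ := Finset.prod_eq_zero_iff.mp hlin
    rw [Polynomial.eval_sub, Polynomial.eval_X, Polynomial.eval_C, sub_eq_zero] at hr0
    exact h1S (hr0 ▸ hr)
  · intro χ hχ hne
    have hmem : ω χ ∈ S := Finset.mem_image.mpr ⟨χ, Finset.mem_erase.mpr ⟨hne, hχ⟩, rfl⟩
    rw [hq, Polynomial.eval_prod, Finset.prod_eq_zero hmem (by simp), zero_mul]
  · exact fun h => absurd htB h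

/-- In the kernel of a nontrivial character of a simple group lies only the identity. -/
theorem eq_one_of_kernel [IsSimpleGroup G] {a : G} {χ : IrrCharacter G}
    (hne : (χ : G → ℂ) ≠ fun _ => 1) (hχ : (χ : G → ℂ) a = (χ : G → ℂ) 1) : a = 1 := by
  classical
  obtain ⟨K, hKn, hK⟩ := exists_charKernel (irr_isCharacter χ.2)
  haveI := hKn
  rcases IsSimpleGroup.eq_bot_or_eq_top_of_normal K hKn with hb | ht
  · exact Subgroup.mem_bot.mp (hb ▸ (hK a).mpr hχ)
  · refine absurd ?_ hne
    have hconst : ∀ g, (χ : G → ℂ) g = (χ : G → ℂ) 1 := fun g =>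
      (hK g).mp (ht ▸ Subgroup.mem_top g)
    by_contra hne'
    have h1 := irr_orth χ.2 isIrrCharacter_one
    rw [if_neg hne', classInner] at h1
    simp only [hconst, map_one, mul_one, Finset.sum_const, Finset.card_univ, nsmul_eq_mul,
      mul_eq_zero, inv_eq_zero, Nat.cast_eq_zero] at h1
    rcases h1 with h1 | h1 | h1
    · exact Nat.card_pos.ne' h1
    · exact Fintype.card_ne_zero h1
    · exact irr_one_ne_zero χ.2 h1

end Cfsg.Agent.Solv.BlockProd
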