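import Cfsg.Agent.Lib.Solv.BrauerReynoldsBlock
import Cfsg.Agent.Lib.Char.SelfCentralizing
import Cfsg.Agent.Lib.Char.PrimeDegreesThree

/-!
Restriction to the normaliser of a self-centralising Sylow subgroup of prime order.
-/

set_option autoImplicit false

namespace Cfsg.Agent.Solv.BReyn

open Cfsg Cfsg.Agent.Char
open scoped ComplexConjugate

universe u

variable {G : Type u} [Group G] [Fintype G] {p : ℕ} [Fact p.Prime] {P : Sylow p G} {n e t : ℕ}
  {M : Ideal AlgInt} {X Y : Finset (IrrCharacter G)} {a : IrrCharacter G → ℤ} {δ : ℤ}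

/-- The trivial character. -/
noncomputable def one' (G : Type u) [Group G] [Fintype G] : IrrCharacter G :=
  ⟨fun _ => 1, isIrrCharacter_one⟩

theorem one'_apply (g : G) : (one' G : G → ℂ) g = 1 := rfl

open scoped Classical in
/-- The non-trivial characters of the block with positive sign. -/
noncomputable def Xp (X : Finset (IrrCharacter G)) (a : IrrCharacter G → ℤ) :
    Finset (IrrCharacter G) :=
  (X.erase (one' G)).filter fun χ => a χ = 1

open scoped Classical in
/-- The non-trivial characters of the block with negative sign. -/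
noncomputable def Xm (X : Finset (IrrCharacter G)) (a : IrrCharacter G → ℤ) :
    Finset (IrrCharacter G) :=
  (X.erase (one' G)).filter fun χ => ¬ a χ = 1

open scoped Classical in
/-- The characters outside the principal block. -/
noncomputable def Out (X Y : Finset (IrrCharacter G)) : Finset (IrrCharacter G) :=
  Finset.univ \ (X ∪ Y)

/-- The multiplicity of the trivial character of `P`. -/
noncomputable def fx (P : Sylow p G) (χ : IrrCharacter G) : ℕ :=
  Classical.choose (exists_sum_on_sylow (P := P) χ)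

open scoped Classical in
theorem sum_nonOne' (F : ↥(P : Subgroup G) → ℂ) :
    ∑ y ∈ nonOne P, F y = ∑ y : ↥(P : Subgroup G), F y - F 1 := by
  classical
  have h : nonOne P = Finset.univ.erase 1 := by
    ext y
    simp [mem_nonOne]
  rw [h, Finset.sum_erase_eq_sub (Finset.mem_univ _)]

open scoped Classical in
theorem fx_sum (hP : Nat.card P = p) (χ : IrrCharacter G) :
    ∑ y : ↥(P : Subgroup G), (χ : G → ℂ) (y : G) = (p : ℂ) * fx P χ := by
  have h : ∑ y : ↥(P : Subgroup G), (χ : G → ℂ) (y : G) = (Nat.card P : ℂ) * fx P χ :=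
    Classical.choose_spec (exists_sum_on_sylow (P := P) χ)
  rw [h, hP]

open scoped Classical in
theorem fx_spec (hP : Nat.card P = p) (χ : IrrCharacter G) :
    (χ : G → ℂ) 1 + ∑ y ∈ nonOne P, (χ : G → ℂ) (y : G) = (p : ℂ) * fx P χ := by
  rw [sum_nonOne' (fun y : ↥(P : Subgroup G) => (χ : G → ℂ) (y : G)), fx_sum hP, OneMemClass.coe_one]
  ring

namespace Data

variable (D : Data M P n e t X Y a δ)
include D

theorem hp : p.Prime := Fact.out

theorem three_le : 3 ≤ p := by
  have h1 := D.et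
  have h2 := D.two_le
  have h3 := D.t_pos
  nlinarith

theorem card_nonOne : ((nonOne P).card : ℂ) = (p : ℂ) - 1 := by
  rw [show ((nonOne P).card : ℂ) = ∑ y ∈ nonOne P, (1 : ℂ) by simp, sum_nonOne']
  simp only [Finset.sum_const, Finset.card_univ, nsmul_eq_mul, mul_one, ← Nat.card_eq_fintype_card]
  rw [D.hyp.card]

theorem centralizer_eq {y : ↥(P : Subgroup G)} (hy : (y : G) ≠ 1) :
    Subgroup.centralizer ({(y : G)} : Set G) = (P : Subgroup G) := by
  rw [← centralizer_zpowers_eq, eq_zpowers_of_prime_sylow D.hyp.card y.2 hy, D.self]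

theorem frobSylow : FrobSylow P e := D.index ▸ frobSylow_of_prime D.hyp.card

theorem singular_iff {y : ↥(P : Subgroup G)} (hy : (y : G) ≠ 1) : p ∣ orderOf (y : G) := by
  rw [← Nat.card_zpowers, eq_zpowers_of_prime_sylow D.hyp.card y.2 hy]
  exact D.hyp.card.symm ▸ dvd_rfl

theorem card_normalizer :
    Nat.card (Subgroup.normalizer ((P : Subgroup G) : Set G)) = p * e := by
  have hPN : (P : Subgroup G) ≤ Subgroup.normalizer ((P : Subgroup G) : Set G) :=
    Subgroup.le_normalizer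
  have h := Subgroup.card_mul_index ((P : Subgroup G).subgroupOf
    (Subgroup.normalizer ((P : Subgroup G) : Set G)))
  rw [Nat.card_congr (Subgroup.subgroupOfEquivOfLe hPN).toEquiv,
    show Nat.card ↥(P : Subgroup G) = p from D.hyp.card] at h
  have h2 := D.index
  rw [D.self] at h2
  rw [← h, ← h2]
  rfl

theorem card_eq : Nat.card G = p * e * (n * p + 1) := by
  rw [← Subgroup.card_mul_index (Subgroup.normalizer ((P : Subgroup G) : Set G)),
    D.card_normalizer, ← D.hyp.count]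
  congr 1
  exact (Sylow.card_eq_index_normalizer P).symm

/-- Outside the principal block characters vanish on `P` away from one. -/
theorem vanish {χ : IrrCharacter G} (hχ : χ ∈ Out X Y) {y : ↥(P : Subgroup G)}
    (hy : (y : G) ≠ 1) : (χ : G → ℂ) (y : G) = 0 := by
  classical
  have hχ' : χ ∉ principalBlock M G := by
    rw [Out, Finset.mem_sdiff, Finset.mem_union] at hχ
    rw [D.pp.mem_iff]
    exact hχ.2
  have hall := second_orth (y : G) (y : G)
  rw [if_pos (IsConj.refl _)] at hall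
  have hcl : (Nat.card G : ℂ) / Nat.card {x : G // IsConj (y : G) x} = (Nat.card P : ℂ) := by
    have h := card_conjClass_mul_centralizer (y : G)
    rw [D.centralizer_eq hy] at h
    rw [← h, Nat.cast_mul, mul_comm, mul_div_assoc,
      div_self (Nat.cast_ne_zero.mpr (card_conjClass_ne_zero _)), mul_one]
  rw [hcl, ← Finset.sum_filter_add_sum_filter_not _ (fun ψ => ψ ∈ principalBlock M G),
    FrobSylow.sum_norm_principal D.modular D.frobSylow hy, add_eq_left] at hall
  simp only [Complex.mul_conj] at hall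
  rw [← Complex.ofReal_sum, Complex.ofReal_eq_zero,
    Finset.sum_eq_zero_iff_of_nonneg fun ψ _ => Complex.normSq_nonneg _] at hall
  exact Complex.normSq_eq_zero.mp (hall χ (Finset.mem_filter.mpr ⟨Finset.mem_univ _, hχ'⟩))

theorem deg_out {χ : IrrCharacter G} (hχ : χ ∈ Out X Y) :
    (χ : G → ℂ) 1 = (p : ℂ) * fx P χ := by
  have h := fx_spec (P := P) D.hyp.card χ
  rwa [Finset.sum_eq_zero fun y hy => D.vanish hχ (mem_nonOne.mp hy), add_zero] at h

theorem sum_split (F : IrrCharacter G → ℂ) :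
    ∑ χ : IrrCharacter G, F χ = F (one' G) + ∑ χ ∈ Xp X a, F χ + ∑ χ ∈ Xm X a, F χ +
      ∑ χ ∈ Y, F χ + ∑ χ ∈ Out X Y, F χ := by
  classical
  rw [← Finset.sum_sdiff (Finset.subset_univ (X ∪ Y)), Finset.sum_union D.pp.disj,
    ← Finset.add_sum_erase X _ (show one' G ∈ X from D.one_mem),
    ← Finset.sum_filter_add_sum_filter_not (X.erase (one' G)) (fun χ => a χ = 1)]
  simp only [Xp, Xm, Out]
  ring

theorem cardX_split : (Xp X a).card + (Xm X a).card + 1 = e := by
  classical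
  rw [Xp, Xm, Finset.card_filter_add_card_filter_not,
    Finset.card_erase_of_mem (show one' G ∈ X from D.one_mem), D.pp.cardX]
  have := D.two_le
  omega

theorem mem_Xp {χ : IrrCharacter G} (h : χ ∈ Xp X a) :
    χ ∈ X ∧ a χ = 1 ∧ (χ : G → ℂ) 1 = (n : ℂ) * p + 1 := by
  classical
  rw [Xp, Finset.mem_filter, Finset.mem_erase] at h
  refine ⟨h.1.2, h.2, ?_⟩
  rcases D.degX χ h.1.2 h.1.1 with ⟨-, h2⟩ | ⟨h1, -⟩
  · rw [val_one, h2]; push_cast; rfl
  · omega

theorem mem_Xm {χ : IrrCharacter G} (h : χ ∈ Xm X a) :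
    χ ∈ X ∧ a χ = -1 ∧ (χ : G → ℂ) 1 = (p : ℂ) - 1 := by
  classical
  rw [Xm, Finset.mem_filter, Finset.mem_erase] at h
  rcases D.degX χ h.1.2 h.1.1 with ⟨h1, -⟩ | ⟨h1, h2⟩
  · exact absurd h1 h.2
  · refine ⟨h.1.2, h1, ?_⟩
    rw [val_one, h2, Nat.cast_sub (by have := D.three_le; omega), Nat.cast_one]

theorem rel_split {θ : IrrCharacter G} (hθ : θ ∈ Y) {g : G} (hg : ¬ p ∣ orderOf g) :
    (δ : ℂ) * (θ : G → ℂ) g =
      1 + ∑ χ ∈ Xp X a, (χ : G → ℂ) g - ∑ χ ∈ Xm X a, (χ : G → ℂ) g := by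
  classical
  rw [D.pp.rel θ hθ g hg, ← Finset.add_sum_erase X _ (show one' G ∈ X from D.one_mem),
    ← Finset.sum_filter_add_sum_filter_not (X.erase (one' G)) (fun χ => a χ = 1),
    show a (one' G) = 1 from D.one_sign, one'_apply]
  rw [Finset.sum_congr rfl (g := fun χ : IrrCharacter G => (χ : G → ℂ) g) fun χ hχ => by
      rw [(Finset.mem_filter.mp hχ).2]; simp,
    Finset.sum_congr rfl (s₁ := Finset.filter (fun χ => ¬ a χ = 1) (X.erase (one' G)))
      (g := fun χ : IrrCharacter G => -(χ : G → ℂ) g) fun χ hχ => by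
        rw [(D.mem_Xm (χ := χ) hχ).2.1]; simp,
    Finset.sum_neg_distrib]
  simp only [Xp, Xm]
  push_cast
  ring

theorem sum_val_X {χ : IrrCharacter G} (h : χ ∈ X) :
    ∑ y ∈ nonOne P, (χ : G → ℂ) (y : G) = ((p : ℂ) - 1) * a χ := by
  rw [Finset.sum_congr rfl fun y hy => D.pp.a_val χ h y hy, Finset.sum_const, nsmul_eq_mul,
    D.card_nonOne]

theorem fx_one : fx P (one' G) = 1 := by
  have h := fx_spec (P := P) D.hyp.card (one' G)
  rw [D.sum_val_X (show one' G ∈ X from D.one_mem), show a (one' G) = 1 from D.one_sign, one'_apply] at h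
  have h2 : (p : ℂ) * (fx P (one' G) : ℕ) = (p : ℂ) * (1 : ℕ) := by
    push_cast at h ⊢
    linear_combination -h
  exact_mod_cast mul_left_cancel₀ (Nat.cast_ne_zero.mpr D.hp.ne_zero) h2

theorem fx_Xp {χ : IrrCharacter G} (h : χ ∈ Xp X a) : fx P χ = n + 1 := by
  obtain ⟨h1, h2, h3⟩ := D.mem_Xp h
  have h4 := fx_spec (P := P) D.hyp.card χ
  rw [D.sum_val_X h1, h2, h3] at h4
  have h5 : (p : ℂ) * (fx P χ : ℕ) = (p : ℂ) * (n + 1 : ℕ) := by
    push_cast at h4 ⊢
    linear_combination -h4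
  exact_mod_cast mul_left_cancel₀ (Nat.cast_ne_zero.mpr D.hp.ne_zero) h5

theorem fx_Xm {χ : IrrCharacter G} (h : χ ∈ Xm X a) : fx P χ = 0 := by
  obtain ⟨h1, h2, h3⟩ := D.mem_Xm h
  have h4 := fx_spec (P := P) D.hyp.card χ
  rw [D.sum_val_X h1, h2, h3] at h4
  have h5 : (p : ℂ) * (fx P χ : ℕ) = (p : ℂ) * (0 : ℕ) := by
    push_cast at h4 ⊢
    linear_combination -h4
  exact_mod_cast mul_left_cancel₀ (Nat.cast_ne_zero.mpr D.hp.ne_zero) h5

theorem one_notMem_Y : one' G ∉ Y := fun h =>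
  Finset.disjoint_left.mp D.pp.disj D.one_mem h

/-- The sum of an exceptional character on `P`. -/
theorem sum_val_Y {θ : IrrCharacter G} (hθ : θ ∈ Y) :
    ∑ y ∈ nonOne P, (θ : G → ℂ) (y : G) = -(δ : ℂ) * e := by
  classical
  have hone : ∀ θ' ∈ Y, ∑ g : G, (θ' : G → ℂ) g = 0 := fun θ' hθ' => by
    have h := irrC_orth θ' (one' G)
    rw [if_neg (fun e1 => D.one_notMem_Y (by rw [← e1]; exact hθ')), classInner, mul_eq_zero] at h
    simpa [one'_apply] using h.resolve_left (inv_ne_zero (Nat.cast_ne_zero.mpr Nat.card_pos.ne'))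
  have hconst : ∀ θ' ∈ Y, ∑ y ∈ nonOne P, (θ' : G → ℂ) (y : G) =
      ∑ y ∈ nonOne P, (θ : G → ℂ) (y : G) := by
    intro θ' hθ'
    have hs : ∀ χ : IrrCharacter G, ((Nat.card P : ℂ) * e) *
        ∑ g : G with p ∣ orderOf g, (χ : G → ℂ) g =
        (Nat.card G : ℂ) * ∑ y ∈ nonOne P, (χ : G → ℂ) (y : G) := fun χ =>
      D.frobSylow.sum_singular_const (isClassFunction_character (irr_isCharacter χ.2))
        fun y hy v hv => by
          have hvP : (v : G) ∈ (P : Subgroup G) :=
            (SetLike.ext_iff.mp (D.centralizer_eq hy) _).mp v.2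
          obtain ⟨k, hk⟩ := FrobSylow.ppower (P := P) ⟨v, hvP⟩
          have hk' : orderOf (v : G) = p ^ k := hk
          rw [← Subgroup.orderOf_coe, hk'] at hv
          rcases Nat.eq_zero_or_pos k with rfl | hk0
          · rw [pow_zero] at hk'
            rw [orderOf_eq_one_iff.mp hk', mul_one]
          · exact absurd (dvd_pow_self p hk0.ne') hv
    have h1 := hone θ' hθ'
    have h2 := hone θ hθ
    rw [← Finset.sum_filter_add_sum_filter_not _ (fun g : G => p ∣ orderOf g)] at h1 h2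
    rw [Finset.sum_congr rfl (s₁ := Finset.univ.filter fun g : G => ¬ p ∣ orderOf g)
      fun g hg => D.pp.regY θ' hθ' θ hθ g (Finset.mem_filter.mp hg).2] at h1
    refine mul_left_cancel₀ (Nat.cast_ne_zero.mpr (Nat.card_pos (α := G)).ne') ?_
    rw [← hs, ← hs]
    linear_combination ((Nat.card P : ℂ) * e) * (h1 - h2)
  have hS : ∑ θ' ∈ Y, ∑ y ∈ nonOne P, (θ' : G → ℂ) (y : G) = ((p : ℂ) - 1) * -(δ : ℂ) := by
    rw [Finset.sum_comm, Finset.sum_congr rfl fun y hy =>
      sum_exc D.modular D.hyp.card D.pp ⟨θ, hθ⟩ hy, Finset.sum_const, nsmul_eq_mul, D.card_nonOne]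
  rw [Finset.sum_congr rfl hconst, Finset.sum_const, nsmul_eq_mul, D.cardY] at hS
  have het : (e : ℂ) * t + 1 = p := by exact_mod_cast D.et
  refine mul_left_cancel₀ (Nat.cast_ne_zero.mpr D.t_pos.ne') ?_
  rw [hS, ← het]
  ring

theorem fx_Y_plus (hδ : δ = 1) {θ : IrrCharacter G} (hθ : θ ∈ Y) :
    fx P θ = 0 ∧ (θ : G → ℂ) 1 = e := by
  have hd : charDegree (θ : G → ℂ) = e := (D.degY.resolve_right fun h => by omega).2 θ hθ
  have h4 := fx_spec (P := P) D.hyp.card θ
  rw [D.sum_val_Y hθ, val_one, hd, hδ] at h4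
  have h5 : (p : ℂ) * (fx P θ : ℕ) = (p : ℂ) * (0 : ℕ) := by
    push_cast at h4 ⊢
    linear_combination -h4
  exact ⟨by exact_mod_cast mul_left_cancel₀ (Nat.cast_ne_zero.mpr D.hp.ne_zero) h5,
    by rw [val_one, hd]⟩

theorem fx_Y_minus (hδ : δ = -1) {θ : IrrCharacter G} (hθ : θ ∈ Y) :
    t * fx P θ = n + 1 ∧ (θ : G → ℂ) 1 * t = (n : ℂ) * p + 1 := by
  have hd : charDegree (θ : G → ℂ) * t = n * p + 1 :=
    (D.degY.resolve_left fun h => by omega).2 θ hθ
  have hd' : (θ : G → ℂ) 1 * t = (n : ℂ) * p + 1 := by rw [val_one]; exact_mod_cast hd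
  have h4 := fx_spec (P := P) D.hyp.card θ
  rw [D.sum_val_Y hθ, hδ] at h4
  have het : (e : ℂ) * t + 1 = p := by exact_mod_cast D.et
  have h5 : (p : ℂ) * (t * fx P θ : ℕ) = (p : ℂ) * (n + 1 : ℕ) := by
    push_cast at h4 ⊢
    linear_combination -(t : ℂ) * h4 + hd' + het
  exact ⟨by exact_mod_cast mul_left_cancel₀ (Nat.cast_ne_zero.mpr D.hp.ne_zero) h5, hd'⟩

/-- A complement of `P` in its normaliser. -/
theorem exists_gen : ∃ s : G, s ∈ Subgroup.normalizer ((P : Subgroup G) : Set G) ∧ orderOf s = e ∧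
    ∀ w ∈ Subgroup.zpowers s, w ∈ (P : Subgroup G) → w = 1 := by
  obtain ⟨y, hy⟩ := D.hyp.exists_nonOne
  have hy1 := mem_nonOne.mp hy
  have hzp := eq_zpowers_of_prime_sylow D.hyp.card y.2 hy1
  have hx : orderOf (y : G) = p := by
    rw [← Nat.card_zpowers, hzp]; exact D.hyp.card
  have hC : Subgroup.centralizer ({(y : G)} : Set G) = Subgroup.zpowers (y : G) := by
    rw [hzp]; exact D.centralizer_eq hy1
  obtain ⟨s, hs, hso, hsk⟩ := SelfCent.exists_gen hx hC
  rw [hzp] at hs hso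
  have he := D.index
  rw [D.self] at he
  refine ⟨s, hs, hso.trans he, fun w hw hwP => ?_⟩
  obtain ⟨k, rfl⟩ := (Submonoid.mem_powers_iff _ _).mp
    ((mem_powers_iff_mem_zpowers).mpr hw)
  have hk := hsk k (by rw [D.centralizer_eq hy1]; exact hwP)
  exact orderOf_dvd_iff_pow_eq_one.mp hk

theorem regular_of_mem {s : G} (hs : orderOf s = e) {w : G} (hw : w ∈ Subgroup.zpowers s) :
    ¬ p ∣ orderOf w := by
  intro h
  have h1 : p ∣ e := h.trans (hs ▸ orderOf_dvd_of_mem_zpowers hw)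
  have h2 := Nat.le_of_dvd (by have := D.two_le; omega) h1
  have := D.et
  have : e ≤ e * t := Nat.le_mul_of_pos_right e D.t_pos
  omega

theorem mult_exists {s : G} (hsN : s ∈ Subgroup.normalizer ((P : Subgroup G) : Set G))
    (hso : orderOf s = e) (hsP : ∀ w ∈ Subgroup.zpowers s, w ∈ (P : Subgroup G) → w = 1)
    [Fintype ↥(Subgroup.zpowers s)] (χ : IrrCharacter G) :
    ∃ c : IrrCharacter ↥(Subgroup.zpowers s) → ℕ, ∑ l, c l = fx P χ ∧
      ∀ w : ↥(Subgroup.zpowers s), w ≠ 1 →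
        (χ : G → ℂ) (w : G) = ∑ l, (c l : ℂ) * (l : ↥(Subgroup.zpowers s) → ℂ) w := by
  classical
  set N := Subgroup.normalizer ((P : Subgroup G) : Set G) with hN
  set E := Subgroup.zpowers s with hE
  have hEN : E ≤ N := Subgroup.zpowers_le.mpr hsN
  have hPN : (P : Subgroup G) ≤ N := Subgroup.le_normalizer
  have hcardE : Nat.card E = e := by rw [hE, Nat.card_zpowers, hso]
  let f : ↥(P : Subgroup G) × ↥E → ↥N := fun q =>
    ⟨(q.1 : G) * (q.2 : G), N.mul_mem (hPN q.1.2) (hEN q.2.2)⟩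
  have hinj : Function.Injective f := by
    rintro ⟨y, w⟩ ⟨y', w'⟩ hq
    have h1 : (y : G) * w = y' * w' := congrArg Subtype.val hq
    have h2 : (w : G) * (w' : G)⁻¹ = (y : G)⁻¹ * y' := by
      calc (w : G) * (w' : G)⁻¹ = (y : G)⁻¹ * ((y : G) * w) * (w' : G)⁻¹ := by group
        _ = (y : G)⁻¹ * y' := by rw [h1]; group
    have h3 := hsP _ (E.mul_mem w.2 (E.inv_mem w'.2))
      (h2 ▸ Subgroup.mul_mem _ (Subgroup.inv_mem _ y.2) y'.2)
    have h4 : (w : G) = w' := mul_inv_eq_one.mp h3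
    rw [h4] at h1
    exact Prod.ext (Subtype.ext (mul_right_cancel h1)) (Subtype.ext h4)
  haveI : Fintype ↥N := Fintype.ofFinite _
  have hcard : Fintype.card (↥(P : Subgroup G) × ↥E) = Fintype.card ↥N := by
    rw [Fintype.card_prod, ← Nat.card_eq_fintype_card, ← Nat.card_eq_fintype_card,
      ← Nat.card_eq_fintype_card, hcardE, hN, D.card_normalizer,
      show Nat.card ↥(P : Subgroup G) = p from D.hyp.card]
  have hbij : Function.Bijective f :=
    (Fintype.bijective_iff_injective_and_card f).mpr ⟨hinj, hcard⟩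
  let φ : ↥N → ↥E := fun g => ((Equiv.ofBijective f hbij).symm g).2
  have hφ : ∀ (y : ↥(P : Subgroup G)) (w : ↥E), φ (f (y, w)) = w := fun y w => by
    simp only [φ]
    rw [show f (y, w) = Equiv.ofBijective f hbij (y, w) from rfl, Equiv.symm_apply_apply]
  have hmul : ∀ g g', φ (g * g') = φ g * φ g' := by
    intro g g'
    obtain ⟨⟨y, w⟩, rfl⟩ := hbij.2 g
    obtain ⟨⟨y', w'⟩, rfl⟩ := hbij.2 g'
    have hm : (w : G) * y' * (w : G)⁻¹ ∈ (P : Subgroup G) :=
      FrobSylow.conj_mem (hEN w.2) y'.2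
    have : f (y, w) * f (y', w') = f (y * ⟨_, hm⟩, w * w') := by
      apply Subtype.ext
      show (y : G) * w * (y' * w') = y * (w * y' * (w : G)⁻¹) * (w * w')
      group
    rw [this, hφ, hφ, hφ]
  let π : ↥N →* ↥E := MonoidHom.mk' φ hmul
  have hsum : ∀ F : G → ℂ, IsClassFunction G F → ∀ w : ↥E, w ≠ 1 →
      ∑ y : ↥(P : Subgroup G), F ((y : G) * w) = (p : ℂ) * F w := by
    intro F hF w hw
    have hw1 : (w : G) ≠ 1 := fun h => hw (Subtype.ext h)
    let k : ↥(P : Subgroup G) → ↥(P : Subgroup G) := fun v => v * ⟨(w : G) * ((v⁻¹ : ↥(P : Subgroup G)) : G) * (w : G)⁻¹,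
      FrobSylow.conj_mem (hEN w.2) (v⁻¹).2⟩
    have hk : Function.Injective k := by
      intro v v' hv
      have h1 : (v : G) * ((w : G) * (v : G)⁻¹ * (w : G)⁻¹) =
          v' * ((w : G) * (v' : G)⁻¹ * (w : G)⁻¹) := congrArg Subtype.val hv
      by_contra hne
      have hu : ((v'⁻¹ * v : ↥(P : Subgroup G)) : G) ≠ 1 := fun h => hne
        (inv_mul_eq_one.mp (Subtype.ext h : v'⁻¹ * v = 1)).symm
      have hcomm : (w : G) ∈ Subgroup.centralizer ({((v'⁻¹ * v : ↥(P : Subgroup G)) : G)} : Set G) := by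
        rw [Subgroup.mem_centralizer_singleton_iff]
        show (w : G) * ((v' : G)⁻¹ * v) = ((v' : G)⁻¹ * v) * w
        calc (w : G) * ((v' : G)⁻¹ * v) =
            (v' : G)⁻¹ * ((v' : G) * ((w : G) * (v' : G)⁻¹ * (w : G)⁻¹)) * (w * v) := by group
          _ = (v' : G)⁻¹ * ((v : G) * ((w : G) * (v : G)⁻¹ * (w : G)⁻¹)) * (w * v) := by rw [h1]
          _ = _ := by group
      rw [D.centralizer_eq hu] at hcomm
      exact hw1 (hsP _ w.2 hcomm)
    rw [← (Finite.injective_iff_bijective.mp hk).sum_comp,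
      Finset.sum_congr rfl (g := fun _ => F w) fun v _ => by
        rw [show ((k v : ↥(P : Subgroup G)) : G) * w = (v : G) * w * (v : G)⁻¹ by
          show (v : G) * ((w : G) * (v : G)⁻¹ * (w : G)⁻¹) * w = _
          group]
        exact hF _ _,
      Finset.sum_const, Finset.card_univ, nsmul_eq_mul, ← Nat.card_eq_fintype_card, D.hyp.card]
  have hf1 := fx_sum (P := P) D.hyp.card χ
  obtain ⟨v, hv⟩ : ∃ v : ↥E → ℂ, ∀ w, v w = if w = 1 then (fx P χ : ℂ) else (χ : G → ℂ) (w : G) :=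
    ⟨_, fun _ => rfl⟩
  have hinner : ∀ l : IrrCharacter ↥E, ∃ m : ℕ, classInner v (l : ↥E → ℂ) = m := by
    intro l
    obtain ⟨m, hm⟩ := classInner_natCast (isCharacter_comp N.subtype (irr_isCharacter χ.2))
      (isCharacter_comp π (irr_isCharacter l.2))
    refine ⟨m, ?_⟩
    have key : ∑ g : ↥N, ((χ : G → ℂ) ∘ N.subtype) g * conj (((l : ↥E → ℂ) ∘ π) g) =
        (p : ℂ) * ∑ w : ↥E, v w * conj ((l : ↥E → ℂ) w) := by
      rw [← hbij.sum_comp, Fintype.sum_prod_type, Finset.sum_comm, Finset.mul_sum]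
      refine Finset.sum_congr rfl fun w _ => ?_
      rw [Finset.sum_congr rfl (g := fun y : ↥(P : Subgroup G) =>
        (χ : G → ℂ) ((y : G) * w) * conj ((l : ↥E → ℂ) w)) fun y _ => by
          show (χ : G → ℂ) ((y : G) * w) * conj ((l : ↥E → ℂ) (φ (f (y, w)))) = _
          rw [hφ], ← Finset.sum_mul, ← mul_assoc]
      congr 1
      rw [hv]
      split_ifs with hw
      · subst hw; simp only [OneMemClass.coe_one, mul_one]; exact hf1
      · exact hsum _ (isClassFunction_character (irr_isCharacter χ.2)) w hw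
    rw [← hm, classInner, classInner, key, hcardE,
      show Nat.card ↥N = p * e from D.card_normalizer]
    push_cast
    have hp0 : (p : ℂ) ≠ 0 := Nat.cast_ne_zero.mpr D.hp.ne_zero
    field_simp
  choose c hc using hinner
  haveI : IsMulCommutative ↥E := IsCyclic.commutative
  have hexp := classFun_expansion (f := v) fun x y => by
    rw [show y * x * y⁻¹ = x by rw [show y * x = x * y from IsMulCommutative.is_comm.comm y x,
      mul_inv_cancel_right]]
  have hdeg : ∀ l : IrrCharacter ↥E, (l : ↥E → ℂ) 1 = 1 := fun l => by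
    rw [char_one_eq_deg (irr_isCharacter l.2), PrimeDegrees.deg_eq_one_of_comm_ker l fun x y => by
      rw [show x * y = y * x from IsMulCommutative.is_comm.comm x y, mul_inv_cancel_right,
        mul_inv_cancel]
      exact Subgroup.one_mem _, Nat.cast_one]
  refine ⟨c, ?_, fun w hw => ?_⟩
  · have h := congrFun hexp 1
    simp only [Finset.sum_apply, Pi.smul_apply, smul_eq_mul, hc, hdeg, mul_one] at h
    rw [hv, if_pos rfl] at h
    exact_mod_cast h.symm
  · have h := congrFun hexp w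
    simp only [Finset.sum_apply, Pi.smul_apply, smul_eq_mul, hc] at h
    rw [hv, if_neg hw] at h
    exact h

end Data

end Cfsg.Agent.Solv.BReyn
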