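import Cfsg.Agent.Lib.Solv.BrauerReynoldsLocal

/-!
The case of a negative exceptional sign: relations on the complement of the Sylow subgroup.
-/

set_option autoImplicit false

namespace Cfsg.Agent.Solv.BReyn

open Cfsg Cfsg.Agent.Char
open scoped ComplexConjugate

universe u

variable {G : Type u} [Group G] [Fintype G] {p : ℕ} [Fact p.Prime] {P : Sylow p G} {n e t : ℕ}
  {M : Ideal AlgInt} {X Y : Finset (IrrCharacter G)} {a : IrrCharacter G → ℤ} {δ : ℤ}

/-- The data of the case of a negative sign. -/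
structure MinusData (M : Ideal AlgInt) (P : Sylow p G) (n e t m : ℕ)
    (X Y : Finset (IrrCharacter G)) (a : IrrCharacter G → ℤ) (δ : ℤ) (θ₀ : IrrCharacter G)
    (s : G) [Fintype ↥(Subgroup.zpowers s)]
    (c : IrrCharacter G → IrrCharacter ↥(Subgroup.zpowers s) → ℕ) : Prop where
  data : Data M P n e t X Y a δ
  neg : δ = -1
  mem : θ₀ ∈ Y
  fxY : ∀ θ ∈ Y, fx P θ = m
  tm : t * m = n + 1
  count : e = 1 + (Xp X a).card * (n + 1) + m
  ord : orderOf s = e
  sumc : ∀ χ, ∑ l, c χ l = fx P χ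
  valc : ∀ χ : IrrCharacter G, ∀ w : ↥(Subgroup.zpowers s), w ≠ 1 →
    (χ : G → ℂ) (w : G) = ∑ l, (c χ l : ℂ) * (l : ↥(Subgroup.zpowers s) → ℂ) w

theorem exists_minusData (D : Data M P n e t X Y a δ) (hδ : δ = -1) :
    ∃ (m : ℕ) (θ₀ : IrrCharacter G) (s : G) (i : Fintype ↥(Subgroup.zpowers s))
      (c : IrrCharacter G → IrrCharacter ↥(Subgroup.zpowers s) → ℕ),
      @MinusData G _ _ p _ M P n e t m X Y a δ θ₀ s i c := by
  classical
  obtain ⟨θ, hθ⟩ : Y.Nonempty := Finset.card_pos.mp (by rw [D.cardY]; exact D.t_pos)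
  obtain ⟨s, hsN, hso, hsP⟩ := D.exists_gen
  letI i : Fintype ↥(Subgroup.zpowers s) := Fintype.ofFinite _
  choose c hc hv using D.mult_exists hsN hso hsP
  obtain ⟨htm, hy⟩ := D.fx_Y_minus hδ hθ
  refine ⟨fx P θ, θ, s, i, c, ⟨D, hδ, hθ, fun θ' hθ' => ?_, htm, ?_, hso, hc, hv⟩⟩
  · exact Nat.eq_of_mul_eq_mul_left D.t_pos ((D.fx_Y_minus hδ hθ').1.trans htm.symm)
  · have h := D.rel_split hθ (g := 1) (by rw [orderOf_one]; exact D.hp.not_dvd_one)
    rw [hδ, Finset.sum_congr rfl (s₁ := Xp X a) fun χ hχ => (D.mem_Xp hχ).2.2,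
      Finset.sum_congr rfl (s₁ := Xm X a) fun χ hχ => (D.mem_Xm hχ).2.2] at h
    simp only [Finset.sum_const, nsmul_eq_mul] at h
    push_cast at h
    have h1 : ((Xp X a).card : ℂ) + (Xm X a).card + 1 = e := by exact_mod_cast D.cardX_split
    have h2 : (t : ℂ) * fx P θ = (n : ℂ) + 1 := by exact_mod_cast htm
    have h3 : (e : ℂ) * t + 1 = p := by exact_mod_cast D.et
    have h4 : (p : ℂ) * t * (e : ℂ) =
        (p : ℂ) * t * ((1 + (Xp X a).card * (n + 1) + fx P θ : ℕ) : ℂ) := by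
      push_cast
      linear_combination (t : ℂ) * h - (t : ℂ) * ((p : ℂ) - 1) * h1 - (p : ℂ) * h2 + hy + h3
    exact_mod_cast mul_left_cancel₀ (mul_ne_zero (Nat.cast_ne_zero.mpr D.hp.ne_zero)
      (Nat.cast_ne_zero.mpr D.t_pos.ne')) h4

theorem sq_sum_arith {p n e t i j m y K : ℂ} (hp : p ≠ 0) (ht : t ≠ 0)
    (h : 1 + i * (n * p + 1) ^ 2 + j * (p - 1) ^ 2 + t * y ^ 2 + p ^ 2 * K = p * e * (n * p + 1))
    (hy : y * t = n * p + 1) (h1 : i + j + 1 = e) (h3 : e * t + 1 = p) (htm : t * m = n + 1)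
    (hcnt : e = 1 + i * (n + 1) + m) : K = n := by
  have h' : t + t * i * (n * p + 1) ^ 2 + t * j * (p - 1) ^ 2 + (n * p + 1) ^ 2 + t * p ^ 2 * K =
      t * p * e * (n * p + 1) := by
    linear_combination t * h - (y * t + (n * p + 1)) * hy
  obtain rfl : j = e - 1 - i := by linear_combination h1
  obtain rfl : p = e * t + 1 := h3.symm
  subst hcnt
  obtain rfl : n = t * m - 1 := by linear_combination -htm
  refine mul_left_cancel₀ (mul_ne_zero (mul_ne_zero ht hp) hp) ?_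
  linear_combination h'

namespace MinusData

variable {m : ℕ} {θ₀ : IrrCharacter G} {s : G} [Fintype ↥(Subgroup.zpowers s)]
  {c : IrrCharacter G → IrrCharacter ↥(Subgroup.zpowers s) → ℕ}
  (H : MinusData M P n e t m X Y a δ θ₀ s c)
include H

theorem cardE : Nat.card ↥(Subgroup.zpowers s) = e := by rw [Nat.card_zpowers, H.ord]

theorem reg (w : ↥(Subgroup.zpowers s)) : ¬ p ∣ orderOf (w : G) :=
  H.data.regular_of_mem H.ord w.2

theorem m_pos : 0 < m := by
  rcases Nat.eq_zero_or_pos m with h | h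
  · have := H.tm; rw [h, mul_zero] at this; omega
  · exact h

theorem ne_one (w : ↥(Subgroup.zpowers s)) (hw : w ≠ 1) : (w : G) ≠ 1 := fun h => hw (Subtype.ext h)

omit H in
theorem lin_one (l : IrrCharacter ↥(Subgroup.zpowers s)) :
    (l : ↥(Subgroup.zpowers s) → ℂ) 1 = 1 := by
  haveI : IsMulCommutative ↥(Subgroup.zpowers s) := IsCyclic.commutative
  rw [char_one_eq_deg (irr_isCharacter l.2), PrimeDegrees.deg_eq_one_of_comm_ker l fun x y => by
    rw [show x * y = y * x from IsMulCommutative.is_comm.comm x y, mul_inv_cancel_right,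
      mul_inv_cancel]
    exact Subgroup.one_mem _, Nat.cast_one]

theorem Xm_zero {χ : IrrCharacter G} (hχ : χ ∈ Xm X a) (w : ↥(Subgroup.zpowers s)) (hw : w ≠ 1) :
    (χ : G → ℂ) (w : G) = 0 := by
  rw [H.valc χ w hw]
  have h := H.sumc χ
  rw [H.data.fx_Xm hχ, Finset.sum_eq_zero_iff] at h
  exact Finset.sum_eq_zero fun l hl => by rw [h l hl]; simp

theorem valY {θ : IrrCharacter G} (hθ : θ ∈ Y) {g : G} (hg : ¬ p ∣ orderOf g) :
    (θ : G → ℂ) g = (θ₀ : G → ℂ) g := H.data.pp.regY θ hθ θ₀ H.mem g hg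

theorem rel_E (w : ↥(Subgroup.zpowers s)) (hw : w ≠ 1) :
    ∑ χ ∈ Xp X a, (χ : G → ℂ) (w : G) + (θ₀ : G → ℂ) (w : G) = -1 := by
  have h := H.data.rel_split H.mem (H.reg w)
  rw [H.neg, Finset.sum_eq_zero (s := Xm X a) fun χ hχ => H.Xm_zero hχ w hw] at h
  push_cast at h
  linear_combination -h

omit H in
/-- The multiplicity of a linear character in a function vanishing away from one. -/
theorem coeff_const (he : Nat.card ↥(Subgroup.zpowers s) = e)
    (T : IrrCharacter ↥(Subgroup.zpowers s) → ℂ)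
    (h : ∀ w : ↥(Subgroup.zpowers s), w ≠ 1 →
      ∑ l, T l * (l : ↥(Subgroup.zpowers s) → ℂ) w = 0)
    (l : IrrCharacter ↥(Subgroup.zpowers s)) : (e : ℂ) * T l = ∑ l', T l' := by
  classical
  have h1 : ∑ w : ↥(Subgroup.zpowers s), (∑ l', T l' * (l' : ↥(Subgroup.zpowers s) → ℂ) w) *
      conj ((l : ↥(Subgroup.zpowers s) → ℂ) w) = ∑ l', T l' := by
    rw [Finset.sum_eq_single 1 (fun w _ hw => by rw [h w hw, zero_mul])
      (fun h' => absurd (Finset.mem_univ _) h'), lin_one l, map_one, mul_one]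
    exact Finset.sum_congr rfl fun l' _ => by rw [lin_one l', mul_one]
  rw [← h1]
  simp only [Finset.sum_mul, mul_assoc]
  rw [Finset.sum_comm]
  simp only [← Finset.mul_sum]
  rw [Finset.sum_eq_single l]
  · have h2 := irr_self l.2
    rw [classInner, inv_mul_eq_iff_eq_mul₀ (Nat.cast_ne_zero.mpr Nat.card_pos.ne'), mul_one, he] at h2
    rw [h2, mul_comm]
  · intro l' _ hne
    have h2 := irrC_orth l' l
    rw [if_neg hne, classInner, mul_eq_zero] at h2
    rw [h2.resolve_left (inv_ne_zero (Nat.cast_ne_zero.mpr Nat.card_pos.ne')), mul_zero]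
  · exact fun h' => absurd (Finset.mem_univ _) h'

open scoped Classical in
/-- The multiplicities on `E` of the trivial, positive and exceptional characters. -/
theorem mult (l : IrrCharacter ↥(Subgroup.zpowers s)) :
    (if l = one' ↥(Subgroup.zpowers s) then 1 else 0) + ∑ χ ∈ Xp X a, c χ l + c θ₀ l = 1 := by
  set T : IrrCharacter ↥(Subgroup.zpowers s) → ℕ := fun l =>
    (if l = one' ↥(Subgroup.zpowers s) then 1 else 0) + ∑ χ ∈ Xp X a, c χ l + c θ₀ l with hT
  have hsum : ∑ l', T l' = e := by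
    simp only [hT, Finset.sum_add_distrib, Finset.sum_ite_eq', Finset.mem_univ, if_true]
    rw [Finset.sum_comm, H.sumc, H.fxY θ₀ H.mem,
      Finset.sum_congr rfl fun χ hχ => (H.sumc χ).trans (H.data.fx_Xp hχ), Finset.sum_const,
      smul_eq_mul]
    exact H.count.symm
  have h := coeff_const H.cardE (fun l => (T l : ℂ)) (fun w hw => by
    simp only [hT]
    push_cast
    simp only [add_mul, Finset.sum_add_distrib, ite_mul, one_mul, zero_mul, Finset.sum_ite_eq',
      Finset.mem_univ, if_true, Finset.sum_mul]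
    rw [Finset.sum_comm, ← H.valc θ₀ w hw, one'_apply,
      Finset.sum_congr rfl fun χ _ => (H.valc χ w hw).symm]
    linear_combination H.rel_E w hw) l
  rw [← Nat.cast_sum, hsum, ← Nat.cast_mul, Nat.cast_inj] at h
  exact Nat.eq_of_mul_eq_mul_left (by have := H.data.two_le; omega) (h.trans (mul_one e).symm)

theorem exists_pos {χ : IrrCharacter G} (hχ : χ ∈ Xp X a ∨ χ = θ₀) :
    ∃ l, c χ l ≠ 0 := by
  have h := H.sumc χ
  have hpos : 0 < fx P χ := by
    rcases hχ with hχ | rfl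
    · rw [H.data.fx_Xp hχ]; omega
    · rw [H.fxY _ H.mem]; exact H.m_pos
  by_contra hno
  push Not at hno
  rw [Finset.sum_eq_zero fun l _ => hno l] at h
  omega

open scoped Classical in
/-- At a linear character occurring in one constituent nothing else occurs. -/
theorem single {χ : IrrCharacter G} (hχ : χ ∈ Xp X a) {l : IrrCharacter ↥(Subgroup.zpowers s)}
    (hl : c χ l ≠ 0) : l ≠ one' _ ∧ c χ l = 1 ∧ c θ₀ l = 0 ∧ ∀ ψ ∈ Xp X a, ψ ≠ χ → c ψ l = 0 := by
  have h := H.mult l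
  rw [← Finset.add_sum_erase _ _ hχ] at h
  refine ⟨fun h1 => by rw [if_pos h1] at h; omega, by omega, by omega, fun ψ hψ hne => ?_⟩
  have h2 : c ψ l ≤ ∑ x ∈ (Xp X a).erase χ, c x l :=
    Finset.single_le_sum (f := fun x => c x l) (fun _ _ => Nat.zero_le _)
      (Finset.mem_erase.mpr ⟨hne, hψ⟩)
  omega

open scoped Classical in
theorem single_exc {l : IrrCharacter ↥(Subgroup.zpowers s)} (hl : c θ₀ l ≠ 0) :
    l ≠ one' _ ∧ c θ₀ l = 1 ∧ ∀ ψ ∈ Xp X a, c ψ l = 0 := by
  have h := H.mult l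
  refine ⟨fun h1 => by rw [if_pos h1] at h; omega, by omega, fun ψ hψ => ?_⟩
  have h2 : c ψ l ≤ ∑ x ∈ Xp X a, c x l :=
    Finset.single_le_sum (f := fun x => c x l) (fun _ _ => Nat.zero_le _) hψ
  omega

/-- Linear independence of the constituents on the complement. -/
theorem extract (A b : ℂ) (α : IrrCharacter G → ℂ)
    (h : ∀ w : ↥(Subgroup.zpowers s), w ≠ 1 →
      A + ∑ χ ∈ Xp X a, α χ * (χ : G → ℂ) (w : G) + b * (θ₀ : G → ℂ) (w : G) = 0) :
    (∀ χ ∈ Xp X a, α χ = A) ∧ b = A := by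
  classical
  obtain ⟨T, hT⟩ : ∃ T : IrrCharacter ↥(Subgroup.zpowers s) → ℂ, ∀ l, T l =
      (if l = one' ↥(Subgroup.zpowers s) then A else 0) + ∑ χ ∈ Xp X a, α χ * c χ l + b * c θ₀ l :=
    ⟨_, fun _ => rfl⟩
  have hco := coeff_const H.cardE T fun w hw => by
    simp only [hT, add_mul, Finset.sum_add_distrib, ite_mul, zero_mul, Finset.sum_ite_eq',
      Finset.mem_univ, if_true, Finset.sum_mul, mul_assoc, one'_apply, mul_one]
    rw [Finset.sum_comm]
    simp only [← Finset.mul_sum]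
    rw [← H.valc θ₀ w hw, Finset.sum_congr rfl fun χ _ => by rw [← H.valc χ w hw]]
    exact h w hw
  have he : (e : ℂ) ≠ 0 := Nat.cast_ne_zero.mpr (by have := H.data.two_le; omega)
  have heq : ∀ l, T l = T (one' _) := fun l =>
    mul_left_cancel₀ he ((hco l).trans (hco _).symm)
  have h1 : T (one' _) = A := by
    have h2 := H.mult (one' _)
    rw [if_pos rfl] at h2
    rw [hT, if_pos rfl, show c θ₀ (one' _) = 0 by omega,
      Finset.sum_eq_zero fun χ hχ => by
        have h3 := (Finset.sum_eq_zero_iff).mp (show ∑ χ ∈ Xp X a, c χ (one' _) = 0 by omega) χ hχ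
        rw [h3]; simp]
    simp
  refine ⟨fun χ hχ => ?_, ?_⟩
  · obtain ⟨l, hl⟩ := H.exists_pos (Or.inl hχ)
    obtain ⟨h2, h3, h4, h5⟩ := H.single hχ hl
    have h6 := (heq l).trans h1
    rw [hT, if_neg h2, h4, Finset.sum_eq_single χ (fun ψ hψ hne => by rw [h5 ψ hψ hne]; simp)
      (fun h' => absurd hχ h'), h3] at h6
    simpa using h6
  · obtain ⟨l, hl⟩ := H.exists_pos (Or.inr rfl)
    obtain ⟨h2, h3, h4⟩ := H.single_exc hl
    have h6 := (heq l).trans h1
    rw [hT, if_neg h2, h3, Finset.sum_eq_zero fun ψ hψ => by rw [h4 ψ hψ]; simp] at h6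
    simpa using h6

theorem deg_Y {θ : IrrCharacter G} (hθ : θ ∈ Y) :
    (θ : G → ℂ) 1 * t = (n : ℂ) * p + 1 := (H.data.fx_Y_minus H.neg hθ).2

theorem sum_Y_reg {g : G} (hg : ¬ p ∣ orderOf g) (F : ℂ → ℂ) :
    ∑ θ ∈ Y, F ((θ : G → ℂ) g) = (t : ℂ) * F ((θ₀ : G → ℂ) g) := by
  rw [Finset.sum_congr rfl fun θ hθ => by rw [H.valY hθ hg], Finset.sum_const, nsmul_eq_mul,
    H.data.cardY]

theorem reg_one : ¬ p ∣ orderOf (1 : G) := by rw [orderOf_one]; exact H.data.hp.not_dvd_one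

theorem count_cast : (e : ℂ) = 1 + (Xp X a).card * ((n : ℂ) + 1) + m := by exact_mod_cast H.count

theorem tm_cast : (t : ℂ) * m = (n : ℂ) + 1 := by exact_mod_cast H.tm

theorem sum_out_sq : ∑ χ ∈ Out X Y, (fx P χ : ℂ) ^ 2 = n := by
  classical
  have D := H.data
  have h := sum_sq_deg (G := G)
  have hy := H.deg_Y H.mem
  rw [D.sum_split, one'_apply, one_pow, D.card_eq,
    Finset.sum_congr rfl (s₁ := Xp X a) fun χ hχ => by rw [(D.mem_Xp hχ).2.2],
    Finset.sum_congr rfl (s₁ := Xm X a) fun χ hχ => by rw [(D.mem_Xm hχ).2.2],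
    H.sum_Y_reg H.reg_one (fun z => z ^ 2),
    Finset.sum_congr rfl (s₁ := Out X Y) fun χ hχ => by rw [D.deg_out hχ, mul_pow],
    ← Finset.mul_sum] at h
  simp only [Finset.sum_const, nsmul_eq_mul] at h
  push_cast at h
  have h1 : ((Xp X a).card : ℂ) + (Xm X a).card + 1 = e := by exact_mod_cast D.cardX_split
  have h3 : (e : ℂ) * t + 1 = p := by exact_mod_cast D.et
  have hcnt := H.count_cast
  have htm := H.tm_cast
  exact sq_sum_arith (Nat.cast_ne_zero.mpr D.hp.ne_zero) (Nat.cast_ne_zero.mpr D.t_pos.ne')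
    h hy h1 h3 htm hcnt

end MinusData

end Cfsg.Agent.Solv.BReyn
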