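import Cfsg.Agent.Lib.Solv.BrauerReynoldsLocal
import Cfsg.Agent.S4503
import Cfsg.Agent.Lib.Char.Diag

/-!
The case of a positive exceptional sign: there `p + 1` Sylow subgroups.
-/

set_option autoImplicit false

namespace Cfsg.Agent.Solv.BReyn

open Cfsg Cfsg.Agent.Char
open scoped ComplexConjugate

universe u

/-- An operator of order dividing `e` whose proper powers have trace zero, on a space of
dimension `e`, has determinant `-1` for even `e`. -/
theorem det_eq_neg_one {e : ℕ} (he : Even e) (he0 : e ≠ 0) (T : Module.End ℂ (Fin e → ℂ))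
    (hT : T ^ e = 1) (htr : ∀ k, 0 < k → k < e → LinearMap.trace ℂ _ (T ^ k) = 0) :
    LinearMap.det T = -1 := by
  classical
  obtain ⟨b, μ, hμ, hb⟩ := exists_eigenbasis_of_pow_eq_one T e he0 hT
  obtain ⟨ζ, hζ⟩ : ∃ ζ : ℂ, IsPrimitiveRoot ζ e :=
    ⟨_, Complex.isPrimitiveRoot_exp e he0⟩
  have hfin : Module.finrank ℂ (Fin e → ℂ) = e := Module.finrank_fin_fun ℂ
  have hsurj : ∀ r : ℂ, r ^ e = 1 → ∃ i, μ i = r := by
    intro r hr
    by_contra hno
    push Not at hno
    have hr0 : r ≠ 0 := fun h => by rw [h, zero_pow he0] at hr; exact zero_ne_one hr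
    have hz : ∀ i, ∑ k ∈ Finset.range e, (μ i / r) ^ k = 0 := fun i => by
      rw [geom_sum_eq (fun h => hno i (by rwa [div_eq_one_iff_eq hr0] at h)), div_pow, hμ, hr]
      simp
    have hk : ∀ k ∈ Finset.range e, ∑ i, (μ i / r) ^ k = if k = 0 then (e : ℂ) else 0 := by
      intro k hk
      split_ifs with h0
      · subst h0; simp [hfin]
      · simp only [div_pow, ← Finset.sum_div]
        rw [← trace_of_eigenbasis b (T ^ k) (fun i => μ i ^ k)
          (fun i => eigenbasis_pow_apply b T μ hb k i),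
          htr k (Nat.pos_of_ne_zero h0) (Finset.mem_range.mp hk), zero_div]
    have h2 : ∑ k ∈ Finset.range e, ∑ i, (μ i / r) ^ k = 0 := by
      rw [Finset.sum_comm]; exact Finset.sum_eq_zero fun i _ => hz i
    rw [Finset.sum_congr rfl hk, Finset.sum_ite_eq' (Finset.range e) 0,
      if_pos (Finset.mem_range.mpr (Nat.pos_of_ne_zero he0))] at h2
    exact he0 (by exact_mod_cast h2)
  have himg : Finset.univ.image μ = Polynomial.nthRootsFinset e (1 : ℂ) := by
    ext r
    rw [Finset.mem_image, Polynomial.mem_nthRootsFinset (Nat.pos_of_ne_zero he0)]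
    exact ⟨fun ⟨i, _, hi⟩ => hi ▸ hμ i, fun hr => (hsurj r hr).imp fun i hi => ⟨Finset.mem_univ _, hi⟩⟩
  have hinj : Function.Injective μ := by
    have hc : (Finset.univ.image μ).card = (Finset.univ : Finset (Fin (Module.finrank ℂ (Fin e → ℂ)))).card := by
      rw [himg, hζ.card_nthRootsFinset, Finset.card_univ, Fintype.card_fin, hfin]
    exact fun i j h => Finset.card_image_iff.mp hc (Finset.mem_coe.mpr (Finset.mem_univ i))
      (Finset.mem_coe.mpr (Finset.mem_univ j)) h
  rw [det_of_eigenbasis b T μ hb, ← Finset.prod_image (f := fun r : ℂ => r) (g := μ)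
    (fun i _ j _ h => hinj h), himg]
  have hp := Polynomial.X_pow_sub_one_eq_prod (Nat.pos_of_ne_zero he0) hζ
  have h0 := congrArg (Polynomial.eval 0) hp
  rw [Polynomial.eval_prod] at h0
  simp only [Polynomial.eval_sub, Polynomial.eval_pow, Polynomial.eval_X, Polynomial.eval_one,
    Polynomial.eval_C, zero_pow he0, zero_sub] at h0
  rw [Finset.prod_neg, hζ.card_nthRootsFinset, he.neg_one_pow, one_mul] at h0
  exact h0.symm

variable {G : Type u} [Group G] [Fintype G] {p : ℕ} [Fact p.Prime] {P : Sylow p G} {n e t : ℕ}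
  {M : Ideal AlgInt} {X Y : Finset (IrrCharacter G)} {a : IrrCharacter G → ℤ} {δ : ℤ}

namespace Data

variable (D : Data M P n e t X Y a δ)
include D

theorem n_pos : 1 ≤ n := by
  by_contra h
  have h2 := D.hyp.one_lt_count
  rw [show n = 0 by omega, zero_mul] at h2
  omega

theorem not_isConj_inv (hodd : Odd e) {y : ↥(P : Subgroup G)} (hy : (y : G) ≠ 1) :
    ¬ IsConj (y : G) (y : G)⁻¹ := by
  intro h
  obtain ⟨g, hg, he⟩ := D.frobSylow.fusion (y' := y⁻¹) h
  have he' : g * (y : G) * g⁻¹ = (y : G)⁻¹ := he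
  have hg2 : g * g ∈ Subgroup.centralizer ((P : Subgroup G) : Set G) := by
    rw [← eq_zpowers_of_prime_sylow D.hyp.card y.2 hy, centralizer_zpowers_eq,
      Subgroup.mem_centralizer_singleton_iff]
    calc g * g * (y : G) = g * (g * (y : G) * g⁻¹) * g := by group
      _ = g * (y : G)⁻¹ * g⁻¹ * g * g := by rw [he']; group
      _ = (g * (y : G) * g⁻¹)⁻¹ * g * g := by group
      _ = (y : G) * (g * g) := by rw [he']; group
  set C := Subgroup.centralizer ((P : Subgroup G) : Set G) with hC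
  set N := Subgroup.normalizer ((P : Subgroup G) : Set G) with hN
  haveI : (C.subgroupOf N).Normal := by
    rw [hC, hN, ← Subgroup.normalizerMonoidHom_ker]; infer_instance
  have hcard : Nat.card (↥N ⧸ C.subgroupOf N) = e := D.index
  have h1 : orderOf (QuotientGroup.mk ⟨g, hg⟩ : ↥N ⧸ C.subgroupOf N) ∣ Nat.gcd 2 e := by
    refine Nat.dvd_gcd (orderOf_dvd_of_pow_eq_one ?_) (hcard ▸ orderOf_dvd_natCard _)
    rw [sq, ← QuotientGroup.mk_mul, QuotientGroup.eq_one_iff]
    exact hg2
  rw [Nat.coprime_two_left.mpr hodd, Nat.dvd_one, orderOf_eq_one_iff, QuotientGroup.eq_one_iff] at h1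
  have hgC : g ∈ C := h1
  rw [hC] at hgC
  have h3 : (y : G) * g = g * (y : G) := Subgroup.mem_centralizer_iff.mp hgC (y : G) y.2
  rw [← h3, mul_inv_cancel_right] at he'
  have h4 : (y : G) ^ 2 = 1 := by
    rw [sq]; nth_rewrite 2 [he']; exact mul_inv_cancel _
  have h5 := orderOf_dvd_of_pow_eq_one h4
  have h6 := (D.singular_iff hy).trans h5
  have h7 := Nat.le_of_dvd two_pos h6
  have := D.three_le
  omega

theorem card_class_y {y : ↥(P : Subgroup G)} (hy : (y : G) ≠ 1) :
    (Nat.card G : ℂ) / Nat.card {x : G // IsConj (y : G) x} = (p : ℂ) := by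
  have h := card_conjClass_mul_centralizer (y : G)
  rw [D.centralizer_eq hy, show Nat.card ↥(P : Subgroup G) = p from D.hyp.card] at h
  rw [← h, Nat.cast_mul, mul_comm, mul_div_assoc,
    div_self (Nat.cast_ne_zero.mpr (card_conjClass_ne_zero _)), mul_one]

theorem sum_a_sq {y : ↥(P : Subgroup G)} (hy : y ∈ nonOne P) (F : IrrCharacter G → ℂ)
    (hF : ∀ χ ∈ X, F χ = 1) : F (one' G) + ∑ χ ∈ Xp X a, F χ + ∑ χ ∈ Xm X a, F χ = (e : ℂ) := by
  rw [hF (one' G) D.one_mem, Finset.sum_congr rfl (s₁ := Xp X a) fun χ hχ => hF χ (D.mem_Xp hχ).1,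
    Finset.sum_congr rfl (s₁ := Xm X a) fun χ hχ => hF χ (D.mem_Xm hχ).1]
  simp only [Finset.sum_const, nsmul_one]
  have h : ((Xp X a).card : ℂ) + (Xm X a).card + 1 = e := by exact_mod_cast D.cardX_split
  linear_combination h

/-- If `δ = 1` then `e` is odd. -/
theorem plus_odd (hδ : δ = 1) : Odd e := by
  classical
  rcases Nat.even_or_odd e with he | he
  swap
  · exact he
  exfalso
  obtain ⟨θ, hθ⟩ : Y.Nonempty := Finset.card_pos.mp (by rw [D.cardY]; exact D.t_pos)
  obtain ⟨hf, hd⟩ := D.fx_Y_plus hδ hθ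
  obtain ⟨s, hsN, hso, hsP⟩ := D.exists_gen
  haveI : Fintype ↥(Subgroup.zpowers s) := Fintype.ofFinite _
  obtain ⟨c, hc, hval⟩ := D.mult_exists hsN hso hsP θ
  rw [hf, Finset.sum_eq_zero_iff] at hc
  obtain ⟨m, ρ, -, hρ⟩ := θ.2
  obtain rfl : m = e := by
    have := char_one_eq_dim ρ hρ
    rw [hd] at this
    exact_mod_cast this.symm
  have hdet := det_eq_neg_one he (by have := D.two_le; omega) (ρ s)
    (by rw [← map_pow, show s ^ m = 1 by rw [← orderOf_dvd_iff_pow_eq_one, hso], map_one]) fun k hk0 hk => by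
      rw [← map_pow, ← Representation.character, congrFun hρ]
      have hne : (⟨s ^ k, Subgroup.npow_mem_zpowers s k⟩ : ↥(Subgroup.zpowers s)) ≠ 1 := by
        intro h
        exact pow_ne_one_of_lt_orderOf hk0.ne' (hso ▸ hk) (congrArg Subtype.val h)
      rw [hval _ hne]
      exact Finset.sum_eq_zero fun l hl => by rw [hc l hl]; simp
  rw [← detHom_apply, hom_eq_one D.hyp.perf (detHom ρ) s, Units.val_one] at hdet
  norm_num at hdet

/-- If `δ = 1` then there are two exceptional characters. -/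
theorem plus_t (hδ : δ = 1) : t = 2 := by
  obtain ⟨θ, hθ⟩ : Y.Nonempty := Finset.card_pos.mp (by rw [D.cardY]; exact D.t_pos)
  have hodd := D.plus_odd hδ
  have hd : charDegree (θ : G → ℂ) = e := (D.degY.resolve_right fun h => by omega).2 θ hθ
  have hp := D.hp
  have hdvd : p ∣ Nat.card G := by
    rw [D.card_eq, mul_assoc]; exact Dvd.intro _ rfl
  have hsq : ¬ p ^ 2 ∣ Nat.card G := by
    rw [D.card_eq, sq, mul_assoc]
    intro h
    have h2 := Nat.dvd_of_mul_dvd_mul_left hp.pos h
    rcases hp.dvd_mul.mp h2 with h3 | h3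
    · have h4 := Nat.le_of_dvd (by have := D.two_le; omega) h3
      have := D.et
      have : e ≤ e * t := Nat.le_mul_of_pos_right e D.t_pos
      omega
    · exact hp.not_dvd_one ((Nat.dvd_add_right (dvd_mul_left p n)).mp h3)
  have h := S4503.result p hp hdvd hsq (fun H hH hcard => by
    haveI := hH
    have hne : H ≠ ⊥ := fun h => by
      rw [h, Subgroup.card_bot] at hcard; exact hp.ne_one hcard.symm
    refine D.hyp.not_normal ?_
    rw [Subgroup.eq_of_le_of_card_ge (D.hyp.le_of_normal H hne)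
      (by rw [hcard, show Nat.card ↥(P : Subgroup G) = p from D.hyp.card])]
    exact hH) (θ : G → ℂ) (irr_isCharacter θ.2) (D.faithful hδ θ hθ)
  rw [hd] at h
  obtain ⟨k, hk⟩ := hodd
  have het := D.et
  have ht := D.t_pos
  rcases Nat.lt_or_ge t 3 with h3 | h3
  · rcases (show t = 1 ∨ t = 2 by omega) with rfl | rfl
    · rcases hp.eq_two_or_odd with h2 | h2
      · have := D.three_le; omega
      · omega
    · rfl
  · have : e * 3 ≤ e * t := Nat.mul_le_mul_left e h3
    omega

/-- If `δ = 1` then there are `p + 1` Sylow subgroups. -/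
theorem plus_n (hδ : δ = 1) : n = 1 := by
  classical
  have ht := D.plus_t hδ
  have hodd := D.plus_odd hδ
  have het := D.et
  rw [ht] at het
  obtain ⟨θ, θ', hne, hY⟩ := Finset.card_eq_two.mp (D.cardY.trans ht)
  have hθ : θ ∈ Y := by simp [hY]
  obtain ⟨y, hy⟩ := D.hyp.exists_nonOne
  have hy1 := mem_nonOne.mp hy
  set η := (θ : G → ℂ) (y : G) with hη
  set η' := (θ' : G → ℂ) (y : G) with hη'
  have hS : η + η' = -1 := by
    have h := sum_exc D.modular D.hyp.card D.pp ⟨θ, hθ⟩ hy
    rw [hY, Finset.sum_pair hne, hδ] at h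
    simpa using h
  have hnorm : Complex.normSq η + Complex.normSq η' = (e : ℝ) + 1 := by
    have h := second_orth (y : G) (y : G)
    rw [if_pos (IsConj.refl _), D.card_class_y hy1, D.sum_split,
      D.sum_a_sq hy (fun χ => (χ : G → ℂ) (y : G) * conj ((χ : G → ℂ) (y : G))) (fun χ hχ => by
        simp only [D.pp.a_val χ hχ y hy, map_intCast]
        rcases D.pp.a_sign χ hχ with h | h <;> simp [h]),
      Finset.sum_eq_zero (s := Out X Y) (fun χ hχ => by rw [D.vanish hχ hy1, zero_mul]),
      add_zero, hY, Finset.sum_pair hne, ← hη, ← hη', Complex.mul_conj, Complex.mul_conj] at h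
    have h2 : (e : ℝ) + (Complex.normSq η + Complex.normSq η') = (p : ℝ) := by exact_mod_cast h
    have h3 : (e : ℝ) * 2 + 1 = p := by exact_mod_cast het
    linarith
  have hsq : (e : ℂ) + η ^ 2 + η' ^ 2 = 0 := by
    have h := second_orth (y : G) (y : G)⁻¹
    rw [if_neg (D.not_isConj_inv hodd hy1), D.sum_split,
      D.sum_a_sq hy (fun χ => (χ : G → ℂ) (y : G) * conj ((χ : G → ℂ) (y : G)⁻¹)) (fun χ hχ => by
        simp only [char_inv (irr_isCharacter χ.2), Complex.conj_conj, D.pp.a_val χ hχ y hy]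
        rcases D.pp.a_sign χ hχ with h | h <;> simp [h]),
      Finset.sum_eq_zero (s := Out X Y) (fun χ hχ => by rw [D.vanish hχ hy1, zero_mul]),
      add_zero, hY, Finset.sum_pair hne] at h
    simp only [char_inv (irr_isCharacter θ.2), char_inv (irr_isCharacter θ'.2),
      Complex.conj_conj] at h
    linear_combination h
  obtain ⟨him, hre⟩ : η.im ≠ 0 ∧ η.re = -(1 / 2) := by
    have hre' := congrArg Complex.re hsq
    have him' := congrArg Complex.im hsq
    have h1 := congrArg Complex.re hS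
    have h2 := congrArg Complex.im hS
    simp only [Complex.add_re, Complex.add_im, Complex.neg_re, Complex.neg_im, Complex.one_re,
      Complex.one_im, sq, Complex.mul_re, Complex.mul_im, Complex.natCast_re, Complex.natCast_im,
      Complex.zero_re, Complex.zero_im, neg_zero] at hre' him' h1 h2
    have hi' : η'.im = -η.im := by linarith
    have hr' : η'.re = -1 - η.re := by linarith
    rw [hi', hr'] at hre' him'
    have he : (0 : ℝ) < e := Nat.cast_pos.mpr (by have := D.two_le; omega)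
    have him0 : η.im ≠ 0 := fun h => by
      rw [h] at hre'; nlinarith
    refine ⟨him0, ?_⟩
    have h3 : η.im * (2 * η.re + 1) = 0 := by nlinarith
    rcases mul_eq_zero.mp h3 with h4 | h4
    · exact absurd h4 him0
    · linarith
  have hconj : η' = conj η := by
    have h1 := congrArg Complex.re hS
    have h2 := congrArg Complex.im hS
    simp only [Complex.add_re, Complex.add_im, Complex.neg_re, Complex.neg_im, Complex.one_re,
      Complex.one_im, neg_zero] at h1 h2
    refine Complex.ext ?_ ?_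
    · rw [Complex.conj_re]; linarith
    · rw [Complex.conj_im]; linarith
  rw [hconj, Complex.normSq_conj] at hnorm
  -- decompose `θ θ̄`
  obtain ⟨φ, hφ⟩ : ∃ φ : G → ℂ, φ = (θ : G → ℂ) * fun g => conj ((θ : G → ℂ) g) := ⟨_, rfl⟩
  have hφc : IsCharacter G φ :=
    hφ ▸ isCharacter_mul (irr_isCharacter θ.2) (isCharacter_conj (irr_isCharacter θ.2))
  obtain ⟨m, hm⟩ := exists_decomposition hφc
  have hm1 : m (one' G) = 1 := by
    have h1 := decomposition_coeff m hm (one' G)
    have h2 := irr_self θ.2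
    rw [classInner] at h1 h2
    simp only [one'_apply, map_one, mul_one, hφ, Pi.mul_apply] at h1
    rw [h2] at h1
    exact_mod_cast h1.symm
  have hφg : ∀ g, φ g = ∑ χ, (m χ : ℂ) * (χ : G → ℂ) g := fun g => by
    rw [congrFun hm g]; simp [Finset.sum_apply]
  have hφy : φ (y : G) = ((((e : ℝ) + 1) / 2 : ℝ) : ℂ) := by
    rw [hφ, Pi.mul_apply, ← hη, Complex.mul_conj]
    congr 1
    linarith
  rw [hφg, D.sum_split,
    Finset.sum_eq_zero (s := Out X Y) (fun χ hχ => by rw [D.vanish hχ hy1, mul_zero]),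
    add_zero, hY, Finset.sum_pair hne, ← hη, ← hη', hconj, hm1, one'_apply,
    Finset.sum_congr rfl (s₁ := Xp X a) (g := fun χ => (m χ : ℂ)) fun χ hχ => by
      rw [D.pp.a_val χ (D.mem_Xp hχ).1 y hy, (D.mem_Xp hχ).2.1, Int.cast_one, mul_one],
    Finset.sum_congr rfl (s₁ := Xm X a) (g := fun χ => -(m χ : ℂ)) fun χ hχ => by
      rw [D.pp.a_val χ (D.mem_Xm hχ).1 y hy, (D.mem_Xm hχ).2.1]; simp,
    Finset.sum_neg_distrib, ← Nat.cast_sum, ← Nat.cast_sum] at hφy
  have h1 := congrArg Complex.im hφy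
  have h2 := congrArg Complex.re hφy
  simp only [Complex.add_re, Complex.add_im, Complex.neg_re, Complex.neg_im, Complex.mul_re,
    Complex.mul_im, Complex.natCast_re, Complex.natCast_im, Complex.conj_re, Complex.conj_im,
    Complex.ofReal_re, Complex.ofReal_im, Complex.one_re, Complex.one_im, Nat.cast_one] at h1 h2
  have hff : (m θ : ℝ) = m θ' := by
    have h3 : η.im * ((m θ : ℝ) - m θ') = 0 := by linarith
    rcases mul_eq_zero.mp h3 with h4 | h4
    · exact absurd h4 him
    · linarith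
  rw [hre, hff] at h2
  have hC : (e : ℝ) - 1 ≤ 2 * ((∑ χ ∈ Xp X a, m χ : ℕ) : ℝ) := by
    have : (0 : ℝ) ≤ ((∑ χ ∈ Xm X a, m χ : ℕ) : ℝ) := Nat.cast_nonneg _
    have : (0 : ℝ) ≤ (m θ' : ℝ) := Nat.cast_nonneg _
    linarith
  have hC' : e ≤ 2 * (∑ χ ∈ Xp X a, m χ) + 1 := by
    have : (e : ℝ) ≤ ((2 * (∑ χ ∈ Xp X a, m χ) + 1 : ℕ) : ℝ) := by push_cast at hC ⊢; linarith
    exact_mod_cast this
  have hdeg : 1 + (∑ χ ∈ Xp X a, m χ) * (n * p + 1) ≤ e * e := by
    have h3 : e * e = ∑ χ : IrrCharacter G, m χ * charDegree (χ : G → ℂ) := by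
      have h4 := hφg 1
      rw [hφ, Pi.mul_apply, conj_char_one (irr_isCharacter θ.2), (D.fx_Y_plus hδ hθ).2] at h4
      simp only [val_one] at h4
      exact_mod_cast h4
    rw [h3]
    have hnot : one' G ∉ Xp X a := by simp [Xp]
    refine le_trans (le_of_eq ?_) (Finset.sum_le_sum_of_subset (Finset.subset_univ
      (insert (one' G) (Xp X a))))
    rw [Finset.sum_insert hnot, hm1, Finset.sum_mul]
    congr 1
    · simp [charDegree, one'_apply]
    · refine Finset.sum_congr rfl fun χ hχ => ?_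
      have h5 := (D.mem_Xp hχ).2.2
      rw [val_one] at h5
      congr 1
      exact_mod_cast h5.symm
  have hn := D.n_pos
  have he2 := D.two_le
  by_contra hne1
  have hn2 : 2 ≤ n := by omega
  set C := ∑ χ ∈ Xp X a, m χ
  have h4 : 2 * p ≤ n * p := Nat.mul_le_mul_right p hn2
  have h5 : (e - 1) * (n * p + 1) ≤ 2 * C * (n * p + 1) := Nat.mul_le_mul_right _ (by omega)
  have h6 : (e - 1) * (4 * e + 3) ≤ (e - 1) * (n * p + 1) := Nat.mul_le_mul_left _ (by omega)
  obtain ⟨k, hk⟩ : ∃ k, e = k + 2 := ⟨e - 2, by omega⟩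
  subst hk
  simp only [show k + 2 - 1 = k + 1 by omega] at h5 h6
  nlinarith

end Data

end Cfsg.Agent.Solv.BReyn
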