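import Cfsg.Agent.Lib.Solv.BrauerReynoldsOff
import Cfsg.Agent.Lib.Solv.BrauerReynoldsPlus
import Cfsg.Agent.Lib.Char.SquareRoots

/-!
With a negative exceptional sign the automiser has even order.
-/

set_option autoImplicit false

namespace Cfsg.Agent.Solv.BReyn.MinusData

open Cfsg Cfsg.Agent.Char
open scoped ComplexConjugate

universe u

variable {G : Type u} [Group G] [Fintype G] {p : ℕ} [Fact p.Prime] {P : Sylow p G} {n e t : ℕ}
  {M : Ideal AlgInt} {X Y : Finset (IrrCharacter G)} {a : IrrCharacter G → ℤ} {δ : ℤ}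
  {m : ℕ} {θ₀ : IrrCharacter G} {s : G} [Fintype ↥(Subgroup.zpowers s)]
  {c : IrrCharacter G → IrrCharacter ↥(Subgroup.zpowers s) → ℕ}
  (H : MinusData M P n e t m X Y a δ θ₀ s c)
include H

/-- The sum of the non-trivial positive constituents and one exceptional character. -/
theorem odd_centralizer (hodd : Odd e) (u : ↥(Subgroup.zpowers s)) (hu : u ≠ 1) :
    Odd (Nat.card (Subgroup.centralizer ({(u : G)} : Set G))) := by
  classical
  rw [← Nat.not_even_iff_odd]
  intro hev
  have D := H.data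
  obtain ⟨⟨w, hwC⟩, hw⟩ := exists_prime_orderOf_dvd_card' 2 (even_iff_two_dvd.mp hev)
  rw [Subgroup.orderOf_mk] at hw
  rw [Subgroup.mem_centralizer_singleton_iff] at hwC
  have hw2 : w * w = 1 := by rw [← sq, ← hw, pow_orderOf_eq_one]
  have hw1 : w ≠ 1 := fun h => by rw [h, orderOf_one] at hw; omega
  set W := Subgroup.zpowers w with hWdef
  set U := Subgroup.zpowers (u : G) with hUdef
  haveI : Fintype W := Fintype.ofFinite _
  haveI : Fintype U := Fintype.ofFinite _
  have hUE : U ≤ Subgroup.zpowers s := Subgroup.zpowers_le.mpr u.2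
  have hcomm : ∀ (b : W) (v : U), Commute (W.subtype b) (U.subtype v) := by
    rintro ⟨_, k, rfl⟩ ⟨_, l, rfl⟩
    exact ((show Commute w (u : G) from hwC).zpow_left k).zpow_right l
  let f : W × U →* G := MonoidHom.noncommCoprod W.subtype U.subtype hcomm
  have hWv : ∀ b : W, b ≠ 1 → (b : G) = w := by
    rintro ⟨b, hb⟩ hb1
    obtain ⟨k, rfl⟩ := (Submonoid.mem_powers_iff _ _).mp (mem_powers_iff_mem_zpowers.mpr hb)
    rcases Nat.even_or_odd k with ⟨l, rfl⟩ | ⟨l, rfl⟩
    · exact absurd (Subtype.ext (show w ^ (l + l) = 1 by rw [← two_mul, pow_mul, sq, hw2, one_pow])) hb1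
    · show w ^ (2 * l + 1) = w
      rw [pow_succ, pow_mul, sq, hw2, one_pow, one_mul]
  have hoff : ∀ v : U, (∀ χ ∈ Xp X a, (χ : G → ℂ) (w * v) = 0) ∧ (θ₀ : G → ℂ) (w * v) = 0 := by
    intro v
    have hvE : (v : G) ∈ Subgroup.zpowers s := hUE v.2
    have hve : (v : G) ^ e = 1 :=
      orderOf_dvd_iff_pow_eq_one.mp (H.ord ▸ orderOf_dvd_of_mem_zpowers hvE)
    have hc : Commute w (v : G) := hcomm ⟨w, Subgroup.mem_zpowers w⟩ v
    have hpow : (w * v) ^ e = w := by
      rw [hc.mul_pow, hve, mul_one]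
      obtain ⟨l, hl⟩ := hodd
      rw [hl, pow_succ, pow_mul, sq, hw2, one_pow, one_mul]
    refine H.zero_off ?_ (fun h => hw1 (by rw [← hpow, h, one_pow])) fun z hz hconj => ?_
    · intro hd
      have h1 : orderOf (w * v) ∣ Nat.lcm (orderOf w) (orderOf (v : G)) := hc.orderOf_mul_dvd_lcm
      have h2 := (hd.trans h1).trans (Nat.lcm_dvd_mul _ _)
      rcases D.hp.dvd_mul.mp h2 with h3 | h3
      · rw [hw] at h3
        have := Nat.le_of_dvd two_pos h3
        have := D.three_le
        omega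
      · exact D.regular_of_mem H.ord hvE h3
    · obtain ⟨g, hg⟩ := isConj_iff.mp hconj
      refine hw1 ?_
      rw [← hpow, ← hg, conj_pow, orderOf_dvd_iff_pow_eq_one.mp
        (H.ord ▸ orderOf_dvd_of_mem_zpowers z.2), mul_one, mul_inv_cancel]
  obtain ⟨F, hFdef, hFc⟩ : ∃ F : G → ℂ,
      (∀ g, F g = ∑ χ ∈ Xp X a, (χ : G → ℂ) g + (θ₀ : G → ℂ) g) ∧ IsCharacter G F :=
    ⟨(∑ χ ∈ Xp X a, (χ : G → ℂ)) + (θ₀ : G → ℂ), fun g => by simp [Finset.sum_apply],
      isCharacter_add (isCharacter_sum _ _ fun χ _ => irr_isCharacter χ.2) (irr_isCharacter θ₀.2)⟩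
  have hW2 : Nat.card W = 2 := by rw [hWdef, Nat.card_zpowers, hw]
  set r := Nat.card U with hr
  have hr2 : 2 ≤ r := by
    rw [hr, hUdef, Nat.card_zpowers]
    have h1 : orderOf (u : G) ≠ 1 := fun h => H.ne_one u hu (orderOf_eq_one_iff.mp h)
    have := orderOf_pos (u : G)
    omega
  have hv : ∀ v : U, v ≠ 1 → F (v : G) = -1 := fun v hv => by
    rw [hFdef, H.rel_E ⟨v, hUE v.2⟩ fun h => hv (Subtype.ext (show (v : G) = 1 from congrArg Subtype.val h))]
  have key : ∀ l : IrrCharacter U, ∃ k : ℕ,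
      ∑ v : U, F (v : G) * conj ((l : U → ℂ) v) = (2 * (r : ℂ)) * k := by
    intro l
    obtain ⟨k, hk⟩ := classInner_natCast (isCharacter_comp f hFc)
      (isCharacter_comp (MonoidHom.snd W U) (irr_isCharacter l.2))
    refine ⟨k, ?_⟩
    rw [← hk, classInner, Nat.card_prod, hW2, ← hr, ← mul_assoc]
    push_cast
    rw [mul_inv_cancel₀ (mul_ne_zero two_ne_zero (Nat.cast_ne_zero.mpr (by omega))), one_mul,
      Fintype.sum_prod_type, Finset.sum_eq_single (1 : W)]
    · exact Finset.sum_congr rfl fun v _ => by simp [f]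
    · intro b _ hb
      refine Finset.sum_eq_zero fun v _ => ?_
      simp only [Function.comp_apply, f, MonoidHom.noncommCoprod_apply, Subgroup.coe_subtype]
      rw [hWv b hb, hFdef, Finset.sum_eq_zero fun χ hχ => (hoff v).1 χ hχ, (hoff v).2]
      simp
    · exact fun h => absurd (Finset.mem_univ _) h
  have hlin : ∀ (l : IrrCharacter U), (l : U → ℂ) 1 = 1 := fun l => lin_one l
  have hsum : ∀ l : IrrCharacter U, ∑ v : U, F (v : G) * conj ((l : U → ℂ) v) =
      F 1 + 1 - ∑ v : U, conj ((l : U → ℂ) v) := by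
    intro l
    have h2 : ∀ v : U, F (v : G) * conj ((l : U → ℂ) v) =
        (if v = 1 then F 1 + 1 else 0) - conj ((l : U → ℂ) v) := fun v => by
      split_ifs with h
      · subst h; rw [hlin, map_one, OneMemClass.coe_one]; ring
      · rw [hv v h]; ring
    rw [Finset.sum_congr rfl fun v _ => h2 v, Finset.sum_sub_distrib, Finset.sum_ite_eq',
      if_pos (Finset.mem_univ _)]
  obtain ⟨l, hl⟩ : ∃ l : IrrCharacter U, l ≠ one' U := by
    by_contra hno
    push Not at hno
    have hsq := sum_sq_deg (G := U)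
    rw [Finset.sum_eq_single (one' U) (fun b _ hb => absurd (hno b) hb)
      (fun h => absurd (Finset.mem_univ _) h), one'_apply, one_pow] at hsq
    have : (1 : ℕ) = r := by exact_mod_cast hsq
    omega
  have hl0 : ∑ v : U, conj ((l : U → ℂ) v) = 0 := by
    have h := irrC_orth (one' U) l
    rw [if_neg (Ne.symm hl), classInner, mul_eq_zero] at h
    simpa [one'_apply] using h.resolve_left (inv_ne_zero (Nat.cast_ne_zero.mpr Nat.card_pos.ne'))
  obtain ⟨k₁, h1⟩ := key (one' U)
  obtain ⟨k₂, h2⟩ := key l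
  rw [hsum] at h1 h2
  rw [hl0] at h2
  simp only [one'_apply, map_one, Finset.sum_const, Finset.card_univ, nsmul_one,
    ← Nat.card_eq_fintype_card] at h1
  rw [← hr] at h1
  have h3 : (((2 * (k₂ : ℤ) - 2 * k₁ - 1) * r : ℤ) : ℂ) = 0 := by
    push_cast
    linear_combination h1 - h2
  have h4 : (2 * (k₂ : ℤ) - 2 * k₁ - 1) * r = 0 := by exact_mod_cast h3
  rcases mul_eq_zero.mp h4 with h5 | h5 <;> omega

omit H in
theorem card_sqrt {g : G} (h : Odd (Nat.card (Subgroup.centralizer ({g} : Set G))))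
    [DecidableEq G] : (Finset.univ.filter fun v : G => v * v = g).card = 1 := by
  have hcop : (Nat.card (Subgroup.centralizer ({g} : Set G))).Coprime 2 :=
    Nat.coprime_two_right.mpr h
  obtain ⟨⟨v, hvC⟩, hv⟩ := (powCoprime hcop).surjective
    ⟨g, Subgroup.mem_centralizer_singleton_iff.mpr rfl⟩
  have hv' : v * v = g := by
    have := congrArg Subtype.val hv
    simpa [sq] using this
  rw [Finset.card_eq_one]
  refine ⟨v, Finset.eq_singleton_iff_unique_mem.mpr ⟨by simp [hv'], fun x hx => ?_⟩⟩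
  have hx' : x * x = g := (Finset.mem_filter.mp hx).2
  have hxC : x ∈ Subgroup.centralizer ({g} : Set G) := by
    rw [Subgroup.mem_centralizer_singleton_iff, ← hx', mul_assoc]
  have := (powCoprime hcop).injective (a₁ := ⟨x, hxC⟩) (a₂ := ⟨v, hvC⟩)
    (Subtype.ext (show x ^ 2 = v ^ 2 by rw [sq, sq, hx', hv']))
  exact congrArg Subtype.val this

omit H in
theorem exists_int_indicator (χ : IrrCharacter G) :
    ∃ z : ℤ, indicator2 (χ : G → ℂ) = z ∧ -1 ≤ z ∧ z ≤ 1 := by
  rcases (indicator_trichotomy χ.2).1 with h | h | h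
  · exact ⟨0, by simp [h], by omega, by omega⟩
  · exact ⟨1, by simp [h], by omega, by omega⟩
  · exact ⟨-1, by simp [h], by omega, by omega⟩

theorem even_e : Even e := by
  classical
  by_contra hne
  have hodd : Odd e := Nat.not_even_iff_odd.mp hne
  have D := H.data
  have hp := D.hp
  choose ν hν hν1 hν2 using exists_int_indicator (G := G)
  have hone : ν (one' G) = 1 := by
    have h : indicator2 (one' G : G → ℂ) = 1 := by
      simp [indicator2, one'_apply]
    rw [hν] at h
    exact_mod_cast h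
  set A : ℤ := ∑ χ ∈ Out X Y, ν χ * fx P χ with hA
  set V : ℤ := ∑ θ ∈ Y, ν θ with hV
  set W : ℤ := ∑ χ ∈ Xm X a, ν χ with hW
  -- square roots of an element of the complement
  obtain ⟨hα, hb⟩ := H.extract (A : ℂ) (V : ℂ) (fun χ => (ν χ : ℂ)) fun w hw => by
    have h := sum_indicator_mul (w : G)
    rw [card_sqrt (H.odd_centralizer hodd w hw)] at h
    simp only [hν] at h
    rw [D.sum_split, hone, one'_apply,
      Finset.sum_eq_zero (s := Xm X a) fun χ hχ => by rw [H.Xm_zero hχ w hw, mul_zero],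
      Finset.sum_congr rfl (s₁ := Y) (g := fun θ => (ν θ : ℂ) * (θ₀ : G → ℂ) (w : G))
        fun θ hθ => by rw [H.valY hθ (H.reg w)],
      ← Finset.sum_mul,
      Finset.sum_congr rfl (s₁ := Out X Y) (g := fun χ => (ν χ : ℂ) * (fx P χ : ℂ))
        fun χ hχ => by rw [H.out_val hχ w hw]] at h
    rw [hA, hV]
    push_cast at h ⊢
    linear_combination h
  have hαZ : ∀ χ ∈ Xp X a, ν χ = A := fun χ hχ => by exact_mod_cast hα χ hχ
  have hVA : V = A := by exact_mod_cast hb
  -- square roots of an element of `P`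
  have hy : ∀ y ∈ nonOne P, (1 : ℂ) = 1 + (A : ℂ) * (Xp X a).card - (W : ℂ) +
      ∑ θ ∈ Y, (ν θ : ℂ) * (θ : G → ℂ) (y : G) := by
    intro y hy
    have hy1 := mem_nonOne.mp hy
    have h := sum_indicator_mul (y : G)
    rw [card_sqrt (g := (y : G)) (by
      rw [D.centralizer_eq hy1, show Nat.card ↥(P : Subgroup G) = p from D.hyp.card]
      exact hp.odd_of_ne_two (by have := D.three_le; omega))] at h
    simp only [hν] at h
    rw [D.sum_split, hone, one'_apply,
      Finset.sum_congr rfl (s₁ := Xp X a) (g := fun _ => (A : ℂ)) fun χ hχ => by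
        rw [D.pp.a_val χ (D.mem_Xp hχ).1 y hy, (D.mem_Xp hχ).2.1, hαZ χ hχ]; simp,
      Finset.sum_congr rfl (s₁ := Xm X a) (g := fun χ => -(ν χ : ℂ)) fun χ hχ => by
        rw [D.pp.a_val χ (D.mem_Xm hχ).1 y hy, (D.mem_Xm hχ).2.1]; simp,
      Finset.sum_eq_zero (s := Out X Y) (fun χ hχ => by rw [D.vanish hχ hy1, mul_zero])] at h
    simp only [Finset.sum_const, nsmul_eq_mul, Finset.sum_neg_distrib] at h
    rw [hW]
    push_cast at h ⊢
    linear_combination -h
  have hsum := Finset.sum_congr rfl hy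
  simp only [Finset.sum_add_distrib, Finset.sum_sub_distrib, Finset.sum_const, nsmul_eq_mul,
    D.card_nonOne] at hsum
  rw [Finset.sum_comm, Finset.sum_congr rfl (s₁ := Y) (g := fun θ => (ν θ : ℂ) * (e : ℂ))
    fun θ hθ => by
      rw [← Finset.mul_sum, D.sum_val_Y hθ, H.neg]; push_cast; ring,
    ← Finset.sum_mul, ← Int.cast_sum, ← hV, hVA] at hsum
  have het : (e : ℂ) * t + 1 = p := by exact_mod_cast D.et
  have hz : ((((t : ℤ) * ((Xp X a).card * A - W) + A) * e : ℤ) : ℂ) = 0 := by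
    push_cast
    linear_combination -hsum + ((A : ℂ) * (Xp X a).card - (W : ℂ)) * het
  have hz' : ((t : ℤ) * ((Xp X a).card * A - W) + A) * e = 0 := by exact_mod_cast hz
  have hrel : (t : ℤ) * ((Xp X a).card * A - W) + A = 0 :=
    (mul_eq_zero.mp hz').resolve_right (by have := D.two_le; omega)
  have hdvd : (t : ℤ) ∣ A := ⟨W - (Xp X a).card * A, by linear_combination hrel⟩
  have habs : ∀ θ ∈ Y, |ν θ| ≤ 1 := fun θ _ => abs_le.mpr ⟨hν1 θ, hν2 θ⟩
  have hVt : |V| ≤ (t : ℤ) :=
    (Finset.abs_sum_le_sum_abs _ _).trans ((Finset.sum_le_sum habs).trans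
      (by simp [D.cardY]))
  have hA0 : A = 0 := by
    by_contra hA0
    have hAt : |A| = (t : ℤ) := le_antisymm (hVA ▸ hVt)
      (Int.le_of_dvd (abs_pos.mpr hA0) ((dvd_abs _ _).mpr hdvd))
    have hall : ∀ θ ∈ Y, ν θ ≠ 0 := by
      intro θ hθ h0
      have h1 : |V| ≤ ∑ x ∈ Y.erase θ, |ν x| := by
        rw [hV, ← Finset.add_sum_erase _ _ hθ, h0, zero_add]
        exact Finset.abs_sum_le_sum_abs _ _
      have h2 : ∑ x ∈ Y.erase θ, |ν x| ≤ ((Y.erase θ).card : ℤ) :=
        (Finset.sum_le_sum fun x hx => habs x (Finset.mem_of_mem_erase hx)).trans (by simp)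
      rw [Finset.card_erase_of_mem hθ, D.cardY] at h2
      rw [hVA, hAt] at h1
      have := D.t_pos
      omega
    obtain ⟨y, hy'⟩ := D.hyp.exists_nonOne
    have hy1 := mem_nonOne.mp hy'
    have hreal : ∀ χ : IrrCharacter G, conj ((χ : G → ℂ) (y : G)) = (χ : G → ℂ) (y : G) := by
      intro χ
      by_cases hX : χ ∈ X
      · rw [D.pp.a_val χ hX y hy', map_intCast]
      by_cases hY : χ ∈ Y
      · refine Complex.conj_eq_iff_im.mpr (indicator_real χ.2 ?_ _)
        rw [hν]
        exact Int.cast_ne_zero.mpr (hall χ hY)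
      · rw [D.vanish (χ := χ) (by simp [Out, hX, hY]) hy1, map_zero]
    have h1 := second_orth (y : G) (y : G)⁻¹
    rw [if_neg (D.not_isConj_inv hodd hy1)] at h1
    have h2 := second_orth (y : G) (y : G)
    rw [if_pos (IsConj.refl _), D.card_class_y hy1] at h2
    rw [Finset.sum_congr rfl fun χ _ => by rw [char_inv (irr_isCharacter χ.2), hreal χ]] at h1
    rw [h1] at h2
    exact hp.ne_zero (by exact_mod_cast h2.symm)
  have hW0 : W = 0 := by
    rw [hA0, mul_zero, zero_sub, add_zero, mul_neg, neg_eq_zero] at hrel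
    exact (mul_eq_zero.mp hrel).resolve_left (by have := D.t_pos; omega)
  -- there is an involution
  have h := sum_indicator_mul (1 : G)
  simp only [hν] at h
  rw [D.sum_split, hone, one'_apply,
    Finset.sum_eq_zero (s := Xp X a) (fun χ hχ => by rw [hαZ χ hχ, hA0, Int.cast_zero, zero_mul]),
    Finset.sum_congr rfl (s₁ := Xm X a) (g := fun χ => (ν χ : ℂ) * ((p : ℂ) - 1)) fun χ hχ => by
      rw [(D.mem_Xm hχ).2.2],
    ← Finset.sum_mul, ← Int.cast_sum, ← hW, hW0,
    Finset.sum_congr rfl (s₁ := Y) (g := fun θ => (ν θ : ℂ) * (θ₀ : G → ℂ) 1)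
      fun θ hθ => by rw [H.valY hθ H.reg_one],
    ← Finset.sum_mul, ← Int.cast_sum, ← hV, hVA, hA0,
    Finset.sum_congr rfl (s₁ := Out X Y) (g := fun χ => (p : ℂ) * ((ν χ * fx P χ : ℤ) : ℂ))
      fun χ hχ => by rw [D.deg_out hχ]; push_cast; ring,
    ← Finset.mul_sum, ← Int.cast_sum, ← hA, hA0] at h
  have hcard : (Finset.univ.filter fun v : G => v * v = 1).card = 1 := by
    push_cast at h
    simp only [mul_zero, zero_mul, add_zero, mul_one] at h
    exact_mod_cast h.symm
  have hN : 2 ∣ Nat.card G := by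
    rw [D.card_eq]
    refine Dvd.dvd.mul_left ?_ _
    have ht : Even t := by
      rcases Nat.even_or_odd t with h | h
      · exact h
      · exfalso
        obtain ⟨k, hk⟩ := hodd.mul h
        have h2 := hp.odd_of_ne_two (by have := D.three_le; omega)
        obtain ⟨j, hj⟩ := h2
        have := D.et
        omega
    obtain ⟨k, hk⟩ := ht.mul_right m
    rw [H.tm] at hk
    obtain ⟨j, hj⟩ := hp.odd_of_ne_two (by have := D.three_le; omega)
    refine ⟨n * j + k, ?_⟩
    rw [hj, Nat.mul_add n (2 * j) 1, show n * (2 * j) = 2 * (n * j) by ring]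
    omega
  obtain ⟨x, hx⟩ := exists_prime_orderOf_dvd_card' 2 hN
  obtain ⟨z, hz⟩ := Finset.card_eq_one.mp hcard
  have hx2 : x ∈ Finset.univ.filter fun v : G => v * v = 1 := by
    simp [← sq, ← hx, pow_orderOf_eq_one]
  have h12 : (1 : G) ∈ Finset.univ.filter fun v : G => v * v = 1 := by simp
  rw [hz, Finset.mem_singleton] at hx2 h12
  rw [hx2, ← h12, orderOf_one] at hx
  omega

end Cfsg.Agent.Solv.BReyn.MinusData
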