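import Cfsg.Agent.Lib.Solv.BrauerReynoldsMinus

/-!
The case of a negative exceptional sign: the values of the characters away from the normaliser.
-/

set_option autoImplicit false

namespace Cfsg.Agent.Solv.BReyn.MinusData

open Cfsg Cfsg.Agent.Char
open scoped ComplexConjugate

universe u

variable {G : Type u} [Group G] [Fintype G] {p : ℕ} [Fact p.Prime] {P : Sylow p G} {n e t : ℕ}
  {M : Ideal AlgInt} {X Y : Finset (IrrCharacter G)} {a : IrrCharacter G → ℤ} {δ : ℤ}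
  {m : ℕ} {θ₀ : IrrCharacter G} {s : G} [Fintype ↥(Subgroup.zpowers s)]
  {c : IrrCharacter G → IrrCharacter ↥(Subgroup.zpowers s) → ℕ}
  (H : MinusData M P n e t m X Y a δ θ₀ s c)
include H

theorem norm_le (χ : IrrCharacter G) (w : ↥(Subgroup.zpowers s)) (hw : w ≠ 1) :
    ‖(χ : G → ℂ) (w : G)‖ ≤ (fx P χ : ℝ) := by
  rw [H.valc χ w hw, ← H.sumc χ, Nat.cast_sum]
  refine (norm_sum_le _ _).trans (Finset.sum_le_sum fun l _ => ?_)
  rw [norm_mul, Complex.norm_natCast]
  refine mul_le_of_le_one_right (Nat.cast_nonneg _) ?_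
  have h := char_norm_le (irr_isCharacter l.2) w
  rwa [lin_one l, Complex.one_re] at h

omit H in
theorem not_isConj_one {g : G} (hg : g ≠ 1) : ¬ IsConj g 1 := fun h => hg (isConj_one_left.mp h)

theorem sum_out_val (w : ↥(Subgroup.zpowers s)) (hw : w ≠ 1) :
    ∑ χ ∈ Out X Y, (fx P χ : ℂ) * (χ : G → ℂ) (w : G) = n := by
  classical
  have D := H.data
  have h := second_orth (w : G) (1 : G)
  rw [if_neg (not_isConj_one (H.ne_one w hw)), D.sum_split, one'_apply, one'_apply, map_one,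
    mul_one] at h
  simp only [fun χ : IrrCharacter G => conj_char_one (irr_isCharacter χ.2)] at h
  rw [Finset.sum_congr rfl (s₁ := Xp X a) (g := fun χ : IrrCharacter G =>
      ((n : ℂ) * p + 1) * (χ : G → ℂ) (w : G)) fun χ hχ => by
        rw [(D.mem_Xp hχ).2.2, mul_comm],
    ← Finset.mul_sum,
    Finset.sum_eq_zero (s := Xm X a) fun χ hχ => by rw [H.Xm_zero hχ w hw, zero_mul],
    Finset.sum_congr rfl (s₁ := Y) (g := fun _ => (θ₀ : G → ℂ) (w : G) * (θ₀ : G → ℂ) 1)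
      fun θ hθ => by rw [H.valY hθ (H.reg w), H.valY hθ H.reg_one],
    Finset.sum_congr rfl (s₁ := Out X Y) (g := fun χ : IrrCharacter G =>
      (p : ℂ) * ((fx P χ : ℂ) * (χ : G → ℂ) (w : G))) fun χ hχ => by
        rw [D.deg_out hχ]; ring,
    ← Finset.mul_sum (s := Out X Y), Finset.sum_const, nsmul_eq_mul, D.cardY] at h
  refine mul_left_cancel₀ (Nat.cast_ne_zero.mpr D.hp.ne_zero) ?_
  linear_combination h - ((n : ℂ) * p + 1) * H.rel_E w hw - (θ₀ : G → ℂ) (w : G) * H.deg_Y H.mem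

/-- Outside the block the values on the complement are the multiplicities. -/
theorem out_val {χ : IrrCharacter G} (hχ : χ ∈ Out X Y) (w : ↥(Subgroup.zpowers s)) (hw : w ≠ 1) :
    (χ : G → ℂ) (w : G) = fx P χ := by
  have h1 := congrArg Complex.re (H.sum_out_val w hw)
  have h2 := congrArg Complex.re H.sum_out_sq
  simp only [Complex.re_sum, Complex.mul_re, sq, Complex.natCast_re, Complex.natCast_im, zero_mul,
    sub_zero] at h1 h2
  have h3 : ∑ ψ ∈ Out X Y, (fx P ψ : ℝ) * ((fx P ψ : ℝ) - ((ψ : G → ℂ) (w : G)).re) = 0 := by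
    simp only [mul_sub, Finset.sum_sub_distrib, h1, h2, sub_self]
  have h4 := (Finset.sum_eq_zero_iff_of_nonneg fun ψ _ => mul_nonneg (Nat.cast_nonneg _)
    (sub_nonneg.mpr ((Complex.re_le_norm _).trans (H.norm_le ψ w hw)))).mp h3 χ hχ
  have hk : (fx P χ : ℝ) ≠ 0 := by
    intro h0
    have h5 := H.data.deg_out hχ
    rw [val_one, Nat.cast_eq_zero.mp h0, Nat.cast_zero, mul_zero] at h5
    exact val_one_ne χ h5
  have hre : ((χ : G → ℂ) (w : G)).re = fx P χ :=
    (sub_eq_zero.mp ((mul_eq_zero.mp h4).resolve_left hk)).symm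
  have hle := H.norm_le χ w hw
  have him : ((χ : G → ℂ) (w : G)).im = 0 := by
    have h6 := Complex.normSq_eq_norm_sq ((χ : G → ℂ) (w : G))
    rw [Complex.normSq_apply, hre] at h6
    have h7 : ‖(χ : G → ℂ) (w : G)‖ ^ 2 ≤ (fx P χ : ℝ) ^ 2 :=
      pow_le_pow_left₀ (norm_nonneg _) hle 2
    nlinarith
  exact Complex.ext (by rw [hre, Complex.natCast_re]) (by rw [him, Complex.natCast_im])

/-- The column products on the complement. -/
theorem gram (w w' : ↥(Subgroup.zpowers s)) (hw : w ≠ 1) (hw' : w' ≠ 1) :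
    ∑ χ : IrrCharacter G, (χ : G → ℂ) (w : G) * conj ((χ : G → ℂ) (w' : G)) =
      ((n : ℂ) + 1) + ∑ χ ∈ Xp X a, (χ : G → ℂ) (w : G) * conj ((χ : G → ℂ) (w' : G)) +
        (t : ℂ) * ((θ₀ : G → ℂ) (w : G) * conj ((θ₀ : G → ℂ) (w' : G))) := by
  classical
  rw [H.data.sum_split, one'_apply, one'_apply, map_one, mul_one,
    Finset.sum_eq_zero (s := Xm X a) fun χ hχ => by rw [H.Xm_zero hχ w hw, zero_mul],
    Finset.sum_congr rfl (s₁ := Y) (g := fun _ => (θ₀ : G → ℂ) (w : G) * conj ((θ₀ : G → ℂ) (w' : G)))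
      fun θ hθ => by rw [H.valY hθ (H.reg w), H.valY hθ (H.reg w')],
    Finset.sum_congr rfl (s₁ := Out X Y) (g := fun χ : IrrCharacter G => (fx P χ : ℂ) ^ 2)
      fun χ hχ => by rw [H.out_val hχ w hw, H.out_val hχ w' hw', map_natCast, sq],
    H.sum_out_sq, Finset.sum_const, nsmul_eq_mul, H.data.cardY]
  ring

/-- Characters of the block vanish on regular elements not fused into the normaliser. -/
theorem zero_off {g : G} (hg : ¬ p ∣ orderOf g) (hg1 : g ≠ 1)
    (hgE : ∀ w : ↥(Subgroup.zpowers s), w ≠ 1 → ¬ IsConj (w : G) g) :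
    (∀ χ ∈ Xp X a, (χ : G → ℂ) g = 0) ∧ (θ₀ : G → ℂ) g = 0 := by
  classical
  have D := H.data
  set A : ℂ := 1 + ∑ χ ∈ Out X Y, (fx P χ : ℂ) * conj ((χ : G → ℂ) g) with hA
  obtain ⟨hα, hb⟩ := H.extract A ((t : ℂ) * conj ((θ₀ : G → ℂ) g))
    (fun χ => conj ((χ : G → ℂ) g)) fun w hw => by
    have h := second_orth (w : G) g
    rw [if_neg (hgE w hw), D.sum_split, one'_apply, one'_apply, map_one, mul_one,
      Finset.sum_eq_zero (s := Xm X a) fun χ hχ => by rw [H.Xm_zero hχ w hw, zero_mul],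
      Finset.sum_congr rfl (s₁ := Y) (g := fun _ => (θ₀ : G → ℂ) (w : G) * conj ((θ₀ : G → ℂ) g))
        fun θ hθ => by rw [H.valY hθ (H.reg w), H.valY hθ hg],
      Finset.sum_congr rfl (s₁ := Out X Y) (g := fun χ : IrrCharacter G =>
        (fx P χ : ℂ) * conj ((χ : G → ℂ) g)) fun χ hχ => by rw [H.out_val hχ w hw],
      Finset.sum_const, nsmul_eq_mul, D.cardY,
      Finset.sum_congr rfl (s₁ := Xp X a) (g := fun χ : IrrCharacter G =>
        conj ((χ : G → ℂ) g) * (χ : G → ℂ) (w : G)) fun χ _ => mul_comm _ _] at h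
    rw [hA]
    linear_combination h
  have hrel := congrArg (starRingEnd ℂ) (D.rel_split H.mem hg)
  simp only [map_mul, map_add, map_sub, map_sum, map_intCast, map_one, H.neg] at hrel
  rw [Finset.sum_congr rfl hα, Finset.sum_const, nsmul_eq_mul] at hrel
  have h := second_orth (1 : G) g
  rw [if_neg fun hc => hg1 (isConj_one_right.mp hc), D.sum_split, one'_apply, one'_apply, map_one,
    mul_one,
    Finset.sum_congr rfl (s₁ := Xp X a) (g := fun _ => ((n : ℂ) * p + 1) * A) fun χ hχ => by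
      rw [(D.mem_Xp hχ).2.2, hα χ hχ],
    Finset.sum_congr rfl (s₁ := Xm X a) (g := fun χ : IrrCharacter G =>
      ((p : ℂ) - 1) * conj ((χ : G → ℂ) g)) fun χ hχ => by rw [(D.mem_Xm hχ).2.2],
    ← Finset.mul_sum (s := Xm X a),
    Finset.sum_congr rfl (s₁ := Y) (g := fun _ => (θ₀ : G → ℂ) 1 * conj ((θ₀ : G → ℂ) g))
      fun θ hθ => by rw [H.valY hθ H.reg_one, H.valY hθ hg],
    Finset.sum_congr rfl (s₁ := Out X Y) (g := fun χ : IrrCharacter G =>
      (p : ℂ) * ((fx P χ : ℂ) * conj ((χ : G → ℂ) g))) fun χ hχ => by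
        rw [D.deg_out hχ, mul_assoc],
    ← Finset.mul_sum (s := Out X Y), show ∑ χ ∈ Out X Y, (fx P χ : ℂ) * conj ((χ : G → ℂ) g) = A - 1 by
      rw [hA]; ring] at h
  simp only [Finset.sum_const, nsmul_eq_mul, D.cardY] at h
  clear_value A
  clear hA
  push_cast at hrel
  have h3 : (e : ℂ) * t + 1 = p := by exact_mod_cast D.et
  have hkey : (p : ℂ) * ((e : ℂ) * t) * A = 0 := by
    linear_combination (t : ℂ) * h - (t : ℂ) * ((p : ℂ) - 1) * hrel -
      ((t : ℂ) * conj ((θ₀ : G → ℂ) g)) * H.deg_Y H.mem + ((p : ℂ) * t * A) * H.count_cast +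
      ((p : ℂ) * A) * H.tm_cast - ((n : ℂ) * p + 1 + (p : ℂ) - 1) * hb
  have hA0 : A = 0 := by
    refine (mul_eq_zero.mp hkey).resolve_left (mul_ne_zero (Nat.cast_ne_zero.mpr D.hp.ne_zero)
      (mul_ne_zero (Nat.cast_ne_zero.mpr ?_) (Nat.cast_ne_zero.mpr D.t_pos.ne')))
    have := D.two_le
    omega
  refine ⟨fun χ hχ => ?_, ?_⟩
  · have := congrArg (starRingEnd ℂ) ((hα χ hχ).trans hA0)
    rwa [Complex.conj_conj, map_zero] at this
  · have := congrArg (starRingEnd ℂ)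
      ((mul_eq_zero.mp (hb.trans hA0)).resolve_left (Nat.cast_ne_zero.mpr D.t_pos.ne'))
    rwa [Complex.conj_conj, map_zero] at this

end Cfsg.Agent.Solv.BReyn.MinusData
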