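import Mathlib

/-!
# Descending to the second centre without increasing the breadth

In a finite nilpotent group, below every noncentral element there is an element of the second
centre, still noncentral, whose class is no larger.
-/

set_option autoImplicit false

open scoped commutatorElement

namespace Cfsg.Agent.Solv.Breadth

variable {G : Type*} [Group G]

local notation "γ" => Subgroup.lowerCentralSeries (⊤ : Subgroup G)
local notation "Z" => Subgroup.center G

/-- The centralizer of an element. -/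
abbrev C1 (x : G) : Subgroup G := Subgroup.centralizer ({x} : Set G)

theorem mem_C1 {x t : G} : t ∈ C1 x ↔ t * x = x * t := by
  rw [Subgroup.mem_centralizer_iff]
  simp [eq_comm]

theorem comm_mem (k : ℕ) {f : G} (hf : f ∈ γ k) (u : G) : ⁅f, u⁆ ∈ γ (k + 1) :=
  Subgroup.commutator_mem_commutator hf (Subgroup.mem_top u)

theorem comm_mul (x a b : G) : ⁅x, a * b⁆ = ⁅x, a⁆ * (a * ⁅x, b⁆ * a⁻¹) := by
  simp [commutatorElement_def, mul_assoc]

theorem comm_central_left {z : G} (hz : z ∈ Z) (x a : G) : ⁅z * x, a⁆ = ⁅x, a⁆ := by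
  rw [Subgroup.mem_center_iff] at hz
  rw [commutatorElement_def, commutatorElement_def, mul_inv_rev]
  calc z * x * a * (x⁻¹ * z⁻¹) * a⁻¹
      = z * (x * a * x⁻¹) * z⁻¹ * a⁻¹ := by group
    _ = (x * a * x⁻¹) * z * z⁻¹ * a⁻¹ := by rw [hz (x * a * x⁻¹)]
    _ = x * a * x⁻¹ * a⁻¹ := by group

/-- One step down: the class of `⁅x, u⁆` is no larger than that of `x`. -/
theorem index_step [Finite G] [hG : Group.IsNilpotent G] {x u : G} {i : ℕ} (hu : u ∈ γ i)
    (hcen : ∀ f ∈ γ (i + 1), ⁅x, f⁆ ∈ Z) : (C1 ⁅x, u⁆).index ≤ (C1 x).index := by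
  set w := ⁅x, u⁆ with hw
  let φ : ↥(γ (i + 1)) →* G := MonoidHom.mk' (fun f => ⁅x, (f : G)⁆) (fun a b => by
    show ⁅x, ((a * b : ↥(γ (i + 1))) : G)⁆ = _
    rw [Subgroup.coe_mul, comm_mul]
    congr 1
    rw [mul_assoc, ← Subgroup.mem_center_iff.1 (hcen _ b.2) (a : G)⁻¹, ← mul_assoc, mul_inv_cancel,
      one_mul])
  set T := φ.range with hT
  have hTZ : T ≤ Z := by rintro _ ⟨f, rfl⟩; exact hcen _ f.2
  -- deep elements move `w` only inside `T * w`
  have hdeep : ∀ (n j : ℕ), Group.nilpotencyClass G ≤ j + n → i + 1 ≤ j → ∀ f ∈ γ j,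
      f * w * f⁻¹ * w⁻¹ ∈ T := by
    intro n
    induction n with
    | zero =>
      intro j hj _ f hf
      have hb := Subgroup.lowerCentralSeries_eq_bot_iff_nilpotencyClass_le.2
        (show Group.nilpotencyClass G ≤ j by omega)
      rw [hb, Subgroup.mem_bot] at hf
      subst hf; simp
    | succ n IH =>
      intro j hj hij f hf
      have hf' : ⁅f, u⁆ ∈ γ (j + 1) := comm_mem j hf u
      have h1 := IH (j + 1) (by omega) (by omega) _ hf'
      have hfi : f ∈ γ (i + 1) := Subgroup.lowerCentralSeries_antitone _ hij hf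
      have hfi' : ⁅f, u⁆ ∈ γ (i + 1) := Subgroup.lowerCentralSeries_antitone _ (by omega) hf'
      have hfx : f * x * f⁻¹ = ⁅x, f⁆⁻¹ * x := by
        rw [commutatorElement_def]; group
      have he : f * w * f⁻¹ = ⁅x, ⁅f, u⁆⁆ * (⁅f, u⁆ * w * ⁅f, u⁆⁻¹) := by
        calc f * w * f⁻¹ = ⁅f * x * f⁻¹, ⁅f, u⁆ * u⁆ := by
              simp only [hw, commutatorElement_def]; group
          _ = ⁅x, ⁅f, u⁆ * u⁆ := by rw [hfx, comm_central_left (inv_mem (hcen _ hfi))]
          _ = _ := comm_mul _ _ _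
      rw [he, mul_assoc ⁅x, ⁅f, u⁆⁆]
      exact mul_mem ⟨⟨_, hfi'⟩, rfl⟩ h1
  have hA : ∀ f ∈ γ (i + 1), f * w * f⁻¹ * w⁻¹ ∈ T :=
    fun f hf => hdeep (Group.nilpotencyClass G) (i + 1) (by omega) le_rfl f hf
  have hC : ∀ c ∈ C1 x, c * w * c⁻¹ * w⁻¹ ∈ T := by
    intro c hc
    rw [mem_C1] at hc
    have hcu : ⁅c, u⁆ ∈ γ (i + 1) := by
      rw [← commutatorElement_inv]; exact inv_mem (comm_mem i hu c)
    have he : c * w * c⁻¹ = ⁅x, ⁅c, u⁆⁆ * (⁅c, u⁆ * w * ⁅c, u⁆⁻¹) := by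
      have hcx : c * x * c⁻¹ = x := by rw [hc, mul_inv_cancel_right]
      calc c * w * c⁻¹ = ⁅c * x * c⁻¹, ⁅c, u⁆ * u⁆ := by
            simp only [hw, commutatorElement_def]; group
        _ = ⁅x, ⁅c, u⁆ * u⁆ := by rw [hcx]
        _ = _ := comm_mul _ _ _
    rw [he, mul_assoc ⁅x, ⁅c, u⁆⁆]
    exact mul_mem ⟨⟨_, hcu⟩, rfl⟩ (hA _ hcu)
  set K := γ (i + 1) ⊔ C1 x with hKdef
  have hK : ∀ k ∈ K, k * w * k⁻¹ * w⁻¹ ∈ T := by
    intro k hk
    rw [hKdef, Subgroup.mem_sup_of_normal_left] at hk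
    obtain ⟨f, hf, c, hc, rfl⟩ := hk
    have hz : f * (c * w * c⁻¹ * w⁻¹) = (c * w * c⁻¹ * w⁻¹) * f :=
      Subgroup.mem_center_iff.1 (hTZ (hC c hc)) f
    have he : f * c * w * (f * c)⁻¹ * w⁻¹ =
        (c * w * c⁻¹ * w⁻¹) * (f * w * f⁻¹ * w⁻¹) := by
      rw [show f * c * w * (f * c)⁻¹ * w⁻¹ = f * (c * w * c⁻¹ * w⁻¹) * (w * f⁻¹ * w⁻¹) by group,
        hz]
      group
    rw [he]
    exact mul_mem (hC c hc) (hA f hf)
  -- counting
  have h1 : (C1 w).relIndex K ≤ Nat.card T := by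
    have hwell : ∀ a b : K, (a : G) * w * (a : G)⁻¹ = (b : G) * w * (b : G)⁻¹ ↔
        a⁻¹ * b ∈ (C1 w).subgroupOf K := by
      intro a b
      rw [Subgroup.mem_subgroupOf, mem_C1, Subgroup.coe_mul, Subgroup.coe_inv]
      constructor
      · intro h
        calc (a : G)⁻¹ * b * w = (a : G)⁻¹ * ((b : G) * w * (b : G)⁻¹) * b := by group
          _ = (a : G)⁻¹ * ((a : G) * w * (a : G)⁻¹) * b := by rw [h]
          _ = w * ((a : G)⁻¹ * b) := by group
      · intro h
        calc (a : G) * w * (a : G)⁻¹ = (a : G) * (w * ((a : G)⁻¹ * b)) * (b : G)⁻¹ := by group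
          _ = (a : G) * ((a : G)⁻¹ * b * w) * (b : G)⁻¹ := by rw [h]
          _ = _ := by group
    refine Nat.card_le_card_of_injective
      (Quotient.lift (fun k : K => (⟨(k : G) * w * (k : G)⁻¹ * w⁻¹, hK _ k.2⟩ : T))
        (fun a b hab => Subtype.ext (congrArg (· * w⁻¹)
          ((hwell a b).2 (QuotientGroup.leftRel_apply.1 hab))))) ?_
    intro a b
    induction a using QuotientGroup.induction_on with | _ a => ?_
    induction b using QuotientGroup.induction_on with | _ b => ?_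
    intro hab
    exact QuotientGroup.eq.2 ((hwell a b).1 (mul_right_cancel (congrArg Subtype.val hab)))
  have h2 : Nat.card T = (C1 x).relIndex (γ (i + 1)) := by
    rw [hT, ← Subgroup.index_ker φ]
    show φ.ker.index = ((C1 x).subgroupOf (γ (i + 1))).index
    congr 1
    ext f
    show φ f = 1 ↔ _
    rw [Subgroup.mem_subgroupOf, mem_C1]
    show ⁅x, (f : G)⁆ = 1 ↔ _
    rw [commutatorElement_eq_one_iff_mul_comm, eq_comm]
  have h3 : (C1 x).relIndex (γ (i + 1)) ≤ (C1 x).relIndex K :=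
    Subgroup.relIndex_le_of_le_right le_sup_left Subgroup.index_ne_zero_of_finite
  calc (C1 w).index ≤ (C1 w ⊓ K).index := Nat.le_of_dvd
        (Nat.pos_of_ne_zero Subgroup.index_ne_zero_of_finite) (Subgroup.index_dvd_of_le inf_le_left)
    _ = (C1 w).relIndex K * K.index := by
        rw [← Subgroup.relIndex_mul_index (H := C1 w ⊓ K) (K := K) inf_le_right,
          Subgroup.inf_relIndex_right]
    _ ≤ (C1 x).relIndex K * K.index := Nat.mul_le_mul_right _ (h1.trans (h2.trans_le h3))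
    _ = (C1 x).index := Subgroup.relIndex_mul_index le_sup_right

theorem exists_second_center [Finite G] [hG : Group.IsNilpotent G] {x : G} (hx : x ∉ Z) :
    ∃ y : G, y ∉ Z ∧ (∀ t : G, ⁅y, t⁆ ∈ Z) ∧ (C1 y).index ≤ (C1 x).index := by
  suffices H : ∀ (n k : ℕ), Group.nilpotencyClass G ≤ k + n → ∀ x ∈ γ k, x ∉ Z →
      ∃ y : G, y ∉ Z ∧ (∀ t : G, ⁅y, t⁆ ∈ Z) ∧ (C1 y).index ≤ (C1 x).index from
    H (Group.nilpotencyClass G) 0 (by omega) x (by simp) hx
  intro n
  induction n with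
  | zero =>
    intro k hk x hxk hx
    rw [Subgroup.lowerCentralSeries_eq_bot_iff_nilpotencyClass_le.2
      (show Group.nilpotencyClass G ≤ k by omega), Subgroup.mem_bot] at hxk
    exact absurd (hxk ▸ one_mem _) hx
  | succ n IH =>
    intro k hk x hxk hx
    by_cases hall : ∀ t, ⁅x, t⁆ ∈ Z
    · exact ⟨x, hx, hall, le_rfl⟩
    classical
    have hex : ∃ i, ∀ f ∈ γ i, ⁅x, f⁆ ∈ Z := ⟨Group.nilpotencyClass G, fun f hf => by
      rw [Subgroup.lowerCentralSeries_nilpotencyClass, Subgroup.mem_bot] at hf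
      subst hf; simp⟩
    obtain ⟨i, hi⟩ := Nat.exists_eq_succ_of_ne_zero (show Nat.find hex ≠ 0 from fun h => hall
      fun t => Nat.find_spec hex t (by rw [h]; simp))
    obtain ⟨u, hu, hun⟩ : ∃ u ∈ γ i, ⁅x, u⁆ ∉ Z := by
      have h := Nat.find_min hex (m := i) (by omega)
      push Not at h; exact h
    have hcen : ∀ f ∈ γ (i + 1), ⁅x, f⁆ ∈ Z := fun f hf =>
      Nat.find_spec hex f (by rw [hi]; exact hf)
    obtain ⟨y, h1, h2, h3⟩ := IH (k + 1) (by omega) _ (comm_mem k hxk u) hun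
    exact ⟨y, h1, h2, h3.trans (index_step hu hcen)⟩

end Cfsg.Agent.Solv.Breadth
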