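import Mathlib
import Cfsg.Agent.Lib.Solv.BreadthDescent

/-!
# The derived subgroup of a `p`-group of given breadth

Vaughan-Lee's bound `|G'| ≤ p ^ (b (b + 1) / 2)`, by enlarging a normal subgroup `M` step by step
along elements of small breadth modulo `M`, keeping track of an average gain.
-/

set_option autoImplicit false

open scoped commutatorElement

namespace Cfsg.Agent.Solv.Breadth

/-- Triangular numbers. -/
def tri : ℕ → ℕ
  | 0 => 0
  | n + 1 => tri n + (n + 1)

theorem tri_eq (n : ℕ) : tri n = n * (n + 1) / 2 := by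
  induction n with
  | zero => rfl
  | succ n ih =>
    rw [tri, ih]
    have : (n + 1) * (n + 1 + 1) = n * (n + 1) + (n + 1) * 2 := by ring
    rw [this, Nat.add_mul_div_right _ _ (by norm_num)]

/-- The bookkeeping inequality. -/
theorem step_arith {b u Q m : ℕ} {R : ℚ} (hR0 : 0 ≤ R) (hR1 : R ≤ 1 - 1 / 2 ^ b)
    (hR : R ≤ (2 ^ Q + 1) / 2 ^ (u + 1) - 1 / 2 ^ b) (hm1 : 1 ≤ m) (hmu : m ≤ u) :
    (R + 1 / 2 ^ m < 1 ∧ R + 1 / 2 ^ m ≤ (2 ^ (Q + (u - m)) + 1) / 2 ^ u - 1 / 2 ^ b) ∨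
      (1 ≤ R + 1 / 2 ^ m ∧ u ≤ Q + (u - m) ∧
        R + 1 / 2 ^ m - 1 ≤ (2 ^ (Q + (u - m) - u) + 1) / 2 ^ (u + 1) - 1 / 2 ^ b) := by
  obtain ⟨s, rfl⟩ : ∃ s, u = m + s := ⟨u - m, by omega⟩
  rw [Nat.add_sub_cancel_left]
  have hbp : (0 : ℚ) < 1 / 2 ^ b := by positivity
  have hm2 : (1 : ℚ) / 2 ^ m = 2 ^ s / 2 ^ (m + s) := by
    rw [pow_add]; field_simp
  have hU : (0 : ℚ) < 2 ^ (m + s) := by positivity
  -- the merged bound
  have hkey : R + 1 / 2 ^ m ≤ (2 ^ (Q + s) + 1) / 2 ^ (m + s) - 1 / 2 ^ b := by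
    have h1 : ((2 : ℚ) ^ Q + 1) / 2 + 2 ^ s ≤ 2 ^ (Q + s) + 1 := by
      have hs : (1 : ℚ) ≤ 2 ^ s := one_le_pow₀ (by norm_num)
      have hQ : (1 : ℚ) ≤ 2 ^ Q := one_le_pow₀ (by norm_num)
      rw [pow_add]
      nlinarith
    have h2 : R + 1 / 2 ^ m ≤ (((2 : ℚ) ^ Q + 1) / 2 + 2 ^ s) / 2 ^ (m + s) - 1 / 2 ^ b := by
      rw [hm2, add_div, div_div, ← pow_succ']
      linarith
    exact h2.trans (by gcongr)
  by_cases hc : R + 1 / 2 ^ m < 1
  · exact Or.inl ⟨hc, hkey⟩
  rw [not_lt] at hc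
  have hle : m + s ≤ Q + s := by
    by_contra hlt
    have : (2 : ℚ) ^ (Q + s) + 1 ≤ 2 ^ (m + s) := by
      have h1 : (2 : ℚ) ^ (Q + s) * 2 ≤ 2 ^ (m + s) := by
        rw [← pow_succ]; exact pow_le_pow_right₀ (by norm_num) (by omega)
      have hQ : (1 : ℚ) ≤ 2 ^ (Q + s) := one_le_pow₀ (by norm_num)
      linarith
    have h3 : ((2 : ℚ) ^ (Q + s) + 1) / 2 ^ (m + s) ≤ 1 := (div_le_one hU).2 this
    linarith
  refine Or.inr ⟨hc, hle, ?_⟩
  obtain ⟨Q', rfl⟩ : ∃ Q', Q = m + Q' := ⟨Q - m, by omega⟩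
  rw [show m + Q' + s - (m + s) = Q' by omega]
  have hX : (2 : ℚ) ^ (m + Q' + s) = 2 ^ Q' * 2 ^ (m + s) := by
    rw [← pow_add]; congr 1; omega
  rw [hX, add_div, mul_div_assoc, div_self hU.ne', mul_one] at hkey
  have hmle : (1 : ℚ) / 2 ^ m ≤ 1 / 2 := by
    rw [div_le_div_iff_of_pos_left one_pos (by positivity) (by norm_num)]
    calc (2 : ℚ) = 2 ^ 1 := (pow_one _).symm
      _ ≤ 2 ^ m := pow_le_pow_right₀ (by norm_num) hm1
  rcases Nat.eq_zero_or_pos Q' with h0 | h0
  · subst h0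
    rw [pow_zero] at hkey ⊢
    rw [show ((1 : ℚ) + 1) / 2 ^ (m + s + 1) = 1 / 2 ^ (m + s) by rw [pow_succ]; field_simp; norm_num]
    linarith
  by_cases hbig : m + s + 1 ≤ Q'
  · have : (1 : ℚ) ≤ ((2 : ℚ) ^ Q' + 1) / 2 ^ (m + s + 1) - 1 / 2 ^ b + 1 / 2 ^ b := by
      rw [sub_add_cancel, le_div_iff₀ (by positivity), one_mul]
      have := pow_le_pow_right₀ (show (1 : ℚ) ≤ 2 by norm_num) hbig
      linarith
    linarith
  -- otherwise `m = 1`
  have hQb : (2 : ℚ) ^ (m + Q') ≤ 2 ^ (m + s) ∨ m + s < m + Q' :=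
    (Nat.lt_or_ge (m + s) (m + Q')).symm.imp (fun h => pow_le_pow_right₀ (by norm_num) h) id
  rcases hQb with hQb | hQb
  · have hR' : R ≤ 1 / 2 + 1 / 2 ^ (m + s + 1) - 1 / 2 ^ b := by
      refine hR.trans (le_of_eq_of_le ?_ (sub_le_sub_right (add_le_add_left
        (show (2 : ℚ) ^ (m + Q') / 2 ^ (m + s + 1) ≤ 1 / 2 from ?_) _) _))
      · rw [add_div]
      · rw [pow_succ, div_le_div_iff₀ (by positivity) (by norm_num)]
        linarith
    have hm : m = 1 := by
      by_contra hne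
      have h4 : (1 : ℚ) / 2 ^ m ≤ 1 / 4 := by
        rw [div_le_div_iff_of_pos_left one_pos (by positivity) (by norm_num)]
        calc (4 : ℚ) = 2 ^ 2 := by norm_num
          _ ≤ 2 ^ m := pow_le_pow_right₀ (by norm_num) (by omega)
      have h5 : (1 : ℚ) / 2 ^ (m + s + 1) ≤ 1 / 8 := by
        rw [div_le_div_iff_of_pos_left one_pos (by positivity) (by norm_num)]
        calc (8 : ℚ) = 2 ^ 3 := by norm_num
          _ ≤ 2 ^ (m + s + 1) := pow_le_pow_right₀ (by norm_num) (by omega)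
      linarith
    subst hm
    have e : (2 : ℚ) ^ (1 + Q') / 2 ^ (1 + s + 1) = 2 ^ Q' / 2 ^ (1 + s + 1) * 2 := by
      rw [pow_add, pow_one]; ring
    rw [add_div] at hR ⊢
    rw [e] at hR
    have hhalf : (2 : ℚ) ^ Q' / 2 ^ (1 + s + 1) ≤ 1 / 2 := by
      have : (2 : ℚ) ^ Q' * 2 ≤ 2 ^ (1 + s + 1) := by
        rw [← pow_succ]; exact pow_le_pow_right₀ (by norm_num) (by omega)
      rw [div_le_div_iff₀ (by positivity) (by norm_num)]
      linarith
    rw [pow_one]
    linarith
  · have h6 : (2 : ℚ) ^ (m + s) * 1 ≤ 2 ^ Q' * 2 ^ m / 2 := by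
      rw [mul_one, le_div_iff₀ (by norm_num), ← pow_succ, ← pow_add]
      exact pow_le_pow_right₀ (by norm_num) (by omega)
    have h7 : (1 : ℚ) / 2 ^ m ≤ 2 ^ Q' / 2 ^ (m + s + 1) := by
      rw [div_le_div_iff₀ (by positivity) (by positivity), pow_succ, one_mul]
      linarith
    have h8 : (0 : ℚ) ≤ 1 / 2 ^ (m + s + 1) := by positivity
    rw [add_div]
    linarith

variable {G : Type*} [Group G]

/-- Centralizer of `z` modulo `M`. -/
def Cm (M : Subgroup G) [M.Normal] (z : G) : Subgroup G :=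
  (C1 (QuotientGroup.mk' M z)).comap (QuotientGroup.mk' M)

theorem mem_Cm {M : Subgroup G} [M.Normal] {z t : G} : t ∈ Cm M z ↔ ⁅t, z⁆ ∈ M := by
  rw [Cm, Subgroup.mem_comap, mem_C1, ← commutatorElement_eq_one_iff_mul_comm,
    ← map_commutatorElement, QuotientGroup.mk'_apply, QuotientGroup.eq_one_iff]

theorem index_Cm (M : Subgroup G) [M.Normal] (z : G) :
    (Cm M z).index = (C1 (QuotientGroup.mk' M z)).index :=
  Subgroup.index_comap_of_surjective _ (QuotientGroup.mk'_surjective M)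

theorem self_mem_center_of_index_one [Finite G] {x : G} (h : (C1 x).index = 1) :
    x ∈ Subgroup.center G := by
  rw [Subgroup.mem_center_iff]
  intro t
  exact mem_C1.1 ((Subgroup.index_eq_one.1 h).ge (Subgroup.mem_top t))

theorem card_comap_eq [Finite G] (M : Subgroup G) [M.Normal] (H : Subgroup (G ⧸ M)) :
    Nat.card (H.comap (QuotientGroup.mk' M)) = Nat.card M * Nat.card H := by
  have h1 := (H.comap (QuotientGroup.mk' M)).card_mul_index
  rw [Subgroup.index_comap_of_surjective _ (QuotientGroup.mk'_surjective M)] at h1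
  have h2 := H.card_mul_index
  have h3 : Nat.card (G ⧸ M) * Nat.card M = Nat.card G := by
    rw [← Subgroup.index_eq_card]; exact M.index_mul_card
  refine Nat.eq_of_mul_eq_mul_right
    (Nat.pos_of_ne_zero (Subgroup.index_ne_zero_of_finite (H := H))) ?_
  rw [h1, mul_assoc, h2, mul_comm, h3]

open scoped Classical in
/-- Averages over a subgroup of indicator functions of complements of subgroups. -/
theorem sum_indicator [Fintype G] (D H : Subgroup G) :
    ((∑ z ∈ Finset.univ.filter (· ∈ H), if z ∈ D then (0 : ℚ) else 1)) =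
      Nat.card H - Nat.card (H ⊓ D : Subgroup G) := by
  have h1 : (∑ z ∈ Finset.univ.filter (· ∈ H), if z ∈ D then (1 : ℚ) else 0) =
      Nat.card (H ⊓ D : Subgroup G) := by
    rw [Finset.sum_boole, Finset.filter_filter, ← Nat.card_eq_finsetCard]
    congr 1
    exact Nat.card_congr (Equiv.subtypeEquivRight fun z => by simp [Subgroup.mem_inf])
  have h2 : (∑ _z ∈ Finset.univ.filter (· ∈ H), (1 : ℚ)) = Nat.card H := by
    rw [Finset.sum_const, nsmul_one, ← Nat.card_eq_finsetCard]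
    congr 1
    exact Nat.card_congr (Equiv.subtypeEquivRight fun z => by simp)
  rw [← h1, ← h2, ← Finset.sum_sub_distrib]
  refine Finset.sum_congr rfl fun z _ => ?_
  split <;> simp

open scoped Classical in
theorem main [Fintype G] {p b : ℕ} [hp : Fact p.Prime] (hG : IsPGroup p G)
    (hb : ∀ x : G, (C1 x).index ≤ p ^ b) :
    ∀ (k : ℕ) (M : Subgroup G) [M.Normal], M.index = k → ∀ (g : G → ℕ) (σ u Q N : ℕ) (R : ℚ),
      Nat.card M ≤ p ^ σ → σ + tri u + Q ≤ tri b → u ≤ b → R = N / 2 ^ b → N < 2 ^ b →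
      R ≤ (2 ^ Q + 1) / 2 ^ (u + 1) - 1 / 2 ^ b →
      ((b : ℚ) - u - R) * Fintype.card G ≤ ∑ z, (g z : ℚ) →
      (∀ H : Subgroup G, (∑ z ∈ Finset.univ.filter (· ∈ H), (g z : ℚ)) * Fintype.card G ≤
        (∑ z, (g z : ℚ)) * Nat.card H) →
      (∀ z : G, p ^ g z * (Cm M z).index ≤ (C1 z).index) →
      Nat.card (commutator G) ≤ p ^ tri b := by
  intro k
  induction k using Nat.strong_induction_on with
  | _ k IH =>
  intro M _ hk g σ u Q N R hM hinv hub hRN hN hR hsum hsub hgain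
  have hR0 : 0 ≤ R := by rw [hRN]; positivity
  have hR1 : R ≤ 1 - 1 / 2 ^ b := by
    rw [hRN, one_sub_div (by positivity), div_le_div_iff_of_pos_right (by positivity), le_sub_iff_add_le]
    exact_mod_cast hN
  set π := QuotientGroup.mk' M with hπ
  set C0 := (Subgroup.center (G ⧸ M)).comap π with hC0
  by_cases htop : C0 = ⊤
  · refine le_trans ?_ (Nat.pow_le_pow_right hp.out.pos (show σ ≤ tri b by omega))
    refine le_trans (Nat.le_of_dvd Nat.card_pos (Subgroup.card_dvd_of_le ?_)) hM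
    rw [_root_.commutator_def, Subgroup.commutator_le]
    intro a _ c _
    rw [← QuotientGroup.eq_one_iff (N := M), ← QuotientGroup.mk'_apply, map_commutatorElement,
      commutatorElement_eq_one_iff_mul_comm]
    exact ((Subgroup.mem_center_iff.1 (htop.ge (Subgroup.mem_top a) : π a ∈ _)) (π c)).symm
  haveI hMn : Group.IsNilpotent (G ⧸ M) := (hG.to_quotient M).isNilpotent
  have hcardpos : (0 : ℚ) < Fintype.card G := by exact_mod_cast Fintype.card_pos
  -- an element outside `C0` whose gain is at least the average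
  obtain ⟨z, hzC, hzg⟩ : ∃ z, z ∉ C0 ∧ (b : ℚ) - u - R ≤ g z := by
    by_contra hcon
    push Not at hcon
    obtain ⟨a, ha⟩ : ∃ a, a ∉ C0 := by
      by_contra h; push Not at h; exact htop (eq_top_iff.2 fun x _ => h x)
    have h1 : ∑ z ∈ Finset.univ.filter (fun z => ¬ z ∈ C0), (g z : ℚ) <
        ∑ _z ∈ Finset.univ.filter (fun z => ¬ z ∈ C0), ((b : ℚ) - u - R) :=
      Finset.sum_lt_sum_of_nonempty ⟨a, by simp [ha]⟩ fun z hz => hcon z (by simpa using hz)
    rw [Finset.sum_const, nsmul_eq_mul] at h1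
    have h2 := Finset.sum_filter_add_sum_filter_not Finset.univ (· ∈ C0) (fun z => (g z : ℚ))
    have h3 : ((Finset.univ.filter (fun z => ¬ z ∈ C0)).card : ℚ) = Fintype.card G - Nat.card C0 := by
      have h := Finset.card_filter_add_card_filter_not (s := (Finset.univ : Finset G)) (· ∈ C0)
      have h' : (Finset.univ.filter (· ∈ C0)).card = Nat.card C0 := by
        rw [← Nat.card_eq_finsetCard]
        exact Nat.card_congr (Equiv.subtypeEquivRight fun z => by simp)
      rw [h', Finset.card_univ] at h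
      rw [eq_sub_iff_add_eq, add_comm]
      exact_mod_cast h
    rw [h3] at h1
    have hC0le : (Nat.card C0 : ℚ) ≤ Fintype.card G := by
      rw [← Nat.card_eq_fintype_card]; exact_mod_cast Subgroup.card_le_card_group C0
    have h4 := hsub C0
    nlinarith [mul_lt_mul_of_pos_right h1 hcardpos,
      mul_le_mul_of_nonneg_right hsum (sub_nonneg.2 hC0le)]
  have hzne : π z ∉ Subgroup.center (G ⧸ M) := hzC
  obtain ⟨y', hy1, hy2, hy3⟩ := exists_second_center hzne
  obtain ⟨y, rfl⟩ := QuotientGroup.mk'_surjective M y'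
  set D := Cm M y with hD
  obtain ⟨m, hm⟩ := IsPGroup.index (hG) D
  have hm1 : 1 ≤ m := by
    rcases Nat.eq_zero_or_pos m with h | h
    · rw [h, pow_zero, hD, index_Cm] at hm
      exact absurd (self_mem_center_of_index_one hm) hy1
    · exact h
  obtain ⟨r, hr⟩ := IsPGroup.index (hG) (Cm M z)
  have hgr : g z + r ≤ b := by
    have h := (hgain z).trans (hb z)
    rw [hr, ← pow_add] at h
    exact (Nat.pow_le_pow_iff_right hp.out.one_lt).1 h
  have hmr : m ≤ r := by
    rw [← Nat.pow_le_pow_iff_right hp.out.one_lt, ← hm, ← hr, hD, index_Cm, index_Cm]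
    exact hy3
  have hmu : m ≤ u := by
    by_contra hlt
    rw [not_le] at hlt
    have e1 : ((g z : ℚ)) + r ≤ b := by exact_mod_cast hgr
    have e2 : (u : ℚ) + 1 ≤ r := by exact_mod_cast (show u + 1 ≤ r by omega)
    have e3 : (0 : ℚ) < 1 / 2 ^ b := by positivity
    linarith
  -- the enlarged subgroup
  let ψ : G ⧸ M →* G ⧸ M := MonoidHom.mk' (fun t => ⁅π y, t⁆) (fun a c => by
    show ⁅π y, a * c⁆ = _
    rw [comm_mul, mul_assoc a, ← Subgroup.mem_center_iff.1 (hy2 c) a⁻¹, ← mul_assoc a,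
      mul_inv_cancel, one_mul])
  have hψZ : ψ.range ≤ Subgroup.center (G ⧸ M) := by rintro _ ⟨t, rfl⟩; exact hy2 t
  haveI : ψ.range.Normal := ⟨fun n hn t => by
    rw [show t * n * t⁻¹ = n by rw [Subgroup.mem_center_iff.1 (hψZ hn) t, mul_inv_cancel_right]]
    exact hn⟩
  set M' := ψ.range.comap π with hM'
  haveI : M'.Normal := Subgroup.Normal.comap inferInstance π
  have hMM' : M ≤ M' := fun x hx => by
    show π x ∈ ψ.range
    rw [hπ, QuotientGroup.mk'_apply, (QuotientGroup.eq_one_iff x).2 hx]; exact one_mem _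
  have hyM' : ∀ t : G, ⁅y, t⁆ ∈ M' := fun t => ⟨π t, (map_commutatorElement π y t).symm⟩
  have hrange : Nat.card ψ.range = p ^ m := by
    rw [← Subgroup.index_ker ψ, ← hm, hD, index_Cm]
    congr 1
    ext t
    show ⁅π y, t⁆ = 1 ↔ _
    rw [mem_C1, commutatorElement_eq_one_iff_mul_comm, eq_comm]
  have hM'card : Nat.card M' ≤ p ^ (σ + m) := by
    rw [hM', card_comap_eq, hrange, pow_add]
    exact Nat.mul_le_mul_right _ hM
  have hlt : M'.index < k := by
    rw [hM', Subgroup.index_comap_of_surjective _ (QuotientGroup.mk'_surjective M), ← hk,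
      Subgroup.index_eq_card M, ← ψ.range.card_mul_index, hrange]
    have hpm : 1 < p ^ m := Nat.one_lt_pow (by omega) hp.out.one_lt
    have hpos : 0 < ψ.range.index := Nat.pos_of_ne_zero Subgroup.index_ne_zero_of_finite
    nlinarith
  set g' : G → ℕ := fun x => g x + (if x ∈ D then 0 else 1) with hg'
  have hg'q : ∀ x, (g' x : ℚ) = g x + (if x ∈ D then (0 : ℚ) else 1) := by
    intro x; simp only [hg']; split <;> simp
  have hDq : (Nat.card D : ℚ) * 2 ^ m ≤ Fintype.card G := by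
    have h := D.card_mul_index
    rw [hm, Nat.card_eq_fintype_card (α := G)] at h
    rw [← h]
    push_cast
    refine mul_le_mul_of_nonneg_left ?_ (Nat.cast_nonneg _)
    exact pow_le_pow_left₀ (by norm_num) (by exact_mod_cast hp.out.two_le) m
  have hsum' : ((b : ℚ) - u - R + (1 - 1 / 2 ^ m)) * Fintype.card G ≤ ∑ x, (g' x : ℚ) := by
    simp only [hg'q, Finset.sum_add_distrib]
    have h := sum_indicator D ⊤
    rw [Finset.filter_true_of_mem (fun x _ => Subgroup.mem_top x), top_inf_eq, Subgroup.card_top,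
      Nat.card_eq_fintype_card (α := G)] at h
    rw [h, add_mul]
    refine add_le_add hsum ?_
    have : (Nat.card D : ℚ) ≤ 1 / 2 ^ m * Fintype.card G := by
      rw [div_mul_eq_mul_div, one_mul, le_div_iff₀ (by positivity)]; exact hDq
    linarith
  have hsub' : ∀ H : Subgroup G, (∑ x ∈ Finset.univ.filter (· ∈ H), (g' x : ℚ)) * Fintype.card G ≤
      (∑ x, (g' x : ℚ)) * Nat.card H := by
    intro H
    simp only [hg'q, Finset.sum_add_distrib]
    have h := sum_indicator D ⊤
    rw [Finset.filter_true_of_mem (fun x _ => Subgroup.mem_top x), top_inf_eq, Subgroup.card_top,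
      Nat.card_eq_fintype_card (α := G)] at h
    rw [sum_indicator D H, h, add_mul, add_mul]
    refine add_le_add (hsub H) ?_
    have e : (Nat.card D : ℚ) * Nat.card H ≤ Nat.card (H ⊓ D : Subgroup G) * Fintype.card G := by
      have h1 := D.card_mul_index
      have h2 := ((H ⊓ D).subgroupOf H).card_mul_index
      rw [Nat.card_congr (Subgroup.subgroupOfEquivOfLe (inf_le_left : H ⊓ D ≤ H)).toEquiv] at h2
      change Nat.card (H ⊓ D : Subgroup G) * (H ⊓ D).relIndex H = Nat.card H at h2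
      rw [Subgroup.inf_relIndex_left] at h2
      have h3 : D.relIndex H ≤ D.index := by
        rw [← Subgroup.relIndex_top_right]
        exact Subgroup.relIndex_le_of_le_right le_top Subgroup.index_ne_zero_of_finite
      rw [← h2, ← Nat.card_eq_fintype_card, ← h1]
      push_cast
      have h3' : (D.relIndex H : ℚ) ≤ D.index := by exact_mod_cast h3
      calc (Nat.card D : ℚ) * (Nat.card (H ⊓ D : Subgroup G) * D.relIndex H)
          = (Nat.card D * Nat.card (H ⊓ D : Subgroup G)) * D.relIndex H := by ring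
        _ ≤ (Nat.card D * Nat.card (H ⊓ D : Subgroup G)) * D.index :=
            mul_le_mul_of_nonneg_left h3' (by positivity)
        _ = _ := by ring
    linarith
  have hgain' : ∀ x, p ^ g' x * (Cm M' x).index ≤ (C1 x).index := by
    intro x
    refine le_trans ?_ (hgain x)
    have hle : Cm M x ≤ Cm M' x := fun t ht => mem_Cm.2 (hMM' (mem_Cm.1 ht))
    simp only [hg']
    by_cases hx : x ∈ D
    · rw [if_pos hx, Nat.add_zero]
      exact Nat.mul_le_mul_left _ (Nat.le_of_dvd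
        (Nat.pos_of_ne_zero Subgroup.index_ne_zero_of_finite) (Subgroup.index_dvd_of_le hle))
    · rw [if_neg hx, pow_succ, mul_assoc]
      refine Nat.mul_le_mul_left _ ?_
      rw [← Subgroup.relIndex_mul_index hle]
      refine Nat.mul_le_mul_right _ ?_
      obtain ⟨j, hj⟩ := IsPGroup.index (hG.to_subgroup (Cm M' x)) ((Cm M x).subgroupOf (Cm M' x))
      change (Cm M x).relIndex (Cm M' x) = p ^ j at hj
      rw [hj]
      refine Nat.le_self_pow (fun h0 => hx ?_) p
      rw [h0, pow_zero, Subgroup.relIndex_eq_one] at hj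
      have hy : y ∈ Cm M' x := mem_Cm.2 (hyM' x)
      have hy' := mem_Cm.1 (hj hy)
      rw [hD, mem_Cm, ← commutatorElement_inv]
      exact inv_mem hy'
  obtain ⟨K, hK⟩ : ∃ K : ℕ, R + 1 / 2 ^ m = K / 2 ^ b := by
    refine ⟨N + 2 ^ (b - m), ?_⟩
    rw [hRN, Nat.cast_add, add_div, Nat.cast_pow, Nat.cast_ofNat]
    congr 1
    rw [div_eq_div_iff (by positivity) (by positivity), one_mul, ← pow_add, Nat.sub_add_cancel (by omega)]
  rcases step_arith hR0 hR1 hR hm1 hmu with ⟨hlt1, hnew⟩ | ⟨hge1, hQ, hnew⟩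
  · obtain ⟨v, rfl⟩ : ∃ v, u = v + 1 := ⟨u - 1, by omega⟩
    have hK1 : K < 2 ^ b := by
      rw [hK, div_lt_one (by positivity)] at hlt1
      exact_mod_cast hlt1
    refine IH _ hlt M' rfl g' (σ + m) v (Q + (v + 1 - m)) K (R + 1 / 2 ^ m) hM'card ?_
      (by omega) hK hK1 hnew ?_ hsub' hgain'
    · simp only [tri] at hinv
      omega
    · refine le_of_eq_of_le ?_ hsum'
      push_cast
      ring
  · have hK1 : 2 ^ b ≤ K := by
      rw [hK, le_div_iff₀ (by positivity), one_mul] at hge1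
      exact_mod_cast hge1
    have hK2 : R + 1 / 2 ^ m - 1 = ((K - 2 ^ b : ℕ) : ℚ) / 2 ^ b := by
      rw [hK, Nat.cast_sub hK1, Nat.cast_pow, Nat.cast_ofNat, sub_div,
        div_self (by positivity : (2 : ℚ) ^ b ≠ 0)]
    have hK3 : K - 2 ^ b < 2 ^ b := by
      have h : (1 : ℚ) / 2 ^ m ≤ 1 := div_le_one_of_le₀ (one_le_pow₀ (by norm_num)) (by positivity)
      have h' : (0 : ℚ) < 1 / 2 ^ b := by positivity
      have h2 : ((K - 2 ^ b : ℕ) : ℚ) / 2 ^ b < 1 := by rw [← hK2]; linarith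
      rw [div_lt_one (by positivity)] at h2
      exact_mod_cast h2
    refine IH _ hlt M' rfl g' (σ + m) u (Q + (u - m) - u) (K - 2 ^ b) (R + 1 / 2 ^ m - 1) hM'card ?_
      hub hK2 hK3 hnew ?_ hsub' hgain'
    · omega
    · refine le_of_eq_of_le ?_ hsum'
      ring

open scoped Classical in
/-- Vaughan-Lee's theorem. -/
theorem card_commutator_le [Finite G] {p b : ℕ} [Fact p.Prime] (hG : IsPGroup p G)
    (hb : ∀ x : G, (C1 x).index ≤ p ^ b) : Nat.card (commutator G) ≤ p ^ (b * (b + 1) / 2) := by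
  haveI := Fintype.ofFinite G
  rw [← tri_eq]
  refine main hG hb _ ⊥ rfl (fun _ => 0) 0 b 0 0 0 (by simp) (by simp) le_rfl (by simp) (by positivity)
    ?_ ?_ ?_ ?_
  · rw [pow_zero, pow_succ]; field_simp; norm_num
  · simp
  · intro H; simp
  · intro z
    rw [pow_zero, one_mul]
    refine Nat.le_of_dvd (Nat.pos_of_ne_zero Subgroup.index_ne_zero_of_finite)
      (Subgroup.index_dvd_of_le ?_)
    intro t ht
    rw [mem_Cm, Subgroup.mem_bot, commutatorElement_eq_one_iff_mul_comm]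
    exact mem_C1.1 ht

end Cfsg.Agent.Solv.Breadth
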