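import Mathlib.FieldTheory.Finite.Basic
import Mathlib.FieldTheory.Finite.Trace
import Mathlib.Algebra.CharP.Basic
import Mathlib.Algebra.Field.ZMod

/-!
# Small equivariant images of trilinear maps on a finite field

A triadditive map on a finite field `K` which is equivariant for multiplication by every unit, and
whose values, and whose one-variable sections, form sets smaller than `K`, vanishes.
-/

set_option autoImplicit false
set_option linter.unusedSectionVars false
set_option linter.style.haveILetI false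

namespace Cfsg.Agent.Solv.SmallImage

open Finset

variable {K : Type*} [Field K] [Fintype K] {p : ℕ} [hp : Fact p.Prime] [CharP K p] {f : ℕ}
  (hf : Fintype.card K = p ^ f)

include hf in
theorem f_pos : 1 ≤ f := by
  rcases Nat.eq_zero_or_pos f with rfl | h
  · have h1 := Fintype.one_lt_card (α := K)
    rw [hf, pow_zero] at h1
    omega
  · exact h

include hf in
/-- A proper subring containing all `j`th powers constrains `j`. -/
theorem proper_subring {R : Subring K} (hR : R ≠ ⊤) {j : ℕ} (hj : ∀ a : K, a ^ j ∈ R) :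
    ∃ e : ℕ, 1 ≤ e ∧ e * 2 ≤ f ∧ p ^ f - 1 ∣ j * (p ^ e - 1) := by
  classical
  have hinv : ∀ r ∈ R, r ≠ 0 → r⁻¹ ∈ R := by
    intro r hr hr0
    have hinj : Function.Injective fun x : R => (⟨r, hr⟩ : R) * x := fun x y h =>
      Subtype.ext (mul_left_cancel₀ hr0 (congrArg Subtype.val h))
    obtain ⟨x, hx⟩ := Finite.injective_iff_surjective.1 hinj 1
    have hx' : r * (x : K) = 1 := congrArg Subtype.val hx
    rw [inv_eq_of_mul_eq_one_right hx']
    exact x.2
  obtain ⟨t, ht⟩ : ∃ t, t ∉ R := by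
    by_contra h
    push Not at h
    exact hR (eq_top_iff.2 fun x _ => h x)
  have hinj : Function.Injective fun u : R × R => (u.1 : K) + u.2 * t := by
    rintro ⟨u, v⟩ ⟨u', v'⟩ h
    have h : (u : K) + v * t = u' + v' * t := h
    by_cases hv : (v : K) = v'
    · rw [hv, add_left_inj] at h
      exact Prod.ext (Subtype.ext h) (Subtype.ext hv)
    · refine absurd ?_ ht
      have hne : (v : K) - v' ≠ 0 := sub_ne_zero.2 hv
      have : t = ((u' : K) - u) * ((v : K) - v')⁻¹ := by
        field_simp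
        linear_combination h
      rw [this]
      exact R.mul_mem (R.sub_mem u'.2 u.2) (hinv _ (R.sub_mem v.2 v'.2) hne)
  have hle := Fintype.card_le_of_injective _ hinj
  rw [Fintype.card_prod, hf] at hle
  have hdvd : Fintype.card R ∣ p ^ f := by
    rw [← hf]
    have := R.toAddSubgroup.card_addSubgroup_dvd_card
    rw [Nat.card_eq_fintype_card, Nat.card_eq_fintype_card] at this
    exact this
  obtain ⟨e, -, he⟩ := (Nat.dvd_prime_pow hp.out).1 hdvd
  rw [he, ← pow_add] at hle
  have hle' := (Nat.pow_le_pow_iff_right hp.out.one_lt).1 hle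
  have h2 : 2 ≤ Fintype.card R := Fintype.one_lt_card
  refine ⟨e, ?_, by omega, ?_⟩
  · rcases Nat.eq_zero_or_pos e with rfl | h
    · simp at he; omega
    · exact h
  rw [← hf, ← FiniteField.forall_pow_eq_one_iff]
  intro x
  refine Units.ext ?_
  rw [Units.val_pow_eq_pow_val, pow_mul, Units.val_one, ← he]
  have hne : (⟨(x : K) ^ j, hj x⟩ : R) ≠ 0 := fun h => pow_ne_zero j x.ne_zero (congrArg Subtype.val h)
  let _ : Field R := Fintype.fieldOfDomain R
  have := FiniteField.pow_card_sub_one_eq_one _ hne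
  simpa using congrArg Subtype.val this

include hf in
/-- The powers with exponent `1 + p ^ d` generate the field, unless `2 d = f`. -/
theorem gen_two {R : Subring K} {d : ℕ} (hd : d < f) (hd2 : 2 * d ≠ f)
    (hj : ∀ a : K, a ^ (1 + p ^ d) ∈ R) : R = ⊤ := by
  by_contra hR
  suffices key : ∀ d, 2 * d < f → (∀ a : K, a ^ (1 + p ^ d) ∈ R) → False by
    rcases Nat.lt_or_gt_of_ne hd2 with h | h
    · exact key d h hj
    · refine key (f - d) (by omega) fun a => ?_
      have := R.pow_mem (hj a) (p ^ (f - d))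
      rw [← pow_mul, add_mul, one_mul, ← pow_add, show d + (f - d) = f by omega, pow_add, ← hf,
        FiniteField.pow_card] at this
      rw [pow_add, pow_one, mul_comm]
      exact this
  intro d hd hj
  obtain ⟨e, he1, he2, hdvd⟩ := proper_subring hf hR hj
  have hY : 2 ≤ p ^ e := hp.out.two_le.trans (Nat.le_self_pow (by omega) p)
  have hX : 1 ≤ p ^ d := Nat.one_le_pow _ _ hp.out.pos
  have hlt : (1 + p ^ d) * (p ^ e - 1) < p ^ f - 1 := by
    obtain ⟨Y, hY'⟩ : ∃ Y, p ^ e = Y + 1 := ⟨p ^ e - 1, by omega⟩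
    rw [hY', Nat.add_sub_cancel]
    rcases Nat.lt_or_ge d e with h | h
    · have h1 : p ^ d + 1 ≤ Y + 1 := hY' ▸ Nat.pow_lt_pow_right hp.out.one_lt h
      have h2 : (Y + 1) * (Y + 1) ≤ p ^ f := by
        rw [← hY', ← pow_add]
        exact Nat.pow_le_pow_right hp.out.pos (by omega)
      have h3 : (1 + p ^ d) * Y ≤ (Y + 1) * Y := Nat.mul_le_mul_right _ (by omega)
      have h4 : (Y + 1) * (Y + 1) = (Y + 1) * Y + (Y + 1) := by ring
      omega
    · obtain ⟨X, hX'⟩ : ∃ X, p ^ d = X + 1 := ⟨p ^ d - 1, by omega⟩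
      have h1 : Y ≤ X := by
        have := Nat.pow_le_pow_right hp.out.pos h
        omega
      have h2 : (X + 1) * (X + 1) < p ^ f := by
        rw [← hX', ← pow_add]
        exact Nat.pow_lt_pow_right hp.out.one_lt (by omega)
      have h3 : (1 + p ^ d) * Y ≤ (1 + p ^ d) * X := Nat.mul_le_mul_left _ h1
      rw [hX'] at h3 ⊢
      have h4 : (1 + (X + 1)) * X + 1 = (X + 1) * (X + 1) := by ring
      omega
  have hpos : 0 < (1 + p ^ d) * (p ^ e - 1) := Nat.mul_pos (by omega) (by omega)
  exact absurd (Nat.le_of_dvd hpos hdvd) (by omega)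

include hf in
/-- The powers with exponent `1 + q + p ^ d` generate the field, where `q ^ 2` is the order. -/
theorem gen_three {R : Subring K} {n d : ℕ} (hn : 2 * n = f) (hd : d < f)
    (hj : ∀ a : K, a ^ (1 + p ^ n + p ^ d) ∈ R) : R = ⊤ := by
  by_contra hR
  suffices key : ∀ d, d < n → (∀ a : K, a ^ (1 + p ^ n + p ^ d) ∈ R) → False by
    rcases Nat.lt_or_ge d n with h | h
    · exact key d h hj
    · refine key (d - n) (by omega) fun a => ?_
      have := R.pow_mem (hj a) (p ^ n)
      rw [← pow_mul, add_mul, add_mul, one_mul, ← pow_add, ← pow_add, show n + n = f by omega,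
        show d + n = f + (d - n) by omega, pow_add p f, pow_add, pow_add, pow_mul, ← hf,
        FiniteField.pow_card] at this
      rw [pow_add, pow_add, pow_one, mul_comm a (a ^ p ^ n)]
      exact this
  intro d hd hj
  obtain ⟨e, he1, he2, hdvd⟩ := proper_subring hf hR hj
  have hX : p ^ d * 2 ≤ p ^ n := calc
    p ^ d * 2 ≤ p ^ d * p := Nat.mul_le_mul_left _ hp.out.two_le
    _ = p ^ (d + 1) := (pow_succ _ _).symm
    _ ≤ p ^ n := Nat.pow_le_pow_right hp.out.pos (by omega)
  have hX1 : 1 ≤ p ^ d := Nat.one_le_pow _ _ hp.out.pos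
  have hY : 2 ≤ p ^ e := hp.out.two_le.trans (Nat.le_self_pow (by omega) p)
  have hm : p ^ f = p ^ n * p ^ n := by rw [← pow_add]; congr 1; omega
  rw [hm] at hdvd
  obtain ⟨Q, hQ⟩ : ∃ Q, p ^ n = Q + 1 := ⟨p ^ n - 1, by omega⟩
  obtain ⟨Y, hY'⟩ : ∃ Y, p ^ e = Y + 1 := ⟨p ^ e - 1, by omega⟩
  rw [hY', Nat.add_sub_cancel, hQ] at hdvd
  rw [hQ] at hX
  have hQQ : (Q + 1) * (Q + 1) - 1 = Q * Q + 2 * Q := by
    rw [show (Q + 1) * (Q + 1) = Q * Q + 2 * Q + 1 by ring]; omega
  rw [hQQ] at hdvd
  have hQ1 : 1 ≤ Q := by omega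
  rcases Nat.lt_or_ge e n with he | he
  · have hYQ : (Y + 1) * 2 ≤ Q + 1 := by
      rw [← hY', ← hQ]
      calc p ^ e * 2 ≤ p ^ e * p := Nat.mul_le_mul_left _ hp.out.two_le
        _ = p ^ (e + 1) := (pow_succ _ _).symm
        _ ≤ p ^ n := Nat.pow_le_pow_right hp.out.pos he
    have := Nat.le_of_dvd (Nat.mul_pos (by omega) (by omega)) hdvd
    nlinarith [Nat.mul_le_mul_left (1 + (Q + 1) + p ^ d) hYQ, Nat.mul_le_mul_left Q hX, hX1, hQ1]
  · have heq : e = n := by omega
    subst heq
    have hYQ : Y = Q := by omega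
    subst hYQ
    obtain ⟨k, hk⟩ := hdvd
    have h1 : (1 + (Y + 1) + p ^ d) * Y = Y * Y + 2 * Y + p ^ d * Y := by ring
    rw [h1] at hk
    have h2 : p ^ d * Y < Y * Y + 2 * Y := by nlinarith
    have h3 : 0 < p ^ d * Y := Nat.mul_pos (by omega) (by omega)
    rcases k with _ | _ | k
    · rw [mul_zero] at hk; omega
    · rw [zero_add, mul_one] at hk; omega
    · have : (Y * Y + 2 * Y) * 2 ≤ (Y * Y + 2 * Y) * (k + 1 + 1) := Nat.mul_le_mul_left _ (by omega)
      omega

/-! ### The coefficient maps -/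

variable {W : Type*} [AddCommGroup W]

omit [CharP K p] in
theorem sum_units_eq [DecidableEq K] (g : K → K) (hg : g 0 = 0) :
    ∑ y : K, g y = ∑ u : Kˣ, g (u : K) := by
  symm
  refine Finset.sum_bij_ne_zero (fun u _ _ => (u : K)) (fun _ _ _ => Finset.mem_univ _)
    (fun _ _ _ _ _ _ h => Units.ext h) (fun y _ hy => ?_) (fun _ _ _ => rfl)
  have hy0 : y ≠ 0 := fun h => hy (h ▸ hg)
  exact ⟨Units.mk0 y hy0, Finset.mem_univ _, hy, rfl⟩

include hf in
theorem sum_key {d : ℕ} (hd : d < f) :
    ∑ y : K, (y⁻¹) ^ p ^ d * y = if d = 0 then -1 else 0 := by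
  classical
  have hpd : 1 ≤ p ^ d := Nat.one_le_pow _ _ hp.out.pos
  rw [sum_units_eq _ (by simp [zero_pow (by omega : p ^ d ≠ 0)])]
  have h1 : ∀ u : Kˣ, ((u : K)⁻¹) ^ p ^ d * (u : K) = (((u⁻¹ : Kˣ) : K)) ^ (p ^ d - 1) := by
    intro u
    rw [Units.val_inv_eq_inv_val]
    conv_lhs => rw [show p ^ d = p ^ d - 1 + 1 by omega, pow_succ, mul_assoc,
      inv_mul_cancel₀ u.ne_zero, mul_one]
  rw [Finset.sum_congr rfl fun u _ => h1 u,
    Fintype.sum_equiv (Equiv.inv Kˣ) (fun u => (((u⁻¹ : Kˣ) : K)) ^ (p ^ d - 1))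
      (fun u => (u : K) ^ (p ^ d - 1)) (fun u => rfl)]
  rw [FiniteField.sum_pow_units, hf]
  refine if_congr ⟨fun h => ?_, fun h => by simp [h]⟩ rfl rfl
  by_contra hne
  have h2 : 2 ≤ p ^ d := hp.out.two_le.trans (Nat.le_self_pow hne p)
  have := Nat.le_of_dvd (by omega) h
  have := Nat.pow_lt_pow_right hp.out.one_lt hd
  omega

include hf in
theorem tau_natCast (u : K) : ∃ k : ℕ, ∑ d ∈ Finset.range f, u ^ p ^ d = (k : K) := by
  let _ := ZMod.algebra K p
  have h := FiniteField.algebraMap_trace_eq_sum_pow (ZMod p) K u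
  have hrank : Module.finrank (ZMod p) K = f := by
    have h1 := Module.card_eq_pow_finrank (K := ZMod p) (V := K)
    rw [hf, ZMod.card] at h1
    exact (Nat.pow_right_injective hp.out.two_le h1).symm
  rw [hrank, Nat.card_zmod] at h
  refine ⟨(Algebra.trace (ZMod p) K u).val, ?_⟩
  rw [← h]
  conv_lhs => rw [← ZMod.natCast_zmod_val (Algebra.trace (ZMod p) K u), map_natCast]

variable (p) in
/-- The coefficient of `x * y ^ (p ^ d)` in a biadditive map. -/
noncomputable def coef (B : K →+ K →+ W) (d : ℕ) : K →+ W where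
  toFun z := ∑ y : K, B (-(z * (y⁻¹) ^ p ^ d)) y
  map_zero' := by simp
  map_add' z z' := by
    rw [← Finset.sum_add_distrib]
    refine Finset.sum_congr rfl fun y _ => ?_
    rw [add_mul, neg_add, map_add, AddMonoidHom.add_apply]

theorem coef_mem (B : K →+ K →+ W) (S : AddSubgroup W) (hS : ∀ x y, B x y ∈ S) (d : ℕ) (z : K) :
    coef p B d z ∈ S := S.sum_mem fun _ _ => hS _ _

include hf in
/-- A biadditive map is the sum of its coefficient maps. -/
theorem recon (B : K →+ K →+ W) (x w : K) :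
    B x w = ∑ d ∈ Finset.range f, coef p B d (x * w ^ p ^ d) := by
  have hkey : ∑ y : K, (∑ d ∈ Finset.range f, (w * y⁻¹) ^ p ^ d) * y = -w := by
    simp only [Finset.sum_mul, mul_pow, mul_assoc]
    rw [Finset.sum_comm]
    simp only [← Finset.mul_sum]
    rw [Finset.sum_congr rfl fun d hd => by rw [sum_key hf (Finset.mem_range.1 hd)]]
    simp [Nat.pos_of_ne_zero (Nat.one_le_iff_ne_zero.1 (f_pos hf))]
  symm
  calc ∑ d ∈ Finset.range f, coef p B d (x * w ^ p ^ d)
      = ∑ y : K, B (-(x * ∑ d ∈ Finset.range f, (w * y⁻¹) ^ p ^ d)) y := by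
        show ∑ d ∈ Finset.range f, ∑ y : K, B (-(x * w ^ p ^ d * (y⁻¹) ^ p ^ d)) y = _
        rw [Finset.sum_comm]
        refine Finset.sum_congr rfl fun y _ => ?_
        rw [Finset.mul_sum, ← Finset.sum_neg_distrib, map_sum, AddMonoidHom.finsetSum_apply]
        simp only [mul_pow, mul_assoc]
    _ = ∑ y : K, B (-x) ((∑ d ∈ Finset.range f, (w * y⁻¹) ^ p ^ d) * y) := by
        refine Finset.sum_congr rfl fun y _ => ?_
        obtain ⟨k, hk⟩ := tau_natCast hf (w * y⁻¹)
        rw [hk, ← nsmul_eq_mul, show -(x * (k : K)) = k • (-x) by rw [nsmul_eq_mul]; ring, map_nsmul,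
          AddMonoidHom.nsmul_apply, map_nsmul]
    _ = B x w := by
        rw [← map_sum, hkey, map_neg, map_neg, AddMonoidHom.neg_apply, neg_neg]

theorem coef_equi (B : K →+ K →+ W) {a : K} (ha : a ≠ 0) {i : ℕ} (s : W →+ W)
    (hs : ∀ x y, B (a ^ i * x) (a * y) = s (B x y)) (d : ℕ) (z : K) :
    coef p B d (a ^ (i + p ^ d) * z) = s (coef p B d z) := by
  show ∑ y : K, B (-(a ^ (i + p ^ d) * z * (y⁻¹) ^ p ^ d)) y = s (∑ y : K, _)
  rw [map_sum]
  symm
  refine Fintype.sum_equiv (Equiv.mulLeft₀ a ha) _ _ fun y => ?_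
  show s (B (-(z * (y⁻¹) ^ p ^ d)) y) = B (-(a ^ (i + p ^ d) * z * ((a * y)⁻¹) ^ p ^ d)) (a * y)
  rw [← hs, mul_neg]
  congr 3
  rw [mul_inv, mul_pow, inv_pow a, pow_add]
  field_simp

omit [CharP K p] hp in
/-- An equivariant map with small image vanishes. -/
theorem hom_zero (h : K →+ W) {j : ℕ} (hj : 0 < j)
    (hgen : ∀ R : Subring K, (∀ a : K, a ^ j ∈ R) → R = ⊤)
    (hequi : ∀ a : K, a ≠ 0 → ∃ s : W →+ W, ∀ z, h (a ^ j * z) = s (h z))
    (S : AddSubgroup W) (hS : ∀ z, h z ∈ S) [Finite S] (hcard : Nat.card S < Fintype.card K) :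
    h = 0 := by
  let R : Subring K :=
    { carrier := {k | ∀ z, h z = 0 → h (k * z) = 0}
      one_mem' := fun z hz => by rwa [one_mul]
      mul_mem' := fun {a b} ha hb z hz => by rw [mul_assoc]; exact ha _ (hb z hz)
      zero_mem' := fun z _ => by rw [zero_mul, map_zero]
      add_mem' := fun {a b} ha hb z hz => by rw [add_mul, map_add, ha z hz, hb z hz, add_zero]
      neg_mem' := fun {a} ha z hz => by rw [neg_mul, map_neg, ha z hz, neg_zero] }
  have hR : R = ⊤ := hgen R fun a z hz => by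
    rcases eq_or_ne a 0 with rfl | ha
    · rw [zero_pow hj.ne', zero_mul, map_zero]
    · obtain ⟨s, hs⟩ := hequi a ha
      rw [hs, hz, map_zero]
  obtain ⟨z, w, hzw, hne⟩ : ∃ z w, h z = h w ∧ z ≠ w := by
    by_contra hcon
    push Not at hcon
    have hinj : Function.Injective fun z : K => (⟨h z, hS z⟩ : S) := fun a b e =>
      hcon a b (congrArg Subtype.val e)
    have := Nat.card_le_card_of_injective _ hinj
    rw [Nat.card_eq_fintype_card] at this
    omega
  have hk : h (z - w) = 0 := by rw [map_sub, hzw, sub_self]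
  refine AddMonoidHom.ext fun x => ?_
  have hx : x * (z - w)⁻¹ ∈ R := hR ▸ Subring.mem_top _
  have := hx _ hk
  rwa [inv_mul_cancel_right₀ (sub_ne_zero.2 hne)] at this

include hf in
/-- **The vanishing theorem.** -/
theorem trilinear_zero [Finite W] (T : K →+ K →+ K →+ W)
    (hequi : ∀ a : K, a ≠ 0 → ∃ s : W →+ W, ∀ x y z, T (a * x) (a * y) (a * z) = s (T x y z))
    (S : AddSubgroup W) (hS : ∀ x y z, T x y z ∈ S) (hS' : Nat.card S < Fintype.card K)
    (U : AddSubgroup (K →+ W)) (hU : ∀ x y, T x y ∈ U) (hU' : Nat.card U < Fintype.card K) :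
    T = 0 := by
  haveI : Finite (K →+ W) := Finite.of_injective (fun g : K →+ W => (g : K → W)) DFunLike.coe_injective
  haveI : Finite U := inferInstance
  have hfirst : ∀ d < f, 2 * d ≠ f → coef p T d = 0 := by
    intro d hd hd2
    refine hom_zero _ (j := 1 + p ^ d) (by omega) (fun R => gen_two hf hd hd2) (fun a ha => ?_)
      U (coef_mem T U hU d) hU'
    obtain ⟨s, hs⟩ := hequi a ha
    let s' : (K →+ W) →+ (K →+ W) :=
      { toFun := fun φ => s.comp (φ.comp (AddMonoidHom.mulLeft a⁻¹))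
        map_zero' := by ext; simp
        map_add' := fun φ ψ => by ext; simp }
    refine ⟨s', coef_equi T ha s' (fun x y => ?_) d⟩
    refine AddMonoidHom.ext fun z => ?_
    rw [pow_one]
    show T (a * x) (a * y) z = s (T x y (a⁻¹ * z))
    rw [← hs, mul_inv_cancel_left₀ ha]
  by_cases hn : ∃ n, 2 * n = f
  swap
  · refine AddMonoidHom.ext fun x => AddMonoidHom.ext fun y => ?_
    rw [recon hf T x y, AddMonoidHom.zero_apply, AddMonoidHom.zero_apply]
    exact Finset.sum_eq_zero fun d hd => by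
      rw [hfirst d (Finset.mem_range.1 hd) fun h => hn ⟨d, h⟩, AddMonoidHom.zero_apply]
  obtain ⟨n, hn⟩ := hn
  set H : K →+ K →+ W := coef p T n with hH
  have hT : ∀ x y, T x y = H (x * y ^ p ^ n) := by
    intro x y
    rw [recon hf T x y, Finset.sum_eq_single_of_mem n (Finset.mem_range.2 (by have := f_pos hf; omega))]
    intro d hd hdn
    rw [hfirst d (Finset.mem_range.1 hd) (by omega), AddMonoidHom.zero_apply]
  have hH0 : H = 0 := by
    have hsecond : ∀ d < f, coef p H d = 0 := by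
      intro d hd
      refine hom_zero _ (j := 1 + p ^ n + p ^ d) (by omega) (fun R => gen_three hf hn hd) (fun a ha => ?_)
        S (coef_mem H S ?_ d) hS'
      · obtain ⟨s, hs⟩ := hequi a ha
        refine ⟨s, coef_equi H ha s (fun u z => ?_) d⟩
        have he := coef_equi (p := p) T ha
          ({ toFun := fun φ => s.comp (φ.comp (AddMonoidHom.mulLeft a⁻¹))
             map_zero' := by ext; simp
             map_add' := fun φ ψ => by ext; simp } : (K →+ W) →+ (K →+ W))
          (i := 1) (fun x y => by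
            refine AddMonoidHom.ext fun z => ?_
            rw [pow_one]
            show T (a * x) (a * y) z = s (T x y (a⁻¹ * z))
            rw [← hs, mul_inv_cancel_left₀ ha]) n u
        rw [← hH] at he
        rw [he]
        show s (H u (a⁻¹ * (a * z))) = _
        rw [inv_mul_cancel_left₀ ha]
      · intro u z
        show (∑ y : K, T (-(u * (y⁻¹) ^ p ^ n)) y) z ∈ S
        rw [AddMonoidHom.finsetSum_apply]
        exact S.sum_mem fun _ _ => hS _ _ _
    refine AddMonoidHom.ext fun u => AddMonoidHom.ext fun z => ?_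
    rw [recon hf H u z]
    exact Finset.sum_eq_zero fun d hd => by rw [hsecond d (Finset.mem_range.1 hd), AddMonoidHom.zero_apply]
  refine AddMonoidHom.ext fun x => AddMonoidHom.ext fun y => ?_
  rw [hT, hH0]
  simp

end Cfsg.Agent.Solv.SmallImage
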