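import Cfsg.Agent.Lib.Solv.CaminaPair
import Cfsg.Agent.Lib.Solv.CaminaField
import Mathlib.GroupTheory.Abelianization.Defs
import Mathlib.Algebra.Ring.Subring.Basic

/-!
# Camina `p`-groups with a transitive abelian group of automorphisms have class at most two

If `(P, P')` is a Camina pair and a set of automorphisms commuting modulo `P'` is transitive on the
nontrivial elements of `P/P'`, then `[P', P] = 1`.
-/

set_option autoImplicit false
set_option linter.unusedSectionVars false
set_option linter.style.haveILetI false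

open scoped commutatorElement

namespace Cfsg.Agent.Solv.CaminaTwo

open Cfsg.Agent.Solv.Camina

universe u

variable {P : Type u} [Group P] [Finite P] {p : ℕ} [hp : Fact p.Prime]

/-- A central subgroup inside `P'` is small. -/
theorem central_bound (hP : IsPGroup p P) (hc : Pair (commutator P)) {R : Subgroup P}
    (hR : R ≤ Subgroup.center P) (hRD : R ≤ commutator P) {a : P} (ha : a ∉ commutator P) :
    p * Nat.card R ≤ (commutator P).index := by
  set E : Subgroup P := R ⊔ Subgroup.zpowers a with hE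
  have hEC : E ≤ Subgroup.centralizer ({a} : Set P) := by
    refine sup_le (fun x hx => ?_) ((Subgroup.zpowers_le).2 (Subgroup.mem_centralizer_singleton_iff.2 rfl))
    exact Subgroup.mem_centralizer_singleton_iff.2 ((Subgroup.mem_center_iff.1 (hR hx) a).symm)
  have hlt : R < E := lt_of_le_of_ne le_sup_left fun h => ha (hRD (h ▸
    (show a ∈ E from (le_sup_right : Subgroup.zpowers a ≤ E) (Subgroup.mem_zpowers a))))
  obtain ⟨r, hr⟩ := IsPGroup.iff_card.mp (hP.to_subgroup R)
  obtain ⟨e, he⟩ := IsPGroup.iff_card.mp (hP.to_subgroup E)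
  have hcard : Nat.card R < Nat.card E := by
    refine lt_of_le_of_ne (Subgroup.card_le_of_le hlt.le) fun h => ?_
    exact hlt.ne (Subgroup.eq_of_le_of_card_ge hlt.le h.ge)
  rw [hr, he] at hcard
  have hre : r < e := (Nat.pow_lt_pow_iff_right hp.out.one_lt).1 hcard
  calc p * Nat.card R = p ^ (r + 1) := by rw [hr, pow_succ, mul_comm]
    _ ≤ Nat.card E := he ▸ Nat.pow_le_pow_right hp.out.pos hre
    _ ≤ Nat.card (Subgroup.centralizer ({a} : Set P)) := Subgroup.card_le_of_le hEC
    _ ≤ Nat.card (P ⧸ commutator P) := by rw [card_centralizer hc ha]; exact Subgroup.card_le_card_group _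
    _ = _ := (Subgroup.index_eq_card _).symm

/-- The case in which `[P', P]` is central. -/
theorem core (hP : IsPGroup p P) (hc : Pair (commutator P)) (hexp : ∀ a : P, a ^ p ∈ commutator P)
    (Φ : Set (MulAut P))
    (htrans : ∀ a b : P, a ∉ commutator P → b ∉ commutator P → ∃ φ ∈ Φ, (φ a)⁻¹ * b ∈ commutator P)
    (hcomm : ∀ φ ∈ Φ, ∀ ψ ∈ Φ, ∀ a : P, (φ (ψ a))⁻¹ * ψ (φ a) ∈ commutator P)
    (hD2 : ⁅commutator P, (⊤ : Subgroup P)⁆ ≤ Subgroup.center P) :
    ⁅commutator P, (⊤ : Subgroup P)⁆ = ⊥ := by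
  classical
  by_cases hex : ∀ a : P, a ∈ commutator P
  · -- then the group is trivial
    haveI := hP.isNilpotent
    rcases subsingleton_or_nontrivial P with hs | hs
    · exact Subsingleton.elim _ _
    · exact absurd (eq_top_iff.2 fun x _ => hex x) (Group.IsSolvable.commutator_lt_top_of_nontrivial P).ne
  push Not at hex
  obtain ⟨a0, ha0⟩ := hex
  set D := commutator P with hD
  set D2 := ⁅D, (⊤ : Subgroup P)⁆ with hD2def
  have hD2D : D2 ≤ D := Subgroup.commutator_le_left _ _
  let of' : P →* Abelianization P := Abelianization.of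
  have hofsurj : Function.Surjective of' := QuotientGroup.mk_surjective
  have hof1 : ∀ a : P, of' a = 1 ↔ a ∈ D := fun a => QuotientGroup.eq_one_iff a
  let ρ : MulAut P → AddMonoid.End (Additive (Abelianization P)) :=
    fun φ => MonoidHom.toAdditive (Abelianization.map φ.toMonoidHom)
  have hρ : ∀ (φ : MulAut P) (a : P), ρ φ (Additive.ofMul (of' a)) = Additive.ofMul (of' (φ a)) :=
    fun φ a => rfl
  haveI : Finite (AddMonoid.End (Additive (Abelianization P))) := Finite.of_injective
    (fun g : AddMonoid.End (Additive (Abelianization P)) =>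
      (g : Additive (Abelianization P) → Additive (Abelianization P))) DFunLike.coe_injective
  set K := Subring.centralizer (ρ '' Φ) with hK
  set v0 : Additive (Abelianization P) := Additive.ofMul (of' a0) with hv0
  have hv0ne : v0 ≠ 0 := fun h => ha0 ((hof1 a0).1 h)
  have hsur : ∀ v : Additive (Abelianization P), ∃ a, Additive.ofMul (of' a) = v := fun v => hofsurj _
  have hmemK : ∀ φ ∈ Φ, ρ φ ∈ K := by
    intro φ hφ
    rw [hK, Subring.mem_centralizer_iff]
    rintro _ ⟨ψ, hψ, rfl⟩
    refine DFunLike.ext _ _ fun v => ?_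
    obtain ⟨a, rfl⟩ := hsur v
    show ρ ψ (ρ φ (Additive.ofMul (of' a))) = ρ φ (ρ ψ (Additive.ofMul (of' a)))
    rw [hρ, hρ, hρ, hρ]
    refine congrArg Additive.ofMul ?_
    rw [← inv_mul_eq_one, ← map_inv, ← map_mul, hof1]
    exact hcomm ψ hψ φ hφ a
  have horb : ∀ v : Additive (Abelianization P), v ≠ 0 → ∃ φ ∈ Φ, ρ φ v0 = v := by
    intro v hv
    obtain ⟨b, rfl⟩ := hsur v
    obtain ⟨φ, hφ, h⟩ := htrans a0 b ha0 (fun hb => hv ((hof1 b).2 hb))
    refine ⟨φ, hφ, congrArg Additive.ofMul ?_⟩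
    show of' (φ a0) = of' b
    rw [← inv_mul_eq_one, ← map_inv, ← map_mul, hof1]
    exact h
  have hcm : ∀ g ∈ K, ∀ φ ∈ Φ, ∀ v, g (ρ φ v) = ρ φ (g v) := fun g hg φ hφ v =>
    (DFunLike.congr_fun (Subring.mem_centralizer_iff.1 hg _ ⟨φ, hφ, rfl⟩) v).symm
  have hdet : ∀ g ∈ K, ∀ g' ∈ K, g v0 = g' v0 → g = g' := by
    intro g hg g' hg' h
    refine DFunLike.ext g g' fun v => ?_
    rcases eq_or_ne v 0 with rfl | hv
    · exact (map_zero g).trans (map_zero g').symm
    obtain ⟨φ, hφ, rfl⟩ := horb v hv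
    rw [hcm g hg φ hφ, hcm g' hg' φ hφ, h]
  have hform : ∀ g ∈ K, g ≠ 0 → ∃ φ ∈ Φ, g = ρ φ := by
    intro g hg hne
    obtain ⟨φ, hφ, h⟩ := horb (g v0) (fun h0 => hne (hdet g hg 0 K.zero_mem h0))
    exact ⟨φ, hφ, hdet g hg _ (hmemK φ hφ) h.symm⟩
  have hinjρ : ∀ φ : MulAut P, Function.Injective (ρ φ) := fun φ => by
    refine Function.LeftInverse.injective (g := ρ φ⁻¹) fun v => ?_
    obtain ⟨a, rfl⟩ := hsur v
    rw [hρ, hρ, MulAut.inv_apply_self]
  letI : CommRing K :=
    { (inferInstance : Ring K) with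
      mul_comm := fun g g' => by
        apply Subtype.ext
        show (g : AddMonoid.End (Additive (Abelianization P))) * g' = g' * g
        rcases eq_or_ne (g' : AddMonoid.End (Additive (Abelianization P))) 0 with h | h
        · rw [h, mul_zero, zero_mul]
        obtain ⟨φ, hφ, e⟩ := hform _ g'.2 h
        rw [e]
        exact (Subring.mem_centralizer_iff.1 g.2 _ ⟨φ, hφ, rfl⟩).symm }
  haveI : Nontrivial K := ⟨⟨1, 0, fun h => hv0ne (DFunLike.congr_fun (congrArg Subtype.val h) v0)⟩⟩
  haveI : NoZeroDivisors K := ⟨fun {g g'} h => by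
    by_contra hcon
    push Not at hcon
    obtain ⟨φ, hφ, e⟩ := hform _ g.2 fun h0 => hcon.1 (Subtype.ext h0)
    refine hcon.2 (Subtype.ext (DFunLike.ext _ _ fun v => hinjρ φ ?_))
    have := DFunLike.congr_fun (congrArg Subtype.val h) v
    show ρ φ ((g' : AddMonoid.End (Additive (Abelianization P))) v) = ρ φ 0
    rw [map_zero, ← e]
    exact this⟩
  haveI : IsDomain K := NoZeroDivisors.to_isDomain K
  letI : Fintype K := Fintype.ofFinite K
  letI : Field K := Fintype.fieldOfDomain K
  -- evaluation at the base point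
  let e : K →+ Additive (Abelianization P) :=
    { toFun := fun g => (g : AddMonoid.End (Additive (Abelianization P))) v0
      map_zero' := rfl
      map_add' := fun g g' => rfl }
  have heinj : Function.Injective e := fun g g' h => Subtype.ext (hdet _ g.2 _ g'.2 h)
  have hesurj : Function.Surjective e := by
    intro v
    rcases eq_or_ne v 0 with rfl | hv
    · exact ⟨0, map_zero e⟩
    obtain ⟨φ, hφ, h⟩ := horb v hv
    exact ⟨⟨ρ φ, hmemK φ hφ⟩, h⟩
  have hcardK : Fintype.card K = D.index := by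
    rw [← Nat.card_eq_fintype_card, Nat.card_eq_of_bijective e ⟨heinj, hesurj⟩, Subgroup.index_eq_card]
    rfl
  haveI : CharP K p := by
    refine (CharP.charP_iff_prime_eq_zero hp.out).2 (heinj ?_)
    rw [map_zero, show (p : K) = p • (1 : K) from (nsmul_one p).symm, map_nsmul]
    obtain ⟨a, ha⟩ := hsur (e 1)
    rw [← ha, ← ofMul_pow, ← map_pow, (hof1 _).2 (hexp a)]
    rfl
  obtain ⟨n, -, hf⟩ := FiniteField.card K p
  -- the commutator maps
  set Z := Subgroup.center P with hZ
  letI : CommGroup Z :=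
    { (inferInstance : Group Z) with
      mul_comm := fun a b => Subtype.ext (Subgroup.mem_center_iff.1 b.2 (a : P)) }
  have hcd : ∀ d ∈ D, ∀ z : P, ⁅d, z⁆ ∈ Z := fun d hd z =>
    hD2 (Subgroup.commutator_mem_commutator hd (Subgroup.mem_top z))
  let γ0 : D → (P →* Z) := fun d => MonoidHom.mk' (fun z => ⟨⁅(d : P), z⁆, hcd d d.2 z⟩) fun z w =>
    Subtype.ext (by
      show ⁅(d : P), z * w⁆ = ⁅(d : P), z⁆ * ⁅(d : P), w⁆
      have h1 : ⁅(d : P), z * w⁆ = ⁅(d : P), z⁆ * (z * ⁅(d : P), w⁆ * z⁻¹) := by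
        simp only [commutatorElement_def]; group
      rw [h1, Subgroup.mem_center_iff.1 (hcd d d.2 w) z, mul_inv_cancel_right])
  let γ : D →* (Abelianization P →* Z) := MonoidHom.mk' (fun d => Abelianization.lift (γ0 d)) fun d d' => by
    refine Abelianization.hom_ext _ _ (MonoidHom.ext fun z => Subtype.ext ?_)
    show ⁅(d : P) * d', z⁆ = ⁅(d : P), z⁆ * ⁅(d' : P), z⁆
    have h1 : ⁅(d : P) * d', z⁆ = ((d : P) * ⁅(d' : P), z⁆ * (d : P)⁻¹) * ⁅(d : P), z⁆ := by
      simp only [commutatorElement_def]; group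
    rw [h1, Subgroup.mem_center_iff.1 (hcd d' d'.2 z) d, mul_inv_cancel_right]
    exact (Subgroup.mem_center_iff.1 (hcd d' d'.2 z) _).symm
  have hγker : ∀ d : D, (d : P) ∈ D2 → γ d = 1 := fun d hd =>
    Abelianization.hom_ext _ _ (MonoidHom.ext fun z => Subtype.ext (show ⁅(d : P), z⁆ = 1 from
      commutatorElement_eq_one_iff_mul_comm.2 (Subgroup.mem_center_iff.1 (hD2 hd) z).symm))
  have hmem : ∀ x y : P, ⁅x, y⁆ ∈ D := fun x y =>
    Subgroup.commutator_mem_commutator (Subgroup.mem_top x) (Subgroup.mem_top y)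
  have hγconj : ∀ (x : P) (d : D) (hd' : x * d * x⁻¹ ∈ D), γ ⟨x * d * x⁻¹, hd'⟩ = γ d := by
    intro x d hd'
    have h2 : ⁅x, (d : P)⁆ ∈ D2 := by
      rw [hD2def, Subgroup.commutator_comm]
      exact Subgroup.commutator_mem_commutator (Subgroup.mem_top x) d.2
    have h3 : (⟨x * d * x⁻¹, hd'⟩ : D) = ⟨⁅x, (d : P)⁆, hD2D h2⟩ * d := Subtype.ext (by
      show x * d * x⁻¹ = ⁅x, (d : P)⁆ * d
      simp only [commutatorElement_def]; group)
    rw [h3, map_mul, hγker _ h2, one_mul]
  let β0 : P → (P →* (Abelianization P →* Z)) := fun x =>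
    MonoidHom.mk' (fun y => γ ⟨⁅x, y⁆, hmem x y⟩) fun y y' => by
      have h1 : (⟨⁅x, y * y'⁆, hmem _ _⟩ : D) = ⟨⁅x, y⁆, hmem _ _⟩ *
          ⟨y * ⁅x, y'⁆ * y⁻¹, (inferInstance : D.Normal).conj_mem _ (hmem x y') y⟩ := Subtype.ext (by
        show ⁅x, y * y'⁆ = ⁅x, y⁆ * (y * ⁅x, y'⁆ * y⁻¹)
        simp only [commutatorElement_def]; group)
      show γ ⟨⁅x, y * y'⁆, hmem _ _⟩ = _
      rw [h1, map_mul, hγconj y ⟨⁅x, y'⁆, hmem x y'⟩]
  let β : Abelianization P →* (Abelianization P →* (Abelianization P →* Z)) :=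
    Abelianization.lift (MonoidHom.mk' (fun x => Abelianization.lift (β0 x)) fun x x' => by
      refine Abelianization.hom_ext _ _ (MonoidHom.ext fun y => ?_)
      show γ ⟨⁅x * x', y⁆, hmem _ _⟩ = γ ⟨⁅x, y⁆, hmem _ _⟩ * γ ⟨⁅x', y⁆, hmem _ _⟩
      have h1 : (⟨⁅x * x', y⁆, hmem _ _⟩ : D) =
          ⟨x * ⁅x', y⁆ * x⁻¹, (inferInstance : D.Normal).conj_mem _ (hmem x' y) x⟩ * ⟨⁅x, y⁆, hmem _ _⟩ :=
        Subtype.ext (by
          show ⁅x * x', y⁆ = (x * ⁅x', y⁆ * x⁻¹) * ⁅x, y⁆
          simp only [commutatorElement_def]; group)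
      rw [h1, map_mul, hγconj x ⟨⁅x', y⁆, hmem x' y⟩, mul_comm])
  have hβ : ∀ x y z : P, ((β (of' x)) (of' y) (of' z) : P) = ⁅⁅x, y⁆, z⁆ := fun x y z => rfl
  let mk : Z → Additive Z := Additive.ofMul
  let em : K → Abelianization P := fun x => Additive.toMul (e x)
  have hem : ∀ x y, em (x + y) = em x * em y := fun x y => congrArg Additive.toMul (map_add e x y)
  let T : K →+ K →+ K →+ Additive Z := AddMonoidHom.mk' (fun x => AddMonoidHom.mk' (fun y =>
      AddMonoidHom.mk' (fun z => mk (β (em x) (em y) (em z)))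
        fun z z' => by simp only [mk, hem, map_mul, ofMul_mul])
      fun y y' => AddMonoidHom.ext fun z => by
        show mk (β (em x) (em (y + y')) (em z)) = mk (β (em x) (em y) (em z)) + mk (β (em x) (em y') (em z))
        simp only [mk, hem, map_mul, MonoidHom.mul_apply, ofMul_mul])
    fun x x' => AddMonoidHom.ext fun y => AddMonoidHom.ext fun z => by
      show mk (β (em (x + x')) (em y) (em z)) = mk (β (em x) (em y) (em z)) + mk (β (em x') (em y) (em z))
      simp only [mk, hem, map_mul, MonoidHom.mul_apply, ofMul_mul]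
  -- the two bounds
  set S : AddSubgroup (Additive Z) := (D2.subgroupOf Z).toAddSubgroup with hSdef
  have hS : ∀ x y z, T x y z ∈ S := by
    intro x y z
    obtain ⟨a, ha⟩ := hofsurj (em x)
    obtain ⟨b, hb⟩ := hofsurj (em y)
    obtain ⟨c, hc'⟩ := hofsurj (em z)
    show (β (em x) (em y) (em z) : P) ∈ D2
    rw [← ha, ← hb, ← hc', hβ]
    exact Subgroup.commutator_mem_commutator (hmem a b) (Subgroup.mem_top c)
  have hS' : Nat.card S < Fintype.card K := by
    have h1 : Nat.card S = Nat.card D2 := Nat.card_congr (Subgroup.subgroupOfEquivOfLe hD2).toEquiv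
    have h2 := central_bound hP hc hD2 hD2D ha0
    have h3 : 0 < Nat.card D2 := Nat.card_pos
    have h4 := hp.out.two_le
    rw [h1, hcardK]
    nlinarith
  let Γ : Additive D →+ (K →+ Additive Z) :=
    AddMonoidHom.mk' (fun d => AddMonoidHom.mk' (fun z => mk (γ d.toMul (em z)))
        fun z z' => by simp only [mk, hem, map_mul, ofMul_mul])
      fun d d' => AddMonoidHom.ext fun z => by
        show mk (γ (d + d').toMul (em z)) = mk (γ d.toMul (em z)) + mk (γ d'.toMul (em z))
        simp only [mk, toMul_add, map_mul, MonoidHom.mul_apply, ofMul_mul]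
  have hU : ∀ x y, T x y ∈ Γ.range := by
    intro x y
    obtain ⟨a, ha⟩ := hofsurj (em x)
    obtain ⟨b, hb⟩ := hofsurj (em y)
    refine ⟨Additive.ofMul ⟨⁅a, b⁆, hmem a b⟩, AddMonoidHom.ext fun z => ?_⟩
    show mk (γ ⟨⁅a, b⁆, hmem a b⟩ (em z)) = mk (β (em x) (em y) (em z))
    rw [← ha, ← hb]
    rfl
  have hU' : Nat.card Γ.range < Fintype.card K := by
    let π := QuotientGroup.mk' D2
    have hcq : commutator (P ⧸ D2) = D.map π := by
      show commutator (P ⧸ D2) = (commutator P).map π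
      rw [commutator_def, commutator_def, Subgroup.map_commutator,
        Subgroup.map_top_of_surjective _ (QuotientGroup.mk'_surjective D2)]
    have hbound := central_bound (hP.to_quotient D2) (hcq ▸ pair_map hc D2 hD2D) (R := D.map π)
      (by
        rintro _ ⟨d, hd, rfl⟩
        refine Subgroup.mem_center_iff.2 fun y => ?_
        induction y using QuotientGroup.induction_on with | H y =>
        refine (commutatorElement_eq_one_iff_mul_comm.1 ?_).symm
        rw [QuotientGroup.mk'_apply, ← QuotientGroup.mk'_apply, ← QuotientGroup.mk'_apply,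
          ← map_commutatorElement, QuotientGroup.mk'_apply, QuotientGroup.eq_one_iff]
        exact Subgroup.commutator_mem_commutator hd (Subgroup.mem_top y))
      hcq.ge (a := π a0) (by
        rw [hcq]
        rintro ⟨d, hd, hde⟩
        rw [QuotientGroup.mk'_apply, QuotientGroup.mk'_apply, QuotientGroup.eq] at hde
        exact ha0 (by simpa [mul_assoc] using D.mul_mem hd (hD2D hde)))
    rw [hcq, D.index_map_eq (QuotientGroup.mk'_surjective D2) (by rwa [QuotientGroup.ker_mk'])] at hbound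
    -- the range is a quotient of `D/D2`
    let g : D →* D.map π := π.subgroupMap D
    have hgs : Function.Surjective g := π.subgroupMap_surjective D
    have hle : Nat.card Γ.range ≤ Nat.card (D.map π) := by
      let F : D.map π → Γ.range := fun q => ⟨Γ (Additive.ofMul (Function.surjInv hgs q)), ⟨_, rfl⟩⟩
      refine Nat.card_le_card_of_surjective F ?_
      rintro ⟨_, d, rfl⟩
      refine ⟨g d.toMul, Subtype.ext ?_⟩
      set d' := Function.surjInv hgs (g d.toMul) with hd'
      have h1 : g d' = g d.toMul := Function.surjInv_eq hgs _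
      have h2 : ((d' : P)⁻¹ * (d.toMul : P)) ∈ D2 := QuotientGroup.eq.1 (congrArg Subtype.val h1)
      have h3 : γ (d'⁻¹ * d.toMul) = 1 := hγker _ h2
      rw [map_mul, map_inv, inv_mul_eq_one] at h3
      refine AddMonoidHom.ext fun z => ?_
      show mk (γ d' (em z)) = mk (γ d.toMul (em z))
      rw [h3]
    have h3 : 0 < Nat.card (D.map π) := Nat.card_pos
    have h4 := hp.out.two_le
    rw [hcardK]
    nlinarith
  have hequi : ∀ a : K, a ≠ 0 → ∃ s : Additive Z →+ Additive Z, ∀ x y z,
      T (a * x) (a * y) (a * z) = s (T x y z) := by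
    intro a ha
    obtain ⟨φ, -, he⟩ := hform _ a.2 fun h => ha (Subtype.ext h)
    let φZ : Z →* Z := (φ.toMonoidHom.comp Z.subtype).codRestrict Z fun w => by
      show φ (w : P) ∈ Z
      refine Subgroup.mem_center_iff.2 fun y => ?_
      obtain ⟨y, rfl⟩ := φ.surjective y
      rw [← map_mul, ← map_mul, Subgroup.mem_center_iff.1 w.2 y]
    refine ⟨MonoidHom.toAdditive φZ, fun x y z => ?_⟩
    have hmul : ∀ x : K, em (a * x) = Abelianization.map φ.toMonoidHom (em x) := by
      intro x
      show Additive.toMul ((a : AddMonoid.End (Additive (Abelianization P))) (e x)) = _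
      rw [he]
      rfl
    obtain ⟨x', hx⟩ := hofsurj (em x)
    obtain ⟨y', hy⟩ := hofsurj (em y)
    obtain ⟨z', hz⟩ := hofsurj (em z)
    refine congrArg Additive.ofMul (Subtype.ext ?_)
    show (β (em (a * x)) (em (a * y)) (em (a * z)) : P) = φ (β (em x) (em y) (em z) : P)
    rw [hmul, hmul, hmul, ← hx, ← hy, ← hz]
    show ⁅⁅φ x', φ y'⁆, φ z'⁆ = φ ⁅⁅x', y'⁆, z'⁆
    rw [map_commutatorElement, map_commutatorElement]
  have hT := SmallImage.trilinear_zero hf T hequi S hS hS' Γ.range hU hU'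
  have hxyz : ∀ x y z : P, ⁅⁅x, y⁆, z⁆ = 1 := by
    intro x y z
    obtain ⟨x', hx⟩ := hesurj (Additive.ofMul (of' x))
    obtain ⟨y', hy⟩ := hesurj (Additive.ofMul (of' y))
    obtain ⟨z', hz⟩ := hesurj (Additive.ofMul (of' z))
    have h1 : T x' y' z' = 0 := by rw [hT]; rfl
    have h2 : (β (em x') (em y') (em z') : P) = 1 := congrArg (fun w : Additive Z => ((w.toMul : Z) : P)) h1
    simp only [em, hx, hy, hz, toMul_ofMul] at h2
    rwa [hβ] at h2
  rw [eq_bot_iff, hD2def, Subgroup.commutator_le]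
  intro d hd z _
  have hle : D ≤ Subgroup.center P := by
    rw [hD, commutator_def, Subgroup.commutator_le]
    exact fun x _ y _ => Subgroup.mem_center_iff.2 fun w =>
      (commutatorElement_eq_one_iff_mul_comm.1 (hxyz x y w)).symm
  rw [Subgroup.mem_bot, commutatorElement_eq_one_iff_mul_comm]
  exact (Subgroup.mem_center_iff.1 (hle hd) z).symm

/-- In a nilpotent group a nontrivial normal subgroup exceeds its commutator with the group. -/
theorem eq_bot_of_commutator_eq [Group.IsNilpotent P] {H : Subgroup P} (h : H ≤ ⁅H, (⊤ : Subgroup P)⁆) :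
    H = ⊥ := by
  have hall : ∀ n, H ≤ Subgroup.lowerCentralSeries (⊤ : Subgroup P) n := by
    intro n
    induction n with
    | zero => exact le_top
    | succ n ih => exact h.trans (Subgroup.commutator_mono ih le_rfl)
  obtain ⟨n, hn⟩ := Subgroup.nilpotent_iff_lowerCentralSeries.1 (inferInstance : Group.IsNilpotent P)
  exact le_bot_iff.1 (hn ▸ hall n)

/-- **Class at most two.** -/
theorem class_two (hP : IsPGroup p P) (hc : Pair (commutator P)) (hexp : ∀ a : P, a ^ p ∈ commutator P)
    (Φ : Set (MulAut P))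
    (htrans : ∀ a b : P, a ∉ commutator P → b ∉ commutator P → ∃ φ ∈ Φ, (φ a)⁻¹ * b ∈ commutator P)
    (hcomm : ∀ φ ∈ Φ, ∀ ψ ∈ Φ, ∀ a : P, (φ (ψ a))⁻¹ * ψ (φ a) ∈ commutator P) :
    ⁅commutator P, (⊤ : Subgroup P)⁆ = ⊥ := by
  set D := commutator P with hD
  set D2 := ⁅D, (⊤ : Subgroup P)⁆ with hD2
  set D3 := ⁅D2, (⊤ : Subgroup P)⁆ with hD3
  have hD2D : D2 ≤ D := Subgroup.commutator_le_left _ _
  have hD3D : D3 ≤ D := (Subgroup.commutator_le_left _ _).trans hD2D
  let π := QuotientGroup.mk' D3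
  have hπ : Function.Surjective π := QuotientGroup.mk'_surjective D3
  have hcq : commutator (P ⧸ D3) = D.map π := by
    show commutator (P ⧸ D3) = (commutator P).map π
    rw [commutator_def, commutator_def, Subgroup.map_commutator, Subgroup.map_top_of_surjective _ hπ]
  have hcomap : ∀ a : P, π a ∈ commutator (P ⧸ D3) ↔ a ∈ D := by
    intro a
    rw [hcq]
    refine ⟨fun ⟨d, hd, hde⟩ => ?_, fun ha => ⟨a, ha, rfl⟩⟩
    rw [QuotientGroup.mk'_apply, QuotientGroup.mk'_apply, QuotientGroup.eq] at hde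
    simpa [mul_assoc] using D.mul_mem hd (hD3D hde)
  have hinv : ∀ φ : MulAut P, D3.map φ.toMonoidHom = D3 := fun φ =>
    Subgroup.characteristic_iff_map_eq.1 inferInstance φ
  let push : MulAut P → MulAut (P ⧸ D3) := fun φ => QuotientGroup.congr D3 D3 φ (hinv φ)
  have hpush : ∀ (φ : MulAut P) (a : P), push φ (π a) = π (φ a) := fun φ a => rfl
  have hcent : ⁅commutator (P ⧸ D3), (⊤ : Subgroup (P ⧸ D3))⁆ ≤ Subgroup.center (P ⧸ D3) := by
    rw [hcq, ← Subgroup.map_top_of_surjective π hπ, ← Subgroup.map_commutator]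
    rintro _ ⟨x, hx, rfl⟩
    refine Subgroup.mem_center_iff.2 fun y => ?_
    obtain ⟨y, rfl⟩ := hπ y
    refine (commutatorElement_eq_one_iff_mul_comm.1 ?_).symm
    rw [← map_commutatorElement, QuotientGroup.mk'_apply, QuotientGroup.eq_one_iff]
    exact Subgroup.commutator_mem_commutator hx (Subgroup.mem_top y)
  have := core (hP.to_quotient D3) (hcq ▸ pair_map hc D3 hD3D)
    (fun a => by obtain ⟨a, rfl⟩ := hπ a; rw [← map_pow, hcomap]; exact hexp a)
    (push '' Φ)
    (fun a b ha hb => by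
      obtain ⟨a, rfl⟩ := hπ a
      obtain ⟨b, rfl⟩ := hπ b
      rw [hcomap] at ha hb
      obtain ⟨φ, hφ, h⟩ := htrans a b ha hb
      refine ⟨push φ, ⟨φ, hφ, rfl⟩, ?_⟩
      rw [hpush, ← map_inv, ← map_mul, hcomap]
      exact h)
    (fun _ hφ _ hψ a => by
      obtain ⟨φ, hφ, rfl⟩ := hφ
      obtain ⟨ψ, hψ, rfl⟩ := hψ
      obtain ⟨a, rfl⟩ := hπ a
      rw [hpush, hpush, hpush, hpush, ← map_inv, ← map_mul, hcomap]
      exact hcomm φ hφ ψ hψ a)
    hcent
  rw [hcq, ← Subgroup.map_top_of_surjective π hπ, ← Subgroup.map_commutator, Subgroup.map_eq_bot_iff,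
    QuotientGroup.ker_mk'] at this
  haveI := hP.isNilpotent
  exact eq_bot_of_commutator_eq (H := D2) (by assumption)

end Cfsg.Agent.Solv.CaminaTwo
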