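import Cfsg.Prelude.Def_Transfer
import Cfsg.Prelude.Def_Local
import Cfsg.Agent.Lib.Fusion.TransferSplit
import Cfsg.Agent.Lib.Fusion.NPC
import Cfsg.Agent.Lib.Solv.Cores
import Cfsg.Agent.Lib.Solv.PGroupPhi
import Cfsg.Agent.Lib.Solv.ThompsonFPF
import Cfsg.Agent.Lib.Solv.Engel
import Cfsg.Agent.Lib.Solv.Parts
import Cfsg.Agent.Lib.Char.MultiplicativeCoprime
import Cfsg.Agent.Lib.Char.GaloisDegrees

/-!
Camina pairs: if `N` and `G/N` are both of composite (non-prime-power) order then every element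
outside `N` acts fixed-point-freely on `N`.
-/

set_option autoImplicit false
set_option linter.style.haveILetI false
open scoped commutatorElement

namespace Cfsg.Agent.Solv.Camina

universe u

variable {G : Type u} [Group G] {N : Subgroup G}

/-- `(G, N)` is a Camina pair. -/
def Pair (N : Subgroup G) : Prop := ∀ g : G, g ∉ N → ∀ n ∈ N, ∃ x : G, x * g * x⁻¹ = g * n

theorem pow_eq_one (hc : Pair N) {g n : G} (hg : g ∉ N) (hn : n ∈ N) (hcm : Commute g n) {k : ℕ}
    (hk : g ^ k = 1) : n ^ k = 1 := by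
  obtain ⟨x, hx⟩ := hc g hg n hn
  have h := congrArg (· ^ k) hx
  simp only [conj_pow, hk, mul_one, mul_inv_cancel, hcm.mul_pow, one_mul] at h
  exact h.symm

variable [Finite G] [N.Normal]

/-- The centraliser orders in the group and in the quotient agree. -/
theorem card_centralizer (hc : Pair N) {g : G} (hg : g ∉ N) :
    Nat.card (Subgroup.centralizer ({g} : Set G)) =
      Nat.card (Subgroup.centralizer ({(g : G ⧸ N)} : Set (G ⧸ N))) := by
  set D := Subgroup.centralizer ({(g : G ⧸ N)} : Set (G ⧸ N)) with hD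
  set C := D.comap (QuotientGroup.mk' N) with hC
  set S := (Subgroup.centralizer ({g} : Set G)).subgroupOf C with hS
  have hmem : ∀ x : G, x ∈ C ↔ g⁻¹ * (x * g * x⁻¹) ∈ N := by
    intro x
    rw [hC, hD, Subgroup.mem_comap, Subgroup.mem_centralizer_singleton_iff, QuotientGroup.mk'_apply,
      ← QuotientGroup.mk_mul, ← QuotientGroup.mk_mul, QuotientGroup.eq]
    refine ⟨fun h => ?_, fun h => ?_⟩
    · have := (inferInstance : N.Normal).conj_mem _ (N.inv_mem h) x
      simpa [mul_assoc] using this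
    · have := (inferInstance : N.Normal).conj_mem _ (N.inv_mem h) x⁻¹
      simpa [mul_assoc] using this
  let f : C → N := fun x => ⟨g⁻¹ * (x * g * x⁻¹), (hmem x).1 x.2⟩
  have hfib : ∀ x y : C, f x = f y ↔ x⁻¹ * y ∈ S := by
    intro x y
    rw [hS, Subgroup.mem_subgroupOf, Subgroup.mem_centralizer_singleton_iff, Subtype.ext_iff]
    simp only [f, mul_right_inj, Subgroup.coe_mul, InvMemClass.coe_inv]
    constructor
    · intro h
      calc (x : G)⁻¹ * y * g = (x : G)⁻¹ * ((y : G) * g * (y : G)⁻¹) * y := by group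
        _ = (x : G)⁻¹ * ((x : G) * g * (x : G)⁻¹) * y := by rw [h]
        _ = g * ((x : G)⁻¹ * y) := by group
    · intro h
      calc (x : G) * g * (x : G)⁻¹ = (x : G) * (g * ((x : G)⁻¹ * y)) * (y : G)⁻¹ := by group
        _ = (x : G) * ((x : G)⁻¹ * y * g) * (y : G)⁻¹ := by rw [h]
        _ = (y : G) * g * (y : G)⁻¹ := by group
  let F : C ⧸ S → N := Quotient.lift f (fun x y h => (hfib x y).2 (QuotientGroup.leftRel_apply.1 h))
  have hbij : Function.Bijective F := by
    refine ⟨fun a b => ?_, fun n => ?_⟩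
    · induction a using QuotientGroup.induction_on with | H x =>
      induction b using QuotientGroup.induction_on with | H y =>
      intro h
      exact QuotientGroup.eq.2 ((hfib x y).1 h)
    · obtain ⟨x, hx⟩ := hc g hg n n.2
      have hxC : x ∈ C := (hmem x).2 (by rw [hx, inv_mul_cancel_left]; exact n.2)
      exact ⟨(⟨x, hxC⟩ : C), Subtype.ext (show g⁻¹ * (x * g * x⁻¹) = n by rw [hx, inv_mul_cancel_left])⟩
  have h1 := S.card_mul_index
  rw [Subgroup.index, Nat.card_eq_of_bijective F hbij] at h1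
  have hle : Subgroup.centralizer ({g} : Set G) ≤ C := fun x hx => (hmem x).2 (by
    rw [Subgroup.mem_centralizer_singleton_iff.1 hx, mul_inv_cancel_right, inv_mul_cancel]; exact N.one_mem)
  rw [hS, Nat.card_congr (Subgroup.subgroupOfEquivOfLe hle).toEquiv] at h1
  have h2 := (N.subgroupOf C).card_mul_index
  have hNC : N ≤ C := fun x hx => (hmem x).2 (by
    have := N.mul_mem ((inferInstance : N.Normal).conj_mem x hx g⁻¹) (N.inv_mem hx)
    simpa [mul_assoc] using this)
  rw [Nat.card_congr (Subgroup.subgroupOfEquivOfLe hNC).toEquiv] at h2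
  have h3 : (N.subgroupOf C).index = Nat.card D := by
    have h4 : (N.subgroupOf C) = ((QuotientGroup.mk' N).subgroupComap D).ker := by
      ext x
      rw [MonoidHom.mem_ker, Subgroup.mem_subgroupOf, ← QuotientGroup.eq_one_iff (N := N) (x : G)]
      exact ⟨fun h => Subtype.ext h, fun h => congrArg Subtype.val h⟩
    rw [h4, Subgroup.index_ker, MonoidHom.range_eq_top.2 ((QuotientGroup.mk' N).subgroupComap_surjective_of_surjective D (QuotientGroup.mk'_surjective N)), Subgroup.card_top]
  rw [h3] at h2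
  rw [mul_comm (Nat.card (Subgroup.centralizer ({g} : Set G)))] at h1
  exact Nat.eq_of_mul_eq_mul_left Nat.card_pos (h1.trans h2.symm)

/-- Tate's condition: a Sylow subgroup meets `N` in its Frattini subgroup. -/
theorem inf_le_frattini (hc : Pair N) {p : ℕ} [hp : Fact p.Prime] (hdvd : p ∣ N.index) (P : Sylow p G) :
    N ⊓ (P : Subgroup G) ≤ (frattini P).map (P : Subgroup G).subtype := by
  set Pb := P.mapSurjective (QuotientGroup.mk'_surjective N) with hPb
  have hPbc : ((Pb : Subgroup (G ⧸ N))) = (P : Subgroup G).map (QuotientGroup.mk' N) :=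
    Sylow.coe_mapSurjective _ P
  have hne : (Pb : Subgroup (G ⧸ N)) ≠ ⊥ := Pb.ne_bot_of_dvd_card (by rwa [← Subgroup.index_eq_card])
  haveI : Nontrivial (Pb : Subgroup (G ⧸ N)) := (Subgroup.nontrivial_iff_ne_bot _).2 hne
  haveI := Pb.isPGroup'.center_nontrivial
  obtain ⟨z, hz1⟩ := exists_ne (1 : Subgroup.center (Pb : Subgroup (G ⧸ N)))
  have hzm : (z.1 : G ⧸ N) ∈ (P : Subgroup G).map (QuotientGroup.mk' N) := hPbc ▸ z.1.2
  obtain ⟨g, hgP, hgz⟩ := hzm
  have hg : g ∉ N := fun h => hz1 (Subtype.ext (Subtype.ext (by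
    rw [← hgz]; exact (QuotientGroup.eq_one_iff g).2 h)))
  have hcent : ∀ x ∈ (P : Subgroup G), g⁻¹ * (x * g * x⁻¹) ∈ N := by
    intro x hx
    have hxm : (x : G ⧸ N) ∈ (Pb : Subgroup (G ⧸ N)) := by rw [hPbc]; exact ⟨x, hx, rfl⟩
    have h := congrArg Subtype.val (Subgroup.mem_center_iff.1 z.2 ⟨_, hxm⟩)
    rw [← QuotientGroup.eq_one_iff]
    simp only [Subgroup.coe_mul, ← hgz, QuotientGroup.mk'_apply] at h
    rw [QuotientGroup.mk_mul, QuotientGroup.mk_mul, QuotientGroup.mk_mul, QuotientGroup.mk_inv, QuotientGroup.mk_inv, h,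
      mul_inv_cancel_right, inv_mul_cancel]
  set T := (P : Subgroup G) ⊓ Subgroup.centralizer ({g} : Set G) with hT
  set I := N ⊓ (P : Subgroup G) with hI
  let f : ↥(P : Subgroup G) → I := fun x => ⟨g⁻¹ * ((x : G) * g * (x : G)⁻¹), hcent x x.2,
    (P : Subgroup G).mul_mem ((P : Subgroup G).inv_mem hgP)
      ((P : Subgroup G).mul_mem ((P : Subgroup G).mul_mem x.2 hgP) ((P : Subgroup G).inv_mem x.2))⟩
  set S := T.subgroupOf (P : Subgroup G) with hS
  have hfib : ∀ x y : (P : Subgroup G), f x = f y ↔ x⁻¹ * y ∈ S := by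
    intro x y
    rw [hS, Subgroup.mem_subgroupOf, hT, Subgroup.mem_inf, and_iff_right (SetLike.coe_mem _),
      Subgroup.mem_centralizer_singleton_iff, Subtype.ext_iff]
    simp only [f, mul_right_inj, Subgroup.coe_mul, InvMemClass.coe_inv]
    constructor
    · intro h
      calc (x : G)⁻¹ * y * g = (x : G)⁻¹ * ((y : G) * g * (y : G)⁻¹) * y := by group
        _ = (x : G)⁻¹ * ((x : G) * g * (x : G)⁻¹) * y := by rw [h]
        _ = g * ((x : G)⁻¹ * y) := by group
    · intro h
      calc (x : G) * g * (x : G)⁻¹ = (x : G) * (g * ((x : G)⁻¹ * y)) * (y : G)⁻¹ := by group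
        _ = (x : G) * ((x : G)⁻¹ * y * g) * (y : G)⁻¹ := by rw [h]
        _ = (y : G) * g * (y : G)⁻¹ := by group
  let F : ↥(P : Subgroup G) ⧸ S → I := Quotient.lift f (fun x y h => (hfib x y).2 (QuotientGroup.leftRel_apply.1 h))
  have hinj : Function.Injective F := by
    intro a b
    induction a using QuotientGroup.induction_on with | H x =>
    induction b using QuotientGroup.induction_on with | H y =>
    intro h
    exact QuotientGroup.eq.2 ((hfib x y).1 h)
  -- count
  have h1 := S.card_mul_index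
  rw [hS, Nat.card_congr (Subgroup.subgroupOfEquivOfLe (inf_le_left : T ≤ (P : Subgroup G))).toEquiv] at h1
  have hcardT : Nat.card T ≤ Nat.card (Pb : Subgroup (G ⧸ N)) := by
    obtain ⟨j, hj⟩ := IsPGroup.iff_card.1 (P.isPGroup'.to_le (inf_le_left : T ≤ (P : Subgroup G)))
    have hd : p ^ j ∣ Nat.card (G ⧸ N) := by
      rw [← hj]
      exact (Subgroup.card_dvd_of_le (inf_le_right : T ≤ Subgroup.centralizer ({g} : Set G))).trans
        (card_centralizer hc hg ▸ Subgroup.card_subgroup_dvd_card _)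
    rw [hj, Pb.card_eq_multiplicity]
    exact Nat.pow_le_pow_right hp.out.pos ((hp.out.pow_dvd_iff_le_factorization Nat.card_pos.ne').1 hd)
  have hcardP : Nat.card (P : Subgroup G) = Nat.card (Pb : Subgroup (G ⧸ N)) * Nat.card I := by
    have h2 := (((QuotientGroup.mk' N).comp (P : Subgroup G).subtype).ker).card_mul_index
    rw [Subgroup.index_ker, MonoidHom.range_comp, Subgroup.range_subtype, ← hPbc] at h2
    have e : ((QuotientGroup.mk' N).comp (P : Subgroup G).subtype).ker = I.subgroupOf (P : Subgroup G) := by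
      ext x
      rw [MonoidHom.mem_ker, Subgroup.mem_subgroupOf, hI, Subgroup.mem_inf, and_iff_left x.2]
      exact QuotientGroup.eq_one_iff _
    rw [e, Nat.card_congr (Subgroup.subgroupOfEquivOfLe (inf_le_right : I ≤ (P : Subgroup G))).toEquiv] at h2
    rw [← h2, mul_comm]
  have hsurj : Function.Surjective F := by
    have hle := Nat.card_le_card_of_injective F hinj
    have hge : Nat.card I ≤ Nat.card ((P : Subgroup G) ⧸ S) := by
      by_contra hlt
      push Not at hlt
      have : Nat.card T * S.index < Nat.card (Pb : Subgroup (G ⧸ N)) * Nat.card I :=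
        lt_of_le_of_lt (Nat.mul_le_mul_right _ hcardT) (Nat.mul_lt_mul_of_pos_left hlt Nat.card_pos)
      rw [h1, hcardP] at this
      exact lt_irrefl _ this
    exact ((Function.Injective.bijective_of_nat_card_le hinj) hge).2
  intro n hn
  obtain ⟨a, ha⟩ := hsurj ⟨n, hn⟩
  induction a using QuotientGroup.induction_on with | H x =>
  refine ⟨⁅(⟨g, hgP⟩ : (P : Subgroup G))⁻¹, x⁆, Solv.commutatorElement_mem_frattini P.isPGroup' _ _, ?_⟩
  have : g⁻¹ * ((x : G) * g * (x : G)⁻¹) = n := congrArg Subtype.val ha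
  rw [← this]
  simp [commutatorElement_def, mul_assoc]

theorem coprime_pResidual (hc : Pair N) {p : ℕ} [Fact p.Prime] (hdvd : p ∣ N.index) :
    (Nat.card (Cfsg.pResidual p N)).Coprime p :=
  Fusion.hnpc_iff.1 (Fusion.hnpc_normal_of_frattini N default (inf_le_frattini hc hdvd default))

/-- The case of a nilpotent normal subgroup. -/
theorem nilpotent_false (hc : Pair N) (hnil : Group.IsNilpotent N) {p q : ℕ} [hp : Fact p.Prime] [hq : Fact q.Prime]
    (hpq : q ≠ p) (hpN : p ∣ Nat.card N) (hqN : q ∣ Nat.card N) (hpI : p ∣ N.index) : False := by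
  haveI := hnil
  haveI := Solv.pCore_normal (G := N) p
  haveI := Solv.pCore_normal (G := N) q
  -- the Sylow subgroups of `N` are normal
  have syl : ∀ r : ℕ, ∀ [Fact r.Prime], ∀ R : Sylow r N, (R : Subgroup N) ≤ Cfsg.pCore r N := by
    intro r _ R
    haveI : (R : Subgroup N).Normal := Sylow.normal_of_normalizerCondition Group.normalizerCondition_of_isNilpotent R
    exact Solv.normal_le_pCore R.isPGroup'
  set Np : Subgroup G := (Cfsg.pCore p N).map N.subtype with hNp
  set Z : Subgroup G := ((Subgroup.center N).map N.subtype) ⊓ ((Cfsg.pCore q N).map N.subtype) with hZ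
  haveI : ((Subgroup.center N).map N.subtype).Normal := ConjAct.normal_of_characteristic_of_normal
  have conjNormal : ∀ r : ℕ, ((Cfsg.pCore r N).map N.subtype).Normal := by
    intro r
    haveI := Fusion.pCore_characteristic (p := r) (G := N)
    exact ConjAct.normal_of_characteristic_of_normal
  haveI : Np.Normal := conjNormal p
  haveI := conjNormal q
  haveI : Z.Normal := inferInstance
  have hZne : Z ≠ ⊥ := by
    obtain ⟨Q⟩ := (inferInstance : Nonempty (Sylow q N))
    have hQne : (Q : Subgroup N) ≠ ⊥ := Q.ne_bot_of_dvd_card hqN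
    haveI : Nontrivial (Q : Subgroup N) := (Subgroup.nontrivial_iff_ne_bot _).2 hQne
    haveI := Q.isPGroup'.center_nontrivial
    obtain ⟨z, hz⟩ := exists_ne (1 : Subgroup.center (Q : Subgroup N))
    have hzc : (z.1 : N) ∈ Subgroup.center N := by
      refine Subgroup.mem_center_iff.2 fun n => ?_
      obtain ⟨k, m, hm, hkm⟩ := Nat.exists_eq_pow_mul_and_not_dvd (orderOf_pos n).ne' q hq.out.ne_one
      have hco : (q ^ k).Coprime m := Nat.Coprime.pow_left _ ((Nat.Prime.coprime_iff_not_dvd hq.out).2 hm)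
      obtain ⟨a, b, hab⟩ : ∃ a b : ℤ, (m : ℤ) * a + ((q ^ k : ℕ) : ℤ) * b = 1 := by
        have := Int.isCoprime_iff_nat_coprime.2 (show Nat.Coprime (m : ℤ).natAbs ((q ^ k : ℕ) : ℤ).natAbs from hco.symm)
        obtain ⟨a, b, h⟩ := this
        exact ⟨a, b, by rw [← h]; ring⟩
      have hn : n = (n ^ m) ^ a * (n ^ (q ^ k)) ^ b := by
        rw [← zpow_natCast n m, ← zpow_natCast n (q ^ k), ← zpow_mul, ← zpow_mul, ← zpow_add, hab, zpow_one]
      have hoz : ∃ i, orderOf (z.1 : N) = q ^ i := by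
        obtain ⟨i, hi⟩ := IsPGroup.iff_orderOf.1 Q.isPGroup' z.1
        exact ⟨i, by rw [Subgroup.orderOf_coe]; exact hi⟩
      obtain ⟨i, hi⟩ := hoz
      have hm1 : (n ^ (q ^ k)) ^ m = 1 := by rw [← pow_mul, ← hkm, pow_orderOf_eq_one]
      have c1 : Commute (z.1 : N) (n ^ (q ^ k)) := Solv.commute_of_coprime_nilpotent hi
        (Nat.Coprime.coprime_dvd_left (orderOf_dvd_of_pow_eq_one hm1) ((Nat.Prime.coprime_iff_not_dvd hq.out).2 hm).symm)
      have hQn : (Q : Subgroup N).Normal := Sylow.normal_of_normalizerCondition Group.normalizerCondition_of_isNilpotent Q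
      have hmem : n ^ m ∈ (Q : Subgroup N) := by
        have hzp : IsPGroup q (Subgroup.zpowers (n ^ m)) := by
          obtain ⟨j, -, hj⟩ := (Nat.dvd_prime_pow hq.out).1 (orderOf_dvd_of_pow_eq_one
            (show (n ^ m) ^ (q ^ k) = 1 by rw [← pow_mul, mul_comm, ← hkm, pow_orderOf_eq_one]))
          exact IsPGroup.of_card (n := j) (by rw [Nat.card_zpowers, hj])
        obtain ⟨R, hR⟩ := hzp.exists_le_sylow
        letI := Sylow.unique_of_normal Q hQn
        exact (Subsingleton.elim R Q) ▸ hR (Subgroup.mem_zpowers _)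
      have c2 : Commute (z.1 : N) (n ^ m) := (congrArg Subtype.val (Subgroup.mem_center_iff.1 z.2 ⟨_, hmem⟩)).symm
      rw [hn]
      exact (((c2.zpow_right a).mul_right (c1.zpow_right b))).eq.symm
    intro h0
    have hmem : ((z.1 : N) : G) ∈ Z := ⟨⟨_, hzc, rfl⟩, ⟨_, syl q Q z.1.2, rfl⟩⟩
    rw [h0, Subgroup.mem_bot] at hmem
    exact hz (Subtype.ext (Subtype.ext (Subtype.ext hmem)))
  have hZq : IsPGroup q Z := ((Solv.pCore_isPGroup q).map _).to_le inf_le_right
  -- the quotient acts on `Z`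
  let φ : G ⧸ N →* MulAut Z := QuotientGroup.lift N (MulAut.conjNormal (H := Z)) (by
    intro n hn
    rw [MonoidHom.mem_ker]
    ext z
    obtain ⟨z', hz', hze⟩ := z.2.1
    have := congrArg Subtype.val (Subgroup.mem_center_iff.1 hz' ⟨n, hn⟩)
    rw [MulAut.conjNormal_apply, MulAut.one_apply, ← hze]
    show n * (z' : G) * n⁻¹ = z'
    simp only [Subgroup.coe_mul] at this
    rw [this, mul_inv_cancel_right])
  -- fixed point free
  have hfpf : ∀ t : G ⧸ N, t ≠ 1 → IsPGroup p (Subgroup.zpowers t) → ∀ z : Z, φ t z = z → z = 1 := by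
    intro t ht htp z hz
    obtain ⟨S, hS⟩ := htp.exists_le_sylow
    obtain ⟨R, rfl⟩ := Sylow.mapSurjective_surjective (QuotientGroup.mk'_surjective N) p S
    obtain ⟨g, hgR, rfl⟩ := hS (Subgroup.mem_zpowers t)
    have hgN : g ∉ N := fun h => ht ((QuotientGroup.eq_one_iff g).2 h)
    obtain ⟨k, hk⟩ := R.isPGroup' ⟨g, hgR⟩
    have hk' : g ^ p ^ k = 1 := by simpa using congrArg Subtype.val hk
    have hcom : Commute g (z : G) := by
      have h := congrArg Subtype.val hz
      change g * (z : G) * g⁻¹ = z at h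
      exact mul_inv_eq_iff_eq_mul.1 h
    have hzN : (z : G) ∈ N := Subgroup.map_subtype_le _ z.2.1
    obtain ⟨i, hi⟩ := hZq z
    have hi' : (z : G) ^ q ^ i = 1 := by simpa using congrArg Subtype.val hi
    have hco : (q ^ i).Coprime (p ^ k) := Nat.Coprime.pow _ _ ((Nat.coprime_primes hq.out hp.out).2 hpq)
    exact Subtype.ext (orderOf_eq_one_iff.1 (Nat.eq_one_of_dvd_coprimes hco (orderOf_dvd_of_pow_eq_one hi')
      (orderOf_dvd_of_pow_eq_one (pow_eq_one hc hgN hzN hcom hk'))))
  -- abelian `p`-subgroups of the quotient are cyclic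
  have hcyc : ∀ A : Subgroup (G ⧸ N), IsPGroup p A → IsMulCommutative A → IsCyclic A := by
    intro A hA hAc
    let X := Z ⋊[φ.comp A.subtype] A
    haveI : Finite X := Finite.of_equiv _ SemidirectProduct.equivProd.symm
    haveI := Fintype.ofFinite X
    set A' : Subgroup X := (SemidirectProduct.inr : A →* X).range with hA'
    set D' : Subgroup X := (SemidirectProduct.inl : Z →* X).range with hD'
    have eA : A ≃* A' := MonoidHom.ofInjective SemidirectProduct.inr_injective
    have eD : Z ≃* D' := MonoidHom.ofInjective SemidirectProduct.inl_injective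
    have hAc' : IsMulCommutative A' := ⟨⟨fun a b => eA.symm.injective (by rw [map_mul, map_mul]; exact hAc.1.1 _ _)⟩⟩
    have hD'ne : D' ≠ ⊥ := fun h => hZne ((Subgroup.eq_bot_iff_forall _).2 fun z hz => by
      have hm : (SemidirectProduct.inl (⟨z, hz⟩ : Z) : X) ∈ D' := ⟨_, rfl⟩
      rw [h, Subgroup.mem_bot, ← map_one (SemidirectProduct.inl : Z →* X)] at hm
      exact congrArg Subtype.val (SemidirectProduct.inl_injective hm))
    have hn : A' ≤ Subgroup.normalizer (D' : Set X) := by
      rw [hD', SemidirectProduct.range_inl_eq_ker_rightHom, Subgroup.normalizer_eq_top]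
      exact le_top
    have hco : (Nat.card A').Coprime (Nat.card D') := by
      rw [← Nat.card_congr eA.toEquiv, ← Nat.card_congr eD.toEquiv]
      obtain ⟨i, hi⟩ := IsPGroup.iff_card.1 hA
      obtain ⟨j, hj⟩ := IsPGroup.iff_card.1 hZq
      rw [hi, hj]
      exact Nat.Coprime.pow _ _ ((Nat.coprime_primes hp.out hq.out).2 hpq.symm)
    haveI hcy := Cfsg.Agent.Char.MultCoprime.isCyclic_of_fpf (p := q) hAc' (hZq.of_equiv eD) hD'ne hn hco (by
      rintro _ ⟨a, rfl⟩ ha _ ⟨z, rfl⟩ he
      have ha1 : (a : G ⧸ N) ≠ 1 := fun h => ha (by rw [(Subtype.ext h : a = 1), map_one])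
      have h2 := congrArg SemidirectProduct.left he
      rw [SemidirectProduct.mul_left, SemidirectProduct.mul_left] at h2
      erw [SemidirectProduct.left_inr, SemidirectProduct.right_inr, SemidirectProduct.left_inl, SemidirectProduct.right_inl] at h2
      simp only [map_one, one_mul, mul_one, MonoidHom.comp_apply, Subgroup.coe_subtype] at h2
      rw [hfpf a ha1 (hA.to_le (Subgroup.zpowers_le.2 a.2)) z h2, map_one])
    exact isCyclic_of_surjective eA.symm eA.symm.surjective
  -- an element of maximal `p`-power order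
  obtain ⟨t0, ht0⟩ := exists_prime_orderOf_dvd_card' (G := G ⧸ N) p (by rwa [← Subgroup.index_eq_card])
  let s := {t : G ⧸ N | IsPGroup p (Subgroup.zpowers t)}
  have hsne : s.Nonempty := ⟨t0, IsPGroup.of_card (n := 1) (by rw [Nat.card_zpowers, ht0, pow_one])⟩
  obtain ⟨t, ht, htmax⟩ := Set.exists_max_image s orderOf (Set.toFinite s) hsne
  have ht1 : t ≠ 1 := fun h => by
    have := htmax t0 (IsPGroup.of_card (n := 1) (by rw [Nat.card_zpowers, ht0, pow_one]))
    rw [h, orderOf_one, ht0] at this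
    exact absurd this (by have := hp.out.two_le; omega)
  obtain ⟨S, hS⟩ := (show IsPGroup p (Subgroup.zpowers t) from ht).exists_le_sylow
  obtain ⟨R, rfl⟩ := Sylow.mapSurjective_surjective (QuotientGroup.mk'_surjective N) p S
  obtain ⟨g, hgR, hgt⟩ := hS (Subgroup.mem_zpowers t)
  have hgN : g ∉ N := fun h => ht1 (by rw [← hgt]; exact (QuotientGroup.eq_one_iff g).2 h)
  -- fixed points of `g` on the `p`-part of `N`
  have hNpp : IsPGroup p Np := (Solv.pCore_isPGroup p).map _
  have hgz : IsPGroup p (Subgroup.zpowers g) := R.isPGroup'.to_le (Subgroup.zpowers_le.2 hgR)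
  set T := Np ⊔ Subgroup.zpowers g with hT
  have hTp : IsPGroup p T := hNpp.to_sup_of_normal_left hgz
  haveI := Fintype.ofFinite T
  have hNne : Np.subgroupOf T ≠ ⊥ := by
    intro h
    rw [Subgroup.subgroupOf_eq_bot, disjoint_iff, inf_eq_left.2 le_sup_left] at h
    obtain ⟨R'⟩ := (inferInstance : Nonempty (Sylow p N))
    exact R'.ne_bot_of_dvd_card hpN (le_bot_iff.1 ((syl p R').trans
      ((Subgroup.map_eq_bot_iff_of_injective _ N.subtype_injective).1 h).le))
  obtain ⟨⟨⟨w, hwT⟩, hwN, hwC⟩, hw1⟩ := Subgroup.ne_bot_iff_exists_ne_one.1 (Cfsg.Agent.Char.GalDeg.inf_center_ne_bot hTp (Np.subgroupOf T) hNne)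
  set W : Subgroup G := Subgroup.closure {w, g} with hW
  have hwg : Commute g w := congrArg Subtype.val (Subgroup.mem_center_iff.1 hwC ⟨g, Subgroup.mem_sup_right (Subgroup.mem_zpowers g)⟩)
  have hWC : W ≤ Subgroup.centralizer ({g} : Set G) := (Subgroup.closure_le _).2 (by
    rintro x (rfl | rfl)
    · exact Subgroup.mem_centralizer_singleton_iff.2 hwg.eq.symm
    · exact Subgroup.mem_centralizer_singleton_iff.2 rfl)
  have hWT : W ≤ T := (Subgroup.closure_le _).2 (by
    rintro x (rfl | rfl)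
    · exact hwT
    · exact Subgroup.mem_sup_right (Subgroup.mem_zpowers _))
  have hbig : p * orderOf t ∣ Nat.card W := by
    have h2 := (((QuotientGroup.mk' N).comp W.subtype).ker).card_mul_index
    rw [Subgroup.index_ker] at h2
    rw [← h2]
    refine Nat.mul_dvd_mul ?_ ?_
    · have hk : IsPGroup p (((QuotientGroup.mk' N).comp W.subtype).ker) := (hTp.to_le hWT).to_subgroup _
      obtain ⟨i, hi⟩ := IsPGroup.iff_card.1 hk
      rw [hi]
      refine dvd_pow_self p fun h0 => hw1 ?_
      rw [h0, pow_zero] at hi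
      have hwK : (⟨w, Subgroup.subset_closure (Set.mem_insert _ _)⟩ : W) ∈ ((QuotientGroup.mk' N).comp W.subtype).ker := by
        rw [MonoidHom.mem_ker]
        exact (QuotientGroup.eq_one_iff w).2 (Subgroup.map_subtype_le _ hwN)
      rw [Subgroup.card_eq_one.1 hi, Subgroup.mem_bot] at hwK
      have hw : w = 1 := congrArg Subtype.val hwK
      subst hw
      rfl
    · refine (Nat.card_zpowers t).symm ▸ Subgroup.card_dvd_of_le (Subgroup.zpowers_le.2 ?_)
      exact ⟨⟨g, Subgroup.subset_closure (Set.mem_insert_of_mem _ rfl)⟩, hgt⟩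
  -- the `p`-part of the centraliser of `t`
  obtain ⟨L⟩ := (inferInstance : Nonempty (Sylow p (Subgroup.centralizer ({t} : Set (G ⧸ N)))))
  set L' : Subgroup (G ⧸ N) := (L : Subgroup (Subgroup.centralizer ({t} : Set (G ⧸ N)))).map (Subgroup.subtype _) with hL'
  have hLle : L' ≤ Subgroup.zpowers t := by
    intro x hx
    obtain ⟨x', hx', rfl⟩ := hx
    have hcomm : Commute (x' : G ⧸ N) t := Subgroup.mem_centralizer_singleton_iff.1 x'.2
    have hxp : IsPGroup p (Subgroup.zpowers (x' : G ⧸ N)) :=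
      (L.isPGroup'.map (Subgroup.subtype _)).to_le (Subgroup.zpowers_le.2 ⟨x', hx', rfl⟩)
    have hnorm : Subgroup.zpowers (x' : G ⧸ N) ≤ Subgroup.normalizer ((Subgroup.zpowers t : Subgroup (G ⧸ N)) : Set (G ⧸ N)) := by
      refine Subgroup.zpowers_le.2 (Subgroup.mem_normalizer_iff.2 fun y => ⟨?_, ?_⟩)
      · rintro ⟨i, rfl⟩
        exact ⟨i, by simp only [(hcomm.zpow_right i).eq, mul_inv_cancel_right]⟩
      · rintro ⟨i, hi⟩
        refine ⟨i, ?_⟩
        simp only at hi ⊢
        have h3 := (hcomm.zpow_right i).eq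
        rw [hi] at h3 ⊢
        calc (x' : G ⧸ N) * y * (x' : G ⧸ N)⁻¹ = (x' : G ⧸ N)⁻¹ * ((x' : G ⧸ N) * ((x' : G ⧸ N) * y * (x' : G ⧸ N)⁻¹)) := by group
          _ = (x' : G ⧸ N)⁻¹ * (((x' : G ⧸ N) * y * (x' : G ⧸ N)⁻¹) * x') := by rw [h3]
          _ = y := by group
    set A := Subgroup.zpowers (x' : G ⧸ N) ⊔ Subgroup.zpowers t with hA
    have hAp : IsPGroup p A := hxp.to_sup_of_normal_right' ht hnorm
    have hAe : A = Subgroup.closure {(x' : G ⧸ N), t} := by
      rw [hA, Subgroup.zpowers_eq_closure, Subgroup.zpowers_eq_closure, ← Subgroup.closure_union]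
      rfl
    have hAc : IsMulCommutative A := by
      rw [hAe]
      exact Subgroup.isMulCommutative_closure (by
        rintro a (rfl | rfl) b (rfl | rfl)
        · rfl
        · exact hcomm
        · exact hcomm.symm
        · rfl)
    haveI := hcyc A hAp hAc
    obtain ⟨c, hc'⟩ := IsCyclic.exists_generator (α := A)
    have hcA : A = Subgroup.zpowers (c : G ⧸ N) := by
      refine le_antisymm (fun y hy => ?_) (Subgroup.zpowers_le.2 c.2)
      obtain ⟨i, hi⟩ := hc' ⟨y, hy⟩
      exact ⟨i, congrArg Subtype.val hi⟩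
    have hle : Nat.card A ≤ Nat.card (Subgroup.zpowers t) := by
      rw [hcA, Nat.card_zpowers, Nat.card_zpowers]
      exact htmax c (hAp.to_le (hcA ▸ le_rfl))
    rw [Subgroup.eq_of_le_of_card_ge (le_sup_right : Subgroup.zpowers t ≤ A) hle]
    exact Subgroup.mem_sup_left (Subgroup.mem_zpowers _)
  have hLcard : Nat.card (L : Subgroup (Subgroup.centralizer ({t} : Set (G ⧸ N)))) ∣ orderOf t := by
    rw [← Nat.card_zpowers, ← Subgroup.card_map_of_injective (Subgroup.subtype_injective _)]
    exact Subgroup.card_dvd_of_le hLle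
  obtain ⟨j, hj⟩ := IsPGroup.iff_card.1 (hTp.to_le hWT)
  have h5 : Nat.card W ∣ Nat.card (L : Subgroup (Subgroup.centralizer ({t} : Set (G ⧸ N)))) := by
    rw [hj]
    refine L.pow_dvd_card_of_pow_dvd_card ?_
    rw [← hj, ← hgt, QuotientGroup.mk'_apply, ← card_centralizer hc hgN]
    exact Subgroup.card_dvd_of_le hWC
  have h6 := Nat.le_of_dvd (orderOf_pos t) ((hbig.trans h5).trans hLcard)
  have := hp.out.two_le
  nlinarith [orderOf_pos t]

omit [Finite G] in
theorem pair_map (hc : Pair N) (K : Subgroup G) [K.Normal] (hK : K ≤ N) :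
    Pair (N.map (QuotientGroup.mk' K)) := by
  intro g
  induction g using QuotientGroup.induction_on with | H g =>
  rintro hg _ ⟨n, hn, rfl⟩
  obtain ⟨x, hx⟩ := hc g (fun h => hg ⟨g, h, rfl⟩) n hn
  refine ⟨x, ?_⟩
  rw [QuotientGroup.mk'_apply, ← QuotientGroup.mk_inv, ← QuotientGroup.mk_mul, ← QuotientGroup.mk_mul, hx, QuotientGroup.mk_mul]

theorem main (hc : Pair N) :
    (∀ x ∈ N, x ≠ 1 → Subgroup.centralizer ({x} : Set G) ≤ N) ∨ IsPrimePow (Nat.card N) ∨ IsPrimePow N.index := by
  by_contra hcon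
  push Not at hcon
  obtain ⟨⟨x, hxN, hx1, hxc⟩, hnN, hnI⟩ := hcon
  obtain ⟨g, hgc, hgN⟩ := SetLike.not_le_iff_exists.1 hxc
  have hcom : Commute g x := Subgroup.mem_centralizer_singleton_iff.1 hgc
  -- a common prime
  obtain ⟨p, hp, hpI, hpN⟩ : ∃ p : ℕ, p.Prime ∧ p ∣ N.index ∧ p ∣ Nat.card N := by
    by_contra hnone
    push Not at hnone
    have hco : (Nat.card N).Coprime N.index := Nat.coprime_of_dvd fun k hk h1 h2 => hnone k hk h2 h1
    set m := Nat.card N with hm
    have hgm : g ^ m ∉ N := by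
      intro h
      apply hgN
      rw [← QuotientGroup.eq_one_iff (N := N)] at h ⊢
      rw [QuotientGroup.mk_pow] at h
      refine orderOf_eq_one_iff.1 (Nat.eq_one_of_dvd_coprimes hco (orderOf_dvd_of_pow_eq_one h) ?_)
      rw [Subgroup.index_eq_card]
      exact orderOf_dvd_natCard _
    have hgi : (g ^ m) ^ N.index = 1 := by
      rw [← pow_mul, hm, N.card_mul_index, pow_card_eq_one']
    have hxm : x ^ m = 1 := by
      have := pow_card_eq_one' (x := (⟨x, hxN⟩ : N))
      exact congrArg Subtype.val this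
    exact hx1 (orderOf_eq_one_iff.1 (Nat.eq_one_of_dvd_coprimes hco (orderOf_dvd_of_pow_eq_one hxm)
      (orderOf_dvd_of_pow_eq_one (pow_eq_one hc hgm hxN (hcom.pow_left m) hgi))))
  haveI := Fact.mk hp
  have exother : ∀ n : ℕ, p ∣ n → n ≠ 0 → ¬ IsPrimePow n → ∃ r : ℕ, r.Prime ∧ r ≠ p ∧ r ∣ n := by
    intro n hn hn0 hnp
    by_contra h
    push Not at h
    apply hnp
    have he : n = p ^ n.primeFactorsList.length := Nat.eq_prime_pow_of_unique_prime_dvd hn0 fun hd hdn => by
      by_contra hne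
      exact h _ hd hne hdn
    rw [he]
    refine hp.isPrimePow.pow fun h0 => ?_
    rw [h0, pow_zero] at he
    rw [he, Nat.dvd_one] at hn
    exact hp.ne_one hn
  obtain ⟨r, hr, hrp, hrI⟩ := exother N.index hpI Subgroup.index_ne_zero_of_finite hnI
  haveI := Fact.mk hr
  by_cases hrN : r ∣ Nat.card N
  · -- pass to a nilpotent quotient
    set Rp : Subgroup N := Cfsg.pResidual p N with hRp
    set Rr : Subgroup N := Cfsg.pResidual r N with hRr
    haveI : (Rp.map N.subtype).Normal := ConjAct.normal_of_characteristic_of_normal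
    haveI : (Rr.map N.subtype).Normal := ConjAct.normal_of_characteristic_of_normal
    set K : Subgroup G := Rp.map N.subtype ⊓ Rr.map N.subtype with hK
    have hKN : K ≤ N := inf_le_left.trans (Subgroup.map_subtype_le _)
    set M := N.map (QuotientGroup.mk' K) with hM
    let π : N →* M := (QuotientGroup.mk' K).subgroupMap N
    have hπ : Function.Surjective π := (QuotientGroup.mk' K).subgroupMap_surjective N
    have hker : π.ker = Rp ⊓ Rr := by
      ext n
      rw [MonoidHom.mem_ker]
      constructor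
      · intro h
        have h1 : ((n : G) : G ⧸ K) = 1 := congrArg Subtype.val h
        rw [QuotientGroup.eq_one_iff] at h1
        obtain ⟨⟨a, ha, hae⟩, b, hb, hbe⟩ := h1
        exact ⟨(Subtype.ext hae : a = n) ▸ ha, (Subtype.ext hbe : b = n) ▸ hb⟩
      · rintro ⟨h1, h2⟩
        exact Subtype.ext ((QuotientGroup.eq_one_iff _).2 ⟨⟨n, h1, rfl⟩, ⟨n, h2, rfl⟩⟩)
    haveI := (Fusion.isPGroup_quotient_pResidual (p := p) (G := N)).isNilpotent
    haveI := (Fusion.isPGroup_quotient_pResidual (p := r) (G := N)).isNilpotent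
    have hnilM : Group.IsNilpotent M := by
      let e : N ⧸ π.ker ≃* M := QuotientGroup.quotientKerEquivOfSurjective π hπ
      let ψ : N →* (N ⧸ Rp) × (N ⧸ Rr) := (QuotientGroup.mk' Rp).prod (QuotientGroup.mk' Rr)
      have hψ : ψ.ker = π.ker := by
        rw [hker]
        ext n
        simp [ψ, MonoidHom.mem_ker]
      haveI : Group.IsNilpotent (N ⧸ ψ.ker) := Group.nilpotent_of_mulEquiv (QuotientGroup.quotientKerEquivRange ψ).symm
      exact Group.nilpotent_of_mulEquiv ((QuotientGroup.quotientMulEquivOfEq hψ).trans e)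
    have hdiv : ∀ s : ℕ, s.Prime → s ∣ Nat.card N → (Nat.card ↥(Rp ⊓ Rr)).Coprime s → s ∣ Nat.card M := by
      intro s hs hsN hco
      rw [← Nat.card_congr (QuotientGroup.quotientKerEquivOfSurjective π hπ).toEquiv, ← Subgroup.index_eq_card, hker]
      rw [← (Rp ⊓ Rr).card_mul_index] at hsN
      exact (hco.symm).dvd_of_dvd_mul_left hsN
    have hp1 := (coprime_pResidual hc hpI).coprime_dvd_left (Subgroup.card_dvd_of_le (inf_le_left : Rp ⊓ Rr ≤ Rp))
    have hr1 := (coprime_pResidual hc hrI).coprime_dvd_left (Subgroup.card_dvd_of_le (inf_le_right : Rp ⊓ Rr ≤ Rr))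
    haveI : M.Normal := Subgroup.Normal.map inferInstance _ (QuotientGroup.mk'_surjective K)
    refine nilpotent_false (pair_map hc K hKN) hnilM hrp (hdiv p hp hpN hp1) (hdiv r hr hrN hr1) ?_
    rw [Subgroup.index_map_eq _ (QuotientGroup.mk'_surjective K) (by rw [QuotientGroup.ker_mk']; exact hKN)]
    exact hpI
  · obtain ⟨y, hy⟩ := exists_prime_orderOf_dvd_card' (G := G) r (hrI.trans N.index_dvd_card)
    have hyN : y ∉ N := fun h => hrN (by
      rw [← hy, show orderOf y = orderOf (⟨y, h⟩ : N) from Subgroup.orderOf_coe ⟨y, h⟩]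
      exact orderOf_dvd_natCard _)
    have hyr : y ^ r = 1 := hy ▸ pow_orderOf_eq_one y
    have hnil : Group.IsNilpotent N := Solv.fpf_nilpotent N y hr hyr
      (by rw [Subgroup.normalizer_eq_top]; exact Subgroup.mem_top _) (by
        rw [Subgroup.eq_bot_iff_forall]
        rintro n ⟨hn, hnc⟩
        have h1 := pow_eq_one hc hyN hn (Subgroup.mem_centralizer_singleton_iff.1 hnc).symm hyr
        have h2 : orderOf n ∣ Nat.card N := by
          rw [show orderOf n = orderOf (⟨n, hn⟩ : N) from Subgroup.orderOf_coe ⟨n, hn⟩]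
          exact orderOf_dvd_natCard _
        exact orderOf_eq_one_iff.1 (Nat.eq_one_of_dvd_coprimes ((Nat.Prime.coprime_iff_not_dvd hr).2 hrN)
          (orderOf_dvd_of_pow_eq_one h1) h2))
    obtain ⟨q, hq, hqp, hqN⟩ := exother (Nat.card N) hpN Nat.card_pos.ne' hnN
    haveI := Fact.mk hq
    exact nilpotent_false hc hnil hqp hpN hqN hpI

end Cfsg.Agent.Solv.Camina
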