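import Cfsg.Agent.Lib.Char.ThreePrimeCentral
import Cfsg.Agent.Lib.Char.Contribution

/-!
# Few eigenvalues for elements of prime order in the principal block

If `χ` lies in the principal `p`-block and `z` has order `p` and class size prime to `p`, then `z` has at most
`gcd (χ 1, |z^G|)` eigenvalues in `χ`.
-/

set_option autoImplicit false
set_option linter.style.haveILetI false

open Cfsg Cfsg.Agent.Char Module

namespace Cfsg.Agent.Solv.Arc

universe u

variable {G : Type u} [Group G] [Finite G]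

theorem centralizer_pow {p : ℕ} (hp : p.Prime) {z : G} (hz : orderOf z = p) {i : ℕ} (hi : ¬ p ∣ i) :
    Subgroup.centralizer ({z ^ i} : Set G) = Subgroup.centralizer ({z} : Set G) := by
  obtain ⟨k, hk⟩ : ∃ k : ℕ, (z ^ i) ^ k = z := by
    obtain ⟨x, hx⟩ := exists_pow_eq_self_of_coprime
      (show i.Coprime (orderOf z) by rw [hz]; exact (hp.coprime_iff_not_dvd.mpr hi).symm)
    exact ⟨x, hx⟩
  ext g
  simp only [Subgroup.mem_centralizer_singleton_iff]
  refine ⟨fun h => ?_, fun h => ?_⟩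
  · rw [← hk]; exact (Commute.pow_right (h : Commute g (z ^ i)) k).eq
  · exact (Commute.pow_right (h : Commute g z) i).eq

/-- Every eigenvalue multiplicity `a` satisfies `n ∣ a d`, so there are at most `d` eigenvalues. -/
theorem eigen_card_le {p : ℕ} (hp : p.Prime) {M : Ideal AlgInt} (hM : IsPModular p M) {n : ℕ}
    (ρ : Representation ℂ G (Fin n → ℂ)) (hρ : ρ.IsIrreducible)
    (hB : SameBlock M (fun _ : G => (1 : ℂ)) ρ.character) {z : G} (hz : orderOf z = p)
    (hpK : ¬ p ∣ (Subgroup.centralizer ({z} : Set G)).index) :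
    ∃ S : Finset ℂ, S.card ≤ Nat.gcd n (Subgroup.centralizer ({z} : Set G)).index ∧ S.Nonempty ∧
      (∀ η ∈ S, η ^ p = 1 ∧ ∃ v, v ≠ 0 ∧ ρ z v = η • v) ∧
      ∀ (μ : ℂ) (v : Fin n → ℂ), v ≠ 0 → ρ z v = μ • v → μ ∈ S := by
  classical
  set K := (Subgroup.centralizer ({z} : Set G)).index with hK
  set d := Nat.gcd n K with hd
  set χ := ρ.character with hχ
  have hirr : IsIrrCharacter G χ := isIrrCharacter_character ρ hρ
  have hn1 : χ 1 = (n : ℂ) := by rw [hχ, Representation.char_one]; simp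
  have hn0 : (n : ℂ) ≠ 0 := hn1 ▸ irr_one_ne_zero hirr
  have hnn : n ≠ 0 := by exact_mod_cast hn0
  obtain ⟨b, ν, hν, hb⟩ := exists_eigenbasis_of_pow_eq_one (ρ z) p hp.ne_zero
    (by rw [← map_pow, ← hz, pow_orderOf_eq_one, map_one])
  have hfr : finrank ℂ (Fin n → ℂ) = n := by simp
  have htr : ∀ i : ℕ, χ (z ^ i) = ∑ j, ν j ^ i := fun i =>
    trace_of_eigenbasis b _ (fun j => ν j ^ i)
      (fun j => by rw [map_pow]; exact eigenbasis_pow_apply b _ ν hb i j)
  have hP := pmod_prime hM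
  -- the algebraic integers `χ (z ^ i) / m`
  set x := Nat.gcdA K n with hxdef
  set y := Nat.gcdB K n with hydef
  have hbez : (d : ℂ) = (K : ℂ) * (x : ℂ) + (n : ℂ) * (y : ℂ) := by
    have := Nat.gcd_eq_gcd_ab K n
    rw [hd, Nat.gcd_comm]
    exact_mod_cast this
  set α : ℕ → ℂ := fun i => (x : ℂ) * ((K : ℂ) * χ (z ^ i) / n) + (y : ℂ) * χ (z ^ i) with hα
  have hαn : ∀ i, α i * n = (d : ℂ) * χ (z ^ i) := fun i => by
    rw [hα, hbez]; field_simp
  have hαI : ∀ i, ¬ p ∣ i → IsIntegral ℤ (α i) := by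
    intro i hi
    have h1 := omega_isIntegral hirr (z ^ i)
    rw [omega, card_conjClass_eq_index, centralizer_pow hp hz hi, ← hK, hn1] at h1
    exact ((isIntegral_algebraMap (x := x)).mul h1).add
      ((isIntegral_algebraMap (x := y)).mul (char_isIntegral (irr_isCharacter hirr) _))
  have hαd : ∀ i, ¬ p ∣ i → MemLocalIdeal M (α i - d) := by
    intro i hi
    have h1 := hB (z ^ i)
    simp only [centralChar, mul_one, div_one] at h1
    rw [centralizer_pow hp hz hi, ← hK, hn1] at h1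
    have h2 : MemLocalIdeal M (χ (z ^ i) - n) := by
      rw [htr, show (n : ℂ) = ∑ _j : Fin (finrank ℂ (Fin n → ℂ)), (1 : ℂ) by simp, ← Finset.sum_sub_distrib]
      refine memLI_sum hP _ _ fun j _ => root_congr_one hM (k := 1) ?_
      rw [pow_one, ← pow_mul, mul_comm, pow_mul, hν, one_pow]
    have e : α i - d = (-x : ℤ) * ((K : ℂ) - (K : ℂ) * χ (z ^ i) / n) +
        (y : ℂ) * (χ (z ^ i) - n) := by
      rw [hα, hbez]; push_cast; ring
    rw [e]
    exact memLI_add hP (memLI_mul_left hP (memLR_intCast hP _) h1)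
      (memLI_mul_left hP (memLR_intCast hP _) h2)
  set S := Finset.univ.image ν with hS
  have hmult : ∀ η ∈ S, n ≤ d * (Finset.univ.filter fun j => ν j = η).card := by
    intro η hη
    obtain ⟨j₀, -, rfl⟩ := Finset.mem_image.mp hη
    set a := (Finset.univ.filter fun j => ν j = ν j₀).card with ha
    have ha0 : 0 < a := Finset.card_pos.mpr ⟨j₀, by simp⟩
    have hν0 : ν j₀ ≠ 0 := fun h => by simpa [h, hp.ne_zero] using hν j₀
    set w : ℂ := (ν j₀)⁻¹ with hw
    have hgeo : ∀ j, ∑ i ∈ Finset.range p, (w * ν j) ^ i = if ν j = ν j₀ then (p : ℂ) else 0 := by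
      intro j
      by_cases hj : ν j = ν j₀
      · rw [if_pos hj, hw, hj, inv_mul_cancel₀ hν0]; simp
      · have h1 : w * ν j ≠ 1 := fun h => hj (by
          rw [hw, inv_mul_eq_one₀ hν0] at h; exact h.symm)
        rw [if_neg hj, geom_sum_eq h1, mul_pow, hw, inv_pow, hν, hν]
        simp
    have hsum : (p : ℂ) * a = ∑ i ∈ Finset.range p, w ^ i * χ (z ^ i) := by
      calc (p : ℂ) * a = ∑ j, ∑ i ∈ Finset.range p, (w * ν j) ^ i := by
            simp only [hgeo, ← Finset.sum_filter, Finset.sum_const, ← ha, nsmul_eq_mul]; ring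
        _ = _ := by
            rw [Finset.sum_comm]
            simp only [htr, Finset.mul_sum, mul_pow]
    set R := (Finset.range p).erase 0 with hR
    have hRi : ∀ i ∈ R, ¬ p ∣ i := fun i hi h => by
      obtain ⟨h0, hlt⟩ := Finset.mem_erase.mp hi
      exact absurd (Nat.le_of_dvd (Nat.pos_of_ne_zero h0) h) (not_le.mpr (Finset.mem_range.mp hlt))
    set β : ℂ := (d : ℂ) + ∑ i ∈ R, w ^ i * α i with hβ
    have hβn : β * n = ((p * a * d : ℕ) : ℂ) := by
      push_cast
      rw [hsum, ← Finset.add_sum_erase _ _ (Finset.mem_range.mpr hp.pos : 0 ∈ Finset.range p), ← hR,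
        pow_zero, pow_zero, one_mul, hn1, hβ, add_mul, add_mul, Finset.sum_mul, Finset.sum_mul]
      refine congrArg₂ (· + ·) (by ring) (Finset.sum_congr rfl fun i _ => ?_)
      rw [mul_assoc, hαn]; ring
    have hwI : IsIntegral ℤ w := root_of_unity_isIntegral hp.ne_zero (by rw [hw, inv_pow, hν, inv_one])
    have hβI : IsIntegral ℤ β :=
      (isIntegral_natCast _).add (IsIntegral.sum _ fun i hi => (hwI.pow i).mul (hαI i (hRi i hi)))
    have hβq : β = (((p * a * d : ℕ) / n : ℚ) : ℂ) := by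
      push_cast; rw [eq_div_iff hn0, hβn]; push_cast; ring
    obtain ⟨k, hk⟩ := isIntegral_rat_cast_imp (hβq ▸ hβI)
    have hkβ : β = (k : ℂ) := by rw [hβq, ← hk]; push_cast; rfl
    have hpk : (p : ℤ) ∣ k := by
      refine (memLI_intCast_iff hM k).mp ?_
      rw [← hkβ]
      have e : β = (p : ℂ) * d + ∑ i ∈ R, ((w ^ i - 1) * α i + (α i - d)) := by
        have hcard : R.card + 1 = p := by
          rw [hR, Finset.card_erase_add_one (Finset.mem_range.mpr hp.pos), Finset.card_range]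
        rw [hβ, show (p : ℂ) = (R.card : ℂ) + 1 by exact_mod_cast hcard.symm]
        simp only [Finset.sum_add_distrib, sub_mul, one_mul, Finset.sum_sub_distrib, Finset.sum_const,
          nsmul_eq_mul]
        ring
      rw [e]
      refine memLI_add hP (memLI_mul_right hP (memLI_p hM) (memLR_natCast hP _)) (memLI_sum hP _ _ ?_)
      intro i hi
      refine memLI_add hP (memLI_mul_right hP (root_congr_one hM (k := 1) ?_)
        (memLocalRing_of_isIntegral hP.ne_top (hαI i (hRi i hi)))) (hαd i (hRi i hi))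
      rw [pow_one, ← pow_mul, mul_comm, pow_mul, hw, inv_pow, hν, inv_one, one_pow]
    obtain ⟨t, rfl⟩ := hpk
    have ht : t * n = a * d := by
      have h1 : (((p : ℤ) * t * n : ℤ) : ℂ) = (((p * a * d : ℕ) : ℤ) : ℂ) := by
        rw [Int.cast_natCast, ← hβn, hkβ]; push_cast; ring
      have h2 := Int.cast_injective h1
      push_cast at h2
      exact mul_left_cancel₀ (show (p : ℤ) ≠ 0 by exact_mod_cast hp.ne_zero) (by linarith)
    have hd0 : 0 < d := Nat.gcd_pos_of_pos_left _ (Nat.pos_of_ne_zero hnn)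
    have hnd : n ∣ a * d := by
      rw [← Int.natCast_dvd_natCast]; exact ⟨t, by push_cast; rw [← ht]; ring⟩
    exact (Nat.le_of_dvd (Nat.mul_pos ha0 hd0) hnd).trans_eq (mul_comm _ _)
  refine ⟨S, ?_, ?_, ?_, ?_⟩
  · have h1 : S.card * n ≤ d * n := by
      calc S.card * n = ∑ _η ∈ S, n := by simp
        _ ≤ ∑ η ∈ S, d * (Finset.univ.filter fun j => ν j = η).card := Finset.sum_le_sum hmult
        _ = d * n := by
            rw [← Finset.mul_sum, ← Finset.card_eq_sum_card_fiberwise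
              (fun j _ => Finset.mem_image_of_mem ν (Finset.mem_univ j)), Finset.card_univ,
              Fintype.card_fin, hfr]
    exact Nat.le_of_mul_le_mul_right h1 (Nat.pos_of_ne_zero hnn)
  · haveI : Nonempty (Fin (finrank ℂ (Fin n → ℂ))) := ⟨⟨0, by rw [hfr]; exact Nat.pos_of_ne_zero hnn⟩⟩
    exact Finset.univ_nonempty.image ν
  · intro η hη
    obtain ⟨j, -, rfl⟩ := Finset.mem_image.mp hη
    exact ⟨hν j, b j, b.ne_zero j, hb j⟩
  · intro μ v hv hμ
    obtain ⟨j, hj⟩ : ∃ j, b.repr v j ≠ 0 := by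
      by_contra h
      push Not at h
      exact hv (b.repr.map_eq_zero_iff.mp (Finsupp.ext h))
    refine Finset.mem_image.mpr ⟨j, Finset.mem_univ _, ?_⟩
    have h1 : b.repr (ρ z v) j = ν j * b.repr v j := by
      conv_lhs => rw [← b.sum_repr v]
      simp only [map_sum, map_smul, hb, Finsupp.coe_finset_sum, Finset.sum_apply, Finsupp.smul_apply,
        Basis.repr_self, smul_eq_mul, Finsupp.single_apply, mul_ite, mul_one, mul_zero,
        Finset.sum_ite_eq', Finset.mem_univ, if_true]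
      ring
    rw [hμ, map_smul, Finsupp.smul_apply, smul_eq_mul] at h1
    exact (mul_right_cancel₀ hj h1).symm

/-- Two of the first `p` powers differ by one with all eigenvalues in the open arc of sixty degrees. -/
theorem exists_near_pow {p : ℕ} (hp : p.Prime) (S : Finset ℂ) (hS : ∀ η ∈ S, η ^ p = 1)
    (hcard : 6 ^ S.card < p) : ∃ t : ℕ, ¬ p ∣ t ∧ ∀ η ∈ S, ‖η ^ t - 1‖ < 1 := by
  classical
  haveI : NeZero p := ⟨hp.ne_zero⟩
  set ζ := Complex.exp (2 * Real.pi * Complex.I / p) with hζ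
  have hprim : IsPrimitiveRoot ζ p := Complex.isPrimitiveRoot_exp p hp.ne_zero
  have hb : ∀ η : S, ∃ c < p, ζ ^ c = (η : ℂ) := fun η => hprim.eq_pow_of_pow_eq_one (hS η η.2)
  choose c _ hc using hb
  have hp0 : 0 < p := hp.pos
  let lab : Fin p → (S → Fin 6) := fun k η => ⟨6 * ((k : ℕ) * c η % p) / p, by
    rw [Nat.div_lt_iff_lt_mul hp0]
    have := Nat.mod_lt ((k : ℕ) * c η) hp0
    omega⟩
  obtain ⟨k₁, k₂, hne, heq⟩ := Fintype.exists_ne_map_eq_of_card_lt lab (by simpa using hcard)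
  wlog hlt : (k₁ : ℕ) < k₂ generalizing k₁ k₂
  · exact this k₂ k₁ hne.symm heq.symm
      (lt_of_le_of_ne (not_lt.mp hlt) fun h => hne (Fin.ext h).symm)
  refine ⟨k₂ - k₁, fun h => ?_, fun η hη => ?_⟩
  · exact absurd (Nat.le_of_dvd (by omega) h) (by have := k₂.isLt; omega)
  set u := (k₁ : ℕ) * c ⟨η, hη⟩ % p with hu
  set v := (k₂ : ℕ) * c ⟨η, hη⟩ % p with hv
  have hdiv : 6 * u / p = 6 * v / p := congrArg Fin.val (congrFun heq ⟨η, hη⟩)
  have hu1 := Nat.div_add_mod (6 * u) p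
  have hv1 := Nat.div_add_mod (6 * v) p
  have hu2 := Nat.mod_lt (6 * u) hp0
  have hv2 := Nat.mod_lt (6 * v) hp0
  rw [hdiv] at hu1
  have hη1 : η ^ (k₂ - k₁ : ℕ) = ζ ^ (v : ℤ) / ζ ^ (u : ℤ) := by
    have hζ0 : ζ ≠ 0 := hprim.ne_zero hp.ne_zero
    have e : ∀ k : ℕ, (η : ℂ) ^ k = ζ ^ (k * c ⟨η, hη⟩ % p) := fun k => by
      calc (η : ℂ) ^ k = (ζ ^ c ⟨η, hη⟩) ^ k := by rw [hc ⟨η, hη⟩]
        _ = _ := ?_
      rw [← pow_mul, mul_comm]
      exact pow_eq_pow_mod _ hprim.pow_eq_one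
    have hη0 : (η : ℂ) ≠ 0 := fun h => by simpa [h, hp.ne_zero] using hS η hη
    rw [zpow_natCast, zpow_natCast, hu, hv, ← e, ← e, pow_sub₀ _ hη0 hlt.le, div_eq_mul_inv]
  rw [hη1, ← zpow_sub₀ (hprim.ne_zero hp.ne_zero), hζ, ← Complex.exp_int_mul]
  set θ : ℝ := 2 * Real.pi * (((v : ℤ) - u : ℤ) : ℝ) / p with hθ
  have harg : (((v : ℤ) - u : ℤ) : ℂ) * (2 * Real.pi * Complex.I / p) = Complex.I * (θ : ℂ) := by
    rw [hθ]; push_cast; ring
  rw [harg, Complex.norm_exp_I_mul_ofReal_sub_one, Real.norm_eq_abs, abs_mul, abs_two]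
  have hpR : (0 : ℝ) < p := by exact_mod_cast hp0
  have hθb : |θ / 2| < Real.pi / 6 := by
    have h1 : ((v : ℤ) - u) * 6 < p ∧ -(p : ℤ) < ((v : ℤ) - u) * 6 := by omega
    have h2 : ((((v : ℤ) - u : ℤ) : ℝ)) * 6 < p := by exact_mod_cast h1.1
    have h3 : -(p : ℝ) < ((((v : ℤ) - u : ℤ) : ℝ)) * 6 := by exact_mod_cast h1.2
    rw [abs_lt, hθ]
    constructor
    · rw [div_div, lt_div_iff₀ (by positivity)]; nlinarith [Real.pi_pos]
    · rw [div_div, div_lt_iff₀ (by positivity)]; nlinarith [Real.pi_pos]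
  have hsin : |Real.sin (θ / 2)| < 1 / 2 := by
    rw [abs_lt] at hθb ⊢
    have hpi := Real.pi_pos
    constructor
    · calc -(1 / 2 : ℝ) = Real.sin (-(Real.pi / 6)) := by rw [Real.sin_neg, Real.sin_pi_div_six]
        _ < _ := Real.sin_lt_sin_of_lt_of_le_pi_div_two (by linarith) (by linarith) hθb.1
    · calc Real.sin (θ / 2) < Real.sin (Real.pi / 6) :=
            Real.sin_lt_sin_of_lt_of_le_pi_div_two (by linarith) (by linarith) hθb.2
        _ = 1 / 2 := Real.sin_pi_div_six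
  linarith

end Cfsg.Agent.Solv.Arc
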