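import Cfsg.Agent.Lib.Solv.PSolvExtension
import Cfsg.Agent.Lib.Fusion.NPC

/-!
# Multiplicative classes of `p`-elements and `q`-elements force `p`-solvability
-/

set_option autoImplicit false

namespace Cfsg.Agent.Solv.ClassProd

open Cfsg

universe u

variable {G : Type u} [Group G] [Finite G] {p : ℕ}

/-- the class of the product is the product of the classes -/
def Mult (p : ℕ) (G : Type u) [Group G] : Prop :=
  ∀ x y : G, (∃ a : ℕ, orderOf x = p ^ a) → (∃ q b : ℕ, q.Prime ∧ q ≠ p ∧ orderOf y = q ^ b) →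
    ∀ a b : G, IsConj (x * y) (a * x * a⁻¹ * (b * y * b⁻¹))

theorem exists_lift {q : ℕ} (hq : q.Prime) (N : Subgroup G) [N.Normal] (z : G ⧸ N) {k : ℕ}
    (hz : orderOf z = q ^ k) : ∃ g : G, (QuotientGroup.mk g : G ⧸ N) = z ∧ ∃ a, orderOf g = q ^ a := by
  obtain ⟨g, rfl⟩ := QuotientGroup.mk_surjective z
  obtain ⟨a, m, hm, hn⟩ := Nat.exists_eq_pow_mul_and_not_dvd (orderOf_pos g).ne' q hq.ne_one
  have hc : Nat.Coprime m (orderOf (QuotientGroup.mk g : G ⧸ N)) := by
    rw [hz]; exact ((hq.coprime_iff_not_dvd.2 hm).symm).pow_right _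
  obtain ⟨j, hj⟩ := exists_pow_eq_self_of_coprime hc
  refine ⟨(g ^ m) ^ j, by simpa using hj, ?_⟩
  have hdvd : orderOf ((g ^ m) ^ j) ∣ q ^ a := by
    refine (orderOf_pow_dvd j).trans (orderOf_dvd_of_pow_eq_one ?_)
    rw [← pow_mul, mul_comm, ← hn, pow_orderOf_eq_one]
  obtain ⟨i, -, hi⟩ := (Nat.dvd_prime_pow hq).1 hdvd
  exact ⟨i, hi⟩

theorem mult_quotient (hp : p.Prime) (h : Mult p G) (N : Subgroup G) [N.Normal] : Mult p (G ⧸ N) := by
  rintro x y ⟨k, hx⟩ ⟨q, l, hq, hqp, hy⟩ a b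
  obtain ⟨x, rfl, hx'⟩ := exists_lift hp N x hx
  obtain ⟨y, rfl, c, hy'⟩ := exists_lift hq N y hy
  obtain ⟨a, rfl⟩ := QuotientGroup.mk_surjective a
  obtain ⟨b, rfl⟩ := QuotientGroup.mk_surjective b
  simpa using (QuotientGroup.mk' N).map_isConj (h x y hx' ⟨q, c, hq, hqp, hy'⟩ a b)

/-- elements translating the class of `y` into itself -/
def stab (y : G) : Subgroup G where
  carrier := {g | ∀ c, IsConj y c → IsConj y (g * c)}
  one_mem' := fun c hc => by simpa using hc
  mul_mem' := fun {g g'} hg hg' c hc => by rw [mul_assoc]; exact hg _ (hg' c hc)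
  inv_mem' := fun {g} hg => by
    have hpow : ∀ n : ℕ, ∀ c, IsConj y c → IsConj y (g ^ n * c) := by
      intro n
      induction n with
      | zero => simp
      | succ n ih =>
        intro c hc
        rw [pow_succ, mul_assoc]
        exact ih _ (hg c hc)
    have hinv : g⁻¹ = g ^ (orderOf g - 1) := by
      refine inv_eq_of_mul_eq_one_right ?_
      rw [← pow_succ', Nat.sub_add_cancel (orderOf_pos g), pow_orderOf_eq_one]
    rw [Set.mem_setOf_eq, hinv]
    exact hpow _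

variable [Fact p.Prime]

theorem centralizes (h : Mult p G) {M : Subgroup G} [M.Normal]
    (hmin : ∀ K : Subgroup G, K.Normal → K ≤ M → K ≠ ⊥ → K = M)
    {R : Subgroup G} (hRM : R ≤ M) (hR : IsPGroup p R) {y : G} (hyM : y ∈ M)
    (hy : ∃ q b : ℕ, q.Prime ∧ q ≠ p ∧ orderOf y = q ^ b)
    (hn : y ∈ Subgroup.normalizer (R : Set G)) {r : G} (hr : r ∈ R) : r * y = y * r := by
  by_contra hne
  have hxR : r * y⁻¹ * r⁻¹ * y ∈ R := by
    have h1 : y⁻¹ * r⁻¹ * y ∈ R := (Subgroup.mem_normalizer_iff''.1 hn r⁻¹).1 (R.inv_mem hr)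
    simpa only [mul_assoc] using R.mul_mem hr h1
  obtain ⟨x, hxdef⟩ : ∃ x, x = r * y⁻¹ * r⁻¹ * y := ⟨_, rfl⟩
  rw [← hxdef] at hxR
  have hx1 : x ≠ 1 := by
    intro hx
    apply hne
    calc r * y = y * x⁻¹ * r := by rw [hxdef]; group
      _ = y * r := by rw [hx]; simp
  obtain ⟨q, b, hq, hqp, hyo⟩ := hy
  obtain ⟨k, hk⟩ := hR.exists_orderOf_eq_pow ⟨x, hxR⟩
  rw [Subgroup.orderOf_mk] at hk
  have key := h x y⁻¹ ⟨k, hk⟩ ⟨q, b, hq, hqp, by rw [orderOf_inv]; exact hyo⟩
  have hconj : IsConj y⁻¹ (x * y⁻¹) := isConj_iff.2 ⟨r, by rw [hxdef]; group⟩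
  have hmem : ∀ a : G, a * x * a⁻¹ ∈ stab y⁻¹ := by
    intro a c hc
    obtain ⟨b, rfl⟩ := isConj_iff.1 hc
    exact hconj.trans (key a b)
  have hle : Subgroup.normalClosure {x} ≤ stab y⁻¹ := by
    rw [Subgroup.normalClosure, Subgroup.closure_le]
    intro z hz
    obtain ⟨w, hw, hwz⟩ := Group.mem_conjugatesOfSet_iff.1 hz
    rw [Set.mem_singleton_iff] at hw
    rw [hw] at hwz
    obtain ⟨a, rfl⟩ := isConj_iff.1 hwz
    exact hmem a
  have hxM : Subgroup.normalClosure {x} ≤ M :=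
    Subgroup.normalClosure_le_normal (Set.singleton_subset_iff.2 (hRM hxR))
  have hK : Subgroup.normalClosure {x} = M := hmin _ inferInstance hxM fun hb => hx1
    (Subgroup.mem_bot.1 (hb.le (Subgroup.subset_normalClosure (Set.mem_singleton x))))
  have h1 : IsConj y⁻¹ (y * y⁻¹) := hle (hK.symm.le hyM) _ (IsConj.refl _)
  rw [mul_inv_cancel, isConj_one_left, inv_eq_one] at h1
  exact hne (by rw [h1]; simp)

theorem mem_centralizer (h : Mult p G) {M : Subgroup G} [M.Normal]
    (hmin : ∀ K : Subgroup G, K.Normal → K ≤ M → K ≠ ⊥ → K = M)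
    {Q : Subgroup M} (hQ : IsPGroup p Q) {g : M} (hg : g ∈ Subgroup.normalizer (Q : Set M))
    (hgp : (orderOf g).Coprime p) : g ∈ Subgroup.centralizer (Q : Set M) := by
  have hdvd : Nat.card (Subgroup.zpowers g) ∣
      Nat.card ↥(Subgroup.zpowers g ⊓ Subgroup.centralizer (Q : Set M)) := by
    rw [Nat.card_zpowers, Nat.dvd_iff_prime_pow_dvd_dvd]
    intro q k hq hqk
    rcases Nat.eq_zero_or_pos k with rfl | hk
    · simp
    have hqp : q ≠ p := by
      rintro rfl
      exact hq.not_dvd_one (hgp ▸ Nat.dvd_gcd ((dvd_pow_self q hk.ne').trans hqk) dvd_rfl)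
    obtain ⟨y, hy⟩ : ∃ y, y = g ^ (orderOf g / q ^ k) := ⟨_, rfl⟩
    have hyo : orderOf y = q ^ k := by
      rw [hy, orderOf_pow_orderOf_div (orderOf_pos g).ne' hqk]
    have hyC : y ∈ Subgroup.centralizer (Q : Set M) := by
      rw [Subgroup.mem_centralizer_iff]
      intro r hr
      apply Subtype.ext
      refine centralizes h hmin (R := Q.map M.subtype) (Subgroup.map_subtype_le _) (hQ.map _)
        y.2 ⟨q, k, hq, hqp, by rw [Subgroup.orderOf_coe]; exact hyo⟩ ?_ ⟨r, hr, rfl⟩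
      have hyn : y ∈ Subgroup.normalizer (Q : Set M) := hy ▸ Subgroup.pow_mem _ hg _
      exact Subgroup.le_normalizer_map M.subtype ⟨y, hyn, rfl⟩
    rw [← hyo, ← Subgroup.orderOf_mk y (Subgroup.mem_inf.2 ⟨hy ▸ Subgroup.npow_mem_zpowers g _, hyC⟩)]
    exact orderOf_dvd_natCard _
  have heq := Subgroup.eq_of_le_of_card_ge
    (inf_le_left : Subgroup.zpowers g ⊓ Subgroup.centralizer (Q : Set M) ≤ Subgroup.zpowers g)
    (Nat.le_of_dvd Nat.card_pos hdvd)
  exact (Subgroup.mem_inf.1 (heq.ge (Subgroup.mem_zpowers g))).2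

theorem minimal_type (h : Mult p G) {M : Subgroup G} [M.Normal]
    (hmin : ∀ K : Subgroup G, K.Normal → K ≤ M → K ≠ ⊥ → K = M) :
    IsPGroup p M ∨ (Nat.card M).Coprime p := by
  obtain ⟨P⟩ : Nonempty (Sylow p M) := inferInstance
  have hM : HasNormalPComplement p M := Fusion.hnpc_of_centralize (Fusion.sylIn_top P)
    fun Q hQ g hg hgp => mem_centralizer h hmin (P.isPGroup'.to_le hQ) hg hgp
  have hcop := Fusion.hnpc_iff.1 hM
  rcases eq_or_ne (pResidual p M) ⊥ with hb | hb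
  · left
    obtain ⟨N, hN, hc⟩ := Fusion.hnpc_exists_complement hM P
    have hNe : N = pResidual p M := Fusion.eq_pResidual_of_isComplement' hc
    rw [hNe, hb, Subgroup.isComplement'_bot_left] at hc
    exact IsPGroup.of_card (n := (Nat.card M).factorization p) (by
      rw [← P.card_eq_multiplicity, hc, Subgroup.card_top])
  · right
    have hK : (pResidual p M).map M.subtype = M := hmin _ inferInstance (Subgroup.map_subtype_le _)
      fun h0 => hb ((Subgroup.map_eq_bot_iff_of_injective _ M.subtype_injective).1 h0)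
    rw [← hK, Subgroup.card_map_of_injective M.subtype_injective]
    exact hcop

theorem isPSolvable : ∀ (n : ℕ) (G : Type u) [Group G] [Finite G], Nat.card G = n → Mult p G →
    IsPSolvable p G := by
  intro n
  induction n using Nat.strong_induction_on with
  | _ n ih =>
  intro G _ _ hn h
  rcases subsingleton_or_nontrivial G with hG | hG
  · exact isPSolvable_top_step (Or.inr (by simp))
  obtain ⟨M, ⟨hMn, hMne⟩, hMmin⟩ := (Set.toFinite {K : Subgroup G | K.Normal ∧ K ≠ ⊥}).exists_minimal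
    ⟨⊤, inferInstance, top_ne_bot⟩
  have := hMn
  have hmin : ∀ K : Subgroup G, K.Normal → K ≤ M → K ≠ ⊥ → K = M :=
    fun K hK hle hne => le_antisymm hle (hMmin ⟨hK, hne⟩ hle)
  have hlt : Nat.card (G ⧸ M) < n := by
    have h1 := Subgroup.card_eq_card_quotient_mul_card_subgroup M
    have h2 : 1 < Nat.card M := (Subgroup.one_lt_card_iff_ne_bot M).2 hMne
    have h3 : 0 < Nat.card (G ⧸ M) := Nat.card_pos
    nlinarith
  exact isPSolvable_of_extension M (isPSolvable_top_step (minimal_type h hmin))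
    (ih _ hlt _ rfl (mult_quotient Fact.out h M))

end Cfsg.Agent.Solv.ClassProd
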