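import Mathlib

/-!
# Counting the elements whose class size is prime to a given prime

A finite group having as many classes of each size as a nilpotent group is nilpotent.
-/

set_option autoImplicit false
set_option linter.style.haveILetI false

namespace Cfsg.Agent.Solv.ClassCount

universe u

variable {G : Type u} [Group G] [Finite G]

theorem card_carrier (x : G) :
    Nat.card (ConjClasses.mk x).carrier = (Subgroup.centralizer ({x} : Set G)).index := by
  have h := MulAction.index_stabilizer (ConjAct G) x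
  rw [ConjAct.orbit_eq_carrier_conjClasses, ConjAct.stabilizer_eq_centralizer] at h
  rw [Nat.card_coe_set_eq, ← h]
  rfl

/-- The elements whose class size is prime to `p`. -/
def freeSet (G : Type u) [Group G] (p : ℕ) : Set G :=
  {x | ¬ p ∣ Nat.card (ConjClasses.mk x).carrier}

/-- The number of classes of a given size. -/
noncomputable def numClasses (G : Type u) [Group G] (k : ℕ) : ℕ :=
  Nat.card {C : ConjClasses G // Nat.card C.carrier = k}

theorem card_carrier_le (C : ConjClasses G) : Nat.card C.carrier ≤ Nat.card G :=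
  Nat.card_le_card_of_injective Subtype.val Subtype.val_injective

theorem sum_filter_eq (f : ℕ → ℕ) [Fintype (ConjClasses G)] {N : ℕ} (hN : Nat.card G < N) :
    ∑ C : ConjClasses G, f (Nat.card C.carrier) = ∑ k ∈ Finset.range N, numClasses G k * f k := by
  classical
  rw [← Finset.sum_fiberwise_of_maps_to (g := fun C : ConjClasses G => Nat.card C.carrier)
    (t := Finset.range N) (fun C _ => Finset.mem_range.2 ((card_carrier_le C).trans_lt hN))]
  refine Finset.sum_congr rfl fun k _ => ?_
  rw [Finset.sum_congr rfl (g := fun _ => f k) (fun C hC => by rw [(Finset.mem_filter.1 hC).2]),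
    Finset.sum_const, smul_eq_mul, numClasses, Nat.card_eq_fintype_card, Fintype.card_subtype]

theorem sum_classes (P : ℕ → Prop) [DecidablePred P] [Fintype (ConjClasses G)] :
    Nat.card {x : G // P (Nat.card (ConjClasses.mk x).carrier)} =
      ∑ C : ConjClasses G, if P (Nat.card C.carrier) then Nat.card C.carrier else 0 := by
  classical
  have e : {x : G // P (Nat.card (ConjClasses.mk x).carrier)} ≃
      Σ C : {C : ConjClasses G // P (Nat.card C.carrier)}, C.1.carrier :=
    { toFun := fun x => ⟨⟨ConjClasses.mk x.1, x.2⟩, ⟨x.1, ConjClasses.mem_carrier_mk⟩⟩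
      invFun := fun c => ⟨c.2.1, by
        rw [ConjClasses.mem_carrier_iff_mk_eq.1 c.2.2]; exact c.1.2⟩
      left_inv := fun x => rfl
      right_inv := by
        rintro ⟨⟨C, hC⟩, ⟨x, hx⟩⟩
        obtain rfl := ConjClasses.mem_carrier_iff_mk_eq.1 hx
        rfl }
  rw [Nat.card_congr e, Nat.card_sigma, ← Finset.sum_filter]
  exact (Finset.sum_subtype (Finset.univ.filter fun C : ConjClasses G => P (Nat.card C.carrier))
    (fun C => by rw [Finset.mem_filter]; simp) fun C => Nat.card C.carrier).symm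

theorem card_center_eq : Nat.card (Subgroup.center G) = numClasses G 1 := by
  refine Nat.card_congr (Equiv.ofBijective
    (fun z => (⟨ConjClasses.mk (z : G), ?_⟩ : {C : ConjClasses G // Nat.card C.carrier = 1})) ⟨?_, ?_⟩)
  · rw [card_carrier, Subgroup.index_eq_one, eq_top_iff]
    exact fun g _ => Subgroup.mem_centralizer_singleton_iff.2 (Subgroup.mem_center_iff.1 z.2 g)
  · intro a b h
    obtain ⟨c, hc⟩ := isConj_iff.1 (ConjClasses.mk_eq_mk_iff_isConj.1 (congrArg Subtype.val h))
    refine Subtype.ext ?_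
    rw [← hc, Subgroup.mem_center_iff.1 a.2 c, mul_inv_cancel_right]
  · rintro ⟨C, hC⟩
    obtain ⟨x, rfl⟩ := ConjClasses.exists_rep C
    refine ⟨⟨x, Subgroup.mem_center_iff.2 fun g => ?_⟩, rfl⟩
    rw [card_carrier, Subgroup.index_eq_one] at hC
    exact Subgroup.mem_centralizer_singleton_iff.1 (hC ▸ Subgroup.mem_top g)

variable {p : ℕ} [hp : Fact p.Prime]

theorem central_part (P : Sylow p G) :
    Nat.card ↥((P : Subgroup G) ⊓ Subgroup.center G) = p ^ (Nat.card (Subgroup.center G)).factorization p := by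
  obtain ⟨Q⟩ : Nonempty (Sylow p (Subgroup.center G)) := inferInstance
  set Q' := (Q : Subgroup (Subgroup.center G)).map (Subgroup.center G).subtype with hQ'
  have hQ'c : Nat.card Q' = p ^ (Nat.card (Subgroup.center G)).factorization p := by
    rw [hQ', ← Nat.card_congr ((Q : Subgroup (Subgroup.center G)).equivMapOfInjective _
      (Subgroup.center G).subtype_injective).toEquiv, Sylow.card_eq_multiplicity]
  obtain ⟨S, hS⟩ := (Q.isPGroup'.map (Subgroup.center G).subtype).exists_le_sylow
  have hle : Q' ≤ (P : Subgroup G) ⊓ Subgroup.center G := by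
    refine le_inf (fun x hx => ?_) (Subgroup.map_subtype_le _)
    obtain ⟨g, hg⟩ := MulAction.exists_smul_eq G S P
    have hxS : x ∈ (S : Subgroup G) := hS hx
    have hxc : g * x * g⁻¹ = x := by
      rw [Subgroup.mem_center_iff.1 (Subgroup.map_subtype_le _ hx) g, mul_inv_cancel_right]
    have := Subgroup.smul_mem_pointwise_smul x (MulAut.conj g) _ hxS
    rw [← hg]
    show x ∈ ((g • S : Sylow p G) : Subgroup G)
    rw [Sylow.coe_subgroup_smul]
    simpa [MulAut.smul_def, hxc] using this
  refine Nat.dvd_antisymm ?_ (hQ'c ▸ Subgroup.card_dvd_of_le hle)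
  obtain ⟨k, hk⟩ := IsPGroup.iff_card.1 (P.isPGroup'.to_le
    (inf_le_left : (P : Subgroup G) ⊓ Subgroup.center G ≤ P))
  have hd := Subgroup.card_dvd_of_le (inf_le_right : (P : Subgroup G) ⊓ Subgroup.center G ≤ Subgroup.center G)
  rw [hk] at hd ⊢
  exact Nat.pow_dvd_pow p ((hp.out.pow_dvd_iff_le_factorization Nat.card_pos.ne').1 hd)

theorem mem_freeSet_iff (P : Sylow p G) (x : G) :
    x ∈ freeSet G p ↔ ∃ g : G, g⁻¹ * x * g ∈ Subgroup.centralizer ((P : Subgroup G) : Set G) := by
  constructor
  · intro hx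
    change ¬ p ∣ _ at hx
    rw [card_carrier] at hx
    obtain ⟨Q⟩ : Nonempty (Sylow p (Subgroup.centralizer ({x} : Set G))) := inferInstance
    obtain ⟨S, hS⟩ := (Q.isPGroup'.map (Subgroup.centralizer ({x} : Set G)).subtype).exists_le_sylow
    have hQS : Nat.card ↥((Q : Subgroup (Subgroup.centralizer ({x} : Set G))).map
        (Subgroup.centralizer ({x} : Set G)).subtype) = Nat.card S := by
      rw [← Nat.card_congr ((Q : Subgroup (Subgroup.centralizer ({x} : Set G))).equivMapOfInjective _
          (Subgroup.subtype_injective _)).toEquiv,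
        Sylow.card_eq_multiplicity, Sylow.card_eq_multiplicity,
        ← Subgroup.card_mul_index (Subgroup.centralizer ({x} : Set G)),
        Nat.factorization_mul Nat.card_pos.ne' Subgroup.index_ne_zero_of_finite, Finsupp.add_apply,
        Nat.factorization_eq_zero_of_not_dvd hx, add_zero]
    obtain ⟨g, hg⟩ := MulAction.exists_smul_eq G P S
    refine ⟨g, Subgroup.mem_centralizer_iff.2 fun u hu => ?_⟩
    have h1 : g * u * g⁻¹ ∈ (S : Subgroup G) := by
      rw [← hg, Sylow.coe_subgroup_smul]
      simpa [MulAut.smul_def] using Subgroup.smul_mem_pointwise_smul u (MulAut.conj g) _ hu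
    rw [← Subgroup.eq_of_le_of_card_ge hS hQS.ge] at h1
    obtain ⟨y, -, hy⟩ := h1
    have h2 := Subgroup.mem_centralizer_singleton_iff.1 y.2
    rw [Subgroup.coe_subtype] at hy
    rw [hy] at h2
    calc u * (g⁻¹ * x * g) = g⁻¹ * ((g * u * g⁻¹) * x) * g := by group
      _ = g⁻¹ * (x * (g * u * g⁻¹)) * g := by rw [h2]
      _ = g⁻¹ * x * g * u := by group
  · rintro ⟨g, hg⟩
    show ¬ p ∣ _
    rw [show ConjClasses.mk x = ConjClasses.mk (g⁻¹ * x * g) from
      ConjClasses.mk_eq_mk_iff_isConj.2 (isConj_iff.2 ⟨g⁻¹, by rw [inv_inv]⟩), card_carrier]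
    intro h
    refine P.not_dvd_index (h.trans (Subgroup.index_dvd_of_le fun u hu => ?_))
    exact Subgroup.mem_centralizer_singleton_iff.2 (Subgroup.mem_centralizer_iff.1 hg u hu)

/-- A nilpotent group. -/
theorem card_free_nilpotent [hG : Group.IsNilpotent G] (P : Sylow p G) :
    Nat.card (freeSet G p) = (P : Subgroup G).index * Nat.card ↥((P : Subgroup G) ⊓ Subgroup.center G) := by
  have hn : ∀ {q : ℕ} (_ : Fact q.Prime) (Q : Sylow q G), (Q : Subgroup G).Normal := by
    have := ((Group.isNilpotent_of_finite_tfae (G := G)).out 0 3).1 hG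
    exact fun {q} hq Q => this q hq Q
  haveI := hn hp P
  set C := Subgroup.centralizer ((P : Subgroup G) : Set G) with hC
  have hX : freeSet G p = (C : Set G) := by
    ext x
    rw [mem_freeSet_iff P]
    refine ⟨fun ⟨g, hg⟩ => ?_, fun h => ⟨1, by rw [inv_one, one_mul, mul_one]; exact h⟩⟩
    have hCn : C.Normal := by rw [hC]; infer_instance
    show x ∈ C
    simpa [mul_assoc] using hCn.conj_mem _ hg g
  have hPC : (P : Subgroup G) ⊓ C = (P : Subgroup G) ⊓ Subgroup.center G := by
    refine le_antisymm (fun x hx => ⟨hx.1, ?_⟩) (inf_le_inf_left _ (Subgroup.center_le_centralizer _))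
    have hxc : Subgroup.centralizer ({x} : Set G) = ⊤ := by
      rw [← Subgroup.index_eq_one]
      by_contra hne
      obtain ⟨q, hq, hqd⟩ := Nat.exists_prime_and_dvd hne
      haveI := Fact.mk hq
      obtain ⟨Q⟩ : Nonempty (Sylow q G) := inferInstance
      refine Q.not_dvd_index (hqd.trans (Subgroup.index_dvd_of_le fun u hu => ?_))
      rw [Subgroup.mem_centralizer_singleton_iff]
      by_cases hqp : q = p
      · subst hqp
        haveI := Sylow.unique_of_normal Q (hn (Fact.mk hq) Q)
        rw [Subsingleton.elim Q P] at hu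
        exact Subgroup.mem_centralizer_iff.1 hx.2 u hu
      · exact Subgroup.commute_of_normal_of_disjoint _ _ (hn (Fact.mk hq) Q) (hn hp P)
          (IsPGroup.disjoint_of_ne q p hqp _ _ Q.isPGroup' P.isPGroup') u x hu hx.1
    exact Subgroup.mem_center_iff.2 fun g =>
      Subgroup.mem_centralizer_singleton_iff.1 (hxc ▸ Subgroup.mem_top g)
  have hmul : Nat.card ↥((P : Subgroup G) ⊓ C) * (P : Subgroup G).relIndex C = Nat.card C := by
    rw [← Subgroup.inf_relIndex_right (P : Subgroup G) C, ← Subgroup.relIndex_bot_left,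
      ← Subgroup.relIndex_bot_left (H := C)]
    exact Subgroup.relIndex_mul_relIndex _ _ _ bot_le inf_le_right
  rw [Nat.card_congr (Equiv.setCongr hX)]
  rw [hPC] at hmul
  show Nat.card C = _
  rw [← hmul, mul_comm]
  congr 1
  refine Nat.dvd_antisymm (Subgroup.relIndex_dvd_index_of_normal _ _) ?_
  -- the index of the centraliser is a power of `p`
  have hcop : Nat.Coprime (P : Subgroup G).index C.index := by
    refine Nat.coprime_of_dvd fun q hq hq1 hq2 => ?_
    haveI := Fact.mk hq
    rcases eq_or_ne q p with rfl | hqp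
    · exact P.not_dvd_index hq1
    obtain ⟨Q⟩ : Nonempty (Sylow q G) := inferInstance
    refine Q.not_dvd_index (hq2.trans (Subgroup.index_dvd_of_le fun u hu => ?_))
    exact Subgroup.mem_centralizer_iff.2 fun x hx => (Subgroup.commute_of_normal_of_disjoint _ _ (hn (Fact.mk hq) Q)
      (hn hp P) (IsPGroup.disjoint_of_ne q p hqp _ _ Q.isPGroup' P.isPGroup') u x hu hx).symm.eq
  have hd : (P : Subgroup G).index ∣ Nat.card C := hcop.dvd_of_dvd_mul_right
    (by rw [Subgroup.card_mul_index]; exact Subgroup.index_dvd_card _)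
  refine Nat.Coprime.dvd_of_dvd_mul_left ?_ (hmul ▸ hd)
  obtain ⟨k, hk⟩ := IsPGroup.iff_card.1 (P.isPGroup'.to_le
    (inf_le_left : (P : Subgroup G) ⊓ Subgroup.center G ≤ P))
  rw [hk]
  exact Nat.Coprime.pow_right k (hp.out.coprime_iff_not_dvd.2 P.not_dvd_index).symm

omit hp in
theorem mem_freeSet_mul {x z : G} (hz : z ∈ Subgroup.center G) :
    (x * z ∈ freeSet G p ↔ x ∈ freeSet G p) ∧
      Subgroup.centralizer ({x * z} : Set G) = Subgroup.centralizer ({x} : Set G) := by
  have h : Subgroup.centralizer ({x * z} : Set G) = Subgroup.centralizer ({x} : Set G) := by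
    ext g
    rw [Subgroup.mem_centralizer_singleton_iff, Subgroup.mem_centralizer_singleton_iff]
    rw [← mul_assoc, mul_assoc x z g, ← Subgroup.mem_center_iff.1 hz g, ← mul_assoc]
    exact mul_left_inj z
  refine ⟨?_, h⟩
  show ¬ p ∣ _ ↔ ¬ p ∣ _
  rw [card_carrier, card_carrier, h]

/-- An element with class size prime to `p` is central over the centre only if central. -/
theorem eq_of_conj_eq_mul {x z u : G} (hx : x ∈ freeSet G p) (hz : z ∈ Subgroup.center G)
    {k : ℕ} (hu : u ^ p ^ k = 1) (h : u * x * u⁻¹ = x * z) : u * x = x * u := by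
  set C := Subgroup.centralizer ({x} : Set G) with hC
  have hN : u ∈ Subgroup.normalizer (C : Set G) := by
    rw [Subgroup.mem_normalizer_iff]
    intro n
    have e : Subgroup.centralizer ({x * z} : Set G) = C := (mem_freeSet_mul (p := p) hz).2
    conv_rhs => rw [← e, Subgroup.mem_centralizer_singleton_iff, ← h]
    rw [hC, Subgroup.mem_centralizer_singleton_iff]
    simp only [← mul_assoc, inv_mul_cancel_right, mul_left_inj]
    simp only [mul_assoc, mul_right_inj]
  set N := Subgroup.normalizer (C : Set G) with hNdef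
  haveI : (C.subgroupOf N).Normal := Subgroup.normal_in_normalizer
  have h1 : orderOf ((⟨u, hN⟩ : N) : N ⧸ C.subgroupOf N) ∣ p ^ k := by
    refine orderOf_dvd_of_pow_eq_one ?_
    rw [← QuotientGroup.mk_pow, show (⟨u, hN⟩ : N) ^ p ^ k = 1 from Subtype.ext (by simpa using hu),
      QuotientGroup.mk_one]
  have h2 : orderOf ((⟨u, hN⟩ : N) : N ⧸ C.subgroupOf N) ∣ C.index :=
    (orderOf_dvd_natCard _).trans (Subgroup.relIndex_dvd_index_of_le Subgroup.le_normalizer)
  have hcop : Nat.Coprime (p ^ k) C.index := by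
    refine Nat.Coprime.pow_left k (hp.out.coprime_iff_not_dvd.2 ?_)
    rw [hC, ← card_carrier]
    exact hx
  have h3 := QuotientGroup.eq_one_iff _ |>.1 (orderOf_eq_one_iff.1 (Nat.eq_one_of_dvd_coprimes hcop h1 h2))
  exact Subgroup.mem_centralizer_singleton_iff.1 h3

/-- The centralizer of a Sylow subgroup has index at most its order over the central part, and the
free set has the size forced in the nilpotent case only if the subgroup is normal. -/
theorem normal_of_card_free (P : Sylow p G)
    (hX : Nat.card (freeSet G p) = (P : Subgroup G).index * Nat.card ↥((P : Subgroup G) ⊓ Subgroup.center G)) :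
    (P : Subgroup G).Normal := by
  classical
  set C := Subgroup.centralizer ((P : Subgroup G) : Set G) with hC
  set Zp := (P : Subgroup G) ⊓ Subgroup.center G with hZp
  haveI hZn : Zp.Normal := ⟨fun z hz g => by
    rwa [Subgroup.mem_center_iff.1 hz.2 g, mul_inv_cancel_right]⟩
  have hZC : Zp ≤ C := inf_le_right.trans (Subgroup.center_le_centralizer _)
  have hCX : ∀ x ∈ C, x ∈ freeSet G p := fun x hx => (mem_freeSet_iff P x).2
    ⟨1, by rw [inv_one, one_mul, mul_one]; exact hx⟩
  -- the image of the free set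
  set Y : Set (G ⧸ Zp) := QuotientGroup.mk '' freeSet G p with hY
  have hpre : QuotientGroup.mk ⁻¹' Y = freeSet G p := by
    ext x
    refine ⟨?_, fun h => ⟨x, h, rfl⟩⟩
    rintro ⟨y, hy, hxy⟩
    have h1 : y⁻¹ * x ∈ Zp := QuotientGroup.eq.1 hxy
    have h2 := (mem_freeSet_mul (p := p) (x := y) h1.2).1.2 hy
    rwa [mul_inv_cancel_left] at h2
  have hcardY : Nat.card Y = (P : Subgroup G).index := by
    have h1 := Nat.card_congr (QuotientGroup.preimageMkEquivSubgroupProdSet Zp Y)
    rw [Nat.card_prod, Nat.card_congr (Equiv.setCongr hpre), hX, mul_comm (Nat.card Zp)] at h1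
    exact (Nat.eq_of_mul_eq_mul_right Nat.card_pos h1).symm
  letI act : MulAction (P : Subgroup G) Y :=
    { smul := fun u y => ⟨(u.1 : G ⧸ Zp) * y.1 * (u.1 : G ⧸ Zp)⁻¹, by
        obtain ⟨x, hx, he⟩ := y.2
        refine ⟨u.1 * x * u.1⁻¹, ?_, by rw [← he]; rfl⟩
        show ¬ p ∣ _
        rw [show ConjClasses.mk (u.1 * x * u.1⁻¹) = ConjClasses.mk x from
          ConjClasses.mk_eq_mk_iff_isConj.2 (isConj_iff.2 ⟨u.1, rfl⟩).symm]
        exact hx⟩
      one_smul := fun y => Subtype.ext (by
        show ((1 : G) : G ⧸ Zp) * y.1 * ((1 : G) : G ⧸ Zp)⁻¹ = y.1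
        simp)
      mul_smul := fun u v y => Subtype.ext (by
        show ((u.1 * v.1 : G) : G ⧸ Zp) * y.1 * ((u.1 * v.1 : G) : G ⧸ Zp)⁻¹ =
          (u.1 : G ⧸ Zp) * ((v.1 : G ⧸ Zp) * y.1 * (v.1 : G ⧸ Zp)⁻¹) * (u.1 : G ⧸ Zp)⁻¹
        rw [QuotientGroup.mk_mul]
        group) }
  have hfix : ∀ y : Y, (∀ u : (P : Subgroup G), u • y = y) ↔ y.1 ∈ QuotientGroup.mk '' (C : Set G) := by
    intro y
    obtain ⟨x, hx, he⟩ := y.2
    constructor
    · intro hu
      refine ⟨x, Subgroup.mem_centralizer_iff.2 fun u huP => ?_, he⟩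
      have h1 : ((u * x * u⁻¹ : G) : G ⧸ Zp) = (x : G ⧸ Zp) := by
        have h2 : (u : G ⧸ Zp) * y.1 * (u : G ⧸ Zp)⁻¹ = y.1 := congrArg Subtype.val (hu ⟨u, huP⟩)
        rw [← he] at h2
        exact h2
      have h3 : x⁻¹ * (u * x * u⁻¹) ∈ Zp := QuotientGroup.eq.1 h1.symm
      obtain ⟨k, hk⟩ := P.isPGroup' ⟨u, huP⟩
      exact eq_of_conj_eq_mul hx h3.2 (congrArg Subtype.val hk) (by rw [mul_inv_cancel_left])
    · rintro ⟨c, hc, hce⟩ u
      refine Subtype.ext ?_
      show (u.1 : G ⧸ Zp) * y.1 * (u.1 : G ⧸ Zp)⁻¹ = y.1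
      rw [← hce]
      show ((u.1 * c * u.1⁻¹ : G) : G ⧸ Zp) = (c : G ⧸ Zp)
      rw [Subgroup.mem_centralizer_iff.1 hc u.1 u.2, mul_inv_cancel_right]
  set F : Set (G ⧸ Zp) := QuotientGroup.mk '' (C : Set G) with hF
  have hFix : Nat.card (MulAction.fixedPoints (P : Subgroup G) Y) = Nat.card F := by
    refine Nat.card_congr
      { toFun := fun y => ⟨y.1.1, (hfix y.1).1 y.2⟩
        invFun := fun f => ⟨⟨f.1, Set.image_mono hCX f.2⟩, (hfix _).2 f.2⟩
        left_inv := fun y => rfl
        right_inv := fun f => rfl }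
  have hFC : Nat.card C = Nat.card Zp * Nat.card F := by
    have h1 : QuotientGroup.mk ⁻¹' F = (C : Set G) := by
      ext x
      refine ⟨?_, fun h => ⟨x, h, rfl⟩⟩
      rintro ⟨y, hy, hxy⟩
      have := C.mul_mem hy (hZC (QuotientGroup.eq.1 hxy))
      rwa [mul_inv_cancel_left] at this
    rw [← Nat.card_prod, ← Nat.card_congr (QuotientGroup.preimageMkEquivSubgroupProdSet Zp F),
      Nat.card_congr (Equiv.setCongr h1)]
    rfl
  have hndvd : ¬ p ∣ Nat.card F := by
    intro h
    have h1 := IsPGroup.card_modEq_card_fixedPoints P.isPGroup' Y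
    rw [hFix, hcardY] at h1
    exact P.not_dvd_index ((Nat.ModEq.dvd_iff h1 dvd_rfl).2 h)
  -- the centre of the Sylow subgroup is central
  have hmul : ∀ H : Subgroup G, Nat.card ↥((P : Subgroup G) ⊓ H) * (P : Subgroup G).relIndex H = Nat.card H := by
    intro H
    rw [← Subgroup.inf_relIndex_right (P : Subgroup G) H, ← Subgroup.relIndex_bot_left,
      ← Subgroup.relIndex_bot_left (H := H)]
    exact Subgroup.relIndex_mul_relIndex _ _ _ bot_le inf_le_right
  have hPC : Nat.card ↥((P : Subgroup G) ⊓ C) = Nat.card Zp := by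
    have hle : Zp ≤ (P : Subgroup G) ⊓ C := le_inf inf_le_left hZC
    obtain ⟨a, ha⟩ := IsPGroup.iff_card.1 (P.isPGroup'.to_le (inf_le_left : (P : Subgroup G) ⊓ C ≤ P))
    obtain ⟨b, hb⟩ := IsPGroup.iff_card.1 (P.isPGroup'.to_le (inf_le_left : Zp ≤ P))
    have hd := Subgroup.card_dvd_of_le hle
    rw [ha, hb] at hd
    have hba : b ≤ a := (Nat.pow_dvd_pow_iff_le_right hp.out.one_lt).1 hd
    have h1 := hmul C
    rw [hFC, ha, hb] at h1
    rcases Nat.lt_or_ge b a with hlt | hge
    · exfalso
      obtain ⟨c, rfl⟩ := Nat.exists_eq_add_of_lt hlt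
      rw [show b + c + 1 = b + (c + 1) from rfl, pow_add, mul_assoc] at h1
      have h2 := Nat.eq_of_mul_eq_mul_left (pow_pos hp.out.pos b) h1
      refine hndvd ?_
      rw [← h2]
      exact Dvd.dvd.mul_right (dvd_pow_self p (Nat.succ_ne_zero c)) _
    · rw [ha, hb, le_antisymm hge hba]
  -- counting the conjugates
  set N := Subgroup.normalizer ((P : Subgroup G) : Set G) with hN
  have hCN : C ≤ N := Subgroup.centralizer_le_normalizer _
  have hrel : (P : Subgroup G).relIndex C ≤ (P : Subgroup G).relIndex N :=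
    Subgroup.relIndex_le_of_le_right hCN Subgroup.index_ne_zero_of_finite
  have hidx : (P : Subgroup G).relIndex N * N.index = (P : Subgroup G).index :=
    Subgroup.relIndex_mul_index Subgroup.le_normalizer
  have hlow : N.index * Nat.card C ≤ Nat.card (freeSet G p) := by
    rw [hX, ← hmul C, hPC, ← hidx]
    nlinarith [Nat.mul_le_mul_left (Nat.card Zp * N.index) hrel]
  have hcov : (freeSet G p \ {1}).ncard ≤ N.index * ((C : Set G) \ {1}).ncard := by
    rw [← Nat.card_coe_set_eq, ← Nat.card_coe_set_eq, Subgroup.index, ← Nat.card_prod]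
    have h : ∀ x : ↥(freeSet G p \ {1}), ∃ q : (G ⧸ N) × ↥((C : Set G) \ {1}),
        q.1.out * q.2.1 * q.1.out⁻¹ = x.1 := by
      intro x
      obtain ⟨g, hg⟩ := (mem_freeSet_iff P x.1).1 x.2.1
      obtain ⟨n, hn⟩ := QuotientGroup.mk_out_eq_mul N g
      have hnC : (n.1)⁻¹ * (g⁻¹ * x.1 * g) * n.1 ∈ C := by
        rw [hC, Subgroup.mem_centralizer_iff]
        intro u hu
        have hu' : n.1 * u * n.1⁻¹ ∈ (P : Subgroup G) := (Subgroup.mem_normalizer_iff.1 n.2 u).1 hu
        have h2 := Subgroup.mem_centralizer_iff.1 hg _ hu'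
        calc u * (n.1⁻¹ * (g⁻¹ * x.1 * g) * n.1) =
            n.1⁻¹ * ((n.1 * u * n.1⁻¹) * (g⁻¹ * x.1 * g)) * n.1 := by group
          _ = n.1⁻¹ * ((g⁻¹ * x.1 * g) * (n.1 * u * n.1⁻¹)) * n.1 := by rw [h2]
          _ = n.1⁻¹ * (g⁻¹ * x.1 * g) * n.1 * u := by group
      refine ⟨((g : G ⧸ N), ⟨n.1⁻¹ * (g⁻¹ * x.1 * g) * n.1, hnC, ?_⟩), ?_⟩
      · intro h1
        refine x.2.2 ?_
        rw [Set.mem_singleton_iff] at h1 ⊢
        calc x.1 = g * n.1 * (n.1⁻¹ * (g⁻¹ * x.1 * g) * n.1) * (g * n.1)⁻¹ := by group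
          _ = 1 := by rw [h1]; group
      · show (g : G ⧸ N).out * (n.1⁻¹ * (g⁻¹ * x.1 * g) * n.1) * (g : G ⧸ N).out⁻¹ = x.1
        rw [hn]
        group
    choose f hf using h
    exact Nat.card_le_card_of_injective f fun x y hxy => Subtype.ext (by rw [← hf x, ← hf y, hxy])
  have h1X : (1 : G) ∈ freeSet G p := hCX 1 C.one_mem
  have e1 := Set.ncard_diff_singleton_add_one h1X
  have e2 := Set.ncard_diff_singleton_add_one (show (1 : G) ∈ (C : Set G) from C.one_mem)
  rw [← Nat.card_coe_set_eq (freeSet G p)] at e1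
  rw [← Nat.card_coe_set_eq (C : Set G)] at e2
  have hN1 : N.index = 1 := by
    have hpos : 0 < N.index := Nat.pos_of_ne_zero Subgroup.index_ne_zero_of_finite
    have e2' : ((C : Set G) \ {1}).ncard + 1 = Nat.card C := e2
    nlinarith [hlow, hcov, e1, e2']
  exact Subgroup.normalizer_eq_top_iff.1 (Subgroup.index_eq_one.1 hN1)

omit hp in
/-- A finite group with as many classes of each size as a nilpotent group is nilpotent. -/
theorem nilpotent_of_numClasses {H : Type*} [Group H] [Finite H] (hH : Group.IsNilpotent H)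
    (h : ∀ k, numClasses G k = numClasses H k) : Group.IsNilpotent G := by
  classical
  letI := Fintype.ofFinite (ConjClasses G)
  letI := Fintype.ofFinite (ConjClasses H)
  set N := Nat.card G + Nat.card H + 1 with hN
  have hsum : ∀ (P : ℕ → Prop) [DecidablePred P],
      Nat.card {x : G // P (Nat.card (ConjClasses.mk x).carrier)} =
        Nat.card {x : H // P (Nat.card (ConjClasses.mk x).carrier)} := by
    intro P _
    rw [sum_classes, sum_classes, sum_filter_eq (fun k => if P k then k else 0) (N := N) (by omega),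
      sum_filter_eq (fun k => if P k then k else 0) (N := N) (by omega)]
    simp only [h]
  have hcard : Nat.card G = Nat.card H := by
    have := hsum (fun _ => True)
    rwa [Nat.card_congr (Equiv.subtypeUnivEquiv fun x : G => trivial),
      Nat.card_congr (Equiv.subtypeUnivEquiv fun x : H => trivial)] at this
  have hn : ∀ (p : ℕ) (_ : Fact p.Prime) (P : Sylow p G), (P : Subgroup G).Normal := by
    intro p _ P
    obtain ⟨R⟩ : Nonempty (Sylow p H) := inferInstance
    refine normal_of_card_free P ?_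
    have h1 : Nat.card (freeSet G p) = Nat.card (freeSet H p) := hsum (fun k => ¬ p ∣ k)
    haveI := hH
    rw [h1, card_free_nilpotent R, central_part R, central_part P, card_center_eq, card_center_eq, h 1]
    congr 1
    have e1 := Subgroup.card_mul_index (P : Subgroup G)
    have e2 := Subgroup.card_mul_index (R : Subgroup H)
    rw [Sylow.card_eq_multiplicity, hcard] at e1
    rw [Sylow.card_eq_multiplicity] at e2
    exact Nat.eq_of_mul_eq_mul_left (pow_pos (Nat.Prime.pos Fact.out) _) (e2.trans e1.symm)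
  exact ((Group.isNilpotent_of_finite_tfae (G := G)).out 0 3).2 hn

end Cfsg.Agent.Solv.ClassCount
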