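import Cfsg.Agent.Lib.Solv.Cores
import Cfsg.Agent.Lib.Solv.Zipper
import Cfsg.Agent.Lib.Fusion.NPC
import Cfsg.Agent.Lib.Fusion.WeakClosedTools
import Cfsg.Agent.Lib.Local.TypePBasic

/-!
The criterion for nilpotency of a term of the lower central series by the orders of products of
commutator values of coprime order.
-/

set_option autoImplicit false
set_option linter.unusedSectionVars false
set_option linter.style.haveILetI false

namespace Cfsg.Agent.Solv.CommVal

open Cfsg
open scoped commutatorElement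
open Cfsg.Agent.Fusion (SylIn cj exists_sylIn)

universe u v

variable {G : Type u} [Group G] {H : Type v} [Group H] {k : ℕ}

/-- The values of the left normed commutator of length `k + 1`. -/
def Val : ℕ → Set G
  | 0 => Set.univ
  | k + 1 => {x | ∃ a ∈ Val k, ∃ b : G, ⁅a, b⁆ = x}

theorem val_iff : ∀ (k : ℕ) (x : G), x ∈ Val k ↔ ∃ f : Fin (k + 1) → G,
    x = ((List.ofFn f).tail).foldl (fun a b => a * b * a⁻¹ * b⁻¹) (f 0)
  | 0, x => ⟨fun _ => ⟨fun _ => x, by simp⟩, fun _ => Set.mem_univ _⟩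
  | k + 1, x => by
    have key : ∀ f : Fin (k + 2) → G, ((List.ofFn f).tail).foldl (fun a b => a * b * a⁻¹ * b⁻¹) (f 0) =
        ⁅((List.ofFn (fun i : Fin (k + 1) => f i.castSucc)).tail).foldl (fun a b => a * b * a⁻¹ * b⁻¹)
          ((fun i : Fin (k + 1) => f i.castSucc) 0), f (Fin.last (k + 1))⁆ := fun f => by
      conv_lhs => rw [List.ofFn_succ, List.tail_cons, List.ofFn_succ', List.concat_eq_append, List.foldl_append]
      rw [List.ofFn_succ (f := fun i : Fin (k + 1) => f i.castSucc), List.tail_cons]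
      simp only [List.foldl_cons, List.foldl_nil, commutatorElement_def, Fin.succ_last, Fin.castSucc_zero, Fin.succ_castSucc]
    constructor
    · rintro ⟨a, ha, b, rfl⟩
      obtain ⟨g, rfl⟩ := (val_iff k a).1 ha
      refine ⟨Fin.snoc g b, ?_⟩
      rw [key]
      simp [Fin.snoc_last]
    · rintro ⟨f, rfl⟩
      rw [key]
      exact ⟨_, (val_iff k _).2 ⟨fun i => f i.castSucc, rfl⟩, _, rfl⟩

theorem val_map (f : G →* H) : ∀ (k : ℕ) {x : G}, x ∈ Val k → f x ∈ Val (G := H) k
  | 0, _, _ => Set.mem_univ _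
  | k + 1, _, ⟨a, ha, b, hb⟩ => ⟨f a, val_map f k ha, f b, by rw [← map_commutatorElement, hb]⟩

theorem val_lift (f : G →* H) (hf : Function.Surjective f) :
    ∀ (k : ℕ) {y : H}, y ∈ Val k → ∃ x ∈ Val (G := G) k, f x = y
  | 0, y, _ => ⟨_, Set.mem_univ _, (hf y).choose_spec⟩
  | k + 1, _, ⟨a, ha, b, hb⟩ => by
    obtain ⟨x, hx, rfl⟩ := val_lift f hf k ha
    obtain ⟨z, rfl⟩ := hf b
    exact ⟨⁅x, z⁆, ⟨x, hx, z, rfl⟩, by rw [map_commutatorElement, hb]⟩

theorem val_conj {x : G} (hx : x ∈ Val k) (g : G) : g * x * g⁻¹ ∈ Val k :=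
  val_map (MulAut.conj g).toMonoidHom k hx

theorem val_succ : ∀ (k : ℕ) {x : G}, x ∈ Val (k + 1) → x ∈ Val k
  | 0, _, _ => Set.mem_univ _
  | k + 1, _, ⟨a, ha, b, hb⟩ => ⟨a, val_succ k ha, b, hb⟩

theorem val_comm {a : G} (ha : a ∈ Val k) (b : G) : ⁅a, b⁆ ∈ Val k := val_succ k ⟨a, ha, b, rfl⟩

theorem val_mem_lcs : ∀ (k : ℕ) {x : G}, x ∈ Val k → x ∈ (⊤ : Subgroup G).lowerCentralSeries k
  | 0, _, _ => Subgroup.mem_top _
  | k + 1, _, ⟨a, ha, b, hb⟩ => hb ▸ Subgroup.commutator_mem_commutator (val_mem_lcs k ha) (Subgroup.mem_top b)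

/-- The values generate the term of the lower central series. -/
theorem lcs_le : ∀ k : ℕ, (⊤ : Subgroup G).lowerCentralSeries k ≤ Subgroup.closure (Val k)
  | 0 => fun x _ => Subgroup.subset_closure (Set.mem_univ x)
  | k + 1 => by
    set N := Subgroup.closure (Val (G := G) (k + 1)) with hNdef
    haveI : N.Normal := ⟨fun n hn g => by
      refine Subgroup.closure_induction (p := fun y _ => g * y * g⁻¹ ∈ N)
        (fun y hy => Subgroup.subset_closure (val_conj hy g)) (by simp)
        (fun a b _ _ ha hb => ?_) (fun a _ ha => ?_) hn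
      · simpa [mul_assoc] using mul_mem ha hb
      · simpa [mul_assoc] using inv_mem ha⟩
    have h1 : Subgroup.closure (Val (G := G) k) ≤ (Subgroup.center (G ⧸ N)).comap (QuotientGroup.mk' N) :=
      (Subgroup.closure_le _).2 fun a ha => Subgroup.mem_center_iff.2 fun y => by
        obtain ⟨b, rfl⟩ := QuotientGroup.mk'_surjective N y
        have h2 : ⁅QuotientGroup.mk' N a, QuotientGroup.mk' N b⁆ = 1 := by
          rw [← map_commutatorElement]
          exact (QuotientGroup.eq_one_iff _).2 (Subgroup.subset_closure ⟨a, ha, b, rfl⟩)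
        exact (commutatorElement_eq_one_iff_mul_comm.1 h2).symm
    rw [Subgroup.lowerCentralSeries_succ, Subgroup.commutator_le]
    intro a ha b _
    have h3 := Subgroup.mem_center_iff.1 (h1 (lcs_le k ha)) (QuotientGroup.mk' N b)
    rw [← QuotientGroup.eq_one_iff]
    show QuotientGroup.mk' N ⁅a, b⁆ = 1
    rw [map_commutatorElement]
    exact commutatorElement_eq_one_iff_mul_comm.2 h3.symm

/-- Iterated commutators with a fixed element. -/
def eng (n a : G) : ℕ → G
  | 0 => n
  | j + 1 => ⁅eng n a j, a⁆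

theorem eng_shift (n a : G) : ∀ j, eng n a (j + 1) = eng ⁅n, a⁆ a j
  | 0 => rfl
  | j + 1 => by rw [eng, eng_shift n a j, eng]

theorem eng_val (n a : G) : ∀ j, eng n a j ∈ Val j
  | 0 => Set.mem_univ _
  | j + 1 => ⟨_, eng_val n a j, a, rfl⟩

theorem comm_mem {N : Subgroup G} {a n : G} (ha : a ∈ Subgroup.normalizer (N : Set G)) (hn : n ∈ N) :
    ⁅n, a⁆ ∈ N := by
  rw [commutatorElement_def, show n * a * n⁻¹ * a⁻¹ = n * (a * n⁻¹ * a⁻¹) by group]
  exact N.mul_mem hn ((Subgroup.mem_normalizer_iff.1 ha _).1 (N.inv_mem hn))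

theorem eng_mem {N : Subgroup G} {a n : G} (ha : a ∈ Subgroup.normalizer (N : Set G)) (hn : n ∈ N) :
    ∀ j, eng n a j ∈ N
  | 0 => hn
  | j + 1 => comm_mem ha (eng_mem ha hn j)

theorem eng_map (f : G →* H) (n a : G) : ∀ j, f (eng n a j) = eng (f n) (f a) j
  | 0 => rfl
  | j + 1 => by rw [eng, map_commutatorElement, eng_map f n a j, eng]

/-- An element acting coprimely and as an Engel element centralizes. -/
theorem engel [Finite G] {N : Subgroup G} {a : G} (ha : a ∈ Subgroup.normalizer (N : Set G))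
    (hco : (orderOf a).Coprime (Nat.card N)) :
    ∀ (j : ℕ) {n : G}, n ∈ N → eng n a j = 1 → n * a = a * n
  | 0, n, _, h => by simp [show n = 1 from h]
  | j + 1, n, hn, h => by
    have hc := engel ha hco j (comm_mem ha hn) ((eng_shift n a j).symm.trans h)
    set c := ⁅n, a⁆ with hcdef
    have he : c * a = n * a * n⁻¹ := by rw [hcdef, commutatorElement_def]; group
    have h1 : c ^ orderOf a = 1 := by
      have h2 : (c * a) ^ orderOf a = 1 := by
        rw [he, conj_pow, pow_orderOf_eq_one]; group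
      rwa [(show Commute c a from hc).mul_pow, pow_orderOf_eq_one, mul_one] at h2
    have h3 : c = 1 := orderOf_eq_one_iff.1 (Nat.eq_one_of_dvd_coprimes hco (orderOf_dvd_of_pow_eq_one h1)
      (Subgroup.orderOf_dvd_natCard N (comm_mem ha hn)))
    exact commutatorElement_eq_one_iff_mul_comm.1 h3

/-- The same modulo the kernel of a homomorphism. -/
theorem engel_map [Finite G] [Finite H] (f : G →* H) {N : Subgroup G} {a : G}
    (ha : a ∈ Subgroup.normalizer (N : Set G)) (hco : (orderOf a).Coprime (Nat.card N)) (j : ℕ) {n : G}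
    (hn : n ∈ N) (h : f (eng n a j) = 1) : f n * f a = f a * f n := by
  refine engel (N := N.map f) (a := f a) (Subgroup.le_normalizer_map f ⟨a, ha, rfl⟩)
    ((hco.coprime_dvd_left (orderOf_map_dvd f a)).coprime_dvd_right (Subgroup.card_map_dvd N f)) j
    (Subgroup.mem_map_of_mem f hn) ?_
  rw [← eng_map, h]

/-- The condition on products of values of coprime order. -/
def Cond (k : ℕ) (G : Type u) [Group G] : Prop :=
  ∀ x y : G, x ∈ Val k → y ∈ Val k → (orderOf x).Coprime (orderOf y) →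
    (∀ r : ℕ, r.Prime → r ∣ orderOf x * orderOf y → r ∣ orderOf (x * y)) ∨ orderOf x * orderOf y ≤ orderOf (x * y)

theorem Cond.of_injective (hC : Cond k H) (f : G →* H) (hf : Function.Injective f) : Cond k G :=
  fun x y hx hy h => by
    have := hC (f x) (f y) (val_map f k hx) (val_map f k hy)
    rw [← map_mul, orderOf_injective f hf, orderOf_injective f hf, orderOf_injective f hf] at this
    exact this h

/-- A value normalizing a subgroup of coprime order centralizes it. -/
theorem Cond.centralize [Finite G] (hC : Cond k G) {x : G} (hx : x ∈ Val k) {N : Subgroup G}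
    (hxN : x ∈ Subgroup.normalizer (N : Set G)) (hco : (orderOf x).Coprime (Nat.card N)) {n : G} (hn : n ∈ N) :
    n * x = x * n := by
  refine engel hxN hco (k + 1) hn ?_
  set y := eng n x (k + 1) with hy
  set m := eng n x k with hm
  have hyx : y * x = m * x * m⁻¹ := by
    rw [hy, eng, ← hm, commutatorElement_def]; group
  have hc : (orderOf y).Coprime (orderOf x) :=
    hco.symm.coprime_dvd_left (Subgroup.orderOf_dvd_natCard N (eng_mem hxN hn _))
  have hox : orderOf (y * x) = orderOf x := by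
    rw [hyx, ← MulAut.conj_apply, MulEquiv.orderOf_eq]
  by_contra hne
  have hy1 : orderOf y ≠ 1 := fun e => hne (orderOf_eq_one_iff.1 e)
  rcases hC y x (val_succ k (eng_val n x (k + 1))) hx hc with h | h <;> rw [hox] at h
  · obtain ⟨r, hr, hrd⟩ := Nat.exists_prime_and_dvd hy1
    exact hr.ne_one (Nat.eq_one_of_dvd_coprimes hc hrd (h r hr (hrd.mul_right _)))
  · have h1 := orderOf_pos y
    have h2 := orderOf_pos x
    exact hy1 (le_antisymm (Nat.le_of_mul_le_mul_right (by rwa [one_mul]) h2) h1)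

/-- A nilpotent group has a normal `p`-complement. -/
theorem hnpc_of_nilpotent [Finite G] [Group.IsNilpotent G] (p : ℕ) [Fact p.Prime] : HasNormalPComplement p G := by
  obtain ⟨S, hS⟩ := exists_sylIn (p := p) (⊤ : Subgroup G)
  refine Fusion.hnpc_of_centralize hS fun Q hQ g _ hg => Subgroup.mem_centralizer_iff.2 fun q hq => ?_
  obtain ⟨i, hi⟩ := IsPGroup.iff_orderOf.1 (hS.isPGroup.to_le hQ) ⟨q, hq⟩
  rw [Subgroup.orderOf_mk] at hi
  exact (TypePBasic.commute_of_coprime (by rw [hi]; exact Nat.Coprime.pow_left i hg.symm)).eq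

/-- A `p`-subgroup and a `p'`-element normalizing it lift along a surjection. -/
theorem exists_lift [Finite G] [Finite H] (f : G →* H) (hf : Function.Surjective f) {p : ℕ} [Fact p.Prime]
    {Q : Subgroup H} (hQ : IsPGroup p Q) {b : H} (hb : b ∈ Subgroup.normalizer (Q : Set H))
    (hbp : (orderOf b).Coprime p) :
    ∃ (P : Subgroup G) (a : G), IsPGroup p P ∧ a ∈ Subgroup.normalizer (P : Set G) ∧
      (orderOf a).Coprime (Nat.card P) ∧ f a = b ∧ P.map f = Q := by
  obtain ⟨P, hP⟩ := exists_sylIn (p := p) (Q.comap f)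
  have hPle : P.map f ≤ Q := Subgroup.map_le_iff_le_comap.2 hP.le
  have hPQ : P.map f = Q := by
    refine le_antisymm hPle (Subgroup.relIndex_eq_one.1 ?_)
    obtain ⟨i, hi⟩ := IsPGroup.iff_card.1 hQ
    obtain ⟨j, -, hj⟩ := (Nat.dvd_prime_pow Fact.out).1 (hi ▸ Subgroup.relIndex_dvd_card (P.map f) Q)
    rcases j with _ | j
    · simpa using hj
    · exfalso
      refine hP.not_dvd ((hj ▸ dvd_pow_self p (Nat.succ_ne_zero j)).trans ?_)
      have hker : f.ker ≤ Q.comap f := fun z hz => by simp [MonoidHom.mem_ker.1 hz]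
      rw [← Subgroup.map_comap_eq_self_of_surjective hf Q, Subgroup.relIndex_map_map,
        sup_eq_left.2 hker, Subgroup.map_comap_eq_self_of_surjective hf Q]
      exact Subgroup.relIndex_dvd_of_le_left _ le_sup_left
  obtain ⟨a, rfl⟩ := hf b
  have haN : a ∈ Subgroup.normalizer (Q.comap f : Set G) := Subgroup.mem_normalizer_iff.2 fun g => by
    simpa using Subgroup.mem_normalizer_iff.1 hb (f g)
  obtain ⟨x, hx, hxe⟩ := (hP.cj' haN).conj_eq hP
  rw [Fusion.cj_cj] at hxe
  obtain ⟨w, hw, hwe⟩ : ∃ w ∈ P, f w = f x := by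
    rw [← hPQ] at hx
    exact hx
  set c := w⁻¹ * (x * a) with hc
  have hcN : c ∈ Subgroup.normalizer (P : Set G) :=
    mul_mem (inv_mem (Subgroup.le_normalizer hw)) (Fusion.mem_normalizer_iff_cj.2 hxe)
  have hfc : f c = f a := by rw [hc]; simp [hwe]
  obtain ⟨i, m, hm, hco⟩ := Nat.exists_eq_pow_mul_and_not_dvd (orderOf_pos c).ne' p (Fact.out : p.Prime).ne_one
  obtain ⟨t, ht⟩ := exists_pow_eq_self_of_coprime (x := f a) (n := p ^ i) (hbp.symm.pow_left i)
  obtain ⟨l, hl⟩ := IsPGroup.iff_card.1 hP.isPGroup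
  refine ⟨P, (c ^ p ^ i) ^ t, hP.isPGroup, pow_mem (pow_mem hcN _) _, ?_, by rw [map_pow, map_pow, hfc, ht], hPQ⟩
  rw [hl]
  refine Nat.Coprime.pow_right l (Nat.Coprime.coprime_dvd_left (orderOf_pow_dvd t) ?_)
  rw [orderOf_pow_of_dvd (pow_ne_zero _ (Fact.out : p.Prime).ne_zero) (hco ▸ dvd_mul_right _ _), hco,
    Nat.mul_div_cancel_left _ (pow_pos (Fact.out : p.Prime).pos _)]
  exact ((Fact.out : p.Prime).coprime_iff_not_dvd.2 hm).symm

theorem orderOf_coprime_of_isPGroup {p : ℕ} [Fact p.Prime] {P : Subgroup G} (hP : IsPGroup p P) {x : G}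
    (hx : x ∈ P) {n : ℕ} (h : n.Coprime p) : (orderOf x).Coprime n := by
  obtain ⟨i, hi⟩ := IsPGroup.iff_orderOf.1 hP ⟨x, hx⟩
  rw [Subgroup.orderOf_mk] at hi
  rw [hi]
  exact Nat.Coprime.pow_left i h.symm

/-- In a group whose quotient by the normal nilpotent subgroup `F` has the normal `p`-subgroup `Pb`, values of
`p`-power order over `Pb` lie in the Fitting subgroup. -/
theorem Cond.mem_fitting [Finite G] (hC : Cond k G) {F : Subgroup G} [F.Normal] [Group.IsNilpotent F]
    {p : ℕ} [Fact p.Prime] {Pb : Subgroup (G ⧸ F)} [Pb.Normal] (hPb : IsPGroup p Pb) {P : Subgroup G}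
    (hP : IsPGroup p P) {x : G} (hx : x ∈ Val k) (hxP : x ∈ P) (hxb : (x : G ⧸ F) ∈ Pb) :
    x ∈ fittingSubgroup G := by
  set R : Subgroup F := pResidual p F
  have hR := Fusion.hnpc_iff.1 (hnpc_of_nilpotent (G := F) p)
  set L : Subgroup G := R.map F.subtype with hL
  have hLcard : (Nat.card L).Coprime p := by
    rwa [hL, Subgroup.card_map_of_injective F.subtype_injective]
  haveI : L.Normal := inferInstanceAs ((pResidual p F).map F.subtype).Normal
  set B := Pb.comap (QuotientGroup.mk' F) with hB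
  set K := Subgroup.centralizer (L : Set G) ⊓ B with hK
  have hFB : F ≤ B := fun y hy => by simp [hB, (QuotientGroup.eq_one_iff y).2 hy]
  have hLF : L ≤ F := Subgroup.map_subtype_le _
  haveI : K.Normal := inferInstance
  have hKn : Group.IsNilpotent K := by
    have hcard : ∃ i, (L.subgroupOf K).index = p ^ i := by
      obtain ⟨l, hl⟩ := IsPGroup.iff_card.1 hPb
      obtain ⟨S⟩ : Nonempty (Sylow p F) := inferInstance
      obtain ⟨m, hm⟩ := IsPGroup.iff_card.1 S.isPGroup'
      have h1 : L.relIndex F = p ^ m := by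
        rw [hL, Subgroup.relIndex, Subgroup.subgroupOf, Subgroup.comap_map_eq_self_of_injective F.subtype_injective,
          (Fusion.isComplement'_of_coprime_card S hR).symm.index_eq_card, hm]
      have h2 : F.relIndex B = p ^ l := by
        have h3 := Subgroup.relIndex_ker (f := QuotientGroup.mk' F) (K := B)
        rw [QuotientGroup.ker_mk', hB, Subgroup.map_comap_eq_self_of_surjective (QuotientGroup.mk'_surjective F),
          hl] at h3
        exact h3
      have h4 : L.relIndex K ∣ p ^ (m + l) := by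
        rw [pow_add, ← h1, ← h2, Subgroup.relIndex_mul_relIndex L F B hLF hFB,
          ← Subgroup.relIndex_subgroupOf (inf_le_right : K ≤ B)]
        exact Subgroup.relIndex_dvd_index_of_normal (L.subgroupOf B) (K.subgroupOf B)
      obtain ⟨i, -, hi⟩ := (Nat.dvd_prime_pow Fact.out).1 h4
      exact ⟨i, hi⟩
    obtain ⟨i, hi⟩ := hcard
    haveI : Group.IsNilpotent (↥K ⧸ L.subgroupOf K) :=
      (IsPGroup.of_card (p := p) (n := i) (by rw [← Subgroup.index_eq_card, hi])).isNilpotent
    refine Subgroup.isNilpotent_of_ker_le_center (QuotientGroup.mk' (L.subgroupOf K)) ?_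
    rw [QuotientGroup.ker_mk']
    exact fun z hz => Subgroup.mem_center_iff.2 fun y =>
      Subtype.ext (Subgroup.mem_centralizer_iff.1 y.2.1 _ hz).symm
  refine normal_le_fitting hKn ⟨Subgroup.mem_centralizer_iff.2 fun n hn => ?_, hxb⟩
  exact hC.centralize hx (Subgroup.normalizer_eq_top_iff.2 ‹L.Normal› ▸ Subgroup.mem_top x)
    (orderOf_coprime_of_isPGroup hP hxP hLcard) hn

/-- A group whose quotient by the Fitting subgroup is nilpotent has nilpotent `γ_k`. -/
theorem Cond.lcs_le_fitting [Finite G] (hC : Cond k G) (hn : haveI := fittingSubgroup_normal (G := G)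
    Group.IsNilpotent (G ⧸ fittingSubgroup G)) :
    (⊤ : Subgroup G).lowerCentralSeries k ≤ fittingSubgroup G := by
  haveI := fittingSubgroup_normal (G := G)
  haveI := fittingSubgroup_nilpotent (G := G)
  set F := fittingSubgroup G with hF
  haveI : Group.IsNilpotent (G ⧸ F) := hn
  refine (lcs_le k).trans ((Subgroup.closure_le _).2 fun x hx => ?_)
  rw [SetLike.mem_coe, ← QuotientGroup.eq_one_iff, ← orderOf_eq_one_iff]
  by_contra hne
  obtain ⟨p, hp, hpd⟩ := Nat.exists_prime_and_dvd hne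
  haveI := Fact.mk hp
  have hN := hnpc_of_nilpotent (G := G ⧸ F) p
  set N := pResidual p (G ⧸ F) with hNdef
  obtain ⟨T⟩ : Nonempty (Sylow p (G ⧸ F)) := inferInstance
  haveI : (T : Subgroup (G ⧸ F)).Normal :=
    T.normal_of_normalizerCondition Group.normalizerCondition_of_isNilpotent
  obtain ⟨P, -, hP, -, -, -, hPT⟩ := exists_lift (QuotientGroup.mk' F) (QuotientGroup.mk'_surjective F)
    T.isPGroup' (b := 1) (one_mem _) (by simp)
  let φ : P →* (G ⧸ F) ⧸ N := ((QuotientGroup.mk' N).comp (QuotientGroup.mk' F)).comp P.subtype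
  have hφ : Function.Surjective φ := by
    intro y
    obtain ⟨z, rfl⟩ := QuotientGroup.mk'_surjective N y
    obtain ⟨⟨n, t⟩, hnt⟩ := (Fusion.isComplement'_of_coprime_card T (Fusion.hnpc_iff.1 hN)).surjective z
    obtain ⟨w, hw, hwt⟩ : (t : G ⧸ F) ∈ P.map (QuotientGroup.mk' F) := by rw [hPT]; exact t.2
    refine ⟨⟨w, hw⟩, ?_⟩
    show QuotientGroup.mk' N (QuotientGroup.mk' F w) = _
    rw [hwt, ← hnt, map_mul, show QuotientGroup.mk' N (n : G ⧸ F) = 1 from (QuotientGroup.eq_one_iff _).2 n.2,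
      one_mul]
  obtain ⟨w, hw, hwe⟩ := val_lift φ hφ k
    (val_map ((QuotientGroup.mk' N).comp (QuotientGroup.mk' F)) k hx)
  have hwF : (w : G) ∈ F := hC.mem_fitting (Pb := (T : Subgroup (G ⧸ F))) T.isPGroup' hP (val_map P.subtype k hw)
    w.2 (hPT ▸ Subgroup.mem_map_of_mem _ w.2)
  have hxN : (x : G ⧸ F) ∈ N := by
    rw [← QuotientGroup.eq_one_iff]
    show (QuotientGroup.mk' N) (QuotientGroup.mk' F x) = 1
    rw [← MonoidHom.comp_apply, ← hwe]
    show QuotientGroup.mk' N (QuotientGroup.mk' F w) = 1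
    rw [show QuotientGroup.mk' F (w : G) = 1 from (QuotientGroup.eq_one_iff _).2 hwF, map_one]
  exact hp.ne_one (Nat.eq_one_of_dvd_coprimes ((Fusion.hnpc_mem_iff hN).1 hxN) hpd dvd_rfl)

end Cfsg.Agent.Solv.CommVal
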