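import Cfsg.Agent.Lib.Solv.CommValues
import Cfsg.Agent.Lib.Solv.Basic

/-!
The induction for the criterion of nilpotency of a term of the lower central series.
-/

set_option autoImplicit false
set_option linter.unusedSectionVars false
set_option linter.style.haveILetI false

namespace Cfsg.Agent.Solv.CommVal

open Cfsg
open scoped commutatorElement

universe u

variable {G : Type u} [Group G] {k : ℕ}

theorem exists_normal_prime_index [Finite G] [Nontrivial G] [Group.IsSolvable G] :
    ∃ M : Subgroup G, M.Normal ∧ M.index.Prime := by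
  obtain ⟨M, hM, hle⟩ := (eq_top_or_exists_le_coatom (commutator G)).resolve_left
    (Group.IsSolvable.commutator_lt_top_of_nontrivial G).ne
  haveI : M.Normal := ⟨fun n hn g => by
    rw [show g * n * g⁻¹ = ⁅g, n⁆ * n by rw [commutatorElement_def]; group]
    exact M.mul_mem (hle (Subgroup.commutator_mem_commutator (Subgroup.mem_top g) (Subgroup.mem_top n))) hn⟩
  haveI : Nontrivial (G ⧸ M) := by
    rw [← Finite.one_lt_card_iff_nontrivial, ← Subgroup.index_eq_card]
    have h1 : M.index ≠ 1 := fun h => hM.1 (Subgroup.index_eq_one.1 h)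
    have h2 : M.index ≠ 0 := Subgroup.index_ne_zero_of_finite
    omega
  haveI : IsSimpleGroup (G ⧸ M) := ⟨fun N _ => by
    have h1 : M ≤ N.comap (QuotientGroup.mk' M) := fun y hy => by
      simp [(QuotientGroup.eq_one_iff y).2 hy]
    rw [← Subgroup.map_comap_eq_self_of_surjective (QuotientGroup.mk'_surjective M) N]
    rcases hM.le_iff.1 h1 with h | h
    · right; rw [h, ← MonoidHom.range_eq_map, MonoidHom.range_eq_top.2 (QuotientGroup.mk'_surjective M)]
    · left; rw [h]; exact QuotientGroup.map_mk'_self M⟩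
  letI : CommGroup (G ⧸ M) := { (inferInstance : Group (G ⧸ M)) with
    mul_comm := IsSimpleGroup.comm_iff_isSolvable.2
      (Group.isSolvable_of_surjective (QuotientGroup.mk'_surjective M)) }
  exact ⟨M, inferInstance, by rw [Subgroup.index_eq_card]; exact IsSimpleGroup.prime_card⟩

theorem isNilpotent_quotient_lcs (N : Subgroup G) [N.Normal]
    (h : (⊤ : Subgroup G).lowerCentralSeries k ≤ N) : Group.IsNilpotent (G ⧸ N) := by
  refine Subgroup.nilpotent_iff_lowerCentralSeries.2 ⟨k, le_bot_iff.1 ?_⟩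
  rw [← Subgroup.map_top_of_surjective _ (QuotientGroup.mk'_surjective N), ← Subgroup.map_lowerCentralSeries]
  exact (Subgroup.map_mono h).trans (QuotientGroup.map_mk'_self N).le

theorem solvable_of_lcs_nilpotent (h : Group.IsNilpotent ((⊤ : Subgroup G).lowerCentralSeries k)) :
    Group.IsSolvable G := by
  set N := (⊤ : Subgroup G).lowerCentralSeries k
  haveI := h
  haveI := isNilpotent_quotient_lcs (k := k) N le_rfl
  exact (Group.isSolvable_iff_subgroup_quotient N).2 ⟨inferInstance, inferInstance⟩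

/-- The solvable case. -/
theorem Cond.of_solvable [Finite G] [Group.IsSolvable G] (hC : Cond k G)
    (hprop : ∀ M : Subgroup G, M ≠ ⊤ → Group.IsNilpotent (M.lowerCentralSeries k)) :
    Group.IsNilpotent ((⊤ : Subgroup G).lowerCentralSeries k) := by
  haveI := fittingSubgroup_normal (G := G)
  haveI := fittingSubgroup_nilpotent (G := G)
  refine Solv.isNilpotent_of_le (hC.lcs_le_fitting ?_) inferInstance
  set F := fittingSubgroup G with hF
  set Q := G ⧸ F
  rcases subsingleton_or_nontrivial Q with hs | hs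
  · infer_instance
  haveI : Group.IsSolvable Q := Group.isSolvable_of_surjective (QuotientGroup.mk'_surjective F)
  obtain ⟨Mb, hMb, hq⟩ := exists_normal_prime_index (G := Q)
  haveI := hMb
  set M := Mb.comap (QuotientGroup.mk' F) with hM
  have hMne : M ≠ ⊤ := fun h => hq.ne_one (by
    rw [← Subgroup.map_comap_eq_self_of_surjective (QuotientGroup.mk'_surjective F) Mb, ← hM, h,
      Subgroup.map_top_of_surjective _ (QuotientGroup.mk'_surjective F), Subgroup.index_top])
  have hJn : ∀ j, (M.lowerCentralSeries j).Normal := fun j => by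
    induction j with
    | zero => exact inferInstanceAs M.Normal
    | succ j ih => haveI := ih; rw [Subgroup.lowerCentralSeries_succ]; infer_instance
  haveI := hJn k
  have hJF : M.lowerCentralSeries k ≤ F := normal_le_fitting (hprop M hMne)
  haveI : Group.IsNilpotent Mb := by
    refine (Subgroup.isNilpotent_iff_lowerCentralSeries Mb).2 ⟨k, le_bot_iff.1 ?_⟩
    rw [← Subgroup.map_comap_eq_self_of_surjective (QuotientGroup.mk'_surjective F) Mb, ← hM,
      ← Subgroup.map_lowerCentralSeries]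
    exact (Subgroup.map_mono hJF).trans (QuotientGroup.map_mk'_self F).le
  set q := Mb.index
  haveI := Fact.mk hq
  have hsyl : ∀ p : ℕ, ∀ [Fact p.Prime], p ≠ q → ∃ S : Sylow p Q, (S : Subgroup Q).Normal := by
    intro p hp hpq
    obtain ⟨S⟩ : Nonempty (Sylow p Mb) := inferInstance
    haveI : (S : Subgroup Mb).Characteristic := S.characteristic_of_normal
      (S.normal_of_normalizerCondition Group.normalizerCondition_of_isNilpotent)
    have hnd : ¬ p ∣ ((S : Subgroup Mb).map Mb.subtype).index := by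
      rw [Subgroup.index_map_subtype]
      intro h
      rcases hp.out.dvd_mul.1 h with h | h
      · exact S.not_dvd_index h
      · exact hpq ((Nat.prime_dvd_prime_iff_eq hp.out hq).1 h)
    exact ⟨(S.isPGroup'.map Mb.subtype).toSylow hnd,
      map_subtype_normal_of_characteristic Mb (S : Subgroup Mb)⟩
  obtain ⟨T⟩ : Nonempty (Sylow q Q) := inferInstance
  have hT : Subgroup.normalizer ((T : Subgroup Q) : Set Q) = ⊤ := by
    refine eq_top_of_forall_sylow_le _ fun p hp => ?_
    rcases eq_or_ne p q with rfl | hpq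
    · exact ⟨T, Subgroup.le_normalizer⟩
    obtain ⟨S, hS⟩ := hsyl p hpq
    refine ⟨S, fun s hs => ?_⟩
    suffices h : ∀ b ∈ (T : Subgroup Q), s * b = b * s by
      refine Subgroup.mem_normalizer_iff.2 fun b => ⟨fun hb => ?_, fun hb => ?_⟩
      · rwa [h b hb, mul_inv_cancel_right]
      · have h1 := h _ hb
        have h2 : s * b * s⁻¹ = b := by
          apply mul_left_cancel (a := s)
          rw [h1]; group
        rwa [h2] at hb
    intro b hb
    have hbn : b ∈ Subgroup.normalizer ((S : Subgroup Q) : Set Q) :=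
      Subgroup.normalizer_eq_top_iff.2 hS ▸ Subgroup.mem_top b
    obtain ⟨j, hj⟩ := IsPGroup.iff_orderOf.1 T.isPGroup' ⟨b, hb⟩
    rw [Subgroup.orderOf_mk] at hj
    obtain ⟨P, a, hP, haN, hco, rfl, hPS⟩ := exists_lift (QuotientGroup.mk' F)
      (QuotientGroup.mk'_surjective F) S.isPGroup' hbn
      (by rw [hj]; exact Nat.Coprime.pow_left j ((Nat.coprime_primes hq hp.out).2 (Ne.symm hpq)))
    obtain ⟨h, hh, rfl⟩ : s ∈ P.map (QuotientGroup.mk' F) := by rw [hPS]; exact hs
    refine engel_map _ haN hco k hh ((QuotientGroup.eq_one_iff _).2 ?_)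
    have hx : eng h a k ∈ P := eng_mem haN hh k
    haveI := hS
    exact hC.mem_fitting S.isPGroup' hP (eng_val h a k) hx (hPS ▸ Subgroup.mem_map_of_mem _ hx)
  haveI hTn : (T : Subgroup Q).Normal := Subgroup.normalizer_eq_top_iff.1 hT
  refine (Group.isNilpotent_of_finite_tfae (G := Q)).out 3 0 |>.1 fun p hp P => ?_
  haveI := hp
  rcases eq_or_ne p q with rfl | hpq
  · haveI := Sylow.unique_of_normal T hTn
    rw [Subsingleton.elim P T]; exact hTn
  · obtain ⟨S, hS⟩ := hsyl p hpq
    haveI := Sylow.unique_of_normal S hS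
    rw [Subsingleton.elim P S]; exact hS

/-- Commutators with powers of a central commutator. -/
theorem commutator_pow_right {a b : G} (h : Commute ⁅a, b⁆ b) : ∀ n : ℕ, ⁅a, b ^ n⁆ = ⁅a, b⁆ ^ n
  | 0 => by simp [commutatorElement_def]
  | n + 1 => by
    rw [pow_succ' ⁅a, b⁆, pow_succ' b]
    have e : ⁅a, b * b ^ n⁆ = ⁅a, b⁆ * (b * ⁅a, b ^ n⁆ * b⁻¹) := by simp only [commutatorElement_def]; group
    rw [e, commutator_pow_right h n, ((h.pow_left n).symm).eq, mul_inv_cancel_right]

/-- A value of `2`-power order lifting an involution. -/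
theorem exists_involution_value [Finite G] {S : Type u} [Group S] [Finite S] (f : G →* S) {P : Subgroup G}
    (hP : IsPGroup 2 P) {a : G} (ha : a ∈ Subgroup.normalizer (P : Set G))
    (hco : (orderOf a).Coprime (Nat.card P)) {h : G} (hh : h ∈ P) (hne : f h * f a ≠ f a * f h) :
    ∃ x ∈ P, x ∈ Val k ∧ orderOf (f x) = 2 := by
  by_cases hc : ∃ w ∈ P, w ∈ Val k ∧ ∃ v ∈ P, f w * f v ≠ f v * f w
  · classical
    haveI := Fact.mk Nat.prime_two
    haveI : Group.IsNilpotent P := hP.isNilpotent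
    obtain ⟨n, hn⟩ := (Subgroup.isNilpotent_iff_lowerCentralSeries P).1 inferInstance
    let B : ℕ → Prop := fun i => ∃ w ∈ P.lowerCentralSeries i, w ∈ Val k ∧ ∃ v ∈ P, f w * f v ≠ f v * f w
    have hBn : ¬ B n := fun ⟨w, hw, _, v, _, hv⟩ => hv (by
      rw [show w = 1 by rwa [hn, Subgroup.mem_bot] at hw]; simp)
    have hex : ∃ i, ¬ B i := ⟨n, hBn⟩
    obtain ⟨i, hi⟩ : ∃ i, Nat.find hex = i + 1 := Nat.exists_eq_succ_of_ne_zero fun h0 =>
      (h0 ▸ Nat.find_spec hex : ¬ B 0) hc
    obtain ⟨w, hw, hwV, v, hv, hwv⟩ : B i := not_not.1 (Nat.find_min hex (by omega))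
    have hwP : w ∈ P := Subgroup.lowerCentralSeries_antitone (S := P) (Nat.zero_le i) hw
    have hz : ⁅w, v⁆ ∈ P.lowerCentralSeries (i + 1) := Subgroup.commutator_mem_commutator hw hv
    have hzP : ⁅w, v⁆ ∈ P := comm_mem (Subgroup.le_normalizer hv) hwP
    have hzc : Commute ⁅f w, f v⁆ (f v) := by
      rw [← map_commutatorElement]
      by_contra hne'
      exact (hi ▸ Nat.find_spec hex : ¬ B (i + 1)) ⟨_, hz, val_comm hwV v, v, hv, hne'⟩
    obtain ⟨j, hj⟩ := IsPGroup.iff_orderOf.1 hP ⟨⁅w, v⁆, hzP⟩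
    rw [Subgroup.orderOf_mk] at hj
    obtain ⟨l, -, hl⟩ := (Nat.dvd_prime_pow Nat.prime_two).1 (hj ▸ orderOf_map_dvd f ⁅w, v⁆)
    rw [map_commutatorElement] at hl
    rcases l with _ | l
    · exact absurd (commutatorElement_eq_one_iff_mul_comm.1 (orderOf_eq_one_iff.1 hl)) hwv
    refine ⟨⁅w, v ^ 2 ^ l⁆, comm_mem (Subgroup.le_normalizer (pow_mem hv _)) hwP, val_comm hwV _, ?_⟩
    rw [map_commutatorElement, map_pow, commutator_pow_right hzc,
      orderOf_pow_of_dvd (pow_ne_zero _ two_ne_zero) (hl ▸ pow_dvd_pow 2 (Nat.le_succ l)), hl,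
      pow_succ, Nat.mul_div_cancel_left _ (pow_pos two_pos _)]
  · push Not at hc
    set W := P.map f ⊓ Subgroup.centralizer (P.map f : Set S) with hW
    have hcent : ∀ z ∈ P, z ∈ Val k → f z ∈ W := fun z hz hzV =>
      ⟨Subgroup.mem_map_of_mem f hz, Subgroup.mem_centralizer_iff.2 fun y hy => by
        obtain ⟨v, hv, rfl⟩ := hy
        exact (hc z hz hzV v hv).symm⟩
    have hNa : f a ∈ Subgroup.normalizer (P.map f : Set S) := Subgroup.le_normalizer_map f ⟨a, ha, rfl⟩
    have hWa : f a ∈ Subgroup.normalizer (W : Set S) :=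
      Fusion.mem_normalizer_of_cj_le (by
        rintro _ ⟨y, ⟨hy, hy'⟩, rfl⟩
        refine ⟨(Subgroup.mem_normalizer_iff.1 hNa y).1 hy, Subgroup.mem_centralizer_iff.2 fun u hu => ?_⟩
        have h1 := Subgroup.mem_centralizer_iff.1 hy' ((f a)⁻¹ * u * f a)
          ((Subgroup.mem_normalizer_iff.1 hNa _).2 (by simpa [mul_assoc] using hu))
        show u * (f a * y * (f a)⁻¹) = f a * y * (f a)⁻¹ * u
        calc u * (f a * y * (f a)⁻¹) = f a * ((f a)⁻¹ * u * f a * y) * (f a)⁻¹ := by group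
          _ = f a * (y * ((f a)⁻¹ * u * f a)) * (f a)⁻¹ := by rw [h1]
          _ = _ := by group)
    have hW2 : IsPGroup 2 W := (hP.map f).to_le inf_le_left
    have hab : ∀ y ∈ W, ∀ z ∈ W, y * z = z * y := fun y hy z hz => Subgroup.mem_centralizer_iff.1 hz.2 y hy.1
    haveI := Fact.mk Nat.prime_two
    obtain ⟨z, hz, hz2, hza⟩ : ∃ z ∈ W, z ^ 2 = 1 ∧ f a * z ≠ z * f a := by
      by_contra! hfix
      have hodd : ¬ 2 ∣ orderOf a := fun h2 => by
        rcases Nat.eq_zero_or_pos (Nat.card P) with h0 | -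
        · exact Nat.card_pos.ne' h0
        obtain ⟨l, hl⟩ := IsPGroup.iff_card.1 hP
        rcases l with _ | l
        · rw [pow_zero, Subgroup.card_eq_one] at hl
          exact hne (by rw [show h = 1 by rwa [hl, Subgroup.mem_bot] at hh]; simp)
        · exact Nat.prime_two.ne_one (Nat.eq_one_of_dvd_coprimes hco h2 (hl ▸ dvd_pow_self 2 l.succ_ne_zero))
      have hall := Fusion.commute_of_coprime_fixed_omega hW2 hab hWa hodd
        (fun v _ => by rw [← map_pow, pow_orderOf_eq_one, map_one, one_mul, mul_one]) hfix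
      refine hne (engel_map f ha hco (k + 1) hh ?_)
      rw [eng, map_commutatorElement]
      exact commutatorElement_eq_one_iff_mul_comm.2 (hall _ (hcent _ (eng_mem ha hh k) (eng_val h a k))).symm
    obtain ⟨v, hv, rfl⟩ := hz.1
    let Ω : Subgroup S :=
      { carrier := {y | y ∈ W ∧ y ^ 2 = 1}
        one_mem' := ⟨one_mem _, one_pow _⟩
        mul_mem' := fun {y z} hy hz => ⟨mul_mem hy.1 hz.1, by
          rw [(show Commute y z from hab y hy.1 z hz.1).mul_pow, hy.2, hz.2, one_mul]⟩
        inv_mem' := fun {y} hy => ⟨inv_mem hy.1, by rw [inv_pow, hy.2, inv_one]⟩ }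
    have hΩ : f a ∈ Subgroup.normalizer (Ω : Set S) := Fusion.mem_normalizer_of_cj_le (by
      rintro _ ⟨y, ⟨hy, hy2⟩, rfl⟩
      exact ⟨(Subgroup.mem_normalizer_iff.1 hWa y).1 hy, by simp [← map_pow, hy2]⟩)
    refine ⟨eng v a k, eng_mem ha hv k, eng_val v a k, ?_⟩
    rw [eng_map]
    refine orderOf_eq_prime (eng_mem hΩ (n := f v) ⟨hz, hz2⟩ k).2 fun h1 => hza ?_
    exact (engel_map f ha hco k hv (by rwa [eng_map])).symm

/-- The nonsolvable case. -/
theorem Cond.solvable [Finite G] (hC : Cond k G)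
    (hodd : ∀ (H : Type u) [Group H] [Finite H], Odd (Nat.card H) → Group.IsSolvable H)
    (hprop : ∀ M : Subgroup G, M ≠ ⊤ → Group.IsSolvable M) : Group.IsSolvable G := by
  by_contra hns
  obtain ⟨R, -, hR⟩ := Finite.exists_le_maximal (p := fun N : Subgroup G => N.Normal ∧ N ≠ ⊤) (a := ⊥)
    ⟨inferInstance, fun h => hns (Group.isSolvable_of_top_eq_bot (G := G) h.symm)⟩
  haveI := hR.1.1
  have hsolR : Group.IsSolvable R := hprop R hR.1.2
  have hquot : ∀ M : Subgroup G, M ≠ ⊤ → R ⊔ M ≠ ⊤ := fun M hM h => hns (by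
    haveI := hprop M hM
    haveI : Group.IsSolvable (G ⧸ R) := Group.isSolvable_of_surjective
      (f := (QuotientGroup.mk' R).comp M.subtype) fun y => by
        obtain ⟨g, rfl⟩ := QuotientGroup.mk'_surjective R y
        obtain ⟨r, hr, m, hm, rfl⟩ := Subgroup.mem_sup_of_normal_left.1 (h ▸ Subgroup.mem_top g : g ∈ R ⊔ M)
        exact ⟨⟨m, hm⟩, by simp [(QuotientGroup.eq_one_iff r).2 hr]⟩
    exact (Group.isSolvable_iff_subgroup_quotient R).2 ⟨hsolR, inferInstance⟩)
  have hmax : ∀ N : Subgroup G, N.Normal → N ≠ ⊤ → N ≤ R := fun N hN hNt =>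
    le_sup_right.trans (hR.2 ⟨inferInstance, hquot N hNt⟩ le_sup_left)
  haveI hRn : Group.IsNilpotent R := by
    refine Solv.isNilpotent_of_le ?_ (frattini_nilpotent (G := G))
    refine le_iInf₂ fun M hM => ?_
    by_contra hRM
    refine hquot M hM.1 (hM.2 _ (lt_of_le_of_ne le_sup_right fun h => hRM (le_sup_left.trans h.ge)))
  set π := QuotientGroup.mk' R
  have hπ := QuotientGroup.mk'_surjective R
  haveI : Nontrivial (G ⧸ R) := by
    rw [← Finite.one_lt_card_iff_nontrivial, ← Subgroup.index_eq_card]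
    have h1 : R.index ≠ 1 := fun h => hR.1.2 (Subgroup.index_eq_one.1 h)
    have h2 : R.index ≠ 0 := Subgroup.index_ne_zero_of_finite
    omega
  haveI hsimple : IsSimpleGroup (G ⧸ R) := ⟨fun N hN => by
    rcases eq_or_ne (N.comap π) ⊤ with h | h
    · right; rw [← Subgroup.map_comap_eq_self_of_surjective hπ N, h, Subgroup.map_top_of_surjective _ hπ]
    · left
      rw [← Subgroup.map_comap_eq_self_of_surjective hπ N]
      exact le_bot_iff.1 ((Subgroup.map_mono (hmax _ inferInstance h)).trans (QuotientGroup.map_mk'_self R).le)⟩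
  have hnsS : ¬ Group.IsSolvable (G ⧸ R) := fun h =>
    hns ((Group.isSolvable_iff_subgroup_quotient R).2 ⟨hsolR, h⟩)
  have hnot : ∀ p : ℕ, ∀ [Fact p.Prime], p ∣ Nat.card (G ⧸ R) → ∃ (P : Subgroup G) (a h : G), IsPGroup p P ∧
      a ∈ Subgroup.normalizer (P : Set G) ∧ (orderOf a).Coprime (Nat.card P) ∧ h ∈ P ∧
      π h * π a ≠ π a * π h := by
    intro p hp hpd
    obtain ⟨S, hS⟩ := Fusion.exists_sylIn (p := p) (⊤ : Subgroup (G ⧸ R))
    have h1 : ¬ HasNormalPComplement p (G ⧸ R) := by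
      rintro ⟨T, N, hN, hc⟩
      rcases hsimple.eq_bot_or_eq_top_of_normal N hN with rfl | rfl
      · haveI := (T.isPGroup'.of_equiv ((MulEquiv.subgroupCongr
          (Subgroup.isComplement'_bot_left.1 hc)).trans Subgroup.topEquiv)).isNilpotent
        exact hnsS inferInstance
      · have hT1 : (T : Subgroup (G ⧸ R)) = ⊥ := Subgroup.isComplement'_top_left.1 hc
        exact T.not_dvd_index (by rw [hT1, Subgroup.index_bot]; exact hpd)
    obtain ⟨Q, hQ, g, hg, hgp, hgQ⟩ : ∃ Q : Subgroup (G ⧸ R), Q ≤ S ∧ ∃ g ∈ Subgroup.normalizer (Q : Set (G ⧸ R)),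
        (orderOf g).Coprime p ∧ g ∉ Subgroup.centralizer (Q : Set (G ⧸ R)) := by
      by_contra! hall
      exact h1 (Fusion.hnpc_of_centralize hS hall)
    rw [Subgroup.mem_centralizer_iff] at hgQ
    push Not at hgQ
    obtain ⟨y, hy, hyg⟩ := hgQ
    obtain ⟨P, a, hP, haN, hco, rfl, hPQ⟩ := exists_lift π hπ (hS.isPGroup.to_le hQ) hg hgp
    obtain ⟨h, hh, rfl⟩ : y ∈ P.map π := by rw [hPQ]; exact hy
    exact ⟨P, a, h, hP, haN, hco, hh, hyg⟩
  have hcent1 : ∀ p : ℕ, ∀ [Fact p.Prime], p ∣ Nat.card (G ⧸ R) → ∀ y ∈ R, (orderOf y).Coprime p →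
      y ∈ Subgroup.center G := by
    intro p hp hpd y hy hyp
    obtain ⟨P, a, h, hP, haN, hco, hh, hne⟩ := hnot p hpd
    set x := eng h a k
    have hxR : x ∉ R := fun hx => hne (engel_map π haN hco k hh ((QuotientGroup.eq_one_iff _).2 hx))
    set L := (pResidual p R).map R.subtype with hL
    have hLc : (Nat.card L).Coprime p := by
      rw [hL, Subgroup.card_map_of_injective R.subtype_injective]
      exact Fusion.hnpc_iff.1 (hnpc_of_nilpotent (G := R) p)
    haveI : L.Normal := inferInstanceAs ((pResidual p R).map R.subtype).Normal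
    have hxL : x ∈ Subgroup.centralizer (L : Set G) := Subgroup.mem_centralizer_iff.2 fun n hn =>
      hC.centralize (eng_val h a k) (Subgroup.normalizer_eq_top_iff.2 ‹L.Normal› ▸ Subgroup.mem_top x)
        (orderOf_coprime_of_isPGroup hP (eng_mem haN hh k) hLc) hn
    have hC' : Subgroup.centralizer (L : Set G) = ⊤ := by
      by_contra hne'
      exact hxR (hmax _ inferInstance hne' hxL)
    have hyL : y ∈ L := ⟨⟨y, hy⟩, Subgroup.subset_closure (by simpa using hyp), rfl⟩
    exact Subgroup.mem_center_iff.2 fun g =>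
      (Subgroup.mem_centralizer_iff.1 (hC' ▸ Subgroup.mem_top g : g ∈ Subgroup.centralizer (L : Set G)) y hyL).symm
  have h2S : 2 ∣ Nat.card (G ⧸ R) := by
    by_contra h
    exact hnsS (hodd _ (Nat.not_even_iff_odd.1 fun he => h (even_iff_two_dvd.1 he)))
  obtain ⟨q, hq, hqd, hq2⟩ : ∃ q : ℕ, q.Prime ∧ q ∣ Nat.card (G ⧸ R) ∧ q ≠ 2 := by
    by_contra! h
    haveI := Fact.mk Nat.prime_two
    have := (IsPGroup.of_card (p := 2) (G := G ⧸ R)
      (Nat.eq_prime_pow_of_unique_prime_dvd Nat.card_pos.ne' fun {d} hd hdd => h d hd hdd)).isNilpotent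
    exact hnsS inferInstance
  haveI := Fact.mk hq
  haveI := Fact.mk Nat.prime_two
  have hRc : R ≤ Subgroup.center G := by
    have htop : (Subgroup.center G).comap R.subtype = ⊤ := eq_top_of_forall_sylow_le _ fun p hp => by
      obtain ⟨T⟩ : Nonempty (Sylow p R) := inferInstance
      refine ⟨T, fun y hy => ?_⟩
      obtain ⟨i, hi⟩ := IsPGroup.iff_orderOf.1 T.isPGroup' ⟨y, hy⟩
      rw [Subgroup.orderOf_mk, ← Subgroup.orderOf_coe] at hi
      rcases eq_or_ne p 2 with rfl | hp2
      · exact hcent1 q hqd _ y.2 (by rw [show orderOf (R.subtype y) = 2 ^ i from hi]; exact Nat.Coprime.pow_left i ((Nat.coprime_primes hp.out hq).2 (Ne.symm hq2)))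
      · exact hcent1 2 h2S _ y.2 (by rw [show orderOf (R.subtype y) = p ^ i from hi]; exact Nat.Coprime.pow_left i ((Nat.coprime_primes hp.out Nat.prime_two).2 hp2))
    intro y hy
    have := htop ▸ Subgroup.mem_top (⟨y, hy⟩ : R)
    exact this
  obtain ⟨P, a, h, hP, haN, hco, hh, hne⟩ := hnot 2 h2S
  obtain ⟨x, hxP, hxV, hx2⟩ := exists_involution_value π hP haN hco hh hne (k := k)
  have hcore : π x ∉ pCore 2 (G ⧸ R) := fun hmem => by
    haveI := pCore_normal (G := G ⧸ R) 2
    rcases hsimple.eq_bot_or_eq_top_of_normal _ (pCore_normal 2) with h0 | h0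
    · rw [h0, Subgroup.mem_bot] at hmem
      rw [hmem, orderOf_one] at hx2
      omega
    · haveI := ((pCore_isPGroup (G := G ⧸ R) 2).of_equiv ((MulEquiv.subgroupCongr h0).trans Subgroup.topEquiv)).isNilpotent
      exact hnsS inferInstance
  obtain ⟨b, hb1, hbodd, hbinv⟩ := exists_odd_inverted hx2 hcore
  obtain ⟨c, rfl⟩ := hπ b
  obtain ⟨i, m, hm, hcm⟩ := Nat.exists_eq_pow_mul_and_not_dvd (orderOf_pos c).ne' 2 (by norm_num)
  obtain ⟨t, ht⟩ := exists_pow_eq_self_of_coprime (x := π c) (n := 2 ^ i)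
    ((Nat.coprime_two_left.2 hbodd).pow_left i)
  set d := (c ^ 2 ^ i) ^ t with hd
  have hπd : π d = π c := by rw [hd, map_pow, map_pow, ht]
  have hdo : Odd (orderOf d) := by
    refine Odd.of_dvd_nat ?_ (orderOf_pow_dvd t)
    rw [orderOf_pow_of_dvd (pow_ne_zero _ two_ne_zero) (hcm ▸ dvd_mul_right _ _), hcm,
      Nat.mul_div_cancel_left _ (pow_pos two_pos _)]
    exact Nat.not_even_iff_odd.1 fun he => hm (even_iff_two_dvd.1 he)
  set z := x * d * x⁻¹ * d with hz
  have hzR : z ∈ R := by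
    rw [← QuotientGroup.eq_one_iff]
    show π (x * d * x⁻¹ * d) = 1
    rw [map_mul, map_mul, map_mul, map_inv, hπd, hbinv, inv_mul_cancel]
  have hzc := hRc hzR
  have hxd : x * d * x⁻¹ = z * d⁻¹ := by rw [hz]; group
  have hcz : Commute d z := (Subgroup.mem_center_iff.1 hzc d)
  have hzo : Odd (orderOf z) := by
    have hxo : orderOf (x * d * x⁻¹) = orderOf d := by rw [← MulAut.conj_apply, MulEquiv.orderOf_eq]
    have hcomm : Commute (x * d * x⁻¹) d := by
      rw [hxd]; exact (hcz.symm.mul_left (Commute.inv_left (Commute.refl d)))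
    refine Odd.of_dvd_nat ?_ (hcomm.orderOf_mul_dvd_lcm)
    rw [hxo, Nat.lcm_self]; exact hdo
  set N := Subgroup.zpowers d ⊔ Subgroup.zpowers z with hN
  have hxN : x ∈ Subgroup.normalizer (N : Set G) := Fusion.mem_normalizer_of_cj_le (by
    rw [hN, Fusion.cj, Subgroup.map_sup, MonoidHom.map_zpowers, MonoidHom.map_zpowers]
    refine sup_le (Subgroup.zpowers_le.2 ?_) (Subgroup.zpowers_le.2 ?_)
    · show x * d * x⁻¹ ∈ _
      rw [hxd]
      exact mul_mem (Subgroup.mem_sup_right (Subgroup.mem_zpowers z))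
        (inv_mem (Subgroup.mem_sup_left (Subgroup.mem_zpowers d)))
    · show x * z * x⁻¹ ∈ _
      rw [Subgroup.mem_center_iff.1 hzc x, mul_inv_cancel_right]
      exact Subgroup.mem_sup_right (Subgroup.mem_zpowers z))
  have hNodd : Odd (Nat.card N) := by
    haveI : (Subgroup.zpowers z).Normal := ⟨fun n hn g => by
      obtain ⟨e, rfl⟩ := hn
      rw [Subgroup.mem_center_iff.1 (zpow_mem hzc e) g, mul_inv_cancel_right]
      exact ⟨e, rfl⟩⟩
    rw [hN, sup_comm]
    refine Odd.of_dvd_nat ?_ (card_sup_dvd (Subgroup.zpowers z) (Subgroup.zpowers d))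
    rw [Nat.card_zpowers, Nat.card_zpowers]
    exact hzo.mul hdo
  have hcomm2 := hC.centralize hxV hxN (orderOf_coprime_of_isPGroup hP hxP (Nat.coprime_two_right.2 hNodd))
    (Subgroup.mem_sup_left (Subgroup.mem_zpowers d) : d ∈ N)
  have h3 : π c = (π c)⁻¹ := by
    rw [← hbinv, ← hπd, ← map_mul π x d, ← hcomm2, map_mul, mul_inv_cancel_right]
  refine hb1 (orderOf_eq_one_iff.1 (Nat.eq_one_of_dvd_coprimes (Nat.coprime_two_left.2 hbodd) ?_ dvd_rfl))
  refine orderOf_dvd_of_pow_eq_one ?_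
  rw [pow_two]; nth_rewrite 2 [h3]; exact mul_inv_cancel _

/-- The criterion: the term of the lower central series is nilpotent. -/
theorem Cond.nilpotent (hodd : ∀ (H : Type u) [Group H] [Finite H], Odd (Nat.card H) → Group.IsSolvable H) :
    ∀ (n : ℕ) (G : Type u) [Group G] [Finite G], Nat.card G = n → Cond k G →
      Group.IsNilpotent ((⊤ : Subgroup G).lowerCentralSeries k) := by
  intro n
  induction n using Nat.strong_induction_on with
  | _ n ih =>
  intro G _ _ hn hC
  have hprop : ∀ M : Subgroup G, M ≠ ⊤ → Group.IsNilpotent ((⊤ : Subgroup M).lowerCentralSeries k) := fun M hM =>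
    ih (Nat.card M) (by
      rw [← hn]
      exact lt_of_le_of_ne (Nat.le_of_dvd Nat.card_pos (Subgroup.card_subgroup_dvd_card M))
        fun h => hM (Subgroup.eq_top_of_card_eq M h)) M rfl (hC.of_injective M.subtype M.subtype_injective)
  haveI := hC.solvable hodd fun M hM => solvable_of_lcs_nilpotent (hprop M hM)
  refine hC.of_solvable fun M hM => ?_
  haveI := hprop M hM
  rw [← Subgroup.top_subtype_lowerCentralSeries]
  exact Group.nilpotent_of_mulEquiv (Subgroup.equivMapOfInjective _ _ M.subtype_injective)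

end Cfsg.Agent.Solv.CommVal
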