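import Cfsg.Agent.S3736
import Cfsg.Agent.Lib.Solv.Generation
import Cfsg.Agent.Lib.Fusion.RankTwoOmega
import Cfsg.Agent.Lib.Perm.Huppert
import Mathlib.GroupTheory.SemidirectProduct

/-!
Automorphisms of order `p` of a `q`-group which centralize every abelian subgroup invariant under a
given element of whose powers they are: two such automorphisms lying in a common `p`-group of
automorphisms commute. This is the case of Fermat primes in the bound on the `p`-length.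
-/

set_option autoImplicit false
set_option linter.style.haveILetI false

namespace Cfsg.Agent.Solv.CommFix

open Cfsg
open scoped commutatorElement

universe u

/-- `y` centralizes every abelian subgroup invariant under `g`. -/
def FixesAbelian {Q : Type u} [Group Q] (g y : MulAut Q) : Prop :=
  ∀ A : Subgroup Q, IsMulCommutative A → (∀ a ∈ A, g a ∈ A) → ∀ a ∈ A, y a = a

theorem aut_pow_mem {Q : Type u} [Group Q] (U : Subgroup Q) (g : MulAut Q) (h : ∀ a ∈ U, g a ∈ U) :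
    ∀ (i : ℕ), ∀ a ∈ U, (g ^ i) a ∈ U := by
  intro i
  induction i with
  | zero => intro a ha; simpa using ha
  | succ i ih => intro a ha; rw [pow_succ', MulAut.mul_apply]; exact h _ (ih a ha)

/-- Restriction to an invariant subgroup. -/
theorem exists_restrict {Q : Type u} [Group Q] [Finite Q] (U : Subgroup Q) (M : Subgroup (MulAut Q))
    (hM : ∀ g ∈ M, ∀ a ∈ U, g a ∈ U) :
    ∃ r : M →* MulAut U, ∀ (g : M) (a : U), ((r g a : U) : Q) = (g : MulAut Q) a := by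
  refine ⟨MonoidHom.mk' (fun g =>
    { toFun := fun a => ⟨(g : MulAut Q) a, hM g g.2 a a.2⟩
      invFun := fun a => ⟨((g⁻¹ : M) : MulAut Q) a, hM _ (g⁻¹ : M).2 a a.2⟩
      left_inv := fun a => Subtype.ext (by
        show ((g⁻¹ : M) : MulAut Q) ((g : MulAut Q) a) = a
        rw [← MulAut.mul_apply, InvMemClass.coe_inv, inv_mul_cancel, MulAut.one_apply])
      right_inv := fun a => Subtype.ext (by
        show (g : MulAut Q) (((g⁻¹ : M) : MulAut Q) a) = a
        rw [← MulAut.mul_apply, InvMemClass.coe_inv, mul_inv_cancel, MulAut.one_apply])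
      map_mul' := fun a b => Subtype.ext (map_mul (g : MulAut Q) (a : Q) (b : Q)) }) fun g h => ?_, fun g a => rfl⟩
  exact MulEquiv.ext fun a => Subtype.ext rfl

theorem comm_mul_right_of_central {G : Type*} [Group G] {a b c : G}
    (h : ∀ z, ⁅a, c⁆ * z = z * ⁅a, c⁆) : ⁅a, b * c⁆ = ⁅a, b⁆ * ⁅a, c⁆ := by
  calc ⁅a, b * c⁆ = ⁅a, b⁆ * (b * ⁅a, c⁆ * b⁻¹) := by simp only [commutatorElement_def]; group
    _ = ⁅a, b⁆ * ⁅a, c⁆ := by rw [← h b, mul_inv_cancel_right]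

/-- The key commutation: fixed points of two automorphisms commute. -/
theorem fixed_commute {Q : Type u} [Group Q] [Finite Q] {p q : ℕ} [Fact p.Prime] [Fact q.Prime]
    (hpq : p ≠ q) (hQ : IsPGroup q Q) (hc : ∀ a b : Q, ⁅a, b⁆ ∈ Subgroup.center Q)
    (e e' : MulAut Q) (hee : Commute e e') (hep : e ^ p = 1)
    (hD : ∀ d ∈ Subgroup.center Q, e d = d ∧ e' d = d)
    (hfix : ∀ u, e u = u → e' u = u → u ∈ Subgroup.center Q) (u v : Q) (hu : e u = u) (hv : e' v = v) :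
    u * v = v * u := by
  classical
  obtain ⟨N, hN0, hNs⟩ : ∃ N : ℕ → Q, N 0 = 1 ∧ ∀ i, N (i + 1) = v * e (N i) :=
    ⟨fun i => Nat.rec 1 (fun _ w => v * e w) i, rfl, fun _ => rfl⟩
  have hcz : ∀ a b z : Q, ⁅a, b⁆ * z = z * ⁅a, b⁆ := fun a b z =>
    (Subgroup.mem_center_iff.1 (hc a b) z).symm
  have hcom : ∀ i, ⁅u, N i⁆ = ⁅u, v⁆ ^ i := by
    intro i
    induction i with
    | zero => simp [hN0]
    | succ i ih =>
      have h1 : ⁅u, e (N i)⁆ = ⁅u, N i⁆ := by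
        conv_lhs => rw [← hu]
        rw [← map_commutatorElement]
        exact (hD _ (hc u (N i))).1
      rw [hNs, comm_mul_right_of_central (hcz u _), h1, ih, ← pow_succ']
  have hfix' : ∀ i, e' (N i) = N i := by
    intro i
    induction i with
    | zero => rw [hN0, map_one]
    | succ i ih =>
      rw [hNs, map_mul, hv, ← MulAut.mul_apply, ← hee.eq, MulAut.mul_apply, ih]
  have hNr : ∀ i, v * e (N i) = N i * (e ^ i) v := by
    intro i
    induction i with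
    | zero => simp [hN0]
    | succ i ih =>
      conv_lhs => rw [hNs i, ih, map_mul]
      rw [hNs, ← mul_assoc, pow_succ', MulAut.mul_apply]
  obtain ⟨d, hd⟩ : ∃ d, d = ⁅v⁻¹, N p⁆ := ⟨_, rfl⟩
  have hde : e d = d := (hD d (hd ▸ hc _ _)).1
  have heN : e (N p) = d * N p := by
    have h1 := hNr p
    rw [hep, MulAut.one_apply] at h1
    rw [hd, commutatorElement_def]
    calc e (N p) = v⁻¹ * (v * e (N p)) := by group
      _ = _ := by rw [h1]; group
  have hiter : ∀ i : ℕ, (e ^ i) (N p) = d ^ i * N p := by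
    intro i
    induction i with
    | zero => simp
    | succ i ih => rw [pow_succ', MulAut.mul_apply, ih, map_mul, map_pow, hde, heN, ← mul_assoc, ← pow_succ]
  have hd1 : d = 1 := by
    have h1 := hiter p
    rw [hep, MulAut.one_apply, right_eq_mul] at h1
    obtain ⟨m, hm⟩ := hQ d
    exact orderOf_eq_one_iff.1 (Nat.eq_one_of_dvd_coprimes
      (((Nat.coprime_primes (Fact.out : p.Prime) (Fact.out : q.Prime)).2 hpq).pow_right m)
      (orderOf_dvd_of_pow_eq_one h1) (orderOf_dvd_of_pow_eq_one hm))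
  rw [hd1, one_mul] at heN
  have h2 : ⁅u, v⁆ ^ p = 1 := by
    rw [← hcom, commutatorElement_eq_one_iff_mul_comm]
    exact Subgroup.mem_center_iff.1 (hfix _ heN (hfix' p)) u
  obtain ⟨m, hm⟩ := hQ ⁅u, v⁆
  exact commutatorElement_eq_one_iff_mul_comm.1 (orderOf_eq_one_iff.1 (Nat.eq_one_of_dvd_coprimes
    (((Nat.coprime_primes (Fact.out : p.Prime) (Fact.out : q.Prime)).2 hpq).pow_right m)
    (orderOf_dvd_of_pow_eq_one h2) (orderOf_dvd_of_pow_eq_one hm)))

/-- The shape of a group acted on by a `p`-group of automorphisms with a normal subgroup which is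
non-trivial but trivial on all proper invariant subgroups. -/
theorem shape {Q : Type u} [Group Q] [Finite Q] {p q : ℕ} [Fact p.Prime] [Fact q.Prime] (hpq : p ≠ q)
    (hQ : IsPGroup q Q) (hna : ¬ IsMulCommutative Q) (P : Subgroup (MulAut Q)) (hP : IsPGroup p P)
    (N : Subgroup P) [N.Normal] (hN : ∃ n ∈ N, ∃ a, (n : MulAut Q) a ≠ a)
    (hmin : ∀ U : Subgroup Q, U ≠ ⊤ → (∀ g ∈ P, ∀ a ∈ U, g a ∈ U) →
      ∀ n ∈ N, ∀ a ∈ U, (n : MulAut Q) a = a) :
    (∀ a b : Q, ⁅a, b⁆ ∈ Subgroup.center Q) ∧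
      ∀ U : Subgroup Q, Subgroup.center Q ≤ U → (∀ g ∈ P, ∀ a ∈ U, g a ∈ U) →
        U = Subgroup.center Q ∨ U = ⊤ := by
  classical
  let φ : P →* MulAut Q := P.subtype
  haveI : Finite (Q ⋊[φ] P) := Finite.of_equiv _ SemidirectProduct.equivProd.symm
  obtain ⟨ι, hι⟩ : ∃ ι : Q →* Q ⋊[φ] P, ι = SemidirectProduct.inl := ⟨_, rfl⟩
  obtain ⟨κ, hκ⟩ : ∃ κ : P →* Q ⋊[φ] P, κ = SemidirectProduct.inr := ⟨_, rfl⟩
  have hact : ∀ (g : P) (a : Q), κ g * ι a * (κ g)⁻¹ = ι ((g : MulAut Q) a) := fun g a => by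
    rw [hι, hκ, ← map_inv]
    exact (SemidirectProduct.inl_aut g a).symm
  have hιinj : Function.Injective ι := hι ▸ SemidirectProduct.inl_injective
  have hκinj : Function.Injective κ := hκ ▸ SemidirectProduct.inr_injective
  obtain ⟨U', hU'⟩ : ∃ U' : Subgroup Q → Subgroup (Q ⋊[φ] P), ∀ U, U' U = U.map ι := ⟨_, fun _ => rfl⟩
  have hnorm : ∀ U : Subgroup Q, (∀ g ∈ P, ∀ a ∈ U, g a ∈ U) →
      κ.range ≤ Subgroup.normalizer (U' U : Set (Q ⋊[φ] P)) := by
    rintro U hU _ ⟨g, rfl⟩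
    refine Subgroup.mem_normalizer_fintype fun z hz => ?_
    rw [hU'] at hz ⊢
    obtain ⟨a, ha, rfl⟩ := hz
    show κ g * ι a * (κ g)⁻¹ ∈ _
    rw [hact]
    exact ⟨_, hU g g.2 a ha, rfl⟩
  have hQ' : U' ⊤ = ι.range := by rw [hU', MonoidHom.range_eq_map]
  have hQp : IsPGroup q ι.range := hQ.of_surjective ι.rangeRestrict ι.rangeRestrict_surjective
  obtain ⟨k, hk⟩ := hP.exists_card_eq
  have hcard : (Nat.card (N.map κ)).Coprime q := by
    rw [Subgroup.card_map_of_injective hκinj]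
    exact Nat.Coprime.coprime_dvd_left ((Subgroup.card_subgroup_dvd_card N).trans (dvd_of_eq hk))
      (((Nat.coprime_primes (Fact.out : p.Prime) (Fact.out : q.Prime)).2 hpq).pow_left k)
  have hnt : ⁅ι.range, N.map κ⁆ ≠ ⊥ := by
    intro h
    obtain ⟨n, hn, a, ha⟩ := hN
    have h1 : ι a * κ n = κ n * ι a := (Subgroup.mem_centralizer_iff.1
      (Subgroup.commutator_eq_bot_iff_le_centralizer.1 h ⟨a, rfl⟩) _ ⟨n, hn, rfl⟩).symm
    refine ha (hιinj ?_)
    rw [← hact, ← h1, mul_inv_cancel_right]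
  obtain ⟨-, hshape, hirr, -⟩ := S3736.result (p := q) κ.range (N.map κ) ι.range hQp
    (hQ' ▸ hnorm ⊤ fun _ _ _ _ => Subgroup.mem_top _) (Subgroup.map_le_range _ _)
    (by
      rintro _ ⟨g, rfl⟩
      refine Subgroup.mem_normalizer_fintype fun z hz => ?_
      obtain ⟨n, hn, rfl⟩ := hz
      refine ⟨g * n * g⁻¹, Subgroup.Normal.conj_mem inferInstance n hn g, ?_⟩
      rw [map_mul, map_mul, map_inv])
    hcard hnt (fun W hW hWn => by
      rw [Subgroup.commutator_eq_bot_iff_le_centralizer]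
      intro w hw
      obtain ⟨a, rfl⟩ := hW.le hw
      refine Subgroup.mem_centralizer_iff.2 ?_
      rintro _ ⟨n, hn, rfl⟩
      have h1 := hmin (W.comap ι) (fun h => hW.not_ge (by
          rw [← hQ', hU', ← h]; exact Subgroup.map_comap_le _ _)) (fun g hg b hb => by
          rw [Subgroup.mem_comap] at hb ⊢
          rw [show ι (g b) = κ ⟨g, hg⟩ * ι b * (κ ⟨g, hg⟩)⁻¹ from (hact ⟨g, hg⟩ b).symm]
          exact (Subgroup.mem_normalizer_iff.1 (hWn ⟨_, rfl⟩) _).1 hb) n hn a hw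
      calc κ n * ι a = κ n * ι a * (κ n)⁻¹ * κ n := by group
        _ = _ := by rw [hact, h1])
  obtain ⟨θ, hθ⟩ : ∃ θ : Q ≃* ι.range, ∀ a, (θ a : Q ⋊[φ] P) = ι a :=
    ⟨MonoidHom.ofInjective hιinj, fun _ => rfl⟩
  rcases hshape with ⟨hab, -⟩ | ⟨-, hfr, hco⟩
  · refine absurd ⟨⟨fun a b => θ.injective ?_⟩⟩ hna
    rw [map_mul, map_mul, hab.is_comm.comm]
  have hcen : ∀ a, θ a ∈ Subgroup.center ι.range ↔ a ∈ Subgroup.center Q := fun a => by
    rw [Subgroup.mem_center_iff, Subgroup.mem_center_iff]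
    refine ⟨fun h b => θ.injective (by rw [map_mul, map_mul, h]), fun h b => ?_⟩
    obtain ⟨b, rfl⟩ := θ.surjective b
    rw [← map_mul, ← map_mul, h]
  refine ⟨fun a b => (hcen _).1 ?_, fun U hZU hUP => ?_⟩
  · rw [map_commutatorElement, ← hco]
    exact Subgroup.commutator_mem_commutator (Subgroup.mem_top _) (Subgroup.mem_top _)
  have hΦ : (frattini ι.range).map ι.range.subtype = (Subgroup.center Q).map ι := by
    rw [hfr]
    ext z
    constructor
    · rintro ⟨w, hw, rfl⟩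
      obtain ⟨a, rfl⟩ := θ.surjective w
      exact ⟨a, (hcen a).1 hw, (hθ a).symm⟩
    · rintro ⟨a, ha, rfl⟩
      exact ⟨θ a, (hcen a).2 ha, hθ a⟩
  rcases hirr (U' U) (by rw [hΦ, hU']; exact Subgroup.map_mono hZU)
    (by rw [hU']; exact Subgroup.map_le_range _ _) (hnorm U hUP) with h | h
  · left
    rw [hΦ, hU'] at h
    exact Subgroup.map_injective hιinj h
  · right
    rw [hU', MonoidHom.range_eq_map] at h
    exact Subgroup.map_injective hιinj h

/-- A subgroup containing the fixed points of all non-identity elements of a non-cyclic abelian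
`p`-group of automorphisms is everything. -/
theorem eq_top_of_fixed_le {Q : Type u} [Group Q] [Finite Q] {p q : ℕ} [Fact p.Prime] [Fact q.Prime]
    (hpq : p ≠ q) (hQ : IsPGroup q Q) (E : Subgroup (MulAut Q)) (hE : IsMulCommutative E)
    (hEp : IsPGroup p E) (hnc : ¬ IsCyclic E) (W : Subgroup Q)
    (hW : ∀ e ∈ E, e ≠ 1 → ∀ a, e a = a → a ∈ W) : W = ⊤ := by
  classical
  let φ : E →* MulAut Q := E.subtype
  haveI : Finite (Q ⋊[φ] E) := Finite.of_equiv _ SemidirectProduct.equivProd.symm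
  obtain ⟨ι, hι⟩ : ∃ ι : Q →* Q ⋊[φ] E, ι = SemidirectProduct.inl := ⟨_, rfl⟩
  obtain ⟨κ, hκ⟩ : ∃ κ : E →* Q ⋊[φ] E, κ = SemidirectProduct.inr := ⟨_, rfl⟩
  have hact : ∀ (g : E) (a : Q), κ g * ι a * (κ g)⁻¹ = ι ((g : MulAut Q) a) := fun g a => by
    rw [hι, hκ, ← map_inv]
    exact (SemidirectProduct.inl_aut g a).symm
  have hιinj : Function.Injective ι := hι ▸ SemidirectProduct.inl_injective
  have hκinj : Function.Injective κ := hκ ▸ SemidirectProduct.inr_injective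
  obtain ⟨i, hi⟩ := hEp.exists_card_eq
  obtain ⟨j, hj⟩ := hQ.exists_card_eq
  have hEc : IsMulCommutative κ.range := ⟨⟨fun a b => Subtype.ext (by
    obtain ⟨_, a, rfl⟩ := a
    obtain ⟨_, b, rfl⟩ := b
    show κ a * κ b = κ b * κ a
    rw [← map_mul, ← map_mul, hE.is_comm.comm])⟩⟩
  have hgen := gen_eq κ.range ι.range hEc
    (by
      rintro _ ⟨g, rfl⟩
      refine Subgroup.mem_normalizer_fintype fun z hz => ?_
      obtain ⟨a, rfl⟩ := hz
      exact ⟨_, (hact g a).symm⟩)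
    (by
      rw [← Nat.card_congr (MonoidHom.ofInjective hκinj).toEquiv,
        ← Nat.card_congr (MonoidHom.ofInjective hιinj).toEquiv, hi, hj]
      exact ((Nat.coprime_primes (Fact.out : p.Prime) (Fact.out : q.Prime)).2 hpq).pow i j)
  refine eq_top_iff.2 fun a _ => ?_
  have hle : ι.range ≤ W.map ι := by
    conv_lhs => rw [← hgen]
    refine iSup₂_le fun B hB => ?_
    rintro z ⟨⟨b, rfl⟩, hb⟩
    obtain ⟨hBE, c, hc, hBc⟩ := hB
    obtain ⟨d, hd, hd1⟩ : ∃ d ∈ B, d ≠ 1 := by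
      by_contra h
      push Not at h
      refine hnc ?_
      have hB1 : B = ⊥ := (Subgroup.eq_bot_iff_forall _).2 h
      rw [hB1, bot_sup_eq] at hBc
      haveI : IsCyclic κ.range := hBc ▸ inferInstance
      exact isCyclic_of_surjective (MonoidHom.ofInjective hκinj).symm
        (MonoidHom.ofInjective hκinj).symm.surjective
    obtain ⟨e, rfl⟩ := hBE hd
    refine ⟨b, hW e e.2 (fun h => hd1 (by rw [show e = 1 from Subtype.ext h, map_one])) b (hιinj ?_), rfl⟩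
    rw [← hact, Subgroup.mem_centralizer_iff.1 hb _ hd, mul_inv_cancel_right]
  obtain ⟨w, hw, hwa⟩ := hle ⟨a, rfl⟩
  rwa [← hιinj hwa]

/-- Two automorphisms of order `p` in a `p`-group of automorphisms which centralize the invariant
abelian subgroups commute. -/
theorem commute_of_fixes_abelian : ∀ (n : ℕ) {Q : Type u} [Group Q] [Finite Q], Nat.card Q = n →
    ∀ {p q : ℕ} [Fact p.Prime] [Fact q.Prime], p ≠ 2 → p ≠ q → IsPGroup q Q →
    ∀ (P : Subgroup (MulAut Q)), IsPGroup p P →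
    ∀ g₁ y₁ g₂ y₂ : MulAut Q, g₁ ∈ P → g₂ ∈ P → y₁ ∈ Subgroup.zpowers g₁ → y₂ ∈ Subgroup.zpowers g₂ →
    y₁ ^ p = 1 → y₂ ^ p = 1 → FixesAbelian g₁ y₁ → FixesAbelian g₂ y₂ → Commute y₁ y₂ := by
  intro n
  induction n using Nat.strong_induction_on with
  | _ n ih =>
  intro Q _ _ hn p q _ _ hp2 hpq hQ P hP g₁ y₁ g₂ y₂ hg₁ hg₂ hy₁g hy₂g hy₁ hy₂ hf₁ hf₂
  classical
  have hp : p.Prime := Fact.out
  have hy₁P : y₁ ∈ P := (Subgroup.zpowers_le).2 hg₁ hy₁g
  have hy₂P : y₂ ∈ P := (Subgroup.zpowers_le).2 hg₂ hy₂g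
  -- commutation on a proper invariant subgroup
  have hsub : ∀ (U : Subgroup Q), U ≠ ⊤ → ∀ (M : Subgroup (MulAut Q)), M ≤ P →
      (∀ g ∈ M, ∀ a ∈ U, g a ∈ U) → ∀ h₁ ∈ M, ∀ h₂ ∈ M, y₁ ∈ Subgroup.zpowers h₁ →
      y₂ ∈ Subgroup.zpowers h₂ →
      (∀ A : Subgroup Q, A ≤ U → IsMulCommutative A → (∀ a ∈ A, h₁ a ∈ A) → ∀ a ∈ A, y₁ a = a) →
      (∀ A : Subgroup Q, A ≤ U → IsMulCommutative A → (∀ a ∈ A, h₂ a ∈ A) → ∀ a ∈ A, y₂ a = a) →
      ∀ a ∈ U, y₁ (y₂ a) = y₂ (y₁ a) := by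
    intro U hU M hMP hMU h₁ hh₁ h₂ hh₂ e₁ e₂ f₁ f₂ a ha
    obtain ⟨r, hr⟩ := exists_restrict U M hMU
    have hy₁M : y₁ ∈ M := (Subgroup.zpowers_le).2 hh₁ e₁
    have hy₂M : y₂ ∈ M := (Subgroup.zpowers_le).2 hh₂ e₂
    have hlift : ∀ (h y : MulAut Q) (hh : h ∈ M) (hy : y ∈ M),
        (∀ A : Subgroup Q, A ≤ U → IsMulCommutative A → (∀ a ∈ A, h a ∈ A) → ∀ a ∈ A, y a = a) →
        FixesAbelian (r ⟨h, hh⟩) (r ⟨y, hy⟩) := by
      intro h y hh hy f A hA hAh b hb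
      refine Subtype.ext ?_
      rw [hr]
      haveI := hA
      refine f (A.map U.subtype) (Subgroup.map_subtype_le _) ⟨⟨?_⟩⟩ ?_ b ⟨b, hb, rfl⟩
      · rintro ⟨-, c, hc, rfl⟩ ⟨-, d, hd, rfl⟩
        refine Subtype.ext ?_
        show U.subtype c * U.subtype d = U.subtype d * U.subtype c
        rw [← map_mul, ← map_mul]
        exact congrArg U.subtype (congrArg Subtype.val (hA.is_comm.comm ⟨c, hc⟩ ⟨d, hd⟩))
      · rintro _ ⟨c, hc, rfl⟩
        exact ⟨_, hAh c hc, hr ⟨h, hh⟩ c⟩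
    have hzp : ∀ (h y : MulAut Q) (hh : h ∈ M) (hy : y ∈ M), y ∈ Subgroup.zpowers h →
        r ⟨y, hy⟩ ∈ Subgroup.zpowers (r ⟨h, hh⟩) := by
      rintro h _ hh hy ⟨i, rfl⟩
      exact ⟨i, by show r ⟨h, hh⟩ ^ i = _; rw [← map_zpow]; congr 1⟩
    have hlt : Nat.card U < n := hn ▸ lt_of_le_of_ne (Subgroup.card_le_card_group U)
      fun h => hU ((Subgroup.card_eq_iff_eq_top U).1 h)
    have h := ih _ hlt rfl hp2 hpq (hQ.to_subgroup U) r.range
      ((hP.to_le hMP).of_surjective r.rangeRestrict r.rangeRestrict_surjective)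
      _ _ _ _ ⟨⟨h₁, hh₁⟩, rfl⟩ ⟨⟨h₂, hh₂⟩, rfl⟩ (hzp h₁ y₁ hh₁ hy₁M e₁) (hzp h₂ y₂ hh₂ hy₂M e₂)
      (by rw [← map_pow, show (⟨y₁, hy₁M⟩ : M) ^ p = 1 from Subtype.ext hy₁, map_one])
      (by rw [← map_pow, show (⟨y₂, hy₂M⟩ : M) ^ p = 1 from Subtype.ext hy₂, map_one])
      (hlift h₁ y₁ hh₁ hy₁M f₁) (hlift h₂ y₂ hh₂ hy₂M f₂)
    have h' := congrArg Subtype.val (MulEquiv.congr_fun h.eq ⟨a, ha⟩)
    simp only [MulAut.mul_apply, hr] at h'
    exact h'
  by_cases hna : IsMulCommutative Q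
  · have hfix : ∀ {g y : MulAut Q}, FixesAbelian g y → y = 1 := fun {g y} f => MulEquiv.ext fun a =>
      f ⊤ ⟨⟨fun b c => Subtype.ext (hna.is_comm.comm _ _)⟩⟩ (fun b _ => Subgroup.mem_top _) a
        (Subgroup.mem_top a)
    rw [hfix hf₁]
    exact Commute.one_left _
  by_contra hcom
  obtain ⟨c, hcdef⟩ : ∃ c : P, c = ⁅(⟨y₁, hy₁P⟩ : P), ⟨y₂, hy₂P⟩⁆ := ⟨_, rfl⟩
  have hc1 : (c : MulAut Q) ≠ 1 := fun h => hcom (by
    rw [hcdef] at h
    exact commutatorElement_eq_one_iff_commute.1 h)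
  have hcfix : ∀ U : Subgroup Q, U ≠ ⊤ → (∀ g ∈ P, ∀ a ∈ U, g a ∈ U) →
      ∀ k ∈ Subgroup.normalClosure ({c} : Set P), ∀ a ∈ U, (k : MulAut Q) a = a := by
    intro U hU hUP
    have hc' : ∀ a ∈ U, (c : MulAut Q) a = a := by
      intro a ha
      have h1 := hsub U hU P le_rfl hUP g₁ hg₁ g₂ hg₂ hy₁g hy₂g (fun A _ => hf₁ A) (fun A _ => hf₂ A)
        (y₂⁻¹ (y₁⁻¹ a)) (hUP _ (inv_mem hy₂P) _ (hUP _ (inv_mem hy₁P) _ ha))
      rw [hcdef, commutatorElement_def]
      show (y₁ * y₂ * y₁⁻¹ * y₂⁻¹) a = a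
      have h2 : ∀ (y : MulAut Q) (b : Q), y (y⁻¹ b) = b := fun y b => by
        rw [← MulAut.mul_apply, mul_inv_cancel, MulAut.one_apply]
      have h3 : ∀ b ∈ U, y₁⁻¹ (y₂⁻¹ b) = y₂⁻¹ (y₁⁻¹ b) := by
        intro b hb
        have h4 := hsub U hU P le_rfl hUP g₁ hg₁ g₂ hg₂ hy₁g hy₂g (fun A _ => hf₁ A) (fun A _ => hf₂ A)
          (y₁⁻¹ (y₂⁻¹ b)) (hUP _ (inv_mem hy₁P) _ (hUP _ (inv_mem hy₂P) _ hb))
        rw [h2 y₁, h2 y₂] at h4
        apply y₂.injective
        apply y₁.injective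
        rw [h4, h2, h2]
      rw [MulAut.mul_apply, MulAut.mul_apply, MulAut.mul_apply, h3 a ha, h2, h2]
    intro k hk
    induction hk using Subgroup.closure_induction with
    | mem k hk =>
      obtain ⟨d, hd, hconj⟩ := Group.mem_conjugatesOfSet_iff.1 hk
      rw [Set.mem_singleton_iff.1 hd] at hconj
      obtain ⟨g, rfl⟩ := isConj_iff.1 hconj
      intro a ha
      rw [Subgroup.coe_mul, Subgroup.coe_mul, InvMemClass.coe_inv, MulAut.mul_apply, MulAut.mul_apply,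
        hc' _ (hUP _ (inv_mem g.2) a ha), ← MulAut.mul_apply, mul_inv_cancel, MulAut.one_apply]
    | one => intro a _; rfl
    | mul a b _ _ iha ihb =>
      intro u hu
      rw [Subgroup.coe_mul, MulAut.mul_apply, ihb u hu, iha u hu]
    | inv a _ iha =>
      intro u hu
      rw [InvMemClass.coe_inv]
      conv_lhs => rw [← iha u hu, ← MulAut.mul_apply, inv_mul_cancel, MulAut.one_apply]
  obtain ⟨hcl, hirr⟩ := shape hpq hQ hna P hP (Subgroup.normalClosure ({c} : Set P))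
    ⟨c, Subgroup.subset_normalClosure rfl, by
      by_contra h
      push Not at h
      exact hc1 (MulEquiv.ext h)⟩ hcfix
  have hcenP : ∀ g ∈ P, ∀ d ∈ Subgroup.center Q, g d ∈ Subgroup.center Q := fun g _ d hd => by
    rw [Subgroup.mem_center_iff] at hd ⊢
    intro b
    obtain ⟨b, rfl⟩ := g.surjective b
    rw [← map_mul, ← map_mul, hd]
  have hcab : IsMulCommutative (Subgroup.center Q) := inferInstance
  obtain ⟨S, hS⟩ : ∃ S : Subgroup P, ∀ g : P, g ∈ S ↔ ∀ d ∈ Subgroup.center Q, (g : MulAut Q) d = d :=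
    ⟨{ carrier := {g : P | ∀ d ∈ Subgroup.center Q, (g : MulAut Q) d = d}
       mul_mem' := fun {a b} ha hb d hd => by rw [Subgroup.coe_mul, MulAut.mul_apply, hb d hd, ha d hd]
       one_mem' := fun d _ => rfl
       inv_mem' := fun {a} ha d hd => by
        rw [InvMemClass.coe_inv]
        conv_lhs => rw [← ha d hd, ← MulAut.mul_apply, inv_mul_cancel, MulAut.one_apply] }, fun _ => Iff.rfl⟩
  haveI : S.Normal := ⟨fun a ha g => (hS _).2 fun d hd => by
    rw [Subgroup.coe_mul, Subgroup.coe_mul, InvMemClass.coe_inv, MulAut.mul_apply, MulAut.mul_apply,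
      (hS a).1 ha _ (hcenP _ (inv_mem g.2) d hd), ← MulAut.mul_apply, mul_inv_cancel, MulAut.one_apply]⟩
  obtain ⟨Y, hY⟩ : ∃ Y : Subgroup P, Y = Subgroup.normalClosure {⟨y₁, hy₁P⟩, ⟨y₂, hy₂P⟩} := ⟨_, rfl⟩
  haveI : Y.Normal := hY ▸ Subgroup.normalClosure_normal
  have hy₁Y : (⟨y₁, hy₁P⟩ : P) ∈ Y := hY ▸ Subgroup.subset_normalClosure (Or.inl rfl)
  have hy₂Y : (⟨y₂, hy₂P⟩ : P) ∈ Y := hY ▸ Subgroup.subset_normalClosure (Or.inr rfl)
  have hYS : Y ≤ S := hY ▸ Subgroup.normalClosure_le_normal (by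
    rintro _ (rfl | rfl)
    · exact (hS _).2 (hf₁ _ hcab fun d hd => hcenP g₁ hg₁ d hd)
    · exact (hS _).2 (hf₂ _ hcab fun d hd => hcenP g₂ hg₂ d hd))
  have hnc : ¬ IsCyclic Y := fun h => hcom (by
    haveI := h
    exact congrArg (fun w : Y => ((w : P) : MulAut Q))
      (IsCyclic.commGroup.mul_comm (⟨_, hy₁Y⟩ : Y) ⟨_, hy₂Y⟩))
  obtain ⟨E₀, hE₀Y, hE₀n, hE₀el, hE₀card⟩ := Fusion.exists_normal_rank_two hp2 hP Y hnc
  obtain ⟨E, hE⟩ : ∃ E : Subgroup (MulAut Q), E = E₀.map P.subtype := ⟨_, rfl⟩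
  have hEP : E ≤ P := hE ▸ Subgroup.map_subtype_le _
  have hEcard : Nat.card E = p ^ 2 := by
    rw [hE, Subgroup.card_map_of_injective P.subtype_injective, hE₀card]
  have hEconj : ∀ g ∈ P, ∀ e ∈ E, g * e * g⁻¹ ∈ E := by
    intro g hg e he
    rw [hE] at he ⊢
    obtain ⟨e, he, rfl⟩ := he
    exact ⟨⟨g, hg⟩ * e * ⟨g, hg⟩⁻¹, hE₀n.conj_mem e he _, rfl⟩
  have hEpow : ∀ e ∈ E, e ^ p = 1 := by
    intro e he
    rw [hE] at he
    obtain ⟨e, he, rfl⟩ := he
    show P.subtype e ^ p = 1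
    rw [← map_pow, hE₀el.2 e he, map_one]
  have hEab : IsMulCommutative E := by
    refine ⟨⟨fun a b => Subtype.ext ?_⟩⟩
    obtain ⟨a, ha⟩ := a
    obtain ⟨b, hb⟩ := b
    rw [hE] at ha hb
    obtain ⟨a₁, ha₁, rfl⟩ := ha
    obtain ⟨b₁, hb₁, rfl⟩ := hb
    show P.subtype a₁ * P.subtype b₁ = P.subtype b₁ * P.subtype a₁
    rw [← map_mul, ← map_mul]
    exact congrArg P.subtype (congrArg Subtype.val (hE₀el.1.is_comm.comm ⟨a₁, ha₁⟩ ⟨b₁, hb₁⟩))
  have hED : ∀ e ∈ E, ∀ d ∈ Subgroup.center Q, e d = d := by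
    intro e he
    rw [hE] at he
    obtain ⟨e, he, rfl⟩ := he
    exact (hS e).1 (hYS (hE₀Y he))
  have hEnc : ¬ IsCyclic E := fun h => by
    obtain ⟨w, hw⟩ := h.exists_generator
    have h1 : orderOf w = p ^ 2 := (orderOf_eq_card_of_forall_mem_zpowers hw).trans hEcard
    have h2 : orderOf w ∣ p := orderOf_dvd_of_pow_eq_one (Subtype.ext (hEpow _ w.2))
    rw [h1] at h2
    have h3 := Nat.le_of_dvd hp.pos h2
    have h4 : p * p ≤ p := by rwa [← sq]
    nlinarith [hp.two_le]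
  -- a central element
  haveI : E₀.Normal := hE₀n
  haveI : Nontrivial E₀ := Finite.one_lt_card_iff_nontrivial.1 (hE₀card ▸ Nat.one_lt_pow two_ne_zero hp.one_lt)
  obtain ⟨z₀, hz₀E, hz₀c, hz₀1⟩ := Perm.exists_ne_one_center hP E₀
  obtain ⟨z, hz⟩ : ∃ z, z = (z₀ : MulAut Q) := ⟨_, rfl⟩
  have hzE : z ∈ E := hE ▸ hz ▸ ⟨z₀, hz₀E, rfl⟩
  have hz1 : z ≠ 1 := fun h => hz₀1 (Subtype.ext (hz ▸ h))
  have hzc : ∀ g ∈ P, g * z = z * g := fun g hg => by
    rw [hz]; exact congrArg Subtype.val (Subgroup.mem_center_iff.1 hz₀c ⟨g, hg⟩)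
  have hzo : orderOf z = p := orderOf_eq_prime (hEpow z hzE) hz1
  have hspan : ∀ e ∈ E, e ∉ Subgroup.zpowers z → ∀ F : Subgroup (MulAut Q), e ∈ F → z ∈ F → E ≤ F := by
    intro e he hez F heF hzF
    have h1 : Subgroup.zpowers z < E ⊓ F := by
      refine lt_of_le_of_ne ((Subgroup.zpowers_le).2 ⟨hzE, hzF⟩) fun h => hez ?_
      rw [h]; exact ⟨he, heF⟩
    have h2 := Subgroup.card_dvd_of_le (inf_le_left : E ⊓ F ≤ E)
    rw [hEcard] at h2
    obtain ⟨i, hi, hiE⟩ := (Nat.dvd_prime_pow hp).1 h2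
    have h3 : p < Nat.card ↥(E ⊓ F) := by
      rw [← hzo, ← Nat.card_zpowers]
      exact lt_of_le_of_ne (Subgroup.card_le_of_le h1.le)
        fun h => h1.ne (Subgroup.eq_of_le_of_card_ge h1.le h.ge)
    have h4 : i = 2 := by
      rcases (show i = 0 ∨ i = 1 ∨ i = 2 by omega) with rfl | rfl | rfl
      · rw [hiE, pow_zero] at h3; linarith [hp.two_le]
      · rw [hiE, pow_one] at h3; omega
      · rfl
    exact (Subgroup.eq_of_le_of_card_ge (inf_le_left : E ⊓ F ≤ E)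
      (by rw [hEcard, hiE, h4])).ge.trans inf_le_right
  -- fixed subgroups
  obtain ⟨fx, hfx⟩ : ∃ fx : MulAut Q → Subgroup Q, ∀ e a, a ∈ fx e ↔ e a = a :=
    ⟨fun e =>
      { carrier := {a | e a = a}
        mul_mem' := fun {a b} (ha : e a = a) (hb : e b = b) => show e (a * b) = a * b by rw [map_mul, ha, hb]
        one_mem' := map_one e
        inv_mem' := fun {a} (ha : e a = a) => show e a⁻¹ = a⁻¹ by rw [map_inv, ha] }, fun _ _ => Iff.rfl⟩
  have hcentral_fix : ∀ e ∈ E, e ≠ 1 → (∀ g ∈ P, g * e = e * g) →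
      ∀ a, e a = a → a ∈ Subgroup.center Q := by
    intro e he he1 hec a ha
    rcases hirr (fx e) (fun d hd => (hfx e d).2 (hED e he d hd)) (fun g hg b hb => (hfx e _).2 (by
      rw [← MulAut.mul_apply, ← hec g hg, MulAut.mul_apply, (hfx e b).1 hb])) with h | h
    · exact h ▸ (hfx e a).2 ha
    · exact absurd (MulEquiv.ext fun b => (hfx e b).1 (h ▸ Subgroup.mem_top b)) he1
  have hzfix : ∀ a, z a = a → a ∈ Subgroup.center Q := hcentral_fix z hzE hz1 hzc
  have hntop : (Subgroup.center Q : Subgroup Q) ≠ ⊤ := fun h => hna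
    ⟨⟨fun a b => (Subgroup.mem_center_iff.1 (h ▸ Subgroup.mem_top a) b).symm⟩⟩
  -- commutators with `E` lie in the subgroup of `z`
  have hEz : ∀ g ∈ P, ∀ e ∈ E, ∃ k : ℤ, g * e * g⁻¹ = e * z ^ k := by
    obtain ⟨C, hC⟩ : ∃ C : Subgroup P, C = (Subgroup.zpowers z₀) := ⟨_, rfl⟩
    haveI : C.Normal := hC ▸ ⟨fun w hw g => by
      obtain ⟨i, rfl⟩ := hw
      exact ⟨i, by
        show z₀ ^ i = g * z₀ ^ i * g⁻¹
        rw [Subgroup.mem_center_iff.1 (zpow_mem hz₀c i) g, mul_inv_cancel_right]⟩⟩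
    obtain ⟨Ē, hĒ⟩ : ∃ Ē, Ē = E₀.map (QuotientGroup.mk' C) := ⟨_, rfl⟩
    haveI : Ē.Normal := hĒ ▸ hE₀n.map _ (QuotientGroup.mk'_surjective C)
    have hcardĒ : Nat.card Ē ∣ p := by
      have h1 : Nat.card Ē = C.relIndex E₀ := by
        rw [hĒ, ← Subgroup.relIndex_ker, QuotientGroup.ker_mk']
      have h2 := Subgroup.relIndex_mul_relIndex ⊥ C E₀ bot_le (hC ▸ (Subgroup.zpowers_le).2 hz₀E)
      have hCcard : Nat.card C = p := by
        rw [hC, Nat.card_zpowers, ← hzo, hz, Subgroup.orderOf_coe]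
      rw [Subgroup.relIndex_bot_left, Subgroup.relIndex_bot_left, hE₀card, ← h1, hCcard, sq] at h2
      exact dvd_of_eq (Nat.eq_of_mul_eq_mul_left hp.pos h2)
    intro g hg e he
    rw [hE] at he
    obtain ⟨e, he, rfl⟩ := he
    have hcent : QuotientGroup.mk' C e ∈ Subgroup.center (P ⧸ C) := by
      rcases (Nat.dvd_prime hp).1 hcardĒ with h | h
      · have h1 : QuotientGroup.mk' C e ∈ Ē := hĒ ▸ ⟨e, he, rfl⟩
        rw [Subgroup.card_eq_one.1 h, Subgroup.mem_bot] at h1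
        rw [h1]; exact one_mem _
      · haveI : Nontrivial Ē := Finite.one_lt_card_iff_nontrivial.1 (h ▸ hp.one_lt)
        obtain ⟨w, hw, hwc, hw1⟩ := Perm.exists_ne_one_center (hP.to_quotient C) Ē
        have h1 : Subgroup.zpowers w = Ē := Subgroup.eq_of_le_of_card_ge ((Subgroup.zpowers_le).2 hw) (by
          rw [h, Nat.card_zpowers]
          rcases (Nat.dvd_prime hp).1 (h ▸ Subgroup.orderOf_dvd_natCard Ē hw) with h' | h'
          · exact absurd (orderOf_eq_one_iff.1 h') hw1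
          · exact h'.ge)
        exact (Subgroup.zpowers_le).2 hwc (h1.ge (hĒ ▸ ⟨e, he, rfl⟩))
    have h1 := Subgroup.mem_center_iff.1 hcent (QuotientGroup.mk' C ⟨g, hg⟩)
    have h2 : e⁻¹ * (⟨g, hg⟩ * e * (⟨g, hg⟩ : P)⁻¹) ∈ C := by
      rw [← QuotientGroup.eq_one_iff, ← QuotientGroup.mk'_apply, map_mul, map_mul, map_mul, map_inv,
        map_inv, h1, mul_inv_cancel_right, inv_mul_cancel]
    rw [hC] at h2
    obtain ⟨k, hk⟩ := h2
    refine ⟨k, ?_⟩
    have h3 := congrArg (fun w : P => (w : MulAut Q)) hk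
    simp only [Subgroup.coe_mul, SubgroupClass.coe_zpow, InvMemClass.coe_inv] at h3
    rw [hz, h3]
    show _ = P.subtype e * _
    simp [mul_assoc]
  have hEzpow : ∀ g ∈ P, ∀ e ∈ E, ∀ k : ℤ, g * e * g⁻¹ = e * z ^ k →
      ∀ i : ℕ, g ^ i * e * (g ^ i)⁻¹ = e * z ^ (k * i) := by
    intro g hg e he k hk i
    induction i with
    | zero => simp
    | succ i ihi =>
      have hzi : g * z ^ (k * i) = z ^ (k * i) * g := (Commute.zpow_right (hzc g hg) _).eq
      calc g ^ (i + 1) * e * (g ^ (i + 1))⁻¹ = g * (g ^ i * e * (g ^ i)⁻¹) * g⁻¹ := by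
            rw [pow_succ']; group
        _ = g * e * (z ^ (k * i) * g⁻¹) := by rw [ihi]; group
        _ = g * e * g⁻¹ * z ^ (k * i) := by
            rw [show z ^ (k * i) * g⁻¹ = g⁻¹ * z ^ (k * i) by
              rw [eq_inv_mul_iff_mul_eq, ← mul_assoc, hzi, mul_inv_cancel_right]]
            group
        _ = _ := by rw [hk, mul_assoc, ← zpow_add]; congr 2; push_cast; ring
  obtain ⟨M, hM⟩ : ∃ M : Subgroup (MulAut Q), M = P ⊓ Subgroup.centralizer (E : Set (MulAut Q)) := ⟨_, rfl⟩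
  have hMP : M ≤ P := hM ▸ inf_le_left
  have hpM : ∀ g ∈ P, g ^ p ∈ M := fun g hg => hM ▸ Subgroup.mem_inf.2 ⟨pow_mem hg p,
    Subgroup.mem_centralizer_iff.2 fun e he => by
      obtain ⟨k, hk⟩ := hEz g hg e he
      have h1 := hEzpow g hg e he k hk p
      have h2 : z ^ (k * (p : ℤ)) = 1 := by
        rw [mul_comm, zpow_mul, zpow_natCast, hEpow z hzE, one_zpow]
      rw [h2, mul_one, mul_inv_eq_iff_eq_mul] at h1
      exact h1.symm⟩
  -- elements of distinct classes have commuting fixed points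
  have horth : ∀ e ∈ E, ∀ e' ∈ E, (∀ F : Subgroup (MulAut Q), e ∈ F → e' ∈ F → z ∈ F) →
      ∀ u v, e u = u → e' v = v → u * v = v * u := by
    intro e he e' he' hF u v hu hv
    refine fixed_commute hpq hQ hcl e e' (congrArg Subtype.val (hEab.is_comm.comm ⟨e, he⟩ ⟨e', he'⟩))
      (hEpow e he) (fun d hd => ⟨hED e he d hd, hED e' he' d hd⟩) (fun w h1 h2 => hzfix w ?_) u v hu hv
    exact (MulAction.mem_stabilizer_iff (G := MulAut Q) (a := w)).1
      (hF (MulAction.stabilizer (MulAut Q) w) h1 h2)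
  have hshift : ∀ g ∈ P, g ∉ M → ∀ e ∈ E, e ∉ Subgroup.zpowers z → ∀ i : ℕ, ¬ p ∣ i →
      ∀ F : Subgroup (MulAut Q), e ∈ F → g ^ i * e * (g ^ i)⁻¹ ∈ F → z ∈ F := by
    intro g hg hgM e he hez i hi F heF hF
    obtain ⟨k, hk⟩ := hEz g hg e he
    rw [hEzpow g hg e he k hk i, F.mul_mem_cancel_left heF] at hF
    have hk0 : ¬ (p : ℤ) ∣ k := fun hd => by
      refine hgM (hM ▸ Subgroup.mem_inf.2 ⟨hg, ?_⟩)
      have hzk : z ^ k = 1 := orderOf_dvd_iff_zpow_eq_one.1 (by rw [hzo]; exact hd)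
      rw [hzk, mul_one, mul_inv_eq_iff_eq_mul] at hk
      have hle : E ≤ Subgroup.centralizer ({g} : Set (MulAut Q)) := hspan e he hez _
        (Subgroup.mem_centralizer_singleton_iff.2 hk.symm)
        (Subgroup.mem_centralizer_singleton_iff.2 (hzc g hg).symm)
      exact Subgroup.mem_centralizer_iff.2 fun w hw => Subgroup.mem_centralizer_singleton_iff.1 (hle hw)
    have hco : IsCoprime (k * i : ℤ) (p : ℤ) := by
      refine IsCoprime.mul_left ?_ ?_
      · exact ((Nat.prime_iff_prime_int.1 hp).coprime_iff_not_dvd.2 hk0).symm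
      · exact ((Nat.prime_iff_prime_int.1 hp).coprime_iff_not_dvd.2 (by exact_mod_cast hi)).symm
    obtain ⟨a, b, hab⟩ := hco
    have : z ^ (a * (k * i) + b * p) ∈ F := by
      rw [zpow_add, mul_comm a, zpow_mul, mul_comm b, zpow_mul z (p : ℤ), zpow_natCast z p,
        hEpow z hzE, one_zpow, mul_one]
      exact zpow_mem hF a
    rwa [hab, zpow_one] at this
  have hfixconj : ∀ (g e : MulAut Q) (a : Q), e a = a → (g * e * g⁻¹) (g a) = g a := by
    intro g e a ha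
    show g (e (g.symm (g a))) = g a
    rw [MulEquiv.symm_apply_apply, ha]
  -- the operators centralise `E`
  have hyM : ∀ (g y : MulAut Q), g ∈ P → y ∈ Subgroup.zpowers g → y ^ p = 1 → FixesAbelian g y →
      y ∈ M := by
    intro g y hg hyg hyp hf
    by_contra hy
    have hgM : g ∉ M := fun h => hy ((Subgroup.zpowers_le).2 h hyg)
    obtain ⟨j, rfl⟩ := hyg
    dsimp only at hy hyp hf
    have hjp : ¬ (p : ℤ) ∣ j := fun ⟨l, hl⟩ => hy (by
      rw [hl, zpow_mul, zpow_natCast]; exact zpow_mem (hpM g hg) l)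
    obtain ⟨a₀, b₀, hab⟩ := ((Nat.prime_iff_prime_int.1 hp).coprime_iff_not_dvd.2 hjp)
    -- `g` itself has order `p`
    have hgp : g ^ p = 1 := by
      obtain ⟨m, hm⟩ := hP ⟨g, hg⟩
      have hm' : g ^ p ^ m = 1 := congrArg Subtype.val hm
      have h1 : orderOf g ∣ p ^ m := orderOf_dvd_of_pow_eq_one hm'
      have h2 : (orderOf g : ℤ) ∣ j * p := orderOf_dvd_iff_zpow_eq_one.2 (by
        rw [zpow_mul, zpow_natCast, hyp])
      have h3 : IsCoprime (orderOf g : ℤ) j := by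
        refine IsCoprime.of_isCoprime_of_dvd_left ?_ (Int.natCast_dvd_natCast.2 h1)
        rw [Nat.cast_pow]
        exact IsCoprime.pow_left ⟨a₀, b₀, hab⟩
      rw [← orderOf_dvd_iff_pow_eq_one]
      exact Int.natCast_dvd_natCast.1 (h3.dvd_of_dvd_mul_left h2)
    have hall : ∀ e ∈ E, e ≠ 1 → ∀ a, e a = a → a ∈ Subgroup.center Q := by
      intro e he he1 a ha
      by_cases hez : e ∈ Subgroup.zpowers z
      · exact hcentral_fix e he he1 (fun g' hg' => by
          obtain ⟨i, rfl⟩ := hez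
          exact (Commute.zpow_right (hzc g' hg') i).eq) a ha
      obtain ⟨A, hA⟩ : ∃ A : Subgroup Q, A = Subgroup.closure (Set.range fun i : ℕ => (g ^ i) a) := ⟨_, rfl⟩
      have hcl' : ∀ i l : ℕ, (g ^ i) a * (g ^ l) a = (g ^ l) a * (g ^ i) a := by
        intro i l
        suffices h : ∀ i : ℕ, a * (g ^ i) a = (g ^ i) a * a by
          rcases le_total i l with hil | hil
          · obtain ⟨d, rfl⟩ := Nat.exists_eq_add_of_le hil
            rw [pow_add, MulAut.mul_apply, ← map_mul, ← map_mul, h]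
          · obtain ⟨d, rfl⟩ := Nat.exists_eq_add_of_le hil
            rw [pow_add, MulAut.mul_apply, ← map_mul, ← map_mul, h]
        intro i
        by_cases hi : p ∣ i
        · obtain ⟨d, rfl⟩ := hi
          rw [pow_mul, hgp, one_pow, MulAut.one_apply]
        · exact horth e he _ (hEconj _ (pow_mem hg i) e he) (hshift g hg hgM e he hez i hi) a _ ha
            (hfixconj _ e a ha)
      have hAab : IsMulCommutative A := by
        rw [hA]
        exact Subgroup.isMulCommutative_closure (by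
          rintro _ ⟨i, rfl⟩ _ ⟨l, rfl⟩
          exact hcl' i l)
      have hAg : ∀ b ∈ A, g b ∈ A := by
        intro b hb
        have h1 : A ≤ A.comap g.toMonoidHom := by
          conv_lhs => rw [hA]
          rw [Subgroup.closure_le]
          rintro _ ⟨i, rfl⟩
          show g ((g ^ i) a) ∈ A
          rw [← MulAut.mul_apply, ← pow_succ', hA]
          exact Subgroup.subset_closure ⟨i + 1, rfl⟩
        exact h1 hb
      have hya := hf A hAab hAg a (hA ▸ Subgroup.subset_closure ⟨0, by simp⟩)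
      have hga : g a = a := by
        have h1 : g ^ (a₀ * p + b₀ * j) = (g ^ j) ^ b₀ := by
          rw [zpow_add, mul_comm a₀, zpow_mul, zpow_natCast, hgp, one_zpow, one_mul, mul_comm b₀, zpow_mul]
        rw [hab, zpow_one] at h1
        rw [h1]
        exact (MulAction.mem_stabilizer_iff (G := MulAut Q) (a := a)).1
          (zpow_mem (show g ^ j ∈ MulAction.stabilizer (MulAut Q) a from hya) b₀)
      refine hzfix a ((MulAction.mem_stabilizer_iff (G := MulAut Q) (a := a)).1 ?_)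
      refine hshift g hg hgM e he hez 1 (fun h => hp.ne_one (Nat.dvd_one.1 h))
        (MulAction.stabilizer (MulAut Q) a) ha ?_
      show (g ^ 1 * e * (g ^ 1)⁻¹) a = a
      have h5 := hfixconj g e a ha
      rwa [hga, ← pow_one g] at h5
    exact hntop (eq_top_of_fixed_le hpq hQ E hEab ((IsPGroup.of_card hEcard)) hEnc _ hall)
  have hy₁M := hyM g₁ y₁ hg₁ hy₁g hy₁ hf₁
  have hy₂M := hyM g₂ y₂ hg₂ hy₂g hy₂ hf₂
  refine hcom (MulEquiv.ext fun a => ?_)
  obtain ⟨W, hW⟩ : ∃ W : Subgroup Q, ∀ a, a ∈ W ↔ (y₁ * y₂) a = (y₂ * y₁) a :=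
    ⟨MonoidHom.eqLocus (y₁ * y₂).toMonoidHom (y₂ * y₁).toMonoidHom, fun _ => Iff.rfl⟩
  suffices h : W = ⊤ from (hW a).1 (h ▸ Subgroup.mem_top a)
  refine eq_top_of_fixed_le hpq hQ E hEab (IsPGroup.of_card hEcard) hEnc W fun e he he1 b hb => (hW b).2 ?_
  have hU : fx e ≠ ⊤ := fun h => he1 (MulEquiv.ext fun c => (hfx e c).1 (h ▸ Subgroup.mem_top c))
  have hMU : ∀ g ∈ M, ∀ c ∈ fx e, g c ∈ fx e := by
    intro g hg c hc
    rw [hM] at hg
    have h1 := Subgroup.mem_centralizer_iff.1 (Subgroup.mem_inf.1 hg).2 e he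
    rw [hfx, ← MulAut.mul_apply, h1, MulAut.mul_apply, (hfx e c).1 hc]
  -- the operators below `M`
  have hdown : ∀ (g y : MulAut Q), g ∈ P → y ∈ Subgroup.zpowers g → y ∈ M → FixesAbelian g y →
      ∃ h ∈ M, y ∈ Subgroup.zpowers h ∧
        ∀ A : Subgroup Q, A ≤ fx e → IsMulCommutative A → (∀ a ∈ A, h a ∈ A) → ∀ a ∈ A, y a = a := by
    intro g y hg hyg hyM' hf
    by_cases hgM : g ∈ M
    · exact ⟨g, hgM, hyg, fun A _ => hf A⟩
    refine ⟨g ^ p, hpM g hg, ?_, fun A hAe hA hAg a' ha' => ?_⟩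
    · obtain ⟨j, rfl⟩ := hyg
      by_cases hj : (p : ℤ) ∣ j
      · obtain ⟨l, rfl⟩ := hj
        exact ⟨l, by show (g ^ p) ^ l = g ^ ((p : ℤ) * l); rw [zpow_mul, zpow_natCast]⟩
      · exfalso
        obtain ⟨a₀, b₀, hab⟩ := ((Nat.prime_iff_prime_int.1 hp).coprime_iff_not_dvd.2 hj)
        refine hgM ?_
        rw [← zpow_one g, ← hab, zpow_add, mul_comm a₀, zpow_mul, zpow_natCast, mul_comm b₀, zpow_mul]
        exact mul_mem (zpow_mem (hpM g hg) _) (zpow_mem hyM' _)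
    by_cases hez : e ∈ Subgroup.zpowers z
    · have h1 : a' ∈ Subgroup.center Q := hcentral_fix e he he1 (fun g' hg' => by
          obtain ⟨i, rfl⟩ := hez
          exact (Commute.zpow_right (hzc g' hg') i).eq) a' ((hfx e a').1 (hAe ha'))
      exact hf _ hcab (fun d hd => hcenP g hg d hd) a' h1
    obtain ⟨B, hB⟩ : ∃ B : Subgroup Q, B = Subgroup.closure {w | ∃ (i : ℕ) (b : Q), b ∈ A ∧ (g ^ i) b = w} :=
      ⟨_, rfl⟩
    have hmod : ∀ (i : ℕ), ∀ b ∈ A, ((g ^ p) ^ i) b ∈ A := aut_pow_mem A _ hAg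
    have hcl' : ∀ i : ℕ, ∀ b ∈ A, ∀ b' ∈ A, b * (g ^ i) b' = (g ^ i) b' * b := by
      intro i b hb b' hb'
      by_cases hi : p ∣ i
      · obtain ⟨d, rfl⟩ := hi
        rw [pow_mul]
        exact congrArg Subtype.val (hA.is_comm.comm ⟨b, hb⟩ ⟨_, hmod d b' hb'⟩)
      · exact horth e he _ (hEconj _ (pow_mem hg i) e he) (hshift g hg hgM e he hez i hi) b _
          ((hfx e b).1 (hAe hb)) (hfixconj _ e b' ((hfx e b').1 (hAe hb')))
    have hBab : IsMulCommutative B := by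
      rw [hB]
      refine Subgroup.isMulCommutative_closure ?_
      rintro _ ⟨i, b, hb, rfl⟩ _ ⟨l, b', hb', rfl⟩
      rcases le_total i l with hil | hil
      · obtain ⟨d, rfl⟩ := Nat.exists_eq_add_of_le hil
        rw [pow_add, MulAut.mul_apply, ← map_mul, ← map_mul, hcl' d b hb b' hb']
      · obtain ⟨d, rfl⟩ := Nat.exists_eq_add_of_le hil
        rw [pow_add, MulAut.mul_apply, ← map_mul, ← map_mul, hcl' d b' hb' b hb]
    have hBg : ∀ b ∈ B, g b ∈ B := by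
      intro b hb'
      have h1 : B ≤ B.comap g.toMonoidHom := by
        conv_lhs => rw [hB]
        rw [Subgroup.closure_le]
        rintro _ ⟨i, b, hb, rfl⟩
        show g ((g ^ i) b) ∈ B
        rw [← MulAut.mul_apply, ← pow_succ', hB]
        exact Subgroup.subset_closure ⟨i + 1, b, hb, rfl⟩
      exact h1 hb'
    exact hf B hBab hBg a' (hB ▸ Subgroup.subset_closure ⟨0, a', ha', by simp⟩)
  obtain ⟨h₁, hh₁, e₁, k₁⟩ := hdown g₁ y₁ hg₁ hy₁g hy₁M hf₁
  obtain ⟨h₂, hh₂, e₂, k₂⟩ := hdown g₂ y₂ hg₂ hy₂g hy₂M hf₂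
  rw [MulAut.mul_apply, MulAut.mul_apply]
  exact hsub (fx e) hU M hMP hMU h₁ hh₁ h₂ hh₂ e₁ e₂ k₁ k₂ b ((hfx e b).2 hb)

end Cfsg.Agent.Solv.CommFix
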