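import Cfsg.Agent.Lib.Solv.GradedNil
import Cfsg.Agent.Lib.Solv.FPFClass
import Cfsg.Agent.Lib.Solv.Coprime

/-!
A nilpotent normal subgroup of order prime to `p` of a group, acted on by an elementary abelian
`p`-group: commutator conditions on the eigen-pieces bound the nilpotency class.
-/

set_option autoImplicit false
set_option linter.style.haveILetI false
set_option linter.unusedSectionVars false

open scoped commutatorElement TensorProduct

namespace Cfsg.Agent.Solv.CoprimeLieNil

universe u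

open GrLie FPFClass GradedNil

variable {p k : ℕ} [hp : Fact p.Prime]

/-- The pairing of the index group with itself. -/
def dot (u v : Fin k → ZMod p) : ZMod p := ∑ j, u j * v j

theorem dot_add_left (a b v : Fin k → ZMod p) : dot (a + b) v = dot a v + dot b v := by
  simp [dot, add_mul, Finset.sum_add_distrib]

theorem dot_smul_left (t : ZMod p) (a v : Fin k → ZMod p) : dot (t • a) v = t * dot a v := by
  simp [dot, Finset.mul_sum, mul_assoc]

theorem dot_add_right (a v w : Fin k → ZMod p) : dot a (v + w) = dot a v + dot a w := by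
  simp [dot, mul_add, Finset.sum_add_distrib]

/-- The annihilator of an index. -/
def ann (v : Fin k → ZMod p) : AddSubgroup (Fin k → ZMod p) where
  carrier := {u | dot u v = 0}
  zero_mem' := by simp [dot]
  add_mem' := fun {a b} ha hb => by
    show dot (a + b) v = 0
    rw [dot_add_left, show dot a v = 0 from ha, show dot b v = 0 from hb, add_zero]
  neg_mem' := fun {a} ha => by
    show dot (-a) v = 0
    have h := dot_add_left (-a) a v
    rw [neg_add_cancel, show dot a v = 0 from ha, add_zero] at h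
    rw [← h]
    simp [dot]

theorem mem_ann {u v : Fin k → ZMod p} : u ∈ ann v ↔ dot u v = 0 := Iff.rfl

theorem exists_dot_eq_one {v : Fin k → ZMod p} (hv : v ≠ 0) : ∃ u, dot u v = 1 := by
  obtain ⟨j, hj⟩ := Function.ne_iff.1 hv
  refine ⟨Pi.single j (v j)⁻¹, ?_⟩
  rw [dot, Finset.sum_eq_single j (fun i _ hi => by rw [Pi.single_eq_of_ne hi, zero_mul])
    (fun h => absurd (Finset.mem_univ _) h), Pi.single_eq_same]
  exact inv_mul_cancel₀ hj

theorem pw_neg_dot_sum [NeZero p] {u : Fin k → ZMod p} (hu : u ≠ 0) :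
    ∑ v : Fin k → ZMod p, pw p (-(dot u v)) = 0 := by
  classical
  have hprod : ∀ (s : Finset (Fin k)) (f : Fin k → ZMod p), pw p (∑ j ∈ s, f j) = ∏ j ∈ s, pw p (f j) := by
    intro s f
    induction s using Finset.induction_on with
    | empty => simp [pw_zero]
    | insert a s ha ih => rw [Finset.sum_insert ha, Finset.prod_insert ha, pw_add, ih]
  have h1 : ∀ v : Fin k → ZMod p, pw p (-(dot u v)) = ∏ j, pw p (-(u j * v j)) := fun v => by
    rw [dot, ← Finset.sum_neg_distrib, hprod]
  simp only [h1]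
  rw [← Fintype.prod_sum (fun j t => pw p (-(u j * t)))]
  obtain ⟨j, hj⟩ := Function.ne_iff.1 hu
  refine Finset.prod_eq_zero (Finset.mem_univ j) ?_
  refine Eq.trans ?_ (sum_pw_mul p hj)
  exact Finset.sum_congr rfl fun t _ => by rw [mul_comm]

variable {Γ : Type u} [Group Γ] [Finite Γ] (e : Multiplicative (Fin k → ZMod p) →* Γ)
  (H : Subgroup Γ) [hH : H.Normal]

/-- The automorphism of `H` attached to an index. -/
def σ (u : Fin k → ZMod p) : MulAut H := MulAut.conjNormal (e (Multiplicative.ofAdd u))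

theorem σ_add (u v : Fin k → ZMod p) : σ e H (u + v) = σ e H u * σ e H v := by
  rw [σ, σ, σ, ofAdd_add, map_mul, map_mul]

theorem σ_zero : σ e H 0 = 1 := by rw [σ, ofAdd_zero, map_one, map_one]

theorem σ_coe (u : Fin k → ZMod p) (h : H) :
    ((σ e H u h : H) : Γ) = e (Multiplicative.ofAdd u) * h * (e (Multiplicative.ofAdd u))⁻¹ :=
  MulAut.conjNormal_apply _ _

/-- The eigen-components. -/
noncomputable def comp : (Fin k → ZMod p) → AddSubgroup (Rp p ⊗[ℤ] Gr H) := fun v =>
  { carrier := {x | ∀ u, A p (σ e H u) x = pw p (dot u v) • x}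
    add_mem' := fun {a b} ha hb u => by rw [map_add, ha u, hb u, smul_add]
    zero_mem' := fun u => by rw [map_zero, smul_zero]
    neg_mem' := fun {a} ha u => by rw [map_neg, ha u, smul_neg] }

theorem comp_closed : Closed (comp e H) := by
  intro i j x hx y hy u
  rw [A_lie, hx u, hy u, dot_add_right, pw_add]
  exact (smul_lie (pw p (dot u i)) x (pw p (dot u j) • y)).trans
    ((congrArg (pw p (dot u i) • ·) (lie_smul (pw p (dot u j)) x y)).trans (smul_smul _ _ _))

/-- The projection towards a component, up to a factor. -/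
noncomputable def proj [NeZero p] (v : Fin k → ZMod p) (x : Rp p ⊗[ℤ] Gr H) : Rp p ⊗[ℤ] Gr H :=
  ∑ u : Fin k → ZMod p, pw p (-(dot u v)) • A p (σ e H u) x

theorem proj_mem [NeZero p] (v : Fin k → ZMod p) (x : Rp p ⊗[ℤ] Gr H) : proj e H v x ∈ comp e H v := by
  intro w
  rw [proj, map_sum, Finset.smul_sum]
  refine Fintype.sum_equiv (Equiv.addLeft w) _ _ fun u => ?_
  rw [Equiv.coe_addLeft, map_smul, A_comp, ← σ_add, smul_smul, ← pw_add, dot_add_left]
  congr 2
  ring

theorem sum_proj [NeZero p] (x : Rp p ⊗[ℤ] Gr H) : ∑ v, proj e H v x = (p ^ k) • x := by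
  simp only [proj]
  rw [Finset.sum_comm, Finset.sum_eq_single (0 : Fin k → ZMod p)]
  · have h0 : ∀ v : Fin k → ZMod p, dot (0 : Fin k → ZMod p) v = 0 := fun v => by simp [dot]
    simp only [h0, neg_zero, pw_zero, one_smul, σ_zero, A_one, Finset.sum_const, Finset.card_univ,
      Fintype.card_fun, ZMod.card, Fintype.card_fin]
  · intro u _ hu
    rw [← Finset.sum_smul, pw_neg_dot_sum hu, zero_smul]
  · exact fun h => absurd (Finset.mem_univ _) h

theorem proj_eq [NeZero p] {v : Fin k → ZMod p} {x : Rp p ⊗[ℤ] Gr H} (hx : x ∈ comp e H v) :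
    proj e H v x = (p ^ k) • x := by
  rw [proj, Finset.sum_congr rfl fun u _ => by
    rw [hx u, smul_smul, ← pw_add, neg_add_cancel, pw_zero, one_smul], Finset.sum_const,
    Finset.card_univ, Fintype.card_fun, ZMod.card, Fintype.card_fin]

/-- The elements carrying a component. -/
def Pset (v : Fin k → ZMod p) : Set H :=
  {x | (v = 0 ∧ ∀ u, σ e H u x = x) ∨
    (v ≠ 0 ∧ ∃ (w : Fin k → ZMod p) (h : H), (∀ u ∈ ann v, σ e H u h = h) ∧ x = σ e H w h * h⁻¹)}

variable (hco : (Nat.card H).Coprime p)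

include hco in
theorem eq_smul_pow (x : Rp p ⊗[ℤ] Gr H) : ∃ m : ℤ, x = m • (p ^ k) • x := by
  have h0 : (Nat.card H : ℤ) • x = 0 := by
    induction x using TensorProduct.induction_on with
    | zero => simp
    | tmul r y => rw [← TensorProduct.tmul_smul, GrLie.card_smul, TensorProduct.tmul_zero]
    | add a b ha hb => rw [smul_add, ha, hb, add_zero]
  obtain ⟨u, v, h⟩ : IsCoprime (Nat.card H : ℤ) ((p ^ k : ℕ) : ℤ) :=
    Nat.Coprime.isCoprime (Nat.Coprime.pow_right _ hco)
  refine ⟨v, ?_⟩
  rw [← natCast_zsmul x (p ^ k)]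
  calc x = (u * (Nat.card H : ℤ) + v * ((p ^ k : ℕ) : ℤ)) • x := by rw [h, one_smul]
    _ = _ := by rw [add_smul, mul_smul, mul_smul, h0, smul_zero, zero_add]

include hco in
theorem iSup_comp : ⨆ v, comp e H v = ⊤ := by
  haveI : NeZero p := ⟨hp.out.ne_zero⟩
  refine eq_top_iff.2 fun x _ => ?_
  obtain ⟨m, hm⟩ := eq_smul_pow (k := k) H hco x
  rw [hm, ← sum_proj e H x]
  exact zsmul_mem (sum_mem fun v _ => AddSubgroup.mem_iSup_of_mem v (proj_mem e H v x)) _

include hco in
/-- A fixed coset in a section of the lower central series contains a fixed element. -/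
theorem exists_lift (S : AddSubgroup (Fin k → ZMod p)) {i : ℕ} {g : H} (hg : g ∈ γ H i)
    (hfix : ∀ u ∈ S, ι i (σ e H u g) (map_mem_γ _ hg) = ι i g hg) :
    ∃ h : H, ∃ hh : h ∈ γ H i, (∀ u ∈ S, σ e H u h = h) ∧ ι i h hh = ι i g hg := by
  obtain ⟨B, hB⟩ : ∃ B : Subgroup Γ, ∀ x, x ∈ B ↔ ∃ u ∈ S, e (Multiplicative.ofAdd u) = x :=
    ⟨(AddSubgroup.toSubgroup S).map e, fun x =>
      ⟨fun ⟨u, hu, hx⟩ => ⟨Multiplicative.toAdd u, hu, hx⟩, fun ⟨u, hu, hx⟩ => ⟨_, hu, hx⟩⟩⟩
  have hKn : ∀ j, B ≤ Subgroup.normalizer (((γ H j).map H.subtype : Subgroup Γ) : Set Γ) := by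
    intro j x hx
    haveI : ((γ H j).map H.subtype).Normal := by
      rw [Subgroup.top_subtype_lowerCentralSeries]; infer_instance
    rw [Subgroup.normalizer_eq_top]; trivial
  have hBp : IsPGroup p B := by
    intro x
    refine ⟨1, Subtype.ext ?_⟩
    obtain ⟨u, -, hu⟩ := (hB _).1 x.2
    have hu0 : (Multiplicative.ofAdd u) ^ p = 1 := by
      rw [← ofAdd_nsmul, show p • u = 0 from funext fun j => by
        rw [Pi.smul_apply, nsmul_eq_mul, ZMod.natCast_self, zero_mul]; rfl, ofAdd_zero]
    rw [pow_one, Subgroup.coe_pow, ← hu, ← map_pow, hu0, map_one]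
    rfl
  obtain ⟨n, hn⟩ := hBp.exists_card_eq
  haveI : Group.IsNilpotent B := hBp.isNilpotent
  have hKH : (γ H i).map H.subtype ≤ H := Subgroup.map_subtype_le _
  have hcoB : (Nat.card B).Coprime (Nat.card ((γ H i).map H.subtype : Subgroup Γ)) := by
    rw [hn]
    exact (Nat.Coprime.pow_right n (hco.coprime_dvd_left (Subgroup.card_dvd_of_le hKH))).symm
  have hdiff : ∀ u ∈ S, g⁻¹ * σ e H u g ∈ γ H (i + 1) := fun u hu => by
    have h1 := hfix u hu
    rw [← sub_eq_zero, sub_eq_neg_add, ← ι_inv, ← ι_mul, ι_eq_zero] at h1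
    exact h1
  obtain ⟨c, hc, hcD⟩ := exists_fixed_in_coset' B ((γ H i).map H.subtype) ((γ H (i + 1)).map H.subtype)
    (hKn i) hcoB (Or.inl inferInstance) (Subgroup.map_mono (γ_succ_le H i)) (hKn (i + 1))
    (x := (g : Γ)) ⟨g, hg, rfl⟩ (fun a ha => by
      obtain ⟨u, hu, rfl⟩ := (hB a).1 ha
      exact ⟨_, hdiff u hu, by rw [Subgroup.coe_subtype, Subgroup.coe_mul, σ_coe]; rfl⟩)
  obtain ⟨hcK, hcB⟩ := Subgroup.mem_inf.1 hc
  obtain ⟨h, hh, rfl⟩ := hcK
  refine ⟨h, hh, fun u hu => Subtype.ext ?_, ?_⟩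
  · have h1 : e (Multiplicative.ofAdd u) * (h : Γ) = (h : Γ) * e (Multiplicative.ofAdd u) :=
      Subgroup.mem_centralizer_iff.1 hcB _ ((hB _).2 ⟨u, hu, rfl⟩)
    rw [σ_coe, h1, mul_inv_cancel_right]
  · obtain ⟨d, hd, hdeq⟩ := hcD
    have hd' : d = g⁻¹ * h := Subtype.ext hdeq
    subst hd'
    have hgh : g⁻¹ * h ∈ γ H i := γ_succ_le H i hd
    rw [ι_congr rfl (mul_inv_cancel_left g h).symm hh (mul_mem hg hgh), ι_mul hg hgh,
      (ι_eq_zero hgh).2 hd, add_zero]

include hco in
/-- A component is spanned by the pieces carried by `Pset`. -/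
theorem comp_le_span (v : Fin k → ZMod p) :
    comp e H v ≤ AddSubgroup.closure
      {x | ∃ (r : Rp p) (i : ℕ) (g : H) (hg : g ∈ γ H i), g ∈ Pset e H v ∧ x = r ⊗ₜ[ℤ] ι i g hg} := by
  haveI : NeZero p := ⟨hp.out.ne_zero⟩
  obtain ⟨W, hW⟩ : ∃ W, W = AddSubgroup.closure
      {x | ∃ (r : Rp p) (i : ℕ) (g : H) (hg : g ∈ γ H i), g ∈ Pset e H v ∧ x = r ⊗ₜ[ℤ] ι i g hg} := ⟨_, rfl⟩
  rw [← hW]
  have hgen : ∀ (r : Rp p) (i : ℕ) (g : H) (hg : g ∈ γ H i), g ∈ Pset e H v → r ⊗ₜ[ℤ] ι i g hg ∈ W :=
    fun r i g hg hP => hW ▸ AddSubgroup.subset_closure ⟨r, i, g, hg, hP, rfl⟩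
  suffices hproj : ∀ x : Rp p ⊗[ℤ] Gr H, proj e H v x ∈ W by
    intro x hx
    obtain ⟨m, hm⟩ := eq_smul_pow (k := k) H hco x
    rw [hm, ← proj_eq e H hx]
    exact zsmul_mem (hproj x) _
  intro x
  have hproj_add : ∀ a b, proj e H v (a + b) = proj e H v a + proj e H v b := fun a b => by
    simp only [proj, map_add, smul_add, Finset.sum_add_distrib]
  induction x using TensorProduct.induction_on with
  | zero => simp [proj]
  | add a b ha hb => rw [hproj_add]; exact add_mem ha hb
  | tmul r y =>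
    induction y using GrLie.induction_on with
    | h0 => simp [proj]
    | hadd a b ha hb => rw [TensorProduct.tmul_add, hproj_add]; exact add_mem ha hb
    | hι i g hg =>
      -- sums over a subgroup of indices are fixed
      have hsum : ∀ (S : AddSubgroup (Fin k → ZMod p)) (s : Finset (Fin k → ZMod p)),
          (∀ u, u ∈ s ↔ u ∈ S) → ∃ h : H, ∃ hh : h ∈ γ H i, (∀ u ∈ S, σ e H u h = h) ∧
            ∑ u ∈ s, act (σ e H u) (ι i g hg) = ι i h hh := by
        classical
        intro S s hs
        have key : ∀ t : Finset (Fin k → ZMod p), ∃ h, ∃ hh : h ∈ γ H i,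
            ∑ u ∈ t, act (σ e H u) (ι i g hg) = ι i h hh := fun t => by
          induction t using Finset.induction_on with
          | empty => exact ⟨1, one_mem _, by rw [Finset.sum_empty, ι_one]⟩
          | insert a t ha ih =>
            obtain ⟨h, hh, he⟩ := ih
            exact ⟨_, mul_mem (map_mem_γ _ hg) hh, by rw [Finset.sum_insert ha, he, act_ι, ι_mul]⟩
        obtain ⟨h0, hh0, he0⟩ := key s
        obtain ⟨h, hh, hfix, he⟩ := exists_lift e H hco S hh0 fun w hw => by
          rw [← act_ι _ hh0, ← he0, map_sum]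
          refine Finset.sum_equiv (Equiv.addLeft w) (fun u => ?_) fun u _ => ?_
          · rw [hs, hs, Equiv.coe_addLeft]
            exact (AddSubgroup.add_mem_cancel_left S hw).symm
          · rw [act_comp, ← σ_add]; rfl
        exact ⟨h, hh, hfix, he0.trans he.symm⟩
      rcases eq_or_ne v 0 with rfl | hv
      · obtain ⟨h, hh, hfix, he⟩ := hsum ⊤ Finset.univ fun u => by simp
        have h1 : proj e H 0 (r ⊗ₜ[ℤ] ι i g hg) = r ⊗ₜ[ℤ] ι i h hh := by
          rw [← he, TensorProduct.tmul_sum, proj]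
          refine Finset.sum_congr rfl fun u _ => ?_
          rw [show dot u (0 : Fin k → ZMod p) = 0 by simp [dot], neg_zero, pw_zero, one_smul, A_tmul]
        rw [h1]
        exact hgen r i h hh (Or.inl ⟨rfl, fun u => hfix u trivial⟩)
      · classical
        obtain ⟨w, hw⟩ := exists_dot_eq_one hv
        obtain ⟨h, hh, hfix, he⟩ := hsum (ann v) (Finset.univ.filter fun u => dot u v = 0)
          fun u => by simp [mem_ann]
        have h1 : proj e H v (r ⊗ₜ[ℤ] ι i g hg) =
            ∑ t : ZMod p, pw p (-t) • A p (σ e H (t • w)) (r ⊗ₜ[ℤ] ι i h hh) := by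
          rw [← he, TensorProduct.tmul_sum, proj]
          simp only [map_sum, Finset.smul_sum, A_tmul, act_comp, ← σ_add]
          rw [← Finset.sum_product']
          refine Finset.sum_bij' (fun u _ => (dot u v, u - dot u v • w))
            (fun x _ => x.1 • w + x.2) ?_ ?_ ?_ ?_ ?_
          · intro u _
            simp only [Finset.mem_product, Finset.mem_univ, Finset.mem_filter, true_and]
            have e1 := dot_add_left (u - dot u v • w) (dot u v • w) v
            rw [sub_add_cancel, dot_smul_left, hw, mul_one] at e1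
            exact right_eq_add.1 e1
          · intro x _; exact Finset.mem_univ _
          · intro u _; exact add_sub_cancel _ _
          · intro x hx
            simp only [Finset.mem_product, Finset.mem_univ, Finset.mem_filter, true_and] at hx
            have e1 : dot (x.1 • w + x.2) v = x.1 := by
              rw [dot_add_left, dot_smul_left, hw, hx, mul_one, add_zero]
            simp only [e1, add_sub_cancel_left]
          · intro u _
            simp only [add_sub_cancel]
        rw [h1]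
        have h2 : ∀ t : ZMod p, A p (σ e H (t • w)) (r ⊗ₜ[ℤ] ι i h hh) =
            r ⊗ₜ[ℤ] ι i (σ e H (t • w) h * h⁻¹) (mul_mem (map_mem_γ _ hh) (inv_mem hh)) +
              r ⊗ₜ[ℤ] ι i h hh := by
          intro t
          rw [A_tmul, act_ι, ι_mul (map_mem_γ _ hh) (inv_mem hh), ι_inv hh, TensorProduct.tmul_add,
            TensorProduct.tmul_neg, neg_add_cancel_right]
        simp only [h2, smul_add, Finset.sum_add_distrib]
        rw [← Finset.sum_smul, show ∑ t : ZMod p, pw p (-t) = 0 from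
          (Fintype.sum_equiv (Equiv.neg _) _ _ fun t => rfl).trans (sum_pw p), zero_smul, add_zero]
        refine sum_mem fun t _ => ?_
        rw [TensorProduct.smul_tmul']
        exact hgen _ i _ _ (Or.inr ⟨hv, t • w, h, hfix, rfl⟩)

/-- The left-normed commutator of a list. -/
def appG : H → List H → H
  | a, [] => a
  | a, x :: l => appG ⁅a, x⁆ l

include hco in
/-- The class bound. -/
theorem γ_eq_bot [Group.IsNilpotent H] {N : ℕ}
    (hcomm : ∀ (v w : Fin k → ZMod p) (y : H) (l : List H), (∀ u ∈ ann w, σ e H u y = y) →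
      (∀ x ∈ l, x ∈ Pset e H v) → l.length = N → appG H y l = 1) :
    γ H (GradedNil.classBound p (p ^ k) N k) = ⊥ := by
  haveI : NeZero p := ⟨hp.out.ne_zero⟩
  have hPfix : ∀ (w : Fin k → ZMod p), ∀ y ∈ Pset e H w, ∀ u ∈ ann w, σ e H u y = y := by
    intro w y hy u hu
    rcases hy with ⟨-, hall⟩ | ⟨-, z, h, hh, rfl⟩
    · exact hall u
    · have h1 : σ e H u (σ e H z h) = σ e H z (σ e H u h) := by
        rw [← MulAut.mul_apply, ← σ_add, add_comm, σ_add, MulAut.mul_apply]
      rw [map_mul, map_inv, h1, hh u hu]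
  have hnil : Nilp (comp e H) (comp e H) N := by
    intro d v a l ha hl hlen
    have key : ∀ (l : List (Rp p ⊗[ℤ] Gr H)), (∀ x ∈ l, x ∈ comp e H v) →
        ∀ (pre : List H), pre.length + l.length = N → (∀ x ∈ pre, x ∈ Pset e H v) →
        ∀ (y : H), (∀ u ∈ ann d, σ e H u y = y) → ∀ (r : Rp p) (i : ℕ)
          (hy : appG H y pre ∈ γ H i), app (r ⊗ₜ[ℤ] ι i (appG H y pre) hy) l = 0 := by
      intro l
      induction l with
      | nil =>
        intro _ pre hlen hpre y hyf r i hy
        show r ⊗ₜ[ℤ] ι i (appG H y pre) hy = 0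
        have h1 := hcomm v d y pre hyf hpre (by simpa using hlen)
        rw [ι_congr rfl h1 hy (one_mem _), ι_one, TensorProduct.tmul_zero]
      | cons z l ihl =>
        intro hl pre hlen hpre y hyf r i hy
        show app ⁅r ⊗ₜ[ℤ] ι i (appG H y pre) hy, z⁆ l = 0
        have hz := comp_le_span e H hco v (hl z List.mem_cons_self)
        have hl' : ∀ x ∈ l, x ∈ comp e H v := fun x hx => hl x (List.mem_cons_of_mem _ hx)
        have hlen' : pre.length + l.length + 1 = N := by simp at hlen; omega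
        clear hl hlen
        induction hz using AddSubgroup.closure_induction with
        | zero => rw [br_zero, app_zero]
        | add x x' _ _ hx hx' => rw [br_add, app_add, hx, hx', add_zero]
        | neg x _ hx =>
          have e0 : app (⁅r ⊗ₜ[ℤ] ι i (appG H y pre) hy, x⁆ + ⁅r ⊗ₜ[ℤ] ι i (appG H y pre) hy, -x⁆) l = 0 := by
            rw [← br_add, add_neg_cancel, br_zero, app_zero]
          rw [app_add, hx, zero_add] at e0
          exact e0
        | mem x hx =>
          obtain ⟨r', j, g, hg, hgP, rfl⟩ := hx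
          rw [LieAlgebra.ExtendScalars.bracket_tmul, lie_ι hy hg]
          have happ : ∀ (m : List H) (y : H), appG H y (m ++ [g]) = ⁅appG H y m, g⁆ := by
            intro m
            induction m with
            | nil => intro y; rfl
            | cons b m ihm => intro y; exact ihm _
          have h2 := ihl hl' (pre ++ [g])
            (by simp; omega)
            (fun x hx => by
              rcases List.mem_append.1 hx with hx | hx
              exacts [hpre x hx, List.mem_singleton.1 hx ▸ hgP])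
            y hyf (r * r') (i + j + 1) (by rw [happ]; exact comm_mem hy hg)
          rw [ι_congr rfl (happ pre y).symm (comm_mem hy hg) (by rw [happ]; exact comm_mem hy hg)]
          exact h2
    have ha' := comp_le_span e H hco d ha
    clear ha
    induction ha' using AddSubgroup.closure_induction with
    | zero => exact app_zero l
    | add x x' _ _ hx hx' => rw [app_add, hx, hx', add_zero]
    | neg x _ hx =>
      have e0 : app (x + -x) l = 0 := by rw [add_neg_cancel, app_zero]
      rw [app_add, hx, zero_add] at e0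
      exact e0
    | mem x hx =>
      obtain ⟨r, i, g, hg, hgP, rfl⟩ := hx
      exact key l hl [] (by simpa using hlen) (fun _ h => absurd h List.not_mem_nil) g
        (hPfix d g hgP) r i hg
  have hΓ := GradedNil.nilpotent_bound (comp_closed e H) hnil
  obtain ⟨N', hN'⟩ : ∃ N', N' = GradedNil.classBound p (p ^ k) N k := ⟨_, rfl⟩
  rw [← hN'] at hΓ ⊢
  have hmem : ∀ (s : ℕ) (g : H) (hg : g ∈ γ H s) (r : Rp p),
      r ⊗ₜ[ℤ] ι s g hg ∈ ⨆ d, eΓ (comp e H) s d := by
    intro s
    induction s with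
    | zero =>
      intro g hg r
      show _ ∈ ⨆ d, comp e H d
      rw [iSup_comp e H hco]
      trivial
    | succ s ih =>
      intro g hg r
      obtain ⟨W, hW⟩ : ∃ W, W = ⨆ d, eΓ (comp e H) (s + 1) d := ⟨_, rfl⟩
      rw [← hW]
      suffices h : ∀ g' : H, g' ∈ ⁅γ H s, (⊤ : Subgroup H)⁆ →
          ∃ hg' : g' ∈ γ H (s + 1), ∀ r : Rp p, r ⊗ₜ[ℤ] ι (s + 1) g' hg' ∈ W from (h g hg).2 r
      intro g' hg'
      rw [Subgroup.commutator_def] at hg'
      induction hg' using Subgroup.closure_induction with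
      | one => exact ⟨one_mem _, fun r => by rw [ι_one, TensorProduct.tmul_zero]; exact zero_mem _⟩
      | mul a b _ _ iha ihb =>
        exact ⟨mul_mem iha.1 ihb.1, fun r => by
          rw [ι_mul iha.1 ihb.1, TensorProduct.tmul_add]; exact add_mem (iha.2 r) (ihb.2 r)⟩
      | inv a _ iha =>
        exact ⟨inv_mem iha.1, fun r => by
          rw [ι_inv iha.1, TensorProduct.tmul_neg]; exact neg_mem (iha.2 r)⟩
      | mem x hx =>
        obtain ⟨h, hh, c, -, rfl⟩ := hx
        refine ⟨Subgroup.commutator_mem_commutator hh (Subgroup.mem_top c), fun r => ?_⟩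
        have hc : c ∈ γ H 0 := Subgroup.mem_top c
        have hh' : h ∈ γ H s := hh
        have hm := comm_mem (G := H) (s := s) (t := 0) (g := h) (h := c) hh' hc
        have hm' : ⁅h, c⁆ ∈ γ H (s + 1) := hm
        show r ⊗ₜ[ℤ] ι (s + 1) ⁅h, c⁆ hm' ∈ W
        rw [ι_congr (i := s + 1) (j := s + 0 + 1) (g := ⁅h, c⁆) (h := ⁅h, c⁆) rfl rfl hm' hm,
          ← lie_ι hh' hc, ← mul_one r, ← LieAlgebra.ExtendScalars.bracket_tmul]
        have hb : (1 : Rp p) ⊗ₜ[ℤ] ι 0 c hc ∈ ⨆ d, comp e H d := by
          rw [iSup_comp e H hco]; trivial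
        refine AddSubgroup.iSup_induction _
          (C := fun x => ⁅x, (1 : Rp p) ⊗ₜ[ℤ] ι 0 c hc⁆ ∈ W) (ih h hh' r) ?_ ?_ ?_
        · intro i x hx
          refine AddSubgroup.iSup_induction _ (C := fun y => ⁅x, y⁆ ∈ W) hb ?_ ?_ ?_
          · intro j y hy
            rw [hW]
            exact AddSubgroup.mem_iSup_of_mem (i + j) (mem_eBr hx hy)
          · rw [lie_zero]; exact zero_mem _
          · intro a b ha hb; rw [lie_add]; exact add_mem ha hb
        · rw [zero_lie]; exact zero_mem _
        · intro a b ha hb; rw [add_lie]; exact add_mem ha hb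
  have hle : γ H N' ≤ γ H (N' + 1) := fun g hg => by
    have h1 := hmem N' g hg 1
    rw [show ⨆ d, eΓ (comp e H) N' d = ⊥ by rw [hΓ]; simp, AddSubgroup.mem_bot] at h1
    obtain ⟨φ, hφ⟩ := exists_coord p
    have h3 := congrArg (fun t => TensorProduct.lid ℤ (Gr H) (LinearMap.rTensor (Gr H) φ t)) h1
    simp only [LinearMap.rTensor_tmul, hφ, TensorProduct.lid_tmul, one_smul, map_zero] at h3
    exact (ι_eq_zero hg).1 h3
  have hall : ∀ j, γ H N' ≤ γ H j := fun j => by
    induction j with
    | zero => exact le_top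
    | succ j ih => exact hle.trans (Subgroup.commutator_mono ih le_rfl)
  obtain ⟨j, hj⟩ := Subgroup.nilpotent_iff_lowerCentralSeries.1 ‹Group.IsNilpotent H›
  exact le_bot_iff.1 ((hall j).trans hj.le)

end Cfsg.Agent.Solv.CoprimeLieNil
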