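import Mathlib

/-!
Fitting's theorem with a bound: finitely many normal nilpotent subgroups of class at most `c`
generate a subgroup of class at most their number times `c`.
-/

set_option autoImplicit false
set_option linter.style.haveILetI false
set_option linter.unusedSectionVars false

open scoped commutatorElement

namespace Cfsg.Agent.Solv.FittingClass

variable {G : Type*} [Group G] {ι : Type*} [Fintype ι]

/-- The term attached to a multiplicity. -/
def T (N : ι → Subgroup G) (i : ι) : ℕ → Subgroup G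
  | 0 => ⊤
  | j + 1 => (N i).lowerCentralSeries j

theorem T_normal (N : ι → Subgroup G) (hN : ∀ i, (N i).Normal) (i : ι) : ∀ j, (T N i j).Normal
  | 0 => by unfold T; infer_instance
  | j + 1 => by haveI := hN i; unfold T; infer_instance

theorem T_succ (N : ι → Subgroup G) (hN : ∀ i, (N i).Normal) (i : ι) :
    ∀ j, ⁅T N i j, N i⁆ ≤ T N i (j + 1)
  | 0 => by haveI := hN i; exact Subgroup.commutator_le_right _ _
  | j + 1 => le_rfl

theorem lcs_iSup_le (N : ι → Subgroup G) (hN : ∀ i, (N i).Normal) :
    ∀ m, (⨆ i, N i).lowerCentralSeries m ≤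
      ⨆ f : {f : ι → ℕ // ∑ i, f i = m + 1}, ⨅ i, T N i (f.1 i) := by
  classical
  intro m
  induction m with
  | zero =>
    refine iSup_le fun i => le_iSup_of_le ⟨Pi.single i 1, by simp⟩ (le_iInf fun j => ?_)
    show N i ≤ T N j ((Pi.single i 1 : ι → ℕ) j)
    rcases eq_or_ne j i with rfl | hj
    · rw [Pi.single_eq_same]; exact le_rfl
    · rw [Pi.single_eq_of_ne hj]; exact le_top
  | succ m ih =>
    obtain ⟨S, hS⟩ : ∃ S, S = ⨆ f : {f : ι → ℕ // ∑ i, f i = m + 1 + 1}, ⨅ i, T N i (f.1 i) := ⟨_, rfl⟩
    haveI : S.Normal := by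
      rw [hS]
      refine ⟨fun y hy g => ?_⟩
      have h1 := Subgroup.mem_map_of_mem (MulAut.conj g).toMonoidHom hy
      rw [Subgroup.map_iSup] at h1
      refine SetLike.le_def.1 (iSup_mono fun f => ?_) h1
      rintro _ ⟨z, hz, rfl⟩
      exact (Subgroup.normal_iInf_normal fun i => T_normal N hN i (f.1 i)).conj_mem z hz g
    rw [Subgroup.lowerCentralSeries_succ, ← hS]
    refine (Subgroup.commutator_mono ih le_rfl).trans ?_
    rw [← QuotientGroup.ker_mk' S, ← Subgroup.map_eq_bot_iff, Subgroup.map_commutator,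
      Subgroup.commutator_eq_bot_iff_le_centralizer, Subgroup.map_iSup, iSup_le_iff]
    intro f x hx
    obtain ⟨x, hx, rfl⟩ := hx
    refine Subgroup.mem_centralizer_iff.2 fun y hy => ?_
    rw [Subgroup.map_iSup] at hy
    suffices hle : (⨆ i, (N i).map (QuotientGroup.mk' S)) ≤
        Subgroup.centralizer {QuotientGroup.mk' S x} from
      Subgroup.mem_centralizer_singleton_iff.1 (hle hy)
    refine iSup_le fun i => ?_
    rintro _ ⟨n, hn, rfl⟩
    rw [Subgroup.mem_centralizer_singleton_iff, ← commutatorElement_eq_one_iff_mul_comm,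
      ← map_commutatorElement, QuotientGroup.mk'_apply, QuotientGroup.eq_one_iff, hS]
    have hsum : ∑ j, Function.update f.1 i (f.1 i + 1) j = m + 1 + 1 := by
      have h1 := f.2
      rw [← Finset.sum_erase_add _ _ (Finset.mem_univ i)] at h1
      rw [Finset.sum_update_of_mem (Finset.mem_univ i), Finset.sdiff_singleton_eq_erase]
      omega
    refine Subgroup.mem_iSup_of_mem ⟨Function.update f.1 i (f.1 i + 1), hsum⟩ ?_
    · replace hx : ∀ j, x ∈ T N j (f.1 j) := fun j => Subgroup.mem_iInf.1 hx j
      refine Subgroup.mem_iInf.2 fun j => ?_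
      show ⁅n, x⁆ ∈ T N j (Function.update f.1 i (f.1 i + 1) j)
      have hc : ∀ {A : Subgroup G}, ⁅x, n⁆ ∈ A → ⁅n, x⁆ ∈ A := fun {A} h => by
        rw [← commutatorElement_inv]; exact inv_mem h
      rcases eq_or_ne j i with rfl | hj
      · rw [Function.update_self]
        exact hc (T_succ N hN j _ (Subgroup.commutator_mem_commutator (hx j) hn))
      · rw [Function.update_of_ne hj]
        haveI := T_normal N hN j (f.1 j)
        exact hc (Subgroup.commutator_le_left _ _ (Subgroup.commutator_mem_commutator (hx j) (Subgroup.mem_top n)))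

/-- Fitting's bound. -/
theorem lcs_iSup_eq_bot (N : ι → Subgroup G) (hN : ∀ i, (N i).Normal) (c : ℕ)
    (hc : ∀ i, (N i).lowerCentralSeries c = ⊥) :
    (⨆ i, N i).lowerCentralSeries (Fintype.card ι * c) = ⊥ := by
  refine le_bot_iff.1 ((lcs_iSup_le N hN _).trans (iSup_le fun f => ?_))
  obtain ⟨i, hi⟩ : ∃ i, c < f.1 i := by
    by_contra hne
    push Not at hne
    have h := Finset.sum_le_sum (s := Finset.univ) fun i _ => hne i
    rw [f.2, Finset.sum_const, Finset.card_univ, smul_eq_mul] at h
    omega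
  refine (iInf_le _ i).trans ?_
  obtain ⟨d, hd⟩ : ∃ d, f.1 i = d + 1 := ⟨f.1 i - 1, by omega⟩
  rw [hd, ← hc i]
  exact (N i).lowerCentralSeries_antitone (by omega)

end Cfsg.Agent.Solv.FittingClass
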