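import Cfsg.Agent.Lib.Solv.Generation
import Cfsg.Agent.Lib.Solv.CoprimeLieNil
import Cfsg.Agent.Lib.Solv.FittingClass
import Cfsg.Agent.Lib.Solv.AlperinPowerful
import Cfsg.Agent.Lib.OddLocal.CN
import Cfsg.Agent.Lib.Local.TypePBasic

/-!
An elementary abelian `p`-group `A` acting coprimely on a soluble group and a family of invariant
subgroups, each lying in a nilpotent normal subgroup of the centralizer of every nontrivial element
of a noncyclic subgroup of `A`: the subgroup generated by the family is nilpotent, and of bounded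
class.
-/

set_option autoImplicit false
set_option linter.style.haveILetI false
set_option linter.unusedSectionVars false

open scoped commutatorElement Pointwise

namespace Cfsg.Agent.Solv.CoprimeFamily

universe u

variable {p k : ℕ} [hp : Fact p.Prime]

/-- The index group. -/
abbrev W (p k : ℕ) : Type := Multiplicative (Fin k → ZMod p)

theorem card_W : Nat.card (W p k) = p ^ k := by
  rw [Nat.card_congr Multiplicative.toAdd, Nat.card_fun, Nat.card_zmod, Nat.card_fin]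

theorem pow_p_eq_one (x : W p k) : x ^ p = 1 := by
  apply Multiplicative.toAdd.injective
  rw [toAdd_pow, toAdd_one]
  funext j
  rw [Pi.smul_apply, nsmul_eq_mul, ZMod.natCast_self, zero_mul]
  rfl

/-- Two subgroups meet in a subgroup which is not too small. -/
theorem card_inf_ge (S T : Subgroup (W p k)) {i j : ℕ} (hS : p ^ i ≤ Nat.card S) (hT : p ^ j ≤ Nat.card T) :
    p ^ (i + j - k) ≤ Nat.card ↥(S ⊓ T) := by
  haveI : NeZero p := ⟨hp.out.ne_zero⟩
  rcases le_or_gt (i + j) k with h | h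
  · rw [Nat.sub_eq_zero_of_le h, pow_zero]
    exact Nat.card_pos
  have h1 := card_sup_mul_card_inf S T
  have h2 : Nat.card ↥(S ⊔ T) ≤ p ^ k := card_W (p := p) (k := k) ▸ Subgroup.card_le_card_group _
  refine Nat.le_of_mul_le_mul_left ?_ (pow_pos hp.out.pos k)
  rw [← pow_add, show k + (i + j - k) = i + j by omega, pow_add]
  calc p ^ i * p ^ j ≤ Nat.card S * Nat.card T := Nat.mul_le_mul hS hT
    _ = Nat.card ↥(S ⊔ T) * Nat.card ↥(S ⊓ T) := h1.symm
    _ ≤ p ^ k * Nat.card ↥(S ⊓ T) := Nat.mul_le_mul_right _ h2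

theorem exists_ne_one {S : Subgroup (W p k)} {i : ℕ} (hi : 1 ≤ i) (hS : p ^ i ≤ Nat.card S) :
    ∃ a ∈ S, a ≠ 1 := by
  by_contra hne
  push Not at hne
  rw [(Subgroup.eq_bot_iff_forall S).2 hne, Subgroup.card_bot] at hS
  have := Nat.one_lt_pow (by omega : i ≠ 0) hp.out.one_lt
  omega

variable {Γ : Type u} [Group Γ] [Finite Γ]

/-- The preimage of a subgroup with cyclic quotient is a large subgroup. -/
theorem card_comap_cycQuot (e : W p k →* Γ) {B : Subgroup Γ} (hB : B ∈ CycQuot e.range) :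
    p ^ (k - 1) ≤ Nat.card (B.comap e) := by
  haveI : NeZero p := ⟨hp.out.ne_zero⟩
  obtain ⟨hBA, a, ⟨w, rfl⟩, hgen⟩ := hB
  rcases Nat.eq_zero_or_pos k with rfl | hk
  · exact Nat.card_pos
  have htop : B.comap e ⊔ Subgroup.zpowers w = ⊤ := by
    refine top_le_iff.1 fun x _ => ?_
    have hx : e x ∈ B ⊔ Subgroup.zpowers (e w) := hgen.ge ⟨x, rfl⟩
    rw [← Subgroup.map_comap_eq_self hBA, ← MonoidHom.map_zpowers, ← Subgroup.map_sup] at hx
    obtain ⟨y, hy, hyx⟩ := hx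
    have hk' : y⁻¹ * x ∈ B.comap e := by
      rw [Subgroup.mem_comap, map_mul, map_inv, hyx, inv_mul_cancel]
      exact one_mem _
    rw [show x = y * (y⁻¹ * x) by group]
    exact mul_mem hy (Subgroup.mem_sup_left hk')
  have h1 := card_sup_mul_card_inf (B.comap e) (Subgroup.zpowers w)
  rw [htop, Subgroup.card_top, card_W] at h1
  have h2 : Nat.card (Subgroup.zpowers w) ≤ p := by
    rw [Nat.card_zpowers]
    exact Nat.le_of_dvd hp.out.pos (orderOf_dvd_of_pow_eq_one (pow_p_eq_one w))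
  refine Nat.le_of_mul_le_mul_left ?_ hp.out.pos
  rw [← pow_succ', show k - 1 + 1 = k by omega]
  calc p ^ k ≤ p ^ k * Nat.card ↥(B.comap e ⊓ Subgroup.zpowers w) := Nat.le_mul_of_pos_right _ Nat.card_pos
    _ = Nat.card (B.comap e) * Nat.card (Subgroup.zpowers w) := h1
    _ ≤ Nat.card (B.comap e) * p := Nat.mul_le_mul_left _ h2
    _ = p * Nat.card (B.comap e) := mul_comm _ _

/-- The range is abelian. -/
theorem range_comm (e : W p k →* Γ) : IsMulCommutative e.range :=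
  ⟨⟨fun x y => by
    obtain ⟨_, a, rfl⟩ := x
    obtain ⟨_, b, rfl⟩ := y
    exact Subtype.ext (show e a * e b = e b * e a by rw [← map_mul, ← map_mul, mul_comm])⟩⟩

theorem isPGroup_range (e : W p k →* Γ) : IsPGroup p e.range := by
  rintro ⟨_, a, rfl⟩
  exact ⟨1, Subtype.ext (by rw [pow_one, Subgroup.coe_pow, ← map_pow, pow_p_eq_one, map_one]; rfl)⟩

theorem coprime_of_pgroup {B K : Subgroup Γ} (hB : IsPGroup p B) (hco : (Nat.card K).Coprime p) :
    (Nat.card B).Coprime (Nat.card K) := by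
  obtain ⟨n, hn⟩ := hB.exists_card_eq
  rw [hn]
  exact (Nat.Coprime.pow_right n hco).symm

/-- The hypotheses on the family. -/
structure Ctx (e : W p k →* Γ) (K : Subgroup Γ) (U : W p k → Subgroup Γ) (c : ℕ)
    (𝓕 : Set (Subgroup Γ)) : Prop where
  hK : K.Normal
  hsol : Group.IsSolvable K
  hco : (Nat.card K).Coprime p
  hk : 3 ≤ k
  hUle : ∀ a, a ≠ 1 → U a ≤ K ⊓ Subgroup.centralizer {e a}
  hUnorm : ∀ a, a ≠ 1 → K ⊓ Subgroup.centralizer {e a} ≤ Subgroup.normalizer (U a : Set Γ)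
  hUc : ∀ a, a ≠ 1 → (U a).lowerCentralSeries c = ⊥
  hcert : ∀ R ∈ 𝓕, ∃ S : Subgroup (W p k), p ^ 2 ≤ Nat.card S ∧ ∀ a ∈ S, a ≠ 1 → R ≤ U a

variable {e : W p k →* Γ} {K : Subgroup Γ} {U : W p k → Subgroup Γ} {c : ℕ} {𝓕 : Set (Subgroup Γ)}

theorem Ctx.le_K (h : Ctx e K U c 𝓕) {R : Subgroup Γ} (hR : R ∈ 𝓕) : R ≤ K := by
  obtain ⟨S, hS, hU⟩ := h.hcert R hR
  obtain ⟨a, ha, ha1⟩ := exists_ne_one one_le_two hS
  exact (hU a ha ha1).trans ((h.hUle a ha1).trans inf_le_left)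

theorem Ctx.iSup_le_K (h : Ctx e K U c 𝓕) : (⨆ R ∈ 𝓕, R) ≤ K := iSup₂_le fun _ hR => h.le_K hR

/-- The image of the hypotheses in a quotient. -/
theorem Ctx.quot (h : Ctx e K U c 𝓕) (M : Subgroup Γ) [M.Normal] (hM : M ≤ K)
    (f : Γ →* Γ ⧸ M) (hf : f.ker = M) (hs : Function.Surjective f) :
    Ctx (f.comp e) (K.map f) (fun a => (U a).map f) c ((Subgroup.map f) '' 𝓕) := by
  haveI := h.hK
  refine ⟨h.hK.map f hs, isSolvable_map f h.hsol, h.hco.coprime_dvd_left (Subgroup.card_map_dvd K f),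
    h.hk, fun a ha => ?_, fun a ha => ?_, fun a ha => ?_, ?_⟩
  · rintro _ ⟨x, hx, rfl⟩
    refine ⟨⟨x, (h.hUle a ha hx).1, rfl⟩, Subgroup.mem_centralizer_singleton_iff.2 ?_⟩
    rw [MonoidHom.comp_apply, ← map_mul, ← map_mul, Subgroup.mem_centralizer_singleton_iff.1 (h.hUle a ha hx).2]
  · rintro _ ⟨⟨x, hx, rfl⟩, hxc⟩
    have hB : IsPGroup p (Subgroup.zpowers (e a)) :=
      (isPGroup_range e).to_le ((Subgroup.zpowers_le).2 ⟨a, rfl⟩)
    haveI : Group.IsNilpotent (Subgroup.zpowers (e a)) := hB.isNilpotent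
    obtain ⟨y, hy, hyM⟩ := exists_fixed_in_coset' (Subgroup.zpowers (e a)) K M
      (by rw [Subgroup.normalizer_eq_top]; exact le_top) (coprime_of_pgroup hB h.hco) (Or.inl inferInstance)
      hM (by rw [Subgroup.normalizer_eq_top]; exact le_top) hx (fun b hb => by
        obtain ⟨i, rfl⟩ := Subgroup.mem_zpowers_iff.1 hb
        rw [← hf, MonoidHom.mem_ker, map_mul, map_mul, map_mul, map_inv, map_inv, map_zpow,
          ((show Commute (f (e a)) (f x) from
            (Subgroup.mem_centralizer_singleton_iff.1 hxc).symm).zpow_left i).eq]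
        group)
    have hyx : f y = f x := by
      rw [← hf, MonoidHom.mem_ker, map_mul, map_inv, inv_mul_eq_one] at hyM
      exact hyM.symm
    rw [← hyx]
    have hyN := h.hUnorm a ha ⟨hy.1, Subgroup.mem_centralizer_singleton_iff.2
      (Subgroup.mem_centralizer_iff.1 hy.2 _ (Subgroup.mem_zpowers (e a))).symm⟩
    exact Subgroup.le_normalizer_map f ⟨y, hyN, rfl⟩
  · rw [← Subgroup.map_lowerCentralSeries, h.hUc a ha, Subgroup.map_bot]
  · rintro _ ⟨R, hR, rfl⟩
    obtain ⟨S, hS, hU⟩ := h.hcert R hR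
    exact ⟨S, hS, fun a ha ha1 => Subgroup.map_mono (hU a ha ha1)⟩

theorem nilpotent_aux : ∀ (N : ℕ) {Γ : Type u} [Group Γ] [Finite Γ] {e : W p k →* Γ} {K : Subgroup Γ}
    {U : W p k → Subgroup Γ} {𝓕 : Set (Subgroup Γ)}, Nat.card Γ = N → Ctx e K U c 𝓕 →
    Group.IsNilpotent ↥(⨆ R ∈ 𝓕, R) := by
  intro N
  induction N using Nat.strong_induction_on with
  | _ N ih =>
  intro Γ _ _ e K U 𝓕 hN h
  obtain ⟨H, hH⟩ : ∃ H, H = ⨆ R ∈ 𝓕, R := ⟨_, rfl⟩
  rw [← hH]
  have hHK : H ≤ K := hH ▸ h.iSup_le_K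
  rcases eq_or_ne K ⊥ with hKb | hKb
  · have hHb : H = ⊥ := le_bot_iff.1 (hKb ▸ hHK)
    subst hHb
    infer_instance
  haveI := h.hK
  obtain ⟨M, hMn, hMb, hMK, hmin⟩ := exists_minimal_normal_le K hKb
  obtain ⟨hMc, r, hr, hMexp, hMr⟩ :=
    minimal_normal_elementaryAbelian M (isSolvable_of_le hMK h.hsol) hMb hmin
  haveI := Fact.mk hr
  obtain ⟨f, hf, hs⟩ : ∃ f : Γ →* Γ ⧸ M, f.ker = M ∧ Function.Surjective f :=
    ⟨QuotientGroup.mk' M, QuotientGroup.ker_mk' M, QuotientGroup.mk'_surjective M⟩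
  have hHnil : Group.IsNilpotent ↥(H.map f) := by
    have h1 := ih _ (hN ▸ card_quotient_lt M hMb) rfl (h.quot M hMK f hf hs)
    have h2 : (⨆ R ∈ (Subgroup.map f) '' 𝓕, R) = H.map f := by
      rw [hH, iSup_image, Subgroup.map_iSup]
      exact iSup_congr fun R => (Subgroup.map_iSup f _).symm
    rwa [h2] at h1
  obtain ⟨X, hX⟩ : ∃ X, X = Subgroup.centralizer (M : Set Γ) := ⟨_, rfl⟩
  haveI : X.Normal := hX ▸ Subgroup.normal_centralizer
  have hMX : M ≤ X := fun x hx => by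
    rw [hX]
    exact Subgroup.mem_centralizer_iff.2 fun y hy => congrArg Subtype.val (hMc.is_comm.comm ⟨y, hy⟩ ⟨x, hx⟩)
  have hMgen := gen_eq e.range M (range_comm e) (by rw [Subgroup.normalizer_eq_top]; exact le_top)
    (coprime_of_pgroup (isPGroup_range e) (h.hco.coprime_dvd_left (Subgroup.card_dvd_of_le hMK)))
  -- elements of order prime to `r` in members centralize `M`
  have hstep : ∀ R ∈ 𝓕, ∀ x ∈ R, (orderOf x).Coprime r → x ∈ X := by
    intro R hR x hx hxo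
    obtain ⟨S, hS, hU⟩ := h.hcert R hR
    have hle : M ≤ Subgroup.centralizer {x} := by
      rw [← hMgen]
      refine iSup₂_le fun B hB => ?_
      intro y hy
      obtain ⟨a, ha, ha1⟩ : ∃ a ∈ S ⊓ B.comap e, a ≠ 1 :=
        exists_ne_one (by have := h.hk; omega) (card_inf_ge S (B.comap e) hS (card_comap_cycQuot e hB))
      have hxU : x ∈ U a := hU a ha.1 ha1 hx
      have hyC : y ∈ K ⊓ Subgroup.centralizer {e a} :=
        ⟨hMK hy.1, Subgroup.mem_centralizer_singleton_iff.2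
          (Subgroup.mem_centralizer_iff.1 hy.2 (e a) ha.2).symm⟩
      have hw : ⁅x, y⁆ ∈ U a := by
        rw [commutatorElement_def, show x * y * x⁻¹ * y⁻¹ = x * (y * x⁻¹ * y⁻¹) by group]
        exact mul_mem hxU ((Subgroup.mem_normalizer_iff.1 (h.hUnorm a ha1 hyC) x⁻¹).1 (inv_mem hxU))
      have hwM : ⁅x, y⁆ ∈ M := by
        rw [commutatorElement_def]; exact mul_mem (hMn.conj_mem y hy.1 x) (inv_mem hy.1)
      haveI : Group.IsNilpotent (U a) :=
        Subgroup.isNilpotent_iff_lowerCentralSeries (U a) |>.2 ⟨c, h.hUc a ha1⟩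
      have hwr : ⁅x, y⁆ ^ r = 1 := hMexp _ hwM
      have hcom : x * ⁅x, y⁆ = ⁅x, y⁆ * x :=
        congrArg Subtype.val (Cfsg.Agent.TypePBasic.commute_of_coprime
          (x := (⟨x, hxU⟩ : U a)) (y := (⟨⁅x, y⁆, hw⟩ : U a)) (by
            rw [Subgroup.orderOf_mk, Subgroup.orderOf_mk]
            exact hxo.coprime_dvd_right (orderOf_dvd_of_pow_eq_one hwr)))
      have h1 : x * y * x⁻¹ = ⁅x, y⁆ * y := by rw [commutatorElement_def]; group
      have h2 := AlperinDL.conj_pow_of_commute h1 hcom (orderOf x)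
      rw [pow_orderOf_eq_one, one_mul, inv_one, mul_one, eq_comm, mul_eq_right] at h2
      have h3 : ⁅x, y⁆ = 1 := orderOf_eq_one_iff.1 (Nat.eq_one_of_dvd_coprimes hxo
        (orderOf_dvd_of_pow_eq_one h2) (orderOf_dvd_of_pow_eq_one hwr))
      rw [commutatorElement_eq_one_iff_mul_comm] at h3
      exact Subgroup.mem_centralizer_singleton_iff.2 h3.symm
    rw [hX]
    exact Subgroup.mem_centralizer_iff.2 fun y hy => Subgroup.mem_centralizer_singleton_iff.1 (hle hy)
  -- the image of `H` modulo `X` is an `r`-group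
  obtain ⟨g, hg, hgs⟩ : ∃ g : Γ →* Γ ⧸ X, g.ker = X ∧ Function.Surjective g :=
    ⟨QuotientGroup.mk' X, QuotientGroup.ker_mk' X, QuotientGroup.mk'_surjective X⟩
  have hIr : IsPGroup r ↥(H.map g) := by
    haveI : Group.IsNilpotent ↥(H.map g) := by
      obtain ⟨n, hn⟩ := (Subgroup.isNilpotent_iff_lowerCentralSeries (H.map f)).1 hHnil
      refine (Subgroup.isNilpotent_iff_lowerCentralSeries (H.map g)).2 ⟨n, ?_⟩
      rw [← Subgroup.map_lowerCentralSeries, Subgroup.map_eq_bot_iff, hg]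
      rw [← Subgroup.map_lowerCentralSeries, Subgroup.map_eq_bot_iff, hf] at hn
      exact hn.trans hMX
    obtain ⟨P⟩ : Nonempty (Sylow r ↥(H.map g)) := inferInstance
    haveI : (P : Subgroup ↥(H.map g)).Normal :=
      Sylow.normal_of_normalizerCondition Group.normalizerCondition_of_isNilpotent P
    have htop : H.map g ≤ (P : Subgroup ↥(H.map g)).map (H.map g).subtype := by
      rw [Subgroup.map_le_iff_le_comap]
      refine hH.le.trans ?_
      refine iSup₂_le fun R hR x hx => ?_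
      obtain ⟨i, m, hm, hxm⟩ := Nat.exists_eq_pow_mul_and_not_dvd (orderOf_pos x).ne' r hr.ne_one
      have hmem : g x ∈ H.map g := ⟨x, hH.ge (Subgroup.mem_iSup_of_mem R (Subgroup.mem_iSup_of_mem hR hx)), rfl⟩
      have hxX : x ^ r ^ i ∈ X := by
        refine hstep R hR _ (pow_mem hx _) ?_
        rw [orderOf_pow, hxm, Nat.gcd_eq_right (dvd_mul_right _ m), Nat.mul_div_cancel_left _ (pow_pos hr.pos i)]
        exact (hr.coprime_iff_not_dvd.2 hm).symm
      have hp' : (⟨g x, hmem⟩ : ↥(H.map g)) ^ r ^ i = 1 := by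
        refine Subtype.ext ?_
        rw [Subgroup.coe_pow, ← map_pow]
        exact MonoidHom.mem_ker.1 (hg.ge hxX)
      refine Subgroup.mem_comap.2 ⟨⟨g x, hmem⟩, ?_, rfl⟩
      obtain ⟨Q, hQ⟩ := (show IsPGroup r (Subgroup.zpowers (⟨g x, hmem⟩ : ↥(H.map g))) by
        obtain ⟨j, -, hj⟩ := (Nat.dvd_prime_pow hr).1 (orderOf_dvd_of_pow_eq_one hp')
        exact IsPGroup.of_card (n := j) (by rw [Nat.card_zpowers, hj])).exists_le_sylow
      haveI := Sylow.unique_of_normal P inferInstance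
      rw [Subsingleton.elim Q P] at hQ
      exact hQ (Subgroup.mem_zpowers _)
    exact (P.isPGroup'.map (H.map g).subtype).to_le htop
  -- elements of coprime order commute
  refine Cfsg.Agent.OddLocal.CN.nilpotent_of_commute fun q s hq hs' hne x hx y hy ⟨i, hxi⟩ ⟨j, hyj⟩ => ?_
  have hxo : orderOf x ∣ q ^ i := orderOf_dvd_of_pow_eq_one hxi
  have hyo : orderOf y ∣ s ^ j := orderOf_dvd_of_pow_eq_one hyj
  have hwM : ⁅x, y⁆ ∈ M := by
    rw [← hf, MonoidHom.mem_ker, map_commutatorElement, commutatorElement_eq_one_iff_mul_comm]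
    have hcop : (orderOf (f x)).Coprime (orderOf (f y)) :=
      ((Nat.Coprime.pow i j ((Nat.coprime_primes hq hs').2 hne)).coprime_dvd_left
        ((orderOf_map_dvd f x).trans hxo)).coprime_dvd_right ((orderOf_map_dvd f y).trans hyo)
    exact congrArg Subtype.val (Cfsg.Agent.TypePBasic.commute_of_coprime
      (x := (⟨f x, x, hx, rfl⟩ : ↥(H.map f))) (y := (⟨f y, y, hy, rfl⟩ : ↥(H.map f))) (by
        rw [← Subgroup.orderOf_coe, ← Subgroup.orderOf_coe]; exact hcop))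
  have key : ∀ (q : ℕ) (i : ℕ) (x : Γ), q.Prime → q ≠ r → x ∈ H → orderOf x ∣ q ^ i →
      ∀ w ∈ M, x * w = w * x := by
    intro q i x hq hqr hx hxo w hw
    have h1 : g x = 1 := by
      obtain ⟨l, hl⟩ := IsPGroup.iff_orderOf.1 hIr ⟨g x, x, hx, rfl⟩
      rw [← Subgroup.orderOf_coe] at hl
      exact orderOf_eq_one_iff.1 (Nat.eq_one_of_dvd_coprimes
        (Nat.Coprime.pow i l ((Nat.coprime_primes hq hr).2 hqr))
        ((orderOf_map_dvd g x).trans hxo) (hl ▸ dvd_rfl))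
    have h2 : x ∈ X := hg ▸ MonoidHom.mem_ker.2 h1
    rw [hX] at h2
    exact (Subgroup.mem_centralizer_iff.1 h2 w hw).symm
  have hfin : ∀ (q : ℕ) (i : ℕ) (x y : Γ), q.Prime → q ≠ r → x ∈ H → orderOf x ∣ q ^ i → ⁅x, y⁆ ∈ M →
      x * y = y * x := by
    intro q i x y hq hqr hx hxo hw
    have hcom : x * ⁅x, y⁆ = ⁅x, y⁆ * x := key q i x hq hqr hx hxo _ hw
    have h1 : x * y * x⁻¹ = ⁅x, y⁆ * y := by rw [commutatorElement_def]; group
    have h2 := AlperinDL.conj_pow_of_commute h1 hcom (orderOf x)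
    rw [pow_orderOf_eq_one, one_mul, inv_one, mul_one, eq_comm, mul_eq_right] at h2
    exact commutatorElement_eq_one_iff_mul_comm.1 (orderOf_eq_one_iff.1 (Nat.eq_one_of_dvd_coprimes
      (Nat.Coprime.pow i 1 ((Nat.coprime_primes hq hr).2 hqr))
      ((orderOf_dvd_of_pow_eq_one h2).trans hxo)
      (by rw [pow_one]; exact orderOf_dvd_of_pow_eq_one (hMexp _ hw))))
  by_cases hqr : q = r
  · refine (hfin s j y x hs' (hqr ▸ hne.symm) hy hyo ?_).symm
    rw [← commutatorElement_inv]; exact inv_mem hwM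
  · exact hfin q i x y hq hqr hx hxo hwM

/-- The subgroup generated by the family is nilpotent. -/
theorem Ctx.nilpotent (h : Ctx e K U c 𝓕) : Group.IsNilpotent ↥(⨆ R ∈ 𝓕, R) := nilpotent_aux _ rfl h

/-- Products of invariant pieces in a section: fixed elements come from fixed elements of the pieces. -/
theorem fixed_of_sup {Λ : Set (Subgroup Γ)} {L L' T B : Subgroup Γ} [L'.Normal]
    (hB : IsPGroup p B) (hLco : (Nat.card L).Coprime p) (hBL : B ≤ Subgroup.normalizer (L : Set Γ))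
    (hab : ∀ x ∈ L, ∀ y ∈ L, ⁅x, y⁆ ∈ L') (hΛL : ∀ J ∈ Λ, J ≤ L) (hL : L ≤ (⨆ J ∈ Λ, J) ⊔ L')
    (hBJ : ∀ J ∈ Λ, B ≤ Subgroup.normalizer (J : Set Γ)) (hL' : L' ≤ L)
    (hT : ∀ J ∈ Λ, J ⊓ Subgroup.centralizer (B : Set Γ) ≤ T) :
    L ⊓ Subgroup.centralizer (B : Set Γ) ≤ T ⊔ L' := by
  classical
  haveI := Fintype.ofFinite B
  obtain ⟨f, hf, hs⟩ : ∃ f : Γ →* Γ ⧸ L', f.ker = L' ∧ Function.Surjective f :=
    ⟨QuotientGroup.mk' L', QuotientGroup.ker_mk' L', QuotientGroup.mk'_surjective L'⟩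
  have hcom : ∀ x ∈ L, ∀ y ∈ L, Commute (f x) (f y) := fun x hx y hy => by
    refine commutatorElement_eq_one_iff_mul_comm.1 ?_
    rw [← map_commutatorElement, ← MonoidHom.mem_ker, hf]
    exact hab x hx y hy
  letI : CommGroup (L.map f) :=
    { (inferInstance : Group (L.map f)) with
      mul_comm := by
        rintro ⟨_, x, hx, rfl⟩ ⟨_, y, hy, rfl⟩
        exact Subtype.ext (hcom x hx y hy) }
  have hconj : ∀ b : B, ∀ x ∈ L, (b : Γ) * x * (b : Γ)⁻¹ ∈ L := fun b x hx =>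
    (Subgroup.mem_normalizer_iff.1 (hBL b.2) x).1 hx
  obtain ⟨avg, havg⟩ : ∃ avg : L → L.map f, ∀ x : L, avg x = ∏ b : B,
      (⟨f ((b : Γ) * x * (b : Γ)⁻¹), _, hconj b x x.2, rfl⟩ : L.map f) := ⟨_, fun x => rfl⟩
  have havg_mul : ∀ x y, avg (x * y) = avg x * avg y := by
    intro x y
    rw [havg, havg, havg, ← Finset.prod_mul_distrib]
    refine Finset.prod_congr rfl fun b _ => Subtype.ext ?_
    show f _ = f _ * f _
    rw [← map_mul, Subgroup.coe_mul]
    congr 1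
    group
  obtain ⟨E, hE⟩ : ∃ E : Subgroup Γ, ∀ x, x ∈ E ↔
      ∃ hx : x ∈ L, (avg ⟨x, hx⟩ : Γ ⧸ L') ∈ T.map f := by
    refine ⟨{ carrier := {x | ∃ hx : x ∈ L, (avg ⟨x, hx⟩ : Γ ⧸ L') ∈ T.map f}
              one_mem' := ⟨one_mem L, ?_⟩
              mul_mem' := ?_
              inv_mem' := ?_ }, fun x => Iff.rfl⟩
    · rintro a b ⟨ha, ha'⟩ ⟨hb, hb'⟩
      refine ⟨mul_mem ha hb, ?_⟩
      have e0 : avg (⟨a * b, mul_mem ha hb⟩ : L) = avg ⟨a, ha⟩ * avg ⟨b, hb⟩ := havg_mul ⟨a, ha⟩ ⟨b, hb⟩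
      rw [e0, Subgroup.coe_mul]
      exact mul_mem ha' hb'
    · have h1 := havg_mul 1 1
      rw [mul_one, left_eq_mul] at h1
      rw [show (⟨1, one_mem L⟩ : L) = 1 from rfl, h1]
      exact one_mem _
    · rintro a ⟨ha, ha'⟩
      refine ⟨inv_mem ha, ?_⟩
      have h1 := havg_mul 1 1
      rw [mul_one, left_eq_mul] at h1
      have h2 := havg_mul ⟨a⁻¹, inv_mem ha⟩ ⟨a, ha⟩
      rw [show (⟨a⁻¹, inv_mem ha⟩ : L) * ⟨a, ha⟩ = 1 from Subtype.ext (inv_mul_cancel a), h1,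
        eq_comm, mul_eq_one_iff_eq_inv] at h2
      rw [h2, Subgroup.coe_inv]
      exact inv_mem ha'
  have hLE : L ≤ E := by
    refine hL.trans (sup_le (iSup₂_le fun J hJ x hx => ?_) fun x hx => ?_)
    · refine (hE x).2 ⟨hΛL J hJ hx, ?_⟩
      -- the average of an element of `J` is the image of a fixed element of `J`
      haveI : Group.IsNilpotent B := hB.isNilpotent
      have hy : ∀ s : Finset B, ∃ y ∈ J, f y = ((∏ b ∈ s,
          (⟨f ((b : Γ) * x * (b : Γ)⁻¹), _, hconj b x (hΛL J hJ hx), rfl⟩ : L.map f) : L.map f) : Γ ⧸ L') := by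
        intro s
        induction s using Finset.induction_on with
        | empty => exact ⟨1, one_mem J, by rw [map_one, Finset.prod_empty]; rfl⟩
        | insert b s hb ih =>
          obtain ⟨y, hy, hye⟩ := ih
          refine ⟨(b : Γ) * x * (b : Γ)⁻¹ * y,
            mul_mem ((Subgroup.mem_normalizer_iff.1 (hBJ J hJ b.2) x).1 hx) hy, ?_⟩
          rw [Finset.prod_insert hb, Subgroup.coe_mul, map_mul, hye]
      obtain ⟨y, hyJ, hye⟩ := hy Finset.univ
      rw [← havg ⟨x, hΛL J hJ hx⟩] at hye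
      have hfix : ∀ a ∈ B, f (a * y * a⁻¹) = f y := by
        intro a ha
        have hequiv : (∏ b : B, (⟨f (a * ((b : Γ) * x * (b : Γ)⁻¹) * a⁻¹), _,
            hconj ⟨a, ha⟩ _ (hconj b x (hΛL J hJ hx)), rfl⟩ : L.map f)) = avg ⟨x, hΛL J hJ hx⟩ := by
          rw [havg]
          refine Fintype.prod_equiv (Equiv.mulLeft (⟨a, ha⟩ : B)) _ _ fun b => Subtype.ext ?_
          show f _ = f _
          congr 1
          simp only [Equiv.coe_mulLeft, Subgroup.coe_mul]
          group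
        have hprod : ∀ s : Finset B, (((∏ b ∈ s, (⟨f (a * ((b : Γ) * x * (b : Γ)⁻¹) * a⁻¹), _,
            hconj ⟨a, ha⟩ _ (hconj b x (hΛL J hJ hx)), rfl⟩ : L.map f)) : L.map f) : Γ ⧸ L') =
            f a * ((∏ b ∈ s, (⟨f ((b : Γ) * x * (b : Γ)⁻¹), _, hconj b x (hΛL J hJ hx), rfl⟩ : L.map f) : L.map f) : Γ ⧸ L') * (f a)⁻¹ := by
          intro s
          induction s using Finset.induction_on with
          | empty => simp
          | insert b s hb ih =>
            rw [Finset.prod_insert hb, Finset.prod_insert hb, Subgroup.coe_mul, Subgroup.coe_mul, ih]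
            simp only [map_mul, map_inv]
            group
        have h1 := hprod Finset.univ
        rw [hequiv, ← havg ⟨x, hΛL J hJ hx⟩, ← hye] at h1
        rw [map_mul, map_mul, map_inv]
        exact h1.symm
      obtain ⟨z, hz, hzy⟩ := exists_fixed_in_coset' B J (J ⊓ L') (hBJ J hJ)
        (coprime_of_pgroup hB (hLco.coprime_dvd_left (Subgroup.card_dvd_of_le (hΛL J hJ))))
        (Or.inl inferInstance) inf_le_left (fun a ha => Subgroup.mem_normalizer_iff.2 fun z => by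
          constructor
          · exact fun h => ⟨(Subgroup.mem_normalizer_iff.1 (hBJ J hJ ha) z).1 h.1,
              ‹L'.Normal›.conj_mem z h.2 a⟩
          · intro h
            refine ⟨(Subgroup.mem_normalizer_iff.1 (hBJ J hJ ha) z).2 h.1, ?_⟩
            have h2 := ‹L'.Normal›.conj_mem _ h.2 a⁻¹
            rwa [show a⁻¹ * (a * z * a⁻¹) * a⁻¹⁻¹ = z by group] at h2)
        hyJ (fun a ha => Subgroup.mem_inf.2
          ⟨mul_mem (inv_mem hyJ) ((Subgroup.mem_normalizer_iff.1 (hBJ J hJ ha) y).1 hyJ), by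
            rw [← hf, MonoidHom.mem_ker, map_mul, map_inv, hfix a ha, inv_mul_cancel]⟩)
      refine ⟨z, hT J hJ hz, ?_⟩
      rw [← hye]
      have h2 := (Subgroup.mem_inf.1 hzy).2
      rw [← hf, MonoidHom.mem_ker, map_mul, map_inv, inv_mul_eq_one] at h2
      exact h2.symm
    · refine (hE x).2 ⟨hL' hx, ?_⟩
      have h1 : avg ⟨x, hL' hx⟩ = 1 := by
        rw [havg]
        refine Finset.prod_eq_one fun b _ => Subtype.ext ?_
        show f ((b : Γ) * x * (b : Γ)⁻¹) = 1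
        rw [← MonoidHom.mem_ker, hf]
        exact ‹L'.Normal›.conj_mem x hx b
      rw [h1]
      exact one_mem _
  intro x hx
  obtain ⟨hxL, hxm⟩ := (hE x).1 (hLE hx.1)
  have h1 : (avg ⟨x, hxL⟩ : Γ ⧸ L') = f x ^ Nat.card B := by
    have h3 : avg ⟨x, hxL⟩ = ∏ _b : B, (⟨f x, x, hxL, rfl⟩ : L.map f) := by
      rw [havg]
      refine Finset.prod_congr rfl fun b _ => Subtype.ext ?_
      show f _ = f x
      rw [Subgroup.mem_centralizer_iff.1 hx.2 b b.2, mul_inv_cancel_right]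
    rw [h3, Finset.prod_const, Finset.card_univ, Subgroup.coe_pow, Nat.card_eq_fintype_card]
  rw [h1] at hxm
  have hcop : (Nat.card B).Coprime (orderOf (f x)) :=
    (coprime_of_pgroup hB hLco).coprime_dvd_right
      ((orderOf_map_dvd f x).trans (Subgroup.orderOf_dvd_natCard L hxL))
  obtain ⟨m, hm⟩ := exists_pow_eq_self_of_coprime hcop
  have h2 : f x ∈ T.map f := hm ▸ pow_mem hxm m
  obtain ⟨t, ht, htx⟩ := h2
  have h3 : t⁻¹ * x ∈ L' := by
    rw [← hf, MonoidHom.mem_ker, map_mul, map_inv, htx, inv_mul_cancel]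
  rw [show x = t * (t⁻¹ * x) by group]
  exact mul_mem (Subgroup.mem_sup_left ht) (Subgroup.mem_sup_right h3)

/-- The class bound of the subgroup generated by the family. -/
def famBound (p k c : ℕ) : ℕ := GradedNil.classBound p (p ^ k) (p ^ k * c + 1) k

theorem class_bound (h : Ctx e K U c 𝓕) (hA : ∀ R ∈ 𝓕, e.range ≤ Subgroup.normalizer (R : Set Γ))
    (hHn : (⨆ R ∈ 𝓕, R).Normal)
    (hclosed : ∀ R ∈ 𝓕, ∀ P ∈ 𝓕, ∀ B ∈ CycQuot e.range,
      ∃ R' ∈ 𝓕, ⁅R, P⁆ ⊓ Subgroup.centralizer (B : Set Γ) ≤ R') :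
    (⨆ R ∈ 𝓕, R).lowerCentralSeries (famBound p k c) = ⊥ := by
  classical
  haveI : NeZero p := ⟨hp.out.ne_zero⟩
  haveI hnil := h.nilpotent
  obtain ⟨H, hH⟩ : ∃ H, H = ⨆ R ∈ 𝓕, R := ⟨_, rfl⟩
  rw [← hH] at hHn hnil ⊢
  have hHK : H ≤ K := hH ▸ h.iSup_le_K
  haveI := h.hK
  have hRH : ∀ R ∈ 𝓕, R ≤ H := fun R hR => hH ▸ le_iSup₂ (f := fun R (_ : R ∈ 𝓕) => R) R hR
  have hAc := range_comm e
  have hAp := isPGroup_range e
  have hcoK : ∀ {L : Subgroup Γ}, L ≤ K → (Nat.card L).Coprime p := fun hL =>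
    h.hco.coprime_dvd_left (Subgroup.card_dvd_of_le hL)
  -- invariant generators of each layer
  obtain ⟨Λ, hΛ⟩ : ∃ Λ : ℕ → Set (Subgroup Γ), ∀ i, Λ i = {J : Subgroup Γ | e.range ≤ Subgroup.normalizer (J : Set Γ) ∧
      J ≤ H.lowerCentralSeries i ∧ ∃ R ∈ 𝓕, J ≤ R} := ⟨_, fun i => rfl⟩
  have hlayer : ∀ i, H.lowerCentralSeries i ≤ (⨆ J ∈ Λ i, J) ⊔ H.lowerCentralSeries (i + 1) := by
    intro i
    induction i with
    | zero =>
      rw [Subgroup.lowerCentralSeries_zero]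
      refine le_trans ?_ le_sup_left
      conv_lhs => rw [hH]
      refine iSup₂_le fun R hR => le_iSup₂_of_le R ?_ le_rfl
      rw [hΛ]
      exact ⟨hA R hR, by rw [Subgroup.lowerCentralSeries_zero]; exact hRH R hR, R, hR, le_rfl⟩
    | succ i ih =>
      obtain ⟨D, hD⟩ : ∃ D, D = (⨆ J ∈ Λ (i + 1), J) ⊔ H.lowerCentralSeries (i + 1 + 1) := ⟨_, rfl⟩
      rw [← hD, Subgroup.lowerCentralSeries_succ]
      obtain ⟨f, hf, hs⟩ : ∃ f : Γ →* Γ ⧸ H.lowerCentralSeries (i + 1 + 1),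
          f.ker = H.lowerCentralSeries (i + 1 + 1) ∧ Function.Surjective f :=
        ⟨QuotientGroup.mk' _, QuotientGroup.ker_mk' _, QuotientGroup.mk'_surjective _⟩
      -- `D` is normalized by `H`
      have hDn : H ≤ Subgroup.normalizer (D : Set Γ) := by
        intro x hx
        refine mem_normalizer_of_conj_smul ?_
        have hle : ∀ y ∈ H, MulAut.conj y • D ≤ D := by
          intro y hy z hz
          rw [mem_conj_smul] at hz
          have hz' : y⁻¹ * z * y ∈ H.lowerCentralSeries (i + 1) := by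
            have hDl : D ≤ H.lowerCentralSeries (i + 1) := hD ▸ sup_le
              (iSup₂_le fun J hJ => ((hΛ (i + 1)).le hJ).2.1) (H.lowerCentralSeries_antitone (Nat.le_succ _))
            exact hDl hz
          have h2 : ⁅y⁻¹ * z * y, y⁆ ∈ D := by
            rw [hD]
            refine Subgroup.mem_sup_right ?_
            rw [Subgroup.lowerCentralSeries_succ]
            exact Subgroup.commutator_mem_commutator hz' hy
          have h3 := mul_mem (inv_mem h2) hz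
          rwa [show ⁅y⁻¹ * z * y, y⁆⁻¹ * (y⁻¹ * z * y) = z by rw [commutatorElement_def]; group] at h3
        refine le_antisymm (hle x hx) (Subgroup.subset_pointwise_smul_iff.2 ?_)
        rw [← map_inv]
        exact hle _ (inv_mem hx)
      refine Subgroup.commutator_le.2 fun u hu v hv => ?_
      -- bilinearity modulo `D`
      have hgen : ∀ J ∈ Λ i, ∀ P ∈ 𝓕, ∀ x ∈ J, ∀ y ∈ P, ⁅x, y⁆ ∈ D := by
        intro J hJ P hP x hx y hy
        obtain ⟨hJA, hJl, R, hR, hJR⟩ := (hΛ i).le hJ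
        have hJP : e.range ≤ Subgroup.normalizer ((⁅J, P⁆ : Subgroup Γ) : Set Γ) := fun a ha => by
          refine mem_normalizer_of_conj_smul ?_
          rw [conj_smul_eq_map, Subgroup.map_commutator, ← conj_smul_eq_map, ← conj_smul_eq_map,
            conj_smul_of_mem_normalizer (hJA ha), conj_smul_of_mem_normalizer (hA P hP ha)]
        have hJPl : ⁅J, P⁆ ≤ H.lowerCentralSeries (i + 1) := by
          rw [Subgroup.lowerCentralSeries_succ]; exact Subgroup.commutator_mono hJl (hRH P hP)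
        have hle : ⁅J, P⁆ ≤ D := by
          rw [← gen_eq e.range ⁅J, P⁆ hAc hJP
            (coprime_of_pgroup hAp (hcoK ((hJPl.trans (H.lowerCentralSeries_antitone (Nat.zero_le _))).trans hHK)))]
          refine iSup₂_le fun B hB => le_trans ?_ (hD ▸ le_sup_left)
          refine le_iSup₂_of_le (⁅J, P⁆ ⊓ Subgroup.centralizer (B : Set Γ)) ?_ le_rfl
          rw [hΛ]
          refine ⟨fun a ha => ?_, inf_le_left.trans hJPl, ?_⟩
          · refine mem_normalizer_of_conj_smul ?_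
            rw [Subgroup.smul_inf, conj_smul_of_mem_normalizer (hJP ha),
              Subgroup.conj_smul_eq_self_of_mem ?_]
            rw [Subgroup.mem_centralizer_iff]
            intro b hb
            exact congrArg Subtype.val (hAc.is_comm.comm ⟨b, hB.1 hb⟩ ⟨a, ha⟩)
          · obtain ⟨R', hR', hle'⟩ := hclosed R hR P hP B hB
            exact ⟨R', hR', le_trans (inf_le_inf_right _ (Subgroup.commutator_mono hJR le_rfl)) hle'⟩
        exact hle (Subgroup.commutator_mem_commutator hx hy)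
      have hright : ∀ x, x ∈ H → (∀ P ∈ 𝓕, ∀ y ∈ P, ⁅x, y⁆ ∈ D) → ∀ y ∈ H, ⁅x, y⁆ ∈ D := by
        intro x hx hxP y hy
        obtain ⟨C, hC⟩ : ∃ C : Subgroup Γ, ∀ y, y ∈ C ↔ y ∈ H ∧ ⁅x, y⁆ ∈ D :=
          ⟨{ carrier := {y | y ∈ H ∧ ⁅x, y⁆ ∈ D}
             one_mem' := ⟨one_mem _, by simp⟩
             mul_mem' := fun {a b} ha hb => ⟨mul_mem ha.1 hb.1, by
               rw [show ⁅x, a * b⁆ = ⁅x, a⁆ * (a * ⁅x, b⁆ * a⁻¹) by simp only [commutatorElement_def]; group]
               exact mul_mem ha.2 ((Subgroup.mem_normalizer_iff.1 (hDn ha.1) _).1 hb.2)⟩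
             inv_mem' := fun {a} ha => ⟨inv_mem ha.1, by
               rw [show ⁅x, a⁻¹⁆ = a⁻¹ * ⁅x, a⁆⁻¹ * a⁻¹⁻¹ by simp only [commutatorElement_def]; group]
               exact (Subgroup.mem_normalizer_iff.1 (hDn (inv_mem ha.1)) _).1 (inv_mem ha.2)⟩ },
            fun y => Iff.rfl⟩
        have hle : H ≤ C := by
          conv_lhs => rw [hH]
          exact iSup₂_le fun P hP z hz => (hC z).2 ⟨hRH P hP hz, hxP P hP z hz⟩
        exact ((hC y).1 (hle hy)).2
      obtain ⟨C, hC⟩ : ∃ C : Subgroup Γ, ∀ x, x ∈ C ↔ x ∈ H ∧ ⁅x, v⁆ ∈ D :=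
        ⟨{ carrier := {x | x ∈ H ∧ ⁅x, v⁆ ∈ D}
           one_mem' := ⟨one_mem _, by simp⟩
           mul_mem' := fun {a b} ha hb => ⟨mul_mem ha.1 hb.1, by
             rw [show ⁅a * b, v⁆ = (a * ⁅b, v⁆ * a⁻¹) * ⁅a, v⁆ by simp only [commutatorElement_def]; group]
             exact mul_mem ((Subgroup.mem_normalizer_iff.1 (hDn ha.1) _).1 hb.2) ha.2⟩
           inv_mem' := fun {a} ha => ⟨inv_mem ha.1, by
             rw [show ⁅a⁻¹, v⁆ = a⁻¹ * ⁅a, v⁆⁻¹ * a⁻¹⁻¹ by simp only [commutatorElement_def]; group]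
             exact (Subgroup.mem_normalizer_iff.1 (hDn (inv_mem ha.1)) _).1 (inv_mem ha.2)⟩ },
          fun x => Iff.rfl⟩
      have hle : H.lowerCentralSeries i ≤ C := by
        refine ih.trans (sup_le (iSup₂_le fun J hJ x hx => ?_) fun x hx => ?_)
        · have hxH : x ∈ H := H.lowerCentralSeries_antitone (Nat.zero_le _) (((hΛ i).le hJ).2.1 hx)
          exact (hC x).2 ⟨hxH, hright x hxH (fun P hP y hy => hgen J hJ P hP x hx y hy) v hv⟩
        · refine (hC x).2 ⟨H.lowerCentralSeries_antitone (Nat.zero_le _) hx, ?_⟩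
          rw [hD]
          refine Subgroup.mem_sup_right ?_
          rw [Subgroup.lowerCentralSeries_succ]
          exact Subgroup.commutator_mem_commutator hx hv
      exact ((hC u).1 (hle hu)).2
  -- fixed points come from fixed points of members
  obtain ⟨n, hn⟩ := (Subgroup.isNilpotent_iff_lowerCentralSeries H).1 hnil
  have hfix : ∀ B : Subgroup Γ, B ≤ e.range →
      H ⊓ Subgroup.centralizer (B : Set Γ) ≤ ⨆ R ∈ 𝓕, R ⊓ Subgroup.centralizer (B : Set Γ) := by
    intro B hB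
    obtain ⟨T, hT⟩ : ∃ T, T = ⨆ R ∈ 𝓕, R ⊓ Subgroup.centralizer (B : Set Γ) := ⟨_, rfl⟩
    rw [← hT]
    have hTle : T ≤ Subgroup.centralizer (B : Set Γ) := hT ▸ iSup₂_le fun R _ => inf_le_right
    suffices key : ∀ m, ∀ i, n ≤ i + m → H.lowerCentralSeries i ⊓ Subgroup.centralizer (B : Set Γ) ≤ T by
      have := key n 0 (by omega)
      rwa [Subgroup.lowerCentralSeries_zero] at this
    intro m
    induction m with
    | zero =>
      intro i hi
      refine inf_le_left.trans ?_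
      exact (H.lowerCentralSeries_antitone (show n ≤ i by omega)).trans (hn.le.trans bot_le)
    | succ m ih =>
      intro i hi x hx
      haveI : (H.lowerCentralSeries (i + 1)).Normal := inferInstance
      have h1 := fixed_of_sup (p := p) (Λ := Λ i) (L := H.lowerCentralSeries i)
        (L' := H.lowerCentralSeries (i + 1)) (T := T ⊓ H.lowerCentralSeries i) (hAp.to_le hB)
        (hcoK ((H.lowerCentralSeries_antitone (Nat.zero_le _)).trans hHK))
        (by rw [Subgroup.normalizer_eq_top]; exact le_top)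
        (fun a ha b hb => by
          rw [Subgroup.lowerCentralSeries_succ]
          exact Subgroup.commutator_mem_commutator ha (H.lowerCentralSeries_antitone (Nat.zero_le _) hb))
        (fun J hJ => ((hΛ i).le hJ).2.1) (hlayer i)
        (fun J hJ => hB.trans ((hΛ i).le hJ).1) (H.lowerCentralSeries_antitone (Nat.le_succ _))
        (fun J hJ => by
          obtain ⟨-, hJl, R, hR, hJR⟩ := (hΛ i).le hJ
          refine le_inf (le_trans (inf_le_inf_right _ hJR) ?_) (inf_le_left.trans hJl)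
          rw [hT]
          exact le_iSup₂ (f := fun R (_ : R ∈ 𝓕) => R ⊓ Subgroup.centralizer (B : Set Γ)) R hR) hx
      have h1' : x ∈ ((T ⊓ H.lowerCentralSeries i ⊔ H.lowerCentralSeries (i + 1) : Subgroup Γ) : Set Γ) := h1
      rw [Subgroup.mul_normal] at h1'
      obtain ⟨t, ht, z, hz, rfl⟩ := h1'
      refine mul_mem ht.1 (ih (i + 1) (by omega) ⟨hz, ?_⟩)
      have h2 := mul_mem (inv_mem (hTle ht.1)) hx.2
      rwa [inv_mul_cancel_left] at h2
  -- the commutator condition of the Lie ring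
  have hcoH : (Nat.card H).Coprime p := hcoK hHK
  haveI := hHn
  have h1 := CoprimeLieNil.γ_eq_bot e H hcoH (N := p ^ k * c + 1) ?_
  · rw [← Subgroup.top_subtype_lowerCentralSeries]
    exact (Subgroup.map_eq_bot_iff_of_injective _ H.subtype_injective).2 h1
  intro v w y l hy hl hlen
  have hbig : ∀ (v : Fin k → ZMod p) (S : Subgroup (W p k)),
      (∀ u : W p k, u ∈ S ↔ Multiplicative.toAdd u ∈ CoprimeLieNil.ann v) → p ^ (k - 1) ≤ Nat.card S := by
    intro v S hS
    rcases eq_or_ne v 0 with rfl | hv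
    · have hall : ∀ u : W p k, u ∈ S := fun u => (hS u).2 (by
        rw [CoprimeLieNil.mem_ann]; simp [CoprimeLieNil.dot])
      rw [(Subgroup.eq_top_iff' S).2 hall, Subgroup.card_top, card_W]
      exact Nat.pow_le_pow_right hp.out.pos (Nat.sub_le k 1)
    · obtain ⟨u₀, hu₀⟩ := CoprimeLieNil.exists_dot_eq_one hv
      have htop : S ⊔ Subgroup.zpowers (Multiplicative.ofAdd u₀) = ⊤ := by
        refine top_le_iff.1 fun u _ => ?_
        obtain ⟨t, ht⟩ : ∃ t : ℕ, (t : ZMod p) = CoprimeLieNil.dot (Multiplicative.toAdd u) v :=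
          ⟨_, ZMod.natCast_zmod_val _⟩
        rw [show u = (u * ((Multiplicative.ofAdd u₀) ^ t)⁻¹) * (Multiplicative.ofAdd u₀) ^ t by group]
        refine mul_mem (Subgroup.mem_sup_left ((hS _).2 ?_))
          (Subgroup.mem_sup_right (pow_mem (Subgroup.mem_zpowers _) t))
        rw [CoprimeLieNil.mem_ann, toAdd_mul, toAdd_inv, toAdd_pow, toAdd_ofAdd,
          ← Nat.cast_smul_eq_nsmul (ZMod p), ← neg_smul, CoprimeLieNil.dot_add_left,
          CoprimeLieNil.dot_smul_left, hu₀, mul_one, ht, add_neg_cancel]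
      have h1 := card_sup_mul_card_inf S (Subgroup.zpowers (Multiplicative.ofAdd u₀))
      rw [htop, Subgroup.card_top, card_W] at h1
      have h2 : Nat.card (Subgroup.zpowers (Multiplicative.ofAdd u₀ : W p k)) ≤ p := by
        rw [Nat.card_zpowers]
        exact Nat.le_of_dvd hp.out.pos (orderOf_dvd_of_pow_eq_one (pow_p_eq_one _))
      refine Nat.le_of_mul_le_mul_left ?_ hp.out.pos
      rw [← pow_succ', show k - 1 + 1 = k by have := h.hk; omega, mul_comm p]
      exact (Nat.le_mul_of_pos_right _ Nat.card_pos).trans (h1.le.trans (Nat.mul_le_mul_left _ h2))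
  obtain ⟨Sv, hSv⟩ : ∃ Sv : Subgroup (W p k), ∀ u : W p k, u ∈ Sv ↔ Multiplicative.toAdd u ∈ CoprimeLieNil.ann v :=
    ⟨AddSubgroup.toSubgroup (CoprimeLieNil.ann v), fun u => Iff.rfl⟩
  obtain ⟨Sw, hSw⟩ : ∃ Sw : Subgroup (W p k), ∀ u : W p k, u ∈ Sw ↔ Multiplicative.toAdd u ∈ CoprimeLieNil.ann w :=
    ⟨AddSubgroup.toSubgroup (CoprimeLieNil.ann w), fun u => Iff.rfl⟩
  obtain ⟨K0, hK0⟩ : ∃ K0, K0 = H ⊓ Subgroup.centralizer ((Sv ⊓ Sw).map e : Set Γ) := ⟨_, rfl⟩
  have hK0C : ∀ a ∈ Sv ⊓ Sw, K0 ≤ K ⊓ Subgroup.centralizer {e a} := fun a ha x hx => by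
    rw [hK0] at hx
    exact ⟨hHK hx.1, Subgroup.mem_centralizer_singleton_iff.2
      (Subgroup.mem_centralizer_iff.1 hx.2 (e a) ⟨a, ha, rfl⟩).symm⟩
  -- the normal nilpotent subgroup `V` of `K0`
  obtain ⟨N, hN⟩ : ∃ N : {a : W p k // a ∈ Sv ⊓ Sw ∧ a ≠ 1} → Subgroup K0,
      ∀ a, N a = (U a.1).subgroupOf K0 := ⟨_, fun a => rfl⟩
  have hNn : ∀ a, (N a).Normal := by
    intro a
    refine ⟨fun x hx g => ?_⟩
    rw [hN, Subgroup.mem_subgroupOf] at hx ⊢
    push_cast
    exact (Subgroup.mem_normalizer_iff.1 (h.hUnorm a.1 a.2.2 (hK0C a.1 a.2.1 g.2)) _).1 hx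
  have hNc : ∀ a, (N a).lowerCentralSeries c = ⊥ := by
    intro a
    rw [← Subgroup.map_eq_bot_iff_of_injective _ K0.subtype_injective, Subgroup.map_lowerCentralSeries,
      eq_bot_iff, ← h.hUc a.1 a.2.2]
    refine Subgroup.lowerCentralSeries_mono c ?_
    rw [hN, Subgroup.subgroupOf_map_subtype]
    exact inf_le_left
  haveI := Fintype.ofFinite {a : W p k // a ∈ Sv ⊓ Sw ∧ a ≠ 1}
  obtain ⟨V, hV⟩ : ∃ V, V = (⨆ a, N a).map K0.subtype := ⟨_, rfl⟩
  have hVc : V.lowerCentralSeries (p ^ k * c) = ⊥ := by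
    rw [hV, ← Subgroup.map_lowerCentralSeries, Subgroup.map_eq_bot_iff_of_injective _ K0.subtype_injective,
      eq_bot_iff, ← FittingClass.lcs_iSup_eq_bot N hNn c hNc]
    refine Subgroup.lowerCentralSeries_antitone _ (Nat.mul_le_mul_right c ?_)
    rw [← Nat.card_eq_fintype_card, ← card_W (p := p) (k := k)]
    exact Nat.card_le_card_of_injective _ Subtype.val_injective
  have hVK0 : V ≤ K0 := hV ▸ Subgroup.map_subtype_le _
  have hVn : K0 ≤ Subgroup.normalizer (V : Set Γ) := by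
    intro g hg
    refine mem_normalizer_of_conj_smul ?_
    rw [hV, Subgroup.map_iSup, conj_smul_eq_map, Subgroup.map_iSup]
    refine iSup_congr fun a => ?_
    haveI := hNn a
    rw [← conj_smul_eq_map]
    refine conj_smul_of_mem_normalizer (Subgroup.mem_normalizer_iff.2 fun z => ?_)
    constructor
    · rintro ⟨z, hz, rfl⟩
      exact ⟨⟨g, hg⟩ * z * ⟨g, hg⟩⁻¹, (hNn a).conj_mem z hz _, rfl⟩
    · rintro ⟨z', hz', hzz⟩
      refine ⟨⟨g, hg⟩⁻¹ * z' * ⟨g, hg⟩⁻¹⁻¹, (hNn a).conj_mem z' hz' _, ?_⟩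
      rw [Subgroup.coe_subtype] at hzz ⊢
      push_cast
      rw [hzz]
      group
  have hUV : ∀ a ∈ Sv ⊓ Sw, a ≠ 1 → U a ⊓ K0 ≤ V := fun a ha ha1 z hz => by
    rw [hV]
    exact ⟨⟨z, hz.2⟩, Subgroup.mem_iSup_of_mem ⟨a, ha, ha1⟩
      (by rw [hN, Subgroup.mem_subgroupOf]; exact hz.1), rfl⟩
  -- members fixed by `Sv`
  have hTK0 : ∀ R ∈ 𝓕, R ⊓ Subgroup.centralizer ((Sv.map e : Subgroup Γ) : Set Γ) ≤ K0 := fun R hR => by
    rw [hK0]
    exact le_inf (inf_le_left.trans (hRH R hR))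
      (inf_le_right.trans (Subgroup.centralizer_le (SetLike.coe_subset_coe.2 (Subgroup.map_mono inf_le_left))))
  have hRV : ∀ R ∈ 𝓕, ∀ S : Subgroup (W p k), p ^ 2 ≤ Nat.card S → (∀ a ∈ S, a ≠ 1 → R ≤ U a) →
      S ≤ Sv → R ⊓ Subgroup.centralizer ((Sv.map e : Subgroup Γ) : Set Γ) ≤ V := by
    intro R hR S hS hU hSS z hz
    obtain ⟨a, ha, ha1⟩ : ∃ a ∈ S ⊓ Sw, a ≠ 1 :=
      exists_ne_one (by have := h.hk; omega) (card_inf_ge S Sw hS (hbig w Sw hSw))
    exact hUV a ⟨hSS ha.1, ha.2⟩ ha1 ⟨hU a ha.1 ha1 hz.1, hTK0 R hR hz⟩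
  have hxV : ∀ x ∈ l, (x : Γ) ∈ V := by
    intro x hx
    have hfixmem : ∀ (z : H), (∀ u ∈ CoprimeLieNil.ann v, CoprimeLieNil.σ e H u z = z) →
        (z : Γ) ∈ ⨆ R ∈ 𝓕, R ⊓ Subgroup.centralizer ((Sv.map e : Subgroup Γ) : Set Γ) := by
      intro z hz
      refine hfix (Sv.map e) (Subgroup.map_le_range e Sv) ⟨z.2, Subgroup.mem_centralizer_iff.2 ?_⟩
      rintro _ ⟨b, hb, rfl⟩
      have h1 := congrArg Subtype.val (hz (Multiplicative.toAdd b) ((hSv b).1 hb))
      rw [CoprimeLieNil.σ_coe, ofAdd_toAdd, mul_inv_eq_iff_eq_mul] at h1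
      exact h1
    rcases hl x hx with ⟨hv, hxf⟩ | ⟨hv, u, z, hzf, rfl⟩
    · have hle : (⨆ R ∈ 𝓕, R ⊓ Subgroup.centralizer ((Sv.map e : Subgroup Γ) : Set Γ)) ≤ V := by
        refine iSup₂_le fun R hR => ?_
        obtain ⟨S, hS, hU⟩ := h.hcert R hR
        exact hRV R hR S hS hU fun b _ => (hSv b).2 (by
          rw [CoprimeLieNil.mem_ann, hv]; simp [CoprimeLieNil.dot])
      exact hle (hfixmem x fun b _ => hxf b)
    · obtain ⟨g, hg⟩ : ∃ g, g = e (Multiplicative.ofAdd u) := ⟨_, rfl⟩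
      obtain ⟨Q, hQ⟩ : ∃ Q : Subgroup Γ, ∀ z, z ∈ Q ↔ z ∈ K0 ∧ ⁅g, z⁆ ∈ V :=
        ⟨{ carrier := {z | z ∈ K0 ∧ ⁅g, z⁆ ∈ V}
           one_mem' := ⟨one_mem _, by simp⟩
           mul_mem' := fun {a b} ha hb => ⟨mul_mem ha.1 hb.1, by
             rw [show ⁅g, a * b⁆ = ⁅g, a⁆ * (a * ⁅g, b⁆ * a⁻¹) by simp only [commutatorElement_def]; group]
             exact mul_mem ha.2 ((Subgroup.mem_normalizer_iff.1 (hVn ha.1) _).1 hb.2)⟩
           inv_mem' := fun {a} ha => ⟨inv_mem ha.1, by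
             rw [show ⁅g, a⁻¹⁆ = a⁻¹ * ⁅g, a⁆⁻¹ * a⁻¹⁻¹ by simp only [commutatorElement_def]; group]
             exact (Subgroup.mem_normalizer_iff.1 (hVn (inv_mem ha.1)) _).1 (inv_mem ha.2)⟩ },
          fun z => Iff.rfl⟩
      have hle : (⨆ R ∈ 𝓕, R ⊓ Subgroup.centralizer ((Sv.map e : Subgroup Γ) : Set Γ)) ≤ Q := by
        refine iSup₂_le fun R hR z hz => (hQ z).2 ⟨hTK0 R hR hz, ?_⟩
        obtain ⟨S, hS, hU⟩ := h.hcert R hR
        have hgR : g ∈ Subgroup.normalizer (R : Set Γ) := hA R hR ⟨_, hg.symm⟩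
        by_cases hSS : S ≤ Sv
        · rw [commutatorElement_def]
          refine mul_mem (hRV R hR S hS hU hSS ⟨(Subgroup.mem_normalizer_iff.1 hgR z).1 hz.1, ?_⟩)
            (inv_mem (hRV R hR S hS hU hSS hz))
          refine Subgroup.mem_centralizer_iff.2 ?_
          rintro _ ⟨b, hb, rfl⟩
          have c1 : Commute (e b) z := Subgroup.mem_centralizer_iff.1 hz.2 (e b) ⟨b, hb, rfl⟩
          have c2 : Commute (e b) g := by
            rw [hg, Commute, SemiconjBy, ← map_mul, ← map_mul, mul_comm]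
          exact ((c2.mul_right c1).mul_right c2.inv_right).eq
        · obtain ⟨b, hbS, hbv⟩ := SetLike.not_le_iff_exists.1 hSS
          have hd : CoprimeLieNil.dot (Multiplicative.toAdd b) v ≠ 0 := fun h0 => hbv ((hSv b).2 h0)
          obtain ⟨t, ht⟩ : ∃ t : ℕ, (t : ZMod p) = CoprimeLieNil.dot u v *
              (CoprimeLieNil.dot (Multiplicative.toAdd b) v)⁻¹ := ⟨_, ZMod.natCast_zmod_val _⟩
          have hm : Multiplicative.ofAdd u * (b ^ t)⁻¹ ∈ Sv := by
            rw [hSv, CoprimeLieNil.mem_ann, toAdd_mul, toAdd_inv, toAdd_pow, toAdd_ofAdd,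
              ← Nat.cast_smul_eq_nsmul (ZMod p), ← neg_smul, CoprimeLieNil.dot_add_left,
              CoprimeLieNil.dot_smul_left, ht, neg_mul, inv_mul_cancel_right₀ hd, add_neg_cancel]
          have c1 : Commute (e (Multiplicative.ofAdd u * (b ^ t)⁻¹)) z :=
            Subgroup.mem_centralizer_iff.1 hz.2 _ ⟨_, hm, rfl⟩
          have hb1 : b ≠ 1 := fun hb1 => hbv (hb1 ▸ one_mem _)
          have c2 : Commute (e b) z :=
            (Subgroup.mem_centralizer_singleton_iff.1 ((h.hUle b hb1 (hU b hbS hb1 hz.1)).2)).symm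
          have c3 := c1.mul_left (c2.pow_left t)
          rw [← map_pow, ← map_mul, inv_mul_cancel_right, ← hg] at c3
          rw [commutatorElement_eq_one_iff_mul_comm.2 c3.eq]
          exact one_mem _
      have h2 := ((hQ _).1 (hle (hfixmem z hzf))).2
      rw [hg, commutatorElement_def] at h2
      rw [Subgroup.coe_mul, CoprimeLieNil.σ_coe]
      exact h2
  have hyK0 : (y : Γ) ∈ K0 := by
    rw [hK0]
    refine ⟨y.2, Subgroup.mem_centralizer_iff.2 ?_⟩
    rintro _ ⟨u, hu, rfl⟩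
    have h1 := congrArg Subtype.val (hy (Multiplicative.toAdd u) ((hSw u).1 hu.2))
    rw [CoprimeLieNil.σ_coe, ofAdd_toAdd, mul_inv_eq_iff_eq_mul] at h1
    exact h1
  have hdesc : ∀ (l : List H) (y : H), (∀ x ∈ l, (x : Γ) ∈ V) → ∀ m : ℕ,
      (y : Γ) ∈ V.lowerCentralSeries m →
      ((CoprimeLieNil.appG H y l : H) : Γ) ∈ V.lowerCentralSeries (m + l.length) := by
    intro l
    induction l with
    | nil => intro y _ m hm; exact hm
    | cons x l ihl =>
      intro y hl m hm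
      have h2 := ihl ⁅y, x⁆ (fun z hz => hl z (List.mem_cons_of_mem _ hz)) (m + 1) (by
        rw [Subgroup.lowerCentralSeries_succ]
        exact Subgroup.commutator_mem_commutator (g₁ := (y : Γ)) (g₂ := (x : Γ)) hm
          (hl x List.mem_cons_self))
      rw [List.length_cons, show m + (l.length + 1) = m + 1 + l.length by omega]
      exact h2
  cases l with
  | nil => simp at hlen
  | cons x l =>
    have hxV0 := hxV x List.mem_cons_self
    have h2 := hdesc l ⁅y, x⁆ (fun z hz => hxV z (List.mem_cons_of_mem _ hz)) 0 (by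
      rw [Subgroup.lowerCentralSeries_zero]
      show ⁅(y : Γ), (x : Γ)⁆ ∈ V
      rw [commutatorElement_def]
      exact mul_mem ((Subgroup.mem_normalizer_iff.1 (hVn hyK0) _).1 hxV0) (inv_mem hxV0))
    rw [List.length_cons, Nat.succ_inj] at hlen
    rw [zero_add, hlen, hVc, Subgroup.mem_bot] at h2
    exact Subtype.ext h2

end Cfsg.Agent.Solv.CoprimeFamily
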