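import Mathlib

/-!
# A module for a group with an irreducible automorphism of odd prime order
-/

set_option autoImplicit false

namespace Cfsg.Agent.CopFix

open Finset

theorem module_contra {V : Type*} [CommGroup V] [Fintype V] {q p : ℕ} [Fact q.Prime] (hp : p.Prime)
    (hp2 : p ≠ 2) (hqV : ¬ q ∣ Nat.card V) (y : MulAut V) (hyp : y ^ p = 1) (hy : y ≠ 1)
    (hirr : ∀ U : Subgroup V, (∀ a ∈ U, y a ∈ U) → U = ⊥ ∨ U = ⊤)
    (D : AddSubgroup (V → ZMod q)) (hD : D ≠ ⊥)
    (hshift : ∀ f ∈ D, ∀ v : V, (fun w => f (v⁻¹ * w)) ∈ D)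
    (hcomp : ∀ f ∈ D, (fun w => f (y⁻¹ w)) ∈ D)
    (hsum : ∀ f ∈ D, ∑ w, f w = 0)
    (hdec : ∀ v : V, v ≠ 1 → ∀ f ∈ D, ∃ e : V → ZMod q, ∃ e' : V → ZMod q,
      (∀ w, e (y w) = e w) ∧ (∀ w, e' (y w) = e' w) ∧ f = fun w => e w + e' (v⁻¹ * w)) : False := by
  classical
  let k := AlgebraicClosure (ZMod q)
  haveI : CharP k q := charP_of_injective_algebraMap (FaithfulSMul.algebraMap_injective (ZMod q) k) q
  haveI : NeZero ((Monoid.exponent V : ℕ) : k) := ⟨fun h0 => hqV ((((CharP.cast_eq_zero_iff k q _).1 h0)).trans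
    Group.exponent_dvd_nat_card)⟩
  haveI : HasEnoughRootsOfUnity k (Monoid.exponent V) := inferInstance
  let ι : ZMod q →+* k := algebraMap _ _
  let F : (V → ZMod q) → (V →* kˣ) → k := fun f χ => ∑ w, ι (f w) * (χ w : k)
  -- Fourier inversion
  have hinv : ∀ f : V → ZMod q, (∀ χ, F f χ = 0) → f = 0 := by
    intro f hf
    haveI : Finite (V →* kˣ) := Nat.finite_of_card_ne_zero (by
      rw [CommGroup.card_monoidHom_of_hasEnoughRootsOfUnity V k]; exact Nat.card_pos.ne')
    letI := Fintype.ofFinite (V →* kˣ)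
    funext a
    have h1 : ∑ χ : V →* kˣ, F f χ * (χ a⁻¹ : k) = 0 := by simp [hf]
    have h2 : ∀ v : V, v ≠ 1 → ∑ χ : V →* kˣ, (χ v : k) = 0 := by
      intro v hv
      obtain ⟨ψ, hψ⟩ := CommGroup.exists_apply_ne_one_of_hasEnoughRootsOfUnity V k hv
      have hne : (ψ v : k) ≠ 1 := fun h => hψ (Units.ext h)
      refine eq_zero_of_mul_eq_self_left hne ?_
      rw [Finset.mul_sum]
      exact Fintype.sum_equiv (Equiv.mulLeft ψ) _ _ fun χ => by simp
    have h3 : ∑ w, ι (f w) * ∑ χ : V →* kˣ, (χ (w * a⁻¹) : k) = 0 := by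
      rw [← h1]
      simp only [F]
      refine Eq.trans ?_ (Finset.sum_congr rfl fun χ _ => (Finset.sum_mul _ _ _).symm)
      refine Eq.trans ?_ Finset.sum_comm
      refine Finset.sum_congr rfl fun w _ => ?_
      rw [Finset.mul_sum]
      refine Finset.sum_congr rfl fun χ _ => ?_
      rw [map_mul, Units.val_mul, mul_assoc]
    replace h1 := h3
    rw [Finset.sum_eq_single a] at h1
    · simp only [mul_inv_cancel, map_one, Units.val_one, Finset.sum_const, Finset.card_univ,
        nsmul_eq_mul, mul_one, mul_eq_zero] at h1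
      rcases h1 with h | h
      · exact (map_eq_zero ι).1 h
      · rw [← Nat.card_eq_fintype_card, CommGroup.card_monoidHom_of_hasEnoughRootsOfUnity V k] at h
        exact absurd ((CharP.cast_eq_zero_iff k q _).1 h) hqV
    · intro b _ hb
      rw [h2 _ (fun e => hb (mul_inv_eq_one.1 e)), mul_zero]
    · intro h; exact absurd (Finset.mem_univ a) h
  obtain ⟨f₀, hf₀, χ, hχ⟩ : ∃ f ∈ D, ∃ χ, F f χ ≠ 0 := by
    by_contra hno
    push Not at hno
    exact hD ((AddSubgroup.eq_bot_iff_forall _).2 fun f hf => hinv f (hno f hf))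
  let T : ℕ → V →* kˣ := fun i => χ.comp (y ^ i : MulAut V).toMonoidHom
  have hchi : ∃ v, χ v ≠ 1 := by
    by_contra hno
    push Not at hno
    refine hχ ?_
    simp only [F, hno, Units.val_one, mul_one]
    rw [← map_sum, hsum f₀ hf₀, map_zero]
  have hord : orderOf y = p := ((Nat.dvd_prime hp).1 (orderOf_dvd_of_pow_eq_one hyp)).resolve_left
    (fun e => hy (orderOf_eq_one_iff.1 e))
  have hdist : ∀ i j : ℕ, i < j → j < p → ∃ v, T i v ≠ T j v := by
    intro i j hij hjp
    by_contra hno
    push Not at hno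
    obtain ⟨v, hv⟩ := hchi
    let d := j - i
    have hd : ∀ w, χ ((y ^ d) w) = χ w := fun w => by
      obtain ⟨u, rfl⟩ := (y ^ i).surjective w
      have := hno u
      change χ ((y ^ i) u) = χ ((y ^ j) u) at this
      rw [← MulAut.mul_apply, ← pow_add, show d + i = j by omega]
      exact this.symm
    let S : Subgroup V := ((y ^ d : MulAut V).toMonoidHom / MonoidHom.id V).range
    have hSinv : ∀ a ∈ S, y a ∈ S := by
      rintro _ ⟨b, rfl⟩
      refine ⟨y b, ?_⟩
      simp [← MulAut.mul_apply, ← pow_succ, ← pow_succ', map_div]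
    rcases hirr S hSinv with hS | hS
    · have : y ^ d = 1 := by
        refine MulEquiv.ext fun b => ?_
        have hb : ((y ^ d : MulAut V).toMonoidHom / MonoidHom.id V) b ∈ S := ⟨b, rfl⟩
        rw [hS, Subgroup.mem_bot] at hb
        simpa [div_eq_one] using hb
      have := orderOf_dvd_of_pow_eq_one this
      rw [hord] at this
      have := Nat.le_of_dvd (by omega) this
      omega
    · have : v ∈ S := hS ▸ Subgroup.mem_top v
      obtain ⟨b, rfl⟩ := this
      exact hv (by simp [hd])
  have hyinv : ∀ w, y (y⁻¹ w) = w := fun w => by rw [← MulAut.mul_apply, mul_inv_cancel, MulAut.one_apply]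
  -- shifting
  have hFshift : ∀ (f : V → ZMod q) (v : V) (i : ℕ),
      F (fun w => f (v⁻¹ * w)) (T i) = (T i v : k) * F f (T i) := by
    intro f v i
    show ∑ w, ι (f (v⁻¹ * w)) * (T i w : k) = (T i v : k) * ∑ w, ι (f w) * (T i w : k)
    rw [Finset.mul_sum]
    refine Fintype.sum_equiv (Equiv.mulLeft v⁻¹) _ (fun w => (T i v : k) * (ι (f w) * (T i w : k))) fun w => ?_
    simp only [Equiv.coe_mulLeft]
    rw [mul_left_comm, ← Units.val_mul, ← map_mul, mul_inv_cancel_left]
  have hFfix : ∀ e : V → ZMod q, (∀ w, e (y w) = e w) → ∀ i, F e (T i) = F e χ := by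
    intro e he i
    induction i with
    | zero => simp [T]; rfl
    | succ i ih =>
      rw [← ih]
      simp only [F]
      refine Fintype.sum_equiv (y : V ≃* V).toEquiv _ _ fun w => ?_
      show ι (e w) * (χ ((y ^ (i + 1)) w) : k) = ι (e (y w)) * (χ ((y ^ i) (y w)) : k)
      rw [he, pow_succ, MulAut.mul_apply]
  have hFy : ∀ (f : V → ZMod q) (i : ℕ), F (fun w => f (y⁻¹ w)) (T i) = F f (T (i + 1)) := by
    intro f i
    simp only [F]
    refine (Fintype.sum_equiv (y : V ≃* V).toEquiv _ _ fun w => ?_).symm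
    show ι (f w) * (χ ((y ^ (i + 1)) w) : k) = ι (f (y⁻¹ (y w))) * (χ ((y ^ i) (y w)) : k)
    rw [← MulAut.mul_apply, inv_mul_cancel, MulAut.one_apply, pow_succ, MulAut.mul_apply]
  have hnz : ∀ i, i ≤ p → ∃ f ∈ D, F f (T i) ≠ 0 := by
    intro i hip
    obtain ⟨n, hn⟩ : ∃ n, p - i = n := ⟨_, rfl⟩
    induction n generalizing i with
    | zero =>
      refine ⟨f₀, hf₀, ?_⟩
      have : i = p := by omega
      subst this
      have : T i = χ := by ext w; simp [T, hyp]
      rwa [this]
    | succ n ih =>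
      obtain ⟨f, hf, hne⟩ := ih (i + 1) (by omega) (by omega)
      exact ⟨_, hcomp f hf, by rwa [hFy]⟩
  have h3 : 3 ≤ p := by have := hp.two_le; omega
  obtain ⟨v₀, hv₀⟩ : ∃ v₀ : V, v₀ ≠ 1 := by
    by_contra hno
    push Not at hno
    exact hy (MulEquiv.ext fun b => by simp [hno b])
  let c : Fin 3 → k := fun i => (T i v₀ : k)
  let l : Fin 3 → k := if c 0 = c 1 ∧ c 1 = c 2 then ![1, -1, 0] else ![c 2 - c 1, c 0 - c 2, c 1 - c 0]
  have hl1 : ∑ i, l i = 0 := by
    simp only [l]
    split_ifs <;> simp [Fin.sum_univ_three] <;> ring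
  have hl2 : ∑ i, l i * c i = 0 := by
    simp only [l]
    split_ifs with h
    · simp [Fin.sum_univ_three]; rw [h.1]; ring
    · simp [Fin.sum_univ_three]; ring
  have hkill : ∀ f ∈ D, ∑ i : Fin 3, l i * F f (T i) = 0 := by
    intro f hf
    obtain ⟨e, e', he, he', rfl⟩ := hdec v₀ hv₀ f hf
    have : ∀ i : Fin 3, F (fun w => e w + e' (v₀⁻¹ * w)) (T i) = F e χ + c i * F e' χ := by
      intro i
      rw [← hFfix e he i, ← hFfix e' he' i, ← hFshift]
      simp only [F, map_add, add_mul, Finset.sum_add_distrib]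
    simp only [this, mul_add, Finset.sum_add_distrib, ← Finset.sum_mul, ← mul_assoc, hl1, hl2,
      zero_mul, add_zero]
  have hlz : ∀ i : Fin 3, l i = 0 := by
    intro i
    obtain ⟨f, hf, hne⟩ := hnz i (by omega)
    let g : Fin 3 → (V →* k) := fun j => (Units.coeHom k).comp (T j)
    have hinj : Function.Injective g := by
      intro a b hab
      by_contra hne'
      have hab' : ∀ v, T a v = T b v := fun v => Units.ext (DFunLike.congr_fun hab v)
      rcases Nat.lt_trichotomy (a : ℕ) b with h | h | h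
      · obtain ⟨v, hv⟩ := hdist a b h (by omega); exact hv (hab' v)
      · exact hne' (Fin.ext h)
      · obtain ⟨v, hv⟩ := hdist b a h (by omega); exact hv (hab' v).symm
    have hli := (linearIndependent_monoidHom V k).comp g hinj
    have h0 := Fintype.linearIndependent_iff.1 hli (fun j => l j * F f (T j)) (by
      funext v
      have := hkill _ (hshift f hf v)
      simp only [hFshift] at this
      simp only [Function.comp_apply, Finset.sum_apply, Pi.smul_apply, smul_eq_mul, Pi.zero_apply, g,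
        MonoidHom.comp_apply, Units.coeHom_apply]
      rw [← this]
      exact Finset.sum_congr rfl fun j _ => by ring) i
    exact (mul_eq_zero.1 h0).resolve_right hne
  have := hlz 0
  simp only [l] at this
  split_ifs at this with h
  · simp at this
  · have h1 := hlz 1
    simp only [l, if_neg h] at h1
    simp at this h1
    rw [sub_eq_zero] at this h1
    exact h ⟨h1.trans this, this.symm⟩

end Cfsg.Agent.CopFix
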