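import Cfsg.Agent.Lib.Solv.CoprimeFixCommBase
import Cfsg.Agent.Lib.Solv.CoprimeFixCommModule

/-!
# Fixed points of a commutator subgroup: the solvable case
-/

set_option autoImplicit false
set_option maxHeartbeats 1600000

namespace Cfsg.Agent.CopFix

open scoped commutatorElement

universe u

variable {H : Type u} [Group H] [Finite H] {x : MulAut H} {p : ℕ} [hp : Fact p.Prime]

omit [Finite H] in
theorem iterate_eq {L : Subgroup H} {xL : MulAut L} (h : ∀ a : L, (xL a : H) = x a) (i : ℕ) (a : L) :
    ((xL ^ i) a : H) = (x ^ i) a := by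
  induction i with
  | zero => simp
  | succ i ih => rw [pow_succ', MulAut.mul_apply, h, ih, pow_succ', MulAut.mul_apply]

omit [Finite H] in
theorem cm_idem (hcop : (Nat.card H).Coprime p) (hxp : x ^ p = 1) [Finite H] :
    cm x (cm x (⊤ : Subgroup H)) = cm x ⊤ := by
  refine le_antisymm (cm_le cm_inv) ((Subgroup.closure_le _).2 ?_)
  rintro _ ⟨a, -, i, rfl⟩
  obtain ⟨m, hm, c, -, hc, rfl⟩ :=
    exists_cm_mul_fixed hcop hxp (L := ⊤) (fun _ _ => Subgroup.mem_top _) (Subgroup.mem_top a)
  have e : (m * c)⁻¹ * (x ^ i) (m * c) = (c⁻¹ * m * c)⁻¹ * (x ^ i) (c⁻¹ * m * c) := by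
    simp only [map_mul, map_inv, pow_apply_fixed hc]; group
  rw [e]
  exact gen_mem_cm (cm_conj (Subgroup.mem_top c) hm) i

omit [Finite H] in
/-- A nontrivial solvable group maps onto a group of prime order. -/
theorem exists_hom_prime (X : Type u) [Group X] [Finite X] [Group.IsSolvable X] [Nontrivial X] :
    ∃ (q : ℕ), q.Prime ∧ ∃ f : X →* Multiplicative (ZMod q), f ≠ 1 := by
  classical
  obtain ⟨M, ⟨hMn, hMt⟩, hmax⟩ := Set.Finite.exists_maximal
    (Set.toFinite {M : Subgroup X | M.Normal ∧ M ≠ ⊤})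
    ⟨⊥, inferInstance, bot_ne_top⟩
  haveI := hMn
  haveI : Nontrivial (X ⧸ M) := QuotientGroup.nontrivial_iff.2 hMt
  haveI hs : IsSimpleGroup (X ⧸ M) := ⟨fun N hN => by
    by_cases h : N.comap (QuotientGroup.mk' M) = ⊤
    · right
      rw [← Subgroup.map_comap_eq_self_of_surjective (QuotientGroup.mk'_surjective M) N, h,
        ← MonoidHom.range_eq_map, MonoidHom.range_eq_top.2 (QuotientGroup.mk'_surjective M)]
    · left
      have h1 : M ≤ N.comap (QuotientGroup.mk' M) := fun m hm => by
        rw [Subgroup.mem_comap, QuotientGroup.mk'_apply, (QuotientGroup.eq_one_iff m).2 hm]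
        exact N.one_mem
      have h2 := hmax ⟨hN.comap _, h⟩ h1
      rw [← Subgroup.map_comap_eq_self_of_surjective (QuotientGroup.mk'_surjective M) N,
        le_antisymm h2 h1]
      exact QuotientGroup.map_mk'_self M⟩
  haveI : Group.IsSolvable (X ⧸ M) :=
    Group.isSolvable_of_surjective (QuotientGroup.mk'_surjective M)
  have hcomm : ∀ a b : X ⧸ M, a * b = b * a := IsSimpleGroup.comm_iff_isSolvable.2 inferInstance
  letI : CommGroup (X ⧸ M) := { (inferInstance : Group (X ⧸ M)) with mul_comm := hcomm }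
  haveI : IsSimpleGroup (X ⧸ M) := hs
  have hprime : (Nat.card (X ⧸ M)).Prime := IsSimpleGroup.prime_card
  haveI := Fact.mk hprime
  haveI : IsCyclic (X ⧸ M) := isCyclic_of_prime_card rfl
  refine ⟨Nat.card (X ⧸ M), hprime,
    ((zmodCyclicMulEquiv (G := X ⧸ M) inferInstance).symm.toMonoidHom).comp (QuotientGroup.mk' M), ?_⟩
  intro h
  refine hMt ((Subgroup.eq_top_iff' _).2 fun g => ?_)
  have := DFunLike.congr_fun h g
  rw [MonoidHom.one_apply, MonoidHom.comp_apply] at this
  exact (QuotientGroup.eq_one_iff g).1 ((MulEquiv.map_eq_one_iff _).1 this)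

/-- The theorem for a group all of whose proper invariant subgroups and quotients satisfy it. -/
theorem step [Group.IsSolvable H] (hp2 : p ≠ 2) (hcop : (Nat.card H).Coprime p) (hxp : x ^ p = 1)
    (htop : cm x (⊤ : Subgroup H) = ⊤)
    (hsub : ∀ L : Subgroup H, Inv x L → L ≠ ⊤ → cm x L ⊓ Fx x ≤ K x)
    (hquot : ∀ M : Subgroup H, M.Normal → Inv x M → M ≠ ⊥ → Fx x ≤ K x ⊔ M) :
    Fx x ≤ K x := by
  classical
  by_contra hC
  let KC : Subgroup (Fx x) := (K x).subgroupOf (Fx x)
  haveI : KC.Normal := ⟨fun k hk g => by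
    have := K_conj (x := x) (c := (g : H)⁻¹) (by rw [map_inv, show x (g : H) = g from g.2]) hk
    rw [inv_inv] at this
    exact this⟩
  haveI : Nontrivial (Fx x ⧸ KC) := QuotientGroup.nontrivial_iff.2 fun h => hC
    (Subgroup.subgroupOf_eq_top.1 h)
  haveI : Group.IsSolvable (Fx x ⧸ KC) :=
    Group.isSolvable_of_surjective (QuotientGroup.mk'_surjective KC)
  obtain ⟨q, hq, g, hg⟩ := exists_hom_prime (Fx x ⧸ KC)
  haveI := Fact.mk hq
  let lam : Fx x →* Multiplicative (ZMod q) := g.comp (QuotientGroup.mk' KC)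
  have hlamK : ∀ c : Fx x, (c : H) ∈ K x → lam c = 1 := fun c hc => by
    show g (QuotientGroup.mk' KC c) = 1
    rw [QuotientGroup.mk'_apply, (QuotientGroup.eq_one_iff c).2 hc, map_one]
  obtain ⟨c₀, hc₀⟩ : ∃ c, lam c ≠ 1 := by
    by_contra hno
    push Not at hno
    refine hg (MonoidHom.ext fun z => ?_)
    obtain ⟨c, rfl⟩ := QuotientGroup.mk'_surjective KC z
    exact hno c
  -- the homomorphism on a proper invariant subgroup
  have hmu : ∀ L : Subgroup H, Inv x L → L ≠ ⊤ → ∃ μ : L →* Multiplicative (ZMod q),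
      (∀ c : L, ∀ hc : x (c : H) = c, μ c = lam ⟨c, hc⟩) ∧
      (∀ m : L, (m : H) ∈ cm x L → μ m = 1) := by
    intro L hL hne
    have hdec := fun a : L => exists_cm_mul_fixed hcop hxp hL a.2
    choose m hm c hcL hc he using hdec
    have key : ∀ (a : L) (m' c' : H), m' ∈ cm x L → c' ∈ L → ∀ hc' : x c' = c', (a : H) = m' * c' →
        lam ⟨c a, hc a⟩ = lam ⟨c', hc'⟩ := by
      intro a m' c' hm' hc'L hc' he'
      rw [← inv_mul_eq_one, ← map_inv, ← map_mul]
      refine hlamK _ (hsub L hL hne ⟨?_, ?_⟩)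
      · have e1 : (c a)⁻¹ * c' = (c a)⁻¹ * ((m')⁻¹ * m a) * (c a) := by
          have := (he a).symm.trans he'
          rw [mul_assoc, mul_assoc (m')⁻¹, this, inv_mul_cancel_left]
        show (c a)⁻¹ * c' ∈ cm x L
        rw [e1]
        exact cm_conj (hcL a) (mul_mem (inv_mem hm') (hm a))
      · exact (Fx x).mul_mem ((Fx x).inv_mem (show c a ∈ Fx x from hc a)) hc'
    let μ0 : L → Multiplicative (ZMod q) := fun a => lam ⟨c a, hc a⟩
    have hmul : ∀ a b : L, μ0 (a * b) = μ0 a * μ0 b := by
      intro a b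
      show _ = lam _ * lam _
      rw [← map_mul]
      refine key (a * b) (m a * (c a * m b * (c a)⁻¹)) (c a * c b) ?_ (L.mul_mem (hcL a) (hcL b)) _ ?_
      · refine mul_mem (hm a) ?_
        have := cm_conj (x := x) (L.inv_mem (hcL a)) (hm b)
        rwa [inv_inv] at this
      · rw [Subgroup.coe_mul, he a, he b]; group
    refine ⟨MonoidHom.mk' μ0 hmul, fun d hd => ?_, fun d hd => ?_⟩
    · exact key d 1 d (one_mem _) d.2 hd (one_mul _).symm
    · show lam _ = 1
      rw [key d d 1 hd L.one_mem (map_one x) (mul_one _).symm]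
      exact map_one lam
  -- the subgroup generated by the elements of order prime to `q`
  set R := Subgroup.closure {a : H | ¬ q ∣ orderOf a} with hRdef
  have hord : ∀ (f : H ≃* H) (a : H), orderOf (f a) = orderOf a := fun f a =>
    orderOf_injective f.toMonoidHom f.injective a
  have hRinv : Inv x R := inv_closure_gen fun a ha =>
    Subgroup.subset_closure (by rw [Set.mem_setOf_eq, hord]; exact ha)
  haveI hRn : R.Normal := ⟨fun n hn g => by
    have : R ≤ R.comap (MulAut.conj g).toMonoidHom := (Subgroup.closure_le _).2 fun a ha =>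
      Subgroup.subset_closure (by
        show ¬ q ∣ orderOf (MulAut.conj g a)
        rw [hord]; exact ha)
    exact this hn⟩
  have hRkill : ∀ (L : Subgroup H) (f : L →* Multiplicative (ZMod q)), R ≤ L →
      ∀ a : L, (a : H) ∈ R → f a = 1 := by
    intro L f hRL a ha
    have hle : R ≤ f.ker.map L.subtype := (Subgroup.closure_le _).2 fun b hb => by
      refine ⟨⟨b, hRL (Subgroup.subset_closure hb)⟩, ?_, rfl⟩
      rw [SetLike.mem_coe, MonoidHom.mem_ker, ← orderOf_eq_one_iff]
      have h1 : orderOf (f ⟨b, hRL (Subgroup.subset_closure hb)⟩) ∣ q := by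
        have := orderOf_dvd_natCard (f ⟨b, hRL (Subgroup.subset_closure hb)⟩)
        rwa [Nat.card_congr Multiplicative.toAdd, Nat.card_zmod] at this
      refine ((Nat.dvd_prime hq).1 h1).resolve_right fun e => hb ?_
      rw [← e]
      exact (orderOf_map_dvd f _).trans (by rw [Subgroup.orderOf_mk])
    obtain ⟨a', ha', e⟩ := hle ha
    rw [← L.subtype_injective e]
    exact ha'
  by_cases hRt : R = ⊤
  · -- no homomorphism to a `q`-group
    have hnohom : ∀ f : H →* Multiplicative (ZMod q), f = 1 := fun f => MonoidHom.ext fun a => by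
      have := hRkill ⊤ (f.comp (⊤ : Subgroup H).subtype) le_top ⟨a, Subgroup.mem_top a⟩
        (show a ∈ R by rw [hRt]; exact Subgroup.mem_top a)
      exact this
    haveI : Nontrivial H := by
      by_contra hnt
      rw [not_nontrivial_iff_subsingleton] at hnt
      exact hC fun c _ => (Subsingleton.elim c 1) ▸ one_mem _
    obtain ⟨N, ⟨hNn, hNi, hNt⟩, hNmax⟩ := Set.Finite.exists_maximal
      (Set.toFinite {N : Subgroup H | N.Normal ∧ Inv x N ∧ N ≠ ⊤})
      ⟨⊥, inferInstance, fun a ha => by rw [Subgroup.mem_bot] at ha ⊢; rw [ha, map_one], bot_ne_top⟩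
    haveI := hNn
    have hmax : ∀ M : Subgroup H, M.Normal → Inv x M → N ≤ M → M ≠ ⊤ → M = N := fun M h1 h2 h3 h4 =>
      le_antisymm (hNmax ⟨h1, h2, h4⟩ h3) h3
    have hcN : commutator H ≤ N := by
      have hne : N ⊔ commutator H ≠ ⊤ := by
        intro h
        have h1 : commutator (H ⧸ N) = ⊤ := by
          rw [commutator_def, ← MonoidHom.range_eq_top.2 (QuotientGroup.mk'_surjective N),
            MonoidHom.range_eq_map, ← Subgroup.map_commutator, ← commutator_def]
          have := congrArg (Subgroup.map (QuotientGroup.mk' N)) h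
          rwa [Subgroup.map_sup, QuotientGroup.map_mk'_self, bot_sup_eq] at this
        haveI : Nontrivial (H ⧸ N) := QuotientGroup.nontrivial_iff.2 hNt
        haveI : Group.IsSolvable (H ⧸ N) :=
          Group.isSolvable_of_surjective (QuotientGroup.mk'_surjective N)
        exact absurd h1 (Group.IsSolvable.commutator_lt_top_of_nontrivial (H ⧸ N)).ne
      have hi : Inv x (N ⊔ commutator H) := by
        have : N ⊔ commutator H ≤ (N ⊔ commutator H).comap (x : H →* H) := by
          refine sup_le (fun a ha => Subgroup.mem_sup_left (hNi a ha)) ?_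
          rw [commutator_def, Subgroup.commutator_le]
          intro a _ b _
          refine Subgroup.mem_sup_right ?_
          show x ⁅a, b⁆ ∈ commutator H
          rw [map_commutatorElement]
          exact Subgroup.commutator_mem_commutator (Subgroup.mem_top _) (Subgroup.mem_top _)
        exact fun a ha => this ha
      have := hmax _ inferInstance hi le_sup_left hne
      exact this ▸ le_sup_right
    let V := H ⧸ N
    haveI : Nontrivial V := QuotientGroup.nontrivial_iff.2 hNt
    have hVc : ∀ a b : V, a * b = b * a := fun a b => by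
      obtain ⟨a, rfl⟩ := QuotientGroup.mk'_surjective N a
      obtain ⟨b, rfl⟩ := QuotientGroup.mk'_surjective N b
      rw [← commutatorElement_eq_one_iff_mul_comm, ← map_commutatorElement]
      exact (QuotientGroup.eq_one_iff _).2
        (hcN (Subgroup.commutator_mem_commutator (Subgroup.mem_top a) (Subgroup.mem_top b)))
    letI : CommGroup V := { (inferInstance : Group V) with mul_comm := hVc }
    letI : Fintype V := Fintype.ofFinite V
    have hNx : N.map (x : H →* H) = N :=
      Subgroup.eq_of_le_of_card_ge (by rintro _ ⟨a, ha, rfl⟩; exact hNi a ha)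
        (Subgroup.card_map_of_injective x.injective).ge
    let y : MulAut V := QuotientGroup.congr N N x hNx
    have hy : ∀ a : H, y (a : V) = ((x a : H) : V) := fun a => rfl
    have hyi : ∀ (i : ℕ) (a : H), (y ^ i) (a : V) = (((x ^ i) a : H) : V) := fun i => by
      induction i with
      | zero => intro a; simp
      | succ i ih => intro a; rw [pow_succ', MulAut.mul_apply, ih, hy, pow_succ', MulAut.mul_apply]
    have hyp : y ^ p = 1 := MulEquiv.ext fun v => by
      obtain ⟨a, rfl⟩ := QuotientGroup.mk_surjective v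
      rw [hyi, hxp]; rfl
    have hirr : ∀ U : Subgroup V, (∀ a ∈ U, y a ∈ U) → U = ⊥ ∨ U = ⊤ := by
      intro U hU
      by_cases h : U.comap (QuotientGroup.mk' N) = ⊤
      · right
        rw [← Subgroup.map_comap_eq_self_of_surjective (QuotientGroup.mk'_surjective N) U, h,
          ← MonoidHom.range_eq_map, MonoidHom.range_eq_top.2 (QuotientGroup.mk'_surjective N)]
      · left
        have := hmax (U.comap (QuotientGroup.mk' N)) ((inferInstance : U.Normal).comap _)
          (fun a ha => hU _ ha) (fun a ha => by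
            rw [Subgroup.mem_comap, QuotientGroup.mk'_apply, (QuotientGroup.eq_one_iff a).2 ha]
            exact U.one_mem) h
        rw [← Subgroup.map_comap_eq_self_of_surjective (QuotientGroup.mk'_surjective N) U, this]
        exact QuotientGroup.map_mk'_self N
    have hyne : y ≠ 1 := by
      intro h
      refine hNt (top_le_iff.1 (htop ▸ (Subgroup.closure_le _).2 ?_))
      rintro _ ⟨a, -, i, rfl⟩
      rw [SetLike.mem_coe, ← QuotientGroup.eq_one_iff, QuotientGroup.mk_mul, QuotientGroup.mk_inv,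
        ← hyi, h, one_pow, MulAut.one_apply, inv_mul_cancel]
    have hfix1 : ∀ v : V, y v = v → v = 1 := by
      intro v hv
      rcases hirr ((y : V →* V).eqLocus (MonoidHom.id V))
          (fun a ha => by show y (y a) = y a; rw [show y a = a from ha, show y a = a from ha]) with h | h
      · have : v ∈ (y : V →* V).eqLocus (MonoidHom.id V) := hv
        rwa [h, Subgroup.mem_bot] at this
      · refine absurd (MulEquiv.ext fun b => ?_) hyne
        have h' : b ∈ (y : V →* V).eqLocus (MonoidHom.id V) := by rw [h]; exact Subgroup.mem_top b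
        exact h'
    have hCN : ∀ c : H, x c = c → c ∈ N := fun c hc => by
      rw [← QuotientGroup.eq_one_iff]
      exact hfix1 _ (by rw [hy, hc])
    obtain ⟨μ, hμfix, hμcm⟩ := hmu N hNi hNt
    have hqV : ¬ q ∣ Nat.card V := by
      intro hd
      obtain ⟨v, hv⟩ := exists_prime_orderOf_dvd_card' q hd
      rcases hirr ((powMonoidHom q : V →* V).range)
          (by rintro _ ⟨b, rfl⟩; exact ⟨y b, by simp [map_pow]⟩) with h | h
      · have hexp : ∀ b : V, b ^ q = 1 := fun b => by
          have : b ^ q ∈ (powMonoidHom q : V →* V).range := ⟨b, rfl⟩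
          rwa [h, Subgroup.mem_bot] at this
        obtain ⟨q', hq', f, hf⟩ := exists_hom_prime V
        haveI := Fact.mk hq'
        have hqq : q' = q := by
          obtain ⟨b, hb⟩ : ∃ b, f b ≠ 1 := by
            by_contra hno
            push Not at hno
            exact hf (MonoidHom.ext hno)
          have h1 : orderOf (f b) ∣ q := orderOf_dvd_of_pow_eq_one (by rw [← map_pow, hexp, map_one])
          have h2 : orderOf (f b) ∣ q' := by
            have := orderOf_dvd_natCard (f b)
            rwa [Nat.card_congr Multiplicative.toAdd, Nat.card_zmod] at this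
          have hne : orderOf (f b) ≠ 1 := fun e => hb (orderOf_eq_one_iff.1 e)
          rw [← ((Nat.dvd_prime hq').1 h2).resolve_left hne]
          exact ((Nat.dvd_prime hq).1 h1).resolve_left hne
        subst hqq
        refine hf (MonoidHom.ext fun b => ?_)
        obtain ⟨a, rfl⟩ := QuotientGroup.mk_surjective b
        exact DFunLike.congr_fun (hnohom (f.comp (QuotientGroup.mk' N))) a
      · have hbij : Function.Surjective (powMonoidHom q : V →* V) := MonoidHom.range_eq_top.1 h
        have := (Finite.injective_iff_surjective.2 hbij)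
          (a₁ := v) (a₂ := 1) (by simp only [powMonoidHom_apply, one_pow]; rw [← hv, pow_orderOf_eq_one])
        rw [this, orderOf_one] at hv
        exact hq.ne_one hv.symm
    -- conjugates of `μ`
    have hNc : ∀ (h : H) (n : N), h⁻¹ * (n : H) * h ∈ N := fun h n => by
      have := hNn.conj_mem n n.2 h⁻¹; rwa [inv_inv] at this
    let mu : H → N → ZMod q := fun h n => Multiplicative.toAdd (μ ⟨h⁻¹ * n * h, hNc h n⟩)
    have hmuN : ∀ (h : H) (k : N) (n : N), mu (h * k) n = mu h n := by
      intro h k n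
      have e : (⟨(h * k)⁻¹ * n * (h * k), hNc _ n⟩ : N) = k⁻¹ * ⟨h⁻¹ * n * h, hNc h n⟩ * k :=
        Subtype.ext (by simp only [Subgroup.coe_mul, Subgroup.coe_inv]; group)
      simp only [mu, e, map_mul, map_inv]
      rw [mul_comm (μ k)⁻¹, inv_mul_cancel_right]
    let Φ : N → V → ZMod q := fun n v => mu v.out n
    have hΦ : ∀ (n : N) (a : H), Φ n (a : V) = mu a n := by
      intro n a
      obtain ⟨k, hk⟩ := QuotientGroup.mk_out_eq_mul N a
      show mu _ n = _
      rw [hk, hmuN]
    have hΦmul : ∀ m n : N, Φ (m * n) = Φ m + Φ n := fun m n => by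
      funext v
      show mu _ _ = mu _ _ + mu _ _
      simp only [mu]
      rw [← toAdd_mul, ← map_mul]
      congr 2
      exact Subtype.ext (by simp only [Subgroup.coe_mul]; group)
    let Φh : Additive N →+ (V → ZMod q) := AddMonoidHom.mk' (fun n => Φ (Additive.toMul n)) (fun a b => hΦmul _ _)
    let D : AddSubgroup (V → ZMod q) := Φh.range
    have hΦmem : ∀ n : N, Φ n ∈ D := fun n => ⟨Additive.ofMul n, rfl⟩
    have hΦconj : ∀ (h : H) (n : N), Φ ⟨h * n * h⁻¹, hNn.conj_mem n n.2 h⟩ =
        fun w => Φ n ((h : V)⁻¹ * w) := by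
      intro h n
      funext w
      obtain ⟨a, rfl⟩ := QuotientGroup.mk_surjective w
      rw [hΦ, ← QuotientGroup.mk_inv, ← QuotientGroup.mk_mul, hΦ]
      simp only [mu]
      congr 2
      exact Subtype.ext (by group)
    have hμx : ∀ n : N, μ ⟨x n, hNi n n.2⟩ = μ n := by
      intro n
      have e : (⟨x n, hNi n n.2⟩ : N) = n * (n⁻¹ * ⟨x n, hNi n n.2⟩) := (mul_inv_cancel_left _ _).symm
      conv_lhs => rw [e]
      rw [map_mul, hμcm (n⁻¹ * ⟨x n, hNi n n.2⟩) (by simpa using gen_mem_cm (x := x) n.2 1), mul_one]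
    have hΦx : ∀ n : N, Φ ⟨x n, hNi n n.2⟩ = fun w => Φ n (y⁻¹ w) := by
      intro n
      funext w
      obtain ⟨b, rfl⟩ := QuotientGroup.mk_surjective w
      obtain ⟨a, rfl⟩ := x.surjective b
      rw [← hy, ← MulAut.mul_apply, inv_mul_cancel, MulAut.one_apply, hy, hΦ, hΦ]
      simp only [mu]
      rw [← hμx ⟨a⁻¹ * n * a, hNc a n⟩]
      congr 2
      exact Subtype.ext (by simp [map_mul])
    -- transfer
    have hsum : ∀ n : N, ∑ v, Φ n v = 0 := by
      intro n
      let T : N.LeftTransversal := ⟨Set.range (fun v : V => v.out),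
        Subgroup.isComplement_range_left (fun v => Quotient.out_eq' v)⟩
      have hT : ∀ v : V, ((T.2.leftQuotientEquiv v : T.1) : H) = v.out :=
        fun v => Subgroup.IsComplement.leftQuotientEquiv_apply (fun v : V => Quotient.out_eq' v) v
      have h1 := DFunLike.congr_fun (hnohom (μ.transfer)) (n : H)
      rw [MonoidHom.transfer_def μ T, MonoidHom.one_apply] at h1
      have h2 : Multiplicative.toAdd (Subgroup.leftTransversals.diff μ T ((n : H) • T)) = 0 := by
        rw [h1]; rfl
      rw [← h2, Subgroup.leftTransversals.diff, toAdd_prod]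
      refine Finset.sum_congr (by ext; simp) fun v _ => ?_
      have hnv : (n : H)⁻¹ • v = v := by
        obtain ⟨a, rfl⟩ := QuotientGroup.mk_surjective v
        rw [MulAction.Quotient.smul_coe, smul_eq_mul, QuotientGroup.eq]
        simpa [mul_assoc] using hNc a n
      show mu v.out n = _
      simp only [mu]
      congr 2
      refine Subtype.ext ?_
      show v.out⁻¹ * n * v.out = ((T.2.leftQuotientEquiv v : T.1) : H)⁻¹ *
        ((((n : H) • T).2.leftQuotientEquiv v : ((n : H) • T).1) : H)
      rw [Subgroup.smul_apply_eq_smul_apply_inv_smul, hnv, hT, smul_eq_mul, mul_assoc]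
    -- the subgroups `[h, x]`
    have hJtop : ∀ h : H, h ∉ N → (J x h).map (QuotientGroup.mk' N) = ⊤ := by
      intro h hh
      refine (hirr _ ?_).resolve_left ?_
      · rintro _ ⟨a, ha, rfl⟩
        exact ⟨x a, J_inv h a ha, (hy a).symm⟩
      · intro hb
        have h1 : QuotientGroup.mk' N (h⁻¹ * (x ^ 1) h) ∈ (J x h).map (QuotientGroup.mk' N) :=
          ⟨_, Subgroup.subset_closure ⟨1, rfl⟩, rfl⟩
        rw [hb, Subgroup.mem_bot, map_mul, map_inv, inv_mul_eq_one, pow_one] at h1
        exact hh ((QuotientGroup.eq_one_iff h).1 (hfix1 _ (by rw [hy]; exact h1.symm)))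
    have hJkill : ∀ (h : H), h ∉ N → ∀ (n : N), (n : H) ∈ J x h → Φ n = 0 := by
      intro h hh n hn
      funext v
      have hv : v ∈ (J x h).map (QuotientGroup.mk' N) := (hJtop h hh).symm ▸ Subgroup.mem_top v
      obtain ⟨l, hl, rfl⟩ := hv
      rw [QuotientGroup.mk'_apply, hΦ]
      show Multiplicative.toAdd (μ _) = 0
      set L := J x h ⊓ N with hL
      have hLi : Inv x L := fun a ha => ⟨J_inv h a ha.1, hNi a ha.2⟩
      have hin : l⁻¹ * n * l ∈ L := ⟨(J x h).mul_mem ((J x h).mul_mem ((J x h).inv_mem hl) hn) hl, hNc l n⟩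
      obtain ⟨m, hm, c, hcL, hc, he⟩ := exists_cm_mul_fixed hcop hxp hLi hin
      have : (⟨l⁻¹ * n * l, hNc l n⟩ : N) = ⟨m, (cm_le hLi hm).2⟩ * ⟨c, hcL.2⟩ := Subtype.ext he
      rw [this, map_mul, hμcm _ (cm_mono inf_le_right hm), hμfix _ hc, one_mul,
        hlamK _ (mem_K hcL.1 hc), toAdd_one]
    -- the section given by one `[h₀, x]`
    obtain ⟨h₀, hh₀⟩ : ∃ h : H, h ∉ N := by
      by_contra hno
      push Not at hno
      exact hNt ((Subgroup.eq_top_iff' _).2 hno)
    have hsec : ∀ h : H, h ∉ N → ∀ v : V, ∃ j ∈ J x h, (j : V) = v := fun h hh v => by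
      obtain ⟨j, hj, e⟩ := ((hJtop h hh).symm ▸ Subgroup.mem_top v : v ∈ (J x h).map (QuotientGroup.mk' N))
      exact ⟨j, hj, e⟩
    choose l hl hlv using hsec h₀ hh₀
    have hmem0 : ∀ a : H, a * (l (a : V))⁻¹ ∈ N := fun a => by
      rw [← QuotientGroup.eq_one_iff, QuotientGroup.mk_mul, QuotientGroup.mk_inv, hlv, mul_inv_cancel]
    let δ : H → V → ZMod q := fun a => Φ ⟨a * (l (a : V))⁻¹, hmem0 a⟩
    have hδD : ∀ a, δ a ∈ D := fun a => hΦmem _
    have hwd : ∀ (n : N) (j : H), j ∈ J x h₀ → δ ((n : H) * j) = Φ n := by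
      intro n j hj
      have hnj : j * (l (((n : H) * j : H) : V))⁻¹ ∈ N := by
        have := mul_mem (inv_mem n.2) (hmem0 ((n : H) * j))
        rwa [mul_assoc, inv_mul_cancel_left] at this
      have e : (⟨(n : H) * j * (l (((n : H) * j : H) : V))⁻¹, hmem0 _⟩ : N) = n * ⟨_, hnj⟩ :=
        Subtype.ext (mul_assoc _ _ _)
      show Φ _ = Φ n
      rw [e, hΦmul, hJkill h₀ hh₀ ⟨_, hnj⟩ (mul_mem hj (inv_mem (hl _))), add_zero]
    have hδmul : ∀ a b : H, δ (a * b) = δ a + fun w => δ b ((a : V)⁻¹ * w) := by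
      intro a b
      set n : N := ⟨a * (l (a : V))⁻¹, hmem0 a⟩
      set m : N := ⟨b * (l (b : V))⁻¹, hmem0 b⟩
      have e : a * b = ((n * ⟨l (a : V) * m * (l (a : V))⁻¹, hNn.conj_mem m m.2 _⟩ : N) : H) *
          (l (a : V) * l (b : V)) := by
        simp only [n, m, Subgroup.coe_mul]; group
      conv_lhs => rw [e, hwd _ _ (mul_mem (hl _) (hl _)), hΦmul, hΦconj, hlv]
    have hδx : ∀ a : H, δ (x a) = fun w => δ a (y⁻¹ w) := by
      intro a
      set n : N := ⟨a * (l (a : V))⁻¹, hmem0 a⟩
      have e : x a = ((⟨x n, hNi n n.2⟩ : N) : H) * x (l (a : V)) := by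
        simp only [n, map_mul, map_inv]; group
      conv_lhs => rw [e, hwd _ _ (J_inv h₀ _ (hl _)), hΦx]
    have hδ1 : ∀ (n : N) (a : H), δ ((n : H) * a) = Φ n + δ a := by
      intro n a
      have e : (n : H) * a = ((n * ⟨a * (l (a : V))⁻¹, hmem0 a⟩ : N) : H) * l (a : V) := by
        simp only [Subgroup.coe_mul]; group
      conv_lhs => rw [e, hwd _ _ (hl _), hΦmul]
    refine module_contra (V := V) hp.out hp2 hqV y hyp hyne hirr D ?_ ?_ ?_ ?_ ?_
    · intro hb
      refine hc₀ ?_
      have h1 : Φ ⟨c₀, hCN _ c₀.2⟩ ((1 : H) : V) = 0 := by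
        have := hΦmem ⟨c₀, hCN _ c₀.2⟩
        rw [hb, AddSubgroup.mem_bot] at this
        rw [this]; rfl
      rw [hΦ] at h1
      have h2 : μ ⟨c₀, hCN _ c₀.2⟩ = 1 := by
        have e : (⟨(1 : H)⁻¹ * c₀ * 1, hNc 1 ⟨c₀, hCN _ c₀.2⟩⟩ : N) = ⟨c₀, hCN _ c₀.2⟩ :=
          Subtype.ext (by simp)
        simp only [mu, e] at h1
        exact Multiplicative.toAdd.injective h1
      rwa [hμfix ⟨c₀, hCN _ c₀.2⟩ c₀.2] at h2
    · rintro _ ⟨n, rfl⟩ v
      obtain ⟨h, rfl⟩ := QuotientGroup.mk_surjective v
      exact ⟨Additive.ofMul ⟨h * (Additive.toMul n : N) * h⁻¹, hNn.conj_mem _ (Additive.toMul n).2 h⟩,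
        hΦconj h (Additive.toMul n)⟩
    · rintro _ ⟨n, rfl⟩
      exact ⟨Additive.ofMul ⟨x (Additive.toMul n : N), hNi _ (Additive.toMul n).2⟩, hΦx (Additive.toMul n)⟩
    · rintro _ ⟨n, rfl⟩
      exact hsum (Additive.toMul n)
    · intro v hv f hf
      obtain ⟨n', rfl⟩ := hf
      set n : N := Additive.toMul n'
      set h : H := (n : H) * l v with hh
      have hhv : (h : V) = v := by
        rw [hh, QuotientGroup.mk_mul, (QuotientGroup.eq_one_iff _).2 n.2, one_mul, hlv]
      have hhN : h ∉ N := fun hc => hv (by rw [← hhv]; exact (QuotientGroup.eq_one_iff _).2 hc)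
      have hδh : δ h = Φ n := hwd n _ (hl v)
      choose j hj hjv using hsec h hhN
      let d : V → V → ZMod q := fun w => δ (j w)
      have hdJ : ∀ a ∈ J x h, δ a = d (a : V) := fun a ha => by
        have hn : a * (j (a : V))⁻¹ ∈ N := by
          rw [← QuotientGroup.eq_one_iff, QuotientGroup.mk_mul, QuotientGroup.mk_inv, hjv, mul_inv_cancel]
        have := hδ1 ⟨_, hn⟩ (j (a : V))
        rw [hJkill h hhN ⟨_, hn⟩ (mul_mem ha (inv_mem (hj _))), zero_add] at this
        simpa using this
      have hdmul : ∀ v w : V, d (v * w) = d v + fun u => d w (v⁻¹ * u) := fun v w => by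
        have := hdJ _ (mul_mem (hj v) (hj w))
        rw [QuotientGroup.mk_mul, hjv, hjv] at this
        rw [← this, hδmul, hjv]
      have hdy : ∀ w u : V, d (y w) u = d w (y⁻¹ u) := fun w u => by
        have := hdJ _ (J_inv h _ (hj w))
        rw [← hy, hjv] at this
        rw [← this, hδx]
      let k : ZMod q := (Fintype.card V : ZMod q)
      have hk : k ≠ 0 := fun e => hqV (by
        rw [Nat.card_eq_fintype_card]
        exact (ZMod.natCast_eq_zero_iff _ _).1 e)
      let c : V → ZMod q := fun u => k⁻¹ * ∑ w, d w u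
      have hc1 : ∀ v u : V, c u = d v u + c (v⁻¹ * u) := fun v u => by
        show k⁻¹ * ∑ w, d w u = d v u + k⁻¹ * ∑ w, d w (v⁻¹ * u)
        rw [← Fintype.sum_equiv (Equiv.mulLeft v) (fun w => d (v * w) u) (fun w => d w u) (fun w => rfl)]
        simp only [hdmul, Pi.add_apply, Finset.sum_add_distrib, Finset.sum_const, Finset.card_univ,
          nsmul_eq_mul]
        rw [mul_add, inv_mul_cancel_left₀ hk]
      have hc2 : ∀ u : V, c (y u) = c u := fun u => by
        show k⁻¹ * ∑ w, d w (y u) = k⁻¹ * ∑ w, d w u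
        rw [← Fintype.sum_equiv (y : V ≃* V).toEquiv (fun w => d (y w) (y u)) (fun w => d w (y u)) (fun w => rfl)]
        simp only [hdy]
        simp [← MulAut.mul_apply]
      have hg : h⁻¹ * x h ∈ J x h := Subgroup.subset_closure ⟨1, by rw [pow_one]⟩
      have key : ∀ u : V, Φ n (y⁻¹ u) = Φ n u + (c (v⁻¹ * u) - c ((y v)⁻¹ * u)) := fun u => by
        have h1 : δ (h * (h⁻¹ * x h)) u = δ (x h) u := by rw [mul_inv_cancel_left]
        rw [hδmul, hδx, hδh, Pi.add_apply, hdJ _ hg] at h1
        simp only [hhv] at h1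
        rw [← h1]
        congr 1
        rw [eq_sub_iff_add_eq]
        have e : (((h⁻¹ * x h : H) : V))⁻¹ * (v⁻¹ * u) = (y v)⁻¹ * u := by
          rw [QuotientGroup.mk_mul, QuotientGroup.mk_inv, ← hy, hhv]; group
        have := hc1 ((h⁻¹ * x h : H) : V) (v⁻¹ * u)
        rw [e] at this
        exact this.symm
      refine ⟨fun u => Φ n u + c (v⁻¹ * u), fun u => - c u, fun u => ?_, fun u => by simp [hc2], ?_⟩
      · have h1 := key (y u)
        rw [← MulAut.mul_apply, inv_mul_cancel, MulAut.one_apply] at h1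
        have h2 : c ((y v)⁻¹ * y u) = c (v⁻¹ * u) := by rw [← map_inv, ← map_mul, hc2]
        rw [h2] at h1
        show Φ n (y u) + c (v⁻¹ * y u) = Φ n u + c (v⁻¹ * u)
        linear_combination -h1
      · funext u
        show Φ n u = Φ n u + c (v⁻¹ * u) + -c (v⁻¹ * u)
        ring
  · -- `R` is proper
    by_cases hRb : R = ⊥
    · -- `H` is a `q`-group
      have hHq : IsPGroup q H := IsPGroup.iff_orderOf.2 fun a => by
        obtain ⟨e, m, hm, heq⟩ := Nat.exists_eq_pow_mul_and_not_dvd (orderOf_pos a).ne' q hq.ne_one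
        refine ⟨e, ?_⟩
        have hb : a ^ q ^ e ∈ R := Subgroup.subset_closure (by
          rw [Set.mem_setOf_eq, orderOf_pow_of_dvd (pow_ne_zero _ hq.ne_zero) ⟨m, heq⟩, heq,
            Nat.mul_div_cancel_left _ (pow_pos hq.pos _)]
          exact hm)
        rw [hRb, Subgroup.mem_bot] at hb
        have h1 := orderOf_dvd_of_pow_eq_one hb
        exact Nat.dvd_antisymm h1 ⟨m, heq⟩
      haveI := hHq.isNilpotent
      exact hC (nilpotent_case hp2 hcop hxp htop hsub hquot)
    · have hle := hquot R hRn hRinv hRb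
      obtain ⟨μ, hμfix, -⟩ := hmu R hRinv hRt
      obtain ⟨k, hk, r, hr, he⟩ := Subgroup.mem_sup_of_normal_right.1 (hle c₀.2)
      have hkfix : x k = k := K_le_Fx hk
      have hrfix : x r = r := by
        have h1 : x (k * r) = k * r := by rw [he]; exact c₀.2
        rw [map_mul, hkfix] at h1
        exact mul_left_cancel h1
      refine hc₀ ?_
      have e : c₀ = ⟨k, hkfix⟩ * ⟨r, hrfix⟩ := Subtype.ext he.symm
      rw [e, map_mul, hlamK _ hk, one_mul, ← hμfix ⟨r, hr⟩ hrfix]
      exact hRkill R μ le_rfl ⟨r, hr⟩ hr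

/-- Fixed points of `[H, x]` are generated by fixed points of the `[h, x]`. -/
theorem main_aux : ∀ (n : ℕ) (H : Type u) [Group H] [Finite H] [Group.IsSolvable H], Nat.card H = n →
    ∀ (p : ℕ) [Fact p.Prime], p ≠ 2 → (Nat.card H).Coprime p → ∀ x : MulAut H, x ^ p = 1 →
      cm x ⊤ ⊓ Fx x ≤ K x := by
  intro n
  induction n using Nat.strong_induction_on with
  | _ n ih =>
    intro H _ _ _ hn p _ hp2 hcop x hxp
    subst hn
    have hsub : ∀ L : Subgroup H, Inv x L → L ≠ ⊤ → cm x L ⊓ Fx x ≤ K x := by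
      intro L hL hne
      have hbij : Function.Bijective (fun a : L => (⟨x a, hL a a.2⟩ : L)) :=
        Finite.injective_iff_bijective.1 fun a b h => Subtype.ext (x.injective (congrArg Subtype.val h))
      let xL : MulAut L := MulEquiv.ofBijective
        (MonoidHom.mk' (fun a : L => (⟨x a, hL a a.2⟩ : L)) fun a b => Subtype.ext (map_mul x (a : H) (b : H))) hbij
      have hxL : ∀ a : L, (xL a : H) = x a := fun a => rfl
      have hxLp : xL ^ p = 1 := MulEquiv.ext fun a => Subtype.ext (by rw [iterate_eq hxL, hxp]; rfl)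
      have hlt : Nat.card L < Nat.card H :=
        lt_of_le_of_ne (Subgroup.card_le_card_group L) fun e => hne (Subgroup.eq_top_of_card_eq L e)
      have := ih _ hlt L rfl p hp2
        (Nat.Coprime.coprime_dvd_left (Subgroup.card_subgroup_dvd_card L) hcop) xL hxLp
      have hKle : K xL ≤ (K x).comap L.subtype := by
        refine iSup_le fun a => ?_
        rintro b ⟨hb1, hb2⟩
        have hJ : J xL a ≤ (J x (a : H)).comap L.subtype := (Subgroup.closure_le _).2 (by
          rintro _ ⟨i, rfl⟩
          exact Subgroup.subset_closure ⟨i, by simp [iterate_eq hxL]⟩)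
        exact mem_K (h := (a : H)) (hJ hb1) (congrArg Subtype.val hb2)
      rintro c ⟨hc1, hc2⟩
      have hcL : c ∈ L := cm_le hL hc1
      have hmap : cm x L ≤ (cm xL ⊤).map L.subtype := (Subgroup.closure_le _).2 (by
        rintro _ ⟨a, ha, i, rfl⟩
        exact ⟨(⟨a, ha⟩ : L)⁻¹ * (xL ^ i) ⟨a, ha⟩, gen_mem_cm (Subgroup.mem_top _) i,
          by simp [iterate_eq hxL]⟩)
      obtain ⟨c', hc', e⟩ := hmap hc1
      have he : c' = ⟨c, hcL⟩ := Subtype.ext e
      subst he
      exact hKle (this ⟨hc', Subtype.ext hc2⟩)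
    by_cases htop : cm x (⊤ : Subgroup H) = ⊤
    · have hquot : ∀ M : Subgroup H, M.Normal → Inv x M → M ≠ ⊥ → Fx x ≤ K x ⊔ M := by
        intro M hMn hMi hMne c hc
        haveI := hMn
        have hMx : M.map (x : H →* H) = M :=
          Subgroup.eq_of_le_of_card_ge (by rintro _ ⟨a, ha, rfl⟩; exact hMi a ha)
            (Subgroup.card_map_of_injective x.injective).ge
        let y : MulAut (H ⧸ M) := QuotientGroup.congr M M x hMx
        have hyi : ∀ (i : ℕ) (a : H), (y ^ i) (a : H ⧸ M) = (((x ^ i) a : H) : H ⧸ M) := fun i => by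
          induction i with
          | zero => intro a; simp
          | succ i ihi => intro a; rw [pow_succ', MulAut.mul_apply, ihi, pow_succ', MulAut.mul_apply]; rfl
        have hyp : y ^ p = 1 := MulEquiv.ext fun v => by
          obtain ⟨a, rfl⟩ := QuotientGroup.mk_surjective v
          rw [hyi, hxp]; rfl
        have hlt : Nat.card (H ⧸ M) < Nat.card H := by
          have h1 : 1 < Nat.card M := by
            by_contra h2
            have h3 : 0 < Nat.card M := Nat.card_pos
            exact hMne (Subgroup.card_eq_one.1 (by omega))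
          rw [M.card_eq_card_quotient_mul_card_subgroup]
          exact lt_mul_of_one_lt_right Nat.card_pos h1
        haveI : Group.IsSolvable (H ⧸ M) :=
          Group.isSolvable_of_surjective (QuotientGroup.mk'_surjective M)
        have := ih _ hlt (H ⧸ M) rfl p hp2
          (Nat.Coprime.coprime_dvd_left (Subgroup.card_quotient_dvd_card M) hcop) y hyp
        have htopy : cm y ⊤ = ⊤ := by
          refine (Subgroup.eq_top_iff' _).2 fun v => ?_
          obtain ⟨b, rfl⟩ := QuotientGroup.mk_surjective v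
          have hb : b ∈ cm x (⊤ : Subgroup H) := by rw [htop]; exact Subgroup.mem_top b
          suffices hle : cm x (⊤ : Subgroup H) ≤ (cm y ⊤).comap (QuotientGroup.mk' M) from hle hb
          refine (Subgroup.closure_le _).2 ?_
          rintro _ ⟨a, -, i, rfl⟩
          exact Subgroup.subset_closure ⟨(a : H ⧸ M), Subgroup.mem_top _, i, by simp [hyi]⟩
        have hKy : K y ≤ (K x).map (QuotientGroup.mk' M) := by
          refine iSup_le fun v => ?_
          obtain ⟨h, rfl⟩ := QuotientGroup.mk_surjective v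
          rintro b ⟨hb1, hb2⟩
          have hJ : J y (h : H ⧸ M) ≤ (J x h).map (QuotientGroup.mk' M) := (Subgroup.closure_le _).2 (by
            rintro _ ⟨i, rfl⟩
            exact ⟨_, Subgroup.subset_closure ⟨i, rfl⟩, by simp [hyi]⟩)
          obtain ⟨j, hj, rfl⟩ := hJ hb1
          have hjx : j⁻¹ * x j ∈ J x h ⊓ M := by
            refine ⟨(J x h).mul_mem ((J x h).inv_mem hj) (J_inv h j hj), ?_⟩
            show j⁻¹ * x j ∈ M
            rw [← QuotientGroup.eq]
            exact (hb2 : y (j : H ⧸ M) = (j : H ⧸ M)).symm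
          obtain ⟨m, hm, hfix⟩ := exists_fixed hcop hxp (M := J x h ⊓ M)
            (fun a ha => ⟨J_inv h a ha.1, hMi a ha.2⟩) hjx
          refine ⟨j * m, mem_K (h := h) (mul_mem hj hm.1) hfix, ?_⟩
          rw [map_mul, QuotientGroup.mk'_apply M m, (QuotientGroup.eq_one_iff m).2 hm.2, mul_one]
        obtain ⟨k, hk, e⟩ := hKy (this ⟨htopy ▸ Subgroup.mem_top (c : H ⧸ M), by
          show y (c : H ⧸ M) = (c : H ⧸ M)
          have h1 := hyi 1 c
          rw [pow_one, pow_one] at h1
          rw [h1, show x c = c from hc]⟩)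
        have hkc : k⁻¹ * c ∈ M := QuotientGroup.eq.1 e
        rw [← mul_inv_cancel_left k c]
        exact mul_mem (Subgroup.mem_sup_left hk) (Subgroup.mem_sup_right hkc)
      exact inf_le_right.trans (step hp2 hcop hxp htop hsub hquot)
    · have := hsub _ cm_inv htop
      rwa [cm_idem hcop hxp] at this

end Cfsg.Agent.CopFix
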