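import Mathlib

/-!
# Fixed points of a commutator subgroup under an automorphism of odd prime order

Basic notions and the nilpotent case.
-/

set_option autoImplicit false

namespace Cfsg.Agent.CopFix

open scoped commutatorElement

universe u

variable {H : Type u} [Group H]

/-- The fixed points. -/
abbrev Fx (x : MulAut H) : Subgroup H := (x : H →* H).eqLocus (MonoidHom.id H)

/-- A subgroup mapped into itself. -/
def Inv (x : MulAut H) (L : Subgroup H) : Prop := ∀ a ∈ L, x a ∈ L

/-- `[L, x]`. -/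
def cm (x : MulAut H) (L : Subgroup H) : Subgroup H :=
  Subgroup.closure {c : H | ∃ a ∈ L, ∃ i : ℕ, c = a⁻¹ * (x ^ i) a}

/-- `[h, x]`. -/
def J (x : MulAut H) (h : H) : Subgroup H :=
  Subgroup.closure {c : H | ∃ i : ℕ, c = h⁻¹ * (x ^ i) h}

/-- The subgroup generated by the fixed points of the `[h, x]`. -/
def K (x : MulAut H) : Subgroup H := ⨆ h : H, J x h ⊓ Fx x

variable {x : MulAut H}

theorem mem_Fx {a : H} : a ∈ Fx x ↔ x a = a := Iff.rfl

theorem K_le_Fx : K x ≤ Fx x := iSup_le fun _ => inf_le_right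

theorem mem_K {h c : H} (h1 : c ∈ J x h) (h2 : x c = c) : c ∈ K x :=
  (le_iSup (fun h => J x h ⊓ Fx x) h) ⟨h1, h2⟩

theorem pow_mem_of_inv {L : Subgroup H} (hL : Inv x L) {a : H} (ha : a ∈ L) (i : ℕ) :
    (x ^ i) a ∈ L := by
  induction i with
  | zero => simpa using ha
  | succ i ih => rw [pow_succ', MulAut.mul_apply]; exact hL _ ih

theorem pow_apply_fixed {c : H} (hc : x c = c) (i : ℕ) : (x ^ i) c = c := by
  induction i with
  | zero => simp
  | succ i ih => rw [pow_succ', MulAut.mul_apply, ih, hc]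

theorem inv_closure_gen {S : Set H}
    (hS : ∀ a ∈ S, x a ∈ Subgroup.closure S) : Inv x (Subgroup.closure S) := by
  intro a ha
  exact ((Subgroup.closure_le ((Subgroup.closure S).comap (x : H →* H))).2 hS) ha

theorem J_inv (h : H) : Inv x (J x h) := by
  refine inv_closure_gen ?_
  rintro _ ⟨i, rfl⟩
  have e : x (h⁻¹ * (x ^ i) h) = (h⁻¹ * (x ^ 1) h)⁻¹ * (h⁻¹ * (x ^ (i + 1)) h) := by
    rw [map_mul, map_inv, pow_one, pow_succ', MulAut.mul_apply]
    group
  rw [e]
  exact mul_mem (inv_mem (Subgroup.subset_closure ⟨1, rfl⟩)) (Subgroup.subset_closure ⟨i + 1, rfl⟩)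

theorem gen_mem_cm {L : Subgroup H} {a : H} (ha : a ∈ L) (i : ℕ) : a⁻¹ * (x ^ i) a ∈ cm x L :=
  Subgroup.subset_closure ⟨a, ha, i, rfl⟩

theorem J_le_cm {L : Subgroup H} {h : H} (hh : h ∈ L) : J x h ≤ cm x L :=
  (Subgroup.closure_le _).2 (by rintro _ ⟨i, rfl⟩; exact gen_mem_cm hh i)

theorem cm_inv {L : Subgroup H} : Inv x (cm x L) := by
  refine inv_closure_gen ?_
  rintro _ ⟨a, ha, i, rfl⟩
  exact J_le_cm ha (J_inv a _ (Subgroup.subset_closure ⟨i, rfl⟩))

theorem cm_le {L : Subgroup H} (hL : Inv x L) : cm x L ≤ L :=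
  (Subgroup.closure_le _).2
    (by rintro _ ⟨a, ha, i, rfl⟩; exact L.mul_mem (L.inv_mem ha) (pow_mem_of_inv hL ha i))

theorem cm_mono {L L' : Subgroup H} (h : L ≤ L') : cm x L ≤ cm x L' :=
  Subgroup.closure_mono (by rintro _ ⟨a, ha, i, rfl⟩; exact ⟨a, h ha, i, rfl⟩)

theorem cm_conj {L : Subgroup H} {b m : H} (hb : b ∈ L) (hm : m ∈ cm x L) :
    b⁻¹ * m * b ∈ cm x L := by
  have hsub : cm x L ≤ (cm x L).comap (MulAut.conj b⁻¹).toMonoidHom := by
    refine (Subgroup.closure_le _).2 ?_
    rintro _ ⟨a, ha, i, rfl⟩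
    show b⁻¹ * (a⁻¹ * (x ^ i) a) * b⁻¹⁻¹ ∈ cm x L
    have e : b⁻¹ * (a⁻¹ * (x ^ i) a) * b⁻¹⁻¹ =
        ((a * b)⁻¹ * (x ^ i) (a * b)) * (b⁻¹ * (x ^ i) b)⁻¹ := by
      rw [map_mul]; group
    rw [e]
    exact mul_mem (gen_mem_cm (L.mul_mem ha hb) i) (inv_mem (gen_mem_cm hb i))
  have := hsub hm
  rw [Subgroup.mem_comap] at this
  simpa [MulAut.conj_apply] using this

theorem K_conj {c k : H} (hc : x c = c) (hk : k ∈ K x) : c⁻¹ * k * c ∈ K x := by
  have hsub : K x ≤ (K x).comap (MulAut.conj c⁻¹).toMonoidHom := by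
    refine iSup_le fun h => ?_
    rintro a ⟨h1, h2⟩
    have hJ : J x h ≤ (J x (h * c)).comap (MulAut.conj c⁻¹).toMonoidHom := by
      refine (Subgroup.closure_le _).2 ?_
      rintro _ ⟨i, rfl⟩
      refine Subgroup.subset_closure ⟨i, ?_⟩
      show c⁻¹ * (h⁻¹ * (x ^ i) h) * c⁻¹⁻¹ = _
      rw [map_mul, pow_apply_fixed hc]
      group
    refine mem_K (h := h * c) (hJ h1) ?_
    show x (c⁻¹ * a * c⁻¹⁻¹) = c⁻¹ * a * c⁻¹⁻¹
    rw [map_mul, map_mul, map_inv, map_inv, map_inv, hc, show x a = a from h2]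
  have := hsub hk
  rw [Subgroup.mem_comap] at this
  simpa [MulAut.conj_apply] using this

variable [Finite H] {p : ℕ} [hp : Fact p.Prime]

/-- A fixed element in a fixed coset of an invariant subgroup. -/
theorem exists_fixed (hcop : (Nat.card H).Coprime p) (hxp : x ^ p = 1) {M : Subgroup H}
    (hM : Inv x M) {a : H} (ha : a⁻¹ * x a ∈ M) : ∃ m ∈ M, x (a * m) = a * m := by
  classical
  let Z := Subgroup.zpowers x
  have hZ : IsPGroup p Z := by
    refine IsPGroup.iff_orderOf.2 fun z => ?_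
    have hd : orderOf z ∣ p := by
      refine (orderOf_dvd_of_pow_eq_one ?_)
      obtain ⟨⟨k, hk⟩⟩ := (⟨z.2⟩ : Nonempty ((z : MulAut H) ∈ Subgroup.zpowers x))
      refine Subtype.ext ?_
      rw [Subgroup.coe_pow, ← hk, ← zpow_natCast, ← zpow_mul, mul_comm, zpow_mul, zpow_natCast,
        hxp, one_zpow]
      rfl
    exact ((Nat.dvd_prime hp.out).1 hd).elim (fun e => ⟨0, by rw [e, pow_zero]⟩)
      (fun e => ⟨1, by rw [e, pow_one]⟩)
  let S : Set H := {y | a⁻¹ * y ∈ M}
  have hSx : ∀ y ∈ S, x y ∈ S := fun y hy => by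
    show a⁻¹ * x y ∈ M
    have e : a⁻¹ * x y = (a⁻¹ * x a) * x (a⁻¹ * y) := by rw [map_mul, map_inv]; group
    rw [e]; exact mul_mem ha (hM _ hy)
  have hxinv : x⁻¹ = x ^ (p - 1) := by
    refine inv_eq_of_mul_eq_one_right ?_
    rw [← pow_succ', Nat.sub_add_cancel hp.out.one_le, hxp]
  have hSn : ∀ (i : ℕ), ∀ y ∈ S, (x ^ i) y ∈ S := fun i => by
    induction i with
    | zero => intro y hy; simpa using hy
    | succ i ih => intro y hy; rw [pow_succ', MulAut.mul_apply]; exact hSx _ (ih y hy)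
  have hSz : ∀ z : Z, ∀ y ∈ S, (z : MulAut H) y ∈ S := by
    rintro ⟨z, hz⟩ y hy
    obtain ⟨i, rfl⟩ : ∃ i : ℕ, x ^ i = z := by
      obtain ⟨k, hk⟩ := hz
      rcases Int.eq_nat_or_neg k with ⟨n, rfl | rfl⟩
      · exact ⟨n, by simpa using hk⟩
      · refine ⟨(p - 1) * n, ?_⟩
        rw [pow_mul, ← hxinv, inv_pow]
        simpa using hk
    exact hSn i y hy
  letI : MulAction Z S :=
    { smul := fun z y => ⟨(z : MulAut H) y, hSz z y y.2⟩
      one_smul := fun y => Subtype.ext rfl
      mul_smul := fun z w y => Subtype.ext rfl }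
  have hcard : Nat.card S = Nat.card M :=
    Nat.card_congr
      { toFun := fun y => ⟨a⁻¹ * y, y.2⟩
        invFun := fun m => ⟨a * m, by show a⁻¹ * (a * m) ∈ M; rw [inv_mul_cancel_left]; exact m.2⟩
        left_inv := fun y => Subtype.ext (mul_inv_cancel_left _ _)
        right_inv := fun m => Subtype.ext (inv_mul_cancel_left _ _) }
  have hnd : ¬ p ∣ Nat.card S := by
    rw [hcard]
    intro hd
    have h1 := Nat.Coprime.coprime_dvd_left (Subgroup.card_subgroup_dvd_card M) hcop
    exact hp.out.ne_one (Nat.eq_one_of_dvd_coprimes h1 hd dvd_rfl)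
  obtain ⟨y, hy⟩ := hZ.nonempty_fixed_point_of_prime_not_dvd_card S hnd
  refine ⟨a⁻¹ * y, y.2, ?_⟩
  rw [mul_inv_cancel_left]
  exact congrArg Subtype.val (hy ⟨x, Subgroup.mem_zpowers x⟩)

/-- Every element of an invariant `L` is an element of `[L, x]` times a fixed one. -/
theorem exists_cm_mul_fixed (hcop : (Nat.card H).Coprime p) (hxp : x ^ p = 1) {L : Subgroup H}
    (hL : Inv x L) {a : H} (ha : a ∈ L) :
    ∃ m ∈ cm x L, ∃ c ∈ L, x c = c ∧ a = m * c := by
  have hm : a⁻¹ * x a ∈ cm x L := by simpa using gen_mem_cm (x := x) ha 1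
  obtain ⟨m, hm1, hfix⟩ := exists_fixed hcop hxp cm_inv hm
  refine ⟨a * m⁻¹ * a⁻¹, ?_, a * m, L.mul_mem ha (cm_le hL hm1), hfix, by group⟩
  have := cm_conj (x := x) (L.inv_mem ha) (inv_mem hm1)
  simpa using this

/-- A hom to a commutative group killing `[L, x]` and the fixed points is trivial on `L`. -/
theorem coprime_pow_eq_one {X : Type*} [Monoid X] {y : X} {m : ℕ} (h1 : y ^ m = 1) (h2 : y ^ p = 1)
    (h : m.Coprime p) : y = 1 := by
  rw [← orderOf_eq_one_iff]
  exact Nat.eq_one_of_dvd_coprimes h (orderOf_dvd_of_pow_eq_one h1) (orderOf_dvd_of_pow_eq_one h2)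

/-- No fixed point in `[Z(H), x]`. -/
theorem cm_center_le (hxp : x ^ p = 1) (hcop : (Nat.card H).Coprime p) {z : H}
    (hz : z ∈ cm x (Subgroup.center H)) (hfix : x z = z) : z = 1 := by
  have hZ : Inv x (Subgroup.center H) := fun a ha => by
    rw [Subgroup.mem_center_iff] at ha ⊢
    intro g
    obtain ⟨g', rfl⟩ := x.surjective g
    rw [← map_mul, ← map_mul, ha]
  let N : Subgroup.center H →* Subgroup.center H :=
    { toFun := fun a => ((List.range p).map fun i =>
        (⟨(x ^ i) a, pow_mem_of_inv hZ a.2 i⟩ : Subgroup.center H)).prod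
      map_one' := List.prod_eq_one (by
        intro y hy
        obtain ⟨i, -, rfl⟩ := List.mem_map.1 hy
        exact Subtype.ext (by simp))
      map_mul' := fun a b => by
        letI : CommGroup (Subgroup.center H) :=
          { (inferInstance : Group (Subgroup.center H)) with
            mul_comm := fun u v => Subtype.ext (Subgroup.mem_center_iff.1 v.2 u) }
        refine Eq.trans ?_ List.prod_map_mul
        refine congrArg List.prod (List.map_congr_left fun i _ => Subtype.ext ?_)
        show (x ^ i) ((a : H) * b) = (x ^ i) a * (x ^ i) b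
        rw [map_mul] }
  have hNx : ∀ a : Subgroup.center H, N ⟨x a, hZ _ a.2⟩ = N a := by
    intro a
    show ((List.range p).map _).prod = ((List.range p).map _).prod
    set f : ℕ → Subgroup.center H := fun i => ⟨(x ^ i) a, pow_mem_of_inv hZ a.2 i⟩ with hf
    have e : (fun i => (⟨(x ^ i) (x a), pow_mem_of_inv hZ (hZ _ a.2) i⟩ : Subgroup.center H)) =
        fun i => f (i + 1) := funext fun i => Subtype.ext (by simp [hf, pow_succ])
    rw [e]
    haveI : IsMulCommutative (Subgroup.center H) := inferInstance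
    have h1 : (List.range (p + 1)).map f = f 0 :: (List.range p).map fun i => f (i + 1) := by
      rw [List.range_succ_eq_map, List.map_cons, List.map_map]; rfl
    have h2 : (List.range (p + 1)).map f = (List.range p).map f ++ [f p] := by
      rw [List.range_succ, List.map_append]; rfl
    have h3 : f p = f 0 := Subtype.ext (by simp [hf, hxp])
    have h4 := congrArg List.prod (h1.symm.trans h2)
    rw [List.prod_cons, List.prod_append, List.prod_singleton, h3] at h4
    refine mul_left_cancel (a := f 0) (h4.trans ?_)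
    exact Subtype.ext ((Subgroup.mem_center_iff.1 (f 0).2 _))
  have hker : cm x (Subgroup.center H) ≤ N.ker.map (Subgroup.center H).subtype := by
    refine (Subgroup.closure_le _).2 ?_
    rintro _ ⟨a, ha, i, rfl⟩
    refine ⟨⟨a, ha⟩⁻¹ * ⟨(x ^ i) a, pow_mem_of_inv hZ ha i⟩, ?_, rfl⟩
    have : ∀ i : ℕ, N ⟨(x ^ i) a, pow_mem_of_inv hZ ha i⟩ = N ⟨a, ha⟩ := fun i => by
      induction i with
      | zero => exact congrArg N (Subtype.ext (by simp))
      | succ i ih =>
        rw [← ih, ← hNx ⟨(x ^ i) a, pow_mem_of_inv hZ ha i⟩]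
        exact congrArg N (Subtype.ext (by simp [pow_succ']))
    rw [SetLike.mem_coe, MonoidHom.mem_ker, map_mul, map_inv, this, inv_mul_cancel]
  obtain ⟨w, hw, rfl⟩ := hker hz
  rw [SetLike.mem_coe, MonoidHom.mem_ker] at hw
  have hNp : N w = w ^ p := by
    show ((List.range p).map _).prod = _
    rw [List.prod_eq_pow_card _ w, List.length_map, List.length_range]
    intro y hy
    obtain ⟨i, -, rfl⟩ := List.mem_map.1 hy
    exact Subtype.ext (pow_apply_fixed hfix i)
  have h1 : (w : H) ^ p = 1 := by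
    rw [← Subgroup.coe_pow, ← hNp, hw]; rfl
  exact coprime_pow_eq_one (m := Nat.card H) pow_card_eq_one' h1 hcop

/-- The nilpotent case. -/
theorem nilpotent_case [Group.IsNilpotent H] (hp2 : p ≠ 2) (hcop : (Nat.card H).Coprime p)
    (hxp : x ^ p = 1) (htop : cm x ⊤ = ⊤)
    (hsub : ∀ L : Subgroup H, Inv x L → L ≠ ⊤ → cm x L ⊓ Fx x ≤ K x)
    (hquot : ∀ M : Subgroup H, M.Normal → Inv x M → M ≠ ⊥ → Fx x ≤ K x ⊔ M) :
    Fx x ≤ K x := by
  by_contra hC
  set Z := Subgroup.center H with hZdef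
  have hZinv : Inv x Z := fun a ha => by
    rw [hZdef, Subgroup.mem_center_iff] at ha ⊢
    intro g
    obtain ⟨g', rfl⟩ := x.surjective g
    rw [← map_mul, ← map_mul, ha]
  have hcen : ∀ M : Subgroup H, M ≤ Z → M.Normal := fun M hM =>
    ⟨fun n hn g => by rw [Subgroup.mem_center_iff.1 (hM hn) g, mul_inv_cancel_right]; exact hn⟩
  have hZK : Z ⊓ K x = ⊥ := by
    by_contra hne
    refine hC ((hquot _ (hcen _ inf_le_left) ?_ hne).trans (sup_le le_rfl inf_le_right))
    intro a ha
    have e : x a = a := K_le_Fx ha.2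
    rw [e]; exact ha
  have hcmZ : cm x Z = ⊥ := by
    by_contra hne
    refine hC fun c hc => ?_
    haveI := hcen _ (cm_le hZinv)
    have := hquot _ inferInstance cm_inv hne hc
    rw [← SetLike.mem_coe, Subgroup.mul_normal] at this
    obtain ⟨k, hk, m, hm, rfl⟩ := this
    change k * m ∈ Fx x at hc
    show k * m ∈ K x
    have hmfix : x m = m := by
      have h1 : x (k * m) = k * m := hc
      rw [map_mul, show x k = k from K_le_Fx hk] at h1
      exact mul_left_cancel h1
    have := cm_center_le hxp hcop hm hmfix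
    subst this
    rw [mul_one]; exact hk
  have hZfix : ∀ z ∈ Z, x z = z := fun z hz => by
    have h1 : z⁻¹ * (x ^ 1) z ∈ cm x Z := gen_mem_cm hz 1
    rw [hcmZ, Subgroup.mem_bot, pow_one, inv_mul_eq_one] at h1
    exact h1.symm
  have hZinK : ∀ z ∈ Z, z ∈ K x → z = 1 := fun z h1 h2 => by
    have : z ∈ Z ⊓ K x := ⟨h1, h2⟩
    rwa [hZK, Subgroup.mem_bot] at this
  -- the second centre
  set Z2 := (Subgroup.center (H ⧸ Z)).comap (QuotientGroup.mk' Z) with hZ2def
  have hZ2 : ∀ t, t ∈ Z2 ↔ ∀ a : H, ⁅t, a⁆ ∈ Z := fun t => by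
    rw [hZ2def, Subgroup.mem_comap, Subgroup.mem_center_iff]
    constructor
    · intro h a
      rw [← QuotientGroup.eq_one_iff]
      have := h (QuotientGroup.mk' Z a)
      show QuotientGroup.mk' Z ⁅t, a⁆ = 1
      rw [map_commutatorElement, commutatorElement_eq_one_iff_mul_comm]
      exact this.symm
    · intro h g
      obtain ⟨a, rfl⟩ := QuotientGroup.mk'_surjective Z g
      have := (QuotientGroup.eq_one_iff _).2 (h a)
      change QuotientGroup.mk' Z ⁅t, a⁆ = 1 at this
      rw [map_commutatorElement, commutatorElement_eq_one_iff_mul_comm] at this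
      exact this.symm
  -- commutation with an element of `Z2`
  have hmulr : ∀ t ∈ Z2, ∀ a b : H, ⁅t, a * b⁆ = ⁅t, a⁆ * ⁅t, b⁆ := fun t ht a b => by
    have e : ⁅t, a * b⁆ = ⁅t, a⁆ * (a * ⁅t, b⁆ * a⁻¹) := by simp only [commutatorElement_def]; group
    rw [e, Subgroup.mem_center_iff.1 ((hZ2 t).1 ht b) a, mul_inv_cancel_right]
  have hfixZ2 : ∀ c, x c = c → c ∈ Z2 → c ∈ Z := by
    intro c hc hc2
    let β : H →* H := MonoidHom.mk' (fun a => ⁅c, a⁆) (hmulr c hc2)
    have hβx : ∀ a, β (x a) = β a := fun a => by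
      show ⁅c, x a⁆ = ⁅c, a⁆
      conv_lhs => rw [← hc]
      rw [← map_commutatorElement]
      exact hZfix _ ((hZ2 c).1 hc2 a)
    have hle : cm x ⊤ ≤ β.ker := by
      refine (Subgroup.closure_le _).2 ?_
      rintro _ ⟨a, -, i, rfl⟩
      rw [SetLike.mem_coe, MonoidHom.mem_ker, map_mul, map_inv]
      have : β ((x ^ i) a) = β a := by
        induction i with
        | zero => simp
        | succ i ih => rw [pow_succ', MulAut.mul_apply, hβx, ih]
      rw [this, inv_mul_cancel]
    rw [htop] at hle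
    rw [hZdef, Subgroup.mem_center_iff]
    exact fun g => (commutatorElement_eq_one_iff_mul_comm.1 (hle (Subgroup.mem_top g))).symm
  by_cases hcl : commutator H ≤ Z
  · -- class two
    have hall : ∀ t, t ∈ Z2 := fun t => (hZ2 t).2 fun a =>
      hcl (Subgroup.commutator_mem_commutator (Subgroup.mem_top t) (Subgroup.mem_top a))
    have hfixc : ∀ c, x c = c → c ∈ Z := fun c hc => hfixZ2 c hc (hall c)
    -- `h ∈ [h, x] Z`
    have hJZ : ∀ h, h ∈ J x h ⊔ Z := by
      intro h
      set U := J x h ⊔ Z with hU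
      haveI hUn : U.Normal := ⟨fun n hn g => by
        have e : g * n * g⁻¹ = ⁅g, n⁆ * n := by rw [commutatorElement_def]; group
        rw [e]
        exact U.mul_mem (Subgroup.mem_sup_right
          (hcl (Subgroup.commutator_mem_commutator (Subgroup.mem_top g) (Subgroup.mem_top n)))) hn⟩
      have hpw : ∀ i : ℕ, QuotientGroup.mk' U ((x ^ i) h) = QuotientGroup.mk' U h := fun i =>
        ((QuotientGroup.mk'_eq_mk' U).2 ⟨h⁻¹ * (x ^ i) h,
          Subgroup.mem_sup_left (Subgroup.subset_closure ⟨i, rfl⟩), by group⟩).symm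
      let P := ((List.range p).map fun i => (x ^ i) h).prod
      have hPU : QuotientGroup.mk' U P = (QuotientGroup.mk' U h) ^ p := by
        rw [map_list_prod, List.prod_eq_pow_card _ (QuotientGroup.mk' U h)]
        · simp
        · intro y hy
          rw [List.map_map] at hy
          obtain ⟨i, -, rfl⟩ := List.mem_map.1 hy
          exact hpw i
      have hxP : QuotientGroup.mk' Z (x P) = QuotientGroup.mk' Z P := by
        haveI : IsMulCommutative (H ⧸ Z) := ⟨⟨fun a b => by
          obtain ⟨a, rfl⟩ := QuotientGroup.mk'_surjective Z a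
          obtain ⟨b, rfl⟩ := QuotientGroup.mk'_surjective Z b
          rw [← commutatorElement_eq_one_iff_mul_comm, ← map_commutatorElement]
          exact (QuotientGroup.eq_one_iff _).2
            (hcl (Subgroup.commutator_mem_commutator (Subgroup.mem_top a) (Subgroup.mem_top b)))⟩⟩
        set f : ℕ → H := fun i => (x ^ i) h with hf
        have e : x P = ((List.range p).map fun i => f (i + 1)).prod := by
          show x ((List.range p).map f).prod = _
          rw [map_list_prod, List.map_map]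
          refine congrArg List.prod (List.map_congr_left fun i _ => ?_)
          simp [hf, pow_succ']
        have h1 : (List.range (p + 1)).map f = f 0 :: (List.range p).map fun i => f (i + 1) := by
          rw [List.range_succ_eq_map, List.map_cons, List.map_map]; rfl
        have h2 : (List.range (p + 1)).map f = (List.range p).map f ++ [f p] := by
          rw [List.range_succ, List.map_append]; rfl
        have h3 : f p = f 0 := by simp [hf, hxp]
        have h4 := congrArg (fun l => QuotientGroup.mk' Z l.prod) (h1.symm.trans h2)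
        simp only [List.prod_cons, List.prod_append, List.prod_singleton, h3, map_mul] at h4
        rw [e]
        simp only [List.prod_nil, map_one, mul_one] at h4
        exact mul_left_cancel (a := QuotientGroup.mk' Z (f 0))
          (h4.trans (IsMulCommutative.is_comm.comm _ _))
      have hPZ : P ∈ Z := by
        obtain ⟨z, hz, hze⟩ := (QuotientGroup.mk'_eq_mk' Z).1 hxP.symm
        obtain ⟨m, hm, hfix⟩ := exists_fixed hcop hxp hZinv (a := P)
          (by rw [← hze, inv_mul_cancel_left]; exact hz)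
        have := hfixc _ hfix
        exact (Subgroup.mul_mem_cancel_right Z hm).1 this
      rw [← QuotientGroup.eq_one_iff (N := U)]
      show QuotientGroup.mk' U h = 1
      refine coprime_pow_eq_one (m := Nat.card H) ?_ ?_ hcop
      · rw [← map_pow, pow_card_eq_one', map_one]
      · rw [← hPU]
        exact (QuotientGroup.eq_one_iff _).2 (Subgroup.mem_sup_right hPZ)
    have hall2 : ∀ h i, ⁅h, (x ^ i) h⁆ = 1 := by
      intro h i
      have hcz : ⁅h, (x ^ i) h⁆ ∈ Z :=
        hcl (Subgroup.commutator_mem_commutator (Subgroup.mem_top _) (Subgroup.mem_top _))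
      refine hZinK _ hcz (mem_K (h := h) ?_ (hZfix _ hcz))
      obtain ⟨j, hj, z, hz, he⟩ := Subgroup.mem_sup_of_normal_right.1 (hJZ h)
      have hd : h⁻¹ * (x ^ i) h ∈ J x h := Subgroup.subset_closure ⟨i, rfl⟩
      have hz' := Subgroup.mem_center_iff.1 hz
      have e1 : ⁅h, (x ^ i) h⁆ = ⁅h, h⁻¹ * (x ^ i) h⁆ := by
        have := hmulr h (hall h) h (h⁻¹ * (x ^ i) h)
        rw [mul_inv_cancel_left] at this
        rw [this, commutatorElement_self, one_mul]
      rw [e1]
      generalize h⁻¹ * (x ^ i) h = d at hd ⊢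
      have e2 : ⁅h, d⁆ = ⁅j, d⁆ := by
        rw [← he]
        simp only [commutatorElement_def]
        rw [mul_inv_rev, mul_assoc j z d, ← hz' d, ← mul_assoc j d z, mul_assoc (j * d) z,
          ← mul_assoc z z⁻¹, mul_inv_cancel, one_mul]
      rw [e2]
      exact mul_mem (mul_mem (mul_mem hj hd) (inv_mem hj)) (inv_mem hd)
    -- polarisation
    have hmull : ∀ a b t : H, ⁅a * b, t⁆ = ⁅a, t⁆ * ⁅b, t⁆ := fun a b t => by
      have e : ⁅a * b, t⁆ = (a * ⁅b, t⁆ * a⁻¹) * ⁅a, t⁆ := by simp only [commutatorElement_def]; group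
      rw [e, Subgroup.mem_center_iff.1 ((hZ2 b).1 (hall b) t) a, mul_inv_cancel_right,
        Subgroup.mem_center_iff.1 ((hZ2 a).1 (hall a) t)]
    have hbil : ∀ a b : H, ⁅a, x b⁆ = ⁅x a, b⁆ := fun a b => by
      have h1 := hall2 (a * b) 1
      have ha := hall2 a 1
      have hb := hall2 b 1
      rw [pow_one] at h1 ha hb
      rw [map_mul, hmulr _ (hall _), hmull, hmull, ha, hb, one_mul, mul_one] at h1
      rw [← commutatorElement_inv b (x a)]
      exact (inv_eq_of_mul_eq_one_left (by
        rw [Subgroup.mem_center_iff.1 ((hZ2 a).1 (hall a) (x b))] at h1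
        exact h1)).symm
    have hinv : ∀ a b : H, ⁅x a, x b⁆ = ⁅a, b⁆ := fun a b => by
      rw [← map_commutatorElement]
      exact hZfix _ ((hZ2 a).1 (hall a) b)
    let Q : Subgroup H := Z
    have hx2 : ∀ a, a⁻¹ * (x ^ 2) a ∈ Q := fun a => by
      rw [Subgroup.mem_center_iff]
      intro g
      obtain ⟨b, rfl⟩ := x.surjective g
      refine (commutatorElement_eq_one_iff_mul_comm.1 ?_).symm
      rw [hmull]
      have e : ⁅(x ^ 2) a, x b⁆ = ⁅a, x b⁆ := by
        rw [pow_two, MulAut.mul_apply, hinv, hbil]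
      rw [e, ← hmull, inv_mul_cancel, commutatorElement_one_left]
    have hx2k : ∀ (k : ℕ) a, a⁻¹ * (x ^ (2 * k)) a ∈ Q := fun k a => by
      induction k with
      | zero => simp
      | succ k ih =>
        have := Q.mul_mem ih (hx2 ((x ^ (2 * k)) a))
        rw [mul_assoc, mul_inv_cancel_left, ← MulAut.mul_apply, ← pow_add] at this
        rw [show 2 * (k + 1) = 2 + 2 * k by ring]
        exact this
    have hle : cm x ⊤ ≤ Q := by
      refine (Subgroup.closure_le _).2 ?_
      rintro _ ⟨a, -, i, rfl⟩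
      obtain ⟨m, hm⟩ := hp.out.odd_of_ne_two hp2
      have : x ^ i = x ^ (2 * ((m + 1) * i)) := by
        rw [show 2 * ((m + 1) * i) = (p + 1) * i by rw [hm]; ring, pow_mul, pow_succ, hxp, one_mul]
      rw [this]
      exact hx2k _ a
    rw [htop] at hle
    refine hC fun c _ => ?_
    have h1 : cm x ⊤ ≤ cm x Z := cm_mono hle
    rw [htop, hcmZ] at h1
    have := h1 (Subgroup.mem_top c)
    rw [Subgroup.mem_bot] at this
    subst this
    exact one_mem _
  · -- class at least three
    haveI : Z2.Normal := inferInstance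
    obtain ⟨t, ht, htZ⟩ : ∃ t ∈ Z2, t ∉ Z := by
      by_contra hno
      push Not at hno
      have hb : Subgroup.center (H ⧸ Z) = ⊥ := by
        refine (Subgroup.eq_bot_iff_forall _).2 fun g hg => ?_
        obtain ⟨a, rfl⟩ := QuotientGroup.mk'_surjective Z g
        exact (QuotientGroup.eq_one_iff _).2 (hno a hg)
      haveI : Nontrivial (H ⧸ Z) := by
        rw [QuotientGroup.nontrivial_iff]
        intro htop'
        exact hcl (htop' ▸ le_top)
      exact Group.IsNilpotent.center_ne_bot (G := H ⧸ Z) hb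
    have hZ2inv : Inv x Z2 := fun a ha => (hZ2 _).2 fun g => by
      obtain ⟨g', rfl⟩ := x.surjective g
      rw [← map_commutatorElement]
      exact hZinv _ ((hZ2 a).1 ha g')
    obtain ⟨m, hm, c, hc2, hcf, rfl⟩ := exists_cm_mul_fixed hcop hxp hZ2inv ht
    have hm2 : m ∈ Z2 := cm_le hZ2inv hm
    have hmZ : m ∉ Z := fun h => htZ (Z.mul_mem h (hfixZ2 c hcf hc2))
    obtain ⟨h, i, hw⟩ : ∃ h : H, ∃ i : ℕ, ⁅m, h⁻¹ * (x ^ i) h⁆ ≠ 1 := by
      by_contra hno
      push Not at hno
      refine hmZ ?_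
      let β : H →* H := MonoidHom.mk' (fun a => ⁅m, a⁆) (hmulr m hm2)
      have hle : cm x ⊤ ≤ β.ker := (Subgroup.closure_le _).2
        (by rintro _ ⟨a, -, i, rfl⟩; exact hno a i)
      rw [htop] at hle
      rw [hZdef, Subgroup.mem_center_iff]
      exact fun g => (commutatorElement_eq_one_iff_mul_comm.1 (hle (Subgroup.mem_top g))).symm
    set W := J x h with hWdef
    set L := Z2 ⊔ J x (h⁻¹ * (x ^ i) h) ⊔ W with hLdef
    have hLtop : L = ⊤ := by
      by_contra hne
      have hLinv : Inv x L := by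
        have : L ≤ L.comap (x : H →* H) := sup_le (sup_le
          (fun a ha => Subgroup.mem_sup_left (Subgroup.mem_sup_left (hZ2inv a ha)))
          (fun a ha => Subgroup.mem_sup_left (Subgroup.mem_sup_right (J_inv _ a ha))))
          (fun a ha => Subgroup.mem_sup_right (J_inv _ a ha))
        exact fun a ha => this ha
      have hwL : h⁻¹ * (x ^ i) h ∈ L := Subgroup.mem_sup_right (Subgroup.subset_closure ⟨i, rfl⟩)
      have hmL : m ∈ cm x L := cm_mono (le_sup_left.trans le_sup_left) hm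
      have hmem : ⁅m, h⁻¹ * (x ^ i) h⁆ ∈ cm x L := by
        have h1 := cm_conj (x := x) (L.inv_mem hwL) (inv_mem hmL)
        rw [inv_inv] at h1
        have := (cm x L).mul_mem hmL h1
        rwa [commutatorElement_def, mul_assoc m, mul_assoc m]
      have hz := (hZ2 m).1 hm2 (h⁻¹ * (x ^ i) h)
      exact hw (hZinK _ hz (hsub L hLinv hne ⟨hmem, hZfix _ hz⟩))
    have hJW : J x (h⁻¹ * (x ^ i) h) ≤ W := (Subgroup.closure_le _).2 (by
      rintro _ ⟨j, rfl⟩
      exact W.mul_mem (W.inv_mem (Subgroup.subset_closure ⟨i, rfl⟩))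
        (pow_mem_of_inv (J_inv h) (Subgroup.subset_closure ⟨i, rfl⟩) j))
    have hdec : ∀ a : H, ∃ z ∈ Z2, ∃ j ∈ W, z * j = a := fun a => by
      have : a ∈ Z2 ⊔ W := by
        have h1 : L ≤ Z2 ⊔ W := sup_le (sup_le le_sup_left (hJW.trans le_sup_right)) le_sup_right
        rw [hLtop] at h1
        exact h1 (Subgroup.mem_top a)
      exact Subgroup.mem_sup_of_normal_left.1 this
    have hcomm : commutator H ≤ Z ⊔ W := by
      rw [commutator_def, Subgroup.commutator_le]
      intro a _ b _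
      obtain ⟨z, hz, j, hj, rfl⟩ := hdec a
      obtain ⟨z', hz', j', hj', rfl⟩ := hdec b
      have e : ⁅z * j, z' * j'⁆ = (z * ⁅j, z' * j'⁆ * z⁻¹) * ⁅z, z' * j'⁆ := by
        simp only [commutatorElement_def]; group
      have e2 : ⁅j, z' * j'⁆ = ⁅j, z'⁆ * (z' * ⁅j, j'⁆ * z'⁻¹) := by
        simp only [commutatorElement_def]; group
      have hzz : ∀ u ∈ Z2, ∀ w ∈ Z ⊔ W, u * w * u⁻¹ ∈ Z ⊔ W := fun u hu w hw' => by
        rw [show u * w * u⁻¹ = ⁅u, w⁆ * w by rw [commutatorElement_def]; group]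
        exact mul_mem (Subgroup.mem_sup_left ((hZ2 u).1 hu w)) hw'
      rw [e]
      refine mul_mem (hzz z hz _ ?_) (Subgroup.mem_sup_left ((hZ2 z).1 hz _))
      rw [e2]
      refine mul_mem ?_ (hzz z' hz' _ ?_)
      · rw [← commutatorElement_inv]
        exact inv_mem (Subgroup.mem_sup_left ((hZ2 z').1 hz' j))
      · exact Subgroup.mem_sup_right (W.mul_mem (W.mul_mem (W.mul_mem hj hj') (W.inv_mem hj)) (W.inv_mem hj'))
    have h3 : ⁅commutator H, (⊤ : Subgroup H)⁆ ≤ W := by
      have hrot : ⁅commutator H, Z2⁆ = ⊥ := by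
        rw [commutator_def]
        have hb : ⁅⁅Z2, (⊤ : Subgroup H)⁆, (⊤ : Subgroup H)⁆ = ⊥ := by
          rw [Subgroup.commutator_eq_bot_iff_le_centralizer, Subgroup.commutator_le]
          intro a ha g _
          rw [Subgroup.mem_centralizer_iff]
          intro b _
          exact Subgroup.mem_center_iff.1 ((hZ2 a).1 ha g) b
        refine Subgroup.commutator_commutator_eq_bot_of_rotate ?_ hb
        rwa [Subgroup.commutator_comm (⊤ : Subgroup H) Z2]
      rw [Subgroup.commutator_le]
      intro u hu a _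
      obtain ⟨z, hz, j, hj, rfl⟩ := hdec a
      obtain ⟨z0, hz0, j0, hj0, rfl⟩ := Subgroup.mem_sup_of_normal_left.1 (hcomm hu)
      have hc0 := Subgroup.mem_center_iff.1 hz0
      have h1 : ⁅z0 * j0, z⁆ = 1 := by
        have := Subgroup.commutator_mem_commutator hu hz
        rwa [hrot, Subgroup.mem_bot] at this
      have e : ⁅z0 * j0, z * j⁆ = ⁅z0 * j0, z⁆ * (z * ⁅z0 * j0, j⁆ * z⁻¹) := by
        simp only [commutatorElement_def]; group
      have e3 : ⁅z0 * j0, j⁆ = ⁅j0, j⁆ := by
        rw [show ⁅z0 * j0, j⁆ = (z0 * ⁅j0, j⁆ * z0⁻¹) * ⁅z0, j⁆ by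
            simp only [commutatorElement_def]; group,
          (commutatorElement_eq_one_iff_mul_comm (g₁ := z0) (g₂ := j)).2 (hc0 j).symm, mul_one, ← hc0,
          mul_inv_cancel_right]
      have hj2 : ⁅j0, j⁆ ∈ W := W.mul_mem (W.mul_mem (W.mul_mem hj0 hj) (W.inv_mem hj0)) (W.inv_mem hj)
      rw [e, h1, one_mul, e3]
      have hcm : z * ⁅j0, j⁆ * z⁻¹ = ⁅j0, j⁆ := by
        have h2 : ⁅⁅j0, j⁆, z⁆ = 1 := by
          have := Subgroup.commutator_mem_commutator
            (Subgroup.commutator_mem_commutator (Subgroup.mem_top j0) (Subgroup.mem_top j) : ⁅j0, j⁆ ∈ commutator H) hz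
          rwa [← commutator_def, hrot, Subgroup.mem_bot] at this
        rw [← (commutatorElement_eq_one_iff_mul_comm.1 h2), mul_inv_cancel_right]
      rw [hcm]
      exact hj2
    have h3ne : ⁅commutator H, (⊤ : Subgroup H)⁆ ≠ ⊥ := by
      intro h0
      rw [Subgroup.commutator_eq_bot_iff_le_centralizer, Subgroup.coe_top, Subgroup.centralizer_univ] at h0
      exact hcl h0
    obtain ⟨z, hz, hzne⟩ : ∃ z ∈ ⁅commutator H, (⊤ : Subgroup H)⁆ ⊓ Z, z ≠ 1 := by
      classical
      set g := fun n => (⊤ : Subgroup H).lowerCentralSeries n with hg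
      have hg2 : g 2 = ⁅commutator H, (⊤ : Subgroup H)⁆ := by
        simp only [hg]
        rw [Subgroup.lowerCentralSeries_succ, Subgroup.top_lowerCentralSeries_one]
      have hend : ∃ n, g n = ⊥ := Subgroup.nilpotent_iff_lowerCentralSeries.1 inferInstance
      set n := Nat.find hend with hn
      have hn2 : 3 ≤ n := by
        by_contra hlt
        have : g 2 ≤ g n := (⊤ : Subgroup H).lowerCentralSeries_antitone (by omega)
        rw [Nat.find_spec hend, hg2, le_bot_iff] at this
        exact h3ne this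
      have hne : g (n - 1) ≠ ⊥ := Nat.find_min hend (by omega)
      obtain ⟨z, hz, hz1⟩ : ∃ z ∈ g (n - 1), z ≠ 1 := by
        by_contra hno
        push Not at hno
        exact hne ((Subgroup.eq_bot_iff_forall _).2 hno)
      refine ⟨z, ⟨hg2 ▸ (⊤ : Subgroup H).lowerCentralSeries_antitone (by omega) hz, ?_⟩, hz1⟩
      refine (Subgroup.mem_center_iff (z := z)).2 ?_
      intro a
      have h4 : ⁅g (n - 1), (⊤ : Subgroup H)⁆ = ⊥ := by
        simp only [hg]
        rw [← Subgroup.lowerCentralSeries_succ, show n - 1 + 1 = n by omega]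
        exact Nat.find_spec hend
      have h5 := Subgroup.commutator_mem_commutator hz (Subgroup.mem_top a)
      rw [h4, Subgroup.mem_bot] at h5
      exact (commutatorElement_eq_one_iff_mul_comm.1 h5).symm
    exact hzne (hZinK z hz.2 (mem_K (h3 hz.1) (hZfix z hz.2)))

end Cfsg.Agent.CopFix
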