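import Cfsg.Agent.Lib.Solv.CoprimeFixedSeries

/-!
A finite group of order prime to `p` with an elementary abelian `p`-group of automorphisms: class
bounds for terms of the derived and lower central series.
-/

set_option autoImplicit false
set_option linter.style.haveILetI false
set_option linter.unusedSectionVars false

open scoped commutatorElement

namespace Cfsg.Agent.Solv.CoprimeFixedMain

open CoprimeFamily CoprimeFixedSeries

variable {p k : ℕ} [hp : Fact p.Prime]

/-- Coordinates on a vector space over the field with `p` elements. -/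
theorem exists_coordinates_add {V : Type*} [AddCommGroup V] [Finite V] [Module (ZMod p) V]
    (hcard : Nat.card V = p ^ k) : Nonempty (V ≃+ (Fin k → ZMod p)) := by
  haveI : Module.Finite (ZMod p) V := Module.Finite.of_finite
  have h1 := Nat.card_congr (Module.finBasis (ZMod p) V).equivFun.toEquiv
  rw [Nat.card_fun, Nat.card_zmod, Nat.card_fin, hcard] at h1
  have h2 : Module.finrank (ZMod p) V = k := (Nat.pow_right_injective hp.out.two_le h1).symm
  exact ⟨(Module.finBasisOfFinrankEq (ZMod p) V h2).equivFun.toAddEquiv⟩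

/-- Coordinates on an elementary abelian group, written commutatively. -/
theorem exists_coordinates_comm {A : Type*} [CommGroup A] [Finite A]
    (hexp : ∀ a : A, a ^ p = 1) (hcard : Nat.card A = p ^ k) :
    Nonempty (W p k ≃* A) := by
  have hpx : ∀ x : Additive A, p • x = 0 := fun x => by
    show Additive.ofMul (Additive.toMul x ^ p) = 0
    rw [hexp, ofMul_one]
  haveI : Finite (Additive A) := Finite.of_equiv A Additive.ofMul
  obtain ⟨E⟩ := @exists_coordinates_add p k hp (Additive A) _ _ (AddCommGroup.zmodModule hpx)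
    ((Nat.card_congr (Additive.toMul : Additive A ≃ A)).trans hcard)
  exact ⟨{ toFun := fun w => Additive.toMul (E.symm (Multiplicative.toAdd w))
           invFun := fun a => Multiplicative.ofAdd (E (Additive.ofMul a))
           left_inv := fun w => by simp
           right_inv := fun a => by simp
           map_mul' := fun v w => by simp [map_add] }⟩

/-- Coordinates on an elementary abelian group. -/
theorem exists_coordinates {A : Type*} [Group A] [Finite A] (hcomm : ∀ a b : A, a * b = b * a)
    (hexp : ∀ a : A, a ^ p = 1) (hcard : Nat.card A = p ^ k) :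
    Nonempty (W p k ≃* A) :=
  @exists_coordinates_comm p k hp A { (inferInstance : Group A) with mul_comm := hcomm } _ hexp hcard

/-- The setting: the semidirect product. -/
theorem setting {G : Type*} [Group G] [Finite G] (hco : (Nat.card G).Coprime p) (A : Subgroup (MulAut G))
    (hA : Cfsg.IsElementaryAbelian p A) (hcard : Nat.card A = p ^ k) :
    ∃ e : W p k →* G ⋊[A.subtype] A, Function.Injective e ∧
      (SemidirectProduct.inl : G →* G ⋊[A.subtype] A).range.Normal ∧
      (Nat.card (SemidirectProduct.inl : G →* G ⋊[A.subtype] A).range).Coprime p ∧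
      ∀ w : W p k, w ≠ 1 → ∃ a ∈ A, a ≠ 1 ∧
        Ce e (SemidirectProduct.inl : G →* G ⋊[A.subtype] A).range w =
          ((a : MulAut G).toMonoidHom.eqLocus (MonoidHom.id G)).map SemidirectProduct.inl := by
  haveI : Finite (MulAut G) := Finite.of_injective (fun e => (e : G → G)) DFunLike.coe_injective
  obtain ⟨e0⟩ := exists_coordinates (A := A) (fun a b => hA.1.is_comm.comm a b)
    (fun a => Subtype.ext (by rw [Subgroup.coe_pow]; exact hA.2 a a.2)) hcard
  refine ⟨(SemidirectProduct.inr).comp e0.toMonoidHom, SemidirectProduct.inr_injective.comp e0.injective,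
    ?_, ?_, fun w hw => ⟨(e0 w : MulAut G), (e0 w).2, ?_, ?_⟩⟩
  · rw [SemidirectProduct.range_inl_eq_ker_rightHom]; infer_instance
  · rw [Nat.card_congr (MonoidHom.ofInjective (SemidirectProduct.inl_injective (φ := A.subtype))).symm.toEquiv]
    exact hco
  · intro h
    exact hw (e0.injective (by rw [map_one]; exact Subtype.ext h))
  · have key : ∀ g : G, (SemidirectProduct.inl g ∈ Subgroup.centralizer
        {(SemidirectProduct.inr (e0 w) : G ⋊[A.subtype] A)}) ↔ (e0 w : MulAut G) g = g := by
      intro g
      rw [Subgroup.mem_centralizer_singleton_iff]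
      have h1 := SemidirectProduct.inl_aut (φ := A.subtype) (e0 w) g
      rw [map_inv, eq_mul_inv_iff_mul_eq] at h1
      constructor
      · intro h2
        exact SemidirectProduct.inl_injective (φ := A.subtype) (mul_right_cancel (h1.trans h2.symm))
      · intro h2
        rw [show (A.subtype (e0 w)) g = g from h2] at h1
        exact h1
    refine le_antisymm ?_ ?_
    · rintro _ ⟨⟨g, rfl⟩, hg⟩
      exact ⟨g, (key g).1 hg, rfl⟩
    · rintro _ ⟨g, hg, rfl⟩
      exact ⟨⟨g, rfl⟩, (key g).2 hg⟩

theorem derived (p k c d : ℕ) (hp : p.Prime) (hk : 3 ≤ k) (hd : 2 ^ d + 2 ≤ k) :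
    ∃ B : ℕ, ∀ (G : Type) [Group G] [Finite G], (Nat.card G).Coprime p →
      ∀ A : Subgroup (MulAut G), Cfsg.IsElementaryAbelian p A → Nat.card ↥A = p ^ k →
        (∀ a ∈ A, a ≠ 1 → (derivedSeries ↥((a : MulAut G).toMonoidHom.eqLocus (MonoidHom.id G)) d).lowerCentralSeries c = ⊥) →
        (derivedSeries G d).lowerCentralSeries B = ⊥ := by
  haveI := Fact.mk hp
  refine ⟨famBound p k c, fun G _ _ hco A hA hcard hC => ?_⟩
  haveI : Finite (MulAut G) := Finite.of_injective (fun e => (e : G → G)) DFunLike.coe_injective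
  haveI : Finite (G ⋊[A.subtype] A) := Finite.of_equiv _ SemidirectProduct.equivProd.symm
  obtain ⟨e, hinj, hKn, hKco, hCe⟩ := setting hco A hA hcard
  have hc : ∀ w : W p k, w ≠ 1 →
      (Dr d (Ce e (SemidirectProduct.inl : G →* G ⋊[A.subtype] A).range w)).lowerCentralSeries c = ⊥ := by
    intro w hw
    obtain ⟨a, ha, ha1, hCw⟩ := hCe w hw
    rw [hCw]
    obtain ⟨F, hF⟩ : ∃ F, F = (a : MulAut G).toMonoidHom.eqLocus (MonoidHom.id G) := ⟨_, rfl⟩
    have h1 := hC a ha ha1
    rw [← hF] at h1 ⊢
    have h2 : F.map SemidirectProduct.inl =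
        ((SemidirectProduct.inl : G →* G ⋊[A.subtype] A).comp F.subtype).range := by
      rw [MonoidHom.range_comp, Subgroup.range_subtype]
    rw [h2, ← map_derivedSeries_eq_Dr, ← Subgroup.map_lowerCentralSeries, h1, Subgroup.map_bot]
  have hsol := solvable_of_centralizers e _ hKco hinj hk fun w hw => solvable_of_Dr (d := d) (by
    have : Group.IsNilpotent ↥(Dr d (Ce e (SemidirectProduct.inl : G →* G ⋊[A.subtype] A).range w)) :=
      (Subgroup.isNilpotent_iff_lowerCentralSeries _).2 ⟨c, hc w hw⟩
    infer_instance)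
  have h := derived_class e _ hKco hsol hk hd hc
  rwa [← map_derivedSeries_eq_Dr, ← Subgroup.map_lowerCentralSeries,
    Subgroup.map_eq_bot_iff_of_injective _ SemidirectProduct.inl_injective] at h

theorem lower_central (p k c : ℕ) (hp : p.Prime) (hk : 3 ≤ k) :
    ∃ B : ℕ, ∀ (G : Type) [Group G] [Finite G], (Nat.card G).Coprime p →
      ∀ A : Subgroup (MulAut G), Cfsg.IsElementaryAbelian p A → Nat.card ↥A = p ^ k →
        (∀ a ∈ A, a ≠ 1 → ((⊤ : Subgroup ↥((a : MulAut G).toMonoidHom.eqLocus (MonoidHom.id G))).lowerCentralSeries (k - 3)).lowerCentralSeries c = ⊥) →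
        ((⊤ : Subgroup G).lowerCentralSeries (k - 3)).lowerCentralSeries B = ⊥ := by
  haveI := Fact.mk hp
  refine ⟨famBound p k c, fun G _ _ hco A hA hcard hC => ?_⟩
  haveI : Finite (MulAut G) := Finite.of_injective (fun e => (e : G → G)) DFunLike.coe_injective
  haveI : Finite (G ⋊[A.subtype] A) := Finite.of_equiv _ SemidirectProduct.equivProd.symm
  obtain ⟨e, hinj, hKn, hKco, hCe⟩ := setting hco A hA hcard
  have hc : ∀ w : W p k, w ≠ 1 →
      ((Ce e (SemidirectProduct.inl : G →* G ⋊[A.subtype] A).range w).lowerCentralSeries (k - 3)).lowerCentralSeries c = ⊥ := by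
    intro w hw
    obtain ⟨a, ha, ha1, hCw⟩ := hCe w hw
    rw [hCw]
    obtain ⟨F, hF⟩ : ∃ F, F = (a : MulAut G).toMonoidHom.eqLocus (MonoidHom.id G) := ⟨_, rfl⟩
    have h1 := hC a ha ha1
    rw [← hF] at h1 ⊢
    have h2 : F.map SemidirectProduct.inl =
        (⊤ : Subgroup F).map ((SemidirectProduct.inl : G →* G ⋊[A.subtype] A).comp F.subtype) := by
      rw [← MonoidHom.range_eq_map, MonoidHom.range_comp, Subgroup.range_subtype]
    rw [h2, ← Subgroup.map_lowerCentralSeries, ← Subgroup.map_lowerCentralSeries, h1, Subgroup.map_bot]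
  have hsol := solvable_of_centralizers e _ hKco hinj hk fun w hw => solvable_of_Dr (d := k - 3) (by
    have : Group.IsNilpotent
        ↥((Ce e (SemidirectProduct.inl : G →* G ⋊[A.subtype] A).range w).lowerCentralSeries (k - 3)) :=
      (Subgroup.isNilpotent_iff_lowerCentralSeries _).2 ⟨c, hc w hw⟩
    exact isSolvable_of_le (Dr_le_lcs _ _) inferInstance)
  have h := lcs_class e _ hKco hsol hk hc
  rwa [MonoidHom.range_eq_map, ← Subgroup.map_lowerCentralSeries, ← Subgroup.map_lowerCentralSeries,
    Subgroup.map_eq_bot_iff_of_injective _ SemidirectProduct.inl_injective] at h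

end Cfsg.Agent.Solv.CoprimeFixedMain
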