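import Cfsg.Agent.Lib.Solv.CoprimeFamily
import Cfsg.Agent.Lib.Solv.DerivedBound
import Cfsg.Agent.Lib.SSF.Main

/-!
Derived and lower central series of a group with a coprime elementary abelian group of operators,
in terms of the series of the centralizers of its nontrivial elements.
-/

set_option autoImplicit false
set_option linter.style.haveILetI false
set_option linter.unusedSectionVars false

open scoped commutatorElement Pointwise

namespace Cfsg.Agent.Solv.CoprimeFixedSeries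

open CoprimeFamily

universe u

variable {p k : ℕ} [hp : Fact p.Prime] {Γ : Type u} [Group Γ] [Finite Γ]

/-- The derived series of a subgroup, computed in the ambient group. -/
def Dr : ℕ → Subgroup Γ → Subgroup Γ
  | 0, X => X
  | i + 1, X => ⁅Dr i X, Dr i X⁆

theorem Dr_mono {X Y : Subgroup Γ} (h : X ≤ Y) : ∀ i, Dr i X ≤ Dr i Y
  | 0 => h
  | i + 1 => Subgroup.commutator_mono (Dr_mono h i) (Dr_mono h i)

theorem Dr_normal (X : Subgroup Γ) [X.Normal] : ∀ i, (Dr i X).Normal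
  | 0 => by unfold Dr; infer_instance
  | i + 1 => by haveI := Dr_normal X i; unfold Dr; infer_instance

theorem map_derivedSeries_eq_Dr {H : Type*} [Group H] (f : H →* Γ) :
    ∀ i, (derivedSeries H i).map f = Dr i f.range
  | 0 => by rw [derivedSeries_zero, ← MonoidHom.range_eq_map]; rfl
  | i + 1 => by rw [derivedSeries_succ, Subgroup.map_commutator, map_derivedSeries_eq_Dr f i]; rfl

theorem normalizer_commutator {X Y : Subgroup Γ} {g : Γ} (hX : g ∈ Subgroup.normalizer (X : Set Γ))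
    (hY : g ∈ Subgroup.normalizer (Y : Set Γ)) :
    g ∈ Subgroup.normalizer ((⁅X, Y⁆ : Subgroup Γ) : Set Γ) := by
  refine mem_normalizer_of_conj_smul ?_
  rw [conj_smul_eq_map, Subgroup.map_commutator, ← conj_smul_eq_map, ← conj_smul_eq_map,
    conj_smul_of_mem_normalizer hX, conj_smul_of_mem_normalizer hY]

theorem normalizer_Dr (X : Subgroup Γ) : ∀ i, X ≤ Subgroup.normalizer (Dr i X : Set Γ)
  | 0 => Subgroup.le_normalizer
  | i + 1 => fun g hg => normalizer_commutator (normalizer_Dr X i hg) (normalizer_Dr X i hg)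

theorem normalizer_lcs (X : Subgroup Γ) : ∀ i, X ≤ Subgroup.normalizer ((X.lowerCentralSeries i : Subgroup Γ) : Set Γ)
  | 0 => Subgroup.le_normalizer
  | i + 1 => fun g hg => by
    rw [Subgroup.lowerCentralSeries_succ]
    exact normalizer_commutator (normalizer_lcs X i hg) (Subgroup.le_normalizer hg)

theorem Dr_le (X : Subgroup Γ) : ∀ i, Dr i X ≤ X
  | 0 => le_rfl
  | i + 1 => (Subgroup.commutator_mono (Dr_le X i) (Dr_le X i)).trans
      (Subgroup.commutator_le.2 fun a ha b hb => by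
        rw [commutatorElement_def]
        exact mul_mem (mul_mem (mul_mem ha hb) (inv_mem ha)) (inv_mem hb))

variable (e : W p k →* Γ) (K : Subgroup Γ)

/-- The fixed subgroups of subgroups with cyclic quotient. -/
def base : Set (Subgroup Γ) :=
  {R | ∃ B ∈ CycQuot e.range, R = K ⊓ Subgroup.centralizer (B : Set Γ)}

/-- One step of the construction. -/
def next (𝒥 ℒ : Set (Subgroup Γ)) : Set (Subgroup Γ) :=
  {R | ∃ J ∈ 𝒥, ∃ L ∈ ℒ, ∃ B ∈ CycQuot e.range, R = ⁅J, L⁆ ⊓ Subgroup.centralizer (B : Set Γ)}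

/-- The family for the derived series. -/
def famD : ℕ → Set (Subgroup Γ)
  | 0 => base e K
  | i + 1 => next e (famD i) (famD i)

/-- The family for the lower central series. -/
def famL : ℕ → Set (Subgroup Γ)
  | 0 => base e K
  | i + 1 => next e (famL i) (base e K)

theorem centralizer_inv {B : Subgroup Γ} (hB : B ≤ e.range) :
    e.range ≤ Subgroup.normalizer ((Subgroup.centralizer (B : Set Γ) : Subgroup Γ) : Set Γ) := by
  intro a ha
  refine mem_normalizer_of_conj_smul (Subgroup.conj_smul_eq_self_of_mem ?_)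
  refine Subgroup.mem_centralizer_iff.2 fun b hb => ?_
  exact congrArg Subtype.val ((range_comm e).is_comm.comm ⟨b, hB hb⟩ ⟨a, ha⟩)

theorem inf_inv {X Y : Subgroup Γ} (hX : e.range ≤ Subgroup.normalizer (X : Set Γ))
    (hY : e.range ≤ Subgroup.normalizer (Y : Set Γ)) :
    e.range ≤ Subgroup.normalizer ((X ⊓ Y : Subgroup Γ) : Set Γ) := fun a ha => by
  refine mem_normalizer_of_conj_smul ?_
  rw [Subgroup.smul_inf, conj_smul_of_mem_normalizer (hX ha), conj_smul_of_mem_normalizer (hY ha)]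

variable [hK : K.Normal]

theorem base_inv {R : Subgroup Γ} (hR : R ∈ base e K) : e.range ≤ Subgroup.normalizer (R : Set Γ) ∧ R ≤ K := by
  obtain ⟨B, hB, rfl⟩ := hR
  exact ⟨inf_inv e (by rw [Subgroup.normalizer_eq_top]; exact le_top) (centralizer_inv e hB.1), inf_le_left⟩

theorem next_inv {𝒥 ℒ : Set (Subgroup Γ)}
    (hJ : ∀ R ∈ 𝒥, e.range ≤ Subgroup.normalizer (R : Set Γ) ∧ R ≤ K)
    (hL : ∀ R ∈ ℒ, e.range ≤ Subgroup.normalizer (R : Set Γ) ∧ R ≤ K) :
    ∀ R ∈ next e 𝒥 ℒ, e.range ≤ Subgroup.normalizer (R : Set Γ) ∧ R ≤ K := by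
  rintro _ ⟨J, hJJ, L, hLL, B, hB, rfl⟩
  exact ⟨inf_inv e (fun a ha => normalizer_commutator ((hJ J hJJ).1 ha) ((hL L hLL).1 ha))
      (centralizer_inv e hB.1),
    inf_le_left.trans ((Subgroup.commutator_mono (hJ J hJJ).2 (hL L hLL).2).trans
      (Subgroup.commutator_le_left K K))⟩

theorem famD_inv : ∀ i, ∀ R ∈ famD e K i, e.range ≤ Subgroup.normalizer (R : Set Γ) ∧ R ≤ K
  | 0 => fun _ hR => base_inv e K hR
  | i + 1 => next_inv e K (famD_inv i) (famD_inv i)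

theorem famL_inv : ∀ i, ∀ R ∈ famL e K i, e.range ≤ Subgroup.normalizer (R : Set Γ) ∧ R ≤ K
  | 0 => fun _ hR => base_inv e K hR
  | i + 1 => next_inv e K (famL_inv i) fun _ hR => base_inv e K hR

theorem famL_le_base : ∀ i, ∀ R ∈ famL e K i, ∃ R' ∈ base e K, R ≤ R'
  | 0 => fun R hR => ⟨R, hR, le_rfl⟩
  | i + 1 => by
    rintro _ ⟨J, hJ, L, hL, B, hB, rfl⟩
    exact ⟨_, ⟨B, hB, rfl⟩, inf_le_inf_right _ ((Subgroup.commutator_mono (famL_inv e K i J hJ).2
      (base_inv e K hL).2).trans (Subgroup.commutator_le_left K K))⟩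

theorem famD_succ_le : ∀ i, ∀ R ∈ famD e K (i + 1), ∃ R' ∈ famD e K i, R ≤ R'
  | 0 => by
    rintro _ ⟨J, hJ, L, hL, B, hB, rfl⟩
    exact ⟨_, ⟨B, hB, rfl⟩, inf_le_inf_right _ ((Subgroup.commutator_mono (base_inv e K hJ).2
      (base_inv e K hL).2).trans (Subgroup.commutator_le_left K K))⟩
  | i + 1 => by
    rintro _ ⟨J, hJ, L, hL, B, hB, rfl⟩
    obtain ⟨J', hJ', hJJ⟩ := famD_succ_le i J hJ
    obtain ⟨L', hL', hLL⟩ := famD_succ_le i L hL
    exact ⟨_, ⟨J', hJ', L', hL', B, hB, rfl⟩, inf_le_inf_right _ (Subgroup.commutator_mono hJJ hLL)⟩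

theorem famL_succ_le : ∀ i, ∀ R ∈ famL e K (i + 1), ∃ R' ∈ famL e K i, R ≤ R'
  | 0 => by
    rintro _ ⟨J, hJ, L, hL, B, hB, rfl⟩
    exact ⟨_, ⟨B, hB, rfl⟩, inf_le_inf_right _ ((Subgroup.commutator_mono (base_inv e K hJ).2
      (base_inv e K hL).2).trans (Subgroup.commutator_le_left K K))⟩
  | i + 1 => by
    rintro _ ⟨J, hJ, L, hL, B, hB, rfl⟩
    obtain ⟨J', hJ', hJJ⟩ := famL_succ_le i J hJ
    exact ⟨_, ⟨J', hJ', L, hL, B, hB, rfl⟩, inf_le_inf_right _ (Subgroup.commutator_mono hJJ le_rfl)⟩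

/-- The join of one step is the commutator of the joins. -/
theorem iSup_next (hco : (Nat.card K).Coprime p) {𝒥 ℒ : Set (Subgroup Γ)}
    (hJ : ∀ R ∈ 𝒥, e.range ≤ Subgroup.normalizer (R : Set Γ) ∧ R ≤ K)
    (hL : ∀ R ∈ ℒ, e.range ≤ Subgroup.normalizer (R : Set Γ) ∧ R ≤ K)
    (hdJ : ∀ R ∈ next e 𝒥 ℒ, ∃ R' ∈ 𝒥, R ≤ R')
    (hdL : ∀ R ∈ next e 𝒥 ℒ, ∃ R' ∈ ℒ, R ≤ R') :
    (⨆ R ∈ next e 𝒥 ℒ, R) = ⁅⨆ J ∈ 𝒥, J, ⨆ L ∈ ℒ, L⁆ := by
  refine le_antisymm (iSup₂_le ?_) ?_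
  · rintro _ ⟨J, hJJ, L, hLL, B, hB, rfl⟩
    exact inf_le_left.trans (Subgroup.commutator_mono (le_iSup₂ (f := fun J (_ : J ∈ 𝒥) => J) J hJJ)
      (le_iSup₂ (f := fun L (_ : L ∈ ℒ) => L) L hLL))
  obtain ⟨S, hS⟩ : ∃ S, S = ⨆ R ∈ next e 𝒥 ℒ, R := ⟨_, rfl⟩
  rw [← hS]
  have hcomm : ∀ J ∈ 𝒥, ∀ L ∈ ℒ, ⁅J, L⁆ ≤ S := by
    intro J hJJ L hLL
    have hinv : e.range ≤ Subgroup.normalizer ((⁅J, L⁆ : Subgroup Γ) : Set Γ) :=
      fun a ha => normalizer_commutator ((hJ J hJJ).1 ha) ((hL L hLL).1 ha)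
    have hle : ⁅J, L⁆ ≤ K :=
      (Subgroup.commutator_mono (hJ J hJJ).2 (hL L hLL).2).trans (Subgroup.commutator_le_left K K)
    rw [← gen_eq e.range ⁅J, L⁆ (range_comm e) hinv (coprime_of_pgroup (isPGroup_range e)
      (hco.coprime_dvd_left (Subgroup.card_dvd_of_le hle)))]
    refine iSup₂_le fun B hB => ?_
    rw [hS]
    exact le_iSup₂ (f := fun R (_ : R ∈ next e 𝒥 ℒ) => R) _ ⟨J, hJJ, L, hLL, B, hB, rfl⟩
  have hnorm : ∀ Q, (∀ R ∈ next e 𝒥 ℒ, ⁅Q, R⁆ ≤ S) → Q ≤ Subgroup.normalizer (S : Set Γ) := by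
    intro Q hQ
    have key : ∀ q ∈ Q, MulAut.conj q • S ≤ S := by
      intro q hq
      rw [conj_smul_eq_map]
      conv_lhs => rw [hS]
      rw [Subgroup.map_iSup]
      refine iSup_le fun R => ?_
      rw [Subgroup.map_iSup]
      refine iSup_le fun hR => ?_
      rintro _ ⟨r, hr, rfl⟩
      have h1 : ⁅q, r⁆ ∈ S := hQ R hR (Subgroup.commutator_mem_commutator hq hr)
      have h2 : r ∈ S := hS ▸ Subgroup.mem_iSup_of_mem R (Subgroup.mem_iSup_of_mem hR hr)
      have h3 := mul_mem h1 h2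
      rwa [commutatorElement_def, inv_mul_cancel_right] at h3
    intro q hq
    refine mem_normalizer_of_conj_smul (le_antisymm (key q hq) (Subgroup.subset_pointwise_smul_iff.2 ?_))
    rw [← map_inv]
    exact key _ (inv_mem hq)
  have hJn : (⨆ J ∈ 𝒥, J) ≤ Subgroup.normalizer (S : Set Γ) := iSup₂_le fun J hJJ => hnorm J fun R hR => by
    obtain ⟨R', hR', hle⟩ := hdL R hR
    exact (Subgroup.commutator_mono le_rfl hle).trans (hcomm J hJJ R' hR')
  have hLn : (⨆ L ∈ ℒ, L) ≤ Subgroup.normalizer (S : Set Γ) := iSup₂_le fun L hLL => hnorm L fun R hR => by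
    obtain ⟨R', hR', hle⟩ := hdJ R hR
    rw [Subgroup.commutator_comm]
    exact (Subgroup.commutator_mono hle le_rfl).trans (hcomm R' hR' L hLL)
  refine Subgroup.commutator_le.2 fun x hx y hy => ?_
  have h1 : ∀ J ∈ 𝒥, ∀ x ∈ J, ⁅x, y⁆ ∈ S := by
    intro J hJJ x hxJ
    have hxN : x ∈ Subgroup.normalizer (S : Set Γ) :=
      hJn (Subgroup.mem_iSup_of_mem J (Subgroup.mem_iSup_of_mem hJJ hxJ))
    obtain ⟨C, hC⟩ : ∃ C : Subgroup Γ, ∀ y, y ∈ C ↔ y ∈ Subgroup.normalizer (S : Set Γ) ∧ ⁅x, y⁆ ∈ S :=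
      ⟨{ carrier := {y | y ∈ Subgroup.normalizer (S : Set Γ) ∧ ⁅x, y⁆ ∈ S}
         one_mem' := ⟨one_mem _, by simp⟩
         mul_mem' := fun {a b} ha hb => ⟨mul_mem ha.1 hb.1, by
           rw [show ⁅x, a * b⁆ = ⁅x, a⁆ * (a * ⁅x, b⁆ * a⁻¹) by simp only [commutatorElement_def]; group]
           exact mul_mem ha.2 ((Subgroup.mem_normalizer_iff.1 ha.1 _).1 hb.2)⟩
         inv_mem' := fun {a} ha => ⟨inv_mem ha.1, by
           rw [show ⁅x, a⁻¹⁆ = a⁻¹ * ⁅x, a⁆⁻¹ * a⁻¹⁻¹ by simp only [commutatorElement_def]; group]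
           exact (Subgroup.mem_normalizer_iff.1 (inv_mem ha.1) _).1 (inv_mem ha.2)⟩ }, fun y => Iff.rfl⟩
    have hle : (⨆ L ∈ ℒ, L) ≤ C := iSup₂_le fun L hLL z hz => (hC z).2
      ⟨hLn (Subgroup.mem_iSup_of_mem L (Subgroup.mem_iSup_of_mem hLL hz)),
        hcomm J hJJ L hLL (Subgroup.commutator_mem_commutator hxJ hz)⟩
    exact ((hC y).1 (hle hy)).2
  obtain ⟨C, hC⟩ : ∃ C : Subgroup Γ, ∀ x, x ∈ C ↔ x ∈ Subgroup.normalizer (S : Set Γ) ∧ ⁅x, y⁆ ∈ S :=
    ⟨{ carrier := {x | x ∈ Subgroup.normalizer (S : Set Γ) ∧ ⁅x, y⁆ ∈ S}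
       one_mem' := ⟨one_mem _, by simp⟩
       mul_mem' := fun {a b} ha hb => ⟨mul_mem ha.1 hb.1, by
         rw [show ⁅a * b, y⁆ = (a * ⁅b, y⁆ * a⁻¹) * ⁅a, y⁆ by simp only [commutatorElement_def]; group]
         exact mul_mem ((Subgroup.mem_normalizer_iff.1 ha.1 _).1 hb.2) ha.2⟩
       inv_mem' := fun {a} ha => ⟨inv_mem ha.1, by
         rw [show ⁅a⁻¹, y⁆ = a⁻¹ * ⁅a, y⁆⁻¹ * a⁻¹⁻¹ by simp only [commutatorElement_def]; group]
         exact (Subgroup.mem_normalizer_iff.1 (inv_mem ha.1) _).1 (inv_mem ha.2)⟩ }, fun x => Iff.rfl⟩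
  have hle : (⨆ J ∈ 𝒥, J) ≤ C := iSup₂_le fun J hJJ z hz => (hC z).2
    ⟨hJn (Subgroup.mem_iSup_of_mem J (Subgroup.mem_iSup_of_mem hJJ hz)), h1 J hJJ z hz⟩
  exact ((hC x).1 (hle hx)).2

variable (hco : (Nat.card K).Coprime p)

include hco in
theorem iSup_base : (⨆ R ∈ base e K, R) = K := by
  refine le_antisymm (iSup₂_le fun R hR => (base_inv e K hR).2) ?_
  conv_lhs => rw [← gen_eq e.range K (range_comm e) (by rw [Subgroup.normalizer_eq_top]; exact le_top)
    (coprime_of_pgroup (isPGroup_range e) hco)]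
  exact iSup₂_le fun B hB => le_iSup₂ (f := fun R (_ : R ∈ base e K) => R) _ ⟨B, hB, rfl⟩

include hco in
theorem iSup_famD : ∀ i, (⨆ R ∈ famD e K i, R) = Dr i K
  | 0 => iSup_base e K hco
  | i + 1 => by
    show (⨆ R ∈ next e (famD e K i) (famD e K i), R) = _
    rw [iSup_next e K hco (famD_inv e K i) (famD_inv e K i) (famD_succ_le e K i) (famD_succ_le e K i),
      iSup_famD i]
    rfl

include hco in
theorem iSup_famL : ∀ i, (⨆ R ∈ famL e K i, R) = K.lowerCentralSeries i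
  | 0 => by rw [Subgroup.lowerCentralSeries_zero]; exact iSup_base e K hco
  | i + 1 => by
    show (⨆ R ∈ next e (famL e K i) (base e K), R) = _
    rw [iSup_next e K hco (famL_inv e K i) (fun _ hR => base_inv e K hR) (famL_succ_le e K i)
      (famL_le_base e K (i + 1)), iSup_famL i, iSup_base e K hco, Subgroup.lowerCentralSeries_succ]

/-- The centralizer in `K` of one element. -/
abbrev Ce (a : W p k) : Subgroup Γ := K ⊓ Subgroup.centralizer {e a}

theorem base_cert : ∀ R ∈ base e K, ∃ S : Subgroup (W p k), p ^ (k - 1) ≤ Nat.card S ∧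
    ∀ a ∈ S, R ≤ Ce e K a := by
  rintro _ ⟨B, hB, rfl⟩
  refine ⟨B.comap e, card_comap_cycQuot e hB, fun a ha => inf_le_inf_left _ ?_⟩
  exact Subgroup.centralizer_le (Set.singleton_subset_iff.2 ha)

theorem famD_cert : ∀ i, ∀ R ∈ famD e K i, ∃ S : Subgroup (W p k), p ^ (k - 2 ^ i) ≤ Nat.card S ∧
    ∀ a ∈ S, R ≤ Dr i (Ce e K a)
  | 0 => fun R hR => base_cert e K R hR
  | i + 1 => by
    rintro _ ⟨J, hJ, L, hL, B, hB, rfl⟩
    obtain ⟨S, hS, hJS⟩ := famD_cert i J hJ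
    obtain ⟨T, hT, hLT⟩ := famD_cert i L hL
    refine ⟨S ⊓ T, le_trans (Nat.pow_le_pow_right hp.out.pos ?_) (card_inf_ge S T hS hT),
      fun a ha => inf_le_left.trans (Subgroup.commutator_mono (hJS a ha.1) (hLT a ha.2))⟩
    rw [pow_succ]; omega

theorem famL_cert : ∀ i, ∀ R ∈ famL e K i, ∃ S : Subgroup (W p k), p ^ (k - 1 - i) ≤ Nat.card S ∧
    ∀ a ∈ S, R ≤ (Ce e K a).lowerCentralSeries i
  | 0 => fun R hR => by
    obtain ⟨S, hS, hRS⟩ := base_cert e K R hR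
    exact ⟨S, hS, fun a ha => by rw [Subgroup.lowerCentralSeries_zero]; exact hRS a ha⟩
  | i + 1 => by
    rintro _ ⟨J, hJ, L, hL, B, hB, rfl⟩
    obtain ⟨S, hS, hJS⟩ := famL_cert i J hJ
    obtain ⟨T, hT, hLT⟩ := base_cert e K L hL
    refine ⟨S ⊓ T, le_trans (Nat.pow_le_pow_right hp.out.pos ?_) (card_inf_ge S T hS hT),
      fun a ha => ?_⟩
    · omega
    · rw [Subgroup.lowerCentralSeries_succ]
      exact inf_le_left.trans (Subgroup.commutator_mono (hJS a ha.1) (hLT a ha.2))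

include hco in
theorem derived_class (hsol : Group.IsSolvable K) {c d : ℕ} (hk : 3 ≤ k) (hd : 2 ^ d + 2 ≤ k)
    (hc : ∀ a : W p k, a ≠ 1 → (Dr d (Ce e K a)).lowerCentralSeries c = ⊥) :
    (Dr d K).lowerCentralSeries (famBound p k c) = ⊥ := by
  rw [← iSup_famD e K hco d]
  have hctx : CoprimeFamily.Ctx e K (fun a => Dr d (Ce e K a)) c (famD e K d) := by
    refine ⟨hK, hsol, hco, hk, fun a _ => Dr_le _ d, fun a _ => normalizer_Dr _ d, hc, fun R hR => ?_⟩
    obtain ⟨S, hS, hRS⟩ := famD_cert e K d R hR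
    exact ⟨S, le_trans (Nat.pow_le_pow_right hp.out.pos (by omega)) hS, fun a ha _ => hRS a ha⟩
  refine class_bound hctx (fun R hR => (famD_inv e K d R hR).1) ?_ ?_
  · rw [iSup_famD e K hco d]; exact Dr_normal K d
  · intro R hR P hP B hB
    exact famD_succ_le e K d _ ⟨R, hR, P, hP, B, hB, rfl⟩

include hco in
theorem lcs_class (hsol : Group.IsSolvable K) {c : ℕ} (hk : 3 ≤ k)
    (hc : ∀ a : W p k, a ≠ 1 → ((Ce e K a).lowerCentralSeries (k - 3)).lowerCentralSeries c = ⊥) :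
    (K.lowerCentralSeries (k - 3)).lowerCentralSeries (famBound p k c) = ⊥ := by
  rw [← iSup_famL e K hco (k - 3)]
  have hctx : CoprimeFamily.Ctx e K (fun a => (Ce e K a).lowerCentralSeries (k - 3)) c (famL e K (k - 3)) := by
    refine ⟨hK, hsol, hco, hk, fun a _ => (Ce e K a).lowerCentralSeries_antitone (Nat.zero_le _),
      fun a _ => normalizer_lcs _ _, hc, fun R hR => ?_⟩
    obtain ⟨S, hS, hRS⟩ := famL_cert e K (k - 3) R hR
    exact ⟨S, le_trans (Nat.pow_le_pow_right hp.out.pos (by omega)) hS, fun a ha _ => hRS a ha⟩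
  refine class_bound hctx (fun R hR => (famL_inv e K _ R hR).1) ?_ ?_
  · rw [iSup_famL e K hco (k - 3)]; infer_instance
  · intro R hR P hP B hB
    obtain ⟨P', hP', hPP⟩ := famL_le_base e K (k - 3) P hP
    obtain ⟨R', hR', hle⟩ := famL_succ_le e K (k - 3) _ ⟨R, hR, P', hP', B, hB, rfl⟩
    exact ⟨R', hR', le_trans (inf_le_inf_right _ (Subgroup.commutator_mono le_rfl hPP)) hle⟩

include hco in
/-- A group is soluble when the centralizers of the nontrivial operators are. -/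
theorem solvable_of_centralizers (hinj : Function.Injective e) (hk : 3 ≤ k)
    (hs : ∀ a : W p k, a ≠ 1 → Group.IsSolvable ↥(Ce e K a)) : Group.IsSolvable K := by
  have hA : Cfsg.IsElementaryAbelian p e.range := ⟨range_comm e, by
    rintro _ ⟨a, rfl⟩
    rw [← map_pow, pow_p_eq_one, map_one]⟩
  have hcard : p ^ 3 ≤ Nat.card e.range := by
    rw [Nat.card_congr (MonoidHom.ofInjective hinj).symm.toEquiv, card_W]
    exact Nat.pow_le_pow_right hp.out.pos hk
  have hθ : Cfsg.IsSolvableSignalizerFunctor p e.range (fun g => K ⊓ Subgroup.centralizer {g}) := by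
    refine ⟨⟨fun a _ _ => inf_le_right, fun a _ _ hd => ?_, fun a ha _ b hb x hx => ?_,
      fun a _ _ b _ _ => inf_le_inf_right _ inf_le_left⟩, ?_⟩
    · exact (Nat.Prime.coprime_iff_not_dvd hp.out).1
        (hco.coprime_dvd_left (Subgroup.card_dvd_of_le inf_le_left)).symm hd
    · refine ⟨hK.conj_mem x hx.1 b, Subgroup.mem_centralizer_singleton_iff.2 ?_⟩
      have c1 : Commute x a := Subgroup.mem_centralizer_singleton_iff.1 hx.2
      have c2 : Commute b a := congrArg Subtype.val ((range_comm e).is_comm.comm ⟨b, hb⟩ ⟨a, ha⟩)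
      exact ((c2.mul_left c1).mul_left c2.inv_left).eq
    · rintro _ ⟨a, rfl⟩ ha
      exact hs a fun h => ha (by rw [h, map_one])
  have h1 := (Cfsg.Agent.SSF.complete hA hcard hθ).1
  have heq : (⨆ a : {a : Γ // a ∈ e.range ∧ a ≠ 1}, K ⊓ Subgroup.centralizer {(a : Γ)}) = K := by
    refine le_antisymm (iSup_le fun a => inf_le_left) ?_
    conv_lhs => rw [← gen_eq e.range K (range_comm e) (by rw [Subgroup.normalizer_eq_top]; exact le_top)
      (coprime_of_pgroup (isPGroup_range e) hco)]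
    refine iSup₂_le fun B hB => ?_
    obtain ⟨a, ha, ha1⟩ := exists_ne_one (by omega : 1 ≤ k - 1) (card_comap_cycQuot e hB)
    refine le_iSup_of_le ⟨e a, ⟨a, rfl⟩, fun h => ha1 (hinj (h.trans (map_one e).symm))⟩ ?_
    exact inf_le_inf_left _ (Subgroup.centralizer_le (Set.singleton_subset_iff.2 ha))
  have h2 := h1.1
  rwa [heq] at h2

/-- A group with a soluble term in the derived series is soluble. -/
theorem solvable_of_Dr {X : Subgroup Γ} {d : ℕ} (h : Group.IsSolvable ↥(Dr d X)) : Group.IsSolvable X := by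
  obtain ⟨n, hn⟩ := h
  refine ⟨⟨d + n, ?_⟩⟩
  rw [← Subgroup.map_eq_bot_iff_of_injective _ X.subtype_injective, map_derivedSeries_eq_Dr,
    Subgroup.range_subtype]
  have hadd : ∀ m, Dr (d + m) X = Dr m (Dr d X) := by
    intro m
    induction m with
    | zero => rfl
    | succ m ih => show ⁅Dr (d + m) X, Dr (d + m) X⁆ = _; rw [ih]; rfl
  have h1 := map_derivedSeries_eq_Dr (Dr d X).subtype n
  rw [hn, Subgroup.map_bot, Subgroup.range_subtype] at h1
  rw [hadd, ← h1]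

theorem Dr_le_lcs (X : Subgroup Γ) : ∀ i, Dr i X ≤ X.lowerCentralSeries i
  | 0 => le_rfl
  | i + 1 => by
    rw [Subgroup.lowerCentralSeries_succ]
    exact Subgroup.commutator_mono (Dr_le_lcs X i) (Dr_le X i)

end Cfsg.Agent.Solv.CoprimeFixedSeries
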