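import Cfsg.Agent.Lib.Solv.Component
import Cfsg.Agent.Lib.Solv.Coprime
import Cfsg.Agent.Lib.Local.CentralizerTrick
import Cfsg.Agent.Lib.Char.TISimpleSocle

/-!
# Cores of centralizers of fixed elements under an operator group with solvable commutator
-/

set_option autoImplicit false
set_option linter.style.haveILetI false

open scoped commutatorElement

namespace Cfsg.Agent.Solv.CoreControl

universe u

variable {G : Type u} [Group G] [Finite G]

theorem map_normalized {H : Subgroup G} (N : Subgroup ↥H) [N.Normal] :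
    H ≤ Subgroup.normalizer ((N.map H.subtype : Subgroup G) : Set G) := by
  intro h hh
  refine Subgroup.mem_normalizer_fintype ?_
  rintro _ ⟨n, hn, rfl⟩
  exact ⟨⟨h, hh⟩ * n * ⟨h, hh⟩⁻¹, Subgroup.Normal.conj_mem inferInstance n hn _, rfl⟩

theorem eq_one_of_coprime {A F : Subgroup G} (hc : (Nat.card A).Coprime (Nat.card F)) {x : G}
    (hx : x ∈ A) (hx' : x ∈ F) : x = 1 :=
  orderOf_eq_one_iff.1 (Nat.eq_one_of_dvd_coprimes hc (A.orderOf_dvd_natCard hx) (F.orderOf_dvd_natCard hx'))

theorem core_bot (H P : Subgroup G) [H.Normal] (hsol : Group.IsSolvable ↥⁅H, P⁆) {q : ℕ} [Fact q.Prime]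
    (hH : ∀ N : Subgroup G, N ≤ H → H ≤ Subgroup.normalizer (N : Set G) → (Nat.card N).Coprime q → N = ⊥)
    {z : G} (hzH : z ∈ H) (hz : ∃ k, orderOf z = q ^ k)
    (A B : Subgroup G) (hA : A ≤ H ⊓ Subgroup.centralizer ({z} : Set G))
    (hAn : H ⊓ Subgroup.centralizer ({z} : Set G) ≤ Subgroup.normalizer (A : Set G))
    (hAP : P ≤ Subgroup.normalizer (A : Set G)) (hAc : (Nat.card A).Coprime q)
    (hB : B ≤ H ⊓ Subgroup.centralizer (P : Set G))
    (hBn : H ⊓ Subgroup.centralizer (P : Set G) ≤ Subgroup.normalizer (B : Set G))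
    (hBc : (Nat.card B).Coprime q) :
    ⁅A, P⁆ = ⊥ ∧ A ⊓ B = ⊥ := by
  haveI hQn : (Cfsg.pCore q ↥H).Normal := Solv.pCore_normal q
  haveI hLn : (Cfsg.layer ↥H).Normal := Local.layer_normal
  set F := (Cfsg.pCore q ↥H).map H.subtype with hF
  set E := (Cfsg.layer ↥H).map H.subtype with hE
  have hFH : F ≤ H := Subgroup.map_subtype_le _
  have hEH : E ≤ H := Subgroup.map_subtype_le _
  have hFn : H ≤ Subgroup.normalizer (F : Set G) := map_normalized _
  have hEn : H ≤ Subgroup.normalizer (E : Set G) := map_normalized _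
  have hFp : IsPGroup q F := (Solv.pCore_isPGroup q).map _
  obtain ⟨kF, hkF⟩ := hFp.exists_card_eq
  -- the Fitting subgroup is a `q`-group
  have hfit : Cfsg.fittingSubgroup ↥H ≤ Cfsg.pCore q ↥H := by
    rw [Solv.fitting_eq_iSup_pCore]
    refine iSup_le fun r => ?_
    haveI := Fact.mk r.2
    by_cases hr : (r : ℕ) = q
    · rw [hr]
    have hb : (Cfsg.pCore (r : ℕ) ↥H).map H.subtype = ⊥ := by
      haveI := Solv.pCore_normal (G := ↥H) (r : ℕ)
      refine hH _ (Subgroup.map_subtype_le _) (map_normalized _) ?_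
      obtain ⟨k, hk⟩ := ((Solv.pCore_isPGroup (G := ↥H) (r : ℕ)).map H.subtype).exists_card_eq
      rw [hk]
      exact Nat.Coprime.pow_left k ((Nat.coprime_primes r.2 (Fact.out : q.Prime)).2 hr)
    rw [(Subgroup.map_eq_bot_iff_of_injective _ H.subtype_injective).1 hb]
    exact bot_le
  -- the first group centralizes the core
  have hAF : A ≤ Subgroup.centralizer (F : Set G) := by
    obtain ⟨kz, hkz⟩ := hz
    have hzn : Subgroup.zpowers z ≤ Subgroup.normalizer (F : Set G) := by
      rw [Subgroup.zpowers_le]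
      exact hFn hzH
    set F' := F ⊔ Subgroup.zpowers z with hF'
    have hsplit : ∀ x ∈ F', ∃ f ∈ F, ∃ y ∈ Subgroup.zpowers z, f * y = x := by
      intro x hx
      rw [hF', ← SetLike.mem_coe, Subgroup.coe_mul_of_right_le_normalizer_left _ _ hzn] at hx
      exact hx
    have hF'p : IsPGroup q F' :=
      hFp.to_sup_of_normal_left' (IsPGroup.of_card (n := kz) (by rw [Nat.card_zpowers, hkz])) hzn
    obtain ⟨k', hk'⟩ := hF'p.exists_card_eq
    refine le_trans (CentTrick.centralizes_of_self_centralizing (H := F') hF'p.isNilpotent ?_ ?_ ?_)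
      (Subgroup.centralizer_le (le_sup_left : F ≤ F'))
    · intro a ha
      refine Subgroup.mem_normalizer_fintype fun x hx => ?_
      obtain ⟨f, hf, y, hy, rfl⟩ := hsplit x hx
      obtain ⟨j, rfl⟩ := Subgroup.mem_zpowers_iff.1 hy
      have hc : a * z ^ j = z ^ j * a :=
        (Commute.zpow_right (Subgroup.mem_centralizer_singleton_iff.1 (hA ha).2) j).eq
      rw [show a * (f * z ^ j) * a⁻¹ = (a * f * a⁻¹) * (a * z ^ j * a⁻¹) by group, hc, mul_inv_cancel_right]
      exact mul_mem (Subgroup.mem_sup_left ((Subgroup.mem_normalizer_iff.1 (hFn (hA ha).1) f).1 hf))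
        (Subgroup.mem_sup_right hy)
    · rw [hk']
      exact Nat.Coprime.pow_right k' hAc
    · rintro x ⟨hx, hxc⟩
      obtain ⟨f, hf, y, hy, rfl⟩ := hsplit x hx
      obtain ⟨j, rfl⟩ := Subgroup.mem_zpowers_iff.1 hy
      have hzA : z ∈ Subgroup.centralizer (A : Set G) := Subgroup.mem_centralizer_iff.2 fun a ha =>
        Subgroup.mem_centralizer_singleton_iff.1 (hA ha).2
      have hzC : z ∈ F' ⊓ Subgroup.centralizer (A : Set G) :=
        ⟨Subgroup.mem_sup_right (Subgroup.mem_zpowers z), hzA⟩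
      have h1 := Subgroup.mem_centralizer_iff.1 hxc z hzC
      have hfz : f * z = z * f := by
        calc f * z = (f * z ^ j) * z * (z ^ j)⁻¹ := by group
          _ = z * (f * z ^ j) * (z ^ j)⁻¹ := by rw [h1]
          _ = z * f := by group
      refine ⟨hx, mul_mem (Subgroup.mem_centralizer_iff.2 fun a ha => ?_) (zpow_mem hzA j)⟩
      have h2 : f * a * f⁻¹ * a⁻¹ ∈ A :=
        mul_mem ((Subgroup.mem_normalizer_iff.1
          (hAn ⟨hFH hf, Subgroup.mem_centralizer_singleton_iff.2 hfz⟩) a).1 ha) (inv_mem ha)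
      have h3 : f * a * f⁻¹ * a⁻¹ ∈ F := by
        rw [show f * a * f⁻¹ * a⁻¹ = f * (a * f⁻¹ * a⁻¹) by group]
        exact mul_mem hf ((Subgroup.mem_normalizer_iff.1 (hFn (hA ha).1) f⁻¹).1 (inv_mem hf))
      have h4 := eq_one_of_coprime (show (Nat.card A).Coprime (Nat.card F) by
        rw [hkF]; exact Nat.Coprime.pow_right kF hAc) h2 h3
      calc a * f = 1 * (a * f) := (one_mul _).symm
        _ = f * a := by rw [← h4]; group
  -- what centralizes the layer in the first group is trivial
  have hkey : ∀ x ∈ A, x ∈ Subgroup.centralizer (E : Set G) → x = 1 := by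
    intro x hx hxE
    set x' : ↥H := ⟨x, (hA hx).1⟩
    haveI hgn : (Cfsg.generalizedFittingSubgroup ↥H).Normal := Local.gfit_normal
    have hxc : x' ∈ Subgroup.centralizer (Cfsg.generalizedFittingSubgroup ↥H : Set ↥H) := by
      refine Subgroup.mem_centralizer_iff.2 fun y hy => Subgroup.mem_centralizer_singleton_iff.1
        ((show Cfsg.generalizedFittingSubgroup ↥H ≤ Subgroup.centralizer ({x'} : Set ↥H) from sup_le ?_ ?_) hy)
      · exact fun l hl => Subgroup.mem_centralizer_singleton_iff.2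
          (Subtype.ext (Subgroup.mem_centralizer_iff.1 hxE (l : G) ⟨l, hl, rfl⟩))
      · exact fun l hl => Subgroup.mem_centralizer_singleton_iff.2
          (Subtype.ext (Subgroup.mem_centralizer_iff.1 (hAF hx) (l : G) ⟨l, hfit hl, rfl⟩))
    set Zc := Cfsg.generalizedFittingSubgroup ↥H ⊓
      Subgroup.centralizer (Cfsg.generalizedFittingSubgroup ↥H : Set ↥H) with hZc
    haveI : Zc.Normal := by
      haveI := Solv.centralizer_normal_of_normal (Cfsg.generalizedFittingSubgroup ↥H)
      infer_instance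
    haveI : IsMulCommutative Zc :=
      ⟨⟨fun a b => Subtype.ext (Subgroup.mem_centralizer_iff.1 b.2.2 a a.2.1)⟩⟩
    have h1 : Zc ≤ Cfsg.fittingSubgroup ↥H :=
      Solv.normal_le_fitting (@CommGroup.isNilpotent Zc
        { (inferInstance : Group Zc) with mul_comm := fun a b => IsMulCommutative.is_comm.comm a b })
    have h2 := hfit (h1 ⟨Solv.centralizer_gfit_le hxc, hxc⟩)
    exact eq_one_of_coprime (show (Nat.card A).Coprime (Nat.card F) by
      rw [hkF]; exact Nat.Coprime.pow_right kF hAc) hx ⟨x', h2, rfl⟩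
  -- the commutator with the layer
  have hPH : P ≤ Subgroup.normalizer (H : Set G) := by
    rw [Subgroup.normalizer_eq_top_iff.2 inferInstance]
    exact le_top
  obtain ⟨hKH, hKn, -⟩ := Solv.commutator_normal_in hPH
  have hKE : ⁅⁅H, P⁆, E⁆ = ⊥ := by
    have hn : ((⁅H, P⁆).subgroupOf H).Normal := (Subgroup.normal_subgroupOf_iff_le_normalizer hKH).2 hKn
    have hs : Group.IsSolvable ↥((⁅H, P⁆).subgroupOf H) :=
      Group.isSolvable_of_isSolvable_injective (f := (Subgroup.subgroupOfEquivOfLe hKH).toMonoidHom) (Subgroup.subgroupOfEquivOfLe hKH).injective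
    have h := Solv.layer_commutator_solvable hn.isSubnormal hs
    have h2 := congrArg (Subgroup.map H.subtype) h
    rw [Subgroup.map_commutator, Subgroup.map_bot, Subgroup.map_subgroupOf_eq_of_le hKH,
      Subgroup.commutator_comm] at h2
    exact h2
  have hEP : ⁅E, P⁆ = ⊥ := by
    have hperf : ⁅E, E⁆ = E := by rw [hE, ← Subgroup.map_commutator, Solv.layer_perfect]
    have h1 : ⁅⁅E, P⁆, E⁆ = ⊥ :=
      le_bot_iff.1 ((Subgroup.commutator_mono (Subgroup.commutator_mono hEH le_rfl) le_rfl).trans hKE.le)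
    have h2 : ⁅⁅P, E⁆, E⁆ = ⊥ := by rw [Subgroup.commutator_comm P E]; exact h1
    have h3 := Subgroup.commutator_commutator_eq_bot_of_rotate (H₁ := E) (H₂ := E) (H₃ := P) h1 h2
    rwa [hperf] at h3
  constructor
  · rw [Subgroup.eq_bot_iff_forall]
    intro x hx
    refine hkey x ((Solv.commutator_normal_in hAP).1 hx) (Subgroup.mem_centralizer_iff.2 fun e he => ?_)
    have hxK : x ∈ ⁅H, P⁆ := Subgroup.commutator_mono (hA.trans inf_le_left) le_rfl hx
    exact (Subgroup.mem_centralizer_iff.1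
      ((Subgroup.commutator_eq_bot_iff_le_centralizer.1 hKE) hxK) e he)
  · rw [Subgroup.eq_bot_iff_forall]
    rintro x ⟨hxA, hxB⟩
    refine hkey x hxA (Subgroup.mem_centralizer_iff.2 fun e he => ?_)
    have heP : e ∈ H ⊓ Subgroup.centralizer (P : Set G) :=
      ⟨hEH he, Subgroup.commutator_eq_bot_iff_le_centralizer.1 hEP he⟩
    -- the meeting of the second group with the layer
    have hM : ∀ m ∈ B, m ∈ E → m = 1 := by
      intro m hmB hmE
      obtain ⟨m', hm', rfl⟩ := hmE
      set L := Cfsg.layer ↥H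
      set M := (B.subgroupOf H).subgroupOf L with hM
      haveI : M.Normal := ⟨fun b hb l => by
        have hl : ((l : ↥H) : G) ∈ E := ⟨l, l.2, rfl⟩
        exact (Subgroup.mem_normalizer_iff.1 (hBn ⟨hEH hl,
          Subgroup.commutator_eq_bot_iff_le_centralizer.1 hEP hl⟩) _).1 hb⟩
      have hMc : (Nat.card M).Coprime q := by
        refine Nat.Coprime.coprime_dvd_left ?_ hBc
        let f : M →* B :=
          { toFun := fun b => ⟨(((b : L) : ↥H) : G), b.2⟩
            map_one' := rfl
            map_mul' := fun _ _ => rfl }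
        exact Subgroup.card_dvd_of_injective f fun a b h =>
          Subtype.ext (Subtype.ext (Subtype.ext (congrArg (fun y : B => (y : G)) h)))
      have h1 := Solv.normal_le_pPrimeCore (p := q) hMc
      haveI : (Cfsg.pPrimeCore q ↥L).Characteristic := Cfsg.Agent.Char.TISocle.pPrimeCore_characteristic
      have h2 : ((Cfsg.pPrimeCore q ↥L).map L.subtype).map H.subtype = ⊥ := by
        refine hH _ (Subgroup.map_subtype_le _) (map_normalized _) ?_
        rw [Subgroup.card_map_of_injective H.subtype_injective, Subgroup.card_map_of_injective L.subtype_injective]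
        exact Solv.pPrimeCore_coprime q
      have h3 : (m' : G) ∈ ((Cfsg.pPrimeCore q ↥L).map L.subtype).map H.subtype :=
        ⟨m', ⟨⟨m', hm'⟩, h1 (show (⟨m', hm'⟩ : L) ∈ M from hmB), rfl⟩, rfl⟩
      rw [h2] at h3
      exact Subgroup.mem_bot.1 h3
    have hxn : x ∈ Subgroup.normalizer (E : Set G) := hEn (hA hxA).1
    have h1 : e * x * e⁻¹ * x⁻¹ = 1 := hM _
      (mul_mem ((Subgroup.mem_normalizer_iff.1 (hBn heP) x).1 hxB) (inv_mem hxB))
      (by
        rw [show e * x * e⁻¹ * x⁻¹ = e * (x * e⁻¹ * x⁻¹) by group]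
        exact mul_mem he ((Subgroup.mem_normalizer_iff.1 hxn e⁻¹).1 (inv_mem he)))
    calc e * x = e * x * e⁻¹ * x⁻¹ * (x * e) := by group
      _ = x * e := by rw [h1, one_mul]

end Cfsg.Agent.Solv.CoreControl
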