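import Cfsg.Agent.Lib.Solv.CoreControl

/-!
# Control of cores of centralizers, the quotient step
-/

set_option autoImplicit false
set_option linter.style.haveILetI false

open scoped commutatorElement

namespace Cfsg.Agent.Solv.CoreControl

universe u

variable {G : Type u} [Group G] [Finite G]

/-- The core of a subgroup, inside the group. -/
def coreIn (q : ℕ) (K : Subgroup G) : Subgroup G := (Cfsg.pPrimeCore q ↥K).map K.subtype

theorem coreIn_le (q : ℕ) (K : Subgroup G) : coreIn q K ≤ K := Subgroup.map_subtype_le _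

theorem coreIn_coprime (q : ℕ) (K : Subgroup G) : (Nat.card (coreIn q K)).Coprime q := by
  rw [coreIn, Subgroup.card_map_of_injective K.subtype_injective]
  exact Solv.pPrimeCore_coprime q

theorem normalized_le_coreIn {q : ℕ} {K M : Subgroup G} (hM : M ≤ K)
    (hn : K ≤ Subgroup.normalizer (M : Set G)) (hc : (Nat.card M).Coprime q) : M ≤ coreIn q K := by
  intro m hm
  haveI : (M.subgroupOf K).Normal := (Subgroup.normal_subgroupOf_iff_le_normalizer hM).2 hn
  have h := Solv.normal_le_pPrimeCore (p := q) (N := M.subgroupOf K)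
    (by rwa [Nat.card_congr (Subgroup.subgroupOfEquivOfLe hM).toEquiv])
  exact ⟨⟨m, hM hm⟩, h hm, rfl⟩

theorem coreIn_normalized (q : ℕ) (K : Subgroup G) :
    Subgroup.normalizer (K : Set G) ≤ Subgroup.normalizer (coreIn q K : Set G) := by
  intro t ht
  haveI := Solv.pPrimeCore_normal (G := ↥K) q
  refine Subgroup.mem_normalizer_fintype fun a ha => ?_
  have hle : (coreIn q K).map (MulAut.conj t).toMonoidHom ≤ coreIn q K := by
    refine normalized_le_coreIn ?_ ?_ ?_
    · rintro _ ⟨b, hb, rfl⟩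
      exact (Subgroup.mem_normalizer_iff.1 ht b).1 (coreIn_le q K hb)
    · intro k hk
      refine Subgroup.mem_normalizer_fintype ?_
      rintro _ ⟨b, hb, rfl⟩
      have hk' : t⁻¹ * k * t ∈ K := by
        have := (Subgroup.mem_normalizer_iff.1 (inv_mem ht) k).1 hk
        rwa [inv_inv] at this
      refine ⟨_, (Subgroup.mem_normalizer_iff.1 (map_normalized (Cfsg.pPrimeCore q ↥K) hk') b).1 hb, ?_⟩
      show t * (t⁻¹ * k * t * b * (t⁻¹ * k * t)⁻¹) * t⁻¹ = k * (t * b * t⁻¹) * k⁻¹
      group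
    · rw [Subgroup.card_map_of_injective (MulAut.conj t).injective]
      exact coreIn_coprime q K
  exact hle ⟨a, ha, rfl⟩

theorem control (H P : Subgroup G) [H.Normal] (hHP : (Nat.card H).Coprime (Nat.card P))
    (hPs : Group.IsSolvable ↥P) (hsol : Group.IsSolvable ↥⁅H, P⁆) {q : ℕ} [Fact q.Prime] (z : G)
    (hzH : z ∈ H) (hzP : z ∈ Subgroup.centralizer (P : Set G)) (hz : ∃ k, orderOf z = q ^ k) :
    coreIn q (H ⊓ Subgroup.centralizer ({z} : Set G)) ⊓ coreIn q (H ⊓ Subgroup.centralizer (P : Set G)) ⊔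
      ⁅coreIn q (H ⊓ Subgroup.centralizer ({z} : Set G)), P⁆ ≤ coreIn q H := by
  set A := coreIn q (H ⊓ Subgroup.centralizer ({z} : Set G)) with hA
  set B := coreIn q (H ⊓ Subgroup.centralizer (P : Set G)) with hB
  set N := coreIn q H with hN
  haveI hNn : N.Normal := by
    refine Subgroup.normalizer_eq_top_iff.1 (top_le_iff.1 (le_trans ?_ (coreIn_normalized q H)))
    rw [Subgroup.normalizer_eq_top_iff.2 inferInstance]
  have hNtop : Subgroup.normalizer (N : Set G) = ⊤ := Subgroup.normalizer_eq_top_iff.2 hNn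
  set π := QuotientGroup.mk' N with hπ
  haveI : (H.map π).Normal := Subgroup.Normal.map inferInstance π (QuotientGroup.mk'_surjective N)
  have hker : ∀ {a}, π a = 1 ↔ a ∈ N := fun {a} => QuotientGroup.eq_one_iff a
  have hsol' : Group.IsSolvable ↥⁅H.map π, P.map π⁆ := by
    rw [← Subgroup.map_commutator]
    haveI := hsol
    exact Group.isSolvable_of_surjective (π.subgroupMap_surjective ⁅H, P⁆)
  -- lifting fixed elements
  have hfix : ∀ (X : Subgroup G), Group.IsSolvable ↥X → (Nat.card X).Coprime (Nat.card N) →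
      ∀ x : G, (∀ a ∈ X, π a * π x = π x * π a) → ∃ y, y ∈ Subgroup.normalizer (X : Set G) ∧ π y = π x ∧
        x⁻¹ * y ∈ N := by
    intro X hXs hco x hx
    obtain ⟨d, hd, hn⟩ := Solv.exists_fixed_in_coset X N (by rw [hNtop]; exact le_top) hco (Or.inl hXs) (x := x) (fun a ha => hker.1 (by
      rw [map_mul, map_mul, map_mul, map_inv, map_inv, hx a ha]
      group))
    exact ⟨x * d, hn, by rw [map_mul, hker.2 hd, mul_one], by rwa [inv_mul_cancel_left]⟩
  obtain ⟨kz, hkz⟩ := hz
  have hNH : N ≤ H := coreIn_le q H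
  have hliftz : H.map π ⊓ Subgroup.centralizer ({π z} : Set (G ⧸ N)) ≤
      (H ⊓ Subgroup.centralizer ({z} : Set G)).map π := by
    rintro _ ⟨⟨x, hx, rfl⟩, hxc⟩
    have hcz : π z * π x = π x * π z := (Subgroup.mem_centralizer_singleton_iff.1 hxc).symm
    have hzs : Group.IsSolvable ↥(Subgroup.zpowers z) := Group.isSolvable_of_comm fun a b => mul_comm' a b
    have hco : (Nat.card (Subgroup.zpowers z)).Coprime (Nat.card N) := by
      rw [Nat.card_zpowers, hkz]
      exact Nat.Coprime.pow_left kz (coreIn_coprime q H).symm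
    obtain ⟨y, hy, hyx, hyN⟩ := hfix _ hzs hco x (fun a ha => by
      obtain ⟨j, rfl⟩ := Subgroup.mem_zpowers_iff.1 ha
      rw [map_zpow]
      exact (Commute.zpow_left hcz j).eq)
    refine ⟨y, ⟨?_, Subgroup.mem_centralizer_singleton_iff.2 ?_⟩, hyx⟩
    · have := mul_mem hx (hNH hyN)
      rwa [mul_inv_cancel_left] at this
    · have h1 : y * z * y⁻¹ * z⁻¹ ∈ Subgroup.zpowers z :=
        mul_mem ((Subgroup.mem_normalizer_iff.1 hy z).1 (Subgroup.mem_zpowers z)) (inv_mem (Subgroup.mem_zpowers z))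
      have h2 : y * z * y⁻¹ * z⁻¹ ∈ N := hker.1 (by
        rw [map_mul, map_mul, map_mul, map_inv, map_inv, hyx, ← hcz]; group)
      have h3 := eq_one_of_coprime hco h1 h2
      calc y * z = y * z * y⁻¹ * z⁻¹ * (z * y) := by group
        _ = z * y := by rw [h3, one_mul]
  have hliftP : H.map π ⊓ Subgroup.centralizer ((P.map π : Subgroup (G ⧸ N)) : Set (G ⧸ N)) ≤
      (H ⊓ Subgroup.centralizer (P : Set G)).map π := by
    rintro _ ⟨⟨x, hx, rfl⟩, hxc⟩
    obtain ⟨y, hy, hyx, hyN⟩ := hfix P hPs (hHP.symm.coprime_dvd_right (Subgroup.card_dvd_of_le hNH)) x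
      fun a ha => Subgroup.mem_centralizer_iff.1 hxc _ ⟨a, ha, rfl⟩
    have hyH : y ∈ H := by
      have := mul_mem hx (hNH hyN)
      rwa [mul_inv_cancel_left] at this
    refine ⟨y, ⟨hyH, Solv.centralizer_of_normalizes ?_ ?_ hyH hy⟩, hyx⟩
    · rw [Subgroup.normalizer_eq_top_iff.2 (inferInstance : H.Normal)]; exact le_top
    · exact (Subgroup.eq_bot_iff_forall _).2 fun a ha => eq_one_of_coprime hHP ha.1 ha.2
  have hmapn : ∀ (K M : Subgroup G), K ≤ Subgroup.normalizer (M : Set G) →
      K.map π ≤ Subgroup.normalizer ((M.map π : Subgroup (G ⧸ N)) : Set (G ⧸ N)) := by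
    rintro K M h _ ⟨k, hk, rfl⟩
    refine Subgroup.mem_normalizer_fintype ?_
    rintro _ ⟨m, hm, rfl⟩
    exact ⟨k * m * k⁻¹, (Subgroup.mem_normalizer_iff.1 (h hk) m).1 hm, by rw [map_mul, map_mul, map_inv]⟩
  have hcop : ∀ K : Subgroup G, (Nat.card ↥((coreIn q K).map π)).Coprime q := fun K =>
    (coreIn_coprime q K).coprime_dvd_left (Subgroup.card_map_dvd _ _)
  have hcore : ∀ M : Subgroup (G ⧸ N), M ≤ H.map π → H.map π ≤ Subgroup.normalizer (M : Set (G ⧸ N)) →
      (Nat.card M).Coprime q → M = ⊥ := by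
    intro M hMH hMn hMc
    set M' := M.comap π with hM'
    have hM'H : M' ≤ H := by
      intro a ha
      obtain ⟨b, hb, e⟩ := hMH ha
      have := mul_mem hb (hNH (QuotientGroup.eq.1 e))
      rwa [mul_inv_cancel_left] at this
    have hle : M' ≤ N := by
      refine normalized_le_coreIn hM'H (fun h hh => Subgroup.mem_normalizer_fintype fun a ha => ?_) ?_
      · show π (h * a * h⁻¹) ∈ M
        rw [map_mul, map_mul, map_inv]
        exact (Subgroup.mem_normalizer_iff.1 (hMn ⟨h, hh, rfl⟩) _).1 ha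
      · set f : M' →* G ⧸ N := π.comp M'.subtype with hf
        have hfk : f.ker = N.subgroupOf M' := by
          ext a
          rw [hf, MonoidHom.mem_ker, MonoidHom.comp_apply, Subgroup.mem_subgroupOf]
          exact hker
        have h1 := f.ker.index_mul_card
        rw [Subgroup.index_ker, hfk, Nat.card_congr (Subgroup.subgroupOfEquivOfLe
          (show N ≤ M' from fun a ha => show π a ∈ M by rw [hker.2 ha]; exact one_mem M)).toEquiv] at h1
        rw [← h1]
        refine Nat.Coprime.mul_left (hMc.coprime_dvd_left (Subgroup.card_dvd_of_le ?_)) (coreIn_coprime q H)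
        rintro _ ⟨a, rfl⟩
        exact a.2
    rw [Subgroup.eq_bot_iff_forall]
    intro m hm
    obtain ⟨a, rfl⟩ := QuotientGroup.mk'_surjective N m
    exact hker.2 (hle hm)
  have hPK : P ≤ Subgroup.normalizer ((H ⊓ Subgroup.centralizer ({z} : Set G) : Subgroup G) : Set G) := by
    intro t ht
    refine Subgroup.mem_normalizer_fintype fun a ha =>
      ⟨Subgroup.Normal.conj_mem inferInstance a ha.1 t, Subgroup.mem_centralizer_singleton_iff.2 ?_⟩
    have h1 : Commute t z := Subgroup.mem_centralizer_iff.1 hzP t ht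
    have h2 : Commute a z := Subgroup.mem_centralizer_singleton_iff.1 ha.2
    exact ((h1.mul_left h2).mul_left h1.inv_left).eq
  obtain ⟨hAP, hAB⟩ := core_bot (H.map π) (P.map π) hsol' (q := q) hcore (z := π z) ⟨z, hzH, rfl⟩
    (by
      obtain ⟨j, -, hj⟩ := (Nat.dvd_prime_pow (Fact.out : q.Prime)).1 (hkz ▸ orderOf_map_dvd π z)
      exact ⟨j, hj⟩)
    (A.map π) (B.map π)
    (by
      rintro _ ⟨a, ha, rfl⟩
      obtain ⟨h1, h2⟩ := coreIn_le q _ ha
      exact ⟨⟨a, h1, rfl⟩, Subgroup.mem_centralizer_singleton_iff.2 (by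
        rw [← map_mul, ← map_mul, Subgroup.mem_centralizer_singleton_iff.1 h2])⟩)
    (hliftz.trans (hmapn _ _ ((Subgroup.le_normalizer).trans (coreIn_normalized q _))))
    (hmapn _ _ (hPK.trans (coreIn_normalized q _))) (hcop _)
    (by
      rintro _ ⟨a, ha, rfl⟩
      obtain ⟨h1, h2⟩ := coreIn_le q _ ha
      refine ⟨⟨a, h1, rfl⟩, Subgroup.mem_centralizer_iff.2 ?_⟩
      rintro _ ⟨b, hb, rfl⟩
      rw [← map_mul, ← map_mul, Subgroup.mem_centralizer_iff.1 h2 b hb])
    (hliftP.trans (hmapn _ _ ((Subgroup.le_normalizer).trans (coreIn_normalized q _)))) (hcop _)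
  refine sup_le ?_ ?_
  · rintro a ⟨ha, hb⟩
    refine hker.1 ?_
    have h : π a ∈ A.map π ⊓ B.map π := ⟨⟨a, ha, rfl⟩, ⟨a, hb, rfl⟩⟩
    rwa [hAB, Subgroup.mem_bot] at h
  · intro a ha
    refine hker.1 ?_
    have h : π a ∈ ⁅A.map π, P.map π⁆ := by
      rw [← Subgroup.map_commutator]
      exact ⟨a, ha, rfl⟩
    rwa [hAP, Subgroup.mem_bot] at h

end Cfsg.Agent.Solv.CoreControl
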