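import Cfsg.Agent.Lib.Solv.Basic
import Mathlib.GroupTheory.GroupAction.SubMulAction.Combination
import Mathlib.GroupTheory.Sylow
import Mathlib.Data.ZMod.Basic
import Mathlib.Algebra.BigOperators.ModEq

/-!
Wielandt's count: subgroups of prime power order.
-/

set_option autoImplicit false

open scoped Pointwise
open Set (powersetCard)

namespace Cfsg.Agent.Solv

universe u

variable {G : Type u} [Group G]

theorem card_stabilizer_dvd [Finite G] [DecidableEq G] {q : ℕ} (X : powersetCard G q) :
    Nat.card (MulAction.stabilizer G X) ∣ q := by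
  set V := MulAction.stabilizer G X
  set Y : Set G := (((X : Finset G) : Set G))⁻¹ with hY
  have hX : ∀ v ∈ V, ∀ x ∈ (X : Finset G), v * x ∈ (X : Finset G) := by
    intro v hv x hx
    have h : ((v • X : powersetCard G q) : Finset G) = X := by rw [MulAction.mem_stabilizer_iff.1 hv]
    rw [powersetCard.coe_smul] at h
    rw [← h]; exact Finset.smul_mem_smul_finset hx
  have hYV : QuotientGroup.mk ⁻¹' ((QuotientGroup.mk : G → G ⧸ V) '' Y) = Y := by
    refine Set.Subset.antisymm ?_ (Set.subset_preimage_image _ _)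
    rintro a ⟨b, hb, hab⟩
    have h : b⁻¹ * a ∈ V := QuotientGroup.eq.1 hab
    have := hX _ (V.inv_mem h) b⁻¹ hb
    show a⁻¹ ∈ (X : Finset G)
    simpa [mul_assoc] using this
  have h := Nat.card_congr (QuotientGroup.preimageMkEquivSubgroupProdSet V
    ((QuotientGroup.mk : G → G ⧸ V) '' Y))
  rw [hYV, Nat.card_prod, hY, Nat.card_coe_set_eq, Set.ncard_inv, Set.ncard_coe_finset,
    powersetCard.card_eq] at h
  exact Dvd.intro _ h.symm

theorem choose_modEq_card_subgroups [Finite G] {p β m : ℕ} (hp : p.Prime)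
    (hN : Nat.card G = p ^ β * m) :
    (Nat.card G).choose (p ^ β) ≡ Nat.card {H : Subgroup G // Nat.card H = p ^ β} * m [MOD p * m] := by
  classical
  have := Fintype.ofFinite G
  set q := p ^ β with hq
  have hq0 : q ≠ 0 := pow_ne_zero _ hp.ne_zero
  let Ω := MulAction.orbitRel.Quotient G (powersetCard G q)
  let sz : Ω → ℕ := fun ω => Nat.card ω.orbit
  have : Fintype Ω := Fintype.ofFinite Ω
  have htot : (Nat.card G).choose q = ∑ ω : Ω, sz ω := by
    rw [← powersetCard.card (α := G), Nat.card_congr (MulAction.selfEquivSigmaOrbits' G _), Nat.card_sigma]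
  have hsz : ∀ X : powersetCard G q,
      sz (Quotient.mk'' X) = (MulAction.stabilizer G X).index := by
    intro X
    show Nat.card (MulAction.orbitRel.Quotient.orbit (Quotient.mk'' X)) = _
    rw [MulAction.index_stabilizer, MulAction.orbitRel.Quotient.orbit_mk, Nat.card_coe_set_eq]
  have hdich : ∀ ω : Ω, sz ω ≠ m → p * m ∣ sz ω := by
    intro ω
    obtain ⟨X, rfl⟩ := Quotient.mk''_surjective ω
    rw [hsz]
    intro hne
    have hV := (MulAction.stabilizer G X).card_mul_index
    obtain ⟨j, hj, e⟩ := (Nat.dvd_prime_pow hp).1 (card_stabilizer_dvd X)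
    rw [e, hN] at hV
    change p ^ j * _ = p ^ β * m at hV
    rcases hj.lt_or_eq with hlt | rfl
    · obtain ⟨d, rfl⟩ : ∃ d, β = j + 1 + d := ⟨β - (j + 1), by omega⟩
      refine ⟨p ^ d, Nat.eq_of_mul_eq_mul_left (pow_pos hp.pos j) ?_⟩
      rw [hV]; ring
    · exact absurd (Nat.eq_of_mul_eq_mul_left (pow_pos hp.pos _) hV) hne
  have hUset : ∀ U : {H : Subgroup G // Nat.card H = q}, (U.1 : Set G).toFinset.card = q := fun U => by
    rw [← Set.ncard_eq_toFinset_card', ← Nat.card_coe_set_eq]; exact U.2
  let F : {H : Subgroup G // Nat.card H = q} → powersetCard G q := fun U =>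
    ⟨(U.1 : Set G).toFinset, powersetCard.mem_iff.2 (hUset U)⟩
  have hstab : ∀ U, MulAction.stabilizer G (F U) = U.1 := by
    intro U
    ext g
    rw [MulAction.mem_stabilizer_iff, Subtype.ext_iff, powersetCard.coe_smul]
    show g • (U.1 : Set G).toFinset = (U.1 : Set G).toFinset ↔ _
    rw [← Finset.coe_inj, Finset.coe_smul_finset, Set.coe_toFinset]
    constructor
    · intro h
      have : g • (1 : G) ∈ (U.1 : Set G) := h ▸ Set.smul_mem_smul_set U.1.one_mem
      simpa using this
    · exact fun h => smul_coe_set h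
  have hFsz : ∀ U, sz (Quotient.mk'' (F U)) = m := fun U => by
    rw [hsz, hstab]
    have h := U.1.card_mul_index
    rw [U.2, hN] at h
    exact Nat.eq_of_mul_eq_mul_left (Nat.pos_of_ne_zero hq0) h
  have hbij : Function.Bijective
      (fun U => (⟨Quotient.mk'' (F U), hFsz U⟩ : {ω : Ω // sz ω = m})) := by
    constructor
    · intro U U' h
      obtain ⟨g, hg⟩ := Quotient.eq''.1 (congrArg Subtype.val h)
      have hg' : g • (U'.1 : Set G) = U.1 := by
        have := congrArg (fun t : powersetCard G q => ((t : Finset G) : Set G)) hg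
        simpa [powersetCard.coe_smul, Finset.coe_smul_finset, F] using this
      refine Subtype.ext (SetLike.coe_injective ?_)
      rw [← hg']
      refine smul_coe_set ?_
      obtain ⟨u, hu, hu1⟩ : (1 : G) ∈ g • (U'.1 : Set G) := hg' ▸ U.1.one_mem
      rw [show g = u⁻¹ from eq_inv_of_mul_eq_one_left hu1]
      exact U'.1.inv_mem hu
    · rintro ⟨ω, hω⟩
      obtain ⟨X, rfl⟩ := Quotient.mk''_surjective ω
      rw [hsz] at hω
      set V := MulAction.stabilizer G X with hVdef
      have hV : Nat.card V = q := by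
        have h := V.card_mul_index
        rw [hω, hN] at h
        have hm : m ≠ 0 := fun h0 => by
          have := Nat.card_pos (α := G)
          rw [hN, h0, mul_zero] at this
          omega
        exact Nat.eq_of_mul_eq_mul_right (Nat.pos_of_ne_zero hm) h
      obtain ⟨x, hx⟩ : (X : Finset G).Nonempty := by
        rw [← Finset.card_pos, powersetCard.card_eq]; exact Nat.pos_of_ne_zero hq0
      refine ⟨⟨MulAut.conj x⁻¹ • V, by rw [card_conj_smul, hV]⟩, Subtype.ext (Quotient.sound' ⟨x⁻¹, ?_⟩)⟩
      apply Subtype.ext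
      show ((x⁻¹ • X : powersetCard G q) : Finset G) = ((MulAut.conj x⁻¹ • V : Subgroup G) : Set G).toFinset
      symm
      refine Finset.eq_of_subset_of_card_le ?_ ?_
      · intro t ht
        rw [Set.mem_toFinset, SetLike.mem_coe, mem_conj_smul] at ht
        rw [powersetCard.coe_smul]
        have h : ((((x⁻¹)⁻¹ * t * x⁻¹) • X : powersetCard G q) : Finset G) = X := by
          rw [MulAction.mem_stabilizer_iff.1 ht]
        rw [powersetCard.coe_smul] at h
        refine Finset.mem_smul_finset.2 ⟨x * t, ?_, by simp⟩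
        rw [← h]
        exact Finset.mem_smul_finset.2 ⟨x, hx, by simp [mul_assoc]⟩
      · rw [powersetCard.card_eq]
        refine le_of_eq ?_
        rw [← Set.ncard_eq_toFinset_card', ← Nat.card_coe_set_eq]
        exact (hV.symm.trans (card_conj_smul _ _).symm)
  rw [htot, Nat.card_congr (Equiv.ofBijective _ hbij), Nat.card_eq_fintype_card, Fintype.card_subtype,
    ← smul_eq_mul (Finset.card _) m, ← Finset.sum_const, Finset.sum_filter]
  refine Nat.ModEq.sum fun ω _ => ?_
  split_ifs with h
  · rw [h]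
  · exact (Nat.modEq_zero_iff_dvd).2 (hdich ω h)

theorem card_subgroups_modEq_one [Finite G] {p β : ℕ} (hp : p.Prime) (hdiv : p ^ β ∣ Nat.card G) :
    Nat.card {H : Subgroup G // Nat.card H = p ^ β} ≡ 1 [MOD p] := by
  obtain ⟨m, hm⟩ := hdiv
  have hm0 : m ≠ 0 := by
    rintro rfl
    have := Nat.card_pos (α := G)
    rw [hm, mul_zero] at this
    omega
  have : NeZero (p ^ β * m) := ⟨mul_ne_zero (pow_ne_zero _ hp.ne_zero) hm0⟩
  let C := Multiplicative (ZMod (p ^ β * m))
  have hC : Nat.card C = p ^ β * m := (Nat.card_congr Multiplicative.toAdd).trans (Nat.card_zmod _)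
  have h1 : Nat.card {H : Subgroup C // Nat.card H = p ^ β} = 1 := by
    have hker : ∀ H : Subgroup C, Nat.card H = p ^ β → H = (powMonoidHom (p ^ β) : C →* C).ker := by
      intro D hD
      refine Subgroup.eq_of_le_of_card_ge (fun d hd => ?_) ?_
      · have h1 := pow_card_eq_one' (G := D) (x := ⟨d, hd⟩)
        rw [hD] at h1
        exact congrArg Subtype.val h1
      · rw [IsCyclic.card_powMonoidHom_ker, hD]
        exact Nat.gcd_le_right _ (pow_pos hp.pos _)
    rw [Nat.card_eq_one_iff_unique]
    refine ⟨⟨fun a b => Subtype.ext ((hker _ a.2).trans (hker _ b.2).symm)⟩, ?_⟩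
    have := Fact.mk hp
    obtain ⟨D, hD⟩ := Sylow.exists_subgroup_card_pow_prime (G := C) p (n := β) (hC ▸ dvd_mul_right _ _)
    exact ⟨⟨D, hD⟩⟩
  have h2 := choose_modEq_card_subgroups hp hm
  have h3 := choose_modEq_card_subgroups hp hC
  rw [hm] at h2
  rw [hC, h1] at h3
  exact Nat.ModEq.mul_right_cancel' hm0 (h2.symm.trans h3)

end Cfsg.Agent.Solv
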