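import Cfsg.Agent.Lib.Solv.EPPO
import Cfsg.Agent.Lib.Char.Burnside

/-!
A group of order divisible by exactly two primes in which all non-identity elements have prime order has
a Frobenius complement of prime order.
-/

set_option autoImplicit false
set_option linter.unusedSectionVars false

namespace Cfsg.Agent.Solv.CV

open Cfsg
open scoped Pointwise

variable {G : Type*} [Group G] [Finite G]

theorem mul_pow_prod {N : Subgroup G} {M : Type*} [CommGroup M] (e : N ≃* M) (x : G)
    (c : N →* N) (hc : ∀ v : N, (c v : G) = x * v * x⁻¹) (v : N) :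
    ∀ n : ℕ, ∃ w : N, ((v : G) * x) ^ n = w * x ^ n ∧ e w = ∏ i ∈ Finset.range n, e ((c^[i]) v) := by
  intro n
  induction n with
  | zero => exact ⟨1, by simp, by simp⟩
  | succ n ih =>
    obtain ⟨w, hw, hew⟩ := ih
    have hit : ∀ (i : ℕ) (u : N), ((c^[i]) u : G) = x ^ i * u * (x ^ i)⁻¹ := by
      intro i
      induction i with
      | zero => simp
      | succ i ihi =>
        intro u
        rw [Function.iterate_succ_apply', hc, ihi, pow_succ']
        group
    refine ⟨w * (c^[n]) v, ?_, ?_⟩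
    · rw [pow_succ, hw, Subgroup.coe_mul, hit, pow_succ]
      group
    · rw [map_mul, hew, Finset.prod_range_succ]

/-- `S` of prime order `s` acting fixed-point-freely on the abelian `r`-group `N` has no element of
order `r` normalizing it if all elements of `N⟨t⟩` have order dividing `r`. -/
theorem normalizer_no_order {r s : ℕ} [hr : Fact r.Prime] [hs : Fact s.Prime] (hrs : r ≠ s)
    (N : Subgroup G) [N.Normal] [IsMulCommutative N] (hN : N ≠ ⊥) (hexp : ∀ v ∈ N, v ^ r = 1)
    (hall : ∀ g : G, g ≠ 1 → orderOf g = r ∨ orderOf g = s) (hno : ∀ x y : G, orderOf x = r → orderOf y = s →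
      ¬ Commute x y)
    (S : Subgroup G) (hS : Nat.card S = s) {t : G} (ht : orderOf t = r)
    (htS : t ∈ Subgroup.normalizer (S : Set G)) : False := by
  classical
  letI : CommGroup N :=
    { (inferInstance : Group N) with mul_comm := fun x y => IsMulCommutative.is_comm.comm x y }
  haveI : Fintype S := Fintype.ofFinite S
  obtain ⟨⟨v₀, hv₀⟩, hv1⟩ := Subgroup.ne_bot_iff_exists_ne_one.1 hN
  set v : N := ⟨v₀, hv₀⟩ with hv
  let C : G → (N →* N) := fun g => (MulAut.conjNormal g).toMonoidHom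
  have hC : ∀ g (w : N), (C g w : G) = g * w * g⁻¹ := fun g w => MulAut.conjNormal_apply _ _
  have hCmul : ∀ a b (w : N), C (a * b) w = C a (C b w) := fun a b w => Subtype.ext (by
    rw [hC, hC, hC]; group)
  have hSord : ∀ u ∈ S, u ≠ 1 → orderOf u = s := fun u hu hu1 =>
    orderOf_eq_prime (by
      have := pow_card_eq_one' (x := (⟨u, hu⟩ : S))
      rw [hS] at this
      exact congrArg Subtype.val this) hu1
  have hfix : ∀ w : N, ∀ u ∈ S, u ≠ 1 → C u w = w → w = 1 := by
    intro w u hu hu1 he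
    by_contra hw
    have hwr : orderOf (w : G) = r := orderOf_eq_prime (hexp _ w.2) (fun e => hw (Subtype.ext e))
    refine hno _ _ hwr (hSord u hu hu1) ?_
    have := congrArg Subtype.val he
    rw [hC] at this
    exact (mul_inv_eq_iff_eq_mul.1 this).symm
  obtain ⟨u₀, hu₀⟩ : ∃ u : S, u ≠ 1 := by
    haveI : Nontrivial S := Finite.one_lt_card_iff_nontrivial.1 (hS ▸ hs.out.one_lt)
    exact exists_ne 1
  have hsum : ∀ w : N, ∏ u : S, C (u : G) w = 1 := by
    intro w
    refine hfix _ _ u₀.2 (fun e => hu₀ (Subtype.ext e)) ?_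
    rw [map_prod]
    exact Fintype.prod_equiv (Equiv.mulLeft u₀) _ _ (fun u => by
      rw [← hCmul]
      rfl)
  have hnorm : ∀ u : S, ∏ i ∈ Finset.range r, C ((u : G) * t ^ i * (u : G)⁻¹) v = 1 := by
    intro u
    set x := (u : G) * t * (u : G)⁻¹ with hx
    have hxr : orderOf x = r := by
      rw [hx, show (u : G) * t * (u : G)⁻¹ = MulAut.conj (u : G) t from rfl, MulEquiv.orderOf_eq, ht]
    obtain ⟨w, hw, hew⟩ := mul_pow_prod (MulEquiv.refl N) x (C x) (hC x) v r
    rw [show x ^ r = 1 by rw [← hxr]; exact pow_orderOf_eq_one x, mul_one] at hw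
    have hvx : ((v : G) * x) ^ r = 1 := by
      by_cases h1 : (v : G) * x = 1
      · rw [h1, one_pow]
      rcases hall _ h1 with h | h
      · rw [← h]; exact pow_orderOf_eq_one _
      · exfalso
        have hd : orderOf ((v : G) * x) ∣ r * r := orderOf_dvd_of_pow_eq_one (by
          rw [pow_mul, hw]; exact hexp _ w.2)
        rw [h] at hd
        exact hrs.symm ((Nat.prime_dvd_prime_iff_eq hs.out hr.out).1 ((Nat.Prime.dvd_mul hs.out).1 hd |>.elim id id))
    rw [hvx] at hw
    have hw1 : w = 1 := Subtype.ext hw.symm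
    simp only [MulEquiv.refl_apply, hw1] at hew
    refine (Finset.prod_congr rfl fun i _ => ?_).trans hew.symm
    have hit : ∀ i : ℕ, (C x)^[i] v = C (x ^ i) v := by
      intro i
      induction i with
      | zero => exact Subtype.ext (by rw [hC]; simp)
      | succ i ihi => rw [Function.iterate_succ_apply', ihi, ← hCmul, ← pow_succ']
    rw [hit, hx, conj_pow]
  have htot : ∏ i ∈ Finset.range r, ∏ u : S, C ((u : G) * t ^ i * (u : G)⁻¹) v = 1 := by
    rw [Finset.prod_comm]
    exact Finset.prod_eq_one fun u _ => hnorm u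
  have hzero : ∀ i ∈ Finset.range r, i ≠ 0 → ∏ u : S, C ((u : G) * t ^ i * (u : G)⁻¹) v = 1 := by
    intro i hi hi0
    rw [Finset.mem_range] at hi
    have hn : t ^ i ∈ Subgroup.normalizer (S : Set G) := pow_mem htS i
    let σ : S → S := fun u => ⟨(u : G) * (t ^ i * (u : G)⁻¹ * (t ^ i)⁻¹),
      S.mul_mem u.2 ((Subgroup.mem_normalizer_iff.1 hn _).1 (S.inv_mem u.2))⟩
    have hσ : Function.Injective σ := by
      intro a b h
      have h' : (a : G) * (t ^ i * (a : G)⁻¹ * (t ^ i)⁻¹) = b * (t ^ i * (b : G)⁻¹ * (t ^ i)⁻¹) :=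
        congrArg Subtype.val h
      by_contra hab
      have hti : orderOf (t ^ i) = r := by
        rw [orderOf_pow' t hi0, ht, Nat.Coprime.gcd_eq_one, Nat.div_one]
        exact (hr.out.coprime_iff_not_dvd).2 fun hd => by
          have := Nat.le_of_dvd (Nat.pos_of_ne_zero hi0) hd
          omega
      refine hno _ _ hti (hSord ((b : G)⁻¹ * a) (S.mul_mem (S.inv_mem b.2) a.2) fun e =>
        hab (Subtype.ext (inv_mul_eq_one.1 e).symm)) ?_
      have h2 : (b : G)⁻¹ * a * t ^ i = t ^ i * ((b : G)⁻¹ * a) := by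
        calc (b : G)⁻¹ * a * t ^ i = (b : G)⁻¹ * ((a : G) * (t ^ i * (a : G)⁻¹ * (t ^ i)⁻¹)) * (t ^ i * (a : G) * (t ^ i)⁻¹ * t ^ i) := by group
          _ = (b : G)⁻¹ * ((b : G) * (t ^ i * (b : G)⁻¹ * (t ^ i)⁻¹)) * (t ^ i * (a : G) * (t ^ i)⁻¹ * t ^ i) := by rw [h']
          _ = t ^ i * ((b : G)⁻¹ * a) := by group
      exact h2.symm
    rw [← hsum (C (t ^ i) v)]
    refine Fintype.prod_equiv (Equiv.ofBijective σ ⟨hσ, Finite.surjective_of_injective hσ⟩) _ _ fun u => ?_
    rw [← hCmul]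
    show C _ v = C (_ * t ^ i) v
    refine DFunLike.congr_fun (congrArg C ?_) v
    show _ = ((σ u : S) : G) * t ^ i
    simp only [σ]
    group
  rw [Finset.prod_eq_single_of_mem 0 (Finset.mem_range.2 hr.out.pos) hzero] at htot
  have hv0 : ∀ u : S, C ((u : G) * t ^ 0 * (u : G)⁻¹) v = v := fun u => Subtype.ext (by rw [hC]; simp)
  simp only [hv0, Finset.prod_const, Finset.card_univ, Fintype.card_eq_nat_card, hS] at htot
  have h1 : orderOf (v : G) ∣ s := orderOf_dvd_of_pow_eq_one (by
    rw [← SubmonoidClass.coe_pow, htot]; rfl)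
  have h2 : orderOf (v : G) = r := orderOf_eq_prime (hexp _ v.2) (fun e => hv1 (Subtype.ext e))
  rw [h2] at h1
  exact hrs ((Nat.prime_dvd_prime_iff_eq hr.out hs.out).1 h1)

theorem exists_prime_frobenius_complement {p q : ℕ} (hp : p.Prime) (hq : q.Prime) (hne : p ≠ q)
    (hpG : p ∣ Nat.card G) (hqG : q ∣ Nat.card G)
    (hall : ∀ g : G, g ≠ 1 → orderOf g = p ∨ orderOf g = q) :
    ∃ C : Subgroup G, IsFrobeniusComplement C ∧ (Nat.card C).Prime := by
  classical
  haveI := Fact.mk hp
  haveI := Fact.mk hq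
  haveI : Nontrivial G := Finite.one_lt_card_iff_nontrivial.1
    (lt_of_lt_of_le hp.one_lt (Nat.le_of_dvd Nat.card_pos hpG))
  have hpr : ∀ r : ℕ, r.Prime → r ∣ Nat.card G → r = p ∨ r = q := by
    intro r hr hrG
    haveI := Fact.mk hr
    obtain ⟨g, hg⟩ := exists_prime_orderOf_dvd_card' r hrG
    rcases hall g (fun e => by rw [e, orderOf_one] at hg; exact hr.ne_one hg.symm) with h | h
    · exact Or.inl (hg.symm.trans h)
    · exact Or.inr (hg.symm.trans h)
  have hsol : Group.IsSolvable G := Char.isSolvable_of_two_primes hp hq _ rfl hpr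
  obtain ⟨N, hNn, hN, hmin⟩ := exists_minimal_normal (G := G)
  haveI := hNn
  haveI := hsol
  obtain ⟨hab, r, hr, hexp, -⟩ := minimal_normal_elementaryAbelian N inferInstance hN hmin
  haveI := hab
  haveI := Fact.mk hr
  obtain ⟨⟨v, hv⟩, hv1⟩ := Subgroup.ne_bot_iff_exists_ne_one.1 hN
  have hvr : orderOf v = r := orderOf_eq_prime (hexp v hv) (fun e => hv1 (Subtype.ext e))
  have hrpq : r = p ∨ r = q := hpr r hr (hvr ▸ orderOf_dvd_natCard v)
  obtain ⟨s, hs, hsr, hsG, hall'⟩ : ∃ s, s.Prime ∧ r ≠ s ∧ s ∣ Nat.card G ∧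
      ∀ g : G, g ≠ 1 → orderOf g = r ∨ orderOf g = s := by
    rcases hrpq with rfl | rfl
    · exact ⟨q, hq, hne, hqG, hall⟩
    · exact ⟨p, hp, Ne.symm hne, hpG, fun g hg => (hall g hg).symm⟩
  haveI := Fact.mk hs
  have hno : ∀ x y : G, orderOf x = r → orderOf y = s → ¬ Commute x y := by
    intro x y hx hy hc
    have h1 := hc.orderOf_mul_eq_mul_orderOf_of_coprime
      (by rw [hx, hy]; exact (Nat.coprime_primes hr hs).2 hsr)
    rw [hx, hy] at h1
    by_cases he : x * y = 1
    · rw [he, orderOf_one] at h1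
      exact hr.ne_one (Nat.eq_one_of_mul_eq_one_right h1.symm)
    · rcases hall' _ he with h | h <;> rw [h] at h1
      · have := hs.one_lt; have := hr.pos; nlinarith
      · have := hr.one_lt; have := hs.pos; nlinarith
  obtain ⟨S⟩ := (inferInstance : Nonempty (Sylow s G))
  have hpow : ∀ (g : G) (k : ℕ), g ^ s ^ k = 1 → g ^ s = 1 := by
    intro g k hk
    by_cases hg : g = 1
    · rw [hg, one_pow]
    rcases hall' g hg with h | h
    · exfalso
      have hd := hr.dvd_of_dvd_pow (h ▸ orderOf_dvd_of_pow_eq_one hk)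
      exact hsr ((Nat.prime_dvd_prime_iff_eq hr hs).1 hd)
    · rw [← h]; exact pow_orderOf_eq_one g
  have hSexp : ∀ x ∈ (S : Subgroup G), x ^ s = 1 := by
    intro x hx
    obtain ⟨k, hk⟩ := S.2 ⟨x, hx⟩
    exact hpow x k (congrArg Subtype.val hk)
  have hle : Nat.card (S : Subgroup G) ≤ s := by
    refine EPPO.elementary_fpf_card_le hN hSexp (Subgroup.normalizer_eq_top_iff.2 hNn ▸ le_top) ?_
    intro x hx hx1
    rw [eq_bot_iff]
    rintro w ⟨hw, hwc⟩
    rw [Subgroup.mem_bot]
    by_contra hw1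
    exact hno w x (orderOf_eq_prime (hexp w hw) hw1) (orderOf_eq_prime (hSexp x hx) hx1)
      (Subgroup.mem_centralizer_singleton_iff.1 hwc)
  have hcard : Nat.card (S : Subgroup G) = s :=
    le_antisymm hle (Nat.le_of_dvd Nat.card_pos (S.dvd_card_of_dvd_card hsG))
  have hnorm : ∀ g ∈ Subgroup.normalizer ((S : Subgroup G) : Set G), g ∈ (S : Subgroup G) := by
    intro g hg
    by_contra hgS
    have hg1 : g ≠ 1 := fun e => hgS (e ▸ Subgroup.one_mem _)
    rcases hall' g hg1 with h | h
    · exact normalizer_no_order hsr N hN hexp hall' hno _ hcard h hg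
    · have hz : IsPGroup s (Subgroup.zpowers g) := IsPGroup.of_card (n := 1) (by rw [Nat.card_zpowers, h, pow_one])
      exact hgS ((hz.inf_normalizer_sylow S).le ⟨Subgroup.mem_zpowers g, hg⟩).2
  refine ⟨S, ⟨?_, ?_, ?_⟩, by rw [hcard]; exact hs⟩
  · intro e
    rw [e, Subgroup.card_bot] at hcard
    exact hs.ne_one hcard.symm
  · intro e
    have : v ∈ (S : Subgroup G) := e ▸ Subgroup.mem_top v
    have h1 := orderOf_dvd_of_pow_eq_one (hSexp v this)
    rw [hvr] at h1
    exact hsr ((Nat.prime_dvd_prime_iff_eq hr hs).1 h1)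
  · intro g hg
    rw [eq_bot_iff]
    rintro x ⟨hx, hx'⟩
    rw [Subgroup.mem_bot]
    by_contra hx1
    refine hg (hnorm g ?_)
    have hzx : ∀ T : Subgroup G, Nat.card T = s → x ∈ T → Subgroup.zpowers x = T := fun T hT hxT =>
      Subgroup.eq_of_le_of_card_ge (Subgroup.zpowers_le.2 hxT)
        (by rw [hT, Nat.card_zpowers, orderOf_eq_prime (hSexp x hx) hx1])
    have h1 := hzx _ hcard hx
    have h2 := hzx _ ((Nat.card_congr
      (Subgroup.equivSMul (MulAut.conj g) (S : Subgroup G)).toEquiv).symm.trans hcard) hx'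
    have heq : MulAut.conj g • (S : Subgroup G) = S := h2.symm.trans h1
    rw [Subgroup.mem_normalizer_iff]
    intro n
    rw [← Subgroup.smul_mem_pointwise_smul_iff (a := MulAut.conj g) (S := (S : Subgroup G)), heq]
    rfl

end Cfsg.Agent.Solv.CV
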