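import Cfsg.Agent.Lib.Solv.CountValues
import Cfsg.Agent.Lib.Char.Burnside

/-!
Consequences of having three values of the element-order counts.
-/

set_option autoImplicit false
set_option linter.unusedSectionVars false

namespace Cfsg.Agent.Solv.CV

variable {G : Type*} [Group G] [Finite G]

theorem cnt_even {d : ℕ} (hd : 2 < d) : 2 ∣ cnt G d :=
  (Nat.totient_even hd).two_dvd.trans (totient_dvd_cnt d)

theorem twoVal_of_three
    (h : (((fun m : ℕ => Nat.card {g : G // orderOf g = m}) '' Set.range (orderOf : G → ℕ))).ncard = 3) :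
    TwoVal G := by
  classical
  set V := ((fun m : ℕ => Nat.card {g : G // orderOf g = m}) '' Set.range (orderOf : G → ℕ))
  intro d e f hd he hf hd0 he0 hf0 hne
  have mem : ∀ m, cnt G m ≠ 0 → cnt G m ∈ V := fun m hm => by
    obtain ⟨g, hg⟩ := cnt_ne_zero.1 hm
    exact ⟨m, ⟨g, hg⟩, rfl⟩
  have h1 : ∀ m, 2 < m → cnt G m ≠ 1 := fun m hm e1 => by
    have := cnt_even (G := G) hm
    rw [e1] at this
    omega
  by_contra hcon
  push Not at hcon
  have hsub : ({1, cnt G d, cnt G e, cnt G f} : Finset ℕ) ⊆ (Set.toFinite V).toFinset := by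
    intro x hx
    rw [Set.Finite.mem_toFinset]
    simp only [Finset.mem_insert, Finset.mem_singleton] at hx
    rcases hx with rfl | rfl | rfl | rfl
    · exact ⟨1, ⟨1, orderOf_one⟩, cnt_one⟩
    · exact mem d hd0
    · exact mem e he0
    · exact mem f hf0
  have hc := Finset.card_le_card hsub
  rw [← Set.ncard_eq_toFinset_card V, h] at hc
  rw [Finset.card_insert_of_notMem (by simp [Ne.symm (h1 d hd), Ne.symm (h1 e he), Ne.symm (h1 f hf)]),
    Finset.card_insert_of_notMem (by simp [hne, Ne.symm hcon.1]),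
    Finset.card_insert_of_notMem (by simp [Ne.symm hcon.2]), Finset.card_singleton] at hc
  omega

/-- If the number of involutions is at least two, the counts for orders bigger than two coincide. -/
theorem oneVal_of_three
    (h : (((fun m : ℕ => Nat.card {g : G // orderOf g = m}) '' Set.range (orderOf : G → ℕ))).ncard = 3)
    (hodd : ¬ 2 ∣ cnt G 2) (h2 : cnt G 2 ≠ 1) {d e : ℕ} (hd : 2 < d) (he : 2 < e)
    (hd0 : cnt G d ≠ 0) (he0 : cnt G e ≠ 0) : cnt G d = cnt G e := by
  classical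
  set V := ((fun m : ℕ => Nat.card {g : G // orderOf g = m}) '' Set.range (orderOf : G → ℕ))
  have mem : ∀ m, cnt G m ≠ 0 → cnt G m ∈ V := fun m hm => by
    obtain ⟨g, hg⟩ := cnt_ne_zero.1 hm
    exact ⟨m, ⟨g, hg⟩, rfl⟩
  have h1 : ∀ m, 2 < m → 1 ≠ cnt G m := fun m hm e1 => by
    have := cnt_even (G := G) hm
    omega
  have h2' : ∀ m, 2 < m → cnt G 2 ≠ cnt G m := fun m hm e1 => hodd (e1 ▸ cnt_even hm)
  by_contra hne
  have hsub : ({1, cnt G 2, cnt G d, cnt G e} : Finset ℕ) ⊆ (Set.toFinite V).toFinset := by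
    intro x hx
    rw [Set.Finite.mem_toFinset]
    simp only [Finset.mem_insert, Finset.mem_singleton] at hx
    rcases hx with rfl | rfl | rfl | rfl
    · exact ⟨1, ⟨1, orderOf_one⟩, cnt_one⟩
    · exact mem 2 (fun e0 => hodd (by rw [e0]; exact dvd_zero 2))
    · exact mem d hd0
    · exact mem e he0
  have hc := Finset.card_le_card hsub
  rw [← Set.ncard_eq_toFinset_card V, h] at hc
  rw [Finset.card_insert_of_notMem (by simp [Ne.symm h2, h1 d hd, h1 e he]),
    Finset.card_insert_of_notMem (by simp [h2' d hd, h2' e he]),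
    Finset.card_insert_of_notMem (by simp [hne]), Finset.card_singleton] at hc
  omega

theorem same_all_sq {p q : ℕ} [Fact p.Prime] [Fact q.Prime] (hp2 : p ≠ 2) (hq2 : q ≠ 2) (hne : p ≠ q)
    (hpG : p ∣ Nat.card G) (hqG : q ∣ Nat.card G) (hV : TwoVal G) (he : cnt G p = cnt G q) {r : ℕ}
    [Fact r.Prime] (hr2 : r ≠ 2) (hrG : r ∣ Nat.card G) : cnt G r = cnt G p ∧ cnt G (r ^ 2) = 0 := by
  have hr := triple_false hp2 hq2 hr2 hne hpG hqG hrG hV he
  refine ⟨hr, ?_⟩
  by_cases hrp : r = p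
  · subst hrp
    exact same_sq hp2 hq2 hne hpG hqG hV he
  · exact same_sq hr2 hp2 hrp hrG hpG hV hr

theorem prime_or_of_two {p q : ℕ} [Fact p.Prime] [Fact q.Prime] (hp2 : p ≠ 2) (hq2 : q ≠ 2)
    (hpG : p ∣ Nat.card G) (hqG : q ∣ Nat.card G) (hV : TwoVal G) (hne : cnt G p ≠ cnt G q) {r : ℕ}
    [Fact r.Prime] (hr2 : r ≠ 2) (hrG : r ∣ Nat.card G) : r = p ∨ r = q := by
  by_contra hcon
  push Not at hcon
  have hpq : p ≠ q := fun e => hne (by rw [e])
  rcases hV p q r (two_lt hp2) (two_lt hq2) (two_lt hr2) (cnt_prime_ne_zero hpG) (cnt_prime_ne_zero hqG)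
    (cnt_prime_ne_zero hrG) hne with e | e
  · exact hne (triple_false hp2 hr2 hq2 (Ne.symm hcon.1) hpG hrG hqG hV e.symm).symm
  · exact hne (triple_false hq2 hr2 hp2 (Ne.symm hcon.2) hqG hrG hpG hV e.symm)

theorem cast_four {p : ℕ} [hp : Fact p.Prime] (hp2 : p ≠ 2) (hpG : p ∣ Nat.card G)
    (h4 : cnt G 4 ≠ 0) (hc2 : cnt G 2 = 1) :
    (cnt G (2 * p) : ZMod p) = -1 ∧ (cnt G 4 : ZMod p) + (cnt G (4 * p) : ZMod p) = 0 := by
  obtain ⟨g, hg⟩ := cnt_ne_zero.1 h4
  have h4G : 4 ∣ Nat.card G := hg ▸ orderOf_dvd_natCard g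
  have hco : Nat.Coprime 2 p := (Nat.coprime_primes Nat.prime_two hp.out).2 (Ne.symm hp2)
  have hco4 : Nat.Coprime 4 p := by
    have := hco.pow_left 2
    rwa [show (2 : ℕ) ^ 2 = 4 by norm_num] at this
  have ha := cast_cnt_prime (G := G) hpG
  have h := key_mod (dvd_mul_left p 2) (hco.mul_dvd_of_dvd_of_dvd ((show 2 ∣ 4 by norm_num).trans h4G) hpG)
  rw [sum_divisors_coprime hco, Nat.prime_two.sum_divisors, hp.out.sum_divisors, hp.out.sum_divisors] at h
  simp only [one_mul, mul_one, cnt_one, hc2, Nat.cast_one] at h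
  have h2p : (cnt G (2 * p) : ZMod p) = -1 := by linear_combination h - ha
  refine ⟨h2p, ?_⟩
  have h' := key_mod (dvd_mul_left p 4) (hco4.mul_dvd_of_dvd_of_dvd h4G hpG)
  rw [sum_divisors_coprime hco4, show (4 : ℕ).divisors = {1, 2, 4} from by decide,
    Finset.sum_insert (by decide), Finset.sum_insert (by decide), Finset.sum_singleton,
    hp.out.sum_divisors, hp.out.sum_divisors, hp.out.sum_divisors] at h'
  simp only [one_mul, mul_one, cnt_one, hc2, Nat.cast_one] at h'
  linear_combination h' - ha - h2p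

theorem four_mixed {p q : ℕ} [hp : Fact p.Prime] [hq : Fact q.Prime] (hp2 : p ≠ 2) (hq2 : q ≠ 2)
    (hpG : p ∣ Nat.card G) (hqG : q ∣ Nat.card G) (hV : TwoVal G) (hne : cnt G p ≠ cnt G q)
    (hc2 : cnt G 2 = 1) : cnt G 4 ≠ cnt G p := by
  intro h4
  obtain ⟨-, hb⟩ := mixed hp2 hq2 hpG hqG hV hne
  have ha := cast_cnt_prime (G := G) hpG
  obtain ⟨-, h⟩ := cast_four hp2 hpG (h4 ▸ cnt_prime_ne_zero hpG) hc2
  rw [h4, ha] at h
  have hp3 := two_lt hp2
  by_cases h0 : cnt G (4 * p) = 0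
  · rw [h0, Nat.cast_zero, add_zero, neg_eq_zero] at h
    exact one_ne_zero h
  · rcases hV p q (4 * p) hp3 (two_lt hq2) (by omega) (cnt_prime_ne_zero hpG) (cnt_prime_ne_zero hqG) h0 hne
      with e | e
    · rw [e, ha] at h
      exact cast_two_ne hp2 (by linear_combination -h)
    · rw [e, hb, add_zero, neg_eq_zero] at h
      exact one_ne_zero h

theorem four_same {p q : ℕ} [hp : Fact p.Prime] [hq : Fact q.Prime] (hp2 : p ≠ 2) (hq2 : q ≠ 2)
    (hne : p ≠ q) (hpG : p ∣ Nat.card G) (hqG : q ∣ Nat.card G) (hV : TwoVal G)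
    (he : cnt G p = cnt G q) (hc2 : cnt G 2 = 1) : cnt G 4 = 0 := by
  by_contra h40
  obtain ⟨g, hg⟩ := cnt_ne_zero.1 h40
  have h4G : 4 ∣ Nat.card G := hg ▸ orderOf_dvd_natCard g
  obtain ⟨hb0, hba, hb1⟩ := same_pair hp2 hne hpG hqG he
  obtain ⟨-, -, hb1q⟩ := same_pair hq2 (Ne.symm hne) hqG hpG he.symm
  rw [mul_comm q p] at hb1q
  have hp3 := two_lt hp2
  have hq3 := two_lt hq2
  have hco := (Nat.coprime_primes hp.out hq.out).2 hne
  have hco4 : ∀ {x : ℕ}, x.Prime → x ≠ 2 → Nat.Coprime 4 x := fun {x} hx hx2 => by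
    have := ((Nat.coprime_primes Nat.prime_two hx).2 (Ne.symm hx2)).pow_left 2
    rwa [show (2 : ℕ) ^ 2 = 4 by norm_num] at this
  have ha := cast_cnt_prime (G := G) hpG
  have haq := cast_cnt_prime (G := G) hqG
  rw [← he] at haq
  have val : ∀ d, 2 < d → cnt G d ≠ 0 → cnt G d = cnt G p ∨ cnt G d = cnt G (p * q) := fun d hd h0 =>
    hV p (p * q) d hp3 (by nlinarith) hd (cnt_prime_ne_zero hpG) hb0 h0 (Ne.symm hba)
  have h4b : 4 ∣ cnt G (p * q) := by
    refine dvd_trans ?_ (totient_dvd_cnt (p * q))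
    rw [Nat.totient_mul hco]
    exact mul_dvd_mul (Nat.totient_even hp3).two_dvd (Nat.totient_even hq3).two_dvd
  have hmod : cnt G 4 % 4 = 2 := by
    have hk := key 4 h4G
    rw [show (4 : ℕ).divisors = {1, 2, 4} from by decide, Finset.sum_insert (by decide),
      Finset.sum_insert (by decide), Finset.sum_singleton, cnt_one (G := G), hc2] at hk
    omega
  have h4a : cnt G 4 = cnt G p := (val 4 (by norm_num) h40).resolve_right (fun e => by omega)
  -- counts of order `2x` and `4x`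
  have hx : ∀ (x : ℕ) [Fact x.Prime], x ≠ 2 → x ∣ Nat.card G → (cnt G p : ZMod x) = -1 →
      (cnt G (p * q) : ZMod x) = 1 → cnt G (2 * x) = cnt G p ∧ cnt G (4 * x) = cnt G (p * q) := by
    intro x hx hx2 hxG hxa hxb
    have hx3 := two_lt hx2
    obtain ⟨h1, h2⟩ := cast_four hx2 hxG h40 hc2
    rw [h4a, hxa] at h2
    constructor
    · by_cases h0 : cnt G (2 * x) = 0
      · rw [h0, Nat.cast_zero] at h1
        exact absurd (by linear_combination h1) (one_ne_zero (α := ZMod x))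
      · rcases val _ (by omega) h0 with e | e
        · exact e
        · rw [e, hxb] at h1
          exact absurd (by linear_combination h1) (cast_two_ne (p := x) hx2)
    · by_cases h0 : cnt G (4 * x) = 0
      · rw [h0, Nat.cast_zero, add_zero, neg_eq_zero] at h2
        exact absurd h2 one_ne_zero
      · rcases val _ (by omega) h0 with e | e
        · rw [e, hxa] at h2
          exact absurd (by linear_combination -h2) (cast_two_ne (p := x) hx2)
        · exact e
  obtain ⟨h2p, h4p⟩ := hx p hp2 hpG ha hb1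
  obtain ⟨h2q, h4q⟩ := hx q hq2 hqG haq hb1q
  have hco2pq : Nat.Coprime 2 (p * q) :=
    ((Nat.coprime_primes Nat.prime_two hp.out).2 (Ne.symm hp2)).mul_right
      ((Nat.coprime_primes Nat.prime_two hq.out).2 (Ne.symm hq2))
  have hco4pq : Nat.Coprime 4 (p * q) := (hco4 hp.out hp2).mul_right (hco4 hq.out hq2)
  have h2 := key_mod ((dvd_mul_right p q).trans (dvd_mul_left _ 2))
    (hco2pq.mul_dvd_of_dvd_of_dvd ((show 2 ∣ 4 by norm_num).trans h4G) (hco.mul_dvd_of_dvd_of_dvd hpG hqG))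
  rw [sum_divisors_coprime hco2pq, Nat.prime_two.sum_divisors, sum_divisors_coprime hco,
    sum_divisors_coprime hco, hp.out.sum_divisors, hp.out.sum_divisors, hq.out.sum_divisors,
    hq.out.sum_divisors, hq.out.sum_divisors, hq.out.sum_divisors] at h2
  simp only [one_mul, mul_one, cnt_one, hc2, Nat.cast_one] at h2
  rw [← he, h2p, h2q, ha, hb1] at h2
  have h2pq : (cnt G (2 * (p * q)) : ZMod p) = 1 := by linear_combination h2
  have h := key_mod ((dvd_mul_right p q).trans (dvd_mul_left _ 4))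
    (hco4pq.mul_dvd_of_dvd_of_dvd h4G (hco.mul_dvd_of_dvd_of_dvd hpG hqG))
  rw [sum_divisors_coprime hco4pq, show (4 : ℕ).divisors = {1, 2, 4} from by decide,
    Finset.sum_insert (by decide), Finset.sum_insert (by decide), Finset.sum_singleton,
    sum_divisors_coprime hco, sum_divisors_coprime hco, sum_divisors_coprime hco,
    hp.out.sum_divisors, hp.out.sum_divisors, hp.out.sum_divisors, hq.out.sum_divisors,
    hq.out.sum_divisors, hq.out.sum_divisors, hq.out.sum_divisors, hq.out.sum_divisors,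
    hq.out.sum_divisors] at h
  simp only [one_mul, mul_one, cnt_one, hc2, Nat.cast_one] at h
  rw [← he, h2p, h2q, h4p, h4q, h4a, h2pq, ha, hb1] at h
  have hz : (cnt G (4 * (p * q)) : ZMod p) = -1 := by linear_combination h
  have hpq0 : 1 ≤ p * q := Nat.mul_pos hp.out.pos hq.out.pos
  by_cases h0 : cnt G (4 * (p * q)) = 0
  · rw [h0, Nat.cast_zero] at hz
    exact one_ne_zero (show (1 : ZMod p) = 0 by linear_combination hz)
  · rcases val _ (by omega) h0 with e | e
    · have h4z : 4 ∣ cnt G (4 * (p * q)) := by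
        refine dvd_trans ?_ (totient_dvd_cnt (4 * (p * q)))
        refine dvd_trans ?_ (Nat.totient_dvd_of_dvd (dvd_mul_left (p * q) 4))
        rw [Nat.totient_mul hco]
        exact mul_dvd_mul (Nat.totient_even hp3).two_dvd (Nat.totient_even hq3).two_dvd
      rw [e, ← h4a] at h4z
      omega
    · rw [e, hb1] at hz
      exact cast_two_ne hp2 (by linear_combination hz)

/-- In the case where all odd primes have the same count, the order of `G` divides `2(1 + a)`. -/
theorem same_card_dvd {p q : ℕ} [hp : Fact p.Prime] [hq : Fact q.Prime] (hp2 : p ≠ 2) (hq2 : q ≠ 2)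
    (hne : p ≠ q) (hpG : p ∣ Nat.card G) (hqG : q ∣ Nat.card G) (hV : TwoVal G)
    (he : cnt G p = cnt G q) (h2 : ∀ k, 2 ^ k ∣ Nat.card G → k ≤ 1) :
    Nat.card G ∣ 2 * (1 + cnt G p) := by
  refine (Nat.dvd_iff_prime_pow_dvd_dvd _ _).2 fun r k hr hk => ?_
  haveI := Fact.mk hr
  rcases Nat.eq_zero_or_pos k with rfl | hk0
  · simp
  have hrG : r ∣ Nat.card G := (dvd_pow_self r hk0.ne').trans hk
  by_cases hr2 : r = 2
  · subst hr2
    exact dvd_mul_of_dvd_left ((pow_dvd_pow 2 (h2 k hk)).trans (by norm_num)) _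
  · obtain ⟨hra, hsq⟩ := same_all_sq hp2 hq2 hne hpG hqG hV he hr2 hrG
    exact dvd_mul_of_dvd_right (hra ▸ prime_pow_dvd_succ hsq hk) _

end Cfsg.Agent.Solv.CV
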