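import Mathlib

/-!
# The numerical contradiction behind the covering by TI kernels

A family of kernels of orders `h i = n i * e i + 1` whose class weights `n i / h i` sum to almost `1`,
together with a relation `R` linking every pair, small weighted out-degree and small weighted in-degree,
does not exist.
-/

set_option autoImplicit false

namespace Cfsg.Agent.Solv.CoverTI

variable {ι : Type*}

/-- The impossible configuration. -/
theorem no_config [Fintype ι] [Nontrivial ι] (e n h : ι → ℕ) (g : ℕ) (R : ι → ι → Prop) [DecidableRel R]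
    (hh : ∀ i, h i = n i * e i + 1) (he : ∀ i, Odd (e i)) (he3 : ∀ i, 3 ≤ e i)
    (hn : ∀ i, Even (n i)) (hn0 : ∀ i, 0 < n i)
    (hcop : ∀ i j, i ≠ j → (h i).Coprime (h j)) (hdvd : ∀ i, h i ∣ g) (hg : 0 < g)
    (hsum : (g : ℝ)⁻¹ + ∑ i, (n i : ℝ) / h i = 1)
    (hR : ∀ i j, i ≠ j → R i j ∨ R j i) (hirr : ∀ i, ¬ R i i)
    (hcol : ∀ j, ∑ i with R i j, n i + 1 ≤ e j)
    (hrow : ∀ i, ∑ j with R i j, (n j : ℝ) / h j ≤ (e i : ℝ) / h i) : False := by
  classical
  obtain ⟨i, -, hmin⟩ := Finset.exists_min_image (Finset.univ : Finset ι) e Finset.univ_nonempty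
  have hmin' : ∀ j, e i ≤ e j := fun j => hmin j (Finset.mem_univ j)
  have hn2 : ∀ j, 2 ≤ n j := fun j => by
    obtain ⟨a, ha⟩ := hn j
    have := hn0 j
    omega
  have hhpos : ∀ j, (0 : ℝ) < h j := fun j => by rw [hh]; positivity
  have hne : ∀ j, j ≠ i → h j ≠ h i := by
    intro j hj hji
    have hc := hcop j i hj
    rw [hji, Nat.coprime_self, hh] at hc
    have h1 := hn0 i
    have h2 := he3 i
    have : 0 < n i * e i := Nat.mul_pos h1 (by omega)
    omega
  have hsplit : ∑ j, (n j : ℝ) / h j ≤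
      (n i : ℝ) / h i + ∑ j with R i j, (n j : ℝ) / h j + ∑ j with R j i, (n j : ℝ) / h j := by
    rw [← Finset.add_sum_erase _ _ (Finset.mem_univ i), add_assoc]
    refine add_le_add_right ?_ _
    rw [← Finset.sum_union_inter]
    refine le_trans (Finset.sum_le_sum_of_subset_of_nonneg (fun j hj => ?_) (fun j _ _ => by positivity))
      (le_add_of_nonneg_right (Finset.sum_nonneg fun j _ => by positivity))
    simp only [Finset.mem_union, Finset.mem_filter, Finset.mem_univ, true_and]
    exact hR i j (Finset.ne_of_mem_erase hj).symm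
  have hEn : ∑ j with R j i, (n j : ℝ) ≤ (e i : ℝ) - 1 := by
    have h1 : ((∑ j with R j i, n j + 1 : ℕ) : ℝ) ≤ (e i : ℝ) := by exact_mod_cast hcol i
    push_cast at h1
    linarith
  have hE : (3 : ℝ) ≤ e i := by exact_mod_cast he3 i
  have hout := hrow i
  by_cases hni : n i = 2
  · -- the kernel of smallest possible order
    have hhi : h i = 2 * e i + 1 := by rw [hh, hni]
    have hin : ∑ j with R j i, (n j : ℝ) / h j ≤ ((e i : ℝ) - 1) / (2 * e i + 3) := by
      refine le_trans (Finset.sum_le_sum fun j hj => ?_)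
        (le_of_eq_of_le (Finset.sum_div _ _ _).symm (div_le_div_of_nonneg_right hEn (by positivity)))
      have hji : j ≠ i := fun hji => hirr i (by
        have := (Finset.mem_filter.1 hj).2
        rwa [hji] at this)
      refine div_le_div_of_nonneg_left (by positivity) (by positivity) ?_
      have hodd : ¬ 2 ∣ h j := by
        obtain ⟨a, ha⟩ := hn j
        rw [hh, ha]
        rintro ⟨b, hb⟩
        have : (a + a) * e j = 2 * (a * e j) := by ring
        omega
      have h1 : 2 * e i ≤ n j * e j := Nat.mul_le_mul (hn2 j) (hmin' j)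
      have h2 := hne j hji
      have h3 : 2 * e i + 3 ≤ h j := by
        have := hh j
        omega
      exact_mod_cast h3
    obtain ⟨j, hj⟩ := exists_ne i
    have hgbig : (2 * e i + 1) * (2 * e i + 3) ≤ g := by
      refine le_trans ?_ (Nat.le_of_dvd hg ((hcop i j hj.symm).mul_dvd_of_dvd_of_dvd (hdvd i) (hdvd j)))
      rw [hhi]
      refine Nat.mul_le_mul_left _ ?_
      obtain ⟨a, ha⟩ := hn j
      have h1 : 2 * e i ≤ n j * e j := Nat.mul_le_mul (hn2 j) (hmin' j)
      have h2 := hne j hj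
      have h3 := hh j
      have : n j * e j = 2 * (a * e j) := by rw [ha]; ring
      omega
    have hginv : (g : ℝ)⁻¹ ≤ ((2 * (e i : ℝ) + 1) * (2 * e i + 3))⁻¹ :=
      inv_anti₀ (by positivity) (by exact_mod_cast hgbig)
    rw [hhi] at hout hsplit
    rw [hni] at hsplit
    push_cast at hout hsplit
    have key : ((2 * (e i : ℝ) + 1) * (2 * e i + 3))⁻¹ + 2 / (2 * e i + 1) + (e i : ℝ) / (2 * e i + 1)
        + ((e i : ℝ) - 1) / (2 * e i + 3) < 1 := by
      have heq : ((2 * (e i : ℝ) + 1) * (2 * e i + 3))⁻¹ + 2 / (2 * e i + 1) + (e i : ℝ) / (2 * e i + 1)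
          + ((e i : ℝ) - 1) / (2 * e i + 3)
          = (1 + 2 * (2 * (e i : ℝ) + 3) + e i * (2 * e i + 3) + ((e i : ℝ) - 1) * (2 * e i + 1))
            / ((2 * (e i : ℝ) + 1) * (2 * e i + 3)) := by
        field_simp
      rw [heq, div_lt_one (by positivity)]
      linarith [show (1 + 2 * (2 * (e i : ℝ) + 3) + e i * (2 * e i + 3) + ((e i : ℝ) - 1) * (2 * e i + 1))
        = (2 * (e i : ℝ) + 1) * (2 * e i + 3) - (2 * e i - 3) by ring]
    linarith
  · have hn4 : 4 ≤ n i := by
      obtain ⟨a, ha⟩ := hn i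
      have := hn0 i
      omega
    have hn4' : (4 : ℝ) ≤ n i := by exact_mod_cast hn4
    have hhi : (h i : ℝ) = n i * e i + 1 := by rw [hh]; push_cast; ring
    have hself : ∀ j, (n j : ℝ) / h j ≤ 1 / e i := fun j => by
      rw [div_le_div_iff₀ (hhpos j) (by positivity)]
      have h1 : (e i : ℝ) ≤ e j := by exact_mod_cast hmin' j
      have h2 : (h j : ℝ) = n j * e j + 1 := by rw [hh]; push_cast; ring
      nlinarith [mul_le_mul_of_nonneg_left h1 (show (0 : ℝ) ≤ n j from Nat.cast_nonneg _)]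
    have hcount : 2 * ((Finset.univ.filter fun j => R j i).card : ℝ) ≤ (e i : ℝ) - 1 := by
      refine le_trans ?_ hEn
      rw [mul_comm, ← nsmul_eq_mul]
      exact Finset.card_nsmul_le_sum _ _ _ fun j _ => by exact_mod_cast hn2 j
    have hin : ∑ j with R j i, (n j : ℝ) / h j ≤ ((e i : ℝ) - 1) / 2 * (1 / e i) := by
      refine le_trans (Finset.sum_le_card_nsmul _ _ _ fun j _ => hself j) ?_
      rw [nsmul_eq_mul]
      exact mul_le_mul_of_nonneg_right (by linarith) (by positivity)
    have hquarter : (e i : ℝ) / h i ≤ 1 / 4 := by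
      rw [div_le_div_iff₀ (hhpos i) (by norm_num)]
      nlinarith [mul_le_mul_of_nonneg_right hn4' (show (0 : ℝ) ≤ e i by linarith)]
    have h13 : (g : ℝ)⁻¹ ≤ (13 : ℝ)⁻¹ := by
      refine inv_anti₀ (by norm_num) ?_
      have h1 : h i ≤ g := Nat.le_of_dvd hg (hdvd i)
      have h2 : 12 ≤ n i * e i := Nat.mul_le_mul hn4 (he3 i)
      have h3 : 13 ≤ g := by have := hh i; omega
      exact_mod_cast h3
    have he1 : (1 : ℝ) / e i ≤ 1 / 3 := one_div_le_one_div_of_le (by norm_num) hE
    have hhalf : ((e i : ℝ) - 1) / 2 * (1 / e i) = 1 / 2 - (1 / e i) / 2 := by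
      field_simp
    have := hself i
    linarith

end Cfsg.Agent.Solv.CoverTI
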