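import Cfsg.Agent.Lib.Solv.DihedralCentralizer
import Cfsg.Agent.Lib.Solv.SuzukiCAMain

/-!
The exceptional characters of the configuration and the contradiction.
-/

set_option autoImplicit false
set_option linter.style.haveILetI false
set_option linter.unusedSectionVars false

open scoped ComplexConjugate Pointwise

namespace Cfsg.Agent.Solv.DihedralCentralizer

open Cfsg Cfsg.Agent.Char Cfsg.Agent.Solv.SuzukiCA

variable {G : Type*} [Group G] [Fintype G] {P : Subgroup G} {z t : G}

/-- Inner products of functions induced from `C(P)` vanishing on `⟨z⟩`. -/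
theorem ind_inner (h : Config P z t) [Fintype (Subgroup.centralizer (P : Set G))]
    (f k : Subgroup.centralizer (P : Set G) → ℂ)
    (hf : ∀ a, a * a = 1 → f a = 0) :
    classInner (indFun (Subgroup.centralizer (P : Set G)) f) (indFun (Subgroup.centralizer (P : Set G)) k) =
      classInner f k + classInner f (fun a => k a⁻¹) := by
  classical
  have htC : t ∉ (Subgroup.centralizer (P : Set G)) := by
    intro htc
    obtain ⟨a, ha, ha0⟩ := h.pow
    haveI : Nontrivial P := Finite.one_lt_card_iff_nontrivial.1 (ha ▸ Nat.one_lt_pow ha0 (by norm_num))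
    obtain ⟨u, hu⟩ := exists_ne (1 : P)
    refine hu (Subtype.ext (h.sq_eq_one u.2 ?_))
    have h1 := h.tinv u u.2
    rw [← Subgroup.mem_centralizer_iff.1 htc u u.2, mul_inv_cancel_right] at h1
    exact eq_inv_iff_mul_eq_one.1 h1
  rw [frobenius (Subgroup.centralizer (P : Set G)) f (isClassFunction_indFun _ _)]
  simp only [classInner]
  rw [← mul_add, ← Finset.sum_add_distrib]
  congr 1
  refine Finset.sum_congr rfl fun a _ => ?_
  by_cases ha : a * a = 1
  · simp [hf a ha]
  have ha' : (a : G) * a ≠ 1 := fun e => ha (Subtype.ext e)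
  rw [← mul_add, ← map_add]
  congr 2
  simp only [indFun]
  have hval : ∀ x : G, extendByZero (Subgroup.centralizer (P : Set G)) k (x⁻¹ * (a : G) * x) =
      (if x ∈ (Subgroup.centralizer (P : Set G)) then k a else 0) + if t⁻¹ * x ∈ (Subgroup.centralizer (P : Set G)) then k a⁻¹ else 0 := by
    intro x
    by_cases hx : x ∈ (Subgroup.centralizer (P : Set G))
    · have h2 : t⁻¹ * x ∉ (Subgroup.centralizer (P : Set G)) := fun h' => htC (by
        have := (Subgroup.centralizer (P : Set G)).mul_mem hx ((Subgroup.centralizer (P : Set G)).inv_mem h')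
        rwa [mul_inv_rev, inv_inv, mul_inv_cancel_left] at this)
      have h3 : x⁻¹ * (a : G) * x = a := by
        rw [mul_assoc, ← h.C_comm hx a.2, inv_mul_cancel_left]
      rw [if_pos hx, if_neg h2, add_zero, h3, extendByZero_mem (Subgroup.centralizer (P : Set G)) _ a.2]
    · by_cases hx2 : t⁻¹ * x ∈ (Subgroup.centralizer (P : Set G))
      · have h3 : x⁻¹ * (a : G) * x = (a : G)⁻¹ := by
          have e : x = t * (t⁻¹ * x) := by group
          have h4 : t⁻¹ * (a : G) * t = (a : G)⁻¹ := by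
            rw [InvolCount.inv_of_invol h.tord]
            nth_rw 2 [← InvolCount.inv_of_invol h.tord]
            exact h.t_inverts a.2
          calc x⁻¹ * (a : G) * x = (t⁻¹ * x)⁻¹ * (t⁻¹ * (a : G) * t) * (t⁻¹ * x) := by group
            _ = (t⁻¹ * x)⁻¹ * (a : G)⁻¹ * (t⁻¹ * x) := by rw [h4]
            _ = _ := by rw [mul_assoc, ← h.C_comm hx2 ((Subgroup.centralizer (P : Set G)).inv_mem a.2), inv_mul_cancel_left]
        rw [if_neg hx, if_pos hx2, zero_add, h3, extendByZero_mem (Subgroup.centralizer (P : Set G)) _ ((Subgroup.centralizer (P : Set G)).inv_mem a.2)]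
        rfl
      · rw [if_neg hx, if_neg hx2, add_zero]
        refine extendByZero_not_mem (Subgroup.centralizer (P : Set G)) _ fun hmem => ?_
        rcases h.mem_N_iff.1 (h.fusion a.2 ha' hmem) with h' | ⟨c, hc, rfl⟩
        · exact hx h'
        · exact hx2 (by rw [inv_mul_cancel_left]; exact hc)
  simp only [hval, Finset.sum_add_distrib, Finset.sum_ite, Finset.sum_const_zero, add_zero,
    Finset.sum_const, nsmul_eq_mul]
  have c1 : (Finset.univ.filter fun x => x ∈ (Subgroup.centralizer (P : Set G))).card = Nat.card (Subgroup.centralizer (P : Set G)) := by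
    rw [← Fintype.card_subtype, ← Nat.card_eq_fintype_card]
  have c2 : (Finset.univ.filter fun x => t⁻¹ * x ∈ (Subgroup.centralizer (P : Set G))).card = Nat.card (Subgroup.centralizer (P : Set G)) := by
    rw [← Fintype.card_subtype, ← Nat.card_eq_fintype_card]
    exact Nat.card_congr ((Equiv.mulLeft t⁻¹).subtypeEquiv fun x => Iff.rfl)
  rw [c1, c2, ← mul_add, ← mul_assoc, inv_mul_cancel₀ (Nat.cast_ne_zero.2 Nat.card_pos.ne'), one_mul]

/-- The difference of two linear characters of `C(P)`. -/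
noncomputable def psi (P : Subgroup G) (a b : Subgroup.centralizer (P : Set G) →* ℂˣ) : G → ℂ :=
  indFun (Subgroup.centralizer (P : Set G)) (fun c => (a c : ℂ) - (b c : ℂ))

theorem psi_gen (a b : Subgroup.centralizer (P : Set G) →* ℂˣ) :
    IsGeneralizedCharacter G (psi P a b) :=
  ⟨indFun _ (fun c => (a c : ℂ)), indFun _ (fun c => (b c : ℂ)),
    isCharacter_indFun _ (isCharacter_linear a), isCharacter_indFun _ (isCharacter_linear b),
    by rw [← indFun_sub]; rfl⟩

theorem config_false (h : Config P z t) (hsimple : IsSimpleGroup G) (hperf : commutator G = ⊤) : False := by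
  classical
  obtain ⟨n, hG, hn, hT⟩ := order_formula h
  obtain ⟨a, hqa, ha0⟩ := h.pow
  by_cases ha1 : a = 1
  · -- `|G| = 372` has a normal Sylow `31`-subgroup
    subst ha1
    rw [pow_one] at hqa
    rw [hqa] at hn hG
    have hn31 : n = 31 := by
      have : (n : ℤ) = 31 := by rw [hn]; norm_num
      exact_mod_cast this
    subst hn31
    haveI : Fact (Nat.Prime 31) := ⟨by norm_num⟩
    obtain ⟨S⟩ : Nonempty (Sylow 31 G) := inferInstance
    have hS : Nat.card S = 31 := by
      rw [S.card_eq_multiplicity, hG]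
      rw [Nat.factorization_mul (by norm_num) (by norm_num), Finsupp.add_apply,
        Nat.Prime.factorization_self (by norm_num),
        Nat.factorization_eq_zero_of_not_dvd (by norm_num : ¬ (31 : ℕ) ∣ 4 * 3), add_zero, pow_one]
    have hidx : (S : Subgroup G).index = 12 := by
      have := (S : Subgroup G).card_mul_index
      rw [show Nat.card (S : Subgroup G) = 31 from hS, hG] at this
      omega
    have hd := S.card_dvd_index
    rw [hidx] at hd
    have hm := card_sylow_modEq_one 31 G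
    have h1 : Nat.card (Sylow 31 G) = 1 := by
      have := Nat.le_of_dvd (by norm_num) hd
      unfold Nat.ModEq at hm
      omega
    haveI : Subsingleton (Sylow 31 G) := (Nat.card_eq_one_iff_unique.1 h1).1
    haveI := S.normal_of_subsingleton
    rcases hsimple.eq_bot_or_eq_top_of_normal _ ‹(S : Subgroup G).Normal› with e | e
    · have : Nat.card (S : Subgroup G) = 31 := hS
      rw [e, Subgroup.card_bot] at this
      omega
    · rw [e, Subgroup.index_top] at hidx
      omega
  have ha2 : 2 ≤ a := by omega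
  set C := Subgroup.centralizer (P : Set G) with hC
  set q := Nat.card P with hq
  haveI := Fintype.ofFinite C
  haveI : IsMulCommutative C := ⟨⟨fun u v => Subtype.ext (h.C_comm u.2 v.2)⟩⟩
  have hLcard : Nat.card (C →* ℂˣ) = 2 * q := by
    rw [card_hom_units, (commutator_eq_bot_iff C).2 inferInstance, Subgroup.index_bot, h.cardC]
  haveI : Finite (C →* ℂˣ) := Nat.finite_of_card_ne_zero (by rw [hLcard]; have : 0 < q := Nat.card_pos; omega)
  haveI := Fintype.ofFinite (C →* ℂˣ)
  let zc : C := ⟨z, h.zmem⟩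
  have hzc2 : zc * zc = 1 := Subtype.ext (InvolCount.mul_self_invol h.zord)
  have hsqC : ∀ c : C, c * c = 1 → c = 1 ∨ c = zc := fun c hc =>
    ((h.sq_eq_one_iff c.2).1 (congrArg Subtype.val hc)).imp Subtype.ext Subtype.ext
  have hC2q : ∀ c : C, (c ^ q) * (c ^ q) = 1 := fun c => by
    rw [← pow_add, ← two_mul, ← h.cardC]; exact pow_card_eq_one'
  have hcq : ∀ (l : C →* ℂˣ), l zc = 1 → ∀ c : C, l c ^ q = 1 := by
    intro l hl c
    rw [← map_pow]
    rcases hsqC _ (hC2q c) with e | e <;> rw [e]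
    · exact map_one l
    · exact hl
  have hsep : ∀ c : C, c ≠ 1 → ∃ l : C →* ℂˣ, l c ≠ 1 := by
    intro c hc
    letI : CommGroup C :=
      { (inferInstance : Group C) with mul_comm := fun u v => Subtype.ext (h.C_comm u.2 v.2) }
    haveI : NeZero (Monoid.exponent C) := ⟨Monoid.exponent_ne_zero_of_finite⟩
    exact CommGroup.exists_apply_ne_one_of_hasEnoughRootsOfUnity C ℂ hc
  obtain ⟨s, hs2, hsz⟩ : ∃ s : C →* ℂˣ, s⁻¹ = s ∧ s zc ≠ 1 := by
    have hz1 : zc ≠ 1 := fun e => by
      have hz := h.zord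
      rw [show z = 1 from congrArg Subtype.val e, orderOf_one] at hz
      exact absurd hz (by norm_num)
    obtain ⟨l0, hl0⟩ := hsep zc hz1
    have hl2 : l0 zc * l0 zc = 1 := by rw [← map_mul, hzc2, map_one]
    refine ⟨l0 ^ q, MonoidHom.ext fun c => ?_, ?_⟩
    · rw [MonoidHom.inv_apply, inv_eq_iff_mul_eq_one]
      show l0 c ^ q * l0 c ^ q = 1
      rw [← map_pow, ← map_mul, hC2q, map_one]
    · show l0 zc ^ q ≠ 1
      obtain ⟨k, hk⟩ := h.q_odd
      rw [hq, hk, pow_succ, pow_mul, pow_two, hl2, one_pow, one_mul]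
      exact hl0
  have hszz : s zc * s zc = 1 := by rw [← map_mul, hzc2, map_one]
  -- characters trivial on `z`
  let Lp : Finset (C →* ℂˣ) := Finset.univ.filter fun l => l zc = 1
  have memLp : ∀ l, l ∈ Lp ↔ l zc = 1 := fun l => by simp [Lp]
  have hpm : ∀ l : C →* ℂˣ, l zc ≠ 1 → (s * l) zc = 1 := by
    intro l hl
    have h1 : ∀ u : ℂˣ, u * u = 1 → u = 1 ∨ u = -1 := fun u hu => by
      have : (u : ℂ) * u = 1 := by rw [← Units.val_mul, hu, Units.val_one]
      rcases mul_self_eq_one_iff.1 this with e | e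
      · exact Or.inl (Units.ext e)
      · exact Or.inr (Units.ext (by simpa using e))
    have e1 := (h1 _ (by rw [← map_mul, hzc2, map_one] : l zc * l zc = 1)).resolve_left hl
    have e2 := (h1 _ hszz).resolve_left hsz
    rw [MonoidHom.mul_apply, e1, e2, neg_one_mul, neg_neg]
  have hsl : ∀ l : C →* ℂˣ, s * (s * l) = l := fun l => MonoidHom.ext fun c => by
    rw [MonoidHom.mul_apply, MonoidHom.mul_apply, ← mul_assoc]
    have : s c * s c = 1 := by
      rw [← eq_inv_iff_mul_eq_one, ← MonoidHom.inv_apply, hs2]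
    rw [this, one_mul]
  have hsplit : ∀ g : (C →* ℂˣ) → ℂ, ∑ l, g l = ∑ l ∈ Lp, (g l + g (s * l)) := by
    intro g
    rw [Finset.sum_add_distrib, ← Finset.sum_filter_add_sum_filter_not Finset.univ (fun l => l zc = 1)]
    congr 1
    refine Finset.sum_bij' (fun l _ => s * l) (fun l _ => s * l) (fun l hl => ?_) (fun l hl => ?_)
      (fun l _ => hsl l) (fun l _ => hsl l) (fun l _ => by rw [hsl l])
    · exact (memLp _).2 (hpm l (Finset.mem_filter.1 hl).2)
    · refine Finset.mem_filter.2 ⟨Finset.mem_univ _, ?_⟩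
      rw [MonoidHom.mul_apply, (memLp l).1 hl, mul_one]
      exact hsz
  have hLp : Lp.card = q := by
    have := hsplit (fun _ => 1)
    simp only [Finset.sum_const, Finset.card_univ, nsmul_eq_mul, mul_one] at this
    have h' : Fintype.card (C →* ℂˣ) = Lp.card + Lp.card := by
      have h2 : ((Fintype.card (C →* ℂˣ) : ℕ) : ℂ) = ((Lp.card + Lp.card : ℕ) : ℂ) := by
        push_cast; rw [this]; ring
      exact_mod_cast h2
    rw [← Nat.card_eq_fintype_card, hLcard] at h'
    omega
  -- no non-trivial member of `Lp` is its own inverse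
  have hinv : ∀ l ∈ Lp, l ≠ 1 → l⁻¹ ≠ l := by
    intro l hl hl1 e
    refine hl1 (MonoidHom.ext fun c => ?_)
    have h1 := hcq l ((memLp l).1 hl) c
    have h2 : l c * l c = 1 := by rw [← eq_inv_iff_mul_eq_one, ← MonoidHom.inv_apply, e]
    obtain ⟨k, hk⟩ := h.q_odd
    rw [hq, hk, pow_succ, pow_mul, pow_two, h2, one_pow, one_mul] at h1
    exact h1
  have hinvmem : ∀ l ∈ Lp, l⁻¹ ∈ Lp := fun l hl => (memLp _).2 (by rw [MonoidHom.inv_apply, (memLp l).1 hl, inv_one])
  -- inner products
  have horth : ∀ l m : C →* ℂˣ, classInner (fun c => (l c : ℂ)) (fun c => (m c : ℂ)) = (dd l m : ℂ) :=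
    fun l m => linear_orth l m
  have hvan : ∀ l m : C →* ℂˣ, l zc = m zc → ∀ c : C, c * c = 1 → (l c : ℂ) - (m c : ℂ) = 0 := by
    intro l m hlm c hc
    rcases hsqC c hc with rfl | rfl
    · simp
    · rw [hlm, sub_self]
  have hinner : ∀ l m l' m' : C →* ℂˣ, l zc = m zc →
      classInner (psi P l m) (psi P l' m') =
        ((dd l l' - dd l m' - dd m l' + dd m m') + (dd l l'⁻¹ - dd l m'⁻¹ - dd m l'⁻¹ + dd m m'⁻¹) : ℤ) := by
    intro l m l' m' hlm
    rw [psi, psi, ind_inner h _ _ (hvan l m hlm)]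
    have e : (fun a : C => ((l' a⁻¹ : ℂˣ) : ℂ) - (m' a⁻¹ : ℂ)) =
        (fun a : C => ((l'⁻¹) a : ℂ)) - fun a : C => ((m'⁻¹) a : ℂ) := by
      funext a; simp [MonoidHom.inv_apply, map_inv]
    have e1 : ∀ u v : C →* ℂˣ, (fun c : C => (u c : ℂ) - (v c : ℂ)) =
        (fun c : C => (u c : ℂ)) - fun c : C => (v c : ℂ) := fun u v => rfl
    rw [e, e1, e1, classInner_sub_left, classInner_sub_right, classInner_sub_right, classInner_sub_left,
      classInner_sub_right, classInner_sub_right, horth, horth, horth, horth, horth, horth, horth, horth]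
    push_cast
    ring
  have hone : ∀ l m : C →* ℂˣ, classInner (psi P l m) (oneChar : IrrCharacter G) = ((dd l 1 - dd m 1 : ℤ) : ℂ) := by
    intro l m
    show classInner (psi P l m) (fun _ : G => (1 : ℂ)) = _
    rw [psi, frobenius C _ (fun _ _ => rfl),
      show (fun _ : C => (1 : ℂ)) = fun c : C => (((1 : C →* ℂˣ) c : ℂˣ) : ℂ) from funext fun c => by simp,
      show (fun c : C => (l c : ℂ) - (m c : ℂ)) = (fun c : C => (l c : ℂ)) - fun c : C => (m c : ℂ) from rfl,
      classInner_sub_left, horth, horth]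
    push_cast; rfl
  have hii : ∀ l : C →* ℂˣ, l⁻¹⁻¹ = l := fun l => MonoidHom.ext fun c => inv_inv (l c)
  have hij : ∀ {l m : C →* ℂˣ}, l⁻¹ = m⁻¹ → l = m := fun {l m} e => by rw [← hii l, e, hii]
  have h1inv : (1 : C →* ℂˣ)⁻¹ = 1 := MonoidHom.ext fun _ => inv_one
  have hi1 : ∀ l : C →* ℂˣ, l⁻¹ = 1 → l = 1 := fun l e => by rw [← hii l, e, h1inv]
  have hne : ∀ l : C →* ℂˣ, l ≠ 1 → l⁻¹ ≠ 1 := fun l hl e => hl (hi1 l e)
  have hm1 : ∀ l : C →* ℂˣ, l * 1 = l := fun l => MonoidHom.ext fun c => mul_one (l c)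
  have hmi : ∀ l m : C →* ℂˣ, (l * m)⁻¹ = l⁻¹ * m⁻¹ := fun l m =>
    MonoidHom.ext fun c => mul_inv (l c) (m c)
  have hcan : ∀ u l m : C →* ℂˣ, u * l = u * m → l = m := fun u l m e =>
    MonoidHom.ext fun c => mul_left_cancel (DFunLike.congr_fun e c : u c * l c = u c * m c)
  -- representatives of the inverse pairs
  let e0 : (C →* ℂˣ) ≃ Fin (Fintype.card (C →* ℂˣ)) := Fintype.equivFin _
  let R : Finset (C →* ℂˣ) := Lp.filter fun l => l ≠ 1 ∧ e0 l < e0 l⁻¹
  have hRcov : ∀ l ∈ Lp, l ≠ 1 → l ∈ R ∨ l⁻¹ ∈ R := by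
    intro l hl hl1
    rcases lt_trichotomy (e0 l) (e0 l⁻¹) with hlt | heq | hgt
    · exact Or.inl (Finset.mem_filter.2 ⟨hl, hl1, hlt⟩)
    · exact absurd (e0.injective heq).symm (hinv l hl hl1)
    · exact Or.inr (Finset.mem_filter.2 ⟨hinvmem l hl, hne l hl1, by rw [hii]; exact hgt⟩)
  have hw4 : 4 ≤ R.card := by
    have hsub : Lp ⊆ insert 1 (R ∪ R.image (fun l => l⁻¹)) := by
      intro l hl
      by_cases hl1 : l = 1
      · subst hl1; exact Finset.mem_insert_self _ _
      refine Finset.mem_insert_of_mem (Finset.mem_union.2 ?_)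
      exact (hRcov l hl hl1).imp id fun h' => Finset.mem_image.2 ⟨_, h', hii l⟩
    have h1 := (Finset.card_le_card hsub).trans (Finset.card_insert_le _ _)
    have h2 := (Finset.card_union_le R (R.image fun l => l⁻¹)).trans
      (Nat.add_le_add le_rfl Finset.card_image_le)
    have h9 : 9 ≤ q := by
      rw [hqa, show (9 : ℕ) = 3 ^ 2 by norm_num]
      exact Nat.pow_le_pow_right (by norm_num) ha2
    rw [hLp] at h1
    omega
  set w := R.card with hw
  let E : R ≃ Fin w := R.equivFin
  let rep : Fin w → (C →* ℂˣ) := fun i => (E.symm i).1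
  have hrep : ∀ i, rep i ∈ Lp ∧ rep i ≠ 1 ∧ e0 (rep i) < e0 (rep i)⁻¹ := fun i =>
    Finset.mem_filter.1 (E.symm i).2
  have hrepinj : Function.Injective rep := fun i k e => E.symm.injective (Subtype.ext e)
  have hrepinv : ∀ i k, rep i ≠ (rep k)⁻¹ := by
    intro i k e
    have h1 := (hrep i).2.2
    rw [e, hii] at h1
    exact lt_irrefl _ (h1.trans (hrep k).2.2)
  let Φ : Fin w → G → ℂ := fun i => psi P 1 (rep i)
  have hz1 : ∀ l ∈ Lp, (1 : C →* ℂˣ) zc = l zc := fun l hl => by rw [(memLp l).1 hl, MonoidHom.one_apply]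
  have hgram : ∀ i k, classInner (Φ i) (Φ k) = if i = k then 3 else 2 := by
    intro i k
    rw [hinner 1 (rep i) 1 (rep k) (hz1 _ (hrep i).1), h1inv, dd_self, dd_ne (Ne.symm (hrep k).2.1),
      dd_ne (hrep i).2.1, dd_ne (hne _ (hrep k).2.1).symm, dd_ne (hrepinv i k)]
    split_ifs with hik
    · rw [hik, dd_self]; norm_num
    · rw [dd_ne (fun e => hik (hrepinj e))]; norm_num
  let i₀ : Fin w := ⟨0, by omega⟩
  have hdeg : ∀ i, Φ i 1 = 0 := fun i => by
    show psi P 1 (rep i) 1 = 0
    rw [psi, indFun_one]; simp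
  obtain ⟨εc, hεc, μc, hμirr, hμinj, hτ⟩ := exists_exceptional (G := G) w i₀ (fun i => Φ i₀ - Φ i)
    (sub_self _) (fun i => by
      refine ⟨indFun C (fun a => (rep i a : ℂ)), indFun C (fun a => (rep i₀ a : ℂ)),
        isCharacter_indFun C (isCharacter_linear _), isCharacter_indFun C (isCharacter_linear _), ?_⟩
      show indFun C _ - indFun C _ = _
      rw [← indFun_sub, ← indFun_sub]
      congr 1
      funext c
      simp) (fun i => by rw [Pi.sub_apply, hdeg, hdeg, sub_zero]) (fun i k hi hk => by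
      rw [classInner_sub_left, classInner_sub_right, classInner_sub_right, hgram, hgram, hgram, hgram,
        if_pos rfl, if_neg (Ne.symm hk), if_neg hi]
      split_ifs <;> norm_num)
  obtain ⟨ε, hε, rfl⟩ : ∃ ε : ℤ, (ε = 1 ∨ ε = -1) ∧ (ε : ℂ) = εc := by
    rcases hεc with e | e
    · exact ⟨1, Or.inl rfl, by rw [e]; simp⟩
    · exact ⟨-1, Or.inr rfl, by rw [e]; simp⟩
  let μ : Fin w → IrrCharacter G := fun i => ⟨μc i, hμirr i⟩
  have hμinj' : Function.Injective μ := fun i k e => hμinj (congrArg Subtype.val e)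
  obtain ⟨z₀, hz₀, hz₀c⟩ := exists_int_coords (psi_gen (P := P) 1 (rep i₀))
  let r : IrrCharacter G → ℤ := fun Z => z₀ Z + ε * dd Z (μ i₀)
  have hdd : ∀ (Y Z : IrrCharacter G), classInner (Z : G → ℂ) (Y : G → ℂ) = (dd Y Z : ℂ) := by
    intro Y Z
    rw [irrC_orth]
    by_cases e : Z = Y
    · rw [if_pos e, e, dd_self, Int.cast_one]
    · rw [if_neg e, dd_ne (Ne.symm e), Int.cast_zero]
  have hcoef : ∀ i (Z : IrrCharacter G), classInner (Φ i) (Z : G → ℂ) = ((r Z - ε * dd Z (μ i) : ℤ) : ℂ) := by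
    intro i Z
    have h1 : Φ i = Φ i₀ - (ε : ℂ) • ((μ i : G → ℂ) - (μ i₀ : G → ℂ)) := by rw [← hτ i]; abel
    rw [h1, classInner_sub_left, classInner_smul_left, classInner_sub_left, hz₀c, hdd, hdd]
    simp only [r]
    push_cast
    ring
  have hexp : ∀ i, Φ i = ∑ Z, ((r Z - ε * dd Z (μ i) : ℤ) : ℂ) • (Z : G → ℂ) := by
    intro i
    obtain ⟨c, hc, hcc⟩ := exists_int_coords (psi_gen (P := P) 1 (rep i))
    rw [show Φ i = _ from hc]
    refine Finset.sum_congr rfl fun Z _ => ?_
    rw [← hcoef i Z, hcc]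
  have hnorm : ∀ i, ∑ Z, (r Z - ε * dd Z (μ i)) ^ 2 = 3 := by
    intro i
    have h1 := classInner_int_combination (hexp i)
    rw [hgram, if_pos rfl] at h1
    have h2 : ((3 : ℤ)) = ∑ Z, (r Z - ε * dd Z (μ i)) * (r Z - ε * dd Z (μ i)) := by exact_mod_cast h1
    rw [h2]
    exact Finset.sum_congr rfl fun Z _ => by ring
  have hr1 : ∀ i, r oneChar - ε * dd oneChar (μ i) = 1 := by
    intro i
    have h1 := hcoef i oneChar
    rw [hone, dd_self, dd_ne (hrep i).2.1] at h1
    have h2 : ((1 : ℤ) : ℂ) = ((r oneChar - ε * dd oneChar (μ i) : ℤ) : ℂ) := by rw [← h1]; simp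
    exact_mod_cast h2.symm
  have hμ1 : ∀ i, μ i ≠ oneChar := by
    intro i e
    haveI : Nontrivial (Fin w) := Fin.nontrivial_iff_two_le.2 (by omega)
    obtain ⟨k, hk⟩ := exists_ne i
    have h1 := hr1 i
    have h2 := hr1 k
    rw [e, dd_self] at h1
    rw [dd_ne (fun e' => hk (hμinj' (e'.symm.trans e.symm)))] at h2
    rcases hε with e' | e' <;> rw [e'] at h1 h2 <;> omega
  have hrone : r oneChar = 1 := by
    have := hr1 i₀
    rw [dd_ne (Ne.symm (hμ1 i₀)), mul_zero, sub_zero] at this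
    exact this
  -- `r` is constant on the family, hence zero
  have hrconst : ∀ k, r (μ k) = r (μ i₀) := by
    intro k
    by_cases hk : k = i₀
    · rw [hk]
    have h1 : classInner (Φ i₀) (Φ i₀ - Φ k) = ((1 : ℤ) : ℂ) := by
      rw [classInner_sub_right, hgram, hgram, if_pos rfl, if_neg (Ne.symm hk)]; norm_num
    rw [show Φ i₀ - Φ k = (ε : ℂ) • ((μ k : G → ℂ) - (μ i₀ : G → ℂ)) from hτ k, classInner_smul_right,
      classInner_sub_right, hcoef, hcoef, map_intCast, dd_ne (fun e => hk (hμinj' e)), dd_self] at h1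
    have h2 : ε * ((r (μ k) - ε * 0) - (r (μ i₀) - ε * 1)) = 1 := by exact_mod_cast h1
    rcases hε with e | e <;> rw [e] at h2 <;> omega
  have hrzero : ∀ k, r (μ k) = 0 := by
    intro k
    rw [hrconst k]
    by_contra hb
    let S : Finset (IrrCharacter G) := insert oneChar ((Finset.univ.erase i₀).image μ)
    have hmem : ∀ Z ∈ S, (1 : ℤ) ≤ (r Z - ε * dd Z (μ i₀)) ^ 2 := by
      intro Z hZ
      rw [pow_two]
      refine (zero_add (1 : ℤ)).symm.le.trans (Int.add_one_le_iff.2 (mul_self_pos.2 ?_))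
      rcases Finset.mem_insert.1 hZ with rfl | hZ
      · rw [hr1 i₀]; exact one_ne_zero
      obtain ⟨j, hj, rfl⟩ := Finset.mem_image.1 hZ
      rw [dd_ne (fun e => Finset.ne_of_mem_erase hj (hμinj' e)), mul_zero, sub_zero, hrconst j]
      exact hb
    have hcardS : w ≤ S.card := by
      rw [Finset.card_insert_of_notMem (fun e => by
        obtain ⟨j, -, hj⟩ := Finset.mem_image.1 e
        exact hμ1 j hj), Finset.card_image_of_injective _ hμinj', Finset.card_erase_of_mem (Finset.mem_univ _),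
        Finset.card_univ, Fintype.card_fin]
      omega
    have h1 := Finset.card_nsmul_le_sum _ _ _ hmem
    have h2 := Finset.sum_le_univ_sum_of_nonneg (s := S)
      (f := fun Z => (r Z - ε * dd Z (μ i₀)) ^ 2) (fun Z => sq_nonneg _)
    rw [hnorm i₀] at h2
    rw [nsmul_one] at h1
    have h3 : (w : ℤ) ≤ (S.card : ℤ) := by exact_mod_cast hcardS
    omega
  -- the extra character
  have hsum2 : ∑ Z, r Z ^ 2 = 2 := by
    have h1 := hnorm i₀
    have h2 : ∀ Z, (r Z - ε * dd Z (μ i₀)) ^ 2 = r Z ^ 2 + dd Z (μ i₀) := by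
      intro Z
      by_cases e : Z = μ i₀
      · rw [e, dd_self, hrzero]
        rcases hε with e' | e' <;> rw [e'] <;> norm_num
      · rw [dd_ne e]; ring
    rw [Finset.sum_congr rfl fun Z _ => h2 Z, Finset.sum_add_distrib] at h1
    have h3 : ∑ Z, dd Z (μ i₀) = 1 := by
      rw [Finset.sum_eq_single (μ i₀)]
      · exact dd_self _
      · intro b _ hb; exact dd_ne hb
      · simp
    omega
  obtain ⟨Y, hY1, hYr, hYelse⟩ : ∃ Y : IrrCharacter G, Y ≠ oneChar ∧ (r Y = 1 ∨ r Y = -1) ∧
      ∀ Z, Z ≠ oneChar → Z ≠ Y → r Z = 0 := by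
    rw [← Finset.add_sum_erase _ _ (Finset.mem_univ oneChar), hrone] at hsum2
    obtain ⟨Y, hYm, hY0⟩ := Finset.exists_ne_zero_of_sum_ne_zero
      (show ∑ Z ∈ Finset.univ.erase oneChar, r Z ^ 2 ≠ 0 by omega)
    rw [← Finset.add_sum_erase _ _ hYm] at hsum2
    have hpos : 1 ≤ r Y ^ 2 := by
      have := sq_nonneg (r Y); omega
    have hrest : 0 ≤ ∑ Z ∈ (Finset.univ.erase oneChar).erase Y, r Z ^ 2 :=
      Finset.sum_nonneg fun Z _ => sq_nonneg _
    refine ⟨Y, Finset.ne_of_mem_erase hYm, sq_eq_one_iff.1 (by omega), fun Z hZ1 hZY => ?_⟩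
    have h1 := (Finset.sum_eq_zero_iff_of_nonneg (fun Z _ => sq_nonneg (r Z))).1
      (show ∑ Z ∈ (Finset.univ.erase oneChar).erase Y, r Z ^ 2 = 0 by omega) Z
      (Finset.mem_erase.2 ⟨hZY, Finset.mem_erase.2 ⟨hZ1, Finset.mem_univ _⟩⟩)
    exact (pow_eq_zero_iff two_ne_zero).1 h1
  set η := r Y with hη
  have hYμ : ∀ i, Y ≠ μ i := fun i e => by
    have := hrzero i
    rw [← e, ← hη] at this
    omega
  have hdecomp : ∀ i (f : IrrCharacter G → ℤ),
      ∑ Z, (r Z - ε * dd Z (μ i)) * f Z = f oneChar + η * f Y - ε * f (μ i) := by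
    intro i f
    rw [Finset.sum_eq_add_sum_sdiff_singleton_of_mem (Finset.mem_univ oneChar) fun Z => (r Z - ε * dd Z (μ i)) * f Z]
    rw [Finset.sum_eq_add_sum_sdiff_singleton_of_mem (i := Y) (by simp [hY1]) fun Z => (r Z - ε * dd Z (μ i)) * f Z]
    rw [Finset.sum_eq_single (μ i)]
    · rw [hr1 i, dd_self, hrzero, dd_ne (hYμ i), ← hη]; ring
    · intro Z hZ hZi
      simp only [Finset.mem_sdiff, Finset.mem_singleton] at hZ
      rw [hYelse Z hZ.1.2 hZ.2, dd_ne hZi]; ring
    · intro e
      exact absurd (by simp [hμ1 i, Ne.symm (hYμ i)]) e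
  -- degree relation
  obtain ⟨x, hx⟩ : ∃ x : ℕ, deg (μ i₀ : G → ℂ) = x := ⟨_, rfl⟩
  obtain ⟨y, hy⟩ : ∃ y : ℕ, deg (Y : G → ℂ) = y := ⟨_, rfl⟩
  have hdegrel : (1 : ℤ) + η * y - ε * x = 0 := by
    have h1 : Φ i₀ 1 = ((∑ Z, (r Z - ε * dd Z (μ i₀)) * (deg (Z : G → ℂ) : ℤ) : ℤ) : ℂ) := by
      rw [hexp i₀, Finset.sum_apply, Int.cast_sum]
      refine Finset.sum_congr rfl fun Z _ => ?_
      rw [Pi.smul_apply, smul_eq_mul, char_one_eq_deg (irr_isCharacter Z.2), Int.cast_mul, Int.cast_natCast]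
    rw [hdeg, hdecomp, hx, hy] at h1
    have hd1 : deg (oneChar : IrrCharacter G).1 = 1 := by
      have := char_one_eq_deg (irr_isCharacter (oneChar : IrrCharacter G).2)
      rw [show (oneChar : IrrCharacter G).1 1 = 1 from rfl] at this
      exact_mod_cast this.symm
    rw [hd1] at h1
    push_cast at h1
    exact_mod_cast h1.symm
  have hy2 : 2 ≤ y := by
    have h1 : 0 < y := hy ▸ deg_pos Y.2
    by_contra hno
    obtain ⟨l, hl⟩ := exists_hom_of_degree_one (irr_isCharacter Y.2)
      (by rw [char_one_eq_deg (irr_isCharacter Y.2), hy, show y = 1 by omega, Nat.cast_one])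
    refine hY1 (Subtype.ext ?_)
    funext g
    have hg : g ∈ l.ker := Abelianization.commutator_subset_ker l (hperf.ge (Subgroup.mem_top g))
    show (Y : G → ℂ) g = 1
    rw [hl]
    simp [MonoidHom.mem_ker.1 hg]
  -- restrictions to `C`
  have hrest : ∀ Z : IrrCharacter G, ∃ m : (C →* ℂˣ) → ℤ,
      (fun c : C => (Z : G → ℂ) c) = ∑ l : C →* ℂˣ, ((m l : ℂ) • fun c => (l c : ℂ)) ∧
      (∀ l, classInner (fun c : C => (Z : G → ℂ) c) (fun c => (l c : ℂ)) = m l) ∧
      ∀ l l', classInner (psi P l l') (Z : G → ℂ) = ((m l - m l' : ℤ) : ℂ) := by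
    intro Z
    have hf : IsCharacter C (fun c : C => (Z : G → ℂ) c) := isCharacter_comp C.subtype (irr_isCharacter Z.2)
    have hm : ∀ l : C →* ℂˣ, ∃ k : ℤ, classInner (fun c : C => (Z : G → ℂ) c) (fun c => (l c : ℂ)) = k := fun l => by
      obtain ⟨k, hk⟩ := classInner_natCast hf (isCharacter_linear l)
      exact ⟨k, by rw [hk]; simp⟩
    choose m hm using hm
    refine ⟨m, ?_, hm, fun l l' => ?_⟩
    · have hall : ∀ χ : IrrCharacter C, (χ : C → ℂ) 1 = 1 :=
        forall_linear_iff_comm.1 (fun u v => Subtype.ext (h.C_comm u.2 v.2))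
      rw [classFun_expansion (f := fun c : C => (Z : G → ℂ) c) (isClassFunction_character hf)]
      refine (Fintype.sum_equiv (linearEquiv.trans (Equiv.subtypeUnivEquiv hall)) _ _ fun l => ?_).symm
      show (m l : ℂ) • (fun c => (l c : ℂ)) = _
      rw [← hm l]
      rfl
    · rw [psi, frobenius C _ (isClassFunction_character (irr_isCharacter Z.2)),
        show (fun c : C => (l c : ℂ) - (l' c : ℂ)) = (fun c : C => (l c : ℂ)) - fun c : C => (l' c : ℂ) from rfl,
        classInner_sub_left, ← classInner_symm _ (fun c : C => (l c : ℂ)),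
        ← classInner_symm _ (fun c : C => (l' c : ℂ)), hm, hm, map_intCast, map_intCast]
      push_cast; rfl
  obtain ⟨mY, hmYexp, -, hmY⟩ := hrest Y
  obtain ⟨mX, hmXexp, -, hmX⟩ := hrest (μ i₀)
  -- the inverse gives the same induced function
  have hpsinv : ∀ l ∈ Lp, l ≠ 1 → psi P 1 l⁻¹ = psi P 1 l := by
    intro l hl hl1
    have h1 : classInner (psi P 1 l⁻¹ - psi P 1 l) (psi P 1 l⁻¹ - psi P 1 l) = 0 := by
      rw [classInner_sub_left, classInner_sub_right, classInner_sub_right,
        hinner _ _ _ _ (hz1 _ (hinvmem l hl)), hinner _ _ _ _ (hz1 _ (hinvmem l hl)),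
        hinner _ _ _ _ (hz1 _ hl), hinner _ _ _ _ (hz1 _ hl), h1inv, hii, dd_self,
        dd_ne (hne l hl1), dd_ne (hne l hl1).symm, dd_ne hl1, dd_ne (Ne.symm hl1),
        dd_self, dd_self, dd_ne (hinv l hl hl1), dd_ne (hinv l hl hl1).symm]
      push_cast
      ring
    exact sub_eq_zero.1 (classInner_self_eq_zero h1)
  have hcl : ∀ l ∈ Lp, l ≠ 1 → ∃ i, psi P 1 l = Φ i ∧ (l = rep i ∨ l = (rep i)⁻¹) := by
    intro l hl hl1
    rcases hRcov l hl hl1 with h' | h'
    · refine ⟨E ⟨l, h'⟩, ?_, Or.inl ?_⟩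
      · show psi P 1 l = psi P 1 (rep _)
        simp [rep]
      · simp [rep]
    · refine ⟨E ⟨l⁻¹, h'⟩, ?_, Or.inr ?_⟩
      · show psi P 1 l = psi P 1 (rep _)
        simp [rep, hpsinv l hl hl1]
      · simp [rep, hii]
  have hplus : ∀ l ∈ Lp, l ≠ 1 → (mY 1 - mY l = η) ∧
      (mX 1 - mX l = -(ε * (if l = rep i₀ ∨ l = (rep i₀)⁻¹ then 1 else 0))) := by
    intro l hl hl1
    obtain ⟨i, hi, hli⟩ := hcl l hl hl1
    have h1 := hmY 1 l
    have h2 := hmX 1 l
    rw [hi, hcoef] at h1 h2
    have h1' : r Y - ε * dd Y (μ i) = mY 1 - mY l := by exact_mod_cast h1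
    have h2' : r (μ i₀) - ε * dd (μ i₀) (μ i) = mX 1 - mX l := by exact_mod_cast h2
    rw [dd_ne (hYμ i), ← hη] at h1'
    refine ⟨by omega, ?_⟩
    rw [hrzero] at h2'
    by_cases e : i = i₀
    · subst e
      rw [dd_self] at h2'
      rw [if_pos hli]
      omega
    · rw [dd_ne (fun e' => e (hμinj' e').symm)] at h2'
      rw [if_neg (fun h' => ?_)]
      · omega
      rcases hli with rfl | rfl <;> rcases h' with h' | h'
      · exact e (hrepinj h')
      · exact hrepinv _ _ h'
      · exact hrepinv _ _ h'.symm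
      · exact e (hrepinj (hij h'))
  -- the other coset of characters
  have hminus : ∀ l ∈ Lp, mY (s * l) = mY s ∧ mX (s * l) = mX s := by
    intro l hl
    by_cases hl1 : l = 1
    · rw [hl1, hm1]; exact ⟨rfl, rfl⟩
    have hsz' : s zc = (s * l) zc := by rw [MonoidHom.mul_apply, (memLp l).1 hl, mul_one]
    have hne0 : ∀ u : C →* ℂˣ, u zc = 1 → s ≠ u := fun u hu e => hsz (by rw [e]; exact hu)
    have hsl1 : s * l ≠ s := fun e => hl1 (hcan _ _ _ (e.trans (hm1 s).symm))
    have hne1 : ∀ u : C →* ℂˣ, u zc = 1 → s * l ≠ u := fun u hu e => hsz (by rw [hsz', e]; exact hu)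
    obtain ⟨d, hd, hdc⟩ := exists_int_coords (psi_gen (P := P) s (s * l))
    have hd1 : d oneChar = 0 := by
      have h1 := hone s (s * l)
      rw [hdc, dd_ne (hne0 1 (by rw [MonoidHom.one_apply])), dd_ne (hne1 1 (by rw [MonoidHom.one_apply]))] at h1
      exact_mod_cast h1
    have hcross : ∀ i, η * d Y - ε * d (μ i) = 0 := by
      intro i
      have hzi : (rep i) zc = 1 := (memLp _).1 (hrep i).1
      have h1 : classInner (Φ i) (psi P s (s * l)) = 0 := by
        rw [hinner 1 (rep i) s (s * l) (hz1 _ (hrep i).1)]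
        have e1 : (s * l)⁻¹ = s * l⁻¹ := by rw [hmi, hs2]
        have hl' : (l⁻¹ : C →* ℂˣ) zc = 1 := by rw [MonoidHom.inv_apply, (memLp l).1 hl, inv_one]
        have hne2 : ∀ u : C →* ℂˣ, u zc = 1 → s * l⁻¹ ≠ u := fun u hu e => hsz (by
          have : (s * l⁻¹) zc = s zc := by rw [MonoidHom.mul_apply, hl', mul_one]
          rw [← this, e]; exact hu)
        rw [hs2, e1, dd_ne (hne0 1 (by rw [MonoidHom.one_apply])).symm,
          dd_ne (hne1 1 (by rw [MonoidHom.one_apply])).symm, dd_ne (hne0 _ hzi).symm, dd_ne (hne1 _ hzi).symm,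
          dd_ne (hne2 1 (by rw [MonoidHom.one_apply])).symm, dd_ne (hne2 _ hzi).symm]
        norm_num
      rw [hexp i, hd, SuzukiCA.inner_expand] at h1
      have h2 : ∑ Z, (r Z - ε * dd Z (μ i)) * d Z = 0 := by exact_mod_cast h1
      rw [hdecomp, hd1, zero_add] at h2
      exact h2
    have hnd : ∑ Z, d Z ^ 2 = 3 := by
      have h1 := classInner_int_combination hd
      rw [hinner s (s * l) s (s * l) hsz'] at h1
      have e1 : (s * l)⁻¹ = s * l⁻¹ := by rw [hmi, hs2]
      have hll : s * l⁻¹ ≠ s * l := fun e => hinv l hl hl1 (hcan _ _ _ e)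
      have hls : s * l⁻¹ ≠ s := fun e => hl1 (hi1 _ (hcan _ _ _ (e.trans (hm1 s).symm)))
      rw [hs2, e1, dd_self, dd_self, dd_ne hsl1.symm, dd_ne hsl1, dd_ne hls.symm, dd_ne hll.symm] at h1
      have h2 : ((1 : ℤ) - 0 - 0 + 1 + (1 - 0 - 0 + 0)) = ∑ Z, d Z * d Z := by exact_mod_cast h1
      rw [show (3 : ℤ) = (1 : ℤ) - 0 - 0 + 1 + (1 - 0 - 0 + 0) by norm_num, h2]
      exact Finset.sum_congr rfl fun Z _ => by ring
    have hdY : d Y = 0 := by
      by_contra hdY
      let S : Finset (IrrCharacter G) := insert Y (Finset.univ.image μ)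
      have hmem : ∀ Z ∈ S, (1 : ℤ) ≤ d Z ^ 2 := by
        intro Z hZ
        rw [pow_two]
        refine (zero_add (1 : ℤ)).symm.le.trans (Int.add_one_le_iff.2 (mul_self_pos.2 ?_))
        rcases Finset.mem_insert.1 hZ with rfl | hZ
        · exact hdY
        obtain ⟨j, -, rfl⟩ := Finset.mem_image.1 hZ
        intro h0
        have := hcross j
        rw [h0] at this
        rcases hYr with e | e <;> rw [e] at this <;> omega
      have h1 := Finset.card_nsmul_le_sum _ _ _ hmem
      have h2 := Finset.sum_le_univ_sum_of_nonneg (s := S) (f := fun Z => d Z ^ 2) (fun Z => sq_nonneg _)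
      rw [hnd] at h2
      rw [nsmul_one, Finset.card_insert_of_notMem (fun e => by
        obtain ⟨j, -, hj⟩ := Finset.mem_image.1 e
        exact hYμ j hj.symm), Finset.card_image_of_injective _ hμinj', Finset.card_univ, Fintype.card_fin] at h1
      push_cast at h1
      omega
    have h1 := hmY s (s * l)
    have h2 := hmX s (s * l)
    rw [hdc] at h1 h2
    have h1' : d Y = mY s - mY (s * l) := by exact_mod_cast h1
    have h2' : d (μ i₀) = mX s - mX (s * l) := by exact_mod_cast h2
    have h3 := hcross i₀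
    rw [hdY] at h3
    have h4 : d (μ i₀) = 0 := by rcases hε with e | e <;> rw [e] at h3 <;> omega
    exact ⟨by omega, by omega⟩
  -- the congruence for `y`
  have hmod : (q : ℤ) ∣ (y : ℤ) - η := by
    have h1 : (y : ℂ) = ∑ l : C →* ℂˣ, (mY l : ℂ) := by
      have := congrFun hmYexp 1
      simp only [Finset.sum_apply, Pi.smul_apply, map_one, Units.val_one, smul_eq_mul, mul_one] at this
      rw [← this, ← hy, ← char_one_eq_deg (irr_isCharacter Y.2)]
      rfl
    rw [hsplit] at h1
    have h2 : (y : ℤ) = ∑ l ∈ Lp, (mY l + mY (s * l)) := by exact_mod_cast h1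
    have h1mem : (1 : C →* ℂˣ) ∈ Lp := (memLp 1).2 rfl
    rw [← Finset.add_sum_erase _ _ h1mem, Finset.sum_congr rfl (g := fun _ => mY 1 - η + mY s) fun l hl => by
      obtain ⟨hl1, hlm⟩ := Finset.mem_erase.1 hl
      rw [(hminus l hlm).1]
      have := (hplus l hlm hl1).1
      omega, Finset.sum_const, Finset.card_erase_of_mem h1mem, hLp, hm1, nsmul_eq_mul] at h2
    refine ⟨mY 1 + mY s - η, ?_⟩
    have hq1 : 1 ≤ q := Nat.card_pos
    push_cast [hq1] at h2
    rw [h2]
    ring
  -- values of the exceptional character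
  have hval : ∀ c : C, c * c ≠ 1 →
      ((μ i₀ : G → ℂ) c) = (ε : ℂ) * ((rep i₀ c : ℂ) + (((rep i₀)⁻¹) c : ℂ)) := by
    intro c hc
    have h1 := congrFun hmXexp c
    simp only [Finset.sum_apply, Pi.smul_apply, smul_eq_mul] at h1
    rw [h1, hsplit]
    have hsum0 : ∑ l ∈ Lp, (l c : ℂ) = 0 := by
      obtain ⟨l0, hl0⟩ := hsep (c * c) hc
      set k := l0 * l0 with hk
      have hkz : k zc = 1 := by rw [hk, MonoidHom.mul_apply, ← map_mul, hzc2, map_one]
      have hkc : (k c : ℂ) ≠ 1 := by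
        rw [hk, MonoidHom.mul_apply, ← map_mul]
        exact fun e => hl0 (Units.ext e)
      have h2 : ∑ l ∈ Lp, (l c : ℂ) = (k c : ℂ) * ∑ l ∈ Lp, (l c : ℂ) := by
        rw [Finset.mul_sum]
        refine Finset.sum_bij' (fun l _ => k⁻¹ * l) (fun l _ => k * l) (fun l hl => ?_) (fun l hl => ?_)
          (fun l _ => MonoidHom.ext fun d => mul_inv_cancel_left (k d) (l d)) (fun l _ => MonoidHom.ext fun d => inv_mul_cancel_left (k d) (l d)) (fun l _ => ?_)
        · exact (memLp _).2 (by rw [MonoidHom.mul_apply, MonoidHom.inv_apply, hkz, (memLp l).1 hl, inv_one, one_mul])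
        · exact (memLp _).2 (by rw [MonoidHom.mul_apply, hkz, (memLp l).1 hl, one_mul])
        · simp
      by_contra hne
      exact hkc (mul_right_cancel₀ hne (by rw [one_mul]; exact h2.symm))
    have hmem0 : rep i₀ ∈ Lp := (hrep i₀).1
    rw [Finset.sum_congr rfl (g := fun l => (mX 1 : ℂ) * (l c : ℂ) + (mX s : ℂ) * (s c : ℂ) * (l c : ℂ) +
      (ε : ℂ) * (if l = rep i₀ ∨ l = (rep i₀)⁻¹ then (l c : ℂ) else 0)) fun l hl => by
      rw [(hminus l hl).2, MonoidHom.mul_apply, Units.val_mul]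
      have e : mX l = mX 1 + ε * (if l = rep i₀ ∨ l = (rep i₀)⁻¹ then 1 else 0) := by
        by_cases hl1 : l = 1
        · subst hl1
          rw [if_neg (by
            rintro (e | e)
            · exact (hrep i₀).2.1 e.symm
            · exact (hrep i₀).2.1 (hi1 _ e.symm))]
          ring
        · have := (hplus l hl hl1).2
          linarith
      rw [e]
      push_cast
      split_ifs <;> ring]
    rw [Finset.sum_add_distrib, Finset.sum_add_distrib, ← Finset.mul_sum, ← Finset.mul_sum, hsum0, mul_zero,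
      mul_zero, zero_add, zero_add, ← Finset.mul_sum, ← Finset.sum_filter]
    congr 1
    rw [show Lp.filter (fun l => l = rep i₀ ∨ l = (rep i₀)⁻¹) = {rep i₀, (rep i₀)⁻¹} by
      ext l
      simp only [Finset.mem_filter, Finset.mem_insert, Finset.mem_singleton]
      exact ⟨fun hh => hh.2, fun hh => ⟨by rcases hh with rfl | rfl; exacts [hmem0, hinvmem _ hmem0], hh⟩⟩,
      Finset.sum_pair (hinv _ hmem0 (hrep i₀).2.1).symm]
  -- the bound `x ^ 2 ≤ 8 n`
  have hxbound : x ^ 2 ≤ 8 * n := by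
    let l₀ := rep i₀
    let F : C → ℂ := (fun c : C => (l₀ c : ℂ)) + fun c : C => ((l₀⁻¹) c : ℂ)
    have hFF : classInner F F = 2 := by
      rw [classInner_add_left, classInner_add_right, classInner_add_right, horth, horth, horth, horth, dd_self,
        dd_self, dd_ne (hinv l₀ (hrep i₀).1 (hrep i₀).2.1), dd_ne (hinv l₀ (hrep i₀).1 (hrep i₀).2.1).symm]
      norm_num
    have hsumF : ∑ c : C, Complex.normSq (F c) = 2 * (2 * (q : ℝ)) := by
      apply Complex.ofReal_injective
      rw [Complex.ofReal_sum]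
      rw [classInner, inv_mul_eq_iff_eq_mul₀ (Nat.cast_ne_zero.2 Nat.card_pos.ne'), h.cardC] at hFF
      rw [Finset.sum_congr rfl fun c _ => (Complex.mul_conj (F c)).symm, hFF]
      push_cast
      ring
    have hF1 : ∀ c : C, c * c = 1 → Complex.normSq (F c) = 4 := by
      intro c hc
      have : l₀ c = 1 := by
        rcases hsqC c hc with rfl | rfl
        · exact map_one _
        · exact (memLp _).1 (hrep i₀).1
      show Complex.normSq ((l₀ c : ℂ) + ((l₀⁻¹) c : ℂ)) = 4
      rw [MonoidHom.inv_apply, this]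
      norm_num
    have hTF : ∑ g : G, (if g ∈ TSet P then Complex.normSq ((μ i₀ : G → ℂ) g) else 0) = 4 * (q : ℝ) - 8 := by
      have hne : (1 : C) ≠ zc := fun e => by
        have hz := h.zord
        rw [show z = 1 from (congrArg Subtype.val e).symm, orderOf_one] at hz
        exact absurd hz (by norm_num)
      have e1 : ∑ g : G, (if g ∈ TSet P then Complex.normSq ((μ i₀ : G → ℂ) g) else 0) =
          ∑ c : C, if c * c = 1 then 0 else Complex.normSq (F c) := by
        rw [← Finset.sum_filter]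
        symm
        rw [Finset.sum_ite, Finset.sum_const_zero, zero_add]
        refine Finset.sum_bij (fun c _ => (c : G)) (fun c hc => ?_) (fun c _ c' _ e => Subtype.ext e)
          (fun g hg => ?_) (fun c hc => ?_)
        · exact Finset.mem_filter.2 ⟨Finset.mem_univ _, c.2, fun e => (Finset.mem_filter.1 hc).2 (Subtype.ext e)⟩
        · obtain ⟨-, hgC, hg2⟩ := Finset.mem_filter.1 hg
          exact ⟨⟨g, hgC⟩, Finset.mem_filter.2 ⟨Finset.mem_univ _, fun e => hg2 (congrArg Subtype.val e)⟩, rfl⟩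
        · rw [hval c (Finset.mem_filter.1 hc).2, map_mul]
          have : Complex.normSq (ε : ℂ) = 1 := by rcases hε with e | e <;> rw [e] <;> norm_num
          rw [this, one_mul]
          rfl
      have e2 : ∑ c : C, Complex.normSq (F c) = (∑ c : C, if c * c = 1 then 0 else Complex.normSq (F c)) + 8 := by
        have e3 : ∀ c : C, Complex.normSq (F c) =
            (if c * c = 1 then 0 else Complex.normSq (F c)) + if c * c = 1 then 4 else 0 := fun c => by
          split_ifs with hc
          · rw [hF1 c hc, zero_add]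
          · rw [add_zero]
        rw [Finset.sum_congr rfl fun c _ => e3 c, Finset.sum_add_distrib, ← Finset.sum_filter]
        congr 1
        rw [show (Finset.univ.filter fun c : C => c * c = 1) = {1, zc} by
          ext c
          simp only [Finset.mem_filter, Finset.mem_univ, true_and, Finset.mem_insert, Finset.mem_singleton]
          exact ⟨hsqC c, fun hh => by rcases hh with rfl | rfl; exacts [mul_one 1, hzc2]⟩,
          Finset.sum_pair hne]
        norm_num
      rw [e1]
      linarith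
    have hsc := InvolCount.sum_conj_set (TSet P) _ (TSet_normal h) (fun s hs g hg => h.fusion hs.1 hs.2 hg.1)
      (fun g => Complex.normSq ((μ i₀ : G → ℂ) g))
      (fun g u => by simp only [isClassFunction_character (irr_isCharacter (μ i₀).2) g u])
    rw [h.cardN, hTF, hG] at hsc
    set T' := ∑ g : G, if ∃ u : G, u⁻¹ * g * u ∈ TSet P then Complex.normSq ((μ i₀ : G → ℂ) g) else 0 with hT'
    have hq0 : (0 : ℝ) < (q : ℝ) := by exact_mod_cast (Nat.card_pos : 0 < Nat.card P)
    have hT'val : T' = (n : ℝ) * (4 * (q : ℝ) - 8) := by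
      push_cast at hsc
      have : 4 * (q : ℝ) * T' = 4 * (q : ℝ) * ((n : ℝ) * (4 * (q : ℝ) - 8)) := by rw [hsc]; ring
      exact mul_left_cancel₀ (by positivity) this
    have hG2 : (Nat.card G : ℝ) = ∑ g : G, Complex.normSq ((μ i₀ : G → ℂ) g) := by
      have e := irr_self (μ i₀).2
      rw [classInner, inv_mul_eq_one₀ (Nat.cast_ne_zero.2 Nat.card_pos.ne')] at e
      apply Complex.ofReal_injective
      rw [Complex.ofReal_natCast, e, Complex.ofReal_sum]
      exact Finset.sum_congr rfl fun g _ => Complex.mul_conj _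
    have h1 : (x : ℝ) ^ 2 + T' ≤ (Nat.card G : ℝ) := by
      rw [hG2, ← Finset.add_sum_erase _ _ (Finset.mem_univ (1 : G)), hT',
        ← Finset.add_sum_erase _ (fun g => if ∃ u : G, u⁻¹ * g * u ∈ TSet P then _ else (0 : ℝ)) (Finset.mem_univ (1 : G))]
      rw [char_one_eq_deg (irr_isCharacter (μ i₀).2), hx, Complex.normSq_natCast, if_neg (fun ⟨u, hu⟩ => hu.2 (by group)),
        zero_add, pow_two]
      refine add_le_add le_rfl (Finset.sum_le_sum fun g _ => ?_)
      split_ifs
      · exact le_rfl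
      · exact Complex.normSq_nonneg _
    rw [hT'val, hG] at h1
    push_cast at h1
    have h2 : ((x ^ 2 : ℕ) : ℝ) ≤ ((8 * n : ℕ) : ℝ) := by push_cast; linarith
    exact_mod_cast h2
  have hqa' : q = 3 ^ a := hqa
  refine arith (a := a) (x := x) (y := y) (n := n) ha2 (by rw [← hqa']; exact hn) hYr ?_ hy2
    (by rw [← hqa']; exact hmod) hxbound ?_ ?_
  · rcases hε with e | e <;> rw [e] at hdegrel
    · left; linarith
    · right; linarith
  · rw [← hy, ← hqa', ← hG]; exact deg_dvd_card Y.2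
  · rw [← hx, ← hqa', ← hG]; exact deg_dvd_card (μ i₀).2

end Cfsg.Agent.Solv.DihedralCentralizer
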