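import Cfsg.Agent.Lib.Solv.CyclicSylowSimple
import Cfsg.Agent.Lib.Solv.DihedralCentralizerMain
import Mathlib.FieldTheory.Finite.Basic

/-!
A cyclic Sylow `p`-subgroup and abelian `p'`-subgroups give a normal `p`-complement or a normal
Sylow `p`-subgroup.
-/

set_option autoImplicit false
set_option linter.style.haveILetI false
set_option linter.unusedSectionVars false

open scoped Pointwise

universe u

namespace Cfsg.Agent.Solv.CyclicDichotomy

open Cfsg

variable {G : Type u} [Group G] [Finite G] {p : ℕ} [Fact p.Prime]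

theorem card_ne_one (α : Type*) [Group α] [Finite α] :
    Nat.card {a : α // a ≠ 1} = Nat.card α - 1 := by
  classical
  haveI := Fintype.ofFinite α
  show Nat.card {a : α // ¬ a = 1} = _
  rw [Nat.card_eq_fintype_card, Nat.card_eq_fintype_card, Fintype.card_subtype_compl, Fintype.card_subtype_eq]

namespace Setup

variable {P : Sylow p G} {h₀ : G}

local notation "NP" => Subgroup.normalizer ((P : Subgroup G) : Set G)
local notation "CP" => Subgroup.centralizer ((P : Subgroup G) : Set G)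

/-- A subgroup of `N(P)` is cyclic of order dividing `p - 1` modulo `C(P)`. -/
theorem index_bound (S : Setup P h₀) {X : Subgroup G} (hX : X ≤ NP) :
    ∃ e : ℕ, Nat.card X = Nat.card (X ⊓ CP : Subgroup G) * e ∧ e ∣ p - 1 ∧
      ∀ r : ℕ, (∀ x ∈ X, x ^ r = 1) → e ∣ r := by
  classical
  have hp : p.Prime := Fact.out
  have hpP : p ∣ Nat.card P := by
    obtain ⟨k, hk⟩ := IsPGroup.iff_card.1 P.isPGroup'
    rcases k with _ | k
    · exact absurd (Subgroup.eq_bot_of_card_eq _ (by simpa using hk)) S.P_ne_bot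
    · exact hk ▸ dvd_pow_self p (Nat.succ_ne_zero k)
  obtain ⟨⟨z, hz⟩, hzo⟩ := exists_prime_orderOf_dvd_card' p hpP
  rw [Subgroup.orderOf_mk] at hzo
  have hz1 : z ≠ 1 := fun e => by rw [e, orderOf_one] at hzo; exact hp.ne_one hzo.symm
  set Z := Subgroup.zpowers z
  have hZ : Nat.card Z = p := by rw [Nat.card_zpowers, hzo]
  have hle : NP ≤ Subgroup.normalizer (Z : Set G) := by
    intro g hg
    haveI := S.cyc
    let σ : (P : Subgroup G) →* (P : Subgroup G) :=
      MonoidHom.mk' (fun v => ⟨g * (v : G) * g⁻¹, ((Subgroup.mem_normalizer_iff.1 hg) _).1 v.2⟩)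
        (fun a b => Subtype.ext (by simp [mul_assoc]))
    obtain ⟨m, hm⟩ := σ.map_cyclic
    refine mem_normalizer_zpowers ?_
    have h1 : g * z * g⁻¹ = z ^ m := congrArg Subtype.val (hm ⟨z, hz⟩)
    rw [h1]
    exact Subgroup.zpow_mem _ (Subgroup.mem_zpowers z) m
  haveI : IsCyclic Z := Subgroup.isCyclic_zpowers z
  let ψ : NP →* (ZMod p)ˣ :=
    ((IsCyclic.mulAutMulEquiv Z).trans
      (Units.mapEquiv (ZMod.ringEquivCongr hZ).toMulEquiv)).toMonoidHom.comp
        (Z.normalizerMonoidHom.comp (Subgroup.inclusion hle))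
  have hker : ψ.ker = Subgroup.subgroupOf CP NP := by
    ext x
    rw [MonoidHom.mem_ker, Subgroup.mem_subgroupOf]
    simp only [ψ, MonoidHom.comp_apply, MulEquiv.coe_toMonoidHom, MulEquiv.map_eq_one_iff]
    rw [← MonoidHom.mem_ker, Subgroup.normalizerMonoidHom_ker, Subgroup.mem_subgroupOf]
    constructor
    · intro h
      exact S.centralizer_le hz hz1
        (Subgroup.mem_centralizer_singleton_iff.2
          (Subgroup.mem_centralizer_iff.1 h z (Subgroup.mem_zpowers z)).symm)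
    · intro h
      refine Subgroup.mem_centralizer_iff.2 fun v hv => Subgroup.mem_centralizer_iff.1 h v ?_
      exact (Subgroup.zpowers_le.2 hz) hv
  have h1 := card_map_mul_card_inf_ker ψ (X.subgroupOf NP)
  rw [hker, card_subgroupOf hX] at h1
  have h2 : Nat.card (Subgroup.subgroupOf CP NP ⊓ X.subgroupOf NP : Subgroup NP) =
      Nat.card (X ⊓ CP : Subgroup G) := by
    rw [← card_map_subtype, inf_comm, map_inf_of_subgroupOf hX]
  rw [h2] at h1
  refine ⟨_, by rw [mul_comm]; exact h1.symm, ?_, fun r hr => ?_⟩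
  · have := ((X.subgroupOf NP).map ψ).card_subgroup_dvd_card
    rwa [Nat.card_eq_fintype_card (α := (ZMod p)ˣ), ZMod.card_units p] at this
  · haveI : IsCyclic ((X.subgroupOf NP).map ψ) := inferInstance
    rw [← IsCyclic.exponent_eq_card]
    refine Monoid.exponent_dvd_iff_forall_pow_eq_one.2 fun y => Subtype.ext ?_
    obtain ⟨x, hx, hxy⟩ := y.2
    rw [SubmonoidClass.coe_pow, ← hxy, ← map_pow, show x ^ r = 1 from Subtype.ext (hr _ hx), map_one]
    rfl

/-- `C(P) ≠ P` forces the exceptional configuration, which is impossible. -/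
theorem not_centralizer_ne (S : Setup P h₀) {H : Subgroup G}
    (hH : ∀ y, y ∈ H ↔ y ∈ CP ∧ (orderOf y).Coprime p) (hHp : ¬ p ∣ Nat.card H)
    (hcardC : Nat.card CP = Nat.card P * Nat.card H) (hH1 : H ≠ ⊥) : False := by
  classical
  have hp : p.Prime := Fact.out
  haveI := S.simple
  have hCN : CP ≤ NP := Subgroup.centralizer_le_normalizer _
  have hNH : NP ≤ Subgroup.normalizer (H : Set G) := by
    intro g hg
    refine mem_normalizer_of_conj_smul (Subgroup.eq_of_le_of_card_ge ?_ (card_conj_smul g H).ge)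
    intro x hx
    rw [mem_conj_smul, hH] at hx
    refine (hH x).2 ⟨Subgroup.mem_centralizer_iff.2 fun v hv => ?_, ?_⟩
    · have hv' : g⁻¹ * v * g ∈ (P : Subgroup G) := by
        simpa using ((Subgroup.mem_normalizer_iff.1 (Subgroup.inv_mem _ hg)) v).1 hv
      have h1 := Subgroup.mem_centralizer_iff.1 hx.1 _ hv'
      calc v * x = g * ((g⁻¹ * v * g) * (g⁻¹ * x * g)) * g⁻¹ := by group
        _ = g * ((g⁻¹ * x * g) * (g⁻¹ * v * g)) * g⁻¹ := by rw [h1]
        _ = x * v := by group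
    · have h2 := hx.2
      rwa [show g⁻¹ * x * g = (MulAut.conj g⁻¹).toMonoidHom x by simp,
        orderOf_injective _ (MulAut.conj g⁻¹).injective] at h2
  have centW : ∀ w ∈ H, w ≠ 1 → Subgroup.centralizer ({w} : Set G) = NP := by
    intro w hw hw1
    refine le_antisymm (S.sub _ (S.center_trivial hw1) ?_ fun v hv => ?_) fun x hx => ?_
    · exact Subgroup.mem_centralizer_singleton_iff.2 (S.ab.commute_normalized hHp (hNH S.hN) S.hco w hw)
    · exact Subgroup.mem_centralizer_singleton_iff.2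
        (Subgroup.mem_centralizer_iff.1 ((hH w).1 hw).1 v hv)
    · obtain ⟨a, b, ha, hb, hab, ⟨k, hk⟩, hco⟩ := exists_ppart p x
      rw [← hab]
      refine Subgroup.mul_mem _ (Subgroup.mem_centralizer_singleton_iff.2 ?_)
        (Subgroup.mem_centralizer_singleton_iff.2 ?_)
      · exact Subgroup.mem_centralizer_iff.1 ((hH w).1 hw).1 a
          (mem_P_of_normalizer hk ((Subgroup.zpowers_le.2 hx) ha))
      · exact S.ab.commute_normalized hHp (hNH ((Subgroup.zpowers_le.2 hx) hb)) hco w hw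
  have conj_disj : ∀ g w : G, g ∉ NP → w ∈ H → w ≠ 1 → g * w * g⁻¹ ∉ H := by
    intro g w hg hw hw1 hgw
    refine hg ?_
    have h1 : g ∈ Subgroup.normalizer (NP : Set G) := by
      refine mem_normalizer_of_conj_smul (Subgroup.eq_of_le_of_card_ge ?_ (card_conj_smul g _).ge)
      intro x hx
      rw [mem_conj_smul] at hx
      rw [← centW _ hgw (fun e => hw1 (conj_eq_one_iff.1 e)), Subgroup.mem_centralizer_singleton_iff]
      have h2 := Subgroup.mem_centralizer_singleton_iff.1 ((centW w hw hw1).ge hx)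
      calc x * (g * w * g⁻¹) = g * ((g⁻¹ * x * g) * w) * g⁻¹ := by group
        _ = g * (w * (g⁻¹ * x * g)) * g⁻¹ := by rw [h2]
        _ = _ := by group
    have h2 : Subgroup.normalizer (NP : Set G) = NP := Sylow.normalizer_normalizer P
    rwa [h2] at h1
  have core : ∀ (r : ℕ) [Fact r.Prime] (R : Sylow r G) (w : G), w ∈ H → orderOf w = r →
      w ∈ (R : Subgroup G) → r = 2 ∧ p = 3 ∧ Nat.card R = 4 ∧
        Nat.card ((R : Subgroup G) ⊓ CP : Subgroup G) = 2 ∧ (R : Subgroup G) ≤ NP ∧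
        (∀ x ∈ (R : Subgroup G), x ^ 2 = 1) ∧
        ∀ x ∈ (R : Subgroup G), x ≠ 1 → ∃ g : G, g * w * g⁻¹ = x := by
    intro r _ R w hw hwo hwR
    have hr : r.Prime := Fact.out
    have hw1 : w ≠ 1 := fun e => by rw [e, orderOf_one] at hwo; exact hr.ne_one hwo.symm
    have hrp : r ≠ p := fun e => hHp (e ▸ hwo ▸ Subgroup.orderOf_dvd_natCard H hw)
    have hRp : ¬ p ∣ Nat.card R := by
      obtain ⟨k, hk⟩ := IsPGroup.iff_card.1 R.isPGroup'
      rw [hk]
      exact fun hd => hrp ((Nat.prime_dvd_prime_iff_eq hp hr).1 (hp.dvd_of_dvd_pow hd)).symm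
    have hRN : (R : Subgroup G) ≤ NP := fun x hx =>
      (centW w hw hw1).le (Subgroup.mem_centralizer_singleton_iff.2 (S.ab.comm hRp hx hwR))
    have hRco : ∀ x ∈ (R : Subgroup G), (orderOf x).Coprime p := fun x hx =>
      ((Nat.Prime.coprime_iff_not_dvd hp).2 fun hd =>
        hRp (hd.trans (Subgroup.orderOf_dvd_natCard _ hx))).symm
    have hRH : ∀ x ∈ (R : Subgroup G) ⊓ CP, x ∈ H := fun x hx => (hH x).2 ⟨hx.2, hRco x hx.1⟩
    obtain ⟨g', hg'N, hg'C⟩ := SetLike.not_le_iff_exists.1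
      (S.normalizer_not_le R fun e => hw1 (Subgroup.mem_bot.1 (e.le hwR)))
    obtain ⟨u, v, hu, hv, huv, ⟨a, hua⟩, hvco⟩ := exists_ppart p g'
    have huN : u ∈ Subgroup.normalizer ((R : Subgroup G) : Set G) := (Subgroup.zpowers_le.2 hg'N) hu
    have hvC : v ∈ Subgroup.centralizer ((R : Subgroup G) : Set G) :=
      Subgroup.mem_centralizer_iff.2 fun x hx =>
        (S.ab.commute_normalized hRp ((Subgroup.zpowers_le.2 hg'N) hv) hvco x hx).symm
    have huC : u ∉ Subgroup.centralizer ((R : Subgroup G) : Set G) := fun hc =>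
      hg'C (huv ▸ Subgroup.mul_mem _ hc hvC)
    have huNP : u ∉ NP := by
      intro hu'
      refine huC (Subgroup.mem_centralizer_iff.2 fun x hx => ?_)
      have huP := mem_P_of_normalizer hua hu'
      have h1 : x * u * x⁻¹ * u⁻¹ ∈ (P : Subgroup G) := (P : Subgroup G).mul_mem
        (((Subgroup.mem_normalizer_iff.1 (hRN hx)) u).1 huP) ((P : Subgroup G).inv_mem huP)
      have h2 : x * u * x⁻¹ * u⁻¹ ∈ (R : Subgroup G) := by
        rw [show x * u * x⁻¹ * u⁻¹ = x * (u * x⁻¹ * u⁻¹) by group]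
        exact (R : Subgroup G).mul_mem hx
          (((Subgroup.mem_normalizer_iff.1 huN) _).1 ((R : Subgroup G).inv_mem hx))
      obtain ⟨k, hk⟩ := IsPGroup.iff_orderOf.1 P.isPGroup' ⟨_, h1⟩
      rw [Subgroup.orderOf_mk] at hk
      have h3 : (x * u * x⁻¹ * u⁻¹) = 1 := orderOf_eq_one_iff.1
        (Nat.eq_one_of_dvd_coprimes ((hRco _ h2).pow_right k) dvd_rfl (hk ▸ dvd_rfl))
      calc x * u = x * u * x⁻¹ * u⁻¹ * (u * x) := by group
        _ = u * x := by rw [h3, one_mul]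
    have hpow : ∀ k : ℕ, 0 < k → k < p → u ^ k ∉ NP := by
      intro k hk0 hkp hk
      obtain ⟨m, hm⟩ := exists_pow_eq_self_of_coprime (x := u) (n := k) (by
        rw [hua]
        exact Nat.Coprime.pow_right _ ((Nat.Prime.coprime_iff_not_dvd hp).2
          (fun hd => absurd (Nat.le_of_dvd hk0 hd) (by omega))).symm)
      exact huNP (hm ▸ Subgroup.pow_mem _ hk m)
    have hsq : ∀ X : Subgroup G, X ≤ (R : Subgroup G) → (∀ x ∈ X, u * x * u⁻¹ ∈ X) →
        Nat.card (X ⊓ CP : Subgroup G) * Nat.card (X ⊓ CP : Subgroup G) ≤ Nat.card X := by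
      intro X hXR hXu
      rw [← Nat.card_prod]
      refine Nat.card_le_card_of_injective (fun q : (X ⊓ CP : Subgroup G) × (X ⊓ CP : Subgroup G) =>
        (⟨(q.1 : G) * (u * (q.2 : G) * u⁻¹), X.mul_mem q.1.2.1 (hXu _ q.2.2.1)⟩ : X)) ?_
      rintro ⟨⟨c1, hc1⟩, ⟨d1, hd1⟩⟩ ⟨⟨c2, hc2⟩, ⟨d2, hd2⟩⟩ he
      have he' : c1 * (u * d1 * u⁻¹) = c2 * (u * d2 * u⁻¹) := congrArg Subtype.val he
      have hd : d1 = d2 := by
        by_contra hne
        refine conj_disj u (d1 * d2⁻¹) huNP (hRH _ ⟨?_, ?_⟩) (fun e => hne (mul_inv_eq_one.1 e))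
          (hRH _ ?_)
        · exact (R : Subgroup G).mul_mem (hXR hd1.1) ((R : Subgroup G).inv_mem (hXR hd2.1))
        · exact Subgroup.mul_mem _ hd1.2 (Subgroup.inv_mem _ hd2.2)
        · have e : u * (d1 * d2⁻¹) * u⁻¹ = c1⁻¹ * c2 := by
            calc u * (d1 * d2⁻¹) * u⁻¹ = c1⁻¹ * (c1 * (u * d1 * u⁻¹)) * (u * d2 * u⁻¹)⁻¹ := by group
              _ = c1⁻¹ * (c2 * (u * d2 * u⁻¹)) * (u * d2 * u⁻¹)⁻¹ := by rw [he']
              _ = _ := by group
          rw [e]
          exact ⟨(R : Subgroup G).mul_mem ((R : Subgroup G).inv_mem (hXR hc1.1)) (hXR hc2.1),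
            Subgroup.mul_mem _ (Subgroup.inv_mem _ hc1.2) hc2.2⟩
      subst hd
      exact Prod.ext (Subtype.ext (mul_right_cancel he')) rfl
    let Ω : Subgroup G :=
      { carrier := {x | x ∈ (R : Subgroup G) ∧ x ^ r = 1}
        one_mem' := ⟨(R : Subgroup G).one_mem, one_pow r⟩
        mul_mem' := fun {x y} hx hy => ⟨(R : Subgroup G).mul_mem hx.1 hy.1, by
          rw [(show Commute x y from S.ab.comm hRp hx.1 hy.1).mul_pow, hx.2, hy.2, one_mul]⟩
        inv_mem' := fun {x} hx => ⟨(R : Subgroup G).inv_mem hx.1, by rw [inv_pow, hx.2, inv_one]⟩ }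
    have hΩR : Ω ≤ (R : Subgroup G) := fun x hx => hx.1
    have hΩu : ∀ x ∈ Ω, u * x * u⁻¹ ∈ Ω := fun x hx =>
      ⟨((Subgroup.mem_normalizer_iff.1 huN) x).1 hx.1, by rw [conj_pow, hx.2, mul_one, mul_inv_cancel]⟩
    obtain ⟨e, he, hep, her⟩ := S.index_bound (hΩR.trans hRN)
    have her' := her r fun x hx => hx.2
    have hwΩ : w ∈ Ω ⊓ CP := ⟨⟨hwR, hwo ▸ pow_orderOf_eq_one w⟩, ((hH w).1 hw).1⟩
    set s := Nat.card (Ω ⊓ CP : Subgroup G) with hs
    have hs_ge : r ≤ s := by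
      rw [← hwo, ← Nat.card_zpowers]
      exact Subgroup.card_le_of_le (Subgroup.zpowers_le.2 hwΩ)
    have hse : s ≤ e := Nat.le_of_mul_le_mul_left (he ▸ hsq Ω hΩR hΩu) Nat.card_pos
    have he_le : e ≤ r := Nat.le_of_dvd hr.pos her'
    have hsr : s = r := by omega
    have her2 : e = r := by omega
    have hΩcard : Nat.card Ω = r * r := by rw [he, her2, hsr]
    let F : Fin p × {c : (Ω ⊓ CP : Subgroup G) // c ≠ 1} → {x : Ω // x ≠ 1} := fun q =>
      ⟨⟨u ^ (q.1 : ℕ) * (q.2.1 : G) * (u ^ (q.1 : ℕ))⁻¹,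
        ⟨((Subgroup.mem_normalizer_iff.1 (Subgroup.pow_mem _ huN q.1)) _).1 q.2.1.2.1.1, by
          rw [conj_pow, q.2.1.2.1.2, mul_one, mul_inv_cancel]⟩⟩,
        fun e => q.2.2 (Subtype.ext (conj_eq_one_iff.1 (congrArg Subtype.val e)))⟩
    have hF : Function.Injective F := by
      rintro ⟨i, ⟨⟨c, hc⟩, hc1⟩⟩ ⟨j, ⟨⟨d, hd⟩, hd1⟩⟩ he2
      have he3 : u ^ (i : ℕ) * c * (u ^ (i : ℕ))⁻¹ = u ^ (j : ℕ) * d * (u ^ (j : ℕ))⁻¹ :=
        congrArg (fun x : {x : Ω // x ≠ 1} => (x.1 : G)) he2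
      have key : ∀ (i j : Fin p) (c d : G), i < j → c ∈ (Ω ⊓ CP : Subgroup G) → d ∈ (Ω ⊓ CP : Subgroup G) →
          d ≠ 1 → u ^ (i : ℕ) * c * (u ^ (i : ℕ))⁻¹ = u ^ (j : ℕ) * d * (u ^ (j : ℕ))⁻¹ → False := by
        intro i j c d hij hc hd hd1 e
        obtain ⟨k, hk⟩ := Nat.exists_eq_add_of_lt (Fin.lt_def.1 hij)
        refine conj_disj (u ^ (k + 1)) d (hpow (k + 1) (by omega) (by omega)) (hRH d ⟨hd.1.1, hd.2⟩) hd1 ?_
        have e2 : u ^ (k + 1) * d * (u ^ (k + 1))⁻¹ = c := by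
          rw [show (j : ℕ) = (i : ℕ) + (k + 1) by omega, pow_add] at e
          calc u ^ (k + 1) * d * (u ^ (k + 1))⁻¹
              = (u ^ (i : ℕ))⁻¹ * (u ^ (i : ℕ) * u ^ (k + 1) * d * (u ^ (i : ℕ) * u ^ (k + 1))⁻¹) *
                  u ^ (i : ℕ) := by group
            _ = c := by rw [← e]; group
        rw [e2]
        exact hRH c ⟨hc.1.1, hc.2⟩
      rcases lt_trichotomy i j with hlt | heq | hgt
      · exact (key i j c d hlt hc hd (fun e => hd1 (Subtype.ext e)) he3).elim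
      · subst heq
        have hcd : c = d := mul_left_cancel (mul_right_cancel he3)
        subst hcd
        rfl
      · exact (key j i d c hgt hd hc (fun e => hc1 (Subtype.ext e)) he3.symm).elim
    have hcnt := Nat.card_le_card_of_injective F hF
    rw [Nat.card_prod, Nat.card_fin] at hcnt
    have hc1 : Nat.card {c : (Ω ⊓ CP : Subgroup G) // c ≠ 1} = r - 1 := by
      rw [card_ne_one, ← hs, hsr]
    have hc2 : Nat.card {x : Ω // x ≠ 1} = r * r - 1 := by
      rw [card_ne_one, hΩcard]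
    rw [hc1, hc2] at hcnt
    have hrle : r ≤ p - 1 := Nat.le_of_dvd (by have := hp.two_le; omega) (her2 ▸ hep)
    have hple : p ≤ r + 1 := by
      obtain ⟨r', rfl⟩ : ∃ r', r = r' + 2 := ⟨r - 2, by have := hr.two_le; omega⟩
      have h1 : (r' + 2) * (r' + 2) - 1 = (r' + 3) * (r' + 1) := by
        rw [show (r' + 2) * (r' + 2) = (r' + 3) * (r' + 1) + 1 by ring, Nat.add_sub_cancel]
      rw [h1, show r' + 2 - 1 = r' + 1 by omega] at hcnt
      exact Nat.le_of_mul_le_mul_right hcnt (Nat.succ_pos r')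
    have hr2 : r = 2 := by
      rcases hr.eq_two_or_odd' with h | h
      · exact h
      · exfalso
        have hpo := hp.odd_of_ne_two S.odd
        obtain ⟨x, hx⟩ := h; obtain ⟨y, hy⟩ := hpo
        omega
    subst hr2
    have hp3 : p = 3 := by omega
    obtain ⟨e', he', hep', -⟩ := S.index_bound hRN
    set sR := Nat.card ((R : Subgroup G) ⊓ CP : Subgroup G) with hsR
    have hsR2 : 2 ≤ sR := hsr ▸ Subgroup.card_le_of_le (inf_le_inf_right _ hΩR)
    have hsRe : sR ≤ e' := Nat.le_of_mul_le_mul_left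
      (he' ▸ hsq _ le_rfl fun x hx => ((Subgroup.mem_normalizer_iff.1 huN) x).1 hx) Nat.card_pos
    have he'2 : e' ≤ 2 := Nat.le_of_dvd two_pos (by rwa [hp3] at hep')
    have hR4 : Nat.card R = 4 := by
      rw [show Nat.card R = sR * e' from he', show sR = 2 by omega, show e' = 2 by omega]
    have hΩeq : Ω = (R : Subgroup G) :=
      Subgroup.eq_of_le_of_card_ge hΩR (by rw [hΩcard]; exact hR4.le)
    refine ⟨rfl, hp3, hR4, by omega, hRN, fun x hx => (hΩeq.ge hx).2, fun x hx hx1 => ?_⟩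
    have hbij := (Nat.bijective_iff_injective_and_card F).2 ⟨hF, by
      rw [Nat.card_prod, Nat.card_fin, hc1, hc2, hp3]⟩
    obtain ⟨⟨i, ⟨⟨c, hc⟩, hc1'⟩⟩, hic⟩ :=
      hbij.2 ⟨⟨x, hΩeq.ge hx⟩, fun e => hx1 (congrArg Subtype.val e)⟩
    have hic' : u ^ (i : ℕ) * c * (u ^ (i : ℕ))⁻¹ = x :=
      congrArg (fun y : {x : Ω // x ≠ 1} => (y.1 : G)) hic
    have hcw : c = w := by
      have hZ : Subgroup.zpowers w = (Ω ⊓ CP : Subgroup G) :=
        Subgroup.eq_of_le_of_card_ge (Subgroup.zpowers_le.2 hwΩ) (by rw [Nat.card_zpowers, hwo, ← hsr])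
      have hc2 : c ∈ Subgroup.zpowers w := hZ.ge hc
      obtain ⟨k, hk⟩ := Subgroup.mem_zpowers_iff.1 hc2
      have hw2 : w ^ (2 : ℤ) = 1 := by
        rw [show (2 : ℤ) = ((2 : ℕ) : ℤ) from rfl, zpow_natCast, ← hwo, pow_orderOf_eq_one]
      rcases Int.even_or_odd' k with ⟨l, rfl | rfl⟩
      · rw [zpow_mul, hw2, one_zpow] at hk
        exact absurd (Subtype.ext hk.symm) hc1'
      · rw [zpow_add, zpow_mul, hw2, one_zpow, one_mul, zpow_one] at hk
        exact hk.symm
    exact ⟨u ^ (i : ℕ), hcw ▸ hic'⟩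
  -- every prime divisor of `|H|` is `2`
  have hprimes : ∀ r : ℕ, r.Prime → r ∣ Nat.card H → r = 2 ∧ p = 3 := by
    intro r hr hd
    haveI : Fact r.Prime := ⟨hr⟩
    obtain ⟨⟨w, hw⟩, hwo⟩ := exists_prime_orderOf_dvd_card' r hd
    rw [Subgroup.orderOf_mk] at hwo
    obtain ⟨R, hR⟩ := (isPGroup_zpowers (p := r) (k := 1) (u := w) (by rw [pow_one, hwo])).exists_le_sylow
    obtain ⟨h1, h2, -⟩ := core r R w hw hwo (hR (Subgroup.mem_zpowers w))
    exact ⟨h1, h2⟩
  obtain ⟨r, hr, hrd⟩ := Nat.exists_prime_and_dvd (n := Nat.card H)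
    (fun e => hH1 (Subgroup.eq_bot_of_card_eq _ e))
  obtain ⟨rfl, hp3⟩ := hprimes r hr hrd
  haveI : Fact (Nat.Prime 2) := ⟨Nat.prime_two⟩
  obtain ⟨⟨w, hw⟩, hwo⟩ := exists_prime_orderOf_dvd_card' 2 hrd
  rw [Subgroup.orderOf_mk] at hwo
  obtain ⟨R, hR⟩ := (isPGroup_zpowers (p := 2) (k := 1) (u := w) (by rw [pow_one, hwo])).exists_le_sylow
  obtain ⟨-, -, hR4, hR2, hRN, hRsq, hclass⟩ := core 2 R w hw hwo (hR (Subgroup.mem_zpowers w))
  have hw1 : w ≠ 1 := fun e => by rw [e, orderOf_one] at hwo; omega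
  have hH2 : IsPGroup 2 H := IsPGroup.of_card (n := (Nat.card H).primeFactorsList.length)
    (Nat.eq_prime_pow_of_unique_prime_dvd Nat.card_pos.ne' fun {d} hd hdd => (hprimes d hd hdd).1)
  have hHR : H ≤ (R : Subgroup G) := by
    have h1 : IsPGroup 2 (H ⊔ (R : Subgroup G) : Subgroup G) :=
      hH2.to_sup_of_normal_left' R.isPGroup' (hRN.trans hNH)
    exact le_sup_left.trans (R.is_maximal' h1 le_sup_right).le
  have hHcard : Nat.card H = 2 := by
    refine le_antisymm (hR2 ▸ Subgroup.card_le_of_le (le_inf hHR fun x hx => ((hH x).1 hx).1)) ?_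
    rw [← hwo, ← Nat.card_zpowers]
    exact Subgroup.card_le_of_le (Subgroup.zpowers_le.2 hw)
  rw [hHcard, mul_comm] at hcardC
  obtain ⟨t, htR, htC⟩ : ∃ t ∈ (R : Subgroup G), t ∉ CP := by
    by_contra hno
    push Not at hno
    rw [show ((R : Subgroup G) ⊓ CP : Subgroup G) = R from inf_eq_left.2 hno] at hR2
    have : (4 : ℕ) = 2 := hR4.symm.trans hR2
    omega
  have hcardN : Nat.card NP = 4 * Nat.card P := by
    obtain ⟨e, he, hep, -⟩ := S.index_bound (le_refl NP)
    rw [inf_eq_right.2 hCN, hcardC] at he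
    have he2 : e = 2 := by
      have hep' : e ∣ 2 := by rw [hp3] at hep; exact hep
      rcases (Nat.dvd_prime Nat.prime_two).1 hep' with e1 | e2
      · rw [e1, mul_one, ← hcardC] at he
        exact absurd ((Subgroup.eq_of_le_of_card_ge hCN he.le).ge S.hN) S.hnC
      · exact e2
    rw [he, he2]; ring
  have ht1 : t ≠ 1 := fun e => htC (e ▸ Subgroup.one_mem _)
  have hto : orderOf t = 2 := orderOf_eq_prime (hRsq t htR) ht1
  have htP : ∀ v ∈ (P : Subgroup G), t * v * t⁻¹ = v⁻¹ := by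
    intro v hv
    have hy : t * v * t⁻¹ ∈ (P : Subgroup G) := ((Subgroup.mem_normalizer_iff.1 (hRN htR)) v).1 hv
    refine eq_inv_of_mul_eq_one_right (CyclicDichotomy.fpf S.cyc (hRN htR) htC (by rw [hto, hp3]; norm_num)
      ((P : Subgroup G).mul_mem hv hy) ?_)
    have htt : t⁻¹ = t := by rw [inv_eq_iff_mul_eq_one, ← pow_two]; exact hRsq t htR
    rw [htt] at hy ⊢
    calc t * (v * (t * v * t)) = (t * v * t) * v * t := by group
      _ = v * (t * v * t) * t := by rw [comm_of_cyclic S.cyc hy hv]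
  haveI := Fintype.ofFinite G
  refine DihedralCentralizer.config_false (P := (P : Subgroup G)) (z := w) (t := t)
    { comm := fun a ha b hb => comm_of_cyclic S.cyc ha hb
      pow := ?_
      cardC := hcardC
      cardN := hcardN
      zmem := ((hH w).1 hw).1
      zord := hwo
      centZ := centW w hw hw1
      centU := fun a ha ha1 => S.centralizer_le ha ha1
      tmem := hRN htR
      tord := hto
      tinv := htP
      oneClass := ?_
      prod := fun i j hi hj hij => hp3 ▸ S.dvd_orderOf_mul hi hj hij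
      sylow := fun y ⟨b, hb⟩ => exists_conj_P (hb.trans (by rw [hp3])) } S.simple S.perf
  · obtain ⟨a, ha⟩ := IsPGroup.iff_card.1 P.isPGroup'
    exact ⟨a, by rw [ha, hp3], fun e => S.P_ne_bot (Subgroup.eq_bot_of_card_eq _ (by rw [ha, e, pow_zero]))⟩
  · intro i hi
    obtain ⟨g, hg⟩ := exists_le_conj_sylow (isPGroup_zpowers (p := 2) (k := 1) (u := i) (by rw [pow_one, hi])) R
    have hiR := mem_conj_smul.1 (hg (Subgroup.mem_zpowers i))
    obtain ⟨c, hc⟩ := hclass _ hiR (fun e => by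
      have : i = 1 := by
        calc i = g * (g⁻¹ * i * g) * g⁻¹ := by group
          _ = 1 := by rw [e]; group
      rw [this, orderOf_one] at hi; omega)
    exact ⟨c⁻¹ * g⁻¹, by
      calc c⁻¹ * g⁻¹ * i * (c⁻¹ * g⁻¹)⁻¹ = c⁻¹ * (g⁻¹ * i * g) * c := by group
        _ = w := by rw [← hc]; group⟩

end Setup

/-- The dichotomy, by induction on the order. -/
theorem concl_all : ∀ (n : ℕ) {G : Type u} [Group G] [Finite G] (P : Sylow p G), Nat.card G = n →
    IsCyclic P → AbP p G → Concl p G P := by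
  intro n
  induction n using Nat.strong_induction_on with
  | _ n IH =>
  intro G _ _ P hn hcyc hab
  have hp : p.Prime := Fact.out
  by_cases hpG : p ∣ Nat.card G
  swap
  · exact Or.inl (Fusion.hnpc_of_not_dvd hpG)
  by_cases hle : Subgroup.normalizer ((P : Subgroup G) : Set G) ≤
      Subgroup.centralizer ((P : Subgroup G) : Set G)
  · exact Or.inl ⟨P, _, inferInstance, MonoidHom.ker_transferSylow_isComplement' P hle⟩
  have hp2 : p ≠ 2 := by
    rintro rfl
    refine hle (hcyc.normalizer_le_centralizer ?_)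
    exact le_antisymm (Nat.minFac_le_of_dvd le_rfl hpG)
      (Nat.minFac_prime (fun e => by rw [e] at hpG; exact absurd hpG (by norm_num))).two_le
  obtain ⟨h, hN, hnC, hco⟩ := exists_pPrime_of_not_le hcyc hle
  have IHs : ∀ (L : Subgroup G) (Q : Sylow p L), L ≠ ⊤ → IsCyclic Q → AbP p L → Concl p L Q :=
    fun L Q hL hQ hA => IH _ (hn ▸ card_lt_of_ne_top hL) Q rfl hQ hA
  have IHq : ∀ (K : Subgroup G) [K.Normal] (Q : Sylow p (G ⧸ K)), K ≠ ⊥ → IsCyclic Q → AbP p (G ⧸ K) →
      Concl p (G ⧸ K) Q :=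
    fun K _ Q hK hQ hA => IH _ (hn ▸ card_quotient_lt K hK) Q rfl hQ hA
  rcases concl_or_simple IHs IHq hcyc hab hN hnC hco with hc | ⟨hsimple, hperf⟩
  · exact hc
  exfalso
  have S : Setup P h :=
    { simple := hsimple
      perf := hperf
      cyc := hcyc
      ab := hab
      hN := hN
      hnC := hnC
      hco := hco
      odd := hp2
      sub := fun L hL hhL hPL => le_normalizer_of_proper IHs hcyc hab hN hnC hco hL hhL hPL }
  obtain ⟨H, hH, hHp, hcard⟩ := S.exists_H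
  by_cases hH1 : H = ⊥
  · refine S.not_centralizer_eq ?_
    rw [hH1, Subgroup.card_bot, mul_one] at hcard
    exact (Subgroup.eq_of_le_of_card_ge (le_centralizer_self hcyc) hcard.le).ge
  · exact S.not_centralizer_ne hH hHp hcard hH1

theorem dichotomy (P : Sylow p G) (hcyc : IsCyclic P) (hab : AbP p G) :
    HasNormalPComplement p G ∨ (P : Subgroup G).Normal :=
  concl_all _ P rfl hcyc hab

end Cfsg.Agent.Solv.CyclicDichotomy
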