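import Mathlib.GroupTheory.OrderOfElement
import Mathlib.GroupTheory.GroupAction.Quotient
import Mathlib.Algebra.BigOperators.Ring.Finset
import Mathlib.Data.Fintype.Sigma
import Mathlib.Data.Real.Basic
import Mathlib.Tactic.Group

/-!
Counting pairs of involutions by their products, and sums over the conjugates of a subset with
trivial intersections.
-/

set_option autoImplicit false
set_option linter.style.haveILetI false
set_option linter.unusedSectionVars false

namespace Cfsg.Agent.Solv.InvolCount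

variable {G : Type*} [Group G] [Fintype G]

theorem inv_of_invol {i : G} (hi : orderOf i = 2) : i⁻¹ = i := by
  rw [inv_eq_iff_mul_eq_one, ← pow_two, ← hi, pow_orderOf_eq_one]

theorem mul_self_invol {i : G} (hi : orderOf i = 2) : i * i = 1 := by
  rw [← pow_two, ← hi, pow_orderOf_eq_one]

theorem inverts_mul {i j : G} (hi : orderOf i = 2) (hj : orderOf j = 2) :
    i * (i * j) * i⁻¹ = (i * j)⁻¹ := by
  rw [mul_inv_rev, inv_of_invol hj, ← mul_assoc i i, mul_self_invol hi, one_mul]

theorem orderOf_mul_inverted {i x : G} (hi : orderOf i = 2) (hix : i * x * i⁻¹ = x⁻¹)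
    (hx : x * x ≠ 1) : orderOf (i * x) = 2 := by
  refine orderOf_eq_prime ?_ ?_
  · rw [pow_two]
    calc i * x * (i * x) = i * x * (i⁻¹ * x) := by rw [inv_of_invol hi]
      _ = i * x * i⁻¹ * x := by group
      _ = 1 := by rw [hix]; group
  · intro h
    refine hx ?_
    rw [eq_inv_of_mul_eq_one_right h, inv_of_invol hi, mul_self_invol hi]

theorem not_comm_inverted {i x : G} (hi : orderOf i = 2) (hix : i * x * i⁻¹ = x⁻¹)
    (hx : x * x ≠ 1) : i * (i * x) ≠ i * x * i := by
  intro h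
  refine hx ?_
  have h2 : i * x * i⁻¹ = x := by
    rw [inv_of_invol hi, ← h, ← mul_assoc, mul_self_invol hi, one_mul]
  rw [hix] at h2
  exact inv_eq_iff_mul_eq_one.1 h2

/-- Pairs of non-commuting involutions correspond to pairs of an involution and an inverted
product. -/
theorem card_pairs (T : Set G) (k m : ℕ)
    (hT : ∀ i j : G, orderOf i = 2 → orderOf j = 2 → i * j ≠ j * i → i * j ∈ T)
    (hT2 : ∀ x ∈ T, x * x ≠ 1)
    (hk : ∀ x ∈ T, Nat.card {i : G // orderOf i = 2 ∧ i * x * i⁻¹ = x⁻¹} = k)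
    (hm : ∀ i : G, orderOf i = 2 → Nat.card {j : G // orderOf j = 2 ∧ i * j = j * i} = m) :
    Nat.card {i : G // orderOf i = 2} * Nat.card {i : G // orderOf i = 2} =
      Nat.card {i : G // orderOf i = 2} * m + Nat.card T * k := by
  classical
  let e : {q : {i : G // orderOf i = 2} × {i : G // orderOf i = 2} // (q.1 : G) * q.2 ≠ q.2 * q.1} ≃
      (Σ x : T, {i : G // orderOf i = 2 ∧ i * (x : G) * i⁻¹ = (x : G)⁻¹}) :=
    { toFun := fun q => ⟨⟨(q.1.1 : G) * q.1.2, hT _ _ q.1.1.2 q.1.2.2 q.2⟩, q.1.1, q.1.1.2,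
        inverts_mul q.1.1.2 q.1.2.2⟩
      invFun := fun r => ⟨(⟨r.2.1, r.2.2.1⟩, ⟨r.2.1 * (r.1 : G),
        orderOf_mul_inverted r.2.2.1 r.2.2.2 (hT2 _ r.1.2)⟩),
        not_comm_inverted r.2.2.1 r.2.2.2 (hT2 _ r.1.2)⟩
      left_inv := fun q => by
        refine Subtype.ext (Prod.ext rfl (Subtype.ext ?_))
        show (q.1.1 : G) * ((q.1.1 : G) * q.1.2) = q.1.2
        rw [← mul_assoc, mul_self_invol q.1.1.2, one_mul]
      right_inv := fun r => by
        obtain ⟨⟨x, hx⟩, i, hi, hix⟩ := r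
        have hxx : i * (i * x) = x := by
          rw [← mul_assoc, mul_self_invol hi, one_mul]
        refine Sigma.ext (Subtype.ext hxx) ?_
        refine (Subtype.heq_iff_coe_eq ?_).2 rfl
        intro y
        simp only [hxx] }
  have h1 : Nat.card (Σ x : T, {i : G // orderOf i = 2 ∧ i * (x : G) * i⁻¹ = (x : G)⁻¹}) = Nat.card T * k := by
    rw [Nat.card_sigma, Finset.sum_congr rfl fun (x : T) _ => hk x x.2, Finset.sum_const, smul_eq_mul,
      Finset.card_univ, ← Nat.card_eq_fintype_card]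
  have h2 : Nat.card {q : {i : G // orderOf i = 2} × {i : G // orderOf i = 2} //
      ¬ (q.1 : G) * q.2 ≠ q.2 * q.1} = Nat.card {i : G // orderOf i = 2} * m := by
    let e' : {q : {i : G // orderOf i = 2} × {i : G // orderOf i = 2} //
        ¬ (q.1 : G) * q.2 ≠ q.2 * q.1} ≃
        (Σ i : {i : G // orderOf i = 2}, {j : G // orderOf j = 2 ∧ (i : G) * j = j * i}) :=
      { toFun := fun q => ⟨q.1.1, q.1.2, q.1.2.2, not_not.1 q.2⟩
        invFun := fun r => ⟨(r.1, ⟨r.2.1, r.2.2.1⟩), not_not.2 r.2.2.2⟩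
        left_inv := fun q => rfl
        right_inv := fun r => rfl }
    rw [Nat.card_congr e', Nat.card_sigma, Finset.sum_congr rfl fun (i : {i : G // orderOf i = 2}) _ => hm i i.2,
      Finset.sum_const, smul_eq_mul, Finset.card_univ, ← Nat.card_eq_fintype_card]
  rw [← Nat.card_prod, ← Nat.card_congr (Equiv.sumCompl (fun q : {i : G // orderOf i = 2} ×
    {i : G // orderOf i = 2} => (q.1 : G) * q.2 ≠ q.2 * q.1)), Nat.card_sum, h2, Nat.card_congr e, h1,
    add_comm]

/-- A sum over the conjugates of a subset `S` whose fusion is controlled by `N`. -/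
theorem sum_conj_set (S : Set G) (N : Subgroup G) [DecidablePred fun x : G => ∃ g : G, g⁻¹ * x * g ∈ S]
    [DecidablePred (· ∈ S)] (hN : ∀ n ∈ N, ∀ s ∈ S, n⁻¹ * s * n ∈ S)
    (hfus : ∀ s ∈ S, ∀ g : G, g⁻¹ * s * g ∈ S → g ∈ N) (f : G → ℝ)
    (hf : ∀ g x : G, f (x * g * x⁻¹) = f g) :
    (Nat.card N : ℝ) * (∑ x : G, if ∃ g : G, g⁻¹ * x * g ∈ S then f x else 0) =
      (Nat.card G : ℝ) * ∑ x : G, if x ∈ S then f x else 0 := by
  classical
  have hcnt : ∀ x : G, (∑ g : G, if g⁻¹ * x * g ∈ S then f x else 0) =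
      (Nat.card N : ℝ) * if ∃ g : G, g⁻¹ * x * g ∈ S then f x else 0 := by
    intro x
    by_cases h : ∃ g : G, g⁻¹ * x * g ∈ S
    · obtain ⟨g0, hg0⟩ := h
      rw [if_pos ⟨g0, hg0⟩, ← Finset.sum_filter, Finset.sum_const, nsmul_eq_mul]
      congr 2
      rw [← Fintype.card_subtype, ← Nat.card_eq_fintype_card]
      refine Nat.card_congr
        { toFun := fun g => ⟨g0⁻¹ * g.1, hfus _ hg0 _ (by
            have := g.2
            simpa [mul_assoc] using this)⟩
          invFun := fun n => ⟨g0 * n.1, by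
            have := hN _ n.2 _ hg0
            simpa [mul_assoc] using this⟩
          left_inv := fun g => by simp
          right_inv := fun n => by simp }
    · rw [if_neg h, mul_zero]
      exact Finset.sum_eq_zero fun g _ => if_neg fun hg => h ⟨g, hg⟩
  rw [Finset.mul_sum, ← Finset.sum_congr rfl fun x _ => hcnt x, Finset.sum_comm, Nat.card_eq_fintype_card,
    ← Finset.card_univ, ← nsmul_eq_mul, ← Finset.sum_const]
  refine Finset.sum_congr rfl fun g _ => ?_
  refine Fintype.sum_equiv (MulAut.conj g⁻¹).toEquiv _ _ fun x => ?_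
  show _ = if g⁻¹ * x * g⁻¹⁻¹ ∈ S then f (g⁻¹ * x * g⁻¹⁻¹) else 0
  rw [hf, inv_inv]

theorem card_conj_set (S : Set G) (N : Subgroup G) (hN : ∀ n ∈ N, ∀ s ∈ S, n⁻¹ * s * n ∈ S)
    (hfus : ∀ s ∈ S, ∀ g : G, g⁻¹ * s * g ∈ S → g ∈ N) :
    Nat.card N * Nat.card {x : G // ∃ g : G, g⁻¹ * x * g ∈ S} = Nat.card G * Nat.card S := by
  classical
  have h := sum_conj_set S N hN hfus (fun _ => 1) (fun _ _ => rfl)
  rw [Finset.sum_boole, Finset.sum_boole, ← Fintype.card_subtype, ← Fintype.card_subtype,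
    ← Nat.card_eq_fintype_card, ← Nat.card_eq_fintype_card] at h
  exact_mod_cast h

end Cfsg.Agent.Solv.InvolCount
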