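import Cfsg.Agent.Lib.Solv.CyclicSylowBasic
import Cfsg.Agent.Lib.Solv.InvolutionCount
import Cfsg.Agent.Lib.Solv.SuzukiCAMain
import Cfsg.Agent.Lib.Solv.Kulakoff

/-!
A simple group with a cyclic Sylow `p`-subgroup `P` and abelian `p'`-subgroups: `C(P) = P` is
impossible.
-/

set_option autoImplicit false
set_option linter.style.haveILetI false
set_option linter.unusedSectionVars false

open scoped Pointwise

universe u

namespace Cfsg.Agent.Solv.CyclicDichotomy

open Cfsg

variable {G : Type u} [Group G] [Finite G] {p : ℕ} [Fact p.Prime]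

/-- A simple minimal counterexample. -/
structure Setup (P : Sylow p G) (h₀ : G) : Prop where
  simple : IsSimpleGroup G
  perf : commutator G = ⊤
  cyc : IsCyclic P
  ab : AbP p G
  hN : h₀ ∈ Subgroup.normalizer ((P : Subgroup G) : Set G)
  hnC : h₀ ∉ Subgroup.centralizer ((P : Subgroup G) : Set G)
  hco : (orderOf h₀).Coprime p
  odd : p ≠ 2
  sub : ∀ L : Subgroup G, L ≠ ⊤ → h₀ ∈ L → (P : Subgroup G) ≤ L →
    L ≤ Subgroup.normalizer ((P : Subgroup G) : Set G)

/-- Two involutions are conjugate or commute with a common involution. -/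
theorem conj_or_common {i j : G} (hi : orderOf i = 2) (hj : orderOf j = 2) :
    (∃ g : G, g * i * g⁻¹ = j) ∨ ∃ k : G, orderOf k = 2 ∧ k * i = i * k ∧ k * j = j * k := by
  haveI := Fintype.ofFinite G
  set x := i * j with hx
  have hxi : i * x * i⁻¹ = x⁻¹ := InvolCount.inverts_mul hi hj
  have hxj : j * x * j⁻¹ = x⁻¹ := by
    rw [hx, ← mul_assoc, mul_inv_cancel_right, mul_inv_rev, InvolCount.inv_of_invol hi,
      InvolCount.inv_of_invol hj]
  have hpow : ∀ (a : G) (m : ℕ), a * x * a⁻¹ = x⁻¹ → a * x ^ m * a⁻¹ = (x ^ m)⁻¹ := fun a m ha => by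
    rw [← conj_pow, ha, inv_pow]
  rcases Nat.even_or_odd (orderOf x) with ⟨l, hl⟩ | ⟨k, hk⟩
  · refine Or.inr ⟨x ^ l, ?_, ?_, ?_⟩
    · have hl0 : l ≠ 0 := by have := orderOf_pos x; omega
      rw [orderOf_pow_of_dvd hl0 ⟨2, by omega⟩, hl, ← two_mul, Nat.mul_div_cancel _ (Nat.pos_of_ne_zero hl0)]
    all_goals
      have hinv : (x ^ l)⁻¹ = x ^ l := by
        rw [inv_eq_iff_mul_eq_one, ← pow_add, ← hl, pow_orderOf_eq_one]
    · have := hpow i l hxi
      rw [hinv, mul_inv_eq_iff_eq_mul] at this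
      exact this.symm
    · have := hpow j l hxj
      rw [hinv, mul_inv_eq_iff_eq_mul] at this
      exact this.symm
  · refine Or.inl ⟨x ^ k, ?_⟩
    have h1 : i * x ^ k * i⁻¹ = (x ^ k)⁻¹ := hpow i k hxi
    calc x ^ k * i * (x ^ k)⁻¹ = x ^ k * i * (i * x ^ k * i⁻¹) := by rw [h1]
      _ = x ^ k * i * i * x ^ k * i := by rw [InvolCount.inv_of_invol hi]; group
      _ = x ^ k * x ^ k * i := by rw [mul_assoc (x ^ k) i i, InvolCount.mul_self_invol hi, mul_one]
      _ = x⁻¹ * i := by
          rw [eq_inv_of_mul_eq_one_left (show x ^ k * x ^ k * x = 1 by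
            rw [← pow_add, ← pow_succ, show k + k + 1 = orderOf x by omega, pow_orderOf_eq_one])]
      _ = j := by
          rw [hx, mul_inv_rev, InvolCount.inv_of_invol hi, mul_assoc, InvolCount.mul_self_invol hi, mul_one,
            InvolCount.inv_of_invol hj]

namespace Setup

variable {P : Sylow p G} {h₀ : G}

local notation "NP" => Subgroup.normalizer ((P : Subgroup G) : Set G)
local notation "CP" => Subgroup.centralizer ((P : Subgroup G) : Set G)

theorem P_ne_bot (S : Setup P h₀) : (P : Subgroup G) ≠ ⊥ := by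
  intro e
  refine S.hnC (Subgroup.mem_centralizer_iff.2 fun v hv => ?_)
  rw [e] at hv
  rw [Subgroup.mem_bot.1 hv, one_mul, mul_one]

theorem dvd_card (S : Setup P h₀) : p ∣ Nat.card G := by
  obtain ⟨k, hk⟩ := IsPGroup.iff_card.1 P.isPGroup'
  rcases k with _ | k
  · exact absurd (Subgroup.eq_bot_of_card_eq _ (by simpa using hk)) S.P_ne_bot
  · exact (dvd_pow_self p (Nat.succ_ne_zero k)).trans (hk ▸ (P : Subgroup G).card_subgroup_dvd_card)

theorem not_comm (S : Setup P h₀) (h : ∀ a b : G, a * b = b * a) : False := by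
  haveI : IsMulCommutative G := ⟨⟨h⟩⟩
  haveI := S.simple.toNontrivial
  have h1 := (commutator_eq_bot_iff G).2 inferInstance
  rw [S.perf] at h1
  exact top_ne_bot h1

theorem center_trivial (S : Setup P h₀) {x : G} (hx : x ≠ 1) :
    Subgroup.centralizer ({x} : Set G) ≠ ⊤ := by
  intro htop
  have hxc : x ∈ Subgroup.center G := Subgroup.mem_center_iff.2 fun g =>
    Subgroup.mem_centralizer_singleton_iff.1 (htop.ge (Subgroup.mem_top g))
  haveI := S.simple
  rcases (inferInstance : (Subgroup.center G).Normal).eq_bot_or_eq_top with e | e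
  · rw [e, Subgroup.mem_bot] at hxc; exact hx hxc
  · exact S.not_comm fun a b => (Subgroup.mem_center_iff.1 (e.ge (Subgroup.mem_top b)) a)

theorem normalizer_ne_top (S : Setup P h₀) : NP ≠ ⊤ := by
  intro htop
  haveI := S.simple
  rcases (Subgroup.normalizer_eq_top_iff.1 htop).eq_bot_or_eq_top with e | e
  · exact S.P_ne_bot e
  · refine S.not_comm fun a b => comm_of_cyclic S.cyc (e.ge (Subgroup.mem_top a)) (e.ge (Subgroup.mem_top b))

theorem fpf (S : Setup P h₀) {x : G} (hx : x ∈ (P : Subgroup G)) (hcx : h₀ * x = x * h₀) : x = 1 :=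
  CyclicDichotomy.fpf S.cyc S.hN S.hnC S.hco hx hcx

theorem mem_normalizer_zpowers {u g : G} (hg : g * u * g⁻¹ ∈ Subgroup.zpowers u) :
    g ∈ Subgroup.normalizer ((Subgroup.zpowers u : Subgroup G) : Set G) := by
  refine mem_normalizer_of_conj_smul (Subgroup.eq_of_le_of_card_ge ?_ (card_conj_smul g _).ge)
  intro x hx
  obtain ⟨k, hk⟩ := Subgroup.mem_zpowers_iff.1 (mem_conj_smul.1 hx)
  have : x = (g * u * g⁻¹) ^ k := by rw [conj_zpow, hk]; group
  rw [this]
  exact Subgroup.zpow_mem _ hg k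

theorem normalizer_zpowers_le (S : Setup P h₀) {u : G} (hu : u ∈ (P : Subgroup G)) (hu1 : u ≠ 1) :
    Subgroup.normalizer ((Subgroup.zpowers u : Subgroup G) : Set G) ≤ NP := by
  refine S.sub _ (fun htop => ?_) (mem_normalizer_zpowers ?_) fun v hv => mem_normalizer_zpowers ?_
  · haveI := S.simple
    rcases (Subgroup.normalizer_eq_top_iff.1 htop).eq_bot_or_eq_top with e | e
    · exact hu1 (Subgroup.zpowers_eq_bot.1 e)
    · refine S.normalizer_ne_top (top_le_iff.1 ?_)
      exact (e.ge.trans (Subgroup.zpowers_le.2 hu)).trans Subgroup.le_normalizer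
  · haveI := S.cyc
    let σ : (P : Subgroup G) →* (P : Subgroup G) :=
      MonoidHom.mk' (fun v => ⟨h₀ * (v : G) * h₀⁻¹, ((Subgroup.mem_normalizer_iff.1 S.hN) _).1 v.2⟩)
        (fun a b => Subtype.ext (by simp [mul_assoc]))
    obtain ⟨m, hm⟩ := σ.map_cyclic
    have h1 : h₀ * u * h₀⁻¹ = u ^ m := congrArg Subtype.val (hm ⟨u, hu⟩)
    rw [h1]
    exact Subgroup.zpow_mem _ (Subgroup.mem_zpowers u) m
  · rw [comm_of_cyclic S.cyc hv hu, mul_inv_cancel_right]
    exact Subgroup.mem_zpowers u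

theorem centralizer_le (S : Setup P h₀) {u : G} (hu : u ∈ (P : Subgroup G)) (hu1 : u ≠ 1) :
    Subgroup.centralizer ({u} : Set G) ≤ CP := by
  intro x hx
  have hxu := Subgroup.mem_centralizer_singleton_iff.1 hx
  have hxN : x ∈ NP := S.normalizer_zpowers_le hu hu1 (mem_normalizer_zpowers
    (by rw [hxu, mul_inv_cancel_right]; exact Subgroup.mem_zpowers u))
  obtain ⟨a, b, ha, hb, hab, ⟨k, hk⟩, hco⟩ := exists_ppart p x
  refine mem_centralizer_of_parts S.cyc hxN ha hab hk ?_
  by_contra hbC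
  refine hu1 (CyclicDichotomy.fpf S.cyc ((Subgroup.zpowers_le.2 hxN) hb) hbC hco hu ?_)
  exact Subgroup.mem_centralizer_singleton_iff.1 ((Subgroup.zpowers_le.2 hx) hb)

theorem conj_mem_C (S : Setup P h₀) {y g a : G} (hy : y ≠ 1) (hg : g * y * g⁻¹ ∈ (P : Subgroup G))
    (ha : a * y = y * a) : g * a * g⁻¹ ∈ CP := by
  refine S.centralizer_le hg (fun e => hy (conj_eq_one_iff.1 e))
    (Subgroup.mem_centralizer_singleton_iff.2 ?_)
  calc g * a * g⁻¹ * (g * y * g⁻¹) = g * (a * y) * g⁻¹ := by group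
    _ = g * (y * a) * g⁻¹ := by rw [ha]
    _ = _ := by group

theorem exists_conj_P {y : G} {k : ℕ} (hy : orderOf y = p ^ k) :
    ∃ g : G, g * y * g⁻¹ ∈ (P : Subgroup G) := by
  obtain ⟨g, hg⟩ := exists_le_conj_sylow (isPGroup_zpowers hy) P
  refine ⟨g⁻¹, ?_⟩
  rw [inv_inv]
  exact mem_conj_smul.1 (hg (Subgroup.mem_zpowers y))

theorem normalizer_not_le (S : Setup P h₀) {r : ℕ} [Fact r.Prime] (R : Sylow r G)
    (hR : (R : Subgroup G) ≠ ⊥) :
    ¬ Subgroup.normalizer ((R : Subgroup G) : Set G) ≤ Subgroup.centralizer ((R : Subgroup G) : Set G) := by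
  intro hle
  have hc := MonoidHom.ker_transferSylow_isComplement' R hle
  haveI := S.simple
  rcases (inferInstance : (MonoidHom.transferSylow R hle).ker.Normal).eq_bot_or_eq_top with e | e
  · rw [e, Subgroup.isComplement'_bot_left] at hc
    haveI : Group.IsNilpotent G := by
      have hG : IsPGroup r G := (hc ▸ R.isPGroup' : IsPGroup r (⊤ : Subgroup G)).of_equiv Subgroup.topEquiv
      exact hG.isNilpotent
    haveI := S.simple.toNontrivial
    exact (Group.IsSolvable.commutator_lt_top_of_nontrivial G).ne S.perf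
  · rw [e, Subgroup.isComplement'_top_left] at hc
    exact hR hc

/-- Products of non-commuting involutions have order divisible by `p`. -/
theorem dvd_orderOf_mul (S : Setup P h₀) {i j : G} (hi : orderOf i = 2) (hj : orderOf j = 2)
    (hij : i * j ≠ j * i) : p ∣ orderOf (i * j) := by
  have hp : p.Prime := Fact.out
  haveI := Fintype.ofFinite G
  by_contra hd
  set x := i * j with hx
  have hiN : i ∈ Subgroup.normalizer ((Subgroup.zpowers x : Subgroup G) : Set G) :=
    mem_normalizer_zpowers (by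
      rw [InvolCount.inverts_mul hi hj]; exact Subgroup.inv_mem _ (Subgroup.mem_zpowers x))
  have hico : (orderOf i).Coprime p := by
    rw [hi, Nat.coprime_primes Nat.prime_two hp]; exact S.odd.symm
  have h1 := S.ab.commute_normalized (K := Subgroup.zpowers x) (by rwa [Nat.card_zpowers]) hiN hico x
    (Subgroup.mem_zpowers x)
  refine hij ?_
  rw [hx, ← mul_assoc, InvolCount.mul_self_invol hi, one_mul] at h1
  calc i * j = i * (i * j * i) := by rw [← h1]
    _ = j * i := by rw [← mul_assoc, ← mul_assoc, InvolCount.mul_self_invol hi, one_mul]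

/-- The `p'`-part of `C(P)`. -/
theorem exists_H (S : Setup P h₀) : ∃ H : Subgroup G,
    (∀ y, y ∈ H ↔ y ∈ CP ∧ (orderOf y).Coprime p) ∧ ¬ p ∣ Nat.card H ∧
      Nat.card CP = Nat.card P * Nat.card H := by
  have hPC := le_centralizer_self S.cyc
  set Q := P.subtype hPC with hQ
  have hle : Subgroup.normalizer ((Q : Subgroup CP) : Set CP) ≤
      Subgroup.centralizer ((Q : Subgroup CP) : Set CP) := by
    intro x _
    refine Subgroup.mem_centralizer_iff.2 fun v hv => Subtype.ext ?_
    exact Subgroup.mem_centralizer_iff.1 x.2 (v : G) (by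
      rw [hQ, Sylow.coe_subtype] at hv; exact hv)
  have hc := MonoidHom.ker_transferSylow_isComplement' Q hle
  have hn : HasNormalPComplement p CP := ⟨Q, _, inferInstance, hc⟩
  refine ⟨(pResidual p CP).map (Subgroup.subtype CP), fun y => ⟨?_, ?_⟩, ?_, ?_⟩
  · rintro ⟨x, hx, rfl⟩
    refine ⟨x.2, ?_⟩
    have := (Fusion.hnpc_mem_iff hn).1 hx
    rwa [← Subgroup.orderOf_coe] at this
  · rintro ⟨hy, hco⟩
    exact ⟨⟨y, hy⟩, (Fusion.hnpc_mem_iff hn).2 (by rwa [Subgroup.orderOf_mk]), rfl⟩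
  · rw [card_map_subtype]; exact not_dvd_of_coprime (Fusion.hnpc_iff.1 hn)
  · rw [card_map_subtype, ← Fusion.eq_pResidual_of_isComplement' hc, ← hc.card_mul_card,
      mul_comm (Nat.card P)]
    congr 1
    exact card_subgroupOf hPC

/-- `C(P) = P` is impossible. -/
theorem not_centralizer_eq (S : Setup P h₀) (hCP : CP ≤ (P : Subgroup G)) : False := by
  classical
  haveI := Fintype.ofFinite G
  have hp : p.Prime := Fact.out
  haveI := S.simple
  have hconj : ∀ {y g a : G}, y ≠ 1 → g * y * g⁻¹ ∈ (P : Subgroup G) → a * y = y * a →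
      g * a * g⁻¹ ∈ (P : Subgroup G) := fun hy hg ha => hCP (S.conj_mem_C hy hg ha)
  have hsing : ∀ x : G, p ∣ orderOf x →
      ∃ y g : G, y ≠ 1 ∧ g * y * g⁻¹ ∈ (P : Subgroup G) ∧ ∀ a, a * x = x * a → a * y = y * a := by
    intro x hx
    have ho := orderOf_pow_orderOf_div (orderOf_pos x).ne' hx
    obtain ⟨g, hg⟩ := exists_conj_P (P := P) (y := x ^ (orderOf x / p)) (k := 1) (by rw [pow_one, ho])
    refine ⟨_, g, fun e => ?_, hg, fun a ha => ((show Commute a x from ha).pow_right _).eq⟩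
    rw [e, orderOf_one] at ho
    exact hp.ne_one ho.symm
  have hC' : ∀ x : G, x ≠ 1 → ¬ p ∣ orderOf x →
      ¬ p ∣ Nat.card (Subgroup.centralizer ({x} : Set G)) := by
    intro x hx hpx hd
    obtain ⟨⟨y, hyC⟩, hy⟩ := exists_prime_orderOf_dvd_card' p hd
    rw [Subgroup.orderOf_mk] at hy
    obtain ⟨g, hg⟩ := exists_conj_P (P := P) (y := y) (k := 1) (by rw [pow_one, hy])
    have hy1 : y ≠ 1 := fun e => by rw [e, orderOf_one] at hy; exact hp.ne_one hy.symm
    have h1 := hconj hy1 hg (Subgroup.mem_centralizer_singleton_iff.1 hyC).symm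
    obtain ⟨k, hk⟩ := IsPGroup.iff_orderOf.1 P.isPGroup' ⟨_, h1⟩
    rw [Subgroup.orderOf_mk, show g * x * g⁻¹ = (MulAut.conj g).toMonoidHom x by simp,
      orderOf_injective _ (MulAut.conj g).injective] at hk
    rcases k with _ | k
    · rw [pow_zero, orderOf_eq_one_iff] at hk; exact hx hk
    · exact hpx (hk ▸ dvd_pow_self p (Nat.succ_ne_zero k))
  have hCA : ∀ x : G, x ≠ 1 → ∀ a ∈ Subgroup.centralizer ({x} : Set G),
      ∀ b ∈ Subgroup.centralizer ({x} : Set G), a * b = b * a := by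
    intro x hx a ha b hb
    by_cases hpx : p ∣ orderOf x
    · obtain ⟨y, g, hy, hg, hcy⟩ := hsing x hpx
      have h1 := hconj hy hg (hcy a (Subgroup.mem_centralizer_singleton_iff.1 ha))
      have h2 := hconj hy hg (hcy b (Subgroup.mem_centralizer_singleton_iff.1 hb))
      have h3 := comm_of_cyclic S.cyc h1 h2
      calc a * b = g⁻¹ * (g * a * g⁻¹ * (g * b * g⁻¹)) * g := by group
        _ = g⁻¹ * (g * b * g⁻¹ * (g * a * g⁻¹)) * g := by rw [h3]
        _ = b * a := by group
    · exact S.ab.comm (hC' x hx hpx) ha hb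
  rcases (Nat.even_or_odd (Nat.card G)).symm with hodd | heven
  · haveI := S.simple.toNontrivial
    exact not_subsingleton G (SuzukiCA.subsingleton_of_perfect hodd S.perf hCA)
  haveI : Fact (Nat.Prime 2) := ⟨Nat.prime_two⟩
  obtain ⟨i, hi⟩ := exists_prime_orderOf_dvd_card' 2 (even_iff_two_dvd.1 heven)
  have hi1 : i ≠ 1 := fun e => by rw [e, orderOf_one] at hi; omega
  have hpi : ¬ p ∣ orderOf i := by
    rw [hi]; exact fun h => S.odd ((Nat.prime_dvd_prime_iff_eq hp Nat.prime_two).1 h)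
  set A := Subgroup.centralizer ({i} : Set G) with hA
  have hiA : i ∈ A := Subgroup.mem_centralizer_singleton_iff.2 rfl
  have hAp : ¬ p ∣ Nat.card A := hC' i hi1 hpi
  have hAcomm : ∀ a ∈ A, ∀ b ∈ A, a * b = b * a := fun a ha b hb => S.ab.comm hAp ha hb
  have hAeq : ∀ a ∈ A, a ≠ 1 → Subgroup.centralizer ({a} : Set G) = A := by
    intro a ha ha1
    refine le_antisymm (fun b hb => Subgroup.mem_centralizer_singleton_iff.2
      (hCA a ha1 b hb i ?_)) fun b hb => Subgroup.mem_centralizer_singleton_iff.2 (hAcomm b hb a ha)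
    exact Subgroup.mem_centralizer_singleton_iff.2 (hAcomm i hiA a ha)
  have hclosure : ¬ ∀ g : G, g * i * g⁻¹ ∈ A := by
    intro hall
    have h1 : Subgroup.normalClosure ({i} : Set G) ≤ A := by
      rw [Subgroup.normalClosure, Subgroup.closure_le]
      intro y hy
      obtain ⟨a, ha, hay⟩ := Group.mem_conjugatesOfSet_iff.1 hy
      rw [Set.mem_singleton_iff] at ha
      subst ha
      obtain ⟨c, hc⟩ := isConj_iff.1 hay
      exact hc ▸ hall c
    rcases (inferInstance : (Subgroup.normalClosure ({i} : Set G)).Normal).eq_bot_or_eq_top with e | e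
    · exact hi1 (Subgroup.mem_bot.1 (e.le (Subgroup.subset_normalClosure (Set.mem_singleton i))))
    · exact S.not_comm fun a b => hAcomm a (h1 (e.ge (Subgroup.mem_top a))) b (h1 (e.ge (Subgroup.mem_top b)))
  obtain ⟨T2, hT2⟩ := (isPGroup_zpowers (p := 2) (k := 1) (u := i) (by rw [pow_one, hi])).exists_le_sylow
  have hiT : i ∈ (T2 : Subgroup G) := hT2 (Subgroup.mem_zpowers i)
  have hTA : (T2 : Subgroup G) ≤ A := by
    haveI : Nontrivial T2 := ⟨⟨⟨i, hiT⟩, 1, fun e => hi1 (congrArg Subtype.val e)⟩⟩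
    haveI : Nontrivial (Subgroup.center T2) := T2.isPGroup'.center_nontrivial
    obtain ⟨⟨c, hc⟩, hc1⟩ := exists_ne (1 : Subgroup.center T2)
    have hc1' : (c : G) ≠ 1 := fun e => hc1 (Subtype.ext (Subtype.ext e))
    have hcy : ∀ s ∈ (T2 : Subgroup G), s * (c : G) = c * s := fun s hs =>
      congrArg Subtype.val (Subgroup.mem_center_iff.1 hc ⟨s, hs⟩)
    have hcA : (c : G) ∈ A := Subgroup.mem_centralizer_singleton_iff.2 (hcy i hiT).symm
    intro s hs
    rw [← hAeq c hcA hc1', Subgroup.mem_centralizer_singleton_iff]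
    exact hcy s hs
  have hNA : ¬ Subgroup.normalizer (A : Set G) ≤ A := by
    intro hle
    refine S.normalizer_not_le T2 (fun e => hi1 (Subgroup.mem_bot.1 (e.le hiT))) fun n hn => ?_
    have hnA : n ∈ A := by
      refine hle (mem_normalizer_of_conj_smul (Subgroup.eq_of_le_of_card_ge ?_ (card_conj_smul n A).ge))
      intro y hy
      rw [mem_conj_smul] at hy
      have h1 : n * i * n⁻¹ ∈ A := hTA (((Subgroup.mem_normalizer_iff.1 hn) i).1 hiT)
      rw [← hAeq _ h1 (fun e => hi1 (conj_eq_one_iff.1 e)), Subgroup.mem_centralizer_singleton_iff]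
      calc y * (n * i * n⁻¹) = n * ((n⁻¹ * y * n) * i) * n⁻¹ := by group
        _ = n * (i * (n⁻¹ * y * n)) * n⁻¹ := by rw [hAcomm _ hy i hiA]
        _ = _ := by group
    exact Subgroup.mem_centralizer_iff.2 fun v hv => hAcomm v (hTA hv) n hnA
  have hpN : p ∣ Nat.card (Subgroup.normalizer (A : Set G)) := by
    by_contra hd
    exact hNA fun n hn => Subgroup.mem_centralizer_singleton_iff.2
      (S.ab.comm hd hn (Subgroup.le_normalizer hiA))
  have hallconj : ∀ j : G, orderOf j = 2 → ∃ g : G, g * i * g⁻¹ = j := by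
    intro j hj
    by_contra hno
    have hkey : ∀ g : G, g * i * g⁻¹ * j = j * (g * i * g⁻¹) := by
      intro g
      have ho : orderOf (g * i * g⁻¹) = 2 := by
        rw [show g * i * g⁻¹ = (MulAut.conj g).toMonoidHom i by simp,
          orderOf_injective _ (MulAut.conj g).injective, hi]
      rcases conj_or_common ho hj with ⟨g', hg'⟩ | ⟨k, hk, hk1, hk2⟩
      · exact absurd ⟨g' * g, by rw [← hg']; group⟩ hno
      · have hk0 : k ≠ 1 := fun e => by rw [e, orderOf_one] at hk; omega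
        exact hCA k hk0 _ (Subgroup.mem_centralizer_singleton_iff.2 hk1.symm) _
          (Subgroup.mem_centralizer_singleton_iff.2 hk2.symm)
    have hjA : j ∈ A := Subgroup.mem_centralizer_singleton_iff.2 (by simpa using (hkey 1).symm)
    have hj1 : j ≠ 1 := fun e => by rw [e, orderOf_one] at hj; omega
    exact hclosure fun g => (hAeq j hjA hj1).le (Subgroup.mem_centralizer_singleton_iff.2 (hkey g))
  set n := Nat.card {j : G // orderOf j = 2} with hn
  set m := Nat.card {j : G // orderOf j = 2 ∧ i * j = j * i} with hm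
  have hpm : p ∣ m := by
    have hcard : Nat.card (Subgroup.normalizer (A : Set G)) = m * Nat.card A := by
      let f : Subgroup.normalizer (A : Set G) → {j : G // orderOf j = 2 ∧ i * j = j * i} := fun g =>
        ⟨(g : G) * i * (g : G)⁻¹, by
          rw [show (g : G) * i * (g : G)⁻¹ = (MulAut.conj (g : G)).toMonoidHom i by simp,
            orderOf_injective _ (MulAut.conj (g : G)).injective, hi],
          hAcomm i hiA _ (((Subgroup.mem_normalizer_iff.1 g.2) i).1 hiA)⟩
      refine Solv.card_eq_mul_of_fibres f fun b => ?_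
      obtain ⟨j, hj, hij⟩ := b
      have hjA : j ∈ A := Subgroup.mem_centralizer_singleton_iff.2 hij.symm
      have hj1 : j ≠ 1 := fun e => by rw [e, orderOf_one] at hj; omega
      obtain ⟨g0, hg0⟩ := hallconj j hj
      have hg0N : g0 ∈ Subgroup.normalizer (A : Set G) := by
        refine mem_normalizer_of_conj_smul (Subgroup.eq_of_le_of_card_ge (fun y hy => ?_) (card_conj_smul g0 A).ge)
        rw [mem_conj_smul] at hy
        rw [← hAeq j hjA hj1, Subgroup.mem_centralizer_singleton_iff, ← hg0]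
        calc y * (g0 * i * g0⁻¹) = g0 * ((g0⁻¹ * y * g0) * i) * g0⁻¹ := by group
          _ = g0 * (i * (g0⁻¹ * y * g0)) * g0⁻¹ := by rw [hAcomm _ hy i hiA]
          _ = _ := by group
      refine Nat.card_congr
        { toFun := fun g => ⟨g0⁻¹ * g.1.1, Subgroup.mem_centralizer_singleton_iff.2 (by
            have e : (g.1 : G) * i * (g.1 : G)⁻¹ = j := congrArg Subtype.val g.2
            calc g0⁻¹ * g.1.1 * i = g0⁻¹ * ((g.1 : G) * i * (g.1 : G)⁻¹) * g.1.1 := by group
              _ = g0⁻¹ * (g0 * i * g0⁻¹) * g.1.1 := by rw [e, hg0]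
              _ = _ := by group)⟩
          invFun := fun a => ⟨⟨g0 * a.1, Subgroup.mul_mem _ hg0N (Subgroup.le_normalizer a.2)⟩,
            Subtype.ext (by
              show g0 * a.1 * i * (g0 * a.1)⁻¹ = j
              rw [show g0 * a.1 * i * (g0 * a.1)⁻¹ = g0 * (a.1 * i) * (a.1⁻¹ * g0⁻¹) by group,
                hAcomm _ a.2 i hiA, ← hg0]
              group)⟩
          left_inv := fun g => Subtype.ext (Subtype.ext (by simp))
          right_inv := fun a => Subtype.ext (by simp) }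
    rw [hcard] at hpN
    exact (hp.dvd_mul.1 hpN).resolve_right hAp
  -- involutions in `N(P)`
  let I := {j : G // orderOf j = 2 ∧ j ∈ NP}
  have hinv : ∀ j : G, orderOf j = 2 → j ∈ NP → ∀ v ∈ (P : Subgroup G), j * v * j⁻¹ = v⁻¹ := by
    intro j hj hjN v hv
    have hjC : j ∉ CP := fun hc => by
      obtain ⟨k, hk⟩ := IsPGroup.iff_orderOf.1 P.isPGroup' ⟨j, hCP hc⟩
      rw [Subgroup.orderOf_mk, hj] at hk
      have h2 : (2 : ℕ) ∣ p ^ k := hk ▸ dvd_rfl
      exact S.odd ((Nat.prime_dvd_prime_iff_eq Nat.prime_two hp).1 (Nat.prime_two.dvd_of_dvd_pow h2)).symm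
    have hw : j * v * j⁻¹ ∈ (P : Subgroup G) := ((Subgroup.mem_normalizer_iff.1 hjN) v).1 hv
    refine eq_inv_of_mul_eq_one_right (CyclicDichotomy.fpf S.cyc hjN hjC ?_
      ((P : Subgroup G).mul_mem hv hw) ?_)
    · rw [hj, Nat.coprime_primes Nat.prime_two hp]; exact S.odd.symm
    · have hjj := InvolCount.mul_self_invol hj
      rw [InvolCount.inv_of_invol hj] at hw ⊢
      calc j * (v * (j * v * j)) = (j * v * j) * v * j := by group
        _ = v * (j * v * j) * j := by rw [comm_of_cyclic S.cyc hw hv]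
  have hIcard : Nat.card I = 0 ∨ Nat.card I = Nat.card P := by
    rcases isEmpty_or_nonempty I with hI | ⟨⟨j0, hj0, hj0N⟩⟩
    · exact Or.inl Nat.card_of_isEmpty
    refine Or.inr (Nat.card_congr
      { toFun := fun j => ⟨j0 * j.1, hCP (Subgroup.mem_centralizer_iff.2 fun v hv => ?_)⟩
        invFun := fun v => ⟨j0 * v.1, ?_, Subgroup.mul_mem _ hj0N (Subgroup.le_normalizer v.2)⟩
        left_inv := fun j => Subtype.ext (by
          show j0 * (j0 * j.1) = j.1
          rw [← mul_assoc, InvolCount.mul_self_invol hj0, one_mul])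
        right_inv := fun v => Subtype.ext (by
          show j0 * (j0 * v.1) = v.1
          rw [← mul_assoc, InvolCount.mul_self_invol hj0, one_mul]) })
    · have h1 := hinv j.1 j.2.1 j.2.2 v hv
      have h2 := hinv j0 hj0 hj0N _ ((P : Subgroup G).inv_mem hv)
      rw [inv_inv, ← h1] at h2
      calc v * (j0 * j.1) = (j0 * (j.1 * v * j.1⁻¹) * j0⁻¹) * (j0 * j.1) := by rw [h2]
        _ = j0 * j.1 * v := by group
    · refine orderOf_eq_prime ?_ fun e => ?_
      · rw [pow_two, show j0 * v.1 * (j0 * v.1) = j0 * v.1 * j0 * v.1 by group]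
        nth_rw 2 [← InvolCount.inv_of_invol hj0]
        rw [hinv j0 hj0 hj0N _ v.2, inv_mul_cancel]
      · have hjP : j0 ∈ (P : Subgroup G) := by
          rw [eq_inv_of_mul_eq_one_left e]; exact (P : Subgroup G).inv_mem v.2
        obtain ⟨k, hk⟩ := IsPGroup.iff_orderOf.1 P.isPGroup' ⟨j0, hjP⟩
        rw [Subgroup.orderOf_mk, hj0] at hk
        have h2 : (2 : ℕ) ∣ p ^ k := hk ▸ dvd_rfl
        exact S.odd ((Nat.prime_dvd_prime_iff_eq Nat.prime_two hp).1 (Nat.prime_two.dvd_of_dvd_pow h2)).symm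
  set T := {x : G | ∃ g : G, g⁻¹ * x * g ∈ {u : G | u ∈ (P : Subgroup G) ∧ u ≠ 1}} with hT
  have hpairs := InvolCount.card_pairs T (Nat.card I) m ?_ ?_ ?_ ?_
  rotate_left
  · intro a b ha hb hab
    have hd := S.dvd_orderOf_mul ha hb hab
    obtain ⟨y, g, hy, hg, hcy⟩ := hsing _ hd
    refine ⟨g⁻¹, ?_⟩
    rw [inv_inv]
    refine ⟨hconj hy hg (hcy _ rfl), fun e => ?_⟩
    rw [conj_eq_one_iff.1 e, orderOf_one, Nat.dvd_one] at hd
    exact hp.ne_one hd
  · rintro x ⟨g, hgP, hg1⟩ hxx
    refine hg1 ?_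
    have h2 : g⁻¹ * x * g * (g⁻¹ * x * g) = 1 := by
      calc g⁻¹ * x * g * (g⁻¹ * x * g) = g⁻¹ * (x * x) * g := by group
        _ = 1 := by rw [hxx]; group
    obtain ⟨k, hk⟩ := IsPGroup.iff_orderOf.1 P.isPGroup' ⟨_, hgP⟩
    rw [Subgroup.orderOf_mk] at hk
    have h3 : orderOf (g⁻¹ * x * g) ∣ 2 := orderOf_dvd_of_pow_eq_one (by rw [pow_two]; exact h2)
    rw [hk] at h3
    have hco : (p ^ k).Coprime 2 :=
      Nat.Coprime.pow_left k ((Nat.coprime_primes hp Nat.prime_two).2 S.odd)
    rw [← orderOf_eq_one_iff, hk]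
    exact Nat.eq_one_of_dvd_coprimes hco dvd_rfl h3
  · rintro x ⟨g, hgP, hg1⟩
    refine Nat.card_congr ((MulAut.conj g⁻¹).toEquiv.subtypeEquiv fun j => ?_)
    show _ ↔ orderOf ((MulAut.conj g⁻¹).toMonoidHom j) = 2 ∧ g⁻¹ * j * g⁻¹⁻¹ ∈ NP
    rw [orderOf_injective _ (MulAut.conj g⁻¹).injective, inv_inv]
    refine and_congr_right fun hj => ?_
    have ho : orderOf (g⁻¹ * j * g) = 2 := by
      rw [show g⁻¹ * j * g = (MulAut.conj g⁻¹).toMonoidHom j by simp,
        orderOf_injective _ (MulAut.conj g⁻¹).injective, hj]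
    have e : j * x * j⁻¹ = x⁻¹ ↔
        (g⁻¹ * j * g) * (g⁻¹ * x * g) * (g⁻¹ * j * g)⁻¹ = (g⁻¹ * x * g)⁻¹ := by
      constructor
      · intro e
        calc _ = g⁻¹ * (j * x * j⁻¹) * g := by group
          _ = _ := by rw [e]; group
      · intro e
        calc j * x * j⁻¹ = g * ((g⁻¹ * j * g) * (g⁻¹ * x * g) * (g⁻¹ * j * g)⁻¹) * g⁻¹ := by group
          _ = _ := by rw [e]; group
    rw [e]
    exact ⟨fun h1 => S.normalizer_zpowers_le hgP hg1 (mem_normalizer_zpowers
      (by rw [h1]; exact Subgroup.inv_mem _ (Subgroup.mem_zpowers _))), fun h1 => hinv _ ho h1 _ hgP⟩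
  · intro a ha
    obtain ⟨g, rfl⟩ := hallconj a ha
    symm
    refine Nat.card_congr ((MulAut.conj g).toEquiv.subtypeEquiv fun j => ?_)
    show _ ↔ orderOf ((MulAut.conj g).toMonoidHom j) = 2 ∧
      MulAut.conj g i * MulAut.conj g j = MulAut.conj g j * MulAut.conj g i
    rw [orderOf_injective _ (MulAut.conj g).injective, ← map_mul, ← map_mul,
      (MulAut.conj g).injective.eq_iff]
  rw [← hn] at hpairs
  rcases hIcard with h0 | hq
  · rw [h0, mul_zero, add_zero] at hpairs
    have hn0 : n ≠ 0 := by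
      rw [hn, Nat.card_ne_zero]
      exact ⟨⟨⟨i, hi⟩⟩, inferInstance⟩
    have hnm : n = m := Nat.eq_of_mul_eq_mul_left (Nat.pos_of_ne_zero hn0) hpairs
    let inc : {j : G // orderOf j = 2 ∧ i * j = j * i} → {j : G // orderOf j = 2} := fun j => ⟨j.1, j.2.1⟩
    have hsur : Function.Surjective inc :=
      ((Nat.bijective_iff_injective_and_card inc).2
        ⟨fun a b e => Subtype.ext (congrArg (fun j : {j : G // orderOf j = 2} => j.1) e), hnm.symm⟩).2
    refine hclosure fun g => ?_
    obtain ⟨⟨j, hj1, hj2⟩, hj⟩ := hsur ⟨g * i * g⁻¹, by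
      rw [show g * i * g⁻¹ = (MulAut.conj g).toMonoidHom i by simp,
        orderOf_injective _ (MulAut.conj g).injective, hi]⟩
    have e : j = g * i * g⁻¹ := congrArg Subtype.val hj
    rw [← e]
    exact Subgroup.mem_centralizer_singleton_iff.2 hj2.symm
  rw [hq] at hpairs
  have hTcount := InvolCount.card_conj_set {u : G | u ∈ (P : Subgroup G) ∧ u ≠ 1} NP
    (fun g hg v hv => ⟨by
      have := ((Subgroup.mem_normalizer_iff.1 (Subgroup.inv_mem _ hg)) v).1 hv.1
      simpa using this, fun e => hv.2 (by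
        calc v = g * (g⁻¹ * v * g) * g⁻¹ := by group
          _ = 1 := by rw [e]; group)⟩)
    (fun v hv g hg => by
      refine mem_normalizer_of_conj_smul (Subgroup.eq_of_le_of_card_ge (fun y hy => ?_) (card_conj_smul g _).ge)
      rw [mem_conj_smul] at hy
      refine hCP (S.centralizer_le hv.1 hv.2 (Subgroup.mem_centralizer_singleton_iff.2 ?_))
      calc y * v = g * ((g⁻¹ * y * g) * (g⁻¹ * v * g)) * g⁻¹ := by group
        _ = g * ((g⁻¹ * v * g) * (g⁻¹ * y * g)) * g⁻¹ := by rw [comm_of_cyclic S.cyc hy hg.1]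
        _ = v * y := by group)
  have hcardS : Nat.card {u : G | u ∈ (P : Subgroup G) ∧ u ≠ 1} + 1 = Nat.card P := by
    have h1 : {u : G | u ∈ (P : Subgroup G) ∧ u ≠ 1} = ((P : Subgroup G) : Set G) \ {1} := rfl
    have h2 := Set.ncard_sdiff_add_ncard_of_subset (s := ({1} : Set G)) (t := ((P : Subgroup G) : Set G))
      (by simp)
    rw [Set.ncard_singleton, ← h1, ← Nat.card_coe_set_eq, ← Nat.card_coe_set_eq] at h2
    exact h2
  have hncount : Nat.card A * n = Nat.card G := by
    have h := InvolCount.card_conj_set ({i} : Set G) A (fun a ha v hv => by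
        rw [Set.mem_singleton_iff] at hv ⊢
        subst hv
        rw [mul_assoc, ← hAcomm a ha v hiA, inv_mul_cancel_left])
      (fun v hv g hg => by
        rw [Set.mem_singleton_iff] at hv hg
        subst hv
        rw [hA, Subgroup.mem_centralizer_singleton_iff]
        calc g * v = g * (g⁻¹ * v * g) := by rw [hg]
          _ = v * g := by group)
    rw [Nat.card_coe_set_eq ({i} : Set G), Set.ncard_singleton, mul_one] at h
    rw [← h, hn]
    congr 1
    refine Nat.card_congr (Equiv.subtypeEquivRight fun j => ⟨fun hj => ?_, ?_⟩)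
    · obtain ⟨g, hg⟩ := hallconj j hj
      exact ⟨g, by rw [Set.mem_singleton_iff, ← hg]; group⟩
    · rintro ⟨g, hg⟩
      rw [Set.mem_singleton_iff] at hg
      rw [← hi, ← hg, show g⁻¹ * j * g = (MulAut.conj g⁻¹).toMonoidHom j by simp,
        orderOf_injective _ (MulAut.conj g⁻¹).injective]
  set e := (P : Subgroup G).relIndex NP with he
  have heN : Nat.card NP = Nat.card P * e := by
    rw [he, Subgroup.relIndex, ← card_subgroupOf (Subgroup.le_normalizer (H := (P : Subgroup G))),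
      Subgroup.card_mul_index]
  have hpe : ¬ p ∣ e := fun hd => P.not_dvd_index
    (hd.trans ⟨_, (Subgroup.relIndex_mul_index (Subgroup.le_normalizer (H := (P : Subgroup G)))).symm⟩)
  rw [heN, ← hncount] at hTcount
  set t := Nat.card {x : G // ∃ g : G, g⁻¹ * x * g ∈ {u : G | u ∈ (P : Subgroup G) ∧ u ≠ 1}} with ht
  set s := Nat.card {u : G | u ∈ (P : Subgroup G) ∧ u ≠ 1} with hs
  have htT : Nat.card T = t := rfl
  rw [htT] at hpairs
  have hn0 : 0 < n := by
    rw [hn, Nat.card_pos_iff]; exact ⟨⟨⟨i, hi⟩⟩, inferInstance⟩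
  have key : e * n = e * m + Nat.card A * s := by
    refine Nat.eq_of_mul_eq_mul_left hn0 ?_
    calc n * (e * n) = e * (n * n) := by ring
      _ = e * (n * m) + Nat.card P * e * t := by rw [hpairs]; ring
      _ = e * (n * m) + Nat.card A * n * s := by rw [hTcount]
      _ = n * (e * m + Nat.card A * s) := by ring
  have hpn : p ∣ n := (hp.dvd_mul.1 (hncount ▸ S.dvd_card)).resolve_left hAp
  have hpA : p ∣ Nat.card A * s := (Nat.dvd_add_right (Dvd.dvd.mul_left hpm e)).1 (key ▸ Dvd.dvd.mul_left hpn e)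
  have hps : p ∣ s := (hp.dvd_mul.1 hpA).resolve_left hAp
  have hpP : p ∣ Nat.card P := by
    obtain ⟨k, hk⟩ := IsPGroup.iff_card.1 P.isPGroup'
    rcases k with _ | k
    · exact absurd (Subgroup.eq_bot_of_card_eq _ (by simpa using hk)) S.P_ne_bot
    · exact hk ▸ dvd_pow_self p (Nat.succ_ne_zero k)
  rw [← hcardS] at hpP
  exact hp.ne_one (Nat.dvd_one.1 ((Nat.dvd_add_right hps).1 hpP))

end Setup

end Cfsg.Agent.Solv.CyclicDichotomy
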