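import Cfsg.Agent.Lib.Solv.ArcScalar
import Cfsg.Agent.Lib.Char.Burnside

/-!
# Simple groups with a faithful character of degree three

The order is not divisible by nine: an elementary group of order nine would have all values zero, and the
eigenvalues of an element of order nine lie within forty degrees of one of them after taking a power.
-/

set_option autoImplicit false
set_option linter.style.haveILetI false

open Cfsg Cfsg.Agent.Char Module

namespace Cfsg.Agent.Solv.Arc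

universe u

variable {G : Type u} [Group G] [Finite G]

theorem cube_roots_sum {a b c : ℂ} (ha : a ^ 3 = 1) (hb : b ^ 3 = 1) (hc : c ^ 3 = 1) (h : a * b * c = 1)
    (hne : ¬ (a = b ∧ b = c)) : a + b + c = 0 ∧ a ≠ b ∧ b ≠ c ∧ a ≠ c := by
  have ha0 : a ≠ 0 := fun e => by simp [e] at ha
  have hb0 : b ≠ 0 := fun e => by simp [e] at hb
  have hc0 : c ≠ 0 := fun e => by simp [e] at hc
  have hab : a ≠ b := fun e => by
    subst e
    have : a * (a * a) * c = a * 1 := by linear_combination a * h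
    rw [show a * (a * a) = a ^ 3 by ring, ha, one_mul, mul_one] at this
    exact hne ⟨rfl, this.symm⟩
  have hbc : b ≠ c := fun e => by
    subst e
    have : a * b ^ 3 = b * 1 := by linear_combination b * h
    rw [hb, mul_one, mul_one] at this
    exact hne ⟨this, rfl⟩
  have hac : a ≠ c := fun e => by
    subst e
    have : b * a ^ 3 = a * 1 := by linear_combination a * h
    rw [ha, mul_one, mul_one] at this
    exact hne ⟨this.symm, this⟩
  refine ⟨?_, hab, hbc, hac⟩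
  have h1 : a ^ 2 + a * b + b ^ 2 = 0 := by
    refine (mul_eq_zero.mp (?_ : (a - b) * (a ^ 2 + a * b + b ^ 2) = 0)).resolve_left (sub_ne_zero.mpr hab)
    linear_combination ha - hb
  have h2 : b ^ 2 + b * c + c ^ 2 = 0 := by
    refine (mul_eq_zero.mp (?_ : (b - c) * (b ^ 2 + b * c + c ^ 2) = 0)).resolve_left (sub_ne_zero.mpr hbc)
    linear_combination hb - hc
  refine (mul_eq_zero.mp (?_ : (a - c) * (a + b + c) = 0)).resolve_left (sub_ne_zero.mpr hac)
  linear_combination h1 - h2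

variable [IsSimpleGroup G] (hnc : ¬ ∀ a b : G, a * b = b * a)
  (ρ : Representation ℂ G (Fin 3 → ℂ)) (hρ : ρ.IsIrreducible) (hinj : ∀ g, ρ g = 1 → g = 1)

include hnc hinj in
omit [Finite G] in
theorem eq_one_of_scalar {g : G} {c : ℂ} (h : ∀ v, ρ g v = c • v) : g = 1 := by
  have hg : g ∈ Subgroup.center G := Subgroup.mem_center_iff.mpr fun x => by
    have h1 : ρ (x * g) = ρ (g * x) := LinearMap.ext fun v => by
      rw [map_mul, map_mul, Module.End.mul_apply, Module.End.mul_apply, h, h, map_smul]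
    refine (inv_mul_eq_one.mp (hinj _ ?_)).symm
    rw [map_mul, h1, ← map_mul, inv_mul_cancel, map_one]
  rcases (inferInstance : (Subgroup.center G).Normal).eq_bot_or_eq_top with e | e
  · simpa [e] using hg
  · exact absurd (fun a b => Subgroup.mem_center_iff.mp (e ▸ Subgroup.mem_top b) a) hnc

include hnc in
/-- Three eigenvalues with product one. -/
theorem eigen_three {g : G} {m : ℕ} (hm : m ≠ 0) (hg : g ^ m = 1) :
    ∃ (b : Basis (Fin 3) ℂ (Fin 3 → ℂ)) (μ : Fin 3 → ℂ), (∀ i, μ i ^ m = 1) ∧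
      (∀ i, ρ g (b i) = μ i • b i) ∧ ρ.character g = μ 0 + μ 1 + μ 2 ∧ μ 0 * μ 1 * μ 2 = 1 := by
  obtain ⟨b₀, μ₀, hμ, hb⟩ := exists_eigenbasis_of_pow_eq_one (ρ g) m hm (by rw [← map_pow, hg, map_one])
  let e : Fin (finrank ℂ (Fin 3 → ℂ)) ≃ Fin 3 := finCongr (by simp)
  have hb' : ∀ i, ρ g (b₀.reindex e i) = μ₀ (e.symm i) • b₀.reindex e i := fun i => by
    rw [Basis.reindex_apply]; exact hb _
  refine ⟨b₀.reindex e, fun i => μ₀ (e.symm i), fun i => hμ _, hb', ?_, ?_⟩
  · rw [show ρ.character g = LinearMap.trace ℂ _ (ρ g) from rfl,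
      trace_of_eigenbasis _ (ρ g) _ hb', Fin.sum_univ_three]
  · have hdet := det_of_eigenbasis _ (ρ g) _ hb'
    rw [Fin.prod_univ_three] at hdet
    rw [← hdet]
    let D : G →* ℂ := LinearMap.det.comp ρ
    have hD : ∀ x y : G, D (x * y * x⁻¹ * y⁻¹) = 1 := fun x y => by
      rw [map_mul, map_mul, map_mul, mul_right_comm (D x), ← map_mul, mul_inv_cancel, map_one, one_mul,
        ← map_mul, mul_inv_cancel, map_one]
    have hle : commutator G ≤ D.ker := by
      rw [commutator_def, Subgroup.commutator_le]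
      exact fun x _ y _ => MonoidHom.mem_ker.mpr (by rw [commutatorElement_def]; exact hD x y)
    have htop : commutator G = ⊤ := by
      rcases (inferInstance : (commutator G).Normal).eq_bot_or_eq_top with e | e
      · exfalso
        refine hnc fun x y => commutatorElement_eq_one_iff_mul_comm.mp ?_
        have := Subgroup.commutator_mem_commutator (Subgroup.mem_top x) (Subgroup.mem_top y)
        rwa [← commutator_def, e, Subgroup.mem_bot] at this
      · exact e
    exact MonoidHom.mem_ker.mp (hle (htop ▸ Subgroup.mem_top g))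

include hnc hinj in
theorem value_zero {g : G} (hg : orderOf g = 3) : ρ.character g = 0 := by
  obtain ⟨b, μ, hμ, hb, htr, hprod⟩ := eigen_three hnc ρ (m := 3) (by norm_num) (hg ▸ pow_orderOf_eq_one g)
  rw [htr]
  refine (cube_roots_sum (hμ 0) (hμ 1) (hμ 2) hprod fun h => ?_).1
  have h1 : g = 1 := eq_one_of_scalar hnc ρ hinj (c := μ 0) fun v => by
    have : ρ g = μ 0 • (LinearMap.id : (Fin 3 → ℂ) →ₗ[ℂ] (Fin 3 → ℂ)) := b.ext fun i => by
      fin_cases i <;> simp [hb, ← h.1, ← h.2]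
    rw [this]; rfl
  rw [h1, orderOf_one] at hg
  omega

include hnc hρ hinj in
theorem no_order_nine {y : G} (hy : orderOf y = 9) : False := by
  obtain ⟨b, μ, hμ, hb, -, hprod⟩ := eigen_three hnc ρ (m := 9) (by norm_num) (hy ▸ pow_orderOf_eq_one y)
  have hdist := cube_roots_sum (a := μ 0 ^ 3) (b := μ 1 ^ 3) (c := μ 2 ^ 3)
    (by rw [← pow_mul]; exact hμ 0) (by rw [← pow_mul]; exact hμ 1) (by rw [← pow_mul]; exact hμ 2)
    (by rw [← mul_pow, ← mul_pow, hprod, one_pow]) fun h => by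
      have hp : ∀ i, ρ (y ^ 3) (b i) = μ i ^ 3 • b i := fun i => by
        rw [map_pow]; exact eigenbasis_pow_apply b _ μ hb 3 i
      have h1 : y ^ 3 = 1 := eq_one_of_scalar hnc ρ hinj (c := μ 0 ^ 3) fun v => by
        have : ρ (y ^ 3) = μ 0 ^ 3 • (LinearMap.id : (Fin 3 → ℂ) →ₗ[ℂ] (Fin 3 → ℂ)) := b.ext fun i => by
          rw [hp, LinearMap.smul_apply, LinearMap.id_apply]
          fin_cases i <;> simp [← h.1, ← h.2]
        rw [this]; rfl
      have := orderOf_dvd_of_pow_eq_one h1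
      rw [hy] at this
      norm_num at this
  obtain ⟨i₀, hi₀⟩ : ∃ i, μ i ^ 3 = 1 := by
    obtain ⟨ω, hω⟩ : ∃ ω : ℂ, IsPrimitiveRoot ω 3 := ⟨_, Complex.isPrimitiveRoot_exp 3 (by norm_num)⟩
    by_contra hall
    push Not at hall
    have hk : ∀ i, ∃ k < 3, ω ^ k = μ i ^ 3 := fun i =>
      hω.eq_pow_of_pow_eq_one (by rw [← pow_mul]; exact hμ i)
    choose k hk3 hk using hk
    have hk0 : ∀ i, k i ≠ 0 := fun i h => hall i (by rw [← hk i, h, pow_zero])
    have hinjk : ∀ i j, μ i ^ 3 ≠ μ j ^ 3 → k i ≠ k j := fun i j h e => h (by rw [← hk i, ← hk j, e])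
    have := hinjk 0 1 hdist.2.1
    have := hinjk 1 2 hdist.2.2.1
    have := hinjk 0 2 hdist.2.2.2
    have := hk3 0; have := hk3 1; have := hk3 2
    have := hk0 0; have := hk0 1; have := hk0 2
    omega
  obtain ⟨j, l, hij, hil, hprod', hcases⟩ : ∃ j l, μ i₀ ^ 3 ≠ μ j ^ 3 ∧ μ i₀ ^ 3 ≠ μ l ^ 3 ∧
      μ i₀ * μ j * μ l = 1 ∧ ∀ i, i = i₀ ∨ i = j ∨ i = l := by
    obtain ⟨-, h01, h12, h02⟩ := hdist
    fin_cases i₀
    · exact ⟨1, 2, h01, h02, hprod, fun i => by fin_cases i <;> simp⟩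
    · exact ⟨0, 2, Ne.symm h01, h12, (show μ 1 * μ 0 * μ 2 = 1 by linear_combination hprod), fun i => by fin_cases i <;> simp⟩
    · exact ⟨0, 1, Ne.symm h02, Ne.symm h12, (show μ 2 * μ 0 * μ 1 = 1 by linear_combination hprod), fun i => by fin_cases i <;> simp⟩
  set τ : ℂ := μ j / μ i₀ with hτ
  have hμ0 : ∀ i, μ i ≠ 0 := fun i h => by simpa [h] using hμ i
  have hτ3 : τ ^ 3 = μ j ^ 3 := by rw [hτ, div_pow, hi₀, div_one]
  have hτ9 : τ ^ 9 = 1 := by rw [hτ, div_pow, hμ, hμ, div_one]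
  set ζ := Complex.exp (2 * Real.pi * Complex.I / 9) with hζ
  have hprim : IsPrimitiveRoot ζ 9 := Complex.isPrimitiveRoot_exp 9 (by norm_num)
  obtain ⟨s, hs9, hs⟩ := hprim.eq_pow_of_pow_eq_one hτ9
  have hs3 : ¬ 3 ∣ s := fun ⟨c, hc⟩ => hij (by
    rw [hi₀, ← hτ3, ← hs, ← pow_mul, hc, show 3 * c * 3 = 9 * c by ring, pow_mul, hprim.pow_eq_one, one_pow])
  obtain ⟨k, hk, hkc⟩ : ∃ k : ℕ, s * k % 9 = 1 ∧ ¬ 3 ∣ k := by
    refine ⟨s ^ 5, ?_, fun h => hs3 (Nat.prime_three.dvd_of_dvd_pow h)⟩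
    interval_cases s <;> first | omega | norm_num
  have hτk : τ ^ k = ζ := by
    rw [← hs, ← pow_mul, pow_eq_pow_mod _ hprim.pow_eq_one, hk, pow_one]
  set ε := μ i₀ ^ k with hε
  have hεn : ‖ε‖ = 1 := by rw [hε, norm_pow, root_of_unity_norm (by norm_num) (hμ i₀), one_pow]
  have hjk : μ j ^ k = ζ * ε := by rw [← hτk, hε, ← mul_pow, hτ, div_mul_cancel₀ _ (hμ0 i₀)]
  have hlk : μ l ^ k = ζ⁻¹ * ε := by
    have h1 : μ i₀ ^ k * μ j ^ k * μ l ^ k = 1 := by rw [← mul_pow, ← mul_pow, hprod', one_pow]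
    have h3 : ε * ε * ε = 1 := by
      rw [hε, ← pow_add, ← pow_add, show k + k + k = 3 * k by ring, pow_mul, hi₀, one_pow]
    rw [hjk, ← hε] at h1
    have hz0 : ζ ≠ 0 := hprim.ne_zero (by norm_num)
    field_simp
    linear_combination ε * h1 - (ζ * μ l ^ k) * h3
  have hyk : y ^ k ≠ 1 := fun h => by
    have := orderOf_dvd_of_pow_eq_one h
    rw [hy] at this
    exact hkc ((show (3 : ℕ) ∣ 9 by norm_num).trans this)
  have hpow : ∀ i, ρ (y ^ k) (b i) = μ i ^ k • b i := fun i => by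
    rw [map_pow]; exact eigenbasis_pow_apply b _ μ hb k i
  obtain ⟨ν, v, hv, hν, hfar⟩ := eigen_far hnc ρ hρ hinj hyk (b.ne_zero i₀) (hpow i₀) hεn
  obtain ⟨i, hi⟩ : ∃ i, b.repr v i ≠ 0 := by
    by_contra h
    push Not at h
    exact hv (b.repr.map_eq_zero_iff.mp (Finsupp.ext h))
  have h1 : b.repr (ρ (y ^ k) v) i = μ i ^ k * b.repr v i := by
    conv_lhs => rw [← b.sum_repr v]
    simp only [map_sum, map_smul, hpow, Finsupp.coe_finsetSum, Finset.sum_apply,
      Finsupp.smul_apply, Basis.repr_self, smul_eq_mul, Finsupp.single_apply, mul_ite, mul_one,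
      mul_zero, Finset.sum_ite_eq', Finset.mem_univ, if_true]
    ring
  rw [hν, map_smul, Finsupp.smul_apply, smul_eq_mul] at h1
  rw [mul_right_cancel₀ hi h1] at hfar
  set θ : ℝ := 2 * Real.pi / 9 with hθ
  have hζθ : ζ = Complex.exp (Complex.I * (θ : ℂ)) := by
    rw [hζ, hθ]; congr 1; push_cast; ring
  have hnear : ‖ζ - 1‖ < 1 := by
    rw [hζθ, Complex.norm_exp_I_mul_ofReal_sub_one, Real.norm_eq_abs, abs_mul, abs_two]
    have hpi := Real.pi_pos
    have h2 : 0 ≤ Real.sin (θ / 2) :=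
      Real.sin_nonneg_of_nonneg_of_le_pi (by rw [hθ]; positivity) (by rw [hθ]; linarith)
    have h3 : Real.sin (θ / 2) < Real.sin (Real.pi / 6) :=
      Real.sin_lt_sin_of_lt_of_le_pi_div_two (by rw [hθ]; linarith) (by linarith) (by rw [hθ]; linarith)
    rw [Real.sin_pi_div_six] at h3
    rw [abs_of_nonneg h2]
    linarith
  have hnear' : ‖ζ⁻¹ - 1‖ < 1 := by
    have hz : ‖ζ‖ = 1 := root_of_unity_norm (by norm_num) hprim.pow_eq_one
    have hz0 : ζ ≠ 0 := hprim.ne_zero (by norm_num)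
    rw [show ζ⁻¹ - 1 = -(ζ⁻¹ * (ζ - 1)) by field_simp; ring, norm_neg, norm_mul, norm_inv, hz, inv_one,
      one_mul]
    exact hnear
  rcases hcases i with rfl | rfl | rfl
  · rw [← hε, sub_self, norm_zero] at hfar; linarith
  · rw [hjk, show ζ * ε - ε = (ζ - 1) * ε by ring, norm_mul, hεn, mul_one] at hfar; linarith
  · rw [hlk, show ζ⁻¹ * ε - ε = (ζ⁻¹ - 1) * ε by ring, norm_mul, hεn, mul_one] at hfar; linarith

include hnc hρ hinj in
/-- Nine does not divide the order. -/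
theorem not_nine_dvd : ¬ 9 ∣ Nat.card G := by
  classical
  intro h9
  haveI := Fact.mk Nat.prime_three
  obtain ⟨Q, hQ⟩ := Sylow.exists_subgroup_card_pow_prime (G := G) 3 (n := 2) (by simpa using h9)
  norm_num at hQ
  haveI := Fintype.ofFinite Q
  by_cases hy : ∃ x : Q, orderOf (x : G) = 9
  · obtain ⟨x, hx⟩ := hy
    exact no_order_nine hnc ρ hρ hinj hx
  have hval : ∀ x : Q, x ≠ 1 → ρ.character (x : G) = 0 := by
    intro x hx
    refine value_zero hnc ρ hinj ?_
    have h1 : orderOf (x : G) ∣ 3 ^ 2 := by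
      rw [Subgroup.orderOf_coe, show (3 : ℕ) ^ 2 = Nat.card Q by rw [hQ]; norm_num]
      exact orderOf_dvd_natCard x
    obtain ⟨i, hi, hio⟩ := (Nat.dvd_prime_pow Nat.prime_three).mp h1
    interval_cases i
    · exact absurd (Subtype.ext (orderOf_eq_one_iff.mp (by simpa using hio))) hx
    · simpa using hio
    · exact absurd ⟨x, by simpa using hio⟩ hy
  haveI : Invertible (Nat.card Q : ℂ) := invertibleOfNonzero (Nat.cast_ne_zero.mpr Nat.card_pos.ne')
  have havg := FDRep.average_char_eq_finrank_invariants (FDRep.of (ρ.comp Q.subtype))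
  rw [show (∑ g : Q, (FDRep.of (ρ.comp Q.subtype)).character g) = 3 by
    rw [Finset.sum_eq_single (1 : Q) (fun x _ hx => ?_) (by simp)]
    · rw [FDRep.char_one]
      simp
    · exact hval x hx, hQ] at havg
  obtain ⟨N, hN⟩ : ∃ N : ℕ, ((9 : ℕ) : ℂ)⁻¹ * 3 = (N : ℂ) := ⟨_, havg⟩
  replace havg := hN
  have h3 : ((9 * N : ℕ) : ℂ) = ((3 : ℕ) : ℂ) := by
    push_cast
    rw [← havg]; norm_num
  have := Nat.cast_injective h3
  omega

end Cfsg.Agent.Solv.Arc
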