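import Cfsg.Agent.Lib.Solv.SuzukiCA
import Cfsg.Agent.Lib.Solv.InvolutionCount
import Mathlib.GroupTheory.Sylow
import Mathlib.GroupTheory.FiniteAbelian.Duality
import Mathlib.GroupTheory.Abelianization.Defs

/-!
There is no simple group with an abelian Sylow `3`-subgroup `P`, an involution whose centraliser is
the normaliser of `P` of order `4|P|`, and fixed-point-free automiser of order two.
-/

set_option autoImplicit false
set_option linter.style.haveILetI false
set_option linter.unusedSectionVars false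

open scoped ComplexConjugate Pointwise

namespace Cfsg.Agent.Solv.DihedralCentralizer

open Cfsg Cfsg.Agent.Char Cfsg.Agent.Solv.SuzukiCA

/-- The configuration. -/
structure Config {G : Type*} [Group G] (P : Subgroup G) (z t : G) : Prop where
  comm : ∀ u ∈ P, ∀ v ∈ P, u * v = v * u
  pow : ∃ a : ℕ, Nat.card P = 3 ^ a ∧ a ≠ 0
  cardC : Nat.card (Subgroup.centralizer (P : Set G)) = 2 * Nat.card P
  cardN : Nat.card (Subgroup.normalizer (P : Set G)) = 4 * Nat.card P
  zmem : z ∈ Subgroup.centralizer (P : Set G)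
  zord : orderOf z = 2
  centZ : Subgroup.centralizer ({z} : Set G) = Subgroup.normalizer (P : Set G)
  centU : ∀ u ∈ P, u ≠ 1 → Subgroup.centralizer ({u} : Set G) ≤ Subgroup.centralizer (P : Set G)
  tmem : t ∈ Subgroup.normalizer (P : Set G)
  tord : orderOf t = 2
  tinv : ∀ u ∈ P, t * u * t⁻¹ = u⁻¹
  oneClass : ∀ i : G, orderOf i = 2 → ∃ g : G, g * i * g⁻¹ = z
  prod : ∀ i j : G, orderOf i = 2 → orderOf j = 2 → i * j ≠ j * i → 3 ∣ orderOf (i * j)
  sylow : ∀ y : G, (∃ b : ℕ, orderOf y = 3 ^ b) → ∃ g : G, g * y * g⁻¹ ∈ P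

variable {G : Type*} [Group G] [Fintype G] {P : Subgroup G} {z t : G}

namespace Config

theorem mem_C (h : Config P z t) {u : G} (hu : u ∈ P) : u ∈ Subgroup.centralizer (P : Set G) :=
  Subgroup.mem_centralizer_iff.2 fun v hv => h.comm v hv u hu

theorem q_odd (h : Config P z t) : Odd (Nat.card P) := by
  obtain ⟨a, ha, -⟩ := h.pow
  rw [ha]
  exact Odd.pow (by decide)

theorem sq_eq_one (h : Config P z t) {u : G} (hu : u ∈ P) (h2 : u * u = 1) : u = 1 := by
  obtain ⟨k, hk⟩ := h.q_odd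
  have h1 : orderOf u ∣ Nat.card P := P.orderOf_dvd_natCard hu
  have h3 : orderOf u ∣ 2 := orderOf_dvd_of_pow_eq_one (by rw [pow_two, h2])
  rw [hk] at h1
  rw [← orderOf_eq_one_iff, ← Nat.dvd_one]
  exact (Nat.dvd_add_right (h3.trans (dvd_mul_right 2 k))).1 h1

theorem z_notMem (h : Config P z t) : z ∉ P := fun hz => by
  have h1 := h.sq_eq_one hz (InvolCount.mul_self_invol h.zord)
  have h2 := h.zord
  rw [h1, orderOf_one] at h2
  exact absurd h2 (by norm_num)

theorem mem_C_iff (h : Config P z t) {c : G} :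
    c ∈ Subgroup.centralizer (P : Set G) ↔ ∃ u ∈ P, c = u ∨ c = u * z := by
  classical
  refine ⟨fun hc => ?_, ?_⟩
  · let f : P × Bool → Subgroup.centralizer (P : Set G) := fun ub =>
      ⟨if ub.2 then (ub.1 : G) * z else ub.1, by
        split_ifs
        · exact Subgroup.mul_mem _ (h.mem_C ub.1.2) h.zmem
        · exact h.mem_C ub.1.2⟩
    have hf : Function.Injective f := by
      rintro ⟨u, b⟩ ⟨v, b'⟩ he
      have he' := congrArg Subtype.val he
      cases b <;> cases b' <;> simp only [f, if_true, Bool.false_eq_true, if_false] at he'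
      · exact Prod.ext (Subtype.ext he') rfl
      · refine absurd ?_ h.z_notMem
        rw [show z = (v : G)⁻¹ * u by rw [he', inv_mul_cancel_left]]
        exact P.mul_mem (P.inv_mem v.2) u.2
      · refine absurd ?_ h.z_notMem
        rw [show z = (u : G)⁻¹ * v by rw [← he', inv_mul_cancel_left]]
        exact P.mul_mem (P.inv_mem u.2) v.2
      · exact Prod.ext (Subtype.ext (mul_right_cancel he')) rfl
    have hbij := (Nat.bijective_iff_injective_and_card f).2 ⟨hf, by
      rw [h.cardC, Nat.card_prod, Nat.card_eq_fintype_card (α := Bool), Fintype.card_bool, mul_comm]⟩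
    obtain ⟨⟨u, b⟩, hub⟩ := hbij.2 ⟨c, hc⟩
    refine ⟨u, u.2, ?_⟩
    cases b
    · exact Or.inl (congrArg Subtype.val hub).symm
    · exact Or.inr (congrArg Subtype.val hub).symm
  · rintro ⟨u, hu, rfl | rfl⟩
    · exact h.mem_C hu
    · exact Subgroup.mul_mem _ (h.mem_C hu) h.zmem

theorem comm_z (h : Config P z t) {u : G} (hu : u ∈ P) : u * z = z * u :=
  Subgroup.mem_centralizer_iff.1 h.zmem u hu

theorem C_comm (h : Config P z t) {a b : G} (ha : a ∈ Subgroup.centralizer (P : Set G))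
    (hb : b ∈ Subgroup.centralizer (P : Set G)) : a * b = b * a := by
  have key : ∀ u ∈ P, u * b = b * u := fun u hu => Subgroup.mem_centralizer_iff.1 hb u hu
  have hzb : z * b = b * z := by
    obtain ⟨v, hv, rfl | rfl⟩ := h.mem_C_iff.1 hb
    · exact (h.comm_z hv).symm
    · rw [← mul_assoc, ← h.comm_z hv]
  obtain ⟨u, hu, rfl | rfl⟩ := h.mem_C_iff.1 ha
  · exact key a hu
  · rw [mul_assoc, hzb, ← mul_assoc, key u hu, mul_assoc]

theorem sq_mem (h : Config P z t) {c : G} (hc : c ∈ Subgroup.centralizer (P : Set G)) : c * c ∈ P := by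
  obtain ⟨u, hu, rfl | rfl⟩ := h.mem_C_iff.1 hc
  · exact P.mul_mem hu hu
  · rw [show u * z * (u * z) = u * (z * u) * z by group, ← h.comm_z hu,
      show u * (u * z) * z = u * u * (z * z) by group, InvolCount.mul_self_invol h.zord, mul_one]
    exact P.mul_mem hu hu

theorem sq_eq_one_iff (h : Config P z t) {c : G} (hc : c ∈ Subgroup.centralizer (P : Set G)) :
    c * c = 1 ↔ c = 1 ∨ c = z := by
  refine ⟨fun h2 => ?_, ?_⟩
  · obtain ⟨u, hu, rfl | rfl⟩ := h.mem_C_iff.1 hc
    · exact Or.inl (h.sq_eq_one hu h2)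
    · rw [show u * z * (u * z) = u * (z * u) * z by group, ← h.comm_z hu,
        show u * (u * z) * z = u * u * (z * z) by group, InvolCount.mul_self_invol h.zord, mul_one] at h2
      rw [h.sq_eq_one hu h2, one_mul]
      exact Or.inr rfl
  · rintro (rfl | rfl)
    · exact mul_one 1
    · exact InvolCount.mul_self_invol h.zord

theorem centralizer_T (h : Config P z t) {c : G} (hc : c ∈ Subgroup.centralizer (P : Set G))
    (hc2 : c * c ≠ 1) : Subgroup.centralizer ({c} : Set G) = Subgroup.centralizer (P : Set G) := by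
  refine le_antisymm (fun x hx => h.centU _ (h.sq_mem hc) hc2 ?_)
    (fun x hx => Subgroup.mem_centralizer_singleton_iff.2 (h.C_comm hx hc))
  rw [Subgroup.mem_centralizer_singleton_iff] at hx ⊢
  rw [← mul_assoc, hx, mul_assoc, hx, mul_assoc]

theorem fusion (h : Config P z t) {s g : G} (hs : s ∈ Subgroup.centralizer (P : Set G))
    (hs2 : s * s ≠ 1) (hg : g⁻¹ * s * g ∈ Subgroup.centralizer (P : Set G)) :
    g ∈ Subgroup.normalizer (P : Set G) := by
  have hg2 : (g⁻¹ * s * g) * (g⁻¹ * s * g) ≠ 1 := fun e => hs2 (by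
    calc s * s = g * ((g⁻¹ * s * g) * (g⁻¹ * s * g)) * g⁻¹ := by group
      _ = 1 := by rw [e]; group)
  refine mem_normalizer_of_conj_smul (Subgroup.eq_of_le_of_card_ge ?_ (le_of_eq (card_conj_smul g P).symm))
  intro x hx
  rw [mem_conj_smul] at hx
  have h1 : x ∈ Subgroup.centralizer (P : Set G) := by
    rw [← h.centralizer_T hs hs2, Subgroup.mem_centralizer_singleton_iff]
    have h2 := h.C_comm (h.mem_C hx) hg
    calc x * s = g * ((g⁻¹ * x * g) * (g⁻¹ * s * g)) * g⁻¹ := by group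
      _ = g * ((g⁻¹ * s * g) * (g⁻¹ * x * g)) * g⁻¹ := by rw [h2]
      _ = s * x := by group
  have h3 : x ^ Nat.card P = 1 := by
    have h4 : (g⁻¹ * x * g) ^ Nat.card P = 1 :=
      orderOf_dvd_iff_pow_eq_one.1 (P.orderOf_dvd_natCard hx)
    have h5 : g⁻¹ * x * g = g⁻¹ * x * (g⁻¹)⁻¹ := by rw [inv_inv]
    rw [h5, conj_pow] at h4
    calc x ^ Nat.card P = g * (g⁻¹ * x ^ Nat.card P * (g⁻¹)⁻¹) * g⁻¹ := by group
      _ = 1 := by rw [h4]; group
  obtain ⟨u, hu, rfl | rfl⟩ := h.mem_C_iff.1 h1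
  · exact hu
  · exfalso
    rw [(show Commute u z from h.comm_z hu).mul_pow,
      orderOf_dvd_iff_pow_eq_one.1 (P.orderOf_dvd_natCard hu), one_mul] at h3
    obtain ⟨k, hk⟩ := h.q_odd
    rw [hk, pow_succ, pow_mul, ← h.zord, pow_orderOf_eq_one, one_pow, one_mul] at h3
    exact h.z_notMem (h3 ▸ P.one_mem)

theorem t_inverts (h : Config P z t) {c : G} (hc : c ∈ Subgroup.centralizer (P : Set G)) :
    t * c * t⁻¹ = c⁻¹ := by
  have htz : t * z = z * t :=
    Subgroup.mem_centralizer_singleton_iff.1 (h.centZ.ge h.tmem)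
  obtain ⟨u, hu, rfl | rfl⟩ := h.mem_C_iff.1 hc
  · exact h.tinv c hu
  · rw [show t * (u * z) * t⁻¹ = (t * u * t⁻¹) * (t * z * t⁻¹) by group, h.tinv u hu, htz,
      mul_inv_cancel_right, mul_inv_rev, InvolCount.inv_of_invol h.zord,
      ← InvolCount.inv_of_invol h.zord, ← mul_inv_rev, ← mul_inv_rev, h.comm_z hu]

theorem mem_N_iff (h : Config P z t) {x : G} :
    x ∈ Subgroup.normalizer (P : Set G) ↔
      x ∈ Subgroup.centralizer (P : Set G) ∨ ∃ c ∈ Subgroup.centralizer (P : Set G), x = t * c := by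
  classical
  have hCN : ∀ c ∈ Subgroup.centralizer (P : Set G), c ∈ Subgroup.normalizer (P : Set G) := by
    intro c hc
    rw [← h.centZ, Subgroup.mem_centralizer_singleton_iff]
    exact h.C_comm hc h.zmem
  have htC : t ∉ Subgroup.centralizer (P : Set G) := by
    intro htc
    obtain ⟨a, ha, ha0⟩ := h.pow
    haveI : Nontrivial P := Finite.one_lt_card_iff_nontrivial.1 (ha ▸ Nat.one_lt_pow ha0 (by norm_num))
    obtain ⟨u, hu⟩ := exists_ne (1 : P)
    refine hu (Subtype.ext (h.sq_eq_one u.2 ?_))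
    have h1 := h.tinv u u.2
    rw [← Subgroup.mem_centralizer_iff.1 htc u u.2, mul_inv_cancel_right] at h1
    exact eq_inv_iff_mul_eq_one.1 h1
  refine ⟨fun hx => ?_, ?_⟩
  · let f : Subgroup.centralizer (P : Set G) × Bool → Subgroup.normalizer (P : Set G) := fun cb =>
      ⟨if cb.2 then t * (cb.1 : G) else cb.1, by
        split_ifs
        · exact Subgroup.mul_mem _ h.tmem (hCN _ cb.1.2)
        · exact hCN _ cb.1.2⟩
    have hf : Function.Injective f := by
      rintro ⟨u, b⟩ ⟨v, b'⟩ he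
      have he' := congrArg Subtype.val he
      cases b <;> cases b' <;> simp only [f, if_true, Bool.false_eq_true, if_false] at he'
      · exact Prod.ext (Subtype.ext he') rfl
      · refine absurd ?_ htC
        rw [show t = (u : G) * (v : G)⁻¹ by rw [he', mul_inv_cancel_right]]
        exact Subgroup.mul_mem _ u.2 (Subgroup.inv_mem _ v.2)
      · refine absurd ?_ htC
        rw [show t = (v : G) * (u : G)⁻¹ by rw [← he', mul_inv_cancel_right]]
        exact Subgroup.mul_mem _ v.2 (Subgroup.inv_mem _ u.2)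
      · exact Prod.ext (Subtype.ext (mul_left_cancel he')) rfl
    have hbij := (Nat.bijective_iff_injective_and_card f).2 ⟨hf, by
      rw [h.cardN, Nat.card_prod, h.cardC, Nat.card_eq_fintype_card (α := Bool), Fintype.card_bool]; ring⟩
    obtain ⟨⟨u, b⟩, hub⟩ := hbij.2 ⟨x, hx⟩
    cases b
    · refine Or.inl ?_
      have h' : (u : G) = x := congrArg Subtype.val hub
      rw [← h']
      exact u.2
    · exact Or.inr ⟨u, u.2, (congrArg Subtype.val hub).symm⟩
  · rintro (hx | ⟨c, hc, rfl⟩)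
    · exact hCN x hx
    · exact Subgroup.mul_mem _ h.tmem (hCN c hc)

theorem orderOf_tc (h : Config P z t) {c : G} (hc : c ∈ Subgroup.centralizer (P : Set G)) :
    orderOf (t * c) = 2 := by
  refine orderOf_eq_prime ?_ fun e => ?_
  · rw [pow_two]
    calc t * c * (t * c) = t * c * (t⁻¹ * c) := by rw [InvolCount.inv_of_invol h.tord]
      _ = t * c * t⁻¹ * c := by group
      _ = 1 := by rw [h.t_inverts hc]; group
  · have htc : t = c⁻¹ := eq_inv_of_mul_eq_one_left e
    have h2 : c * c = 1 := by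
      have h3 := InvolCount.mul_self_invol h.tord
      rwa [htc, ← mul_inv_rev, inv_eq_one] at h3
    obtain ⟨a, ha, ha0⟩ := h.pow
    haveI : Nontrivial P := Finite.one_lt_card_iff_nontrivial.1 (ha ▸ Nat.one_lt_pow ha0 (by norm_num))
    obtain ⟨u, hu⟩ := exists_ne (1 : P)
    refine hu (Subtype.ext (h.sq_eq_one u.2 ?_))
    have h1 := h.tinv u u.2
    have h4 : (c⁻¹ : G) * u = u * c⁻¹ :=
      h.C_comm (Subgroup.inv_mem _ hc) (h.mem_C u.2)
    rw [htc, h4, mul_inv_cancel_right] at h1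
    exact eq_inv_iff_mul_eq_one.1 h1

theorem involutions_in_N (h : Config P z t) {j : G} :
    (orderOf j = 2 ∧ z * j = j * z) ↔ j = z ∨ ∃ c ∈ Subgroup.centralizer (P : Set G), j = t * c := by
  constructor
  · rintro ⟨hj, hjz⟩
    have hjN : j ∈ Subgroup.normalizer (P : Set G) :=
      h.centZ.le (Subgroup.mem_centralizer_singleton_iff.2 hjz.symm)
    rcases h.mem_N_iff.1 hjN with hjC | ⟨c, hc, rfl⟩
    · rcases (h.sq_eq_one_iff hjC).1 (InvolCount.mul_self_invol hj) with rfl | rfl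
      · rw [orderOf_one] at hj; exact absurd hj (by norm_num)
      · exact Or.inl rfl
    · exact Or.inr ⟨c, hc, rfl⟩
  · rintro (rfl | ⟨c, hc, rfl⟩)
    · exact ⟨h.zord, rfl⟩
    · refine ⟨h.orderOf_tc hc, ?_⟩
      exact (Subgroup.mem_centralizer_singleton_iff.1 (h.centZ.ge (h.mem_N_iff.2 (Or.inr ⟨c, hc, rfl⟩)))).symm

end Config

/-- The set of elements of `C(P)` that are not involutions or trivial. -/
def TSet (P : Subgroup G) : Set G := {c | c ∈ Subgroup.centralizer (P : Set G) ∧ c * c ≠ 1}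

theorem card_TSet (h : Config P z t) : Nat.card (TSet P) + 2 = 2 * Nat.card P := by
  classical
  have h1 : TSet P = (Subgroup.centralizer (P : Set G) : Set G) \ {1, z} := by
    ext c
    refine ⟨fun hc => ⟨hc.1, fun e => hc.2 ((h.sq_eq_one_iff hc.1).2 e)⟩, fun hc =>
      ⟨hc.1, fun e => hc.2 ((h.sq_eq_one_iff hc.1).1 e)⟩⟩
  have hz1 : (1 : G) ≠ z := fun e => by
    have := h.zord; rw [← e, orderOf_one] at this; exact absurd this (by norm_num)
  have hsub : ({1, z} : Set G) ⊆ (Subgroup.centralizer (P : Set G) : Set G) := by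
    rintro x (rfl | rfl)
    · exact Subgroup.one_mem _
    · exact h.zmem
  have h2 := Set.ncard_sdiff_add_ncard_of_subset hsub
  rw [Set.ncard_pair hz1, ← h1, ← Nat.card_coe_set_eq, ← Nat.card_coe_set_eq] at h2
  rw [h2, ← h.cardC]
  rfl

theorem TSet_normal (h : Config P z t) : ∀ n ∈ Subgroup.normalizer (P : Set G), ∀ s ∈ TSet P,
    n⁻¹ * s * n ∈ TSet P := by
  intro n hn s hs
  refine ⟨Subgroup.mem_centralizer_iff.2 fun u hu => ?_, fun e => hs.2 ?_⟩
  · have h1 : n * u * n⁻¹ ∈ P := ((Subgroup.mem_normalizer_iff.1 hn) u).1 hu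
    have h2 := Subgroup.mem_centralizer_iff.1 hs.1 _ h1
    calc u * (n⁻¹ * s * n) = n⁻¹ * ((n * u * n⁻¹) * s) * n := by group
      _ = n⁻¹ * (s * (n * u * n⁻¹)) * n := by rw [h2]
      _ = n⁻¹ * s * n * u := by group
  · calc s * s = n * ((n⁻¹ * s * n) * (n⁻¹ * s * n)) * n⁻¹ := by group
      _ = 1 := by rw [e]; group

/-- The order of the group. -/
theorem order_formula (h : Config P z t) :
    ∃ n : ℕ, Nat.card G = n * (4 * Nat.card P) ∧
      (n : ℤ) = 4 * (Nat.card P : ℤ) ^ 2 - 2 * Nat.card P + 1 ∧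
      4 * Nat.card P * Nat.card {x : G // ∃ g : G, g⁻¹ * x * g ∈ TSet P} = Nat.card G * Nat.card (TSet P) := by
  classical
  have hT := InvolCount.card_conj_set (TSet P) _ (TSet_normal h)
    (fun s hs g hg => h.fusion hs.1 hs.2 hg.1)
  rw [h.cardN] at hT
  set T := {x : G | ∃ g : G, g⁻¹ * x * g ∈ TSet P} with hTdef
  have hn := InvolCount.card_conj_set ({z} : Set G) (Subgroup.normalizer (P : Set G))
    (fun n hn s hs => by
      rw [Set.mem_singleton_iff] at hs ⊢
      subst hs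
      have := Subgroup.mem_centralizer_singleton_iff.1 (h.centZ.ge hn)
      rw [mul_assoc, ← this, inv_mul_cancel_left])
    (fun s hs g hg => by
      rw [Set.mem_singleton_iff] at hs hg
      subst hs
      rw [← h.centZ, Subgroup.mem_centralizer_singleton_iff]
      calc g * s = g * (g⁻¹ * s * g) := by rw [hg]
        _ = s * g := by group)
  rw [h.cardN, Nat.card_coe_set_eq ({z} : Set G), Set.ncard_singleton, mul_one] at hn
  have hinv : Nat.card {x : G // ∃ g : G, g⁻¹ * x * g ∈ ({z} : Set G)} = Nat.card {i : G // orderOf i = 2} := by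
    refine Nat.card_congr (Equiv.subtypeEquivRight fun x => ⟨?_, fun hx => ?_⟩)
    · rintro ⟨g, hg⟩
      rw [Set.mem_singleton_iff] at hg
      rw [← h.zord, ← hg]
      have : g⁻¹ * x * g = (MulAut.conj g⁻¹).toMonoidHom x := by simp
      rw [this, orderOf_injective _ (MulAut.conj g⁻¹).injective]
    · obtain ⟨g, hg⟩ := h.oneClass x hx
      exact ⟨g⁻¹, by rw [Set.mem_singleton_iff, inv_inv]; exact hg⟩
  rw [hinv] at hn
  set n := Nat.card {i : G // orderOf i = 2} with hndef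
  have hmem_T : ∀ i j : G, orderOf i = 2 → orderOf j = 2 → i * j ≠ j * i → i * j ∈ T := by
    intro i j hi hj hij
    have h3 := h.prod i j hi hj hij
    set x := i * j with hx
    obtain ⟨b, r, hr, hbr⟩ := Nat.exists_eq_pow_mul_and_not_dvd (orderOf_pos x).ne' 3 (by norm_num)
    have hr0 : r ≠ 0 := by rintro rfl; exact hr (dvd_zero _)
    have hyo : orderOf (x ^ r) = 3 ^ b := by
      rw [orderOf_pow_of_dvd hr0 (hbr ▸ dvd_mul_left _ _), hbr,
        Nat.mul_div_cancel _ (Nat.pos_of_ne_zero hr0)]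
    obtain ⟨g, hg⟩ := h.sylow _ ⟨b, hyo⟩
    have hyne : g * x ^ r * g⁻¹ ≠ 1 := by
      intro e
      have hy1 : x ^ r = 1 := conj_eq_one_iff.1 e
      rw [hy1, orderOf_one] at hyo
      have hb0 : b = 0 := by
        by_contra hb
        exact absurd hyo (Nat.one_lt_pow hb (by norm_num)).ne
      rw [hb0, pow_zero, one_mul] at hbr
      exact hr (hbr ▸ h3)
    refine ⟨g⁻¹, ?_, fun e => ?_⟩
    · rw [inv_inv]
      refine h.centU _ hg hyne ?_
      rw [Subgroup.mem_centralizer_singleton_iff]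
      calc g * x * g⁻¹ * (g * x ^ r * g⁻¹) = g * (x * x ^ r) * g⁻¹ := by group
        _ = g * (x ^ r * x) * g⁻¹ := by rw [((Commute.refl x).pow_right r).eq]
        _ = _ := by group
    · have hx2 : x * x = 1 := by
        calc x * x = g⁻¹ * (g⁻¹⁻¹ * x * g⁻¹ * (g⁻¹⁻¹ * x * g⁻¹)) * g := by group
          _ = 1 := by rw [e]; group
      have := h3.trans (orderOf_dvd_of_pow_eq_one (by rw [pow_two]; exact hx2) : orderOf x ∣ 2)
      exact absurd this (by norm_num)
  have hT2 : ∀ x ∈ T, x * x ≠ 1 := by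
    rintro x ⟨g, hg⟩ e
    refine hg.2 ?_
    calc g⁻¹ * x * g * (g⁻¹ * x * g) = g⁻¹ * (x * x) * g := by group
      _ = 1 := by rw [e]; group
  have hk : ∀ x ∈ T, Nat.card {i : G // orderOf i = 2 ∧ i * x * i⁻¹ = x⁻¹} = 2 * Nat.card P := by
    rintro x ⟨g, hgC, hg2⟩
    rw [← h.cardC]
    set c := g⁻¹ * x * g with hc
    have key : ∀ i : G, (orderOf i = 2 ∧ i * x * i⁻¹ = x⁻¹) ↔
        ∃ d ∈ Subgroup.centralizer (P : Set G), g⁻¹ * i * g = t * d := by
      intro i
      have e1 : orderOf i = orderOf (g⁻¹ * i * g) := by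
        have : g⁻¹ * i * g = (MulAut.conj g⁻¹).toMonoidHom i := by simp
        rw [this, orderOf_injective _ (MulAut.conj g⁻¹).injective]
      have e2 : i * x * i⁻¹ = x⁻¹ ↔ (g⁻¹ * i * g) * c * (g⁻¹ * i * g)⁻¹ = c⁻¹ := by
        constructor
        · intro e
          calc (g⁻¹ * i * g) * c * (g⁻¹ * i * g)⁻¹ = g⁻¹ * (i * x * i⁻¹) * g := by rw [hc]; group
            _ = c⁻¹ := by rw [e, hc]; group
        · intro e
          calc i * x * i⁻¹ = g * ((g⁻¹ * i * g) * c * (g⁻¹ * i * g)⁻¹) * g⁻¹ := by rw [hc]; group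
            _ = x⁻¹ := by rw [e, hc]; group
      rw [e1, e2]
      set k := g⁻¹ * i * g
      constructor
      · rintro ⟨hk2, hkc⟩
        have hk' : k⁻¹ * c * k = c⁻¹ := by
          rw [InvolCount.inv_of_invol hk2]
          nth_rw 2 [← InvolCount.inv_of_invol hk2]
          exact hkc
        have hkN := h.fusion hgC hg2 (g := k) (by rw [hk']; exact Subgroup.inv_mem _ hgC)
        rcases h.mem_N_iff.1 hkN with hkC | hkd
        · exfalso
          rw [h.C_comm hkC hgC, mul_inv_cancel_right] at hkc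
          exact hg2 (eq_inv_iff_mul_eq_one.1 hkc)
        · exact hkd
      · rintro ⟨d, hd, hkd⟩
        refine ⟨hkd ▸ h.orderOf_tc hd, ?_⟩
        rw [hkd, show t * d * c * (t * d)⁻¹ = t * (d * c) * d⁻¹ * t⁻¹ by group, h.C_comm hd hgC,
          show t * (c * d) * d⁻¹ * t⁻¹ = t * c * t⁻¹ by group, h.t_inverts hgC]
    refine Nat.card_congr
      { toFun := fun i => ⟨t⁻¹ * (g⁻¹ * i.1 * g), by
          obtain ⟨d, hd, hid⟩ := (key i.1).1 i.2
          rw [hid, inv_mul_cancel_left]; exact hd⟩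
        invFun := fun d => ⟨g * (t * d.1) * g⁻¹, (key _).2 ⟨d.1, d.2, by group⟩⟩
        left_inv := fun i => Subtype.ext (by show g * (t * (t⁻¹ * (g⁻¹ * i.1 * g))) * g⁻¹ = i.1; group)
        right_inv := fun d => Subtype.ext (by show t⁻¹ * (g⁻¹ * (g * (t * d.1) * g⁻¹) * g) = d.1; group) }
  have hm : ∀ i : G, orderOf i = 2 →
      Nat.card {j : G // orderOf j = 2 ∧ i * j = j * i} = 2 * Nat.card P + 1 := by
    intro i hi
    obtain ⟨g, hg⟩ := h.oneClass i hi
    have e1 : Nat.card {j : G // orderOf j = 2 ∧ i * j = j * i} =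
        Nat.card {j : G // orderOf j = 2 ∧ z * j = j * z} := by
      refine Nat.card_congr ((MulAut.conj g).toEquiv.subtypeEquiv fun j => ?_)
      show _ ↔ orderOf ((MulAut.conj g).toMonoidHom j) = 2 ∧ z * (MulAut.conj g j) = (MulAut.conj g j) * z
      rw [orderOf_injective _ (MulAut.conj g).injective, ← hg,
        show g * i * g⁻¹ = MulAut.conj g i from rfl, ← map_mul, ← map_mul, (MulAut.conj g).injective.eq_iff]
    rw [e1, Nat.card_congr (Equiv.subtypeEquivRight fun j => h.involutions_in_N (j := j))]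
    have hS : {j : G | j = z ∨ ∃ c ∈ Subgroup.centralizer (P : Set G), j = t * c} =
        insert z ((fun c => t * c) '' (Subgroup.centralizer (P : Set G) : Set G)) := by
      ext j
      simp only [Set.mem_ofPred_eq, Set.mem_insert_iff, Set.mem_image, SetLike.mem_coe]
      exact or_congr Iff.rfl ⟨fun ⟨c, hc, e⟩ => ⟨c, hc, e.symm⟩, fun ⟨c, hc, e⟩ => ⟨c, hc, e.symm⟩⟩
    rw [show Nat.card {j : G // j = z ∨ ∃ c ∈ Subgroup.centralizer (P : Set G), j = t * c} =
      ({j : G | j = z ∨ ∃ c ∈ Subgroup.centralizer (P : Set G), j = t * c} : Set G).ncard from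
      Nat.card_coe_set_eq _, hS, Set.ncard_insert_of_notMem, Set.ncard_image_of_injective _ (mul_right_injective t),
      ← Nat.card_coe_set_eq, ← h.cardC]
    · rfl
    · rintro ⟨c, hc, hcz⟩
      have htC : t ∈ Subgroup.centralizer (P : Set G) := by
        rw [show t = z * c⁻¹ by rw [← hcz]; group]
        exact Subgroup.mul_mem _ h.zmem (Subgroup.inv_mem _ hc)
      obtain ⟨a, ha, ha0⟩ := h.pow
      haveI : Nontrivial P := Finite.one_lt_card_iff_nontrivial.1 (ha ▸ Nat.one_lt_pow ha0 (by norm_num))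
      obtain ⟨u, hu⟩ := exists_ne (1 : P)
      refine hu (Subtype.ext (h.sq_eq_one u.2 ?_))
      have h1 := h.tinv u u.2
      rw [← Subgroup.mem_centralizer_iff.1 htC u u.2, mul_inv_cancel_right] at h1
      exact eq_inv_iff_mul_eq_one.1 h1
  have hpairs := InvolCount.card_pairs T (2 * Nat.card P) (2 * Nat.card P + 1) hmem_T hT2 hk hm
  refine ⟨n, by rw [← hn, mul_comm], ?_, hT⟩
  have hTc := card_TSet h
  have hn0 : 0 < n := by
    rw [hndef, Nat.card_pos_iff]
    exact ⟨⟨⟨z, h.zord⟩⟩, inferInstance⟩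
  have hq : 0 < Nat.card P := Nat.card_pos
  have e1 : (Nat.card T : ℤ) = (n : ℤ) * (2 * Nat.card P - 2) := by
    have h1 : (4 * Nat.card P : ℤ) * (Nat.card T : ℤ) = (4 * Nat.card P : ℤ) * ((n : ℤ) * (2 * Nat.card P - 2)) := by
      have h2 : ((4 * Nat.card P : ℕ) : ℤ) * (Nat.card T : ℤ) = (Nat.card G : ℤ) * (Nat.card (TSet P) : ℤ) := by
        exact_mod_cast hT
      have h3 : (Nat.card (TSet P) : ℤ) = 2 * Nat.card P - 2 := by omega
      rw [h3, ← hn] at h2
      push_cast at h2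
      linear_combination h2
    exact mul_left_cancel₀ (by positivity) h1
  have e2 : (n : ℤ) * n = n * (2 * Nat.card P + 1) + (Nat.card T : ℤ) * (2 * Nat.card P) := by
    exact_mod_cast hpairs
  rw [e1] at e2
  have e3 : (n : ℤ) * n = n * (4 * (Nat.card P : ℤ) ^ 2 - 2 * Nat.card P + 1) := by linear_combination e2
  exact mul_left_cancel₀ (by exact_mod_cast hn0.ne') e3

/-- The arithmetic of the exceptional degrees. -/
theorem arith {a x y : ℕ} {n : ℕ} (ha : 2 ≤ a) (hn : (n : ℤ) = 4 * ((3 ^ a : ℕ) : ℤ) ^ 2 - 2 * (3 ^ a : ℕ) + 1)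
    {η : ℤ} (hη : η = 1 ∨ η = -1) (hxy : (x : ℤ) = 1 + η * y ∨ (x : ℤ) = -(1 + η * y))
    (hy2 : 2 ≤ y) (hmod : ((3 ^ a : ℕ) : ℤ) ∣ (y : ℤ) - η) (hx : x ^ 2 ≤ 8 * n)
    (hyd : y ∣ n * (4 * 3 ^ a)) (hxd : x ∣ n * (4 * 3 ^ a)) : False := by
  set q : ℕ := 3 ^ a with hq
  have hq9 : 9 ≤ q := by
    rw [hq, show (9 : ℕ) = 3 ^ 2 by norm_num]
    exact Nat.pow_le_pow_right (by norm_num) ha
  have hx6 : x < 6 * q := by
    by_contra hno
    push Not at hno
    have h1 : (6 * q) ^ 2 ≤ x ^ 2 := Nat.pow_le_pow_left hno 2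
    have h2 : ((6 * q) ^ 2 : ℤ) ≤ 8 * (n : ℤ) := by exact_mod_cast h1.trans hx
    rw [hn] at h2
    nlinarith
  obtain ⟨k, hk⟩ := hmod
  have hk1 : 1 ≤ k := by
    by_contra hno
    have : (q : ℤ) * k ≤ 0 := by nlinarith
    rcases hη with h | h <;> omega
  have hk6 : k ≤ 6 := by
    by_contra hno
    have : (q : ℤ) * 7 ≤ (q : ℤ) * k := by nlinarith
    rcases hη with h | h <;> subst h <;> rcases hxy with h | h <;> omega
  have hcop : y.Coprime (3 ^ a) := by
    refine (Nat.Coprime.pow_right a ?_)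
    rw [Nat.coprime_comm, Nat.Prime.coprime_iff_not_dvd Nat.prime_three]
    intro h3
    have h3' : (3 : ℤ) ∣ (y : ℤ) := by exact_mod_cast h3
    have h3q : (3 : ℤ) ∣ (q : ℤ) * k :=
      Dvd.dvd.mul_right (by exact_mod_cast (hq ▸ dvd_pow_self 3 (by omega) : 3 ∣ q)) _
    rcases hη with h | h <;> omega
  have hy4 : y ∣ 4 * n := by
    rw [← mul_assoc] at hyd
    rw [mul_comm 4 n]
    exact hcop.dvd_of_dvd_mul_right hyd
  have hkey : (y : ℤ) ∣ 4 * k ^ 2 + 8 * η * k + 16 := by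
    have h1 : (y : ℤ) ∣ 4 * (n : ℤ) * k ^ 2 := Dvd.dvd.mul_right (by exact_mod_cast hy4) _
    have h2 : 4 * k ^ 2 + 8 * η * k + 16 = 4 * (n : ℤ) * k ^ 2 - (y : ℤ) * (16 * (y : ℤ) - 32 * η - 8 * k) := by
      rw [hn]
      have hee : η * η = 1 := by rcases hη with h | h <;> simp [h]
      linear_combination (16 * ((y : ℤ) - η + (q : ℤ) * k) - 8 * k) * hk - 16 * hee
    rw [h2]
    exact dvd_sub h1 (dvd_mul_right _ _)
  have hpos : (0 : ℤ) < 4 * k ^ 2 + 8 * η * k + 16 := by rcases hη with h | h <;> subst h <;> nlinarith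
  have hb := Int.le_of_dvd hpos hkey
  have hq81 : a ≤ 5 := by
    by_contra hno
    have h729 : 729 ≤ q := by
      rw [hq, show (729 : ℕ) = 3 ^ 6 by norm_num]
      exact Nat.pow_le_pow_right (by norm_num) (by omega)
    have : (729 : ℤ) * k ≤ q * k := by nlinarith
    rcases hη with h | h <;> subst h <;> nlinarith
  have hfin : ∀ (a' : Fin 6) (k' : Fin 7), 2 ≤ (a' : ℕ) → 1 ≤ (k' : ℕ) →
      (¬ ((3 ^ (a' : ℕ) * (k' : ℕ) + 1) ∣ 4 * (4 * (3 ^ (a' : ℕ)) ^ 2 + 1 - 2 * 3 ^ (a' : ℕ)) ∧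
          (3 ^ (a' : ℕ) * (k' : ℕ) + 2) ∣ (4 * (3 ^ (a' : ℕ)) ^ 2 + 1 - 2 * 3 ^ (a' : ℕ)) * (4 * 3 ^ (a' : ℕ)))) ∧
      (¬ ((3 ^ (a' : ℕ) * (k' : ℕ) - 1) ∣ 4 * (4 * (3 ^ (a' : ℕ)) ^ 2 + 1 - 2 * 3 ^ (a' : ℕ)) ∧
          (3 ^ (a' : ℕ) * (k' : ℕ) - 2) ∣ (4 * (3 ^ (a' : ℕ)) ^ 2 + 1 - 2 * 3 ^ (a' : ℕ)) * (4 * 3 ^ (a' : ℕ)))) := by
    decide +kernel
  obtain ⟨k', rfl⟩ : ∃ k' : ℕ, k = (k' : ℤ) := ⟨k.toNat, (Int.toNat_of_nonneg (by omega)).symm⟩
  have hf := hfin ⟨a, by omega⟩ ⟨k', by omega⟩ ha (by exact_mod_cast hk1)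
  simp only [← hq] at hf
  have hle : 2 * q ≤ 4 * q ^ 2 + 1 := by nlinarith
  have hn' : n = 4 * q ^ 2 + 1 - 2 * q := by
    zify [hle]
    linear_combination hn
  rcases hη with h | h <;> subst h
  · refine hf.1 ⟨?_, ?_⟩
    · rw [← hn']
      have : q * k' + 1 = y := by
        have : ((q * k' + 1 : ℕ) : ℤ) = (y : ℤ) := by push_cast; linarith
        exact_mod_cast this
      rwa [this]
    · rw [← hn']
      have : q * k' + 2 = x := by
        have : ((q * k' + 2 : ℕ) : ℤ) = (x : ℤ) := by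
          rcases hxy with h | h <;> push_cast <;> omega
        exact_mod_cast this
      rwa [this]
  · refine hf.2 ⟨?_, ?_⟩
    · rw [← hn']
      have : q * k' - 1 = y := by
        have h1 : ((q * k' : ℕ) : ℤ) = (y : ℤ) + 1 := by push_cast; linarith
        omega
      rwa [this]
    · rw [← hn']
      have : q * k' - 2 = x := by
        have h1 : ((q * k' : ℕ) : ℤ) = (y : ℤ) + 1 := by push_cast; linarith
        rcases hxy with h | h <;> omega
      rwa [this]

end Cfsg.Agent.Solv.DihedralCentralizer
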