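import Cfsg.Agent.Lib.Solv.EPPOOutside
import Cfsg.Agent.Lib.Solv.ClassPow

/-!
# Prime power order and maximal centraliser outside a normal subgroup
-/

set_option autoImplicit false
set_option linter.unusedSectionVars false

open Cfsg

namespace Cfsg.Agent.Solv.EPPOMaximal

universe u

variable {G : Type u} [Group G] [Finite G]

/-- A solvable nontrivial group has a normal subgroup of prime index. -/
theorem exists_prime_index {Q : Type u} [Group Q] [Finite Q] [Nontrivial Q] [Group.IsSolvable Q] :
    ∃ M : Subgroup Q, M.Normal ∧ M.index.Prime := by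
  obtain ⟨M, -, ⟨hMn, hMtop⟩, hmax⟩ := Finite.exists_le_maximal
    (p := fun M : Subgroup Q => M.Normal ∧ M ≠ ⊤) (a := (⊥ : Subgroup Q)) ⟨inferInstance, bot_ne_top⟩
  haveI := hMn
  haveI : Nontrivial (Q ⧸ M) := QuotientGroup.nontrivial_iff.2 hMtop
  have hsimple : IsSimpleGroup (Q ⧸ M) := by
    refine ⟨fun W hW => ?_⟩
    haveI := hW
    have hle : M ≤ W.comap (QuotientGroup.mk' M) := fun x hx => by
      rw [Subgroup.mem_comap, show QuotientGroup.mk' M x = 1 from (QuotientGroup.eq_one_iff x).2 hx]
      exact one_mem _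
    have hmapW := Subgroup.map_comap_eq_self_of_surjective (QuotientGroup.mk'_surjective M) W
    by_cases htop : W.comap (QuotientGroup.mk' M) = ⊤
    · right
      rw [← hmapW, htop, Subgroup.map_top_of_surjective _ (QuotientGroup.mk'_surjective M)]
    · left
      rw [← hmapW, le_antisymm (hmax ⟨inferInstance, htop⟩ hle) hle, Subgroup.map_eq_bot_iff,
        QuotientGroup.ker_mk']
  haveI := hsimple
  haveI : Group.IsSolvable (Q ⧸ M) := Group.isSolvable_of_surjective (QuotientGroup.mk'_surjective M)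
  have hcomm : ∀ a b : Q ⧸ M, a * b = b * a := IsSimpleGroup.comm_iff_isSolvable.2 inferInstance
  let inst : CommGroup (Q ⧸ M) := { (inferInstance : Group (Q ⧸ M)) with mul_comm := hcomm }
  exact ⟨M, hMn, by rw [M.index_eq_card]; exact IsSimpleGroup.prime_card⟩

/-- The main statement with `N` of prime index. -/
theorem solvable_of_prime_index (N : Subgroup G) [N.Normal] {p : ℕ} [Fact p.Prime] (hidx : N.index = p)
    (h : ∀ x : G, x ∉ N → IsPrimePow (orderOf x) ∧ IsCoatom (Subgroup.centralizer ({x} : Set G))) :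
    Group.IsSolvable G := by
  classical
  have hp : p.Prime := Fact.out
  have hdvd : ∀ x : G, x ∉ N → p ∣ orderOf x := by
    intro x hx
    have h1 : orderOf (QuotientGroup.mk' N x) ∣ p := by
      rw [← hidx, N.index_eq_card]
      exact orderOf_dvd_natCard _
    rcases (Nat.dvd_prime hp).1 h1 with h2 | h2
    · exact absurd ((QuotientGroup.eq_one_iff x).1 (orderOf_eq_one_iff.1 h2)) hx
    · exact h2 ▸ orderOf_map_dvd _ x
  -- centralisers are Sylow subgroups
  have hcent : ∀ x : G, x ∉ N → IsPGroup p (Subgroup.centralizer ({x} : Set G)) := by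
    intro x hx
    refine IsPGroup.of_card (n := (Nat.card (Subgroup.centralizer ({x} : Set G))).primeFactorsList.length)
      (Nat.eq_prime_pow_of_unique_prime_dvd Nat.card_pos.ne' fun {q} hq hqd => ?_)
    haveI : Fact q.Prime := ⟨hq⟩
    by_contra hqp
    obtain ⟨y, hy⟩ := exists_prime_orderOf_dvd_card' q hqd
    have hyG : orderOf (y : G) = q := by rw [Subgroup.orderOf_coe, hy]
    have hqx : ¬ q ∣ orderOf x := fun hd =>
      EPPOOutside.not_isPrimePow hp hq (Ne.symm hqp) (hdvd x hx) hd (h x hx).1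
    have hyN : (y : G) ∈ N := by
      by_contra hyN
      have := hdvd _ hyN
      rw [hyG] at this
      exact hqp ((Nat.prime_dvd_prime_iff_eq hp hq).1 this).symm
    have h1 := EPPOOutside.eq_one_of_commute (p := q) N (fun z hz => (h z hz).1) hx hqx hyN
      ⟨1, by rw [pow_one, ← hyG, pow_orderOf_eq_one]⟩ (Subgroup.mem_centralizer_singleton_iff.1 y.2).symm
    rw [h1, orderOf_one] at hyG
    exact hq.ne_one hyG.symm
  by_cases hG : IsPGroup p G
  · exact isSolvable_of_isPGroup hG
  have hsyl : ∀ x : G, x ∉ N → ∃ P : Sylow p G, (P : Subgroup G) = Subgroup.centralizer ({x} : Set G) := by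
    intro x hx
    obtain ⟨P, hP⟩ := (hcent x hx).exists_le_sylow
    refine ⟨P, (((h x hx).2.le_iff.1 hP).resolve_left fun htop => hG ?_)⟩
    exact (htop ▸ P.isPGroup').of_equiv Subgroup.topEquiv
  have hNtop : N ≠ ⊤ := fun h0 => hp.ne_one (by rw [← hidx, h0, Subgroup.index_top])
  obtain ⟨x, hx⟩ := SetLike.exists_not_mem_of_ne_top N hNtop
  obtain ⟨P, hP⟩ := hsyl x hx
  have hPmax : IsCoatom (P : Subgroup G) := hP ▸ (h x hx).2
  have hPnotN : ¬ (P : Subgroup G) ≤ N := fun hle => hx (hle (by
    rw [hP]; exact Subgroup.mem_centralizer_singleton_iff.2 rfl))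
  -- every element outside `N` is conjugate to a central element of `P`
  let Z : Set G := {z | z ∈ (P : Subgroup G) ∧ z ∉ N ∧ ∀ u ∈ (P : Subgroup G), Commute u z}
  let f : (G ⧸ (P : Subgroup G)) × Z → {y : G // y ∉ N} := fun qz => ⟨qz.1.out * qz.2.1 * qz.1.out⁻¹, fun hm => by
    have h1 := (Subgroup.Normal.conj_mem ‹N.Normal› _ hm qz.1.out⁻¹)
    exact qz.2.2.2.1 (by simpa [mul_assoc] using h1)⟩
  have hf : Function.Surjective f := by
    rintro ⟨y, hy⟩
    obtain ⟨Q, hQ⟩ := hsyl y hy
    obtain ⟨g, hg⟩ := MulAction.exists_smul_eq G P Q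
    have hgy : g⁻¹ * y * g ∈ (P : Subgroup G) := by
      have h1 : y ∈ (Q : Subgroup G) := by rw [hQ]; exact Subgroup.mem_centralizer_singleton_iff.2 rfl
      rw [← hg, Sylow.coe_subgroup_smul, Subgroup.mem_pointwise_smul_iff_inv_smul_mem] at h1
      simpa [MulAut.smul_def] using h1
    obtain ⟨w, hw⟩ := QuotientGroup.mk_out_eq_mul (P : Subgroup G) g
    have hz : g⁻¹ * y * g ∈ Z := by
      refine ⟨hgy, fun hm => hy ?_, fun u hu => ?_⟩
      · simpa [mul_assoc] using Subgroup.Normal.conj_mem ‹N.Normal› _ hm g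
      · have h1 : g * u * g⁻¹ ∈ (Q : Subgroup G) := by
          rw [← hg, Sylow.coe_subgroup_smul, Subgroup.mem_pointwise_smul_iff_inv_smul_mem]
          simpa [MulAut.smul_def, mul_assoc] using hu
        rw [hQ, Subgroup.mem_centralizer_singleton_iff] at h1
        show u * (g⁻¹ * y * g) = g⁻¹ * y * g * u
        calc u * (g⁻¹ * y * g) = g⁻¹ * ((g * u * g⁻¹) * y) * g := by group
          _ = g⁻¹ * (y * (g * u * g⁻¹)) * g := by rw [h1]
          _ = g⁻¹ * y * g * u := by group
    refine ⟨(QuotientGroup.mk g, ⟨g⁻¹ * y * g, hz⟩), Subtype.ext ?_⟩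
    show (QuotientGroup.mk g : G ⧸ (P : Subgroup G)).out * (g⁻¹ * y * g) *
      (QuotientGroup.mk g : G ⧸ (P : Subgroup G)).out⁻¹ = y
    rw [hw, show g * (w : G) * (g⁻¹ * y * g) * (g * (w : G))⁻¹ = g * ((w : G) * (g⁻¹ * y * g) * (w : G)⁻¹) * g⁻¹
      by group, (hz.2.2 _ w.2).eq]
    group
  have hle := Nat.card_le_card_of_surjective f hf
  rw [Nat.card_prod, ← Subgroup.index_eq_card] at hle
  -- so `P` is abelian
  have hPab : ∀ a ∈ (P : Subgroup G), ∀ b ∈ (P : Subgroup G), Commute a b := by
    have hout : Nat.card {y : G // y ∉ N} + Nat.card N = Nat.card G := by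
      rw [add_comm, ← Nat.card_sum]
      exact Nat.card_congr (Equiv.sumCompl (· ∈ N))
    have hPN : (N.subgroupOf (P : Subgroup G)).index = p := by
      have h1 : N.relIndex (P : Subgroup G) ∣ p := (Subgroup.relIndex_dvd_index_of_normal (H := N) (P : Subgroup G)).trans (dvd_of_eq hidx)
      refine ((Nat.dvd_prime hp).1 h1).resolve_left fun h2 => hPnotN (Subgroup.relIndex_eq_one.1 h2)
    have hout' : Nat.card {u : (P : Subgroup G) // (u : G) ∉ N} + Nat.card (N.subgroupOf (P : Subgroup G)) =
        Nat.card (P : Subgroup G) := by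
      rw [add_comm, ← Nat.card_sum]
      exact Nat.card_congr (Equiv.sumCompl (fun u : (P : Subgroup G) => (u : G) ∈ N))
    have hN : Nat.card N = (P : Subgroup G).index * Nat.card (N.subgroupOf (P : Subgroup G)) := by
      refine Nat.eq_of_mul_eq_mul_right hp.pos ?_
      have h1 := N.card_mul_index
      have h2 := (N.subgroupOf (P : Subgroup G)).card_mul_index
      rw [hidx] at h1
      rw [hPN] at h2
      rw [h1, mul_assoc, h2, mul_comm, Subgroup.card_mul_index]
    let ι : Z → {u : (P : Subgroup G) // (u : G) ∉ N} := fun z => ⟨⟨z.1, z.2.1⟩, z.2.2.1⟩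
    have hι : Function.Injective ι := fun a b hab => Subtype.ext (by
      simpa [ι] using congrArg (fun u : {u : (P : Subgroup G) // (u : G) ∉ N} => ((u.1 : (P : Subgroup G)) : G)) hab)
    have hge : Nat.card {u : (P : Subgroup G) // (u : G) ∉ N} ≤ Nat.card Z := by
      refine Nat.le_of_mul_le_mul_left ?_ (Nat.pos_of_ne_zero (Subgroup.index_ne_zero_of_finite (H := (P : Subgroup G))))
      have h1 : (P : Subgroup G).index * Nat.card {u : (P : Subgroup G) // (u : G) ∉ N} + Nat.card N = Nat.card G := by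
        rw [hN, ← mul_add, hout', mul_comm, Subgroup.card_mul_index]
      omega
    have hbij : Function.Bijective ι := (Nat.bijective_iff_injective_and_card ι).2
      ⟨hι, le_antisymm (Nat.card_le_card_of_injective ι hι) hge⟩
    have hout_central : ∀ a ∈ (P : Subgroup G), a ∉ N → ∀ b ∈ (P : Subgroup G), Commute b a := by
      intro a ha haN b hb
      obtain ⟨z, hz⟩ := hbij.2 ⟨⟨a, ha⟩, haN⟩
      have : z.1 = a := by simpa [ι] using congrArg (fun u : {u : (P : Subgroup G) // (u : G) ∉ N} => ((u.1 : (P : Subgroup G)) : G)) hz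
      exact this ▸ z.2.2.2 b hb
    intro a ha b hb
    by_cases haN : a ∈ N
    · have h1 : a * x ∉ N := fun hm => hx ((N.mul_mem_cancel_left haN).1 hm)
      have hxP : x ∈ (P : Subgroup G) := by rw [hP]; exact Subgroup.mem_centralizer_singleton_iff.2 rfl
      have h2 := hout_central _ ((P : Subgroup G).mul_mem ha hxP) h1 b hb
      have h3 := hout_central x hxP hx b hb
      have h4 : Commute b (a * x * x⁻¹) := h2.mul_right h3.inv_right
      rw [mul_inv_cancel_right] at h4
      exact h4.symm
    · exact (hout_central a ha haN b hb).symm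
  rcases (hPmax.le_iff.1 (Subgroup.le_normalizer (H := (P : Subgroup G)))) with htop | heq
  · -- the Sylow subgroup is normal
    haveI : (P : Subgroup G).Normal := Subgroup.normalizer_eq_top_iff.1 htop
    obtain ⟨q, hq, hqd⟩ := Nat.exists_prime_and_dvd (n := (P : Subgroup G).index)
      (fun h1 => hPmax.1 (Subgroup.index_eq_one.1 h1))
    haveI : Fact q.Prime := ⟨hq⟩
    obtain ⟨y, hy⟩ := exists_prime_orderOf_dvd_card' (G := G ⧸ (P : Subgroup G)) q (by rwa [← Subgroup.index_eq_card])
    have hQ : Subgroup.zpowers y = ⊤ := by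
      obtain ⟨g, rfl⟩ := QuotientGroup.mk'_surjective (P : Subgroup G) y
      have h1 : (P : Subgroup G) < (Subgroup.zpowers (QuotientGroup.mk' (P : Subgroup G) g)).comap
          (QuotientGroup.mk' (P : Subgroup G)) := by
        refine lt_of_le_of_ne (fun u hu => by
          rw [Subgroup.mem_comap, show QuotientGroup.mk' (P : Subgroup G) u = 1 from (QuotientGroup.eq_one_iff u).2 hu]
          exact one_mem _) fun he => ?_
        have : g ∈ (P : Subgroup G) := by rw [he]; exact Subgroup.mem_zpowers _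
        rw [show QuotientGroup.mk' (P : Subgroup G) g = 1 from (QuotientGroup.eq_one_iff g).2 this, orderOf_one] at hy
        exact hq.ne_one hy.symm
      have h2 := hPmax.2 _ h1
      rw [← Subgroup.map_comap_eq_self_of_surjective (QuotientGroup.mk'_surjective (P : Subgroup G))
        (Subgroup.zpowers _), h2, Subgroup.map_top_of_surjective _ (QuotientGroup.mk'_surjective _)]
    refine isSolvable_of_normal_quotient (P : Subgroup G) (isSolvable_of_isPGroup P.isPGroup') ?_
    exact isSolvable_of_prime_card (by rw [← Subgroup.card_top, ← hQ, Nat.card_zpowers, hy]; exact hq)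
  · -- a normal complement
    have hnc : Subgroup.normalizer ((P : Subgroup G) : Set G) ≤ Subgroup.centralizer ((P : Subgroup G) : Set G) := by
      rw [heq]
      exact fun a ha => Subgroup.mem_centralizer_iff.2 fun b hb => hPab b hb a ha
    have hK := MonoidHom.ker_transferSylow_isComplement' P hnc
    set K := (MonoidHom.transferSylow P hnc).ker with hKdef
    obtain ⟨q, hq, hqd⟩ := Nat.exists_prime_and_dvd (n := Nat.card K) (fun h1 => by
      refine hG (P.isPGroup'.of_equiv ((MulEquiv.subgroupCongr ?_).trans Subgroup.topEquiv))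
      rw [← hK.sup_eq_top, Subgroup.card_eq_one.1 h1, bot_sup_eq])
    haveI : Fact q.Prime := ⟨hq⟩
    have hPK : (P : Subgroup G).index = Nat.card K := hK.index_eq_card
    have hqp : q ≠ p := fun e => P.not_dvd_index (by rw [hPK, ← e]; exact hqd)
    obtain ⟨Q⟩ : Nonempty (Sylow q K) := inferInstance
    set Q₁ := (Q : Subgroup K).map K.subtype with hQ₁
    have hfr : Subgroup.normalizer (Q₁ : Set G) ⊔ K = ⊤ := Sylow.normalizer_sup_eq_top Q
    have hQne : Q₁ ≠ ⊥ := by
      rw [hQ₁, Ne, Subgroup.map_eq_bot_iff_of_injective _ K.subtype_injective]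
      intro h0
      have := Q.dvd_card_of_dvd_card hqd
      rw [h0, Subgroup.card_bot] at this
      exact hq.one_lt.ne' (Nat.dvd_one.1 this)
    -- a Sylow `p`-subgroup normalises `Q₁`
    obtain ⟨R⟩ : Nonempty (Sylow p (Subgroup.normalizer (Q₁ : Set G))) := inferInstance
    obtain ⟨P', hP'⟩ := (R.isPGroup'.map (Subgroup.normalizer (Q₁ : Set G)).subtype).exists_le_sylow
    have hpp : Nat.card (P' : Subgroup G) ∣ Nat.card (Subgroup.normalizer (Q₁ : Set G)) := by
      have h1 : K.index ∣ Nat.card (Subgroup.normalizer (Q₁ : Set G)) := by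
        rw [K.index_eq_card]
        refine Subgroup.card_dvd_of_surjective
          ((QuotientGroup.mk' K).comp (Subgroup.normalizer (Q₁ : Set G)).subtype) fun y => ?_
        obtain ⟨a, rfl⟩ := QuotientGroup.mk'_surjective K y
        have ha : a ∈ Subgroup.normalizer (Q₁ : Set G) ⊔ K := hfr ▸ Subgroup.mem_top a
        rw [← SetLike.mem_coe, Subgroup.mul_normal, Set.mem_mul] at ha
        obtain ⟨u, hu, w, hw, rfl⟩ := ha
        exact ⟨⟨u, hu⟩, by
          rw [map_mul, show QuotientGroup.mk' K w = 1 from (QuotientGroup.eq_one_iff w).2 hw, mul_one]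
          rfl⟩
      rw [hK.symm.index_eq_card, Sylow.card_eq_multiplicity P] at h1
      rwa [Sylow.card_eq_multiplicity P']
    have hP'le : (P' : Subgroup G) ≤ Subgroup.normalizer (Q₁ : Set G) := by
      have h1 : (R : Subgroup (Subgroup.normalizer (Q₁ : Set G))).map (Subgroup.normalizer (Q₁ : Set G)).subtype =
          (P' : Subgroup G) := by
        refine Subgroup.eq_of_le_of_card_ge hP' ?_
        rw [Subgroup.card_map_of_injective (Subgroup.normalizer (Q₁ : Set G)).subtype_injective,
          R.card_eq_multiplicity, Sylow.card_eq_multiplicity]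
        refine Nat.pow_le_pow_right hp.pos ?_
        exact (hp.pow_dvd_iff_le_factorization Nat.card_pos.ne').1 (by rwa [← Sylow.card_eq_multiplicity P'])
      rw [← h1]
      exact Subgroup.map_subtype_le _
    obtain ⟨g, hg⟩ := MulAction.exists_smul_eq G P P'
    have hP'max : IsCoatom (P' : Subgroup G) := by
      rw [← hg, Sylow.coe_subgroup_smul]
      exact ((MulAut.conj g).mapSubgroup.isCoatom_iff (P : Subgroup G)).2 hPmax
    have hQp : IsPGroup q Q₁ := Q.isPGroup'.map K.subtype
    have hdisj : Disjoint (P' : Subgroup G) Q₁ := (IsPGroup.disjoint_of_ne p q (Ne.symm hqp) _ _ P'.isPGroup' hQp)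
    have hlt : (P' : Subgroup G) < (P' : Subgroup G) ⊔ Q₁ := left_lt_sup.2 fun hle => hQne (by
      rw [← inf_eq_right.2 hle]; exact hdisj.eq_bot)
    have htop := hP'max.2 _ hlt
    haveI hQn : Q₁.Normal := Subgroup.normalizer_eq_top_iff.1 (eq_top_iff.2 (htop ▸ sup_le hP'le Subgroup.le_normalizer))
    refine isSolvable_of_normal_quotient Q₁ (isSolvable_of_isPGroup hQp) ?_
    haveI : Group.IsSolvable (P' : Subgroup G) := isSolvable_of_isPGroup P'.isPGroup'
    refine Group.isSolvable_of_surjective (f := (QuotientGroup.mk' Q₁).comp (P' : Subgroup G).subtype) ?_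
    intro y
    obtain ⟨a, rfl⟩ := QuotientGroup.mk'_surjective Q₁ y
    have ha : a ∈ (P' : Subgroup G) ⊔ Q₁ := htop ▸ Subgroup.mem_top a
    rw [← SetLike.mem_coe, Subgroup.mul_normal, Set.mem_mul] at ha
    obtain ⟨u, hu, w, hw, rfl⟩ := ha
    exact ⟨⟨u, hu⟩, by
      rw [map_mul, show QuotientGroup.mk' Q₁ w = 1 from (QuotientGroup.eq_one_iff w).2 hw, mul_one]
      rfl⟩

/-- The normal subgroup is solvable. -/
theorem solvable (N : Subgroup G) [N.Normal] (hN : N ≠ ⊤)
    (h : ∀ x : G, x ∉ N → IsPrimePow (orderOf x) ∧ IsCoatom (Subgroup.centralizer ({x} : Set G))) :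
    Group.IsSolvable ↥N := by
  by_contra hns
  haveI := EPPOOutside.quotient_solvable _ N rfl hns fun x hx => (h x hx).1
  haveI : Nontrivial (G ⧸ N) := QuotientGroup.nontrivial_iff.2 hN
  obtain ⟨M, hM, hMp⟩ := exists_prime_index (Q := G ⧸ N)
  haveI := hM
  set M' := M.comap (QuotientGroup.mk' N) with hM'
  haveI : Fact M'.index.Prime := ⟨by
    rw [hM', Subgroup.index_comap_of_surjective _ (QuotientGroup.mk'_surjective _)]
    exact hMp⟩
  have hle : N ≤ M' := fun x hx => by
    rw [hM', Subgroup.mem_comap, show QuotientGroup.mk' N x = 1 from (QuotientGroup.eq_one_iff x).2 hx]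
    exact one_mem _
  haveI := solvable_of_prime_index M' (p := M'.index) rfl fun x hx => h x fun hxN => hx (hle hxN)
  exact hns inferInstance

end Cfsg.Agent.Solv.EPPOMaximal
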