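import Cfsg.Agent.Lib.Solv.TheoremBCore

/-!
The critical case for fixed-point-free operators of `p`-power order on a module of coprime characteristic:
an irreducible `q`-group with free action modulo scalars forces `p ^ m = 2 ^ b + 1`.
-/

set_option autoImplicit false
set_option linter.style.haveILetI false

open scoped commutatorElement

namespace Cfsg.Agent.Solv.FPFOp

open Cfsg.Agent.Solv.CRep

universe u v

/-- A permutation of `p`-power order has a fixed point on a set of size prime to `p`. -/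
theorem exists_fixed_of_not_dvd {α : Type*} [Finite α] {p k : ℕ} [Fact p.Prime] (π : Equiv.Perm α)
    (hπ : π ^ p ^ k = 1) (hα : ¬ p ∣ Nat.card α) : ∃ a, π a = a := by
  have hP : IsPGroup p (Subgroup.zpowers π) := by
    obtain ⟨j, -, hj⟩ := (Nat.dvd_prime_pow Fact.out).1 (orderOf_dvd_of_pow_eq_one hπ)
    exact IsPGroup.of_card (n := j) (by rw [Nat.card_zpowers, hj])
  obtain ⟨a, ha⟩ := hP.nonempty_fixed_point_of_prime_not_dvd_card (α := α) hα
  exact ⟨a, ha ⟨π, Subgroup.mem_zpowers π⟩⟩

/-- An operator of finite order prime to the characteristic has an eigenbasis. -/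
theorem exists_eigenbasis {K : Type*} [Field K] [IsAlgClosed K] {V : Type*} [AddCommGroup V] [Module K V]
    [FiniteDimensional K V] (T : Module.End K V) {P : ℕ} (hP : (P : K) ≠ 0) (hT : T ^ P = 1) :
    ∃ (b : Module.Basis (Fin (Module.finrank K V)) K V) (μ : Fin (Module.finrank K V) → K),
      ∀ i, T (b i) = μ i • b i := by
  classical
  have hsq : Squarefree (Polynomial.X ^ P - 1 : Polynomial K) :=
    (Polynomial.X_pow_sub_one_separable_iff.2 hP).squarefree
  have hss := (Module.End.isSemisimple_of_squarefree_aeval_eq_zero (f := T) hsq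
    (by simp [hT])).isFinitelySemisimple
  have htop : (⨆ μ : K, T.eigenspace μ) = ⊤ := by
    rw [← Module.End.iSup_maxGenEigenspace_eq_top T]
    exact iSup_congr fun μ => (hss.maxGenEigenspace_eq_eigenspace μ).symm
  have hbot : ⊤ ≤ Submodule.span K {v : V | ∃ μ : K, T v = μ • v} := by
    rw [← htop]
    exact iSup_le fun μ v hv => Submodule.subset_span ⟨μ, Module.End.mem_eigenspace_iff.1 hv⟩
  let b := Module.Basis.ofSpan hbot
  have hmem : ∀ i, ∃ μ : K, T (b i) = μ • b i := fun i =>
    Module.Basis.ofSpan_subset hbot ⟨i, rfl⟩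
  choose μ hμ using hmem
  let eqv := b.indexEquiv (Module.finBasis K V)
  refine ⟨b.reindex eqv, fun i => μ (eqv.symm i), fun i => ?_⟩
  rw [Module.Basis.reindex_apply]
  exact hμ _

variable {K : Type*} [Field K] [IsAlgClosed K]
variable {V : Type*} [AddCommGroup V] [Module K V] [FiniteDimensional K V]

/-- The critical case. -/
theorem core {Q : Type*} [Group Q] [Finite Q] {p q : ℕ} [Fact p.Prime] [Fact q.Prime] (hp2 : p ≠ 2)
    (hQ : IsPGroup q Q) (hqK : (q : K) ≠ 0) (hpK : (p : K) ≠ 0)
    (φ : Q →* Module.End K V) (hs : IsSimpleRep φ) (σ : MulAut Q) (m : ℕ)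
    (T : Module.End K V) (hT : T ^ p ^ m = 1) (hTc : ∀ a, T * φ a = φ (σ a) * T)
    (hfix : ∀ v, T v = v → v = 0) (R : Subgroup Q) (hR : ∀ a, a ∈ R ↔ ∃ c : K, φ a = c • 1)
    (hcomm : ∀ a b : Q, ⁅a, b⁆ ∈ R) (hRne : R ≠ ⊤)
    (hfree : ∀ a i, 0 < i → i < p ^ m → a⁻¹ * (σ ^ i) a ∈ R → a ∈ R) :
    q = 2 ∧ ∃ b, 1 ≤ b ∧ p ^ m = 2 ^ b + 1 ∧ R.index = (2 ^ b) ^ 2 := by
  classical
  haveI := hs.1
  haveI := Fintype.ofFinite Q
  obtain ⟨P, hP⟩ : ∃ P, P = p ^ m := ⟨_, rfl⟩
  rw [← hP] at hT hfree ⊢
  have hP0 : 0 < P := hP ▸ pow_pos (Fact.out : p.Prime).pos m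
  have hPK : (P : K) ≠ 0 := by rw [hP, Nat.cast_pow]; exact pow_ne_zero _ hpK
  have hQK : (Nat.card Q : K) ≠ 0 := by
    obtain ⟨k, hk⟩ := hQ.exists_card_eq
    rw [hk, Nat.cast_pow]
    exact pow_ne_zero _ hqK
  have hN0 := ThmB.finrank_ne_zero hs hQK
  set N := Module.finrank K V with hN
  have hm0 : 1 < P := by
    by_contra hm
    obtain ⟨v, hv⟩ := exists_ne (0 : V)
    refine hv (hfix v ?_)
    rw [show P = 1 by omega, pow_one] at hT
    rw [hT, Module.End.one_apply]
  have hne0 : ∀ a : Q, φ a ≠ 0 := fun a h => by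
    obtain ⟨v, hv⟩ := exists_ne (0 : V)
    have h1 := rep_inv_apply φ a v
    rw [h, LinearMap.zero_apply, map_zero] at h1
    exact hv h1.symm
  haveI hRn : R.Normal := ⟨fun a ha g => by
    have h1 : g * a * g⁻¹ = ⁅g, a⁆ * a := by rw [commutatorElement_def]; group
    rw [h1]
    exact R.mul_mem (hcomm g a) ha⟩
  -- the traces off the scalars
  have htr : ∀ a, a ∉ R → LinearMap.trace K V (φ a) = 0 := by
    intro a ha
    by_contra h0
    apply ha
    refine (hR a).2 (schur hs (φ a) fun k => ?_)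
    obtain ⟨c, hc⟩ := (hR _).1 (hcomm k a)
    have h1 : φ k * φ a * φ k⁻¹ = c • φ a := by
      rw [← map_mul, ← map_mul, show k * a * k⁻¹ = ⁅k, a⁆ * a by rw [commutatorElement_def]; group,
        map_mul, hc, smul_mul_assoc, one_mul]
    have h2 := congrArg (LinearMap.trace K V) h1
    rw [LinearMap.trace_mul_cycle, ← map_mul φ k⁻¹, inv_mul_cancel, map_one, one_mul, map_smul, smul_eq_mul] at h2
    have hc1 : c = 1 := mul_right_cancel₀ h0 (h2.symm.trans (one_mul _).symm)
    rw [hc1, one_smul] at h1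
    calc φ a * φ k = φ k * φ a * φ k⁻¹ * φ k := by rw [h1]
      _ = φ k * φ a := by rw [mul_assoc, ← map_mul φ k⁻¹, inv_mul_cancel, map_one, mul_one]
  -- a basis of `End V`
  let B : Q ⧸ R → Module.End K V := fun x => φ x.out
  have hB : ∀ a : Q, ∃ c : K, φ a = c • B (a : Q ⧸ R) := by
    intro a
    have h1 : (a : Q ⧸ R).out⁻¹ * a ∈ R := QuotientGroup.eq.1 (QuotientGroup.out_eq' _)
    obtain ⟨c, hc⟩ := (hR _).1 h1
    refine ⟨c, ?_⟩
    show φ a = c • φ (a : Q ⧸ R).out
    conv_lhs => rw [← mul_inv_cancel_left (a : Q ⧸ R).out a]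
    rw [map_mul, hc, mul_smul_comm, mul_one]
  have hli : LinearIndependent K B := by
    rw [Fintype.linearIndependent_iff]
    intro g hg y
    have h1 := congrArg (fun M => LinearMap.trace K V (M * φ y.out⁻¹)) hg
    simp only [Finset.sum_mul, smul_mul_assoc, map_sum, map_smul, zero_mul, map_zero] at h1
    rw [Finset.sum_eq_single y (fun x _ hxy => ?_) (fun h => absurd (Finset.mem_univ y) h)] at h1
    · show g y = 0
      simp only [B] at h1
      rw [← map_mul, mul_inv_cancel, map_one, LinearMap.trace_one, smul_eq_mul] at h1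
      exact (mul_eq_zero.1 h1).resolve_right hN0
    · simp only [B]
      rw [← map_mul, htr _ fun hmem => hxy ?_, smul_zero]
      rw [← QuotientGroup.out_eq' x, ← QuotientGroup.out_eq' y, QuotientGroup.eq_iff_div_mem, div_eq_mul_inv]
      exact hmem
  have hspan : ⊤ ≤ Submodule.span K (Set.range B) := by
    intro M _
    have h1 := ThmB.trace_expand hs M
    rw [← inv_smul_smul₀ hQK M, ← h1]
    refine Submodule.smul_mem _ _ (Submodule.smul_mem _ _ (Submodule.sum_mem _ fun g _ => Submodule.smul_mem _ _ ?_))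
    obtain ⟨c, hc⟩ := hB g
    rw [hc]
    exact Submodule.smul_mem _ _ (Submodule.subset_span ⟨_, rfl⟩)
  let Bb := Module.Basis.mk hli hspan
  have hcardX : Nat.card (Q ⧸ R) = N * N := by
    rw [Nat.card_eq_fintype_card, ← Module.finrank_eq_card_basis Bb, Module.finrank_linearMap]
  -- the permutation induced on the cosets
  have hTinj : ∀ M M' : Module.End K V, M * T = M' * T → M = M' := fun M M' h => by
    have h1 := congrArg (fun A : Module.End K V => A * T ^ (P - 1)) h
    rw [mul_assoc, mul_assoc, ← pow_succ', Nat.sub_add_cancel hP0, hT, mul_one, mul_one] at h1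
    exact h1
  have hRσ : ∀ a, a ∈ R → σ a ∈ R := by
    intro a ha
    obtain ⟨c, hc⟩ := (hR a).1 ha
    refine (hR _).2 ⟨c, hTinj _ _ ?_⟩
    rw [← hTc, hc, mul_smul_comm, mul_one, smul_mul_assoc, one_mul]
  have hmap : R.map (σ : Q →* Q) = R := by
    refine Subgroup.eq_of_le_of_card_ge ?_ ?_
    · rintro _ ⟨a, ha, rfl⟩; exact hRσ a ha
    · exact (Nat.card_congr (R.equivMapOfInjective _ σ.injective).toEquiv).le
  let π : Equiv.Perm (Q ⧸ R) := (QuotientGroup.congr R R σ hmap).toEquiv
  have hπ : ∀ a : Q, π (a : Q ⧸ R) = ((σ a : Q) : Q ⧸ R) := fun a => QuotientGroup.congr_mk R R σ hmap a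
  have hπi : ∀ (i : ℕ) (a : Q), (π ^ i) (a : Q ⧸ R) = (((σ ^ i) a : Q) : Q ⧸ R) := by
    intro i
    induction i with
    | zero => intro a; simp
    | succ i ih =>
      intro a
      rw [pow_succ', Equiv.Perm.mul_apply, ih, hπ, pow_succ', MulAut.mul_apply]
  have hπP : ∀ x, (π ^ P) x = x := by
    intro x
    obtain ⟨a, rfl⟩ := QuotientGroup.mk_surjective x
    rw [hπi]
    have h1 := pow_intertwine φ σ T hTc P a
    rw [hT, one_mul, mul_one] at h1
    refine QuotientGroup.eq.2 ((hR _).2 ⟨1, ?_⟩)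
    rw [map_mul, one_smul, h1, ← map_mul, inv_mul_cancel, map_one]
  have hπfree : ∀ x : Q ⧸ R, x ≠ 1 → ∀ i, 0 < i → i < P → (π ^ i) x ≠ x := by
    intro x hx i hi hiP h
    obtain ⟨a, rfl⟩ := QuotientGroup.mk_surjective x
    rw [hπi] at h
    exact hx ((QuotientGroup.eq_one_iff a).2 (hfree a i hi hiP (QuotientGroup.eq.1 h.symm)))
  -- the number of orbits
  haveI : Fintype (MulAction.orbitRel.Quotient (Subgroup.zpowers π) (Q ⧸ R)) := Fintype.ofFinite _
  have horb : ∀ x : Q ⧸ R, x ≠ 1 → Nat.card (MulAction.orbit (Subgroup.zpowers π) x) = P := by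
    intro x hx
    rw [Nat.card_eq_fintype_card, ← MulAction.minimalPeriod_eq_card]
    have hiter : ∀ i, (fun y => π • y)^[i] x = (π ^ i) x := fun i => by
      rw [smul_iterate]; rfl
    refine le_antisymm (Function.IsPeriodicPt.minimalPeriod_le hP0 ((hiter P).trans (hπP x))) ?_
    by_contra hlt
    push Not at hlt
    refine hπfree x hx _ (Function.IsPeriodicPt.minimalPeriod_pos hP0 ((hiter P).trans (hπP x))) hlt ?_
    rw [← hiter]
    exact Function.iterate_minimalPeriod
  have horb1 : Nat.card (MulAction.orbit (Subgroup.zpowers π) (1 : Q ⧸ R)) = 1 := by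
    have hfix1 : π 1 = 1 := by rw [← QuotientGroup.mk_one, hπ, map_one]
    have hstab : ∀ g ∈ Subgroup.zpowers π, g (1 : Q ⧸ R) = 1 := fun g hg =>
      (Subgroup.zpowers_le (H := MulAction.stabilizer (Equiv.Perm (Q ⧸ R)) (1 : Q ⧸ R))).2 hfix1 hg
    have : MulAction.orbit (Subgroup.zpowers π) (1 : Q ⧸ R) = {1} := by
      ext y
      constructor
      · rintro ⟨g, rfl⟩; exact hstab g g.2
      · rintro rfl; exact MulAction.mem_orbit_self 1
    rw [this]
    simp
  obtain ⟨o, ho⟩ : ∃ o, o = Fintype.card (MulAction.orbitRel.Quotient (Subgroup.zpowers π) (Q ⧸ R)) := ⟨_, rfl⟩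
  let ω₀ : MulAction.orbitRel.Quotient (Subgroup.zpowers π) (Q ⧸ R) := Quotient.mk'' 1
  have hout1 : ∀ ω : MulAction.orbitRel.Quotient (Subgroup.zpowers π) (Q ⧸ R),
      (ω.out = 1 ↔ ω = ω₀) := by
    intro ω
    constructor
    · intro h
      rw [← Quotient.out_eq' ω, h]
    · intro h
      have h1 : ω.out ∈ MulAction.orbit (Subgroup.zpowers π) (1 : Q ⧸ R) := by
        rw [← MulAction.orbitRel_apply]
        exact Quotient.exact' (h ▸ Quotient.out_eq' ω)
      have h2 := horb1
      rw [Nat.card_coe_set_eq, Set.ncard_eq_one] at h2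
      obtain ⟨z, hz⟩ := h2
      have h3 := MulAction.mem_orbit_self (M := Subgroup.zpowers π) (1 : Q ⧸ R)
      rw [hz, Set.mem_singleton_iff] at h1 h3
      rw [h1, h3]
  have hcount : N * N + P = 1 + o * P := by
    rw [← hcardX, Nat.card_congr (MulAction.selfEquivSigmaOrbits (Subgroup.zpowers π) (Q ⧸ R)), Nat.card_sigma,
      Fintype.sum_eq_add_sum_compl ω₀, (hout1 ω₀).2 rfl, horb1,
      Finset.sum_congr rfl (fun ω hω => horb _ fun h => Finset.mem_compl.1 hω (Finset.mem_singleton.2 ((hout1 ω).1 h))),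
      Finset.sum_const, Finset.card_compl, Finset.card_singleton, smul_eq_mul, ← ho, add_assoc]
    have ho1 : 1 ≤ o := ho ▸ Fintype.card_pos_iff.2 ⟨ω₀⟩
    obtain ⟨o', rfl⟩ : ∃ o', o = o' + 1 := ⟨o - 1, by omega⟩
    rw [Nat.add_sub_cancel]; ring
  -- the centralizer of `T`
  let C : Submodule K (Module.End K V) :=
    { carrier := {M | T * M = M * T}
      add_mem' := fun {a b} (ha : T * a = a * T) (hb : T * b = b * T) => by
        show T * (a + b) = (a + b) * T
        rw [mul_add, add_mul, ha, hb]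
      zero_mem' := by simp
      smul_mem' := fun c {a} (ha : T * a = a * T) => by
        show T * (c • a) = (c • a) * T
        rw [mul_smul_comm, smul_mul_assoc, ha] }
  have hT1 : ∀ x : Q ⧸ R, ∃ c : K, c ≠ 0 ∧ T * B x = (c • B (π x)) * T := by
    intro x
    obtain ⟨c, hc⟩ := hB (σ x.out)
    rw [← hπ, QuotientGroup.out_eq'] at hc
    refine ⟨c, fun h0 => hne0 (σ x.out) (by rw [hc, h0, zero_smul]), ?_⟩
    show T * φ x.out = _
    rw [hTc, hc]
  choose cx hcx0 hcx using hT1
  have hrec : ∀ M ∈ C, ∀ x, Bb.repr M (π x) = cx x * Bb.repr M x := by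
    intro M hM x
    have h1 : ∑ y, Bb.repr M y • Bb y = M := Bb.sum_repr M
    have h2 : M = ∑ y, (Bb.repr M y * cx y) • Bb (π y) := by
      refine hTinj _ _ ?_
      rw [Finset.sum_mul, show M * T = T * M from hM.symm]
      conv_lhs => rw [← h1, Finset.mul_sum]
      refine Finset.sum_congr rfl fun y _ => ?_
      simp only [Bb, Module.Basis.mk_apply]
      rw [mul_smul_comm, hcx, smul_mul_assoc, smul_mul_assoc, smul_smul]
    conv_lhs => rw [h2, map_sum, Finsupp.finsetSum_apply]
    rw [Finset.sum_eq_single x (fun y _ hy => ?_) (fun h => absurd (Finset.mem_univ x) h)]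
    · rw [map_smul, Bb.repr_self, Finsupp.smul_apply, Finsupp.single_eq_same, smul_eq_mul, mul_one, mul_comm]
    · rw [map_smul, Bb.repr_self, Finsupp.smul_apply, Finsupp.single_eq_of_ne (fun h => hy (π.injective h).symm),
        smul_zero]
  have hCo : Module.finrank K C ≤ o := by
    let L : C →ₗ[K] (MulAction.orbitRel.Quotient (Subgroup.zpowers π) (Q ⧸ R) → K) :=
      { toFun := fun M ω => Bb.repr (M : Module.End K V) ω.out
        map_add' := fun a b => funext fun ω => by simp
        map_smul' := fun c a => funext fun ω => by simp }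
    have hL : Function.Injective L := by
      rw [← LinearMap.ker_eq_bot, eq_bot_iff]
      intro M hM
      rw [LinearMap.mem_ker] at hM
      have hz : ∀ x, Bb.repr (M : Module.End K V) x = 0 := by
        intro x
        obtain ⟨ω, hω⟩ : ∃ ω : MulAction.orbitRel.Quotient (Subgroup.zpowers π) (Q ⧸ R), Quotient.mk'' x = ω :=
          ⟨_, rfl⟩
        have h1 : x ∈ MulAction.orbit (Subgroup.zpowers π) ω.out := by
          rw [← MulAction.orbitRel_apply]
          exact Quotient.exact' (hω.trans (Quotient.out_eq' ω).symm)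
        obtain ⟨⟨g, hg⟩, rfl⟩ := h1
        obtain ⟨i, rfl⟩ := (IsOfFinOrder.mem_powers_iff_mem_zpowers (isOfFinOrder_of_finite π)).2 hg
        show Bb.repr (M : Module.End K V) ((π ^ i) ω.out) = 0
        clear hω hg
        induction i with
        | zero => rw [pow_zero, Equiv.Perm.one_apply]; exact congrFun hM ω
        | succ i ih => rw [pow_succ', Equiv.Perm.mul_apply, hrec _ M.2, ih, mul_zero]
      rw [Submodule.mem_bot]
      exact Subtype.ext (Bb.repr.injective (Finsupp.ext fun x => by simp [hz x]))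
    have h1 := LinearMap.finrank_le_finrank_of_injective hL
    rw [Module.finrank_fintype_fun_eq_card, ← ho] at h1
    exact h1
  -- the eigenvalues of `T`
  obtain ⟨b, μ, hμ⟩ := exists_eigenbasis T hPK hT
  let ι := Fin (Module.finrank K V)
  have hμP : ∀ i, μ i ^ P = 1 ∧ μ i ≠ 1 := by
    intro i
    have hpow : ∀ j, (T ^ j) (b i) = μ i ^ j • b i := by
      intro j
      induction j with
      | zero => simp
      | succ j ih => rw [pow_succ', Module.End.mul_apply, ih, map_smul, hμ, smul_smul, ← pow_succ]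
    refine ⟨?_, fun h => b.ne_zero i (hfix _ (by rw [hμ, h, one_smul]))⟩
    have h1 := hpow P
    rw [hT, Module.End.one_apply] at h1
    exact smul_left_injective K (b.ne_zero i) (h1.symm.trans (one_smul K (b i)).symm)
  have hNι : N = Fintype.card ι := (Fintype.card_fin _).symm
  let S : Finset (ι × ι) := Finset.univ.filter fun z => μ z.1 = μ z.2
  have hSC : S.card ≤ Module.finrank K C := by
    let E := Module.Basis.linearMap b b
    have hE : ∀ z : S, E (z : ι × ι) ∈ C := by
      rintro ⟨⟨i, j⟩, hz⟩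
      have hij : μ i = μ j := (Finset.mem_filter.1 hz).2
      refine b.ext fun k => ?_
      rw [Module.End.mul_apply, Module.End.mul_apply, hμ, map_smul, Module.Basis.linearMap_apply_apply]
      split_ifs with hk
      · subst hk; rw [hμ, hij]
      · rw [map_zero, smul_zero]
    have h1 : LinearIndependent K (fun z : S => (⟨E (z : ι × ι), hE z⟩ : C)) := by
      refine LinearIndependent.of_comp C.subtype ?_
      exact E.linearIndependent.comp _ Subtype.val_injective
    have h2 := h1.fintype_card_le_finrank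
    rwa [Fintype.card_coe] at h2
  have hCS : N * N ≤ (P - 1) * S.card := by
    set W := Finset.univ.image μ with hW
    have hWc : W.card ≤ P - 1 := by
      have hsub : W ⊆ (Polynomial.nthRoots P (1 : K)).toFinset.erase 1 := by
        intro x hx
        obtain ⟨i, -, rfl⟩ := Finset.mem_image.1 hx
        exact Finset.mem_erase.2 ⟨(hμP i).2, Multiset.mem_toFinset.2 ((Polynomial.mem_nthRoots hP0).2 (hμP i).1)⟩
      refine (Finset.card_le_card hsub).trans ?_
      have h1 : (1 : K) ∈ (Polynomial.nthRoots P (1 : K)).toFinset :=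
        Multiset.mem_toFinset.2 ((Polynomial.mem_nthRoots hP0).2 (one_pow P))
      rw [Finset.card_erase_of_mem h1]
      exact Nat.sub_le_sub_right ((Multiset.toFinset_card_le _).trans (Polynomial.card_nthRoots P 1)) 1
    have hfib : S.card = ∑ x ∈ W, (Finset.univ.filter fun i => μ i = x).card ^ 2 := by
      rw [Finset.card_eq_sum_card_fiberwise (f := fun z : ι × ι => μ z.1) (t := W)
        (fun z _ => Finset.mem_image.2 ⟨z.1, Finset.mem_univ _, rfl⟩)]
      refine Finset.sum_congr rfl fun x _ => ?_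
      rw [pow_two, ← Finset.card_product]
      congr 1
      ext ⟨i, j⟩
      simp only [S, Finset.mem_filter, Finset.mem_product, Finset.mem_univ, true_and]
      constructor
      · rintro ⟨h1, h2⟩; exact ⟨h2, h1 ▸ h2⟩
      · rintro ⟨h1, h2⟩; exact ⟨h1.trans h2.symm, h1⟩
    have hsum : N = ∑ x ∈ W, (Finset.univ.filter fun i => μ i = x).card := by
      rw [hNι, ← Finset.card_univ]
      exact Finset.card_eq_sum_card_fiberwise fun i _ => Finset.mem_image.2 ⟨i, Finset.mem_univ _, rfl⟩
    rw [hfib, ← pow_two, hsum]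
    exact (sq_sum_le_card_mul_sum_sq).trans (Nat.mul_le_mul_right _ hWc)
  have hNP : N ≤ P - 1 := by
    have h1 : N * N ≤ (P - 1) * o := hCS.trans (Nat.mul_le_mul_left _ (hSC.trans hCo))
    by_contra hlt
    push Not at hlt
    obtain ⟨P', rfl⟩ : ∃ P', P = P' + 1 := ⟨P - 1, by omega⟩
    rw [Nat.add_sub_cancel] at h1 hlt
    have h2 : N * N * (P' + 1) ≤ P' * (o * (P' + 1)) := by
      calc N * N * (P' + 1) ≤ P' * o * (P' + 1) := Nat.mul_le_mul_right _ h1
        _ = _ := by ring
    have h3 : o * (P' + 1) = N * N + P' := by omega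
    rw [h3] at h2
    have h4 : N * N ≤ P' * P' := by nlinarith
    have := Nat.mul_self_le_mul_self_iff.1 h4
    omega
  -- arithmetic
  obtain ⟨b', hb'⟩ := ThmB.finrank_eq_pow (K := K) (Nat.card Q) φ rfl hQ hs
  have hb1 : 1 ≤ b' := by
    rcases Nat.eq_zero_or_pos b' with rfl | h
    · exfalso
      apply hRne
      rw [← Subgroup.index_eq_one, Subgroup.index_eq_card, hcardX, hN, hb', pow_zero, mul_one]
    · exact h
  have hN2 : 2 ≤ N := by
    rw [hN, hb']
    exact (Fact.out : q.Prime).two_le.trans (Nat.le_self_pow (by omega) q)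
  have hdvd : P ∣ (N - 1) * (N + 1) := by
    obtain ⟨o', rfl⟩ : ∃ o', o = o' + 1 := ⟨o - 1, by
      have : 1 ≤ o := ho ▸ Fintype.card_pos_iff.2 ⟨ω₀⟩
      omega⟩
    obtain ⟨N', hN'⟩ : ∃ N', N = N' + 1 := ⟨N - 1, by omega⟩
    refine ⟨o', ?_⟩
    rw [hN', Nat.add_sub_cancel]
    rw [hN'] at hcount
    nlinarith
  have hcop : P.Coprime (N - 1) ∨ P.Coprime (N + 1) := by
    by_contra hh
    rw [not_or, hP] at hh
    obtain ⟨h1, h2⟩ := hh
    have hpp : p.Prime := Fact.out
    have e1 : p ∣ N - 1 := by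
      by_contra h; exact h1 ((hpp.coprime_iff_not_dvd.2 h).pow_left m)
    have e2 : p ∣ N + 1 := by
      by_contra h; exact h2 ((hpp.coprime_iff_not_dvd.2 h).pow_left m)
    have e3 : p ∣ 2 := by
      have := Nat.dvd_sub e2 e1
      rwa [show N + 1 - (N - 1) = 2 by omega] at this
    exact hp2 ((Nat.prime_dvd_prime_iff_eq hpp Nat.prime_two).1 e3)
  have hPN : P = N + 1 := by
    rcases hcop with h | h
    · have := Nat.le_of_dvd (by omega) (h.dvd_of_dvd_mul_left hdvd)
      omega
    · have := Nat.le_of_dvd (by omega) (h.dvd_of_dvd_mul_right hdvd)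
      omega
  have hq2 : q = 2 := by
    by_contra hq
    have hqodd : Odd N := by rw [hN, hb']; exact ((Fact.out : q.Prime).odd_of_ne_two hq).pow
    have hpodd : Odd P := by rw [hP]; exact ((Fact.out : p.Prime).odd_of_ne_two hp2).pow
    rw [hPN, Nat.odd_add_one] at hpodd
    exact hpodd hqodd
  refine ⟨hq2, b', hb1, ?_, ?_⟩
  · rw [hPN, hN, hb', hq2]
  · rw [Subgroup.index_eq_card, hcardX, hN, hb', hq2, pow_two]

end Cfsg.Agent.Solv.FPFOp
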