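import Cfsg.Agent.Lib.Solv.EPPO
import Cfsg.Agent.Lib.Solv.Zipper
import Cfsg.Agent.Lib.Solv.CNOddTheorem
import Cfsg.Agent.Lib.Char.Burnside
import Cfsg.Agent.Lib.Solv.FPFCore

/-!
# Groups with all elements outside a nonsolvable normal subgroup of prime power order
-/

set_option autoImplicit false
set_option linter.unusedSectionVars false

open Cfsg

namespace Cfsg.Agent.Solv.EPPOOutside

universe u

variable {G : Type u} [Group G] [Finite G]

/-- A prime power order cannot be split by two primes. -/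
theorem not_isPrimePow {n p q : ℕ} (hp : p.Prime) (hq : q.Prime) (hne : p ≠ q) (hpn : p ∣ n) (hqn : q ∣ n) :
    ¬ IsPrimePow n := by
  intro h
  obtain ⟨r, k, hr, -, hk⟩ := (isPrimePow_def _).1 h
  have hr' : r.Prime := Nat.prime_iff.2 hr
  exact hne (((Nat.prime_dvd_prime_iff_eq hp hr').1 (hp.dvd_of_dvd_pow (hk ▸ hpn))).trans
    ((Nat.prime_dvd_prime_iff_eq hq hr').1 (hq.dvd_of_dvd_pow (hk ▸ hqn))).symm)

/-- Elements outside `N` of order prime to `p` centralise no `p`-element of `N`. -/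
theorem eq_one_of_commute {p : ℕ} [hp : Fact p.Prime] (N : Subgroup G)
    (h : ∀ x : G, x ∉ N → IsPrimePow (orderOf x)) {x v : G} (hx : x ∉ N) (hpx : ¬ p ∣ orderOf x) (hvN : v ∈ N)
    (hv : ∃ k : ℕ, v ^ p ^ k = 1) (hc : Commute x v) : v = 1 := by
  by_contra hv1
  obtain ⟨k, hk⟩ := hv
  obtain ⟨j, -, hj⟩ := (Nat.dvd_prime_pow hp.out).1 (orderOf_dvd_of_pow_eq_one hk)
  have hj0 : j ≠ 0 := fun h0 => hv1 (orderOf_eq_one_iff.1 (by rw [hj, h0, pow_zero]))
  have hco : (orderOf x).Coprime (orderOf v) := by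
    rw [hj]
    exact Nat.Coprime.pow_right _ (hp.out.coprime_iff_not_dvd.2 hpx).symm
  have hord := hc.orderOf_mul_eq_mul_orderOf_of_coprime hco
  have hxv : x * v ∉ N := fun hm => hx ((N.mul_mem_cancel_right hvN).1 hm)
  obtain ⟨q, hq, hqd⟩ := Nat.exists_prime_and_dvd (fun h1 => hx (by rw [orderOf_eq_one_iff.1 h1]; exact N.one_mem) :
    orderOf x ≠ 1)
  refine not_isPrimePow hq hp.out (fun h' => hpx (h' ▸ hqd)) (hord ▸ hqd.trans (dvd_mul_right _ _)) ?_ (h _ hxv)
  rw [hord, hj]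
  exact (dvd_pow_self p hj0).trans (dvd_mul_left _ _)

/-- The quotient has no involution inverting an element of odd prime order. -/
theorem no_inverted (N : Subgroup G) [N.Normal] (hns : ¬ Group.IsSolvable ↥N)
    (h : ∀ x : G, x ∉ N → IsPrimePow (orderOf x)) (t u : G ⧸ N) {r : ℕ} (hr : r.Prime) (hr2 : r ≠ 2)
    (ht : orderOf t = 2) (hu : orderOf u = r) (hinv : t * u * t⁻¹ = u⁻¹) : False := by
  classical
  haveI : Fact r.Prime := ⟨hr⟩
  haveI : Fact (Nat.Prime 2) := ⟨Nat.prime_two⟩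
  -- an odd prime of `N` different from `r`
  obtain ⟨p, hp, hp2, hpr, hpN⟩ : ∃ p, p.Prime ∧ p ≠ 2 ∧ p ≠ r ∧ p ∣ Nat.card N := by
    by_contra hno
    push Not at hno
    refine hns (Char.isSolvable_of_two_primes Nat.prime_two hr _ rfl fun q hq hqd => ?_)
    by_contra hc
    push Not at hc
    exact hno q hq hc.1 hc.2 hqd
  haveI : Fact p.Prime := ⟨hp⟩
  obtain ⟨P⟩ : Nonempty (Sylow p N) := inferInstance
  set P₁ : Subgroup G := (P : Subgroup N).map N.subtype with hP₁
  set L : Subgroup G := Subgroup.normalizer (P₁ : Set G) with hL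
  have hfr : L ⊔ N = ⊤ := Sylow.normalizer_sup_eq_top P
  set π := QuotientGroup.mk' N with hπ
  have hsurj : ∀ q : G ⧸ N, ∃ l ∈ L, π l = q := by
    intro q
    obtain ⟨g, rfl⟩ := QuotientGroup.mk'_surjective N q
    have hg : g ∈ L ⊔ N := hfr ▸ Subgroup.mem_top g
    rw [← SetLike.mem_coe, Subgroup.mul_normal, Set.mem_mul] at hg
    obtain ⟨l, hl, n, hn, rfl⟩ := hg
    exact ⟨l, hl, by
      rw [map_mul, show π n = 1 from (QuotientGroup.eq_one_iff n).2 hn, mul_one]⟩
  have hmem : ∀ g : G, g ∈ N ↔ π g = 1 := fun g => (QuotientGroup.eq_one_iff g).symm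
  -- the invariant abelian subgroup
  haveI : Nontrivial (P : Subgroup N) := by
    rw [Subgroup.nontrivial_iff_ne_bot]
    intro h0
    have := P.dvd_card_of_dvd_card hpN
    rw [h0, Subgroup.card_bot] at this
    exact hp.one_lt.ne' (Nat.dvd_one.1 this)
  haveI := P.isPGroup'.center_nontrivial
  obtain ⟨z, hz⟩ := exists_ne (1 : Subgroup.center (P : Subgroup N))
  set v : G := (((z : P) : N) : G) with hv
  have hv1 : v ≠ 1 := fun h0 => hz (Subtype.ext (Subtype.ext (Subtype.ext h0)))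
  have hvP : v ∈ P₁ := ⟨_, (z : P).2, rfl⟩
  have hvc : ∀ y ∈ P₁, Commute v y := by
    rintro y ⟨y', hy', rfl⟩
    exact congrArg N.subtype (congrArg Subtype.val (Subgroup.mem_center_iff.1 z.2 ⟨y', hy'⟩)).symm
  have hpow : ∀ y ∈ P₁, ∃ k : ℕ, y ^ p ^ k = 1 := by
    rintro y ⟨y', hy', rfl⟩
    obtain ⟨k, hk⟩ := P.isPGroup' ⟨y', hy'⟩
    exact ⟨k, by rw [← map_pow, show y' ^ p ^ k = 1 from congrArg Subtype.val hk, map_one]⟩
  have hP₁N : P₁ ≤ N := Subgroup.map_subtype_le _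
  have hcentral : ∀ g ∈ L, ∀ y ∈ P₁, Commute (g * v * g⁻¹) y := by
    intro g hg y hy
    have h1 : g⁻¹ * y * g ∈ P₁ := by
      have := (Subgroup.mem_normalizer_iff.1 (L.inv_mem hg) y).1 hy
      simpa using this
    have h2 := hvc _ h1
    show g * v * g⁻¹ * y = y * (g * v * g⁻¹)
    have h3 : v * (g⁻¹ * y * g) = g⁻¹ * y * g * v := h2
    calc g * v * g⁻¹ * y = g * (v * (g⁻¹ * y * g)) * g⁻¹ := by group
      _ = g * (g⁻¹ * y * g * v) * g⁻¹ := by rw [h3]
      _ = y * (g * v * g⁻¹) := by group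
  have hconjP : ∀ g ∈ L, g * v * g⁻¹ ∈ P₁ := fun g hg => (Subgroup.mem_normalizer_iff.1 hg v).1 hvP
  -- lifts
  obtain ⟨x₀, hx₀, hx₀t⟩ := hsurj t
  obtain ⟨c₀, hc₀, hc₀u⟩ := hsurj u
  set M : Subgroup G := L ⊓ (Subgroup.zpowers u).comap π with hM
  obtain ⟨R⟩ : Nonempty (Sylow r M) := inferInstance
  set R₁ : Subgroup G := (R : Subgroup M).map M.subtype with hR₁
  have hR₁M : R₁ ≤ M := Subgroup.map_subtype_le _
  have hRr : ∀ c ∈ R₁, ∃ k : ℕ, c ^ r ^ k = 1 := by
    rintro c ⟨c', hc', rfl⟩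
    obtain ⟨k, hk⟩ := R.isPGroup' ⟨c', hc'⟩
    exact ⟨k, by rw [← map_pow, show c' ^ r ^ k = 1 from congrArg Subtype.val hk, map_one]⟩
  -- the Sylow subgroup covers `u`
  obtain ⟨c₁, hc₁, hc₁u⟩ : ∃ c ∈ R₁, π c = u := by
    let f : M →* G ⧸ N := π.comp M.subtype
    have hrange : (R : Subgroup M).map f = Subgroup.zpowers u := by
      have hle : (R : Subgroup M).map f ≤ Subgroup.zpowers u := by
        rintro _ ⟨m, -, rfl⟩
        exact m.2.2
      refine le_antisymm hle ?_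
      by_contra hnle
      have htop : f.range = Subgroup.zpowers u := by
        refine le_antisymm (by rintro _ ⟨m, rfl⟩; exact m.2.2) ?_
        rw [Subgroup.zpowers_le]
        exact ⟨⟨c₀, hc₀, by show π c₀ ∈ Subgroup.zpowers u; rw [hc₀u]; exact Subgroup.mem_zpowers u⟩, hc₀u⟩
      haveI : Fact (Nat.card (Subgroup.zpowers u)).Prime := ⟨by rw [Nat.card_zpowers, hu]; exact hr⟩
      rcases ((((R : Subgroup M).map f).subgroupOf (Subgroup.zpowers u)).eq_bot_or_eq_top_of_prime_card) with hb | hb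
      · rw [Subgroup.subgroupOf_eq_bot, disjoint_iff, inf_eq_left.2 hle, Subgroup.map_eq_bot_iff] at hb
        refine R.not_dvd_index ?_
        refine dvd_trans ?_ (Subgroup.index_dvd_of_le hb)
        rw [Subgroup.index_ker, htop, Nat.card_zpowers, hu]
      · exact hnle (Subgroup.subgroupOf_eq_top.1 hb)
    obtain ⟨m, hm, hmu⟩ := hrange.symm.le (Subgroup.mem_zpowers u)
    exact ⟨m, ⟨m, hm, rfl⟩, hmu⟩
  -- an element normalising `R₁` over `t`
  have hx₀M : ∀ m : G, m ∈ M → x₀ * m * x₀⁻¹ ∈ M := by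
    rintro m ⟨hmL, hmu⟩
    refine ⟨L.mul_mem (L.mul_mem hx₀ hmL) (L.inv_mem hx₀), ?_⟩
    obtain ⟨i, hi⟩ := Subgroup.mem_zpowers_iff.1 hmu
    refine Subgroup.mem_comap.2 (Subgroup.mem_zpowers_iff.2 ⟨-i, ?_⟩)
    rw [map_mul, map_mul, map_inv, hx₀t, ← hi, zpow_neg, ← inv_zpow, ← hinv, conj_zpow]
  obtain ⟨x, hxL, hxR, i, hxt⟩ : ∃ x ∈ L, (∀ c ∈ R₁, x * c * x⁻¹ ∈ R₁) ∧ ∃ i : ℤ, π x = u ^ i * t := by
    let φ : M →* M := MonoidHom.mk' (fun m => ⟨x₀ * m * x₀⁻¹, hx₀M m m.2⟩)
      fun a b => Subtype.ext (by simp [mul_assoc])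
    have hφ : Function.Injective φ := fun a b hab => Subtype.ext (by
      have := congrArg Subtype.val hab
      simpa [φ] using this)
    have hcard : Nat.card ((R : Subgroup M).map φ) = Nat.card (R : Subgroup M) :=
      Nat.card_congr ((R : Subgroup M).equivMapOfInjective φ hφ).toEquiv.symm
    obtain ⟨m, hm⟩ := MulAction.exists_smul_eq M R
      (Sylow.ofCard ((R : Subgroup M).map φ) (by rw [hcard, R.card_eq_multiplicity]))
    refine ⟨(m : G)⁻¹ * x₀, L.mul_mem (L.inv_mem m.2.1) hx₀, ?_, ?_⟩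
    · rintro _ ⟨c, hc, rfl⟩
      have hmem : φ c ∈ ((m • R : Sylow r M) : Subgroup M) := by
        rw [hm, Sylow.coe_ofCard]
        exact ⟨c, hc, rfl⟩
      rw [Sylow.coe_subgroup_smul, Subgroup.mem_pointwise_smul_iff_inv_smul_mem] at hmem
      refine ⟨_, hmem, ?_⟩
      simp [φ, MulAut.smul_def, MulAut.conj_inv_apply, mul_assoc]
    · obtain ⟨i, hi⟩ := Subgroup.mem_zpowers_iff.1 (Subgroup.mem_comap.1 m.2.2)
      exact ⟨-i, by rw [map_mul, map_inv, ← hi, hx₀t, zpow_neg]⟩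
  have htt : t * t = 1 := by rw [← pow_two, ← ht, pow_orderOf_eq_one]
  have hxinv : π x * u * (π x)⁻¹ = u⁻¹ := by
    rw [hxt, show u ^ i * t * u * (u ^ i * t)⁻¹ = u ^ i * (t * u * t⁻¹) * (u ^ i)⁻¹ by group, hinv]
    group
  have hu1 : u ≠ 1 := fun h0 => hr.ne_one (by rw [← hu, h0, orderOf_one])
  have huu : u⁻¹ * u⁻¹ ≠ 1 := by
    intro h0
    have h2 : orderOf u ∣ 2 := orderOf_dvd_of_pow_eq_one (by rw [pow_two, ← inv_inj, mul_inv_rev, h0, inv_one])
    rw [hu] at h2
    exact hr2 ((Nat.prime_dvd_prime_iff_eq hr Nat.prime_two).1 h2)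
  have hxx : π (x * x) = 1 := by
    rw [map_mul, hxt, show u ^ i * t * (u ^ i * t) = u ^ i * (t * u ^ i * t⁻¹) * (t * t) by group, htt, mul_one,
      ← conj_zpow, hinv, inv_zpow, mul_inv_cancel]
  have hπx1 : π x ≠ 1 := by
    intro h0
    rw [h0, one_mul, inv_one, mul_one] at hxinv
    exact huu (by nth_rewrite 2 [← hxinv]; exact inv_mul_cancel u)
  have hxN : x ∉ N := fun h0 => hπx1 ((hmem x).1 h0)
  have hord2 : ∃ k : ℕ, orderOf x = 2 ^ k := by
    obtain ⟨q, k, hq, -, hk⟩ := (isPrimePow_def _).1 (h x hxN)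
    have h2 : 2 ∣ orderOf x := by
      refine dvd_trans (dvd_of_eq ?_) (orderOf_map_dvd π x)
      rw [orderOf_eq_prime_iff.2 ⟨by rw [pow_two, ← map_mul, hxx], hπx1⟩]
    rw [← hk] at h2
    exact ⟨k, by rw [← hk, (Nat.prime_dvd_prime_iff_eq Nat.prime_two (Nat.prime_iff.2 hq)).1
      (Nat.prime_two.dvd_of_dvd_pow h2)]⟩
  obtain ⟨k, hk⟩ := hord2
  have hnotp : ∀ c ∈ R₁, ¬ p ∣ orderOf c := fun c hc hd => by
    obtain ⟨j, hj⟩ := hRr c hc
    exact hpr ((Nat.prime_dvd_prime_iff_eq hp hr).1 (hp.dvd_of_dvd_pow (hd.trans (orderOf_dvd_of_pow_eq_one hj))))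
  by_cases hx2 : x * x = 1
  · -- `x` inverts every conjugate of `v`, so a commutator centralises `v`
    have hneg : ∀ g ∈ L, x * (g * v * g⁻¹) * x⁻¹ = (g * v * g⁻¹)⁻¹ := by
      intro g hg
      set w := g * v * g⁻¹ with hw
      have hwP : w ∈ P₁ := hconjP g hg
      have hxw : x * w * x⁻¹ ∈ P₁ := (Subgroup.mem_normalizer_iff.1 hxL w).1 hwP
      have hcw : Commute w (x * w * x⁻¹) := hcentral g hg _ hxw
      have hxi : x⁻¹ = x := inv_eq_of_mul_eq_one_right hx2
      refine eq_inv_of_mul_eq_one_right (eq_one_of_commute N h hxN ?_ (N.mul_mem (hP₁N hwP) (hP₁N hxw))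
        (hpow _ (P₁.mul_mem hwP hxw)) ?_)
      · rw [hk]
        exact fun hd => hp2 ((Nat.prime_dvd_prime_iff_eq hp Nat.prime_two).1 (hp.dvd_of_dvd_pow hd))
      · show x * (w * (x * w * x⁻¹)) = w * (x * w * x⁻¹) * x
        calc x * (w * (x * w * x⁻¹)) = x * x * w * x⁻¹ * w := by rw [hcw.eq]; group
          _ = w * x * w := by rw [hx2, one_mul, hxi]
          _ = w * (x * w * x⁻¹) * x := by group
    set d := c₁⁻¹ * (x * c₁ * x⁻¹) with hd
    have hdR : d ∈ R₁ := R₁.mul_mem (R₁.inv_mem hc₁) (hxR _ hc₁)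
    have hdN : d ∉ N := by
      intro h0
      rw [hmem, hd, map_mul, map_mul, map_mul, map_inv, map_inv, hc₁u, hxinv] at h0
      exact huu h0
    refine hv1 (eq_one_of_commute N h hdN (hnotp d hdR) (hP₁N hvP) (hpow v hvP) ?_)
    have hc₁L : c₁ ∈ L := (hR₁M hc₁).1
    have h1 : x * v * x⁻¹ = v⁻¹ := by simpa using hneg 1 L.one_mem
    have h2 := hneg c₁ hc₁L
    have h3 : x⁻¹ * v * x = v⁻¹ := by
      rw [inv_eq_of_mul_eq_one_right hx2]
      conv_lhs => arg 2; rw [← inv_eq_of_mul_eq_one_right hx2]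
      exact h1
    have h4 : d * v * d⁻¹ = v := by
      rw [hd, show c₁⁻¹ * (x * c₁ * x⁻¹) * v * (c₁⁻¹ * (x * c₁ * x⁻¹))⁻¹ =
        c₁⁻¹ * (x * (c₁ * (x⁻¹ * v * x) * c₁⁻¹) * x⁻¹) * c₁ by group, h3,
        show c₁ * v⁻¹ * c₁⁻¹ = (c₁ * v * c₁⁻¹)⁻¹ by group,
        show x * (c₁ * v * c₁⁻¹)⁻¹ * x⁻¹ = (x * (c₁ * v * c₁⁻¹) * x⁻¹)⁻¹ by group, h2, inv_inv]
      group
    show d * v = v * d
    conv_rhs => rw [← h4]
    group
  · -- a point of the coset fixed by `x²`
    set y := x * x with hy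
    let S := {c : G // c ∈ R₁ ∧ π c = u}
    have hyS : ∀ c : G, c ∈ R₁ → π c = u → y * c * y⁻¹ ∈ R₁ ∧ π (y * c * y⁻¹) = u := fun c hc hcu => by
      refine ⟨?_, by rw [map_mul, map_mul, map_inv, hxx, hcu]; group⟩
      rw [show y * c * y⁻¹ = x * (x * c * x⁻¹) * x⁻¹ by rw [hy]; group]
      exact hxR _ (hxR _ hc)
    haveI : Finite S := Subtype.finite
    have hScard : Nat.card S = Nat.card ↥(R₁ ⊓ N) := by
      refine Nat.card_congr
        { toFun := fun c => ⟨c₁⁻¹ * c.1, R₁.mul_mem (R₁.inv_mem hc₁) c.2.1, ?_⟩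
          invFun := fun a => ⟨c₁ * a.1, R₁.mul_mem hc₁ a.2.1, ?_⟩
          left_inv := fun c => Subtype.ext (mul_inv_cancel_left _ _)
          right_inv := fun a => Subtype.ext (inv_mul_cancel_left _ _) }
      · refine SetLike.mem_coe.2 ((hmem _).2 ?_)
        rw [map_mul, map_inv, hc₁u, c.2.2, inv_mul_cancel]
      · rw [map_mul, hc₁u, (hmem _).1 a.2.2, mul_one]
    have hSodd : ¬ 2 ∣ Nat.card S := by
      rw [hScard]
      intro h2
      have h3 : IsPGroup r ↥(R₁ ⊓ N : Subgroup G) := (R.isPGroup'.map M.subtype).to_le inf_le_left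
      obtain ⟨j, hj⟩ := IsPGroup.iff_card.1 h3
      rw [hj] at h2
      exact hr2 ((Nat.prime_dvd_prime_iff_eq Nat.prime_two hr).1 (Nat.prime_two.dvd_of_dvd_pow h2)).symm
    let σ : Equiv.Perm S :=
      { toFun := fun c => ⟨y * c.1 * y⁻¹, hyS c.1 c.2.1 c.2.2⟩
        invFun := fun c => ⟨y⁻¹ * c.1 * y, by
          obtain ⟨hc, hcu⟩ := c.2
          have hR : ∀ a ∈ R₁, x⁻¹ * a * x ∈ R₁ := by
            intro a ha
            have hn : x ^ (orderOf x - 1) = x⁻¹ := by
              rw [eq_inv_iff_mul_eq_one, ← pow_succ, Nat.sub_add_cancel (orderOf_pos x), pow_orderOf_eq_one]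
            have hpw : ∀ j : ℕ, x ^ j * a * (x ^ j)⁻¹ ∈ R₁ := fun j => by
              induction j with
              | zero => simpa using ha
              | succ j ihj =>
                have := hxR _ ihj
                rwa [show x * (x ^ j * a * (x ^ j)⁻¹) * x⁻¹ = x ^ (j + 1) * a * (x ^ (j + 1))⁻¹ by
                  rw [pow_succ']; group] at this
            have := hpw (orderOf x - 1)
            rwa [hn, inv_inv] at this
          refine ⟨?_, by rw [map_mul, map_mul, map_inv, hxx, hcu]; group⟩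
          rw [show y⁻¹ * c.1 * y = x⁻¹ * (x⁻¹ * c.1 * x) * x by rw [hy]; group]
          exact hR _ (hR _ hc)⟩
        left_inv := fun c => Subtype.ext (by show y⁻¹ * (y * c.1 * y⁻¹) * y = c.1; group)
        right_inv := fun c => Subtype.ext (by show y * (y⁻¹ * c.1 * y) * y⁻¹ = c.1; group) }
    have hσpow : ∀ (j : ℕ) (c : S), ((σ ^ j) c).1 = y ^ j * c.1 * (y ^ j)⁻¹ := by
      intro j
      induction j with
      | zero => intro c; simp
      | succ j ihj =>
        intro c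
        rw [pow_succ', Equiv.Perm.mul_apply]
        show y * ((σ ^ j) c).1 * y⁻¹ = _
        rw [ihj, pow_succ']
        group
    have hσ : σ ^ 2 ^ k = 1 := Equiv.ext fun c => Subtype.ext (by
      rw [hσpow, show y ^ 2 ^ k = 1 by
        rw [hy, ← pow_two, ← pow_mul, mul_comm, pow_mul, ← hk, pow_orderOf_eq_one, one_pow]]
      simp)
    obtain ⟨c, hc⟩ := FPFOp.exists_fixed_of_not_dvd (p := 2) (k := k) σ hσ hSodd
    obtain ⟨hcR, hcu⟩ := c.2
    have hcy : Commute c.1 y := by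
      have h0 : y * c.1 * y⁻¹ = c.1 := congrArg Subtype.val hc
      show c.1 * y = y * c.1
      conv_lhs => rw [← h0]
      group
    have hcN : c.1 ∉ N := fun h0 => hu1 (by rw [← hcu]; exact (hmem _).1 h0)
    have hyN : y ∈ N := (hmem _).2 hxx
    refine hx2 (eq_one_of_commute (p := 2) N h hcN ?_ hyN ⟨k, ?_⟩ hcy)
    · intro hd
      obtain ⟨j, hj⟩ := hRr _ hcR
      exact hr2 ((Nat.prime_dvd_prime_iff_eq Nat.prime_two hr).1
        (Nat.prime_two.dvd_of_dvd_pow (hd.trans (orderOf_dvd_of_pow_eq_one hj)))).symm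
    · rw [hy, ← pow_two, ← pow_mul, mul_comm, pow_mul, ← hk, pow_orderOf_eq_one, one_pow]

/-- The quotient is solvable. -/
theorem quotient_solvable : ∀ (n : ℕ) (N : Subgroup G) [N.Normal], N.index = n → ¬ Group.IsSolvable ↥N →
    (∀ x : G, x ∉ N → IsPrimePow (orderOf x)) → Group.IsSolvable (G ⧸ N) := by
  intro n
  induction n using Nat.strong_induction_on with
  | _ n ih =>
    intro N _ hidx hns h
    subst hidx
    haveI : Fact (Nat.Prime 2) := ⟨Nat.prime_two⟩
    by_cases hO : Cfsg.pCore 2 (G ⧸ N) = ⊥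
    · have hQ : ∀ g : G ⧸ N, g ≠ 1 → IsPrimePow (orderOf g) := by
        intro g hg
        obtain ⟨x, rfl⟩ := QuotientGroup.mk'_surjective N g
        exact IsPrimePow.dvd (h x fun hx => hg ((QuotientGroup.eq_one_iff x).2 hx)) (orderOf_map_dvd _ x)
          fun e => hg (orderOf_eq_one_iff.1 e)
      have hodd : Odd (Nat.card (G ⧸ N)) := by
        by_contra heven
        rw [Nat.not_odd_iff_even, even_iff_two_dvd] at heven
        obtain ⟨t, ht⟩ := exists_prime_orderOf_dvd_card' 2 heven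
        obtain ⟨a, ha1, haodd, hinv⟩ := exists_odd_inverted ht (by
          rw [hO, Subgroup.mem_bot]
          intro h0
          rw [h0, orderOf_one] at ht
          exact absurd ht (by norm_num))
        obtain ⟨r, hr, hrd⟩ := Nat.exists_prime_and_dvd (fun h0 => ha1 (orderOf_eq_one_iff.1 h0) : orderOf a ≠ 1)
        refine no_inverted N hns h t (a ^ (orderOf a / r)) hr (fun h2 => ?_) ht
          (orderOf_pow_orderOf_div (orderOf_pos a).ne' hrd) ?_
        · exact Nat.not_even_iff_odd.2 haodd (even_iff_two_dvd.2 (h2 ▸ hrd))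
        · rw [← conj_pow, hinv, inv_pow]
      refine isSolvable_of_odd_cn hodd fun g hg => ?_
      obtain ⟨p, hp, hpd⟩ := Nat.exists_prime_and_dvd (fun h0 => hg (orderOf_eq_one_iff.1 h0) : orderOf g ≠ 1)
      haveI : Fact p.Prime := ⟨hp⟩
      set C := Subgroup.centralizer ({g} : Set (G ⧸ N))
      have hC : IsPGroup p C := IsPGroup.of_card (n := (Nat.card C).primeFactorsList.length)
        (Nat.eq_prime_pow_of_unique_prime_dvd Nat.card_pos.ne' fun {q} hq hqd => by
          haveI : Fact q.Prime := ⟨hq⟩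
          obtain ⟨y, hy⟩ := exists_prime_orderOf_dvd_card' q hqd
          refine EPPO.prime_eq_of_commute hQ hq hp (x := (y : G ⧸ N)) (by rw [Subgroup.orderOf_coe, hy])
            (orderOf_pow_orderOf_div (orderOf_pos g).ne' hpd) ?_
          exact Commute.pow_right (Subgroup.mem_centralizer_singleton_iff.1 y.2) _)
      exact hC.isNilpotent
    · set N' := (Cfsg.pCore 2 (G ⧸ N)).comap (QuotientGroup.mk' N) with hN'
      have hle : N ≤ N' := fun x hx => by
        rw [hN', Subgroup.mem_comap, show QuotientGroup.mk' N x = 1 from (QuotientGroup.eq_one_iff x).2 hx]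
        exact one_mem _
      have hns' : ¬ Group.IsSolvable ↥N' := fun hs =>
        hns (haveI := hs; Group.isSolvable_of_isSolvable_injective (Subgroup.inclusion_injective hle))
      have hlt : N'.index < N.index := by
        have h1 := Subgroup.relIndex_mul_index hle
        have h2 : N.relIndex N' ≠ 1 := fun h0 => by
          rw [Subgroup.relIndex_eq_one] at h0
          refine hO ((Subgroup.eq_bot_iff_forall _).2 fun q hq => ?_)
          obtain ⟨x, rfl⟩ := QuotientGroup.mk'_surjective N q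
          exact (QuotientGroup.eq_one_iff x).2 (h0 (Subgroup.mem_comap.2 hq))
        rw [← h1]
        exact lt_mul_left (Nat.pos_of_ne_zero Subgroup.index_ne_zero_of_finite)
          (lt_of_le_of_ne (Nat.one_le_iff_ne_zero.2 Subgroup.index_ne_zero_of_finite) (Ne.symm h2))
      have hQ' := ih _ hlt N' rfl hns' fun x hx => h x fun hxN => hx (hle hxN)
      haveI : Group.IsSolvable (Cfsg.pCore 2 (G ⧸ N)) :=
        isSolvable_of_isPGroup (pCore_isPGroup 2)
      refine isSolvable_of_normal_quotient (Cfsg.pCore 2 (G ⧸ N)) inferInstance ?_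
      let g : G ⧸ N →* G ⧸ N' := QuotientGroup.map N N' (MonoidHom.id G) (by simpa using hle)
      have hgker : g.ker = Cfsg.pCore 2 (G ⧸ N) := by
        ext q
        obtain ⟨x, rfl⟩ := QuotientGroup.mk'_surjective N q
        show g (QuotientGroup.mk x) = 1 ↔ _
        rw [QuotientGroup.map_mk, MonoidHom.id_apply, QuotientGroup.eq_one_iff]
        exact Subgroup.mem_comap
      haveI := hQ'
      exact Group.isSolvable_of_isSolvable_injective (f := (QuotientGroup.kerLift g).comp (QuotientGroup.quotientMulEquivOfEq hgker.symm).toMonoidHom)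
        ((QuotientGroup.kerLift_injective g).comp (QuotientGroup.quotientMulEquivOfEq hgker.symm).injective)

end Cfsg.Agent.Solv.EPPOOutside
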