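import Mathlib
import Cfsg.Agent.Lib.Solv.IsoSubgroups
import Cfsg.Agent.Lib.Char.BrauerSuzuki

/-!
Finite groups in which `p`-subgroups of equal order are conjugate have no extraspecial Sylow
subgroup of order `p ^ 3` and exponent `p`: two transvection groups on an elementary abelian
subgroup of order `p ^ 2` produce an inverting element, which the structure of the Sylow
2-subgroups does not allow.
-/

set_option autoImplicit false
set_option linter.style.haveILetI false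

open scoped Pointwise

namespace Cfsg.Agent.Solv.EqualOrderExtraspecial

open Cfsg

universe u

variable {G : Type u} [Group G] [Finite G] {p : ℕ} [hp : Fact p.Prime]

omit [Finite G] in
theorem conj_mem_of_index {R A : Subgroup G} (hAR : A ≤ R) (hA : Nat.card A = p ^ 2)
    (hR : Nat.card R = p ^ 3) {r y : G} (hr : r ∈ R) (hy : y ∈ A) : r * y * r⁻¹ ∈ A := by
  haveI : Finite R := Nat.finite_of_card_ne_zero (by rw [hR]; exact (pow_pos hp.out.pos _).ne')
  have hidx : (A.subgroupOf R).index = (Nat.card R).minFac := by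
    have h := (A.subgroupOf R).card_mul_index
    rw [Nat.card_congr (Subgroup.subgroupOfEquivOfLe hAR).toEquiv, hA, hR, pow_succ p 2] at h
    rw [hR, Nat.Prime.pow_minFac hp.out (by norm_num)]
    exact Nat.eq_of_mul_eq_mul_left (pow_pos hp.out.pos _) h
  haveI := Subgroup.normal_of_index_eq_minFac_card hidx
  exact Subgroup.Normal.conj_mem (H := A.subgroupOf R) inferInstance ⟨y, hAR hy⟩ hy ⟨r, hr⟩

theorem comm_mem_zpowers {R : Subgroup G} (hR : Nat.card R = p ^ 3)
    (hna : ¬ IsMulCommutative R) (hexp : ∀ r ∈ R, r ^ p = 1) {x : G} (hx : x ∈ R) (hx1 : x ≠ 1)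
    (hxc : ∀ r ∈ R, r * x = x * r) :
    (∀ y ∈ R, (∀ r ∈ R, r * y = y * r) → y ∈ Subgroup.zpowers x) ∧
      ∀ a ∈ R, ∀ b ∈ R, a * b * a⁻¹ * b⁻¹ ∈ Subgroup.zpowers x := by
  set Z := Subgroup.center R with hZ
  have hxZ : (⟨x, hx⟩ : R) ∈ Z := Subgroup.mem_center_iff.2 fun r => Subtype.ext (hxc r r.2)
  obtain ⟨k, hk, hkZ⟩ := (Nat.dvd_prime_pow hp.out).1 (hR ▸ Subgroup.card_subgroup_dvd_card Z)
  have hidx : p ^ k * Z.index = p ^ 3 := by rw [← hkZ, ← hR]; exact Z.card_mul_index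
  have hk1 : k = 1 := by
    rcases (show k = 0 ∨ k = 1 ∨ k = 2 ∨ k = 3 by omega) with rfl | rfl | rfl | rfl
    · haveI : Subsingleton Z := Finite.card_le_one_iff_subsingleton.1 (by rw [hkZ, pow_zero])
      exact absurd (congrArg (fun w : Z => ((w : R) : G))
        (Subsingleton.elim (⟨⟨x, hx⟩, hxZ⟩ : Z) 1)) hx1
    · rfl
    · haveI : IsCyclic (R ⧸ Z) := isCyclic_of_prime_card (p := p) (by
        rw [← Subgroup.index_eq_card]
        exact Nat.eq_of_mul_eq_mul_left (pow_pos hp.out.pos 2) (hidx.trans (pow_succ p 2)))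
      exact absurd ⟨⟨fun a b => commutative_of_cyclic_center_quotient (QuotientGroup.mk' Z)
        (by simp [hZ]) a b⟩⟩ hna
    · exact absurd ⟨⟨fun a b => Subgroup.mem_center_iff.1 (show b ∈ Z by
        rw [Subgroup.eq_top_of_card_eq Z (hkZ.trans hR.symm)]; trivial) a⟩⟩ hna
  subst hk1
  have hin : ∀ y : R, y ∈ Z → (y : G) ∈ Subgroup.zpowers x := by
    intro y hy
    have he : Z.map R.subtype = Subgroup.zpowers x := by
      symm
      refine Subgroup.eq_of_le_of_card_ge (Subgroup.zpowers_le.2 ⟨⟨x, hx⟩, hxZ, rfl⟩) ?_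
      rw [Solv.card_map_subtype, hkZ, pow_one, Nat.card_zpowers,
        orderOf_eq_prime (hexp x hx) hx1]
    exact he ▸ Subgroup.mem_map_of_mem R.subtype hy
  refine ⟨fun y hy hyc => hin ⟨y, hy⟩ (Subgroup.mem_center_iff.2 fun r => Subtype.ext (hyc r r.2)),
    fun a ha b hb => hin ⟨_, R.mul_mem (R.mul_mem (R.mul_mem ha hb) (R.inv_mem ha)) (R.inv_mem hb)⟩
      ?_⟩
  haveI hq : IsMulCommutative (R ⧸ Z) := ⟨⟨IsPGroup.commutative_of_card_eq_prime_sq (p := p) (by
    rw [← Subgroup.index_eq_card]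
    exact Nat.eq_of_mul_eq_mul_left (pow_pos hp.out.pos 1)
      (hidx.trans (by ring)))⟩⟩
  rw [← QuotientGroup.eq_one_iff]
  change (QuotientGroup.mk' Z) (⟨a, ha⟩ * ⟨b, hb⟩ * ⟨a, ha⟩⁻¹ * ⟨b, hb⟩⁻¹) = 1
  rw [map_mul, map_mul, map_mul, map_inv, map_inv, hq.is_comm.comm (QuotientGroup.mk' Z ⟨a, ha⟩),
    mul_inv_cancel_right, mul_inv_cancel]

variable (hD : ∀ p : ℕ, p.Prime → ∀ H K : Subgroup G, IsPGroup p H → IsPGroup p K →
  Nat.card H = Nat.card K → ∃ g : G, K = H.map (MulAut.conj g).toMonoidHom)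

include hD in
/-- On a subgroup of order `p ^ 2`, two Sylow subgroups give elements whose product inverts it. -/
theorem inverter (hp2 : p ≠ 2) (P : Sylow p G) (hcard : Nat.card P = p ^ 3)
    (hna : ¬ IsMulCommutative (P : Subgroup G)) (hexp : ∀ r ∈ (P : Subgroup G), r ^ p = 1)
    {x : G} (hx : x ∈ (P : Subgroup G)) (hxnc : ∃ r ∈ (P : Subgroup G), r * x ≠ x * r) :
    ∃ h z : G, z ∈ (P : Subgroup G) ∧ z ≠ 1 ∧ x ∉ Subgroup.zpowers z ∧
      h * z * h⁻¹ = x⁻¹ ∧ (h * h) * z * (h * h)⁻¹ = z⁻¹ ∧ (h * h) * x * (h * h)⁻¹ = x⁻¹ ∧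
      ∀ W : Subgroup G, W.Normal → (P : Subgroup G) ≤ W → h ∈ W := by
  obtain ⟨a, ha, hax⟩ := hxnc
  have hx1 : x ≠ 1 := fun e => hax (by rw [e, mul_one, one_mul])
  have hxo : orderOf x = p := orderOf_eq_prime (hexp x hx) hx1
  have hPp : IsPGroup p (P : Subgroup G) := P.isPGroup'
  haveI : Nontrivial (P : Subgroup G) := Finite.one_lt_card_iff_nontrivial.1
    (by rw [hcard]; exact one_lt_pow₀ hp.out.one_lt (by norm_num))
  haveI := hPp.center_nontrivial
  obtain ⟨⟨⟨z₀, hz₀P⟩, hz₀c⟩, hz₀1⟩ := exists_ne (1 : Subgroup.center (P : Subgroup G))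
  have hz₀1' : z₀ ≠ 1 := fun e => hz₀1 (Subtype.ext (Subtype.ext e))
  have hP := comm_mem_zpowers hcard hna hexp hz₀P hz₀1' fun r hr =>
    congrArg Subtype.val (Subgroup.mem_center_iff.1 hz₀c ⟨r, hr⟩)
  set z := a * x * a⁻¹ * x⁻¹ with hz
  have hzP : z ∈ (P : Subgroup G) :=
    (P : Subgroup G).mul_mem ((P : Subgroup G).mul_mem ((P : Subgroup G).mul_mem ha hx)
      ((P : Subgroup G).inv_mem ha)) ((P : Subgroup G).inv_mem hx)
  have hz1 : z ≠ 1 := fun e => hax (by
    rw [hz, mul_inv_eq_one, mul_inv_eq_iff_eq_mul] at e; exact e)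
  have hzc : ∀ r ∈ (P : Subgroup G), r * z = z * r := by
    obtain ⟨i, hi⟩ := hP.2 a ha x hx
    intro r hr
    rw [show z = z₀ ^ i from hi.symm]
    have hc : Commute r z₀ := congrArg Subtype.val (Subgroup.mem_center_iff.1 hz₀c ⟨r, hr⟩)
    exact hc.zpow_right i
  have hzo : orderOf z = p := orderOf_eq_prime (hexp z hzP) hz1
  have hxz : x ∉ Subgroup.zpowers z := by
    rintro ⟨i, hi⟩
    have hc : a * z ^ i = z ^ i * a := ((show Commute a z from hzc a ha).zpow_right i).eq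
    rw [show z ^ i = x from hi] at hc
    exact hax hc
  obtain ⟨A, hA, hxA, hAP⟩ : ∃ A : Subgroup G, Nat.card A = p ^ 2 ∧ x ∈ A ∧
      A ≤ (P : Subgroup G) := by
    obtain ⟨K, hK, hKx⟩ := Sylow.exists_subgroup_card_pow_succ (p := p) (n := 1)
      (show p ^ (1 + 1) ∣ Nat.card (P : Subgroup G) by
        rw [hcard]; exact pow_dvd_pow p (by norm_num))
      (H := Subgroup.zpowers (⟨x, hx⟩ : (P : Subgroup G)))
      (by rw [Nat.card_zpowers, Subgroup.orderOf_mk, hxo, pow_one])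
    exact ⟨K.map (P : Subgroup G).subtype, by rw [Solv.card_map_subtype, hK],
      ⟨⟨x, hx⟩, hKx (Subgroup.mem_zpowers _), rfl⟩, Subgroup.map_subtype_le K⟩
  have hzA : z ∈ A := A.mul_mem (conj_mem_of_index hAP hA hcard ha hxA) (A.inv_mem hxA)
  have hAc : ∀ b ∈ A, ∀ c ∈ A, b * c = c * b := fun b hb c hc =>
    congrArg Subtype.val (IsPGroup.commutative_of_card_eq_prime_sq (p := p) hA
      (⟨b, hb⟩ : A) ⟨c, hc⟩)
  -- a Sylow subgroup containing `A` with `x` in its centre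
  obtain ⟨g, hg⟩ := hD p hp.out (Subgroup.zpowers z) (Subgroup.zpowers x)
    (IsPGroup.of_card (n := 1) (by rw [Nat.card_zpowers, hzo, pow_one]))
    (IsPGroup.of_card (n := 1) (by rw [Nat.card_zpowers, hxo, pow_one]))
    (by rw [Nat.card_zpowers, Nat.card_zpowers, hzo, hxo])
  obtain ⟨_, ⟨i, rfl⟩, hi⟩ := (hg ▸ Subgroup.mem_zpowers x :
    x ∈ (Subgroup.zpowers z).map (MulAut.conj g).toMonoidHom)
  change g * z ^ i * g⁻¹ = x at hi
  have hconj : ∀ (c : G) (R : Sylow p G) (r : G), r ∈ ((c • R : Sylow p G) : Subgroup G) ↔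
      c⁻¹ * r * c ∈ (R : Subgroup G) := by
    intro c R r
    rw [Sylow.coe_subgroup_smul, Subgroup.mem_pointwise_smul_iff_inv_smul_mem]
    simp [MulAut.smul_def, MulAut.conj_apply]
  have hP'x : ((g • P : Sylow p G) : Subgroup G) ≤ Subgroup.centralizer ({x} : Set G) := by
    intro r hr
    rw [hconj] at hr
    rw [Subgroup.mem_centralizer_singleton_iff, ← hi]
    have h1 : Commute (g⁻¹ * r * g) (z ^ i) := Commute.zpow_right (hzc _ hr) i
    calc r * (g * z ^ i * g⁻¹) = g * ((g⁻¹ * r * g) * z ^ i) * g⁻¹ := by group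
      _ = g * (z ^ i * (g⁻¹ * r * g)) * g⁻¹ := by rw [h1.eq]
      _ = g * z ^ i * g⁻¹ * r := by group
  have hAx : A ≤ Subgroup.centralizer ({x} : Set G) := fun b hb =>
    Subgroup.mem_centralizer_singleton_iff.2 (hAc b hb x hxA)
  obtain ⟨T, hT⟩ := ((IsPGroup.of_card hA : IsPGroup p A).comap_subtype
    (K := Subgroup.centralizer ({x} : Set G))).exists_le_sylow
  obtain ⟨c, hc⟩ := MulAction.exists_smul_eq (Subgroup.centralizer ({x} : Set G))
    ((g • P).subtype hP'x) T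
  set Q : Sylow p G := (c : G) • (g • P) with hQ
  have hAQ : A ≤ (Q : Subgroup G) := by
    intro b hb
    have h1 : (⟨b, hAx hb⟩ : Subgroup.centralizer ({x} : Set G)) ∈ (T : Subgroup _) :=
      hT (show (⟨b, hAx hb⟩ : Subgroup.centralizer ({x} : Set G)) ∈
        A.subgroupOf (Subgroup.centralizer ({x} : Set G)) from hb)
    rw [← hc, Sylow.coe_subgroup_smul, Subgroup.mem_pointwise_smul_iff_inv_smul_mem] at h1
    rw [hQ, hconj]
    simpa [MulAut.smul_def, MulAut.conj_apply, Subgroup.mem_subgroupOf] using h1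
  have hQx : ∀ r ∈ (Q : Subgroup G), r * x = x * r := by
    intro r hr
    rw [hQ, hconj] at hr
    have h1 := Subgroup.mem_centralizer_singleton_iff.1 (hP'x hr)
    have h2 : Commute (c : G) x := Subgroup.mem_centralizer_singleton_iff.1 c.2
    have h3 : Commute ((c : G) * ((c : G)⁻¹ * r * c) * (c : G)⁻¹) x :=
      (h2.mul_left h1).mul_left h2.inv_left
    have e : (c : G) * ((c : G)⁻¹ * r * c) * (c : G)⁻¹ = r := by group
    rwa [e] at h3
  have e := P.equiv Q
  have hQcard : Nat.card Q = p ^ 3 := by rw [← hcard]; exact (Nat.card_congr e.toEquiv).symm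
  have hQna : ¬ IsMulCommutative (Q : Subgroup G) := fun h => hna ⟨⟨fun b c => e.injective (by
    rw [map_mul, map_mul]; exact h.is_comm.comm _ _)⟩⟩
  have hQexp : ∀ r ∈ (Q : Subgroup G), r ^ p = 1 := by
    intro r hr
    have h1 : (e.symm ⟨r, hr⟩) ^ p = 1 := Subtype.ext (hexp _ (e.symm ⟨r, hr⟩).2)
    rw [← map_pow, ← map_one e.symm] at h1
    exact congrArg Subtype.val (e.symm.injective h1)
  obtain ⟨hQ1, hQ2⟩ := comm_mem_zpowers hQcard hQna hQexp (hAQ hxA) hx1 hQx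
  obtain ⟨q, hq, hqz⟩ : ∃ q ∈ (Q : Subgroup G), q * z ≠ z * q := by
    by_contra! hall
    obtain ⟨j, hj⟩ := hQ1 z (hAQ hzA) hall
    have h1 : Subgroup.zpowers z = Subgroup.zpowers x :=
      Subgroup.eq_of_le_of_card_ge (Subgroup.zpowers_le.2 ⟨j, hj⟩)
        (by rw [Nat.card_zpowers, Nat.card_zpowers, hzo, hxo])
    exact hxz (h1 ▸ Subgroup.mem_zpowers x)
  set x' := q * z * q⁻¹ * z⁻¹ with hx'
  have hx'1 : x' ≠ 1 := fun e => hqz (by
    rw [hx', mul_inv_eq_one, mul_inv_eq_iff_eq_mul] at e; exact e)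
  have hqx' : Commute q x' := by
    obtain ⟨j, hj⟩ := hQ2 q hq z (hAQ hzA)
    rw [show x' = x ^ j from hj.symm]
    exact Commute.zpow_right (hQx q hq) j
  obtain ⟨m, hm⟩ : ∃ m : ℕ, x' ^ m = x⁻¹ := by
    have hx'Q : x' ∈ (Q : Subgroup G) :=
      (Q : Subgroup G).mul_mem ((Q : Subgroup G).mul_mem ((Q : Subgroup G).mul_mem hq
        (hAQ hzA)) ((Q : Subgroup G).inv_mem hq)) ((Q : Subgroup G).inv_mem (hAQ hzA))
    have h1 : Subgroup.zpowers x' = Subgroup.zpowers x :=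
      Subgroup.eq_of_le_of_card_ge (Subgroup.zpowers_le.2 (hQ2 q hq z (hAQ hzA))) (by
        rw [Nat.card_zpowers, Nat.card_zpowers, hxo, orderOf_eq_prime (hQexp _ hx'Q) hx'1])
    have h2 : x⁻¹ ∈ Subgroup.zpowers x' := h1 ▸ inv_mem (Subgroup.mem_zpowers x)
    exact (IsOfFinOrder.mem_powers_iff_mem_zpowers (isOfFinOrder_of_finite x')).2 h2
  have hpow : ∀ n : ℕ, q ^ n * z * (q ^ n)⁻¹ = x' ^ n * z := by
    intro n
    induction n with
    | zero => simp
    | succ n ih =>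
      calc q ^ (n + 1) * z * (q ^ (n + 1))⁻¹ = q * (q ^ n * z * (q ^ n)⁻¹) * q⁻¹ := by
            rw [pow_succ']; group
        _ = q * x' ^ n * z * q⁻¹ := by rw [ih]; group
        _ = x' ^ n * (q * z * q⁻¹) := by rw [(hqx'.pow_right n).eq]; group
        _ = x' ^ n * (x' * z) := by rw [hx']; group
        _ = x' ^ (n + 1) * z := by rw [pow_succ]; group
  set v := q ^ m with hv
  have hvz : v * z * v⁻¹ = x⁻¹ * z := by rw [hv, hpow, hm]
  have hvx : v * x * v⁻¹ = x := by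
    rw [((show Commute q x from hQx q hq).pow_left m).eq, mul_inv_cancel_right]
  have hax' : a * x * a⁻¹ = z * x := by rw [hz]; group
  have haz : a * z * a⁻¹ = z := by rw [hzc a ha, mul_inv_cancel_right]
  have hxzc : z * x = x * z := hAc z hzA x hxA
  set h := a * v * a with hh
  have h1 : h * z * h⁻¹ = x⁻¹ := by
    calc h * z * h⁻¹ = a * (v * (a * z * a⁻¹) * v⁻¹) * a⁻¹ := by rw [hh]; group
      _ = a * (x⁻¹ * z) * a⁻¹ := by rw [haz, hvz]
      _ = (a * x * a⁻¹)⁻¹ * (a * z * a⁻¹) := by group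
      _ = (z * x)⁻¹ * z := by rw [hax', haz]
      _ = x⁻¹ := by group
  have h2 : h * x * h⁻¹ = z := by
    calc h * x * h⁻¹ = a * (v * (a * x * a⁻¹) * v⁻¹) * a⁻¹ := by rw [hh]; group
      _ = a * ((v * z * v⁻¹) * (v * x * v⁻¹)) * a⁻¹ := by rw [hax']; group
      _ = a * (x⁻¹ * (z * x)) * a⁻¹ := by rw [hvz, hvx]; group
      _ = a * z * a⁻¹ := by rw [hxzc, inv_mul_cancel_left]
      _ = z := haz
  refine ⟨h, z, hzP, hz1, hxz, h1, ?_, ?_, fun W hW hPW => ?_⟩
  · calc h * h * z * (h * h)⁻¹ = h * (h * z * h⁻¹) * h⁻¹ := by group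
      _ = h * x⁻¹ * h⁻¹ := by rw [h1]
      _ = (h * x * h⁻¹)⁻¹ := by group
      _ = z⁻¹ := by rw [h2]
  · calc h * h * x * (h * h)⁻¹ = h * (h * x * h⁻¹) * h⁻¹ := by group
      _ = x⁻¹ := by rw [h2, h1]
  · rw [hQ, hconj, hconj] at hq
    have h3 := hW.conj_mem _ (hW.conj_mem _ (hPW hq) g) (c : G)
    have h4 : q ∈ W := by
      have e : (c : G) * (g * (g⁻¹ * ((c : G)⁻¹ * q * c) * g) * g⁻¹) * (c : G)⁻¹ = q := by group
      rwa [e] at h3
    exact W.mul_mem (W.mul_mem (hPW ha) (W.pow_mem h4 m)) (hPW ha)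

omit [Finite G] in
theorem odd_pow_inverts {s y : G} (hs : s * y * s⁻¹ = y⁻¹) {n : ℕ} (hn : Odd n) :
    s ^ n * y * (s ^ n)⁻¹ = y⁻¹ := by
  obtain ⟨k, rfl⟩ := hn
  induction k with
  | zero => simpa using hs
  | succ k ih =>
    calc s ^ (2 * (k + 1) + 1) * y * (s ^ (2 * (k + 1) + 1))⁻¹
        = s * (s * (s ^ (2 * k + 1) * y * (s ^ (2 * k + 1))⁻¹) * s⁻¹) * s⁻¹ := by
          rw [show 2 * (k + 1) + 1 = 1 + 1 + (2 * k + 1) by ring, pow_add, pow_add, pow_one]
          group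
      _ = s * (s * y⁻¹ * s⁻¹) * s⁻¹ := by rw [ih]
      _ = s * (s * y * s⁻¹)⁻¹ * s⁻¹ := by group
      _ = y⁻¹ := by rw [hs, inv_inv, hs]

include hD in
/-- The Sylow subgroup lies in no normal subgroup of odd order. -/
theorem not_le_odd (hp2 : p ≠ 2) (P : Sylow p G) (hcard : Nat.card P = p ^ 3)
    (hna : ¬ IsMulCommutative (P : Subgroup G)) (hexp : ∀ r ∈ (P : Subgroup G), r ^ p = 1)
    (W : Subgroup G) [hW : W.Normal] (hodd : Odd (Nat.card W)) : ¬ (P : Subgroup G) ≤ W := by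
  intro hPW
  obtain ⟨x, hx, r, hr, hrx⟩ : ∃ x ∈ (P : Subgroup G), ∃ r ∈ (P : Subgroup G), r * x ≠ x * r := by
    by_contra! hall
    exact hna ⟨⟨fun a b => Subtype.ext (hall b b.2 a a.2)⟩⟩
  obtain ⟨h, z, -, -, hxz, h1, h2, -, hhW⟩ :=
    inverter hD hp2 P hcard hna hexp hx ⟨r, hr, hrx⟩
  obtain ⟨k, hk⟩ : Odd (orderOf h) :=
    hodd.of_dvd_nat (Subgroup.orderOf_dvd_natCard W (hhW W hW hPW))
  have he : (h * h) ^ (k + 1) = h := by
    rw [← pow_two, ← pow_mul, show 2 * (k + 1) = orderOf h + 1 by omega, pow_succ,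
      pow_orderOf_eq_one, one_mul]
  have hmem : ∀ n : ℕ, (h * h) ^ n * z * ((h * h) ^ n)⁻¹ ∈ Subgroup.zpowers z := by
    intro n
    induction n with
    | zero => simp
    | succ n ih =>
      obtain ⟨i, hi⟩ := ih
      have e : (h * h) ^ (n + 1) * z * ((h * h) ^ (n + 1))⁻¹ =
          (h * h * z * (h * h)⁻¹) ^ i := by
        rw [conj_zpow, show z ^ i = (h * h) ^ n * z * ((h * h) ^ n)⁻¹ from hi, pow_succ']
        generalize h * h = s
        group
      rw [e, h2]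
      exact Subgroup.zpow_mem _ (inv_mem (Subgroup.mem_zpowers z)) i
  have := hmem (k + 1)
  rw [he, h1, Subgroup.inv_mem_iff] at this
  exact hxz this

include hD in
theorem false_of_extraspecial (hp2 : p ≠ 2) (P : Sylow p G) (hcard : Nat.card P = p ^ 3)
    (hna : ¬ IsMulCommutative (P : Subgroup G)) (hexp : ∀ r ∈ (P : Subgroup G), r ^ p = 1) :
    False := by
  haveI : Fact (Nat.Prime 2) := ⟨Nat.prime_two⟩
  obtain ⟨S⟩ : Nonempty (Sylow 2 G) := inferInstance
  have hiso : ∀ U V : Subgroup (S : Subgroup G), Nat.card U = Nat.card V → Nonempty (U ≃* V) := by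
    intro U V hUV
    obtain ⟨g, hg⟩ := hD 2 Nat.prime_two (U.map (S : Subgroup G).subtype)
      (V.map (S : Subgroup G).subtype)
      ((S.isPGroup'.to_subgroup U).map _) ((S.isPGroup'.to_subgroup V).map _)
      (by rw [Solv.card_map_subtype, Solv.card_map_subtype, hUV])
    exact ⟨((U.equivMapOfInjective _ (Subgroup.subtype_injective _)).trans
      (((U.map (S : Subgroup G).subtype).equivMapOfInjective _ (MulAut.conj g).injective).trans
        (MulEquiv.subgroupCongr hg.symm))).trans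
      (V.equivMapOfInjective _ (Subgroup.subtype_injective _)).symm⟩
  rcases IsoSubgroups.classify S.isPGroup' hiso with hc | hel | ⟨-, ⟨e⟩⟩ | ⟨h, -⟩
  · -- a normal 2-complement contains `P`
    by_cases h2 : 2 ∣ Nat.card G
    · have hmin : (Nat.card G).minFac = 2 := le_antisymm (Nat.minFac_le_of_dvd le_rfl h2)
        (Nat.minFac_prime (fun h1 => by rw [h1] at h2; norm_num at h2)).two_le
      have hK := IsCyclic.isComplement' hmin hc
      set W := (MonoidHom.transferSylow S (hc.normalizer_le_centralizer hmin)).ker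
      have hidx : W.index = Nat.card S := hK.symm.index_eq_card
      have hWcard : Nat.card W = (S : Subgroup G).index :=
        Nat.eq_of_mul_eq_mul_right (m := Nat.card S) Nat.card_pos (by
          rw [hK.card_mul_card, mul_comm, Subgroup.card_mul_index])
      refine not_le_odd hD hp2 P hcard hna hexp W
        (Nat.odd_iff.2 (Nat.two_dvd_ne_zero.1 (hWcard ▸ S.not_dvd_index))) fun y hy => ?_
      rw [← QuotientGroup.eq_one_iff, ← orderOf_eq_one_iff]
      have h3 : orderOf (y : G ⧸ W) ∣ p ^ 1 := by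
        rw [pow_one]
        exact (orderOf_map_dvd (QuotientGroup.mk' W) y).trans
          (orderOf_dvd_of_pow_eq_one (hexp y hy))
      have h4 : orderOf (y : G ⧸ W) ∣ Nat.card S := by
        rw [← hidx, Subgroup.index_eq_card]; exact orderOf_dvd_natCard _
      obtain ⟨j, hj⟩ := IsPGroup.iff_card.1 S.isPGroup'
      rw [hj] at h4
      exact Nat.eq_one_of_dvd_coprimes
        (((Nat.coprime_primes hp.out Nat.prime_two).2 hp2).pow 1 j) h3 h4
    · exact not_le_odd hD hp2 P hcard hna hexp ⊤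
        (by rw [Subgroup.card_top]; exact Nat.odd_iff.2 (Nat.two_dvd_ne_zero.1 h2)) le_top
  rotate_left 2
  · exact h rfl
  all_goals
    have h4 : ∀ u : G, (∃ k : ℕ, orderOf u = 2 ^ k) →
        u ^ 4 = 1 ∧ ∃ g : G, g * u * g⁻¹ ∈ (S : Subgroup G) := by
      rintro u ⟨k, hk⟩
      obtain ⟨R, hR⟩ := (IsPGroup.of_card (n := k) (by rw [Nat.card_zpowers, hk]) :
        IsPGroup 2 (Subgroup.zpowers u)).exists_le_sylow
      obtain ⟨g, hg⟩ := MulAction.exists_smul_eq G R S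
      have hgS : g * u * g⁻¹ ∈ (S : Subgroup G) := by
        rw [← hg]
        exact Subgroup.mem_map_of_mem _ (hR (Subgroup.mem_zpowers u))
      refine ⟨?_, g, hgS⟩
      have hS4 : (⟨_, hgS⟩ : (S : Subgroup G)) ^ 4 = 1 := by
        first
        | rw [show (4 : ℕ) = 2 * 2 from rfl, pow_mul, hel.2]
        | exact e.injective (by
            rw [map_pow, map_one]
            exact (by decide : ∀ r : QuaternionGroup 2, r ^ 4 = 1) _)
      have h5 : (g * u * g⁻¹) ^ 4 = 1 := congrArg Subtype.val hS4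
      rwa [conj_pow, conj_eq_one_iff] at h5
    have key : ∀ x ∈ (P : Subgroup G), (∃ r ∈ (P : Subgroup G), r * x ≠ x * r) →
        ∃ s : G, orderOf s = 2 ∧ s * x * s⁻¹ = x⁻¹ ∧
          ∃ g u : G, (∃ k : ℕ, orderOf u = 2 ^ k) ∧ g * u * g⁻¹ ∈ (S : Subgroup G) ∧ s = u * u := by
      intro x hx hnc
      obtain ⟨h, z, -, -, -, -, -, h3, -⟩ := inverter hD hp2 P hcard hna hexp hx hnc
      obtain ⟨k, m, hm, hkm⟩ := Nat.exists_eq_two_pow_mul_odd (orderOf_pos h).ne'
      have hu : orderOf (h ^ m) = 2 ^ k := by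
        rw [orderOf_pow_of_dvd (fun e => by rw [e] at hm; exact absurd hm (by decide))
          ⟨2 ^ k, by rw [hkm, mul_comm]⟩, hkm, Nat.mul_div_cancel _ hm.pos]
      obtain ⟨hu4, g, hg⟩ := h4 _ ⟨k, hu⟩
      have hs : h ^ m * h ^ m = (h * h) ^ m := ((Commute.refl h).mul_pow m).symm
      have hinv : h ^ m * h ^ m * x * (h ^ m * h ^ m)⁻¹ = x⁻¹ := by
        rw [hs]; exact odd_pow_inverts h3 hm
      refine ⟨h ^ m * h ^ m, orderOf_eq_prime ?_ fun e => ?_, hinv, g, h ^ m, ⟨k, hu⟩, hg, rfl⟩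
      · rw [← hu4]; group
      · rw [e, one_mul, inv_one, mul_one, eq_inv_iff_mul_eq_one, ← pow_two] at hinv
        obtain ⟨r, hr, hrx⟩ := hnc
        refine hrx ?_
        have h6 : orderOf x ∣ Nat.gcd 2 p := Nat.dvd_gcd (orderOf_dvd_of_pow_eq_one hinv)
          (orderOf_dvd_of_pow_eq_one (hexp x hx))
        rw [(Nat.coprime_primes Nat.prime_two hp.out).2 (Ne.symm hp2), Nat.dvd_one,
          orderOf_eq_one_iff] at h6
        rw [h6, mul_one, one_mul]
    obtain ⟨x, hx, r, hr, hrx⟩ :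
        ∃ x ∈ (P : Subgroup G), ∃ r ∈ (P : Subgroup G), r * x ≠ x * r := by
      by_contra! hall
      exact hna ⟨⟨fun a b => Subtype.ext (hall b b.2 a a.2)⟩⟩
  · obtain ⟨s, hs2, -, g, u, -, hu, rfl⟩ := key x hx ⟨r, hr, hrx⟩
    have h7 : (g * u * g⁻¹) ^ 2 = 1 := congrArg Subtype.val (hel.2 ⟨_, hu⟩)
    rw [conj_pow, conj_eq_one_iff, pow_two] at h7
    rw [h7, orderOf_one] at hs2
    exact absurd hs2 (by decide)
  · obtain ⟨t, -, ht, hun⟩ := Char.exists_oddInvol_of_quaternion S 0 e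
    have hW : ∀ y ∈ (P : Subgroup G), (∃ r ∈ (P : Subgroup G), r * y ≠ y * r) →
        y ∈ oddCore G := by
      intro y hy hnc
      obtain ⟨s, hs2, hinv, g, u, -, hu, rfl⟩ := key y hy hnc
      have hgs : g * (u * u) * g⁻¹ ∈ (S : Subgroup G) := by
        rw [show g * (u * u) * g⁻¹ = g * u * g⁻¹ * (g * u * g⁻¹) by group]
        exact (S : Subgroup G).mul_mem hu hu
      have hsq : u * u * (u * u) = 1 := by rw [← pow_two, ← hs2, pow_orderOf_eq_one]
      have he : g * (u * u) * g⁻¹ = t := (hun _ hgs (by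
        rw [show g * (u * u) * g⁻¹ * (g * (u * u) * g⁻¹) = g * (u * u * (u * u)) * g⁻¹ by group,
          hsq, mul_one, mul_inv_cancel])).resolve_left fun e => by
            rw [conj_eq_one_iff] at e
            rw [e, orderOf_one] at hs2
            exact absurd hs2 (by decide)
      have hs : Char.OddInvol (u * u) := by
        have := ht.conj g⁻¹
        rw [← he] at this
        simpa [mul_assoc] using this
      have h8 : u * u * y * (u * u)⁻¹ * y⁻¹ ∈ oddCore G := Char.zStar hs y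
      rw [hinv, ← mul_inv_rev, Subgroup.inv_mem_iff] at h8
      obtain ⟨j, hj⟩ := hp.out.odd_of_ne_two hp2
      have e2 : (y * y) ^ (j + 1) = y := by
        rw [← pow_two, ← pow_mul, show 2 * (j + 1) = p + 1 by omega, pow_succ, hexp y hy, one_mul]
      exact e2 ▸ (oddCore G).pow_mem h8 (j + 1)
    refine not_le_odd hD hp2 P hcard hna hexp (oddCore G) (Char.card_oddCore_odd G) fun y hy => ?_
    by_cases hnc : ∃ r ∈ (P : Subgroup G), r * y ≠ y * r
    · exact hW y hy hnc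
    push Not at hnc
    have h9 : y * x ∈ oddCore G := hW _ ((P : Subgroup G).mul_mem hy hx) ⟨r, hr, fun e => hrx (by
      rw [← mul_assoc, hnc r hr, mul_assoc, mul_assoc] at e
      exact mul_left_cancel e)⟩
    simpa using (oddCore G).mul_mem h9 ((oddCore G).inv_mem (hW x hx ⟨r, hr, hrx⟩))

end Cfsg.Agent.Solv.EqualOrderExtraspecial
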