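import Cfsg.Agent.Lib.Solv.JordanBound
import Cfsg.Agent.Lib.Solv.CoprimeRep

/-!
The critical case of Hall and Higman's Theorem B: a `p`-element `x` normalises a group `Q` acting
irreducibly, and only scalar elements of `Q` have a nontrivial stabiliser in `⟨x⟩`.
-/

set_option autoImplicit false
set_option linter.style.haveILetI false

namespace Cfsg.Agent.Solv.ThmB

universe u

open Cfsg.Agent.Solv.CRep

variable {K : Type*} [Field K] [IsAlgClosed K]
variable {V : Type*} [AddCommGroup V] [Module K V] [FiniteDimensional K V]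

/-- Schur's orthogonality: `D • ∑ tr (M ρ g⁻¹) ρ g = |Q| • M`. -/
theorem trace_expand {E : Type*} [Group E] [Fintype E] {ρ : E →* Module.End K V} (hs : IsSimpleRep ρ)
    (M : Module.End K V) :
    (Module.finrank K V : K) • ∑ g : E, LinearMap.trace K V (M * ρ g⁻¹) • ρ g =
      (Nat.card E : K) • M := by
  refine LinearMap.ext fun v => ?_
  refine sub_eq_zero.1 ((Module.forall_dual_apply_eq_zero_iff K _).1 fun f => ?_)
  rw [map_sub, sub_eq_zero]
  have key : (Module.finrank K V : K) • ∑ g : E, f (ρ g v) • ρ g⁻¹ =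
      (Nat.card E : K) • (f.smulRight v : Module.End K V) := by
    refine LinearMap.ext fun w => ?_
    obtain ⟨Φ, hΦ⟩ : ∃ Φ : Module.End K V, Φ = ∑ g : E, ρ g⁻¹ * f.smulRight w * ρ g := ⟨_, rfl⟩
    have hcomm : ∀ h : E, Φ * ρ h = ρ h * Φ := by
      intro h
      rw [hΦ, Finset.sum_mul, Finset.mul_sum]
      refine Fintype.sum_equiv (Equiv.mulRight h) _ _ fun g => ?_
      simp only [Equiv.coe_mulRight]
      rw [mul_inv_rev, map_mul ρ h⁻¹, map_mul ρ g h, ← mul_assoc (ρ h), ← mul_assoc (ρ h),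
        ← mul_assoc (ρ h), ← map_mul ρ h h⁻¹, mul_inv_cancel, map_one, one_mul]
      simp only [mul_assoc]
    obtain ⟨μ, hμ⟩ := schur hs Φ hcomm
    have htr : μ * (Module.finrank K V : K) = (Nat.card E : K) * f w := by
      have h1 := congrArg (LinearMap.trace K V) hμ
      rw [map_smul, LinearMap.trace_one, hΦ, map_sum, smul_eq_mul] at h1
      rw [← h1, Finset.sum_congr rfl (fun g _ => by
        rw [LinearMap.trace_mul_comm, ← mul_assoc, ← map_mul, mul_inv_cancel, map_one, one_mul,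
          LinearMap.trace_smulRight]), Finset.sum_const, Finset.card_univ, nsmul_eq_mul,
        Nat.card_eq_fintype_card]
    have h2 := LinearMap.congr_fun hμ v
    rw [hΦ, LinearMap.sum_apply, LinearMap.smul_apply, Module.End.one_apply] at h2
    rw [LinearMap.smul_apply, LinearMap.smul_apply, LinearMap.sum_apply, LinearMap.smulRight_apply,
      smul_smul, ← htr, mul_comm μ, ← smul_smul, ← h2]
    congr 1
    refine Finset.sum_congr rfl fun g _ => ?_
    simp [Module.End.mul_apply, LinearMap.smulRight_apply]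
  have h1 := congrArg (fun A : Module.End K V => LinearMap.trace K V (M * A)) key
  simp only [mul_smul_comm, map_smul, Finset.mul_sum, map_sum] at h1
  rw [LinearMap.trace_mul_comm K M (f.smulRight v : Module.End K V),
    show (f.smulRight v : Module.End K V) * M = (f ∘ₗ M).smulRight v from
      LinearMap.ext fun w => by simp [Module.End.mul_apply],
    LinearMap.trace_smulRight] at h1
  simp only [LinearMap.smul_apply, LinearMap.sum_apply, map_smul, map_sum, smul_eq_mul] at h1 ⊢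
  rw [LinearMap.comp_apply] at h1
  rw [← h1]
  exact congrArg _ (Finset.sum_congr rfl fun g _ => mul_comm _ _)

theorem finrank_ne_zero {E : Type*} [Group E] [Fintype E] {ρ : E →* Module.End K V} (hs : IsSimpleRep ρ)
    (hE : (Nat.card E : K) ≠ 0) : (Module.finrank K V : K) ≠ 0 := fun h => by
  haveI := hs.1
  have h1 := trace_expand hs (1 : Module.End K V)
  rw [h, zero_smul, eq_comm, smul_eq_zero] at h1
  exact h1.elim hE (fun h2 => one_ne_zero h2)

/-- The degree of an irreducible representation of a `q`-group in characteristic other than `q` is a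
power of `q`. -/
theorem finrank_eq_pow {q : ℕ} [Fact q.Prime] : ∀ (N : ℕ) {E : Type u} [Group E] [Finite E]
    {W : Type*} [AddCommGroup W] [Module K W] [FiniteDimensional K W] (ρ : E →* Module.End K W),
    Nat.card E = N → IsPGroup q E → IsSimpleRep ρ → ∃ b, Module.finrank K W = q ^ b := by
  intro N
  induction N using Nat.strong_induction_on with
  | _ N ih =>
  intro E _ _ W _ _ _ ρ hN hE hs
  haveI := hs.1
  obtain ⟨Sc, hSc⟩ : ∃ Sc : Subgroup E, ∀ g, g ∈ Sc ↔ ∀ k, ρ g * ρ k = ρ k * ρ g :=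
    ⟨{ carrier := {g | ∀ k, ρ g * ρ k = ρ k * ρ g}
       mul_mem' := fun {a b} ha hb k => by
        rw [map_mul, mul_assoc, hb, ← mul_assoc, ha, mul_assoc]
       one_mem' := fun k => by rw [map_one, one_mul, mul_one]
       inv_mem' := fun {a} ha k => by
        calc ρ a⁻¹ * ρ k = ρ a⁻¹ * (ρ k * ρ a) * ρ a⁻¹ := by
              rw [mul_assoc, mul_assoc, ← map_mul ρ a a⁻¹, mul_inv_cancel, map_one, mul_one]
          _ = ρ a⁻¹ * (ρ a * ρ k) * ρ a⁻¹ := by rw [ha k]
          _ = _ := by rw [← mul_assoc, ← map_mul, inv_mul_cancel, map_one, one_mul] }, fun g => Iff.rfl⟩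
  haveI hScn : Sc.Normal := ⟨fun g hg k => (hSc _).2 fun j => by
    have h1 : ρ (k * g * k⁻¹) = ρ g := by
      rw [map_mul, map_mul, ← (hSc g).1 hg k, mul_assoc, ← map_mul ρ k, mul_inv_cancel, map_one, mul_one]
    rw [h1]
    exact (hSc g).1 hg j⟩
  by_cases htop : Sc = ⊤
  · -- all operators are scalar
    refine ⟨0, ?_⟩
    rw [pow_zero]
    obtain ⟨w, hw⟩ := exists_ne (0 : W)
    rcases hs.2 (K ∙ w) (fun g u hu => by
      obtain ⟨c, hc⟩ := schur hs (ρ g) fun k => (hSc g).1 (htop ▸ Subgroup.mem_top g) k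
      rw [hc, LinearMap.smul_apply, Module.End.one_apply]
      exact Submodule.smul_mem _ _ hu) with h | h
    · exact absurd (Submodule.span_singleton_eq_bot.1 h) hw
    · rw [← finrank_top K W, ← h, finrank_span_singleton hw]
  -- an element which is central modulo the scalars
  haveI : Nontrivial (E ⧸ Sc) := QuotientGroup.nontrivial_iff.2 htop
  haveI := (hE.to_quotient Sc).center_nontrivial
  obtain ⟨⟨z, hz⟩, hz1⟩ := exists_ne (1 : Subgroup.center (E ⧸ Sc))
  obtain ⟨g, rfl⟩ := QuotientGroup.mk'_surjective Sc z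
  have hgSc : g ∉ Sc := fun h => hz1 (Subtype.ext ((QuotientGroup.eq_one_iff g).2 h))
  have hcm : ∀ k, k * g * k⁻¹ * g⁻¹ ∈ Sc := fun k => by
    rw [← QuotientGroup.eq_one_iff]
    have h1 := Subgroup.mem_center_iff.1 hz (QuotientGroup.mk k)
    simp only [QuotientGroup.mk'_apply] at h1
    rw [QuotientGroup.mk_mul, QuotientGroup.mk_mul, QuotientGroup.mk_mul, QuotientGroup.mk_inv,
      QuotientGroup.mk_inv, h1, mul_inv_cancel_right, mul_inv_cancel]
  have hsc : ∀ k, ∃ c : K, ρ (k * g * k⁻¹) = c • ρ g := fun k => by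
    obtain ⟨c, hc⟩ := schur hs (ρ (k * g * k⁻¹ * g⁻¹)) ((hSc _).1 (hcm k))
    refine ⟨c, ?_⟩
    calc ρ (k * g * k⁻¹) = ρ (k * g * k⁻¹ * g⁻¹) * ρ g := by
          rw [← map_mul, inv_mul_cancel_right]
      _ = _ := by rw [hc, smul_mul_assoc, one_mul]
  choose χ hχ using hsc
  have hg0 : ρ g ≠ 0 := fun h => by
    obtain ⟨w, hw⟩ := exists_ne (0 : W)
    have h1 := rep_inv_apply ρ g w
    rw [h, LinearMap.zero_apply, map_zero] at h1
    exact hw h1.symm
  have hinj : ∀ {a b : K}, a • ρ g = b • ρ g → a = b := fun h => smul_left_injective K hg0 h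
  have hχmul : ∀ a b, χ (a * b) = χ a * χ b := fun a b => hinj (by
    have h1 : ρ (a * b * g * (a * b)⁻¹) = ρ a * ρ (b * g * b⁻¹) * ρ a⁻¹ := by
      simp only [← map_mul]; congr 1; group
    rw [← hχ, h1, hχ b, mul_smul_comm, smul_mul_assoc, ← map_mul, ← map_mul, hχ a, smul_smul,
      mul_comm])
  have hχ1 : χ 1 = 1 := hinj (by rw [← hχ, one_smul, one_mul, inv_one, mul_one])
  have hχ0 : ∀ a, χ a ≠ 0 := fun a h => by
    have h1 := hχmul a a⁻¹
    rw [mul_inv_cancel, hχ1, h, zero_mul] at h1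
    exact one_ne_zero h1
  obtain ⟨ψ, hψ⟩ : ∃ ψ : E →* Kˣ, ∀ a, (ψ a : K) = χ a :=
    ⟨MonoidHom.mk' (fun a => Units.mk0 (χ a) (hχ0 a)) fun a b => Units.ext (hχmul a b), fun a => rfl⟩
  have hker : ∀ k, k ∈ ψ.ker ↔ ρ k * ρ g = ρ g * ρ k := fun k => by
    rw [MonoidHom.mem_ker, Units.ext_iff, hψ, Units.val_one]
    refine ⟨fun h => ?_, fun h => hinj ?_⟩
    · have h1 := hχ k
      rw [h, one_smul, map_mul] at h1
      calc ρ k * ρ g = ρ (k * g) * (ρ k⁻¹ * ρ k) := by
            rw [← map_mul ρ k⁻¹, inv_mul_cancel, map_one, mul_one, map_mul]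
        _ = ρ g * ρ k := by rw [← mul_assoc, h1]
    · rw [← hχ, one_smul, map_mul, map_mul, h, mul_assoc, ← map_mul, mul_inv_cancel, map_one, mul_one]
  have hkne : ψ.ker ≠ ⊤ := fun h => hgSc ((hSc g).2 fun k => ((hker k).1 (h ▸ Subgroup.mem_top k)).symm)
  obtain ⟨c, hc⟩ := Module.End.exists_eigenvalue (ρ g)
  obtain ⟨E₀, hE₀⟩ : ∃ E₀, E₀ = (ρ g).eigenspace c := ⟨_, rfl⟩
  have hE0K : ∀ k : ψ.ker, ∀ w ∈ E₀, (ρ.comp ψ.ker.subtype) k w ∈ E₀ := fun k w hw => by
    rw [hE₀, Module.End.mem_eigenspace_iff] at hw ⊢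
    show ρ g (ρ (k : E) w) = c • ρ (k : E) w
    rw [← Module.End.mul_apply, ← (hker k).1 k.2, Module.End.mul_apply, hw, map_smul]
  have hmap : ∀ (k : E) (a : K) (w : W), w ∈ (ρ g).eigenspace a →
      ρ k w ∈ (ρ g).eigenspace (a * (χ k)⁻¹) := by
    intro k a w hw
    rw [Module.End.mem_eigenspace_iff] at hw ⊢
    have h1 : χ k • ρ g (ρ k w) = a • ρ k w := by
      calc χ k • ρ g (ρ k w) = ρ (k * g * k⁻¹) (ρ k w) := by rw [hχ k, LinearMap.smul_apply]
        _ = ρ k (ρ g (ρ k⁻¹ (ρ k w))) := by rw [map_mul, map_mul]; rfl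
        _ = _ := by rw [rep_inv_apply, hw, map_smul]
    rw [mul_comm, ← smul_smul, ← h1, smul_smul, inv_mul_cancel₀ (hχ0 k), one_smul]
  obtain ⟨ev, hev⟩ : ∃ ev : ψ.range → K, ∀ t, ev t = c * ((t : Kˣ) : K) :=
    ⟨fun t => c * ((t : Kˣ) : K), fun _ => rfl⟩
  have hc0 : c ≠ 0 := fun h => by
    obtain ⟨w, hw, hw0⟩ := hc.exists_hasEigenvector
    rw [Module.End.mem_eigenspace_iff, h, zero_smul] at hw
    exact hw0 (by rw [← rep_inv_apply ρ g w, hw, map_zero])
  have hev_inj : Function.Injective ev := fun a b h => by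
    rw [hev, hev] at h
    exact Subtype.ext (Units.ext (mul_left_cancel₀ hc0 h))
  have hindep : iSupIndep fun t => (ρ g).eigenspace (ev t) := (ρ g).eigenspaces_iSupIndep.comp hev_inj
  obtain ⟨S, hS⟩ : ∃ S, S = ⨆ t, (ρ g).eigenspace (ev t) := ⟨_, rfl⟩
  have hE0S : E₀ ≤ S := hE₀ ▸ hS ▸ le_iSup_of_le ⟨1, one_mem _⟩ (by rw [hev]; simp)
  have hS_top : S = ⊤ := by
    refine (hs.2 S fun k w hw => ?_).resolve_left fun h => hc (le_bot_iff.1 (hE₀.ge.trans (hE0S.trans h.le)))
    rw [hS] at hw ⊢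
    refine Submodule.iSup_induction _ (motive := fun w => ρ k w ∈ ⨆ t, (ρ g).eigenspace (ev t)) hw
      (fun t w hw => ?_) (by rw [map_zero]; exact Submodule.zero_mem _)
      (fun a b ha hb => by rw [map_add]; exact Submodule.add_mem _ ha hb)
    refine Submodule.mem_iSup_of_mem ⟨t * ψ k⁻¹, mul_mem t.2 ⟨_, rfl⟩⟩ ?_
    have h1 := hmap k _ w hw
    rw [hev]
    rwa [hev, mul_assoc, show ((t : Kˣ) : K) * (χ k)⁻¹ = (((t : Kˣ) * ψ k⁻¹ : Kˣ) : K) by
      rw [Units.val_mul, map_inv, Units.val_inv_eq_inv_val, hψ]] at h1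
  -- the first eigenspace is simple for the kernel
  have hE0s : IsSimpleRep (subRep (ρ.comp ψ.ker.subtype) E₀ hE0K) := by
    refine ⟨Submodule.nontrivial_iff_ne_bot.2 (hE₀ ▸ hc), fun U hU => or_iff_not_imp_left.2 fun hU0 => ?_⟩
    obtain ⟨U', hU'⟩ : ∃ U', U' = U.map E₀.subtype := ⟨_, rfl⟩
    have hU'le : U' ≤ E₀ := hU' ▸ Submodule.map_subtype_le _ _
    obtain ⟨s, hsec⟩ : ∃ s : ψ.range → E, ∀ t, ψ (s t) = (t : Kˣ) := ⟨fun t => t.2.choose, fun t => t.2.choose_spec⟩
    obtain ⟨F, hF⟩ : ∃ F : ψ.range → Submodule K W, ∀ t, F t = U'.map (ρ (s t)) := ⟨_, fun _ => rfl⟩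
    have hFinv : ∀ k, ∀ w ∈ ⨆ t, F t, ρ k w ∈ ⨆ t, F t := by
      intro k w hw
      refine Submodule.iSup_induction _ (motive := fun w => ρ k w ∈ ⨆ t, F t) hw (fun t w hw => ?_)
        (by rw [map_zero]; exact Submodule.zero_mem _)
        (fun a b ha hb => by rw [map_add]; exact Submodule.add_mem _ ha hb)
      rw [hF] at hw
      obtain ⟨u, hu, rfl⟩ := hw
      obtain ⟨t', ht'⟩ : ∃ t' : ψ.range, (t' : Kˣ) = ψ (k * s t) := ⟨⟨_, ⟨_, rfl⟩⟩, rfl⟩
      refine Submodule.mem_iSup_of_mem t' ?_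
      rw [hF]
      have hk : (s t')⁻¹ * (k * s t) ∈ ψ.ker := by
        rw [MonoidHom.mem_ker, map_mul, map_inv, hsec, ht', inv_mul_cancel]
      rw [hU'] at hu
      obtain ⟨u0, hu0, rfl⟩ := hu
      refine ⟨ρ ((s t')⁻¹ * (k * s t)) (u0 : W), ?_, ?_⟩
      · rw [hU']
        exact ⟨_, hU ⟨_, hk⟩ u0 hu0, rfl⟩
      · rw [← Module.End.mul_apply, ← map_mul, mul_inv_cancel_left, map_mul]; rfl
    have hne : ⨆ t, F t ≠ ⊥ := fun h => hU0 (by
      have h1 : F ⟨1, one_mem _⟩ = ⊥ := le_bot_iff.1 (h ▸ le_iSup F _)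
      rw [hF, hU'] at h1
      have h2 := Submodule.map_injective_of_injective (rep_injective ρ _)
        (h1.trans (Submodule.map_bot _).symm)
      exact Submodule.map_injective_of_injective E₀.injective_subtype
        (h2.trans (Submodule.map_bot _).symm))
    have htop' := (hs.2 _ hFinv).resolve_left hne
    have hFle : ∀ t, F t ≤ (ρ g).eigenspace (c * (χ (s t))⁻¹) := fun t => by
      rw [hF]
      rintro _ ⟨u, hu, rfl⟩
      exact hmap (s t) c u (hE₀ ▸ hU'le hu)
    refine Submodule.map_injective_of_injective E₀.injective_subtype ?_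
    rw [← hU', Submodule.map_subtype_top]
    refine le_antisymm hU'le fun e he => ?_
    -- the component of `e` in the translates
    classical
    have he' : e ∈ ⨆ t, F t := htop' ▸ Submodule.mem_top
    rw [iSup_split_single _ (⟨1, one_mem _⟩ : ψ.range), Submodule.mem_sup] at he'
    obtain ⟨a, ha, b, hb, hab⟩ := he'
    have hs1 : s ⟨1, one_mem _⟩ ∈ ψ.ker := hsec _
    have haU : a ∈ U' := by
      rw [hF] at ha
      obtain ⟨u, hu, rfl⟩ := ha
      rw [hU'] at hu ⊢
      obtain ⟨u0, hu0, rfl⟩ := hu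
      exact ⟨_, hU ⟨_, hs1⟩ u0 hu0, rfl⟩
    have hb' : b ∈ ⨆ (d : K) (_ : d ≠ c), (ρ g).eigenspace d := by
      refine (iSup₂_le fun t ht => ?_ : (⨆ (t : ψ.range) (_ : t ≠ ⟨1, one_mem _⟩), F t) ≤ _) hb
      refine (hFle t).trans (le_iSup₂_of_le (c * (χ (s t))⁻¹) (fun h => ?_) le_rfl)
      refine ht (Subtype.ext (Units.ext ?_))
      rw [← hsec t, hψ]
      have h2 : (χ (s t))⁻¹ = 1 := mul_left_cancel₀ hc0 (h.trans (mul_one c).symm)
      exact inv_eq_one.1 h2
    have hbE : b ∈ (ρ g).eigenspace c := by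
      rw [← hE₀, show b = e - a by rw [← hab, add_sub_cancel_left]]
      exact Submodule.sub_mem _ he (hU'le haU)
    have hb0 : b = 0 := by
      have h1 := ((ρ g).eigenspaces_iSupIndep c).le_bot ⟨hbE, hb'⟩
      simpa using h1
    rwa [← hab, hb0, add_zero]
  obtain ⟨b, hb⟩ := ih _ (hN ▸ lt_of_le_of_ne (Subgroup.card_le_card_group _)
    fun h => hkne ((Subgroup.card_eq_iff_eq_top _).1 h)) _ rfl (hE.to_subgroup _) hE0s
  haveI : Finite ψ.range := Finite.of_surjective _ ψ.rangeRestrict_surjective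
  haveI : Fintype ψ.range := Fintype.ofFinite _
  have hdim : ∀ t, Module.finrank K ((ρ g).eigenspace (ev t)) = Module.finrank K E₀ := by
    rintro ⟨t, k, rfl⟩
    rw [hev, hE₀]
    refine le_antisymm ?_ ?_
    · rw [← LinearEquiv.finrank_eq (Submodule.equivMapOfInjective _ (rep_injective ρ k) _).symm]
      refine Submodule.finrank_mono ?_
      rintro _ ⟨w, hw, rfl⟩
      have h1 := hmap k _ w hw
      rwa [show c * ((ψ k : Kˣ) : K) * (χ k)⁻¹ = c by rw [hψ, mul_inv_cancel_right₀ (hχ0 k)]] at h1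
    · rw [← LinearEquiv.finrank_eq (Submodule.equivMapOfInjective _ (rep_injective ρ k⁻¹) _).symm]
      refine Submodule.finrank_mono ?_
      rintro _ ⟨w, hw, rfl⟩
      have h1 := hmap k⁻¹ _ w hw
      rwa [show (χ k⁻¹)⁻¹ = ((ψ k : Kˣ) : K) by
        rw [← hψ, map_inv, Units.val_inv_eq_inv_val, inv_inv]] at h1
  have hsum : Module.finrank K W = Nat.card ψ.range * Module.finrank K E₀ := by
    classical
    have h1 := (DirectSum.isInternal_submodule_iff_iSupIndep_and_iSup_eq_top _).2 ⟨hindep, hS ▸ hS_top⟩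
    rw [(LinearEquiv.ofBijective (DirectSum.coeLinearMap fun t => (ρ g).eigenspace (ev t)) h1).symm.finrank_eq,
      Module.finrank_directSum, Finset.sum_congr rfl (fun t _ => hdim t), Finset.sum_const,
      Finset.card_univ, smul_eq_mul, Nat.card_eq_fintype_card]
  obtain ⟨a, ha⟩ := (hE.of_surjective ψ.rangeRestrict ψ.rangeRestrict_surjective).exists_card_eq
  exact ⟨a + b, by rw [hsum, hb, ha, pow_add]⟩

variable {p : ℕ} [Fact p.Prime] [CharP K p]

/-- The bound in the critical case. -/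
theorem core {G : Type*} [Group G] [Finite G] {q : ℕ} [Fact q.Prime] (hqp : q ≠ p) (Q : Subgroup G)
    (hQ : IsPGroup q Q) {x : G} (hxQ : x ∈ Subgroup.normalizer (Q : Set G)) (ρ : G →* Module.End K V)
    (hs : IsSimpleRep (ρ.comp Q.subtype)) (n : ℕ) (hx : ρ x ^ p ^ n = 1)
    (hfree : ∀ g ∈ Q, ∀ i, 0 < i → i < p ^ n → x ^ i * g * (x ^ i)⁻¹ = g → ∃ c : K, ρ g = c • 1)
    (hxn : ∀ g ∈ Q, x ^ p ^ n * g * (x ^ p ^ n)⁻¹ = g)
    (s : ℕ) (hsN : (ρ x - 1) ^ s = 0) (hmin : ∀ k < s, (ρ x - 1) ^ k ≠ 0) :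
    s ≤ p ^ n ∧ (p ^ n ≤ s ∨ ρ x = 1 ∨
      (p ^ n = s + 1 ∧ Module.finrank K V = s ∧ 2 ≤ s ∧
        (∃ b, p ^ n - 1 = q ^ b) ∧ ¬ IsMulCommutative Q)) := by
  classical
  obtain ⟨P, hP⟩ : ∃ P, P = p ^ n := ⟨_, rfl⟩
  have hP0 : 0 < P := hP ▸ pow_pos (Fact.out : p.Prime).pos n
  rw [← hP] at hx hfree hxn ⊢
  obtain ⟨T, hT⟩ : ∃ T, T = ρ x := ⟨_, rfl⟩
  rw [← hT] at hx hsN hmin ⊢
  haveI := Fintype.ofFinite Q
  haveI := hs.1
  have hQK : (Nat.card Q : K) ≠ 0 := by
    obtain ⟨m, hm⟩ := hQ.exists_card_eq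
    rw [hm, Nat.cast_pow]
    refine pow_ne_zero _ ?_
    rw [Ne, CharP.cast_eq_zero_iff K p]
    exact fun h => hqp ((Nat.prime_dvd_prime_iff_eq Fact.out Fact.out).1 h).symm
  have hD := finrank_ne_zero hs hQK
  obtain ⟨δ, hδ⟩ : ∃ δ : Q → Q, ∀ g, (δ g : G) = x * g * x⁻¹ :=
    ⟨fun g => ⟨x * g * x⁻¹, (Subgroup.mem_normalizer_iff.1 hxQ g).1 g.2⟩, fun _ => rfl⟩
  have hδi : ∀ (i : ℕ) (g : Q), ((δ^[i] g : Q) : G) = x ^ i * g * (x ^ i)⁻¹ := by
    intro i
    induction i with
    | zero => simp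
    | succ i ih =>
      intro g
      rw [Function.iterate_succ_apply', hδ, ih, pow_succ']
      group
  have hδinj : Function.Injective δ := fun a b h => by
    simpa [hδ] using congrArg (fun y : Q => (y : G)) h
  have hδP : ∀ g, δ^[P] g = g := fun g => Subtype.ext (by rw [hδi]; exact hxn g g.2)
  -- orbit sums
  have hTinv : ∀ j, j ≤ P → T ^ j * T ^ (P - j) = 1 := fun j hj => by
    rw [← pow_add, Nat.add_sub_cancel' hj, hx]
  have hcom : ∀ A : Module.End K V, A * T = T * A → ∃ (c : K) (Y : Module.End K V),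
      A = c • (1 : Module.End K V) + (∑ i ∈ Finset.range P, T ^ i * Y * T ^ (P - 1 - i)) * T := by
    intro A hA
    obtain ⟨f, hf⟩ : ∃ f : Q → Module.End K V,
        ∀ g, f g = LinearMap.trace K V (A * ρ (g : G)⁻¹) • ρ (g : G) := ⟨_, fun _ => rfl⟩
    obtain ⟨good, hgood⟩ : ∃ good : Submodule K (Module.End K V), good =
        Submodule.span K ({1} ∪ Set.range fun Y =>
          (∑ i ∈ Finset.range P, T ^ i * Y * T ^ (P - 1 - i)) * T) := ⟨_, rfl⟩
    have hfδ : ∀ (i : ℕ) (g : Q), i ≤ P → f (δ^[i] g) = T ^ i * f g * T ^ (P - i) := by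
      intro i g hi
      have e1 : ρ (x ^ i * (g : G) * (x ^ i)⁻¹) = T ^ i * ρ (g : G) * T ^ (P - i) := by
        rw [map_mul, map_mul, map_pow, ← hT]
        congr 1
        calc ρ ((x ^ i)⁻¹) = ρ ((x ^ i)⁻¹) * (T ^ i * T ^ (P - i)) := by rw [hTinv i hi, mul_one]
          _ = _ := by rw [hT, ← map_pow ρ x i, ← mul_assoc, ← map_mul, inv_mul_cancel, map_one, one_mul]
      have e2 : ρ ((x ^ i * (g : G) * (x ^ i)⁻¹)⁻¹) = T ^ i * ρ (g : G)⁻¹ * T ^ (P - i) := by
        rw [show (x ^ i * (g : G) * (x ^ i)⁻¹)⁻¹ = x ^ i * (g : G)⁻¹ * (x ^ i)⁻¹ by group, map_mul,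
          map_mul, map_pow, ← hT]
        congr 1
        calc ρ ((x ^ i)⁻¹) = ρ ((x ^ i)⁻¹) * (T ^ i * T ^ (P - i)) := by rw [hTinv i hi, mul_one]
          _ = _ := by rw [hT, ← map_pow ρ x i, ← mul_assoc, ← map_mul, inv_mul_cancel, map_one, one_mul]
      have hAT : A * T ^ i = T ^ i * A := ((show Commute A T from hA).pow_right i).eq
      rw [hf, hf, hδi, e1, e2, ← mul_assoc, ← mul_assoc, hAT, mul_assoc (T ^ i) A,
        LinearMap.trace_mul_comm, ← mul_assoc, ← pow_add, Nat.sub_add_cancel hi, hx, one_mul,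
        mul_smul_comm, smul_mul_assoc]
    have hfix : ∀ g : Q, (∃ i, 0 < i ∧ i < P ∧ δ^[i] g = g) → f g ∈ good := by
      rintro g ⟨i, hi0, hiP, hi⟩
      obtain ⟨c, hc⟩ := hfree g g.2 i hi0 hiP (by rw [← hδi]; exact congrArg Subtype.val hi)
      rw [hf, hc, smul_smul, hgood]
      exact Submodule.smul_mem _ _ (Submodule.subset_span (Or.inl rfl))
    have hsets : ∀ (m : ℕ) (S : Finset Q), S.card = m → (∀ g ∈ S, δ g ∈ S) → ∑ g ∈ S, f g ∈ good := by
      intro m
      induction m using Nat.strong_induction_on with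
      | _ m ihm =>
      intro S hm hS
      by_cases hall : ∀ g ∈ S, ∃ i, 0 < i ∧ i < P ∧ δ^[i] g = g
      · exact Submodule.sum_mem _ fun g hg => hfix g (hall g hg)
      push Not at hall
      obtain ⟨g, hg, hgfree⟩ := hall
      have hSi : ∀ i, δ^[i] g ∈ S := fun i => by
        induction i with
        | zero => exact hg
        | succ i ihi => rw [Function.iterate_succ_apply']; exact hS _ ihi
      obtain ⟨O, hO⟩ : ∃ O : Finset Q, O = (Finset.range P).image fun i => δ^[i] g := ⟨_, rfl⟩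
      have hinjO : Set.InjOn (fun i => δ^[i] g) (Finset.range P : Set ℕ) := by
        intro a ha b hb hab
        simp only [Finset.coe_range, Set.mem_Iio] at ha hb
        rcases lt_trichotomy a b with h | h | h
        · exfalso
          refine hgfree (b - a) (by omega) (by omega) ((hδinj.iterate a) ?_)
          rw [← Function.iterate_add_apply, Nat.add_sub_cancel' h.le]
          exact hab.symm
        · exact h
        · exfalso
          refine hgfree (a - b) (by omega) (by omega) ((hδinj.iterate b) ?_)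
          rw [← Function.iterate_add_apply, Nat.add_sub_cancel' h.le]
          exact hab
      have hOS : O ⊆ S := by
        rw [hO]; intro y hy
        obtain ⟨i, -, rfl⟩ := Finset.mem_image.1 hy
        exact hSi i
      have hOδ : ∀ y ∈ S \ O, δ y ∈ S \ O := by
        intro y hy
        rw [Finset.mem_sdiff] at hy ⊢
        refine ⟨hS y hy.1, fun h => hy.2 ?_⟩
        rw [hO, Finset.mem_image] at h ⊢
        obtain ⟨i, hi, he⟩ := h
        rw [Finset.mem_range] at hi
        rcases Nat.eq_zero_or_pos i with rfl | hi0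
        · refine ⟨P - 1, Finset.mem_range.2 (by omega), hδinj ?_⟩
          rw [← he, ← Function.iterate_succ_apply' δ (P - 1) g, Nat.succ_eq_add_one,
            Nat.sub_add_cancel hP0, hδP]
          rfl
        · refine ⟨i - 1, Finset.mem_range.2 (by omega), hδinj ?_⟩
          rw [← he, ← Function.iterate_succ_apply' δ (i - 1) g, Nat.succ_eq_add_one,
            Nat.sub_add_cancel hi0]
      have hgO : g ∈ O := hO ▸ Finset.mem_image.2 ⟨0, Finset.mem_range.2 hP0, rfl⟩
      rw [← Finset.sum_sdiff hOS]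
      refine Submodule.add_mem _ (ihm _ (hm ▸ Finset.card_lt_card (Finset.ssubset_iff_subset_ne.2
        ⟨Finset.sdiff_subset, fun h => (Finset.mem_sdiff.1 (h.ge hg)).2 hgO⟩)) _ rfl hOδ) ?_
      rw [hO, Finset.sum_image hinjO, hgood]
      refine Submodule.subset_span (Or.inr ⟨f g, ?_⟩)
      show (∑ i ∈ Finset.range P, T ^ i * f g * T ^ (P - 1 - i)) * T = _
      rw [Finset.sum_mul]
      refine Finset.sum_congr rfl fun i hi => ?_
      rw [Finset.mem_range] at hi
      rw [hfδ i g hi.le, mul_assoc, ← pow_succ, show P - 1 - i + 1 = P - i by omega]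
    have h1 := trace_expand hs A
    have hsum : (∑ g : Q, f g) = ∑ g : Q,
        LinearMap.trace K V (A * (ρ.comp Q.subtype) g⁻¹) • (ρ.comp Q.subtype) g :=
      Finset.sum_congr rfl fun g _ => by rw [hf]; rfl
    rw [← hsum] at h1
    have hA' : A ∈ good := by
      rw [← inv_smul_smul₀ hQK A, ← h1]
      exact Submodule.smul_mem _ _ (Submodule.smul_mem _ _
        (hsets _ Finset.univ rfl fun g _ => Finset.mem_univ _))
    rw [hgood, Submodule.span_union, Submodule.mem_sup] at hA'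
    obtain ⟨a, ha, b, hb, rfl⟩ := hA'
    obtain ⟨c, rfl⟩ := Submodule.mem_span_singleton.1 ha
    obtain ⟨L, hL⟩ : ∃ L : Module.End K V →ₗ[K] Module.End K V, ∀ Y,
        L Y = (∑ i ∈ Finset.range P, T ^ i * Y * T ^ (P - 1 - i)) * T :=
      ⟨{ toFun := fun Y => (∑ i ∈ Finset.range P, T ^ i * Y * T ^ (P - 1 - i)) * T
         map_add' := fun a b => by simp only [mul_add, add_mul, Finset.sum_add_distrib]
         map_smul' := fun r a => by
          simp only [mul_smul_comm, smul_mul_assoc, ← Finset.smul_sum, RingHom.id_apply] }, fun _ => rfl⟩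
    rw [show (fun Y => (∑ i ∈ Finset.range P, T ^ i * Y * T ^ (P - 1 - i)) * T) = ⇑L from
      funext fun Y => (hL Y).symm, ← LinearMap.coe_range, Submodule.span_eq] at hb
    obtain ⟨Y, rfl⟩ := hb
    exact ⟨c, Y, by rw [hL]⟩
  obtain ⟨hle, hdich, hdim⟩ := JBound.bound n P hP T hx s hsN hmin hcom
  refine ⟨hle, ?_⟩
  rcases hdich with h | h
  · right; left
    have : (T - 1) ^ 1 = 0 := by rw [← Nat.sub_add_cancel h, pow_add, hsN, mul_zero]
    rwa [pow_one, sub_eq_zero] at this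
  rcases hle.eq_or_lt with h' | h'
  · left; omega
  rcases Nat.lt_or_ge s 2 with h2 | h2
  · right; left
    have : (T - 1) ^ 1 = 0 := by rw [← Nat.sub_add_cancel (show s ≤ 1 by omega), pow_add, hsN, mul_zero]
    rwa [pow_one, sub_eq_zero] at this
  right; right
  have hds := hdim h2 (by omega)
  refine ⟨by omega, hds, h2, ?_, fun hab => ?_⟩
  · obtain ⟨b, hb⟩ := finrank_eq_pow (K := K) (Nat.card Q) (ρ.comp Q.subtype) rfl hQ hs
    exact ⟨b, by omega⟩
  · obtain ⟨v, hv⟩ := exists_ne (0 : V)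
    rcases hs.2 (K ∙ v) (fun g u hu => by
      obtain ⟨c, hc⟩ := schur hs ((ρ.comp Q.subtype) g) fun k => by
        rw [← map_mul, ← map_mul, hab.is_comm.comm]
      rw [hc, LinearMap.smul_apply, Module.End.one_apply]
      exact Submodule.smul_mem _ _ hu) with h3 | h3
    · exact hv (Submodule.span_singleton_eq_bot.1 h3)
    · rw [← finrank_top K V, ← h3, finrank_span_singleton hv] at hds
      omega

end Cfsg.Agent.Solv.ThmB
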