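import Cfsg.Agent.Lib.Solv.FrattiniModule
import Cfsg.Agent.Lib.Solv.CommutingFix
import Cfsg.Agent.Lib.Fusion.Cores

/-!
The bound on the `p`-length by the exponent of a Sylow `p`-subgroup.
-/

set_option autoImplicit false
set_option linter.style.haveILetI false

namespace Cfsg.Agent.Solv.PLE

open Cfsg.Agent.Solv
open scoped commutatorElement Pointwise

universe u

variable {p : ℕ} [Fact p.Prime]

/-- All `p`-elements have order dividing `p ^ e`. -/
def ExpLE (p e : ℕ) (G : Type u) [Group G] : Prop :=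
  ∀ g : G, (∃ k, g ^ p ^ k = 1) → g ^ p ^ e = 1

/-- A `p`-element of a quotient is the image of a `p`-element. -/
theorem exists_lift {G : Type u} [Group G] [Finite G] (N : Subgroup G) [N.Normal] (z : G ⧸ N)
    (hz : ∃ k, z ^ p ^ k = 1) : ∃ g : G, QuotientGroup.mk' N g = z ∧ ∃ k, g ^ p ^ k = 1 := by
  obtain ⟨k, hk⟩ := hz
  obtain ⟨i, -, hi⟩ := (Nat.dvd_prime_pow (Fact.out : p.Prime)).1 (orderOf_dvd_of_pow_eq_one hk)
  obtain ⟨P⟩ : Nonempty (Sylow p G) := inferInstance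
  have hzp : IsPGroup p (Subgroup.zpowers z) := IsPGroup.of_card (n := i) (by rw [Nat.card_zpowers, hi])
  obtain ⟨R, hR⟩ := hzp.exists_le_sylow
  obtain ⟨c, hc⟩ := MulAction.exists_smul_eq (G ⧸ N)
    (P.mapSurjective (QuotientGroup.mk'_surjective N)) R
  obtain ⟨c, rfl⟩ := QuotientGroup.mk'_surjective N c
  have h1 := hR (Subgroup.mem_zpowers z)
  rw [← hc, Sylow.coe_subgroup_smul, Subgroup.mem_pointwise_smul_iff_inv_smul_mem,
    Sylow.coe_mapSurjective] at h1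
  obtain ⟨w, hw, hwz⟩ := h1
  refine ⟨c * w * c⁻¹, ?_, ?_⟩
  · rw [map_mul, map_mul, map_inv, hwz]
    rw [← map_inv MulAut.conj, MulAut.smul_def, MulAut.conj_apply]
    group
  · obtain ⟨j, hj⟩ := P.isPGroup' ⟨w, hw⟩
    refine ⟨j, ?_⟩
    rw [conj_pow, show w ^ p ^ j = 1 from congrArg Subtype.val hj, mul_one, mul_inv_cancel]

theorem ExpLE.quotient {G : Type u} [Group G] [Finite G] {e : ℕ} (h : ExpLE p e G) (N : Subgroup G)
    [N.Normal] : ExpLE p e (G ⧸ N) := by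
  intro z hz
  obtain ⟨g, rfl, hg⟩ := exists_lift N z hz
  rw [← map_pow, h g hg, map_one]

theorem ExpLE.coprime_zero {G : Type u} [Group G] [Finite G] (h : ExpLE p 0 G) :
    (Nat.card G).Coprime p := by
  rw [Nat.coprime_comm, (Fact.out : p.Prime).coprime_iff_not_dvd]
  intro hd
  obtain ⟨g, hg⟩ := exists_prime_orderOf_dvd_card' p hd
  have h1 := h g ⟨1, by rw [pow_one, ← hg, pow_orderOf_eq_one]⟩
  rw [pow_zero, pow_one] at h1
  rw [h1, orderOf_one] at hg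
  exact (Fact.out : p.Prime).ne_one hg.symm

theorem sylow_comm_quotient {G : Type u} [Group G] [Finite G] {q : ℕ} [Fact q.Prime] (N : Subgroup G)
    [N.Normal] (h : ∀ S : Sylow q G, IsMulCommutative S) (S : Sylow q (G ⧸ N)) : IsMulCommutative S := by
  obtain ⟨S₀, hS₀⟩ := Sylow.mapSurjective_surjective (QuotientGroup.mk'_surjective N) q S
  have hco : ∀ a b : S, (a : G ⧸ N) * b = (b : G ⧸ N) * a := by
    subst hS₀
    rintro ⟨_, a, ha, rfl⟩ ⟨_, b, hb, rfl⟩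
    show QuotientGroup.mk' N a * QuotientGroup.mk' N b = QuotientGroup.mk' N b * QuotientGroup.mk' N a
    rw [← map_mul, ← map_mul]
    exact congrArg _ (congrArg Subtype.val ((h S₀).is_comm.comm ⟨a, ha⟩ ⟨b, hb⟩))
  exact ⟨⟨fun a b => Subtype.ext (hco a b)⟩⟩

/-- The faithful module of the quotient by the `p`-core. -/
theorem exists_faithful_module {G : Type u} [Group G] [Finite G] (hG : Cfsg.IsPSolvable p G)
    (hbot : Cfsg.pPrimeCore p G = ⊥) {e : ℕ} (he : ExpLE p e G) [(Cfsg.pCore p G).Normal] :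
    ∃ (k : ℕ) (σ : G ⧸ Cfsg.pCore p G →* Module.End (ZMod p) (Fin k → ZMod p)), Function.Injective σ ∧
      (∀ z, (∃ j, z ^ p ^ j = 1) → (σ z - 1) ^ (p ^ e - 1) = 0) ∧
      ∀ (N : ℕ) (x : G), (∀ a ∈ Cfsg.pCore p G, Commute ((a * x) ^ N) (x ^ N)) →
        (σ (QuotientGroup.mk' _ x) ^ N - 1) *
          (∑ i ∈ Finset.range N, σ (QuotientGroup.mk' _ x) ^ i) = 0 := by
  classical
  obtain ⟨Φ, hΦn, V, hVn, -, hV, hVmem, hCV, -⟩ := ThmB.exists_frattini_section hG hbot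
  obtain ⟨k, ε, ρ, hεinj, hmem, hadd, hact⟩ := ThmB.exists_module V hV
  obtain ⟨π, hπ⟩ : ∃ π, π = QuotientGroup.mk' Φ := ⟨_, rfl⟩
  rw [← hπ] at hVmem
  have hπs : Function.Surjective π := hπ ▸ QuotientGroup.mk'_surjective Φ
  have hab : ∀ v ∈ V, ∀ w ∈ V, v * w = w * v := fun v hv w hw =>
    congrArg Subtype.val (hV.1.is_comm.comm ⟨v, hv⟩ ⟨w, hw⟩)
  have hker : ∀ g, ρ (π g) = 1 ↔ g ∈ Cfsg.pCore p G := fun g => by
    rw [← hVmem]
    refine ⟨fun h => hCV (Subgroup.mem_centralizer_iff.2 fun v hv => ?_), fun h =>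
      LinearMap.ext fun a => hεinj ?_⟩
    · obtain ⟨a, rfl⟩ := (hmem v).1 hv
      have h1 := hact (π g) a
      rw [h, Module.End.one_apply, eq_mul_inv_iff_mul_eq] at h1
      exact h1
    · rw [hact, Module.End.one_apply, hab _ h (ε a) ((hmem _).2 ⟨a, rfl⟩), mul_inv_cancel_right]
  obtain ⟨σ, hσ⟩ : ∃ σ : G ⧸ Cfsg.pCore p G →* Module.End (ZMod p) (Fin k → ZMod p),
      ∀ g, σ (QuotientGroup.mk' _ g) = ρ (π g) :=
    ⟨QuotientGroup.lift (Cfsg.pCore p G) (ρ.comp π) fun g hg => MonoidHom.mem_ker.2 ((hker g).2 hg),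
      fun _ => rfl⟩
  have hσinj : Function.Injective σ := by
    rw [injective_iff_map_eq_one]
    intro z hz1
    obtain ⟨z, rfl⟩ := QuotientGroup.mk'_surjective _ z
    rw [hσ, hker] at hz1
    exact (QuotientGroup.eq_one_iff z).2 hz1
  refine ⟨k, σ, hσinj, fun z hz => ?_, fun N x hN => ?_⟩
  · obtain ⟨g, rfl, hg⟩ := exists_lift _ z hz
    rw [hσ, ← ThmB.sum_pow_eq (p := p)]
    refine LinearMap.ext fun a => hεinj ?_
    have h1 := ThmB.mul_pow_module ε ρ hadd hact (π g) a (p ^ e)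
    obtain ⟨v, hv⟩ := hπs (ε a)
    have hvO : v ∈ Cfsg.pCore p G := (hVmem v).1 (hv ▸ (hmem _).2 ⟨a, rfl⟩)
    have hp' : ∃ j, (v * g) ^ p ^ j = 1 := by
      obtain ⟨j, hj⟩ := hg
      obtain ⟨i, -, hi⟩ := (Nat.dvd_prime_pow (Fact.out : p.Prime)).1 (orderOf_dvd_of_pow_eq_one hj)
      have hP : IsPGroup p ↥(Cfsg.pCore p G ⊔ Subgroup.zpowers g) :=
        (pCore_isPGroup p).to_sup_of_normal_left (IsPGroup.of_card (n := i) (by rw [Nat.card_zpowers, hi]))
      obtain ⟨l, hl⟩ := hP ⟨v * g, mul_mem (Subgroup.mem_sup_left hvO)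
        (Subgroup.mem_sup_right (Subgroup.mem_zpowers g))⟩
      exact ⟨l, congrArg Subtype.val hl⟩
    rw [← map_pow π, he g hg, map_one, mul_one, ← hv, ← map_mul, ← map_pow, he _ hp', map_one] at h1
    rw [LinearMap.zero_apply, ← h1]
    exact (mul_eq_left.1 (by rw [← hadd, add_zero] : ε 0 * ε 0 = ε 0)).symm
  · rw [hσ, ← map_pow ρ]
    refine LinearMap.ext fun a => ?_
    obtain ⟨w, hw⟩ : ∃ w, w = (∑ i ∈ Finset.range N, ρ (π x) ^ i) a := ⟨_, rfl⟩
    rw [Module.End.mul_apply, LinearMap.sub_apply, Module.End.one_apply, LinearMap.zero_apply, ← hw,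
      sub_eq_zero]
    refine hεinj ?_
    obtain ⟨v, hv⟩ := hπs (ε a)
    have hvO : v ∈ Cfsg.pCore p G := (hVmem v).1 (hv ▸ (hmem _).2 ⟨a, rfl⟩)
    have h1 := ThmB.mul_pow_module ε ρ hadd hact (π x) a N
    rw [← hw, ← hv, ← map_mul, ← map_pow, ← map_pow] at h1
    have h2 := ((hN v hvO).map π).eq
    rw [h1] at h2
    rw [hact, ← map_pow]
    calc π (x ^ N) * ε w * (π (x ^ N))⁻¹
        = π (x ^ N) * (ε w * π (x ^ N)) * (π (x ^ N))⁻¹ * (π (x ^ N))⁻¹ := by group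
      _ = ε w * π (x ^ N) * π (x ^ N) * (π (x ^ N))⁻¹ * (π (x ^ N))⁻¹ := by rw [← h2]
      _ = ε w := by group

/-- Theorem B for a faithful module. -/
theorem bound_of_faithful {K : Type u} [Group K] [Finite K] (hK : Cfsg.IsPSolvable p K)
    (hcore : Cfsg.pCore p K = ⊥) {k : ℕ} (σ : K →* Module.End (ZMod p) (Fin k → ZMod p))
    (hσ : Function.Injective σ) (x : K) (n : ℕ) (hn : 1 ≤ n) (hxn : x ^ p ^ n = 1)
    (hx1 : x ^ p ^ (n - 1) ≠ 1) (s : ℕ) (hs : (σ x - 1) ^ s = 0) :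
    p ^ n ≤ s ∨ ∃ n₀ q b : ℕ, 1 ≤ n₀ ∧ n₀ ≤ n ∧ q.Prime ∧ 1 ≤ b ∧ p ^ n₀ - 1 = q ^ b ∧
      (∀ S : Sylow q K, ¬ IsMulCommutative S) ∧ p ^ (n - n₀) * (p ^ n₀ - 1) ≤ s := by
  classical
  have hR : (Nat.card (Cfsg.pPrimeCore p K)).Coprime p := pPrimeCore_coprime p
  have hmove : ∃ r ∈ Cfsg.pPrimeCore p K, ¬ Commute (x ^ p ^ (n - 1)) r := by
    by_contra hcon
    push Not at hcon
    have hyR := centralizer_pPrimeCore_le hK hcore
      (Subgroup.mem_centralizer_iff.2 fun z hz => (hcon z hz).eq.symm)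
    have hyp : (x ^ p ^ (n - 1)) ^ p = 1 := by
      rw [← pow_mul, ← pow_succ, Nat.sub_add_cancel hn, hxn]
    exact hx1 (orderOf_eq_one_iff.1 (Nat.eq_one_of_dvd_coprimes hR
      (Subgroup.orderOf_dvd_natCard _ hyR) (orderOf_dvd_of_pow_eq_one hyp)))
  haveI : (Cfsg.pPrimeCore p K).Normal := pPrimeCore_normal p
  obtain ⟨q, hq, Q, hqp, -, hQ1, hQq, hxQ, hcl, hC, hQY⟩ := ThmB.exists_min_moved
    (Cfsg.pPrimeCore p K) x (by rw [Subgroup.normalizer_eq_top]; exact Subgroup.mem_top _) hR n hxn hmove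
  obtain ⟨z, hz', hz1⟩ := (Subgroup.bot_or_exists_ne_one Q).resolve_left hQ1
  rcases ThmB.rep_bound hqp Q hQq x hxQ hcl n hxn hC hQY σ
      ⟨z, hz', fun h => hz1 (hσ (h.trans (map_one σ).symm))⟩ s hs with
    h | ⟨n₀, b, h1, h2, h3, h4, h5, h6⟩
  · exact Or.inl h
  refine Or.inr ⟨n₀, q, b, h1, h2, hq.out, h3, h4, fun S hS => h5 ⟨⟨fun u v => ?_⟩⟩, h6⟩
  obtain ⟨P, hQP⟩ := hQq.exists_le_sylow
  obtain ⟨h', rfl⟩ := MulAction.exists_smul_eq K S P
  have e' : ∀ w ∈ Q, h'⁻¹ * w * h' ∈ (S : Subgroup K) := fun w hw => by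
    have h7 := hQP hw
    rw [Sylow.coe_subgroup_smul, Subgroup.mem_pointwise_smul_iff_inv_smul_mem] at h7
    simpa [MulAut.smul_def] using h7
  have h8 : (h'⁻¹ * (u : K) * h') * (h'⁻¹ * v * h') = (h'⁻¹ * v * h') * (h'⁻¹ * u * h') :=
    congrArg Subtype.val (hS.is_comm.comm ⟨_, e' u u.2⟩ ⟨_, e' v v.2⟩)
  refine Subtype.ext (mul_left_cancel (a := h'⁻¹) (mul_right_cancel (b := h') ?_))
  show h'⁻¹ * ((u : K) * v) * h' = h'⁻¹ * ((v : K) * u) * h'
  simpa [mul_assoc] using h8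

/-- An element without a regular block centralizes invariant abelian `q`-groups through its power. -/
theorem fixes_abelian {K : Type u} [Group K] [Finite K] {k : ℕ}
    (σ : K →* Module.End (ZMod p) (Fin k → ZMod p)) (hσ : Function.Injective σ) {q : ℕ} [Fact q.Prime]
    (hqp : q ≠ p) (A : Subgroup K) (hA : IsPGroup q A) (hAc : IsMulCommutative A) (g : K) (e : ℕ)
    (he : 1 ≤ e) (hg : g ∈ Subgroup.normalizer (A : Set K)) (hge : g ^ p ^ e = 1)
    (hz : (σ g - 1) ^ (p ^ e - 1) = 0) : ∀ a ∈ A, Commute (g ^ p ^ (e - 1)) a := by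
  classical
  have hp : p.Prime := Fact.out
  obtain ⟨y, hy⟩ : ∃ y, y = g ^ p ^ (e - 1) := ⟨_, rfl⟩
  rw [← hy]
  by_contra hcon
  push Not at hcon
  obtain ⟨a, ha, hay⟩ := hcon
  obtain ⟨Y, hY⟩ : ∃ Y, Y = Subgroup.zpowers y := ⟨_, rfl⟩
  have hYA : Y ≤ Subgroup.normalizer (A : Set K) := hY ▸ (Subgroup.zpowers_le).2 (hy ▸ pow_mem hg _)
  obtain ⟨i, -, hi⟩ := (Nat.dvd_prime_pow hp).1 (orderOf_dvd_of_pow_eq_one
    (show y ^ p ^ e = 1 by rw [hy, ← pow_mul, mul_comm, pow_mul, hge, one_pow]))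
  obtain ⟨j, hj⟩ := hA.exists_card_eq
  have hco : (Nat.card Y).Coprime (Nat.card A) := by
    rw [hY, Nat.card_zpowers, hi, hj]
    exact ((Nat.coprime_primes hp (Fact.out : q.Prime)).2 hqp.symm).pow i j
  haveI : Group.IsNilpotent A := hA.isNilpotent
  have hsol : Group.IsSolvable Y ∨ Group.IsSolvable A := Or.inr inferInstance
  obtain ⟨hle, -, -⟩ := commutator_normal_in (K := A) (A := Y) hYA
  obtain ⟨B, hB⟩ : ∃ B, B = ⁅A, Y⁆ := ⟨_, rfl⟩
  have hBA : B ≤ A := hB ▸ hle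
  have hB1 : B ≠ ⊥ := fun h => hay (by
    rw [hB, Subgroup.commutator_eq_bot_iff_le_centralizer] at h
    exact Subgroup.mem_centralizer_iff.1 (h ha) y (hY ▸ Subgroup.mem_zpowers y))
  have hcom : ∀ u ∈ A, ∀ v ∈ A, Commute u v := fun u hu v hv =>
    congrArg Subtype.val (hAc.is_comm.comm ⟨u, hu⟩ ⟨v, hv⟩)
  have hgy : MulAut.conj g • Y = Y := by
    refine conj_smul_of_mem_normalizer (Subgroup.mem_normalizer_fintype fun w hw => ?_)
    rw [hY] at hw ⊢
    obtain ⟨l, rfl⟩ := hw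
    refine ⟨l, ?_⟩
    show y ^ l = g * y ^ l * g⁻¹
    rw [((hy ▸ Commute.self_pow g _ : Commute g y).zpow_right l).eq, mul_inv_cancel_right]
  have hgB : g ∈ Subgroup.normalizer (B : Set K) := by
    refine mem_normalizer_of_conj_smul ?_
    rw [hB, conj_smul_eq_map, Subgroup.map_commutator, ← conj_smul_eq_map, ← conj_smul_eq_map, hgy,
      conj_smul_of_mem_normalizer hg]
  obtain ⟨b, hb, hb1⟩ := (Subgroup.bot_or_exists_ne_one B).resolve_left hB1
  rcases ThmB.rep_bound hqp B (hA.to_le hBA) g hgB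
      (fun u hu v hv w hw => by
        rw [commutatorElement_eq_one_iff_commute.2 (hcom u (hBA hu) v (hBA hv))]
        exact Commute.one_left w)
      e hge (fun u hu _ v hv => hcom u (hBA hu) v (hBA hv))
      (by rw [← hy, ← hY, hB, commutator_commutator_eq hYA hco hsol]) σ
      ⟨b, hb, fun h => hb1 (hσ (h.trans (map_one σ).symm))⟩ (p ^ e - 1) hz with
    h | ⟨n₀, b', -, -, -, -, h5, -⟩
  · have := Nat.one_le_pow e p hp.pos
    omega
  · exact h5 ⟨⟨fun u v => Subtype.ext (hcom u (hBA u.2) v (hBA v.2)).eq⟩⟩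

/-- Powers of elements without regular blocks commute. -/
theorem powers_commute {K : Type u} [Group K] [Finite K] (hp2 : p ≠ 2) (hK : Cfsg.IsPSolvable p K)
    (hcore : Cfsg.pCore p K = ⊥) {k : ℕ} (σ : K →* Module.End (ZMod p) (Fin k → ZMod p))
    (hσ : Function.Injective σ) (e : ℕ) (he : 1 ≤ e) (P : Subgroup K) (hP : IsPGroup p P)
    (hexp : ∀ g ∈ P, g ^ p ^ e = 1) (hz : ∀ g ∈ P, (σ g - 1) ^ (p ^ e - 1) = 0) (g₁ g₂ : K)
    (h₁ : g₁ ∈ P) (h₂ : g₂ ∈ P) : Commute (g₁ ^ p ^ (e - 1)) (g₂ ^ p ^ (e - 1)) := by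
  classical
  have hp : p.Prime := Fact.out
  obtain ⟨R, hR⟩ : ∃ R, R = Cfsg.pPrimeCore p K := ⟨_, rfl⟩
  haveI : R.Normal := hR ▸ pPrimeCore_normal p
  have hRco : (Nat.card R).Coprime p := hR ▸ pPrimeCore_coprime p
  have hPR : P ≤ Subgroup.normalizer (R : Set K) := by rw [Subgroup.normalizer_eq_top]; exact le_top
  obtain ⟨i, hi⟩ := hP.exists_card_eq
  have hcoP : (Nat.card P).Coprime (Nat.card R) := hi ▸ (hRco.pow_right i).symm
  haveI : Group.IsNilpotent P := hP.isNilpotent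
  have hsol : Group.IsSolvable P ∨ Group.IsSolvable R := Or.inl inferInstance
  obtain ⟨c, hc⟩ : ∃ c, c = ⁅g₁ ^ p ^ (e - 1), g₂ ^ p ^ (e - 1)⁆ := ⟨_, rfl⟩
  have hcP : c ∈ P := hc ▸ (Subgroup.commutator_le.2 (fun a ha b hb => by
    rw [commutatorElement_def]; exact mul_mem (mul_mem (mul_mem ha hb) (inv_mem ha)) (inv_mem hb)) :
      ⁅P, P⁆ ≤ P) (Subgroup.commutator_mem_commutator (pow_mem h₁ _) (pow_mem h₂ _))
  have hcR : (Subgroup.centralizer ({c} : Set K)).subgroupOf R = ⊤ := by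
    refine eq_top_of_forall_sylow_le _ fun q hq => ?_
    obtain ⟨S, hS, hPS⟩ := exists_invariant_sylow hPR hcoP hsol q
    obtain ⟨S₀, hS₀⟩ := hS.exists_sylow
    refine ⟨S₀, fun s hs => ?_⟩
    rw [Subgroup.mem_subgroupOf]
    have hsS : (s : K) ∈ S := hS₀ ▸ Subgroup.mem_map_of_mem _ hs
    rcases eq_or_ne S ⊥ with hS1 | hS1
    · rw [hS1, Subgroup.mem_bot] at hsS
      rw [hsS]; exact one_mem _
    have hqp : q ≠ p := by
      rintro rfl
      obtain ⟨l, hl⟩ := hS.isPGroup.exists_card_eq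
      have h1 : (Nat.card S).Coprime q := hRco.coprime_dvd_left (Subgroup.card_dvd_of_le hS.1)
      rw [hl] at h1
      rcases Nat.eq_zero_or_pos l with rfl | hl0
      · rw [pow_zero, Subgroup.card_eq_one] at hl
        exact hS1 hl
      · rw [Nat.coprime_pow_left_iff hl0, Nat.coprime_self] at h1
        exact hp.ne_one h1
    obtain ⟨ψ, hψ⟩ : ∃ ψ : P →* MulAut S, ∀ (g : P) (u : S), ((ψ g u : S) : K) = g * u * (g : K)⁻¹ :=
      ⟨(Subgroup.normalizerMonoidHom S).comp (Subgroup.inclusion hPS), fun _ _ => rfl⟩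
    have hfix : ∀ g : P, CommFix.FixesAbelian (ψ g) (ψ (g ^ p ^ (e - 1))) := by
      intro g A hA hAg u hu
      refine Subtype.ext ?_
      have hgn : (g : K) ∈ Subgroup.normalizer ((A.map S.subtype : Subgroup K) : Set K) := by
        refine Subgroup.mem_normalizer_fintype fun w hw => ?_
        obtain ⟨w, hw', rfl⟩ := hw
        exact ⟨_, hAg w hw', hψ g w⟩
      have hAc : IsMulCommutative (A.map S.subtype) := by
        refine ⟨⟨?_⟩⟩
        rintro ⟨-, a, ha, rfl⟩ ⟨-, b, hb, rfl⟩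
        refine Subtype.ext ?_
        show S.subtype a * S.subtype b = S.subtype b * S.subtype a
        rw [← map_mul, ← map_mul]
        exact congrArg S.subtype (congrArg Subtype.val (hA.is_comm.comm ⟨a, ha⟩ ⟨b, hb⟩))
      have h3 := fixes_abelian σ hσ hqp (A.map S.subtype)
        (hS.isPGroup.to_le (Subgroup.map_subtype_le _)) hAc g e he hgn (hexp g g.2) (hz g g.2)
        u ⟨u, hu, rfl⟩
      rw [hψ, SubmonoidClass.coe_pow, h3.eq, mul_inv_cancel_right]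
    have hpow : ∀ g : P, (g ^ p ^ (e - 1)) ^ p = 1 := fun g => Subtype.ext (by
      rw [SubmonoidClass.coe_pow, SubmonoidClass.coe_pow, ← pow_mul, ← pow_succ,
        Nat.sub_add_cancel he, hexp g g.2, OneMemClass.coe_one])
    have hcm := CommFix.commute_of_fixes_abelian _ rfl hp2 hqp.symm hS.isPGroup ψ.range
      (hP.of_surjective ψ.rangeRestrict ψ.rangeRestrict_surjective)
      (ψ ⟨g₁, h₁⟩) (ψ (⟨g₁, h₁⟩ ^ p ^ (e - 1))) (ψ ⟨g₂, h₂⟩) (ψ (⟨g₂, h₂⟩ ^ p ^ (e - 1)))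
      ⟨_, rfl⟩ ⟨_, rfl⟩ (by rw [map_pow]; exact Subgroup.npow_mem_zpowers _ _)
      (by rw [map_pow ψ]; exact Subgroup.npow_mem_zpowers _ _)
      (by rw [← map_pow, hpow, map_one]) (by rw [← map_pow ψ, hpow, map_one]) (hfix _) (hfix _)
    have hψc : ψ ⟨c, hcP⟩ = 1 := by
      have e1 : (⟨c, hcP⟩ : P) =
          ⁅(⟨g₁, h₁⟩ : P) ^ p ^ (e - 1), (⟨g₂, h₂⟩ : P) ^ p ^ (e - 1)⁆ :=
        Subtype.ext (by simp [hc, commutatorElement_def])
      rw [e1, map_commutatorElement, commutatorElement_eq_one_iff_commute]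
      exact hcm
    have h4 := congrArg Subtype.val (MulEquiv.congr_fun hψc ⟨(s : K), hsS⟩)
    rw [hψ, MulAut.one_apply, mul_inv_eq_iff_eq_mul] at h4
    exact Subgroup.mem_centralizer_singleton_iff.2 h4.symm
  have hcC : c ∈ Subgroup.centralizer (R : Set K) := Subgroup.mem_centralizer_iff.2 fun r hr => by
    have h1 : (⟨r, hr⟩ : R) ∈ (Subgroup.centralizer ({c} : Set K)).subgroupOf R :=
      hcR ▸ Subgroup.mem_top _
    exact Subgroup.mem_centralizer_singleton_iff.1 h1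
  have hcR' : c ∈ R := hR ▸ centralizer_pPrimeCore_le hK hcore (hR ▸ hcC)
  obtain ⟨j, hj⟩ := hP ⟨c, hcP⟩
  rw [← commutatorElement_eq_one_iff_commute, ← hc, ← orderOf_eq_one_iff]
  exact Nat.eq_one_of_dvd_coprimes (hRco.pow_right j) (Subgroup.orderOf_dvd_natCard R hcR')
    (orderOf_dvd_of_pow_eq_one (congrArg Subtype.val hj))

variable {G : Type u} [Group G] [Finite G]

/-- The exponent drops by one in the non-exceptional case. -/
theorem drop_a (hp2 : p ≠ 2) (hG : Cfsg.IsPSolvable p G) (hbot : Cfsg.pPrimeCore p G = ⊥) {e : ℕ}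
    (he : ExpLE p (e + 1) G) [(Cfsg.pCore p G).Normal]
    (hc : (¬ ∃ k : ℕ, p = 2 ^ k + 1) ∨ ∀ S : Sylow 2 G, IsMulCommutative S) :
    ExpLE p e (G ⧸ Cfsg.pCore p G) := by
  intro z hz
  by_contra hne
  obtain ⟨k, σ, hσ, hz0, -⟩ := exists_faithful_module hG hbot he
  rcases bound_of_faithful (isPSolvable_map Fact.out hG _ (QuotientGroup.mk'_surjective _))
      Fusion.pCore_quotient_eq_bot σ hσ z (e + 1) (by omega) ((he.quotient _) z hz)
      (by simpa using hne) _ (hz0 z hz) with h | ⟨n₀, q, b, h1, -, h3, h4, h5, h6, -⟩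
  · have := Nat.one_le_pow (e + 1) p (Fact.out : p.Prime).pos
    omega
  obtain ⟨rfl, hk⟩ := ThmB.fermat_of_exception hp2 h3 h1 h4 h5
  rcases hc with hc | hc
  · exact hc hk
  · obtain ⟨S⟩ : Nonempty (Sylow 2 (G ⧸ Cfsg.pCore p G)) := inferInstance
    haveI := Fact.mk h3
    exact h6 S (sylow_comm_quotient _ hc S)

/-- The exponent drops by one after two steps in any case. -/
theorem drop_b {K : Type u} [Group K] [Finite K] (hp2 : p ≠ 2) (hK : Cfsg.IsPSolvable p K)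
    (hcore : Cfsg.pCore p K = ⊥) {e : ℕ} (he : ExpLE p (e + 1) K) {k : ℕ}
    (σ : K →* Module.End (ZMod p) (Fin k → ZMod p)) (hσ : Function.Injective σ)
    (hz : ∀ g : K, (∃ j, g ^ p ^ j = 1) → (σ g - 1) ^ (p ^ (e + 1) - 1) = 0)
    [(Cfsg.pPrimeCore p K).Normal] [(Cfsg.pCore p (K ⧸ Cfsg.pPrimeCore p K)).Normal] :
    ExpLE p e ((K ⧸ Cfsg.pPrimeCore p K) ⧸ Cfsg.pCore p (K ⧸ Cfsg.pPrimeCore p K)) := by
  classical
  intro z hz'
  by_contra hne
  obtain ⟨x', hx', hx'p⟩ := exists_lift _ z hz'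
  obtain ⟨x, hx, hxp⟩ := exists_lift _ x' hx'p
  obtain ⟨j, hj⟩ := hxp
  obtain ⟨i, -, hi⟩ := (Nat.dvd_prime_pow (Fact.out : p.Prime)).1 (orderOf_dvd_of_pow_eq_one hj)
  obtain ⟨P, hP⟩ := (IsPGroup.of_card (n := i) (by rw [Nat.card_zpowers, hi]) :
    IsPGroup p (Subgroup.zpowers x)).exists_le_sylow
  have hxP : x ∈ (P : Subgroup K) := hP (Subgroup.mem_zpowers x)
  have hPexp : ∀ g ∈ (P : Subgroup K), ∃ l, g ^ p ^ l = 1 := fun g hg => by
    obtain ⟨l, hl⟩ := P.isPGroup' ⟨g, hg⟩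
    exact ⟨l, congrArg Subtype.val hl⟩
  have hK' : Cfsg.IsPSolvable p (K ⧸ Cfsg.pPrimeCore p K) :=
    isPSolvable_map Fact.out hK _ (QuotientGroup.mk'_surjective _)
  obtain ⟨k', τ, hτ, -, hτc⟩ := exists_faithful_module hK' Fusion.pPrimeCore_quotient_eq_bot
    (he.quotient (Cfsg.pPrimeCore p K))
  have hrel : ∀ a ∈ Cfsg.pCore p (K ⧸ Cfsg.pPrimeCore p K),
      Commute ((a * x') ^ p ^ e) (x' ^ p ^ e) := by
    intro a ha
    have h1 := Fusion.pCore_le_sylow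
      (P.mapSurjective (QuotientGroup.mk'_surjective (Cfsg.pPrimeCore p K))) ha
    rw [Sylow.coe_mapSurjective] at h1
    obtain ⟨w, hw, rfl⟩ := h1
    rw [← hx, ← map_mul, ← map_pow, ← map_pow]
    refine (?_ : Commute ((w * x) ^ p ^ e) (x ^ p ^ e)).map _
    have h := powers_commute hp2 hK hcore σ hσ (e + 1) (by omega) (P : Subgroup K) P.isPGroup'
      (fun g hg => he g (hPexp g hg)) (fun g hg => hz g (hPexp g hg)) (w * x) x (mul_mem hw hxP) hxP
    simpa using h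
  have h0 := hτc (p ^ e) x' hrel
  rw [hx'] at h0
  have hpow : τ z ^ p ^ e - 1 = (τ z - 1) ^ p ^ e := by
    have h := ThmB.sum_pow_eq (p := p) (τ z) e
    rw [← geom_sum_mul, h, ← pow_succ, Nat.sub_add_cancel (Nat.one_le_pow _ _ (Fact.out : p.Prime).pos)]
  rw [hpow, ThmB.sum_pow_eq (p := p), ← pow_add] at h0
  rcases bound_of_faithful (isPSolvable_map Fact.out hK' _ (QuotientGroup.mk'_surjective _))
      Fusion.pCore_quotient_eq_bot τ hτ z (e + 1) (by omega)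
      (((he.quotient _).quotient _) z hz') (by simpa using hne) _ h0 with
    h | ⟨n₀, q, b, h1, h2, -, -, -, -, h6⟩
  · have h3 : 2 * p ^ e ≤ p ^ (e + 1) := by
      rw [pow_succ, mul_comm]; exact Nat.mul_le_mul le_rfl (Fact.out : p.Prime).two_le
    have := Nat.one_le_pow e p (Fact.out : p.Prime).pos
    omega
  · have hp3 : 3 ≤ p := by
      have := (Fact.out : p.Prime).two_le; omega
    have h3 : p ^ (e + 1 - n₀) * p ^ n₀ = p ^ (e + 1) := by
      rw [← pow_add, Nat.sub_add_cancel h2]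
    rw [Nat.mul_sub, mul_one, h3] at h6
    have h4 : p ^ (e + 1 - n₀) ≤ p ^ e := Nat.pow_le_pow_right (Fact.out : p.Prime).pos (by omega)
    have h5 : 3 * p ^ e ≤ p ^ (e + 1) := by
      rw [pow_succ, mul_comm]; exact Nat.mul_le_mul le_rfl hp3
    have := Nat.one_le_pow e p (Fact.out : p.Prime).pos
    omega

theorem main_a (hp2 : p ≠ 2) : ∀ (e : ℕ) (G : Type u) [Group G] [Finite G], Cfsg.IsPSolvable p G →
    ExpLE p e G → ((¬ ∃ k : ℕ, p = 2 ^ k + 1) ∨ ∀ S : Sylow 2 G, IsMulCommutative S) →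
    PLen.HasPSeries p e G := by
  intro e
  induction e with
  | zero => exact fun G _ _ _ he _ => PLen.hasPSeries_of_coprime 0 he.coprime_zero
  | succ e ih =>
    intro G _ _ hG he hc
    haveI := Cfsg.pPrimeCore_normal p G
    refine PLen.HasPSeries.lift_pPrime (Cfsg.pPrimeCore p G) (pPrimeCore_coprime p) ?_
    haveI : Fact (Nat.Prime 2) := ⟨Nat.prime_two⟩
    have hc' := hc.imp_right (sylow_comm_quotient (Cfsg.pPrimeCore p G))
    have hG' : Cfsg.IsPSolvable p (G ⧸ Cfsg.pPrimeCore p G) :=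
      isPSolvable_map Fact.out hG _ (QuotientGroup.mk'_surjective _)
    haveI := Cfsg.pCore_normal p (G ⧸ Cfsg.pPrimeCore p G)
    exact PLen.HasPSeries.lift_p _ (pCore_isPGroup p) (ih _
      (isPSolvable_map Fact.out hG' _ (QuotientGroup.mk'_surjective _))
      (drop_a hp2 hG' Fusion.pPrimeCore_quotient_eq_bot (he.quotient _) hc')
      (hc'.imp_right (sylow_comm_quotient _)))

theorem main_b (hp2 : p ≠ 2) : ∀ (e : ℕ) (G : Type u) [Group G] [Finite G], Cfsg.IsPSolvable p G →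
    ExpLE p e G → PLen.HasPSeries p (2 * e) G := by
  intro e
  induction e with
  | zero => exact fun G _ _ _ he => PLen.hasPSeries_of_coprime 0 he.coprime_zero
  | succ e ih =>
    intro G _ _ hG he
    haveI := Cfsg.pPrimeCore_normal p G
    refine PLen.HasPSeries.lift_pPrime (Cfsg.pPrimeCore p G) (pPrimeCore_coprime p) ?_
    have hG' : Cfsg.IsPSolvable p (G ⧸ Cfsg.pPrimeCore p G) :=
      isPSolvable_map Fact.out hG _ (QuotientGroup.mk'_surjective _)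
    haveI := Cfsg.pCore_normal p (G ⧸ Cfsg.pPrimeCore p G)
    rw [show 2 * (e + 1) = 2 * e + 1 + 1 by ring]
    refine PLen.HasPSeries.lift_p (Cfsg.pCore p (G ⧸ Cfsg.pPrimeCore p G)) (pCore_isPGroup p) ?_
    obtain ⟨k, σ, hσ, hz, -⟩ :=
      exists_faithful_module hG' Fusion.pPrimeCore_quotient_eq_bot (he.quotient _)
    have hK := isPSolvable_map (p := p) Fact.out hG'
      (QuotientGroup.mk' (Cfsg.pCore p (G ⧸ Cfsg.pPrimeCore p G))) (QuotientGroup.mk'_surjective _)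
    have heK := (he.quotient (Cfsg.pPrimeCore p G)).quotient (Cfsg.pCore p (G ⧸ Cfsg.pPrimeCore p G))
    haveI := Cfsg.pPrimeCore_normal p ((G ⧸ Cfsg.pPrimeCore p G) ⧸ Cfsg.pCore p (G ⧸ Cfsg.pPrimeCore p G))
    refine PLen.HasPSeries.lift_pPrime (Cfsg.pPrimeCore p _) (pPrimeCore_coprime p) ?_
    haveI := Cfsg.pCore_normal p (((G ⧸ Cfsg.pPrimeCore p G) ⧸ Cfsg.pCore p (G ⧸ Cfsg.pPrimeCore p G)) ⧸
      Cfsg.pPrimeCore p ((G ⧸ Cfsg.pPrimeCore p G) ⧸ Cfsg.pCore p (G ⧸ Cfsg.pPrimeCore p G)))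
    exact PLen.HasPSeries.lift_p _ (pCore_isPGroup p) (ih _
      (isPSolvable_map Fact.out (isPSolvable_map Fact.out hK _ (QuotientGroup.mk'_surjective _)) _
        (QuotientGroup.mk'_surjective _))
      (drop_b hp2 hK Fusion.pCore_quotient_eq_bot heK σ hσ hz))

end Cfsg.Agent.Solv.PLE
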