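import Cfsg.Agent.Lib.Spor.ExtraspecialOut
import Cfsg.Agent.Lib.Small.QuadStandard
import Cfsg.Agent.Lib.Solv.Extraspecial

/-!
An extension of an extraspecial 2-group by any group of isometries of its squaring form,
inside the normalizer of the faithful representation of degree `2^n` over the field with three elements.
-/

set_option autoImplicit false
set_option linter.unusedSectionVars false
set_option linter.style.haveILetI false

namespace Cfsg.Agent.Solv.ExtLift

open Module QuadraticMap Cfsg.Agent.Classical.ORefl Cfsg.Agent.Classical.OCount Cfsg.Agent.Solv.ExtTwo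
open Cfsg.Agent.Spor.ExtOut

/-- the sign -/
def sgn (a : ZMod 2) : ZMod 3 := if a = 0 then 1 else -1

theorem sgn_add : ∀ a b : ZMod 2, sgn (a + b) = sgn a * sgn b := by decide

theorem sgn_zero : sgn 0 = 1 := rfl

theorem sgn_one : sgn 1 = -1 := rfl

theorem sum_sgn {U : Type*} [AddCommGroup U] [Fintype U] (l : U →+ ZMod 2) (hl : ∃ u, l u ≠ 0) :
    ∑ u : U, sgn (l u) = 0 := by
  obtain ⟨u0, hu0⟩ := hl
  have h1 : l u0 = 1 := (bit_cases (l u0)).resolve_left hu0
  have h := Fintype.sum_equiv (Equiv.addRight u0) (fun u => sgn (l (u + u0))) (fun u => sgn (l u)) (fun _ => rfl)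
  simp only [map_add, h1, sgn_add, sgn_one, mul_neg, mul_one, Finset.sum_neg_distrib] at h
  revert h
  generalize (∑ u : U, sgn (l u)) = s
  revert s
  decide

section generic

variable {ι : Type} [Fintype ι] [DecidableEq ι] {β : (ι → ZMod 2) →ₗ[ZMod 2] (ι → ZMod 2) →ₗ[ZMod 2] ZMod 2}
variable {Q : QuadraticForm (ZMod 2) (ι → ZMod 2)}
variable {A : Type} [Ring A] [Algebra (ZMod 3) A] (σ : M β →* A)

theorem sigma_split (hz : σ (zz β) = -1) (x : M β) : σ x = sgn x.bit • σ ⟨x.vec, 0⟩ := by
  conv_lhs => rw [split x, map_mul]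
  rcases bit_cases x.bit with e | e <;> rw [e]
  · rw [show (⟨0, 0⟩ : M β) = 1 from rfl, map_one, mul_one, sgn_zero, one_smul]
  · rw [show (⟨0, 1⟩ : M β) = zz β from rfl, hz, sgn_one, neg_one_smul, mul_neg, mul_one]

theorem conj_eq (hβ : ∀ v, β v v = Q v) (a : M β) (v : ι → ZMod 2) :
    a * ⟨v, 0⟩ * a⁻¹ = ⟨v, polar Q a.vec v⟩ := by
  apply M.ext
  · show a.vec + v + a.vec = v
    rw [add_right_comm, ZModModule.add_self, zero_add]
  · show a.bit + 0 + β a.vec v + (a.bit + β a.vec a.vec) + β (a.vec + v) a.vec = polar Q a.vec v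
    rw [← polar_eq hβ, map_add, LinearMap.add_apply]
    linear_combination ZModModule.add_self a.bit + ZModModule.add_self (β a.vec a.vec)

theorem conj_sigma (hz : σ (zz β) = -1) (hβ : ∀ v, β v v = Q v) (a : M β) (v : ι → ZMod 2) :
    σ a * σ ⟨v, 0⟩ * σ a⁻¹ = sgn (polar Q a.vec v) • σ ⟨v, 0⟩ := by
  rw [← map_mul, ← map_mul, conj_eq hβ, sigma_split σ hz]

theorem card_ne : ((Fintype.card (ι → ZMod 2) : ℕ) : ZMod 3) ≠ 0 := by
  rw [Fintype.card_fun, ZMod.card, Nat.cast_pow]
  exact pow_ne_zero _ (by decide)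

theorem linearIndependent_sigma [Nontrivial A] (hz : σ (zz β) = -1) (hβ : ∀ v, β v v = Q v) (hQ : PND Q) :
    LinearIndependent (ZMod 3) (fun v : ι → ZMod 2 => σ ⟨v, 0⟩) := by
  rw [Fintype.linearIndependent_iff]
  intro c hc v0
  have h1 : ∀ w : ι → ZMod 2, σ ⟨w, 0⟩ * (∑ v, c v • σ ⟨v, 0⟩) * σ (⟨w, 0⟩ : M β)⁻¹ =
      ∑ v, (c v * sgn (polar Q w v)) • σ ⟨v, 0⟩ := by
    intro w
    rw [Finset.mul_sum, Finset.sum_mul]
    refine Finset.sum_congr rfl fun v _ => ?_
    rw [mul_smul_comm, smul_mul_assoc, conj_sigma σ hz hβ, smul_smul]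
  have h2 : ∑ w : ι → ZMod 2, sgn (polar Q w v0) •
      (σ ⟨w, 0⟩ * (∑ v, c v • σ ⟨v, 0⟩) * σ (⟨w, 0⟩ : M β)⁻¹) = 0 := by
    rw [hc]; simp
  simp only [h1, Finset.smul_sum, smul_smul] at h2
  rw [Finset.sum_comm] at h2
  simp only [← Finset.sum_smul] at h2
  have h3 : ∀ v, ∑ w, sgn (polar Q w v0) * (c v * sgn (polar Q w v)) =
      if v = v0 then c v * (Fintype.card (ι → ZMod 2) : ZMod 3) else 0 := by
    intro v
    have : ∀ w, sgn (polar Q w v0) * (c v * sgn (polar Q w v)) = c v * sgn (polar Q w (v0 + v)) := fun w => by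
      rw [QuadraticMap.polar_add_right, sgn_add]; ring
    simp only [this, ← Finset.mul_sum]
    split_ifs with h
    · subst h
      simp [ZModModule.add_self, sgn_zero]
    · have hs : ∑ w : ι → ZMod 2, sgn (polar Q w (v0 + v)) = 0 := by
        refine sum_sgn (U := ι → ZMod 2) ((QuadraticMap.polarBilin Q).flip (v0 + v)).toAddMonoidHom ?_
        by_contra hne
        push Not at hne
        refine h (eq_comm.1 ?_)
        have h0 : v0 + v = 0 := hQ _ fun w => by rw [QuadraticMap.polar_comm]; exact hne w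
        rwa [← ZModModule.sub_eq_add, sub_eq_zero] at h0
      rw [hs, mul_zero]
  simp only [h3, ite_smul, zero_smul, Finset.sum_ite_eq', Finset.mem_univ, if_true] at h2
  have hne : σ (⟨v0, 0⟩ : M β) ≠ 0 := by
    intro e
    have := map_mul σ (⟨v0, 0⟩ : M β) (⟨v0, 0⟩ : M β)⁻¹
    rw [mul_inv_cancel, map_one, e, zero_mul] at this
    exact one_ne_zero this
  exact (mul_eq_zero.1 ((smul_eq_zero.1 h2).resolve_right hne)).resolve_right card_ne

theorem span_sigma [Nontrivial A] (hz : σ (zz β) = -1) (hβ : ∀ v, β v v = Q v) (hQ : PND Q)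
    (hd : finrank (ZMod 3) A = 2 ^ Fintype.card ι) :
    Submodule.span (ZMod 3) (Set.range fun v : ι → ZMod 2 => σ ⟨v, 0⟩) = ⊤ :=
  (linearIndependent_sigma σ hz hβ hQ).span_eq_top_of_card_eq_finrank (by
    rw [hd, Fintype.card_fun, ZMod.card])

theorem scalar_of_commute [Nontrivial A] (hz : σ (zz β) = -1) (hβ : ∀ v, β v v = Q v) (hQ : PND Q)
    (hd : finrank (ZMod 3) A = 2 ^ Fintype.card ι) (T : A) (hT : ∀ x, T * σ x = σ x * T) :
    ∀ X : A, T * X = X * T := by
  intro X
  have hX : X ∈ Submodule.span (ZMod 3) (Set.range fun v : ι → ZMod 2 => σ ⟨v, 0⟩) := by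
    rw [span_sigma σ hz hβ hQ hd]; exact Submodule.mem_top
  induction hX using Submodule.span_induction with
  | mem x hx => obtain ⟨v, rfl⟩ := hx; exact hT _
  | zero => simp
  | add x y _ _ hx hy => rw [mul_add, add_mul, hx, hy]
  | smul c x _ hx => rw [mul_smul_comm, smul_mul_assoc, hx]

theorem sigma_injective [Nontrivial A] (hz : σ (zz β) = -1) (hβ : ∀ v, β v v = Q v) (hQ : PND Q) :
    Function.Injective σ := by
  rw [injective_iff_map_eq_one]
  intro x hx
  rw [sigma_split σ hz] at hx
  have hLI := linearIndependent_sigma σ hz hβ hQ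
  have h1 : σ (⟨0, 0⟩ : M β) = 1 := map_one σ
  have hv : x.vec = 0 := by
    by_contra hne
    have h := Fintype.linearIndependent_iff.1 hLI
      (fun v => (if v = x.vec then sgn x.bit else 0) - (if v = 0 then 1 else 0))
      (by simp [sub_smul, Finset.sum_sub_distrib, ite_smul, hx, h1]) 0
    simp [Ne.symm hne] at h
  rw [hv, h1] at hx
  rcases bit_cases x.bit with e | e
  · exact M.ext hv e
  · rw [e, sgn_one, neg_one_smul] at hx
    have h2 : (2 : ZMod 3) • (1 : A) = 0 := by rw [two_smul]; nth_rewrite 1 [← hx]; simp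
    exact absurd ((smul_eq_zero.1 h2).resolve_right one_ne_zero) (by decide)

end generic

section intertwine

variable {ι : Type} [Fintype ι] [DecidableEq ι] {β : (ι → ZMod 2) →ₗ[ZMod 2] (ι → ZMod 2) →ₗ[ZMod 2] ZMod 2}
variable {Q : QuadraticForm (ZMod 2) (ι → ZMod 2)}
variable {V : Type} [AddCommGroup V] [Module (ZMod 3) V] [Module.Finite (ZMod 3) V] [Nontrivial V]

theorem intertwiner (σ τ : M β →* Module.End (ZMod 3) V) (hzσ : σ (zz β) = -1) (hzτ : τ (zz β) = -1)
    (hβ : ∀ v, β v v = Q v) (hQ : PND Q)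
    (hd : finrank (ZMod 3) (Module.End (ZMod 3) V) = 2 ^ Fintype.card ι) :
    ∃ T : (Module.End (ZMod 3) V)ˣ, ∀ x, (T : Module.End (ZMod 3) V) * σ x = τ x * T := by
  classical
  haveI : Fintype (M β) := Fintype.ofFinite _
  let T : Module.End (ZMod 3) V → Module.End (ZMod 3) V := fun X => ∑ x : M β, τ x * X * σ x⁻¹
  have hcomm : ∀ X y, T X * σ y = τ y * T X := by
    intro X y
    simp only [T, Finset.sum_mul, Finset.mul_sum]
    refine (Fintype.sum_equiv (Equiv.mulLeft y) _ _ fun x => ?_).symm
    simp only [Equiv.coe_mulLeft, mul_inv_rev]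
    simp only [map_mul, mul_assoc]
    rw [← map_mul σ y⁻¹ y, inv_mul_cancel, map_one, mul_one]
  have hne : ∃ X, T X ≠ 0 := by
    by_contra hne
    push Not at hne
    obtain ⟨f, hf⟩ := exists_ne (0 : V)
    obtain ⟨l, hl⟩ : ∃ l : Module.Dual (ZMod 3) V, l f ≠ 0 := by
      by_contra h
      push Not at h
      exact hf ((Module.forall_dual_apply_eq_zero_iff (ZMod 3) f).1 h)
    have h0 : ∀ u : V, ∑ x : M β, l (σ x⁻¹ f) • τ x u = 0 := by
      intro u
      have := LinearMap.congr_fun (hne (l.smulRight u)) f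
      simpa [T, LinearMap.sum_apply] using this
    have h1 : ∑ x : M β, l (σ x⁻¹ f) • τ x = 0 :=
      LinearMap.ext fun u => by simpa [LinearMap.sum_apply] using h0 u
    have h2 : ∀ v : ι → ZMod 2, ∀ b : ZMod 2, l (σ (⟨v, b⟩ : M β)⁻¹ f) • τ ⟨v, b⟩ =
        l (σ (⟨v, 0⟩ : M β)⁻¹ f) • τ ⟨v, 0⟩ := by
      intro v b
      rw [sigma_split σ hzσ, sigma_split τ hzτ ⟨v, b⟩, sigma_split σ hzσ (⟨v, 0⟩ : M β)⁻¹]
      simp only [inv_bit, inv_vec, sgn_add, sgn_zero, one_mul, LinearMap.smul_apply, map_smul, smul_eq_mul, smul_smul]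
      congr 1
      rcases bit_cases b with e | e <;> rw [e] <;> simp [sgn_zero, sgn_one]
    rw [← (prodEquiv (β := β)).symm.sum_comp, Fintype.sum_prod_type] at h1
    simp only [prodEquiv, Equiv.coe_fn_symm_mk, h2, Finset.sum_const, Finset.card_univ, ZMod.card] at h1
    rw [← Finset.smul_sum, two_nsmul] at h1
    have h3 : ∑ v : ι → ZMod 2, l (σ (⟨v, 0⟩ : M β)⁻¹ f) • τ ⟨v, 0⟩ = 0 := by
      have h4 : (2 : ZMod 3) • (∑ v : ι → ZMod 2, l (σ (⟨v, 0⟩ : M β)⁻¹ f) • τ ⟨v, 0⟩) = 0 := by
        rw [two_smul]; exact h1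
      exact (smul_eq_zero.1 h4).resolve_left (by decide)
    have h5 := Fintype.linearIndependent_iff.1 (linearIndependent_sigma τ hzτ hβ hQ) _ h3 0
    refine hl ?_
    rw [show (⟨0, 0⟩ : M β) = 1 from rfl, inv_one, map_one] at h5
    exact h5
  obtain ⟨X, hX⟩ := hne
  have hinj : Function.Injective (T X) := by
    rw [← LinearMap.ker_eq_bot, eq_bot_iff]
    intro v hv
    rw [LinearMap.mem_ker] at hv
    by_contra hv0
    refine hX (LinearMap.ext fun w => ?_)
    obtain ⟨Y, hY⟩ : ∃ Y : Module.End (ZMod 3) V, Y v = w := by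
      obtain ⟨l, hl⟩ : ∃ l : Module.Dual (ZMod 3) V, l v ≠ 0 := by
        by_contra h
        push Not at h
        exact hv0 ((Submodule.mem_bot _).2 ((Module.forall_dual_apply_eq_zero_iff (ZMod 3) v).1 h))
      exact ⟨((l v)⁻¹ • l).smulRight w, by simp [inv_mul_cancel₀ hl]⟩
    have hY' : Y ∈ Submodule.span (ZMod 3) (Set.range fun v : ι → ZMod 2 => σ ⟨v, 0⟩) := by
      rw [span_sigma σ hzσ hβ hQ hd]; exact Submodule.mem_top
    rw [← hY, LinearMap.zero_apply]
    have : ∀ Z ∈ Submodule.span (ZMod 3) (Set.range fun v : ι → ZMod 2 => σ ⟨v, 0⟩), T X (Z v) = 0 := by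
      intro Z hZ
      induction hZ using Submodule.span_induction with
      | mem x hx =>
        obtain ⟨v', rfl⟩ := hx
        have := LinearMap.congr_fun (hcomm X (⟨v', 0⟩ : M β)) v
        rw [Module.End.mul_apply, Module.End.mul_apply, hv, map_zero] at this
        exact this
      | zero => simp
      | add x y _ _ hx hy => rw [LinearMap.add_apply, map_add, hx, hy, add_zero]
      | smul c x _ hx => rw [LinearMap.smul_apply, map_smul, hx, smul_zero]
    exact this Y hY'
  have hu : IsUnit (T X) :=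
    (Module.End.isUnit_iff _).2 ⟨hinj, LinearMap.injective_iff_surjective.1 hinj⟩
  exact ⟨hu.unit, fun x => by rw [IsUnit.unit_spec]; exact hcomm X x⟩

theorem isExtraspecial_M (hβ : ∀ v, β v v = Q v) (hQ : PND Q) [Nonempty ι] :
    Cfsg.IsExtraspecial 2 (M β) ∧ ∀ x : M β, x ∈ Subgroup.center (M β) ↔ x.vec = 0 := by
  haveI : Fact (Nat.Prime 2) := ⟨Nat.prime_two⟩
  have hE := ext2 hβ hQ
  have hcen : ∀ x : M β, x ∈ Subgroup.center (M β) ↔ x.vec = 0 := by
    intro x
    rw [Subgroup.mem_center_iff]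
    constructor
    · intro h
      rcases hE.center x (fun k => ((h k).symm : Commute x k)) with rfl | rfl <;> rfl
    · intro hv k
      exact ((mem_center_iff' hβ x k).2 (by rw [hv]; exact QuadraticMap.polar_zero_left Q _)).eq.symm
  refine ⟨isExtraspecial_of (IsPGroup.of_card (n := Fintype.card ι + 1) card_M) ?_ ?_ ?_, hcen⟩
  · let e : Subgroup.center (M β) ≃ ZMod 2 :=
      { toFun := fun x => x.1.bit
        invFun := fun b => ⟨⟨0, b⟩, (hcen _).2 rfl⟩
        left_inv := fun x => Subtype.ext (M.ext ((hcen _).1 x.2).symm rfl)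
        right_inv := fun b => rfl }
    rw [Nat.card_congr e, Nat.card_zmod]
  · refine le_antisymm ?_ ?_
    · rw [commutator_def, Subgroup.commutator_le]
      intro a _ b _
      rw [hcen]
      show a.vec + b.vec + a.vec + b.vec = 0
      rw [add_assoc (a.vec + b.vec), ZModModule.add_self]
    · intro x hx
      obtain ⟨i⟩ := ‹Nonempty ι›
      obtain ⟨w, hw⟩ : ∃ w, polar Q (Pi.single i 1) w ≠ 0 := by
        by_contra h
        push Not at h
        exact (one_ne_zero : (1 : ZMod 2) ≠ 0) (by simpa using congrFun (hQ _ h) i)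
      have hzz : zz β ∈ commutator (M β) := by
        have h1 := Subgroup.commutator_mem_commutator (Subgroup.mem_top (⟨Pi.single i 1, 0⟩ : M β))
          (Subgroup.mem_top (⟨w, 0⟩ : M β))
        rw [← commutator_def, commutatorElement_def, conj_eq hβ, (bit_cases _).resolve_left hw] at h1
        convert h1 using 1
        apply M.ext
        · show (0 : ι → ZMod 2) = w + w
          rw [ZModModule.add_self]
        · show (1 : ZMod 2) = 1 + (0 + β w w) + β w w
          rw [zero_add, add_assoc, ZModModule.add_self, add_zero]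
      rcases hE.center x (fun k => ((Subgroup.mem_center_iff.1 hx k).symm : Commute x k)) with rfl | rfl
      · exact one_mem _
      · exact hzz
  · intro x
    rw [hcen, pow_two]
    show x.vec + x.vec = 0
    exact ZModModule.add_self _

end intertwine

section model

variable (n : ℕ)

/-- the Weil operators -/
def op (x : M (betaPlus n)) : Module.End (ZMod 3) ((Fin n → ZMod 2) → ZMod 3) where
  toFun f w := sgn (x.bit + ∑ i, x.vec (.inl i) * (w i + x.vec (.inr i))) * f (fun i => w i + x.vec (.inr i))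
  map_add' f g := funext fun w => mul_add _ _ _
  map_smul' c f := funext fun w => by simp only [Pi.smul_apply, smul_eq_mul, RingHom.id_apply]; ring

/-- the Weil representation -/
def weil : M (betaPlus n) →* Module.End (ZMod 3) ((Fin n → ZMod 2) → ZMod 3) where
  toFun := op n
  map_one' := LinearMap.ext fun f => funext fun w => by simp [op, one_vec, one_bit, sgn_zero]
  map_mul' x y := LinearMap.ext fun f => funext fun w => by
    show sgn _ * f _ = sgn _ * (sgn _ * f _)
    rw [← mul_assoc, ← sgn_add]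
    simp only [mul_vec, mul_bit, Pi.add_apply]
    congr 1
    · congr 1
      show x.bit + y.bit + (∑ i, x.vec (.inl i) * y.vec (.inr i)) +
          (∑ i, (x.vec (.inl i) + y.vec (.inl i)) * (w i + (x.vec (.inr i) + y.vec (.inr i)))) =
        x.bit + (∑ i, x.vec (.inl i) * (w i + x.vec (.inr i))) +
          (y.bit + ∑ i, y.vec (.inl i) * (w i + x.vec (.inr i) + y.vec (.inr i)))
      simp only [add_mul, mul_add, Finset.sum_add_distrib]
      linear_combination ZModModule.add_self (∑ i, x.vec (.inl i) * y.vec (.inr i))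
    · congr 1
      funext i
      ring

theorem weil_zz : weil n (zz (betaPlus n)) = -1 :=
  LinearMap.ext fun f => funext fun w => by
    show sgn _ * f _ = -f w
    simp [zz, sgn_one]

theorem finrank_weil :
    finrank (ZMod 3) (Module.End (ZMod 3) ((Fin n → ZMod 2) → ZMod 3)) = 2 ^ Fintype.card (Fin n ⊕ Fin n) := by
  rw [show finrank (ZMod 3) (Module.End (ZMod 3) ((Fin n → ZMod 2) → ZMod 3)) =
    finrank (ZMod 3) (((Fin n → ZMod 2) → ZMod 3) →ₗ[ZMod 3] ((Fin n → ZMod 2) → ZMod 3)) from rfl,
    Module.finrank_linearMap, Module.finrank_pi, Fintype.card_fun, ZMod.card, Fintype.card_sum,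
    Fintype.card_fin, pow_add]

end model

universe u

theorem eq_of_basis {F W : Type*} [CommRing F] [AddCommGroup W] [Module F W] {κ : Type*}
    (b : Basis κ F W) (q q' : QuadraticForm F W) (h1 : ∀ i, q (b i) = q' (b i))
    (h2 : ∀ i j, i ≠ j → polar q (b i) (b j) = polar q' (b i) (b j)) : q = q' := by
  have hp : QuadraticMap.polarBilin q = QuadraticMap.polarBilin q' := by
    refine b.ext fun i => b.ext fun j => ?_
    rcases eq_or_ne i j with rfl | h
    · simp [QuadraticMap.polarBilin_apply_apply, QuadraticMap.polar_self, h1]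
    · exact h2 i j h
  ext x
  have hx : x ∈ Submodule.span F (Set.range b) := by rw [b.span_eq]; trivial
  induction hx using Submodule.span_induction with
  | mem x hx => obtain ⟨i, rfl⟩ := hx; exact h1 i
  | zero => simp
  | add x y _ _ hx hy =>
    have h := LinearMap.congr_fun (LinearMap.congr_fun hp x) y
    simp only [QuadraticMap.polarBilin_apply_apply, polar] at h
    linear_combination h + hx + hy
  | smul c x _ hx => rw [QuadraticMap.map_smul, QuadraticMap.map_smul, hx]

theorem exists_coord {U : Type u} [AddCommGroup U] [Module (ZMod 2) U] [Module.Finite (ZMod 2) U] {n : ℕ}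
    (hn1 : 1 ≤ n) (hn : finrank (ZMod 2) U = 2 * n) (q : QuadraticForm (ZMod 2) U)
    (hnd : (QuadraticMap.polarBilin q).Nondegenerate)
    (hplus : ∃ W : Submodule (ZMod 2) U, finrank (ZMod 2) W = n ∧ ∀ w ∈ W, q w = 0) :
    ∃ e : U ≃ₗ[ZMod 2] (Fin n ⊕ Fin n → ZMod 2), ∀ u, betaPlus n (e u) (e u) = q u := by
  classical
  rcases Small.QuadBasis.even_basis q hn1 hn hnd with ⟨b, hb1, hb2, hb3⟩ | ⟨b, ζ, hζ, hb1, hb2, hb3, hb4, hb5, hb6, hb7⟩
  · refine ⟨b.equivFun, fun u => ?_⟩
    have h : (LinearMap.BilinMap.toQuadraticMap (betaPlus n)).comp (b.equivFun : U →ₗ[ZMod 2] _) = q := by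
      refine eq_of_basis b _ _ (fun i => ?_) (fun i j hij => ?_)
      · rcases i with i | i <;>
          simp [betaPlus, (hb1 i).1, (hb1 i).2]
      · rcases i with i | i <;> rcases j with j | j
        · simp [polar, betaPlus, Finset.sum_add_distrib, add_mul, mul_add, (hb3 i j).1]
          simpa [polar] using ((hb3 i j).1).symm
        · simp [polar, betaPlus, Finset.sum_add_distrib, add_mul, mul_add]
          simpa [polar, Finsupp.single_apply] using (hb2 i j).symm
        · simp [polar, betaPlus, Finset.sum_add_distrib, add_mul, mul_add]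
          have h2 := (hb2 j i).symm
          rw [QuadraticMap.polar_comm] at h2
          simpa [polar, Finsupp.single_apply, eq_comm] using h2
        · simp [polar, betaPlus, Finset.sum_add_distrib, add_mul, mul_add]
          simpa [polar] using ((hb3 i j).2).symm
    rw [← h]; rfl
  · exfalso
    have hz1 : ζ = 1 := (bit_cases ζ).resolve_left fun h => hζ 0 (by simp [h])
    subst hz1
    have h : (LinearMap.BilinMap.toQuadraticMap (betaMinus (n - 1))).comp (b.equivFun : U →ₗ[ZMod 2] _) = q := by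
      refine eq_of_basis b _ _ (fun i => ?_) (fun i j hij => ?_)
      · rcases i with (i | i) | i
        · simp [betaMinus, Finsupp.single_apply, (hb1 i).1]
        · simp [betaMinus, Finsupp.single_apply, (hb1 i).2]
        · fin_cases i <;> simp [betaMinus, Finsupp.single_apply, hb5, hb7]
      · rcases i with (i | i) | i <;> rcases j with (j | j) | j
        · rw [(hb3 i j).1]; simp [polar, betaMinus, Finsupp.single_apply]
        · rw [hb2 i j]; simp [polar, betaMinus, Finsupp.single_apply]
        · rw [(hb4 i j).1]; simp [polar, betaMinus, Finsupp.single_apply]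
        · rw [QuadraticMap.polar_comm q, hb2 j i]; simp [polar, betaMinus, Finsupp.single_apply, eq_comm]
        · rw [(hb3 i j).2]; simp [polar, betaMinus, Finsupp.single_apply]
        · rw [(hb4 i j).2]; simp [polar, betaMinus, Finsupp.single_apply]
        · rw [QuadraticMap.polar_comm q, (hb4 j i).1]; simp [polar, betaMinus, Finsupp.single_apply]
        · rw [QuadraticMap.polar_comm q, (hb4 j i).2]; simp [polar, betaMinus, Finsupp.single_apply]
        · fin_cases i <;> fin_cases j <;> first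
            | exact absurd rfl hij
            | (simp only [Fin.isValue, Fin.zero_eta, Fin.mk_one]; first | rw [hb6] | rw [QuadraticMap.polar_comm q, hb6]
               simp [polar, betaMinus, Finsupp.single_apply, add_mul, mul_add])
    obtain ⟨W, hWd, hW⟩ := hplus
    have h1 := Cfsg.Agent.Classical.OEven.minus_model_no_half (F := ZMod 2) (j := n - 1) (a := 1) (c := 1) (by decide)
      (U := W.map (b.equivFun : U →ₗ[ZMod 2] _)) (by
        rintro _ ⟨w, hw, rfl⟩
        have := hW w hw
        rw [← h] at this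
        simpa [betaMinus, Cfsg.quadFormMinus, pow_two] using this)
    rw [LinearEquiv.finrank_map_eq, hWd] at h1
    omega

end Cfsg.Agent.Solv.ExtLift
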