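import Cfsg.Agent.Lib.Solv.Extraspecial
import Cfsg.Agent.Lib.Local.ElemAb

/-! Classification of extraspecial 2-groups by their rank. -/

set_option autoImplicit false
set_option linter.style.haveILetI false

open scoped commutatorElement

namespace Cfsg.Agent.Solv.ExtTwo

universe u v w

/-- centre `{1,z}`, squares and commutators in it -/
structure Ext2 (E : Type u) [Group E] (z : E) : Prop where
  ne : z ≠ 1
  central : ∀ g : E, Commute z g
  center : ∀ g : E, (∀ h : E, Commute g h) → g = 1 ∨ g = z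
  sq : ∀ g : E, g * g = 1 ∨ g * g = z
  comm : ∀ g h : E, h * g = g * h ∨ h * g = g * h * z

section
variable {E : Type u} [Group E] {z : E}

theorem Ext2.zz (h : Ext2 E z) : z * z = 1 := by
  rcases h.sq z with e | e
  · exact e
  · exact absurd (mul_eq_left.1 e) h.ne

/-- normal form -/
def nf (a b z : E) (i j k : ℕ) : E := a ^ i * b ^ j * z ^ k

theorem nf_mul (h : Ext2 E z) {a b : E} (hab : b * a = a * b * z) (i j k i' j' k' : ℕ) :
    nf a b z i j k * nf a b z i' j' k' = nf a b z (i + i') (j + j') (k + k' + j * i') := by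
  have hzc : ∀ (m : ℕ) (g : E), z ^ m * g = g * z ^ m := fun m g => ((h.central g).pow_left m).eq
  have h1 : ∀ m : ℕ, b * a ^ m = a ^ m * b * z ^ m := by
    intro m
    induction m with
    | zero => simp
    | succ m ih =>
      calc b * a ^ (m + 1) = b * a ^ m * a := by rw [pow_succ, mul_assoc]
        _ = a ^ m * b * (z ^ m * a) := by rw [ih, mul_assoc]
        _ = a ^ m * (b * a) * z ^ m := by rw [hzc]; simp only [mul_assoc]
        _ = a ^ m * (a * b * z) * z ^ m := by rw [hab]
        _ = a ^ (m + 1) * b * z ^ (m + 1) := by rw [pow_succ, pow_succ' z]; simp only [mul_assoc]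
  have h2 : ∀ n m : ℕ, b ^ n * a ^ m = a ^ m * b ^ n * z ^ (n * m) := by
    intro n m
    induction n with
    | zero => simp
    | succ n ih =>
      calc b ^ (n + 1) * a ^ m = b ^ n * (b * a ^ m) := by rw [pow_succ, mul_assoc]
        _ = (b ^ n * a ^ m) * b * z ^ m := by rw [h1]; simp only [mul_assoc]
        _ = a ^ m * b ^ n * (z ^ (n * m) * b) * z ^ m := by rw [ih]; simp only [mul_assoc]
        _ = a ^ m * (b ^ n * b) * (z ^ (n * m) * z ^ m) := by rw [hzc]; simp only [mul_assoc]
        _ = a ^ m * b ^ (n + 1) * z ^ ((n + 1) * m) := by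
          rw [← pow_succ, ← pow_add, Nat.succ_mul]
  simp only [nf]
  calc a ^ i * b ^ j * z ^ k * (a ^ i' * b ^ j' * z ^ k')
      = a ^ i * b ^ j * (z ^ k * (a ^ i' * b ^ j')) * z ^ k' := by simp only [mul_assoc]
    _ = a ^ i * (b ^ j * a ^ i') * b ^ j' * (z ^ k * z ^ k') := by rw [hzc]; simp only [mul_assoc]
    _ = a ^ i * a ^ i' * b ^ j * (z ^ (j * i') * b ^ j') * (z ^ k * z ^ k') := by rw [h2]; simp only [mul_assoc]
    _ = (a ^ i * a ^ i') * (b ^ j * b ^ j') * (z ^ k * z ^ k' * z ^ (j * i')) := by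
      rw [hzc, ← pow_add z k k', ← pow_add z (k + k'), add_comm (k + k'), pow_add]; simp only [mul_assoc, ← pow_add]; rw [← mul_assoc (b ^ j), ← pow_add]
    _ = _ := by rw [← pow_add, ← pow_add, ← pow_add, ← pow_add]

/-- a pair of non-commuting elements with given squares -/
structure Pair (a b z : E) (α β : ℕ) : Prop where
  ext : Ext2 E z
  rel : b * a = a * b * z
  sqa : a * a = z ^ α
  sqb : b * b = z ^ β

variable {a b : E} {α β : ℕ}

theorem Pair.nf_even (h : Pair a b z α β) (i j k : ℕ) :
    nf a b z (2 * i) (2 * j) k = z ^ (α * i + β * j + k) := by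
  rw [nf, pow_mul, pow_mul, pow_two, pow_two, h.sqa, h.sqb, ← pow_mul, ← pow_mul, ← pow_add, ← pow_add]

theorem Pair.z_pow_iff (h : Pair a b z α β) (m : ℕ) : z ^ m = 1 ↔ Even m := by
  have h2 : z ^ 2 = 1 := by rw [pow_two, h.ext.zz]
  rcases Nat.even_or_odd' m with ⟨t, rfl | rfl⟩
  · exact iff_of_true (by rw [pow_mul, h2, one_pow]) (even_two_mul t)
  · refine iff_of_false ?_ (by simp [parity_simps])
    rw [pow_add, pow_mul, h2, one_pow, one_mul, pow_one]
    exact h.ext.ne

theorem Pair.nf_parity (h : Pair a b z α β) {i j k : ℕ} (hc : Commute (nf a b z i j k) a)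
    (hc' : Commute (nf a b z i j k) b) : Even i ∧ Even j := by
  have hone : ∀ g : E, g = nf a b z 1 0 0 ↔ g = a := fun g => by simp [nf]
  have ha : nf a b z 1 0 0 = a := by simp [nf]
  have hb : nf a b z 0 1 0 = b := by simp [nf]
  constructor
  · have e : nf a b z i j k * nf a b z 0 1 0 = nf a b z 0 1 0 * nf a b z i j k := by rw [hb]; exact hc'.eq
    rw [nf_mul h.ext h.rel, nf_mul h.ext h.rel] at e
    simp only [nf, add_comm 0, add_comm 1 j, zero_add, add_zero, mul_zero, one_mul] at e
    have h1 := mul_left_cancel e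
    rw [add_comm k, pow_add] at h1
    exact (h.z_pow_iff i).1 (mul_eq_right.1 h1.symm)
  · have e : nf a b z i j k * nf a b z 1 0 0 = nf a b z 1 0 0 * nf a b z i j k := by rw [ha]; exact hc.eq
    rw [nf_mul h.ext h.rel, nf_mul h.ext h.rel] at e
    simp only [nf, add_comm 0, add_comm 1 i, zero_add, add_zero, mul_one, zero_mul] at e
    have h1 := mul_left_cancel e
    rw [pow_add] at h1
    exact (h.z_pow_iff j).1 (mul_eq_left.1 h1)

variable {E' : Type v} [Group E'] {a' b' z' : E'}

/-- words in a pair and in a pair of the same type have the same normal form -/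
theorem Pair.word (h : Pair a b z α β) (h' : Pair a' b' z' α β) (x : FreeGroup Bool) :
    ∃ i j k : ℕ, FreeGroup.lift (fun t => cond t a b) x = nf a b z i j k ∧
      FreeGroup.lift (fun t => cond t a' b') x = nf a' b' z' i j k := by
  set φ := FreeGroup.lift (fun t => cond t a b) with hφ
  set ψ := FreeGroup.lift (fun t => cond t a' b') with hψ
  induction x using FreeGroup.induction_on with
  | C1 => exact ⟨0, 0, 0, by simp [nf], by simp [nf]⟩
  | of t =>
    cases t
    · exact ⟨0, 1, 0, by simp [nf, hφ], by simp [nf, hψ]⟩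
    · exact ⟨1, 0, 0, by simp [nf, hφ], by simp [nf, hψ]⟩
  | inv_of t ih =>
    obtain ⟨i, j, k, e1, e2⟩ := ih
    have h4 : ∀ {F : Type (max u v)}, True := fun {F} => trivial
    have q1 : ∀ g : E, g⁻¹ = g * (g * g) := fun g => inv_eq_of_mul_eq_one_right (by
      rw [← mul_assoc]
      rcases h.ext.sq g with e | e <;> rw [e]
      · exact one_mul 1
      · exact h.ext.zz)
    have q2 : ∀ g : E', g⁻¹ = g * (g * g) := fun g => inv_eq_of_mul_eq_one_right (by
      rw [← mul_assoc]
      rcases h'.ext.sq g with e | e <;> rw [e]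
      · exact one_mul 1
      · exact h'.ext.zz)
    refine ⟨i + (i + i), j + (j + j), k + (k + k + j * i) + j * (i + i), ?_, ?_⟩
    · rw [map_inv, e1, q1, nf_mul h.ext h.rel, nf_mul h.ext h.rel]
    · rw [map_inv, e2, q2, nf_mul h'.ext h'.rel, nf_mul h'.ext h'.rel]
  | mul x y ihx ihy =>
    obtain ⟨i, j, k, e1, e2⟩ := ihx
    obtain ⟨i', j', k', f1, f2⟩ := ihy
    exact ⟨_, _, _, by rw [map_mul, e1, f1, nf_mul h.ext h.rel], by rw [map_mul, e2, f2, nf_mul h'.ext h'.rel]⟩

/-- central product gluing -/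
theorem Pair.glue [Finite E] [Finite E'] (h : Pair a b z α β) (h' : Pair a' b' z' α β)
    (hE : Nat.card E = Nat.card E') {C : Type w} [Group C] (ι : C →* E) (ι' : C →* E') (zc : C)
    (hz : ι zc = z) (hz' : ι' zc = z') (hinj : Function.Injective ι)
    (hc : ∀ c, Commute (ι c) a ∧ Commute (ι c) b) (hc' : ∀ c, Commute (ι' c) a' ∧ Commute (ι' c) b')
    (hgen : ∀ g : E', ∃ x c, g = FreeGroup.lift (fun t => cond t a' b') x * ι' c)
    (hgen0 : ∀ g : E, ∃ x c, g = FreeGroup.lift (fun t => cond t a b) x * ι c) : Nonempty (E ≃* E') := by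
  set φ := FreeGroup.lift (fun t => cond t a b) with hφ
  set ψ := FreeGroup.lift (fun t => cond t a' b') with hψ
  have hcomm : ∀ x c, Commute (φ x) (ι c) := by
    intro x c
    obtain ⟨i, j, k, e, -⟩ := h.word h' x
    rw [hφ, e, nf]
    exact (((hc c).1.symm.pow_left i).mul_left ((hc c).2.symm.pow_left j)).mul_left ((h.ext.central _).pow_left k)
  have hcomm' : ∀ x c, Commute (ψ x) (ι' c) := by
    intro x c
    obtain ⟨i, j, k, -, e⟩ := h.word h' x
    rw [hψ, e, nf]
    exact (((hc' c).1.symm.pow_left i).mul_left ((hc' c).2.symm.pow_left j)).mul_left ((h'.ext.central _).pow_left k)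
  set Φ : FreeGroup Bool × C →* E := φ.noncommCoprod ι hcomm with hΦ
  set Ψ : FreeGroup Bool × C →* E' := ψ.noncommCoprod ι' hcomm' with hΨ
  have hsurj : Function.Surjective Φ := fun g => by
    obtain ⟨x, c, rfl⟩ := hgen0 g
    exact ⟨(x, c), rfl⟩
  have hsurj' : Function.Surjective Ψ := fun g => by
    obtain ⟨x, c, rfl⟩ := hgen g
    exact ⟨(x, c), rfl⟩
  have hker : Φ.ker ≤ Ψ.ker := by
    rintro ⟨x, c⟩ hxc
    rw [MonoidHom.mem_ker] at hxc ⊢
    change φ x * ι c = 1 at hxc
    show ψ x * ι' c = 1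
    obtain ⟨i, j, k, e, e'⟩ := h.word h' x
    rw [hφ, e] at hxc
    rw [hψ, e']
    have hnf : nf a b z i j k = ι c⁻¹ := by rw [map_inv]; exact eq_inv_of_mul_eq_one_left hxc
    obtain ⟨⟨i₀, rfl⟩, ⟨j₀, rfl⟩⟩ := h.nf_parity (hnf ▸ (hc c⁻¹).1) (hnf ▸ (hc c⁻¹).2)
    rw [← two_mul, ← two_mul, h.nf_even] at hnf hxc
    rw [← two_mul, ← two_mul, h'.nf_even, ← hz', ← map_pow, ← map_mul]
    have : zc ^ (α * i₀ + β * j₀ + k) * c = 1 := hinj (by rw [map_mul, map_pow, hz, hxc, map_one])
    rw [this, map_one]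
  let f : (FreeGroup Bool × C) ⧸ Φ.ker →* E' := QuotientGroup.lift Φ.ker Ψ hker
  let F : E →* E' := f.comp (QuotientGroup.quotientKerEquivOfSurjective Φ hsurj).symm.toMonoidHom
  have hF : Function.Surjective F := (QuotientGroup.lift_surjective_of_surjective _ _ hsurj' hker).comp
    (QuotientGroup.quotientKerEquivOfSurjective Φ hsurj).symm.surjective
  exact ⟨MulEquiv.ofBijective F ((Nat.bijective_iff_surjective_and_card F).2 ⟨hF, hE⟩)⟩

end

/-- `m` is the largest order of an elementary abelian subgroup -/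
def IsRk (E : Type u) [Group E] (m : ℕ) : Prop :=
  (∃ A : Subgroup E, Cfsg.IsElementaryAbelian 2 A ∧ Nat.card A = m) ∧
    ∀ A : Subgroup E, Cfsg.IsElementaryAbelian 2 A → Nat.card A ≤ m

theorem IsRk.unique {E : Type u} [Group E] {m m' : ℕ} (h : IsRk E m) (h' : IsRk E m') : m = m' := by
  obtain ⟨A, hA, rfl⟩ := h.1
  obtain ⟨B, hB, rfl⟩ := h'.1
  exact le_antisymm (h'.2 A hA) (h.2 B hB)

section
variable {E : Type u} [Group E] [Finite E] {z : E}

/-- the centralizer map into `{1,z}` -/
theorem exists_step (h : Ext2 E z) {a b : E} (hab : b * a = a * b * z) (g : E) :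
    ∃ i j : ℕ, Commute (a ^ i * b ^ j * g) a ∧ Commute (a ^ i * b ^ j * g) b := by
  have hz2 := h.zz
  have hba : a * b = b * a * z := by rw [hab, mul_assoc _ z z, hz2, mul_one]
  obtain ⟨i, hi⟩ : ∃ i : ℕ, Commute (a ^ i * g) b := by
    rcases h.comm g b with e | e
    · exact ⟨0, by rw [pow_zero, one_mul]; exact e.symm⟩
    · refine ⟨1, ?_⟩
      rw [pow_one]
      show a * g * b = b * (a * g)
      symm
      calc b * (a * g) = a * b * (z * g) := by rw [← mul_assoc, hab, mul_assoc]
        _ = a * (b * g) * z := by rw [(h.central g).eq]; simp only [mul_assoc]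
        _ = a * g * b * (z * z) := by rw [e]; simp only [mul_assoc]
        _ = a * g * b := by rw [hz2, mul_one]
  rcases h.comm (a ^ i * g) a with e | e
  · exact ⟨i, 0, by rw [pow_zero, mul_one]; exact e.symm, by rw [pow_zero, mul_one]; exact hi⟩
  · refine ⟨i, 1, ?_, ?_⟩
    · have hcomm : a ^ i * b ^ 1 * g = b * (a ^ i * g) * z ^ i := by
        rw [pow_one]
        have : ∀ m : ℕ, a ^ m * b = b * a ^ m * z ^ m := by
          intro m
          induction m with
          | zero => simp
          | succ m ih =>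
            calc a ^ (m + 1) * b = a ^ m * (b * a * z) := by rw [pow_succ, mul_assoc, hba]
              _ = (a ^ m * b) * a * z := by simp only [mul_assoc]
              _ = b * a ^ m * (z ^ m * a) * z := by rw [ih]; simp only [mul_assoc]
              _ = b * (a ^ m * a) * (z ^ m * z) := by rw [((h.central a).pow_left m).eq]; simp only [mul_assoc]
              _ = b * a ^ (m + 1) * z ^ (m + 1) := by rw [← pow_succ, ← pow_succ]
        rw [this, mul_assoc _ (z ^ i) g, ((h.central g).pow_left i).eq]; simp only [mul_assoc]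
      rw [hcomm]
      refine Commute.mul_left ?_ ((h.central a).pow_left i)
      show b * (a ^ i * g) * a = a * (b * (a ^ i * g))
      symm
      calc a * (b * (a ^ i * g)) = b * a * (z * (a ^ i * g)) := by rw [← mul_assoc, hba, mul_assoc]
        _ = b * (a * (a ^ i * g)) * z := by rw [(h.central _).eq]; simp only [mul_assoc]
        _ = b * (a ^ i * g) * a * (z * z) := by rw [e]; simp only [mul_assoc]
        _ = b * (a ^ i * g) * a := by rw [hz2, mul_one]
    · rw [pow_one]
      rcases h.comm g b with e' | e'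
      · have e1 : a ^ i * b * g = a ^ i * g * b := by rw [mul_assoc, e', ← mul_assoc]
        rw [e1]
        exact hi.mul_left (Commute.refl b)
      · have e1 : a ^ i * b * g = a ^ i * g * b * z := by rw [mul_assoc, e']; simp only [mul_assoc]
        rw [e1]
        exact (hi.mul_left (Commute.refl b)).mul_left (h.central b)

theorem card_centralizer (h : Ext2 E z) {x : E} (hx : x ≠ 1) (hx' : x ≠ z) :
    (Subgroup.centralizer ({x} : Set E)).index = 2 := by
  obtain ⟨y, hy⟩ : ∃ y, ¬ Commute x y := by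
    by_contra hno
    push Not at hno
    rcases h.center x hno with e | e
    · exact hx e
    · exact hx' e
  rw [Subgroup.index_eq_two_iff]
  refine ⟨y, fun g => ?_⟩
  have hmem : ∀ c, c ∈ Subgroup.centralizer ({x} : Set E) ↔ Commute x c := fun c => by
    rw [Subgroup.mem_centralizer_iff]
    exact ⟨fun h' => h' x rfl, fun h' a ha => by rw [Set.mem_singleton_iff.1 ha]; exact h'.eq⟩
  simp only [hmem]
  by_cases hg : Commute x g
  · refine Or.inr ⟨hg, fun hgy => hy ?_⟩
    have := hg.inv_right.mul_right hgy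
    simpa using this
  · refine Or.inl ⟨?_, hg⟩
    have e1 : g * x = x * g * z := (h.comm x g).resolve_left fun e => hg e.symm
    have e2 : y * x = x * y * z := (h.comm x y).resolve_left fun e => hy e.symm
    show x * (g * y) = g * y * x
    symm
    calc g * y * x = g * (x * y * z) := by rw [mul_assoc, e2]
      _ = g * x * y * z := by simp only [mul_assoc]
      _ = x * g * (z * y) * z := by rw [e1]; simp only [mul_assoc]
      _ = x * g * y * (z * z) := by rw [(h.central y).eq]; simp only [mul_assoc]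
      _ = x * (g * y) := by rw [h.zz, mul_one, mul_assoc]

theorem exists_involution (h : Ext2 E z) {n : ℕ} (hn : 2 ≤ n) (hcard : Nat.card E = 2 ^ (2 * n + 1)) :
    ∃ a : E, a * a = 1 ∧ a ≠ 1 ∧ a ≠ z := by
  classical
  haveI := Fintype.ofFinite E
  rw [Nat.card_eq_fintype_card] at hcard
  obtain ⟨x, -, hx⟩ : ∃ x ∈ (Finset.univ : Finset E), x ∉ ({1, z} : Finset E) := by
    refine Finset.exists_mem_notMem_of_card_lt_card (lt_of_le_of_lt Finset.card_le_two ?_)
    rw [Finset.card_univ, hcard]
    calc 2 < 2 ^ 2 := by norm_num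
      _ ≤ _ := Nat.pow_le_pow_right (by norm_num) (by omega)
  simp only [Finset.mem_insert, Finset.mem_singleton, not_or] at hx
  by_cases hxx : x * x = 1
  · exact ⟨x, hxx, hx.1, hx.2⟩
  have hxz : x * x = z := (h.sq x).resolve_left hxx
  obtain ⟨y, hy, hy'⟩ : ∃ y ∈ Finset.univ.filter (fun y : E => y ∈ Subgroup.centralizer ({x} : Set E)),
      y ∉ ({1, z, x, x * z} : Finset E) := by
    refine Finset.exists_mem_notMem_of_card_lt_card (lt_of_le_of_lt Finset.card_le_four ?_)
    rw [← Fintype.card_subtype, ← Nat.card_eq_fintype_card]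
    have h1 := (Subgroup.centralizer ({x} : Set E)).card_mul_index
    rw [card_centralizer h hx.1 hx.2, Nat.card_eq_fintype_card (α := E), hcard, pow_succ] at h1
    calc 4 < 2 ^ 4 := by norm_num
      _ ≤ 2 ^ (2 * n) := Nat.pow_le_pow_right (by norm_num) (by omega)
      _ = _ := (Nat.eq_of_mul_eq_mul_right two_pos h1).symm
  simp only [Finset.mem_insert, Finset.mem_singleton, not_or] at hy'
  have hc : Commute x y := Subgroup.mem_centralizer_iff.1 (Finset.mem_filter.1 hy).2 x rfl
  by_cases hyy : y * y = 1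
  · exact ⟨y, hyy, hy'.1, hy'.2.1⟩
  have hyz : y * y = z := (h.sq y).resolve_left hyy
  refine ⟨x * y, ?_, fun e => hy'.2.2.2 ?_, fun e => hy'.2.2.1 ?_⟩
  · rw [mul_assoc x y, ← mul_assoc y x y, ← hc.eq, mul_assoc x y y, ← mul_assoc, hxz, hyz, h.zz]
  · rw [eq_inv_of_mul_eq_one_right e]
    exact inv_eq_of_mul_eq_one_right (by rw [← mul_assoc, hxz, h.zz])
  · calc y = x * x * (z * y) := by rw [hxz, ← mul_assoc, h.zz, one_mul]
      _ = x * (z * (x * y)) := by rw [← mul_assoc z x y, (h.central x).eq]; simp only [mul_assoc]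
      _ = x := by rw [e, h.zz, mul_one]

/-- one hyperbolic pair splits off -/
theorem decompose (h : Ext2 E z) {n : ℕ} (hn : 1 ≤ n) (hcard : Nat.card E = 2 ^ (2 * n + 1 + 2)) :
    ∃ (a b : E) (C : Subgroup E) (hzC : z ∈ C), Pair a b z 0 0 ∧
      (∀ c : C, Commute (c : E) a ∧ Commute (c : E) b) ∧
      (∀ g : E, ∃ x c, g = FreeGroup.lift (fun t => cond t a b) x * C.subtype c) ∧
      Nat.card C = 2 ^ (2 * n + 1) ∧ Ext2 C ⟨z, hzC⟩ ∧
      ∀ m, IsRk C m → IsRk E (2 * m) := by
  obtain ⟨a, haa, ha1, haz⟩ := exists_involution h (n := n + 1) (by omega) (by rw [hcard]; ring_nf)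
  obtain ⟨b₀, hb₀⟩ : ∃ y, ¬ Commute a y := by
    by_contra hno
    push Not at hno
    rcases h.center a hno with e | e
    · exact ha1 e
    · exact haz e
  have hrel0 : b₀ * a = a * b₀ * z := (h.comm a b₀).resolve_left fun e => hb₀ e.symm
  obtain ⟨b, hbb, hrel⟩ : ∃ b, b * b = 1 ∧ b * a = a * b * z := by
    rcases h.sq b₀ with e | e
    · exact ⟨b₀, e, hrel0⟩
    · refine ⟨a * b₀, ?_, by rw [mul_assoc a b₀ a, hrel0]; simp only [mul_assoc]⟩
      calc a * b₀ * (a * b₀) = a * (b₀ * a) * b₀ := by simp only [mul_assoc]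
        _ = a * a * b₀ * (z * b₀) := by rw [hrel0]; simp only [mul_assoc]
        _ = b₀ * b₀ * z := by rw [haa, (h.central b₀).eq, one_mul, mul_assoc]
        _ = 1 := by rw [e, h.zz]
  have hP : Pair a b z 0 0 := ⟨h, hrel, by rw [pow_zero]; exact haa, by rw [pow_zero]; exact hbb⟩
  have hnab : ¬ Commute a b := fun e => h.ne (by
    rw [e.eq] at hrel; exact mul_eq_left.1 hrel.symm)
  have hb1 : b ≠ 1 := fun e => hnab (e ▸ Commute.one_right a)
  have hbz : b ≠ z := fun e => hnab (e ▸ (h.central a).symm)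
  set C := Subgroup.centralizer ({a} : Set E) ⊓ Subgroup.centralizer ({b} : Set E) with hC
  have hmemC : ∀ c, c ∈ C ↔ Commute c a ∧ Commute c b := fun c => by
    rw [hC, Subgroup.mem_inf, Subgroup.mem_centralizer_singleton_iff, Subgroup.mem_centralizer_singleton_iff]
    exact ⟨fun h' => ⟨h'.1, h'.2⟩, fun h' => ⟨h'.1.eq, h'.2.eq⟩⟩
  have hzC : z ∈ C := (hmemC z).2 ⟨h.central a, h.central b⟩
  have haC : a ∉ C := fun e => hnab ((hmemC a).1 e).2
  have hcC : Nat.card C = 2 ^ (2 * n + 1) := by
    have h1 : (Subgroup.centralizer ({b} : Set E)).relIndex (Subgroup.centralizer ({a} : Set E)) = 2 := by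
      have hle : (Subgroup.centralizer ({b} : Set E)).relIndex (Subgroup.centralizer ({a} : Set E)) ≤ 2 := by
        have hne : (Subgroup.centralizer ({b} : Set E)).relIndex ⊤ ≠ 0 := by
          rw [Subgroup.relIndex_top_right, card_centralizer h hb1 hbz]; norm_num
        have := Subgroup.relIndex_le_of_le_right (H := Subgroup.centralizer ({b} : Set E))
          (K := Subgroup.centralizer ({a} : Set E)) (L := ⊤) le_top hne
        rwa [Subgroup.relIndex_top_right, card_centralizer h hb1 hbz] at this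
      have h0 : (Subgroup.centralizer ({b} : Set E)).relIndex (Subgroup.centralizer ({a} : Set E)) ≠ 0 :=
        Subgroup.index_ne_zero_of_finite
      have hn1 : (Subgroup.centralizer ({b} : Set E)).relIndex (Subgroup.centralizer ({a} : Set E)) ≠ 1 := by
        rw [Ne, Subgroup.relIndex_eq_one]
        intro hle'
        have := hle' (show a ∈ Subgroup.centralizer ({a} : Set E) from Subgroup.mem_centralizer_singleton_iff.2 rfl)
        exact hnab (Subgroup.mem_centralizer_singleton_iff.1 this)
      omega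
    have h2 := (Subgroup.centralizer ({a} : Set E)).card_mul_index
    rw [card_centralizer h ha1 haz, hcard, show 2 ^ (2 * n + 1 + 2) = 2 ^ (2 * n + 1) * 2 * 2 by ring] at h2
    have h3 := ((Subgroup.centralizer ({b} : Set E)).subgroupOf (Subgroup.centralizer ({a} : Set E))).card_mul_index
    rw [show ((Subgroup.centralizer ({b} : Set E)).subgroupOf (Subgroup.centralizer ({a} : Set E))).index = 2 from h1,
      Nat.eq_of_mul_eq_mul_right two_pos h2] at h3
    rw [hC, inf_comm]
    rw [← Nat.eq_of_mul_eq_mul_right two_pos h3]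
    exact Nat.card_congr ((Subgroup.subgroupOfEquivOfLe (inf_le_right)).toEquiv.symm.trans
      (MulEquiv.subgroupCongr (Subgroup.inf_subgroupOf_right _ _)).toEquiv)
  have hgen : ∀ g : E, ∃ x c, g = FreeGroup.lift (fun t => cond t a b) x * C.subtype c := by
    intro g
    obtain ⟨i, j, hi⟩ := exists_step h hrel g
    refine ⟨((FreeGroup.of true) ^ i * (FreeGroup.of false) ^ j)⁻¹, ⟨_, (hmemC _).2 hi⟩, ?_⟩
    simp only [map_inv, map_mul, map_pow, FreeGroup.lift_apply_of, cond_true, cond_false, Subgroup.coe_subtype]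
    group
  refine ⟨a, b, C, hzC, hP, fun c => (hmemC c).1 c.2, hgen, hcC, ⟨?_, ?_, ?_, ?_, ?_⟩, ?_⟩
  · exact fun e => h.ne (congrArg Subtype.val e)
  · exact fun g => Subtype.ext (h.central g)
  · intro g hg
    have hall : ∀ k : E, Commute (g : E) k := by
      intro k
      obtain ⟨x, c, rfl⟩ := hgen k
      obtain ⟨i, j, m, e, -⟩ := hP.word hP x
      rw [e, nf]
      exact ((((hmemC _).1 g.2).1.pow_right i).mul_right (((hmemC _).1 g.2).2.pow_right j)
        |>.mul_right ((h.central _).symm.pow_right m)).mul_right (congrArg Subtype.val (hg c))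
    rcases h.center g hall with e | e
    · exact Or.inl (Subtype.ext e)
    · exact Or.inr (Subtype.ext e)
  · intro g
    rcases h.sq g with e | e
    · exact Or.inl (Subtype.ext e)
    · exact Or.inr (Subtype.ext e)
  · intro g k
    rcases h.comm g k with e | e
    · exact Or.inl (Subtype.ext e)
    · exact Or.inr (Subtype.ext e)
  · intro m hm
    have ha2 : a ^ 2 = 1 := by rw [pow_two, haa]
    refine ⟨?_, fun A hA => ?_⟩
    · obtain ⟨A, hA, hAm⟩ := hm.1
      have hAE : Cfsg.IsElementaryAbelian 2 (A.map C.subtype) :=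
        ⟨⟨⟨fun x y => Subtype.ext (by
          obtain ⟨x', hx, hx'⟩ := x.2
          obtain ⟨y', hy, hy'⟩ := y.2
          show (x : E) * y = y * x
          rw [← hx', ← hy', ← map_mul, ← map_mul]
          exact congrArg _ (Local.elemAb_commute hA hx hy))⟩⟩, by
          rintro _ ⟨x, hx, rfl⟩
          rw [← map_pow, hA.2 x hx, map_one]⟩
      have hS := Local.elemAb_sup hAE (Local.elemAb_zpowers ha2) (by
        rintro _ ⟨x, -, rfl⟩ y hy
        obtain ⟨t, rfl⟩ := Subgroup.mem_zpowers_iff.1 hy
        exact (((hmemC _).1 x.2).1.zpow_right t).eq)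
      have hcA : Nat.card (A.map C.subtype) = m := by
        rw [Subgroup.card_map_of_injective C.subtype_injective, hAm]
      -- a larger group
      have hlt : A.map C.subtype < A.map C.subtype ⊔ Subgroup.zpowers a :=
        lt_of_le_of_ne le_sup_left fun e => haC (Subgroup.map_subtype_le A
          (e.ge (Subgroup.mem_sup_right (Subgroup.mem_zpowers a))))
      have h2 := Local.two_mul_card_le hS hlt
      rw [hcA] at h2
      obtain ⟨k, hk⟩ := Local.elemAb_card_pow hAE
      obtain ⟨K, -, hKle, hK⟩ := Local.exists_subgroup_two_pow hS le_sup_left hk (Nat.le_succ k) (by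
        rw [pow_succ, ← hk, hcA, mul_comm]; exact h2)
      refine ⟨K, Local.elemAb_mono hS hKle, ?_⟩
      rw [hK, pow_succ, ← hk, hcA, mul_comm]
    · set Ca := Subgroup.centralizer ({a} : Set E) with hCa
      set A1 := A ⊓ Ca with hA1
      have hS := Local.elemAb_sup (Local.elemAb_mono hA (inf_le_left : A1 ≤ A)) (Local.elemAb_zpowers ha2) (by
        rintro x hx y hy
        obtain ⟨t, rfl⟩ := Subgroup.mem_zpowers_iff.1 hy
        exact ((show Commute x a from Subgroup.mem_centralizer_singleton_iff.1 hx.2).zpow_right t).eq)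
      set A2 := A1 ⊔ Subgroup.zpowers a with hA2
      have hidxa : Ca.index = 2 := card_centralizer h ha1 haz
      have hle : Nat.card A ≤ Nat.card A2 := by
        by_cases haA : a ∈ A
        · have : A ≤ A1 := le_inf le_rfl fun x hx =>
            Subgroup.mem_centralizer_singleton_iff.2 (Local.elemAb_commute hA hx haA)
          exact Nat.le_of_dvd Nat.card_pos (Subgroup.card_dvd_of_le (this.trans le_sup_left))
        · have hlt : A1 < A2 := lt_of_le_of_ne le_sup_left fun e =>
            haA (inf_le_left (a := A) (e.ge (Subgroup.mem_sup_right (Subgroup.mem_zpowers a))))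
          have h2 := Local.two_mul_card_le hS hlt
          have h3 : Nat.card A ≤ 2 * Nat.card A1 := by
            have h4 := (Ca.subgroupOf A).card_mul_index
            have h5 : (Ca.subgroupOf A).index ≤ 2 := by
              have := Subgroup.relIndex_le_of_le_right (H := Ca) (K := A) (L := ⊤) le_top
                (by rw [Subgroup.relIndex_top_right, hidxa]; norm_num)
              rwa [Subgroup.relIndex_top_right, hidxa] at this
            rw [← h4, mul_comm 2]
            refine (Nat.mul_le_mul_left _ h5).trans (Nat.mul_le_mul_right 2 (le_of_eq ?_))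
            rw [hA1, inf_comm]
            exact Nat.card_congr ((MulEquiv.subgroupCongr (Subgroup.inf_subgroupOf_right Ca A).symm).toEquiv.trans
              (Subgroup.subgroupOfEquivOfLe inf_le_right).toEquiv)
          omega
      refine hle.trans ?_
      have h6 := (C.subgroupOf A2).card_mul_index
      have hA2Ca : A2 ≤ Ca := sup_le inf_le_right (Subgroup.zpowers_le.2 (Subgroup.mem_centralizer_singleton_iff.2 rfl))
      have hCle : C ≤ Ca := inf_le_left
      have hC2 : C.relIndex Ca = 2 := by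
        have hh := Subgroup.relIndex_mul_index hCle
        have hh1 := C.card_mul_index
        have hh2 := Ca.card_mul_index
        rw [← hh, hcC, hidxa, hcard] at hh1
        have : 2 ^ (2 * n + 1) * (C.relIndex Ca * 2) = 2 ^ (2 * n + 1) * (2 * 2) := by rw [hh1]; ring
        have := Nat.eq_of_mul_eq_mul_left (Nat.two_pow_pos _) this
        omega
      have h7 : (C.subgroupOf A2).index ≤ 2 := by
        have := Subgroup.relIndex_le_of_le_right (H := C) (K := A2) (L := Ca) hA2Ca (by rw [hC2]; norm_num)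
        rwa [hC2] at this
      have h8 : Nat.card (C.subgroupOf A2) ≤ m := by
        have hb : Cfsg.IsElementaryAbelian 2 (A2.subgroupOf C) :=
          ⟨⟨⟨fun x y => Subtype.ext (Subtype.ext (Local.elemAb_commute hS x.2 y.2))⟩⟩,
            fun x hx => Subtype.ext (by simpa using hS.2 _ hx)⟩
        refine (le_of_eq ?_).trans (hm.2 _ hb)
        exact Nat.card_congr
          { toFun := fun x => ⟨⟨x.1.1, x.2⟩, x.1.2⟩
            invFun := fun x => ⟨⟨x.1.1, x.2⟩, x.1.2⟩
            left_inv := fun _ => rfl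
            right_inv := fun _ => rfl }
      rw [← h6, mul_comm 2 m]
      exact Nat.mul_le_mul h8 h7

/-- order eight -/
theorem base (h : Ext2 E z) (hcard : Nat.card E = 2 ^ 3) :
    ∃ (a b : E), ((Pair a b z 0 0 ∧ IsRk E (2 ^ 2)) ∨ (Pair a b z 1 1 ∧ IsRk E (2 ^ 1))) ∧
      ∀ g : E, ∃ x c, g = FreeGroup.lift (fun t => cond t a b) x * (Subgroup.zpowers z).subtype c := by
  obtain ⟨x, y, hxy⟩ : ∃ x y : E, ¬ Commute x y := by
    by_contra hno
    push Not at hno
    haveI := Fintype.ofFinite E
    classical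
    have hsub : (Finset.univ : Finset E) ⊆ {1, z} := fun g _ => by
      rcases h.center g (hno g) with e | e <;> simp [e]
    have := (Finset.card_le_card hsub).trans Finset.card_le_two
    rw [Finset.card_univ, ← Nat.card_eq_fintype_card, hcard] at this
    norm_num at this
  have hrel : y * x = x * y * z := (h.comm x y).resolve_left fun e => hxy e.symm
  obtain ⟨a, b, hab, hkind⟩ : ∃ a b : E, b * a = a * b * z ∧
      ((a * a = 1 ∧ b * b = 1) ∨ (a * a = z ∧ b * b = z)) := by
    have hxyxy : x * y * (x * y) = x * x * (y * y) * z := by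
      calc x * y * (x * y) = x * (y * x) * y := by simp only [mul_assoc]
        _ = x * x * y * (z * y) := by rw [hrel]; simp only [mul_assoc]
        _ = x * x * (y * y) * z := by rw [(h.central y).eq]; simp only [mul_assoc]
    rcases h.sq x with ex | ex <;> rcases h.sq y with ey | ey
    · exact ⟨x, y, hrel, Or.inl ⟨ex, ey⟩⟩
    · refine ⟨x, x * y, by rw [mul_assoc x y x, hrel]; simp only [mul_assoc], Or.inl ⟨ex, ?_⟩⟩
      rw [hxyxy, ex, ey, one_mul, h.zz]
    · refine ⟨x * y, y, ?_, Or.inl ⟨?_, ey⟩⟩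
      · rw [← mul_assoc y x y, hrel, mul_assoc (x * y) z y, (h.central y).eq, ← mul_assoc]
      · rw [hxyxy, ex, ey, mul_one, h.zz]
    · exact ⟨x, y, hrel, Or.inr ⟨ex, ey⟩⟩
  have hzo : orderOf z = 2 := orderOf_eq_prime (by rw [pow_two]; exact h.zz) h.ne
  have hzc : Nat.card (Subgroup.zpowers z) = 2 := by rw [Nat.card_zpowers, hzo]
  have hcov : ∀ g : E, ∃ i j : ℕ, ∃ c ∈ Subgroup.zpowers z, g = (a ^ i * b ^ j)⁻¹ * c := by
    intro g
    obtain ⟨i, j, hi, hj⟩ := exists_step h hab g
    refine ⟨i, j, a ^ i * b ^ j * g, ?_, by group⟩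
    set K := Subgroup.centralizer ({a ^ i * b ^ j * g} : Set E) with hK
    by_contra hnot
    have hne1 : a ^ i * b ^ j * g ≠ 1 := fun e => hnot (e ▸ one_mem _)
    have hnez : a ^ i * b ^ j * g ≠ z := fun e => hnot (e ▸ Subgroup.mem_zpowers z)
    have hidx : K.index = 2 := card_centralizer h hne1 hnez
    have h4 : Nat.card K = 4 := by
      have := K.card_mul_index
      rw [hidx, hcard] at this
      omega
    haveI : Fact (Nat.Prime 2) := ⟨Nat.prime_two⟩
    have hKab := IsPGroup.commutative_of_card_eq_prime_sq (p := 2) (G := K) (by rw [h4]; norm_num)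
    have hab' : a * b = b * a := congrArg Subtype.val (hKab (⟨a, Subgroup.mem_centralizer_singleton_iff.2 hi.eq.symm⟩ : K)
      ⟨b, Subgroup.mem_centralizer_singleton_iff.2 hj.eq.symm⟩)
    rw [← hab'] at hab
    exact h.ne (mul_eq_left.1 hab.symm)
  refine ⟨a, b, ?_, fun g => ?_⟩
  · rcases hkind with ⟨ea, eb⟩ | ⟨ea, eb⟩
    · refine Or.inl ⟨⟨h, hab, by rw [pow_zero]; exact ea, by rw [pow_zero]; exact eb⟩, ?_, fun A hA => ?_⟩
      · have hS := Local.elemAb_sup (Local.elemAb_zpowers (p := 2) (a := z) (by rw [pow_two]; exact h.zz))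
          (Local.elemAb_zpowers (p := 2) (a := a) (by rw [pow_two]; exact ea)) (by
          intro u hu v hv
          obtain ⟨s, rfl⟩ := Subgroup.mem_zpowers_iff.1 hu
          exact ((h.central v).zpow_left s).eq)
        have hlt : Subgroup.zpowers z < Subgroup.zpowers z ⊔ Subgroup.zpowers a := by
          refine lt_of_le_of_ne le_sup_left fun e => ?_
          have ha : a ∈ Subgroup.zpowers z := e.ge (Subgroup.mem_sup_right (Subgroup.mem_zpowers a))
          obtain ⟨s, rfl⟩ := Subgroup.mem_zpowers_iff.1 ha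
          rw [← ((h.central b).zpow_left s).eq] at hab
          exact h.ne (mul_eq_left.1 hab.symm)
        have h2 := Local.two_mul_card_le hS hlt
        rw [hzc] at h2
        obtain ⟨K, -, hK, hKc⟩ := Local.exists_subgroup_two_pow hS le_sup_left (n := 1) (m := 2)
          (by rw [hzc, pow_one]) (by omega) (by simpa using h2)
        exact ⟨K, Local.elemAb_mono hS hK, hKc⟩
      · haveI : Fact (Nat.Prime 2) := ⟨Nat.prime_two⟩
        obtain ⟨k, hk⟩ := Local.elemAb_card_pow hA
        rw [hk]
        refine Nat.pow_le_pow_right two_pos ?_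
        by_contra hgt
        have hle := Nat.le_of_dvd Nat.card_pos (Subgroup.card_subgroup_dvd_card A)
        rw [hk, hcard] at hle
        have hk3 : k = 3 := by
          have := (Nat.pow_le_pow_iff_right (by norm_num)).1 hle
          omega
        subst hk3
        have htop : A = ⊤ := Subgroup.eq_top_of_card_eq A (by rw [hk, hcard])
        have := Local.elemAb_commute hA (htop ▸ Subgroup.mem_top a) (htop ▸ Subgroup.mem_top b)
        rw [← this] at hab
        exact h.ne (mul_eq_left.1 hab.symm)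
    · refine Or.inr ⟨⟨h, hab, by rw [pow_one]; exact ea, by rw [pow_one]; exact eb⟩,
        ⟨Subgroup.zpowers z, Local.elemAb_zpowers (by rw [pow_two]; exact h.zz), by rw [hzc, pow_one]⟩, fun A hA => ?_⟩
      have hle : A ≤ Subgroup.zpowers z := by
        intro u hu
        by_contra hnot
        obtain ⟨i, j, c, hc, hg⟩ := hcov u
        have hu2 : u * u = 1 := by rw [← pow_two]; exact hA.2 u hu
        have hP : Pair a b z 1 1 := ⟨h, hab, by rw [pow_one]; exact ea, by rw [pow_one]; exact eb⟩
        obtain ⟨s, hs⟩ := Subgroup.mem_zpowers_iff.1 hc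
        have hw : a ^ i * b ^ j = nf a b z i j 0 := by simp [nf]
        have hcomm : Commute (a ^ i * b ^ j)⁻¹ c := hs ▸ ((h.central _).zpow_left s).symm
        have hc2 : c * c = 1 := by rw [← hs, ← (Commute.refl z).mul_zpow, h.zz, one_zpow]
        have hsq : nf a b z i j 0 * nf a b z i j 0 = 1 := by
          rw [← hw]
          rw [hg, mul_assoc, ← mul_assoc c, ← hcomm.eq, mul_assoc _ c c, hc2, mul_one] at hu2
          rw [← mul_inv_rev] at hu2
          exact inv_eq_one.1 hu2
        have hm : Even i ∧ Even j := by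
          rw [nf_mul h hab, ← two_mul, ← two_mul, hP.nf_even, hP.z_pow_iff] at hsq
          simp only [one_mul, zero_add, Nat.even_add, Nat.even_mul] at hsq
          by_cases hi : Even i <;> by_cases hj : Even j <;> simp_all
        obtain ⟨⟨i₀, rfl⟩, ⟨j₀, rfl⟩⟩ := hm
        apply hnot
        rw [hg, hw, ← two_mul, ← two_mul, hP.nf_even]
        exact mul_mem (inv_mem (pow_mem (Subgroup.mem_zpowers z) _)) hc
      exact le_trans (Nat.le_of_dvd Nat.card_pos (Subgroup.card_dvd_of_le hle)) (by rw [hzc, pow_one])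
  · obtain ⟨i, j, c, hc, hg⟩ := hcov g
    refine ⟨((FreeGroup.of true) ^ i * (FreeGroup.of false) ^ j)⁻¹, ⟨c, hc⟩, ?_⟩
    simp only [map_inv, map_mul, map_pow, FreeGroup.lift_apply_of, cond_true, cond_false, Subgroup.coe_subtype]
    exact hg

end

theorem main : ∀ (n : ℕ), 1 ≤ n → ∀ (E : Type u) [Group E] [Finite E] (z : E), Ext2 E z →
    Nat.card E = 2 ^ (2 * n + 1) →
    (IsRk E (2 ^ n) ∨ IsRk E (2 ^ (n + 1))) ∧
    ∀ (E' : Type v) [Group E'] [Finite E'] (z' : E'), Ext2 E' z' → Nat.card E' = 2 ^ (2 * n + 1) →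
      ∀ m, IsRk E m → IsRk E' m → ∃ e : E ≃* E', e z = z' := by
  intro n hn
  induction n with
  | zero => omega
  | succ n ih =>
    intro E _ _ z h hcard
    have hzz : ∀ {E' : Type v} [Group E'] {z' : E'} (h' : Ext2 E' z') (e : E ≃* E'), e z = z' := by
      intro E' _ z' h' e
      refine (h'.center (e z) fun k => ?_).resolve_left fun e1 => h.ne (e.injective (by rw [e1, map_one]))
      have := (h.central (e.symm k)).map e.toMonoidHom
      simpa using this
    rcases Nat.eq_zero_or_pos n with rfl | hn0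
    · obtain ⟨a, b, hk, hgen⟩ := base h hcard
      refine ⟨hk.elim (fun hh => Or.inr hh.2) (fun hh => Or.inl hh.2), fun E' _ _ z' h' hcard' m hm hm' => ?_⟩
      obtain ⟨a', b', hk', hgen'⟩ := base h' hcard'
      have hzo : ∀ {F : Type u} [Group F] {w : F}, Ext2 F w → orderOf w = 2 := fun hw =>
        orderOf_eq_prime (by rw [pow_two]; exact hw.zz) hw.ne
      have hz2' : orderOf z' = 2 := orderOf_eq_prime (by rw [pow_two]; exact h'.zz) h'.ne
      let eZ : Subgroup.zpowers z ≃* Subgroup.zpowers z' :=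
        mulEquivOfCyclicCardEq (by rw [Nat.card_zpowers, Nat.card_zpowers, hzo h, hz2'])
      have heZ : eZ ⟨z, Subgroup.mem_zpowers z⟩ = ⟨z', Subgroup.mem_zpowers z'⟩ := by
        set w := eZ ⟨z, Subgroup.mem_zpowers z⟩ with hw
        obtain ⟨s, hs⟩ := Subgroup.mem_zpowers_iff.1 w.2
        apply Subtype.ext
        show (w : E') = z'
        have hw1 : (w : E') ≠ 1 := fun e1 => h.ne (by
          have : w = 1 := Subtype.ext e1
          rw [hw] at this
          exact congrArg Subtype.val (eZ.injective (this.trans (map_one eZ).symm)))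
        rcases Int.even_or_odd' s with ⟨t, rfl | rfl⟩
        · exact absurd (by rw [← hs, zpow_mul, zpow_two, h'.zz, one_zpow]) hw1
        · rw [← hs, zpow_add, zpow_mul, zpow_two, h'.zz, one_zpow, one_mul, zpow_one]
      have hcz : ∀ {F : Type u} [Group F] {w x y : F}, Ext2 F w → ∀ c : Subgroup.zpowers w,
          Commute (c : F) x ∧ Commute (c : F) y := fun {F} _ {w x y} hw c => by
        obtain ⟨s, hs⟩ := Subgroup.mem_zpowers_iff.1 c.2
        rw [← hs]; exact ⟨(hw.central x).zpow_left s, (hw.central y).zpow_left s⟩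
      have hcz' : ∀ c : Subgroup.zpowers z, Commute ((eZ c : Subgroup.zpowers z') : E') a' ∧
          Commute ((eZ c : Subgroup.zpowers z') : E') b' := fun c => by
        obtain ⟨s, hs⟩ := Subgroup.mem_zpowers_iff.1 (eZ c).2
        rw [← hs]; exact ⟨(h'.central a').zpow_left s, (h'.central b').zpow_left s⟩
      have key : ∀ α, Pair a b z α α → Pair a' b' z' α α → ∃ e : E ≃* E', e z = z' := fun α hp hp' => by
        obtain ⟨e⟩ := hp.glue hp' (hcard.trans hcard'.symm) (Subgroup.zpowers z).subtype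
          ((Subgroup.zpowers z').subtype.comp eZ.toMonoidHom) ⟨z, Subgroup.mem_zpowers z⟩ rfl
          (congrArg Subtype.val heZ) (Subgroup.subtype_injective _) (hcz h) hcz' (fun g => by
            obtain ⟨x, c, rfl⟩ := hgen' g
            exact ⟨x, eZ.symm c, by simp⟩) hgen
        exact ⟨e, hzz h' e⟩
      rcases hk with ⟨hp, hr⟩ | ⟨hp, hr⟩ <;> rcases hk' with ⟨hp', hr'⟩ | ⟨hp', hr'⟩
      · exact key 0 hp hp'
      · exact absurd ((hr.unique hm).trans (hm'.unique hr')) (by norm_num)
      · exact absurd ((hr.unique hm).trans (hm'.unique hr')) (by norm_num)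
      · exact key 1 hp hp'
    obtain ⟨a, b, C, hzC, hP, hc, hgen, hcC, hC, hrk⟩ :=
      decompose h (n := n) hn0 (by rw [hcard]; ring_nf)
    obtain ⟨hR, hiso⟩ := ih hn0 C ⟨z, hzC⟩ hC hcC
    refine ⟨?_, fun E' _ _ z' h' hcard' m hm hm' => ?_⟩
    · rcases hR with hR | hR
      · left; rw [pow_succ, mul_comm]; exact hrk _ hR
      · right; rw [pow_succ 2 (n + 1), mul_comm]; exact hrk _ hR
    obtain ⟨a', b', C', hzC', hP', hc', hgen', hcC', hC', hrk'⟩ :=
      decompose h' (n := n) hn0 (by rw [hcard']; ring_nf)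
    obtain ⟨m1, hm1⟩ : ∃ m1, IsRk C m1 := hR.elim (fun x => ⟨_, x⟩) (fun x => ⟨_, x⟩)
    obtain ⟨m2, hm2⟩ : ∃ m2, IsRk C' m2 := by
      refine ⟨m1, ?_⟩
      classical
      haveI := Fintype.ofFinite (Subgroup C')
      obtain ⟨A, hA, hmax⟩ := Finset.exists_max_image
        (Finset.univ.filter fun A : Subgroup C' => Cfsg.IsElementaryAbelian 2 A) (fun A => Nat.card A)
        ⟨⊥, Finset.mem_filter.2 ⟨Finset.mem_univ _, ⟨⟨⟨fun x y => Subsingleton.elim _ _⟩⟩,
          fun x hx => by rw [Subgroup.mem_bot.1 hx, one_pow]⟩⟩⟩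
      have hk : IsRk C' (Nat.card A) := ⟨⟨A, (Finset.mem_filter.1 hA).2, rfl⟩,
        fun B hB => hmax B (Finset.mem_filter.2 ⟨Finset.mem_univ _, hB⟩)⟩
      have e := ((hrk _ hm1).unique hm).trans (hm'.unique (hrk' _ hk))
      rwa [Nat.eq_of_mul_eq_mul_left two_pos e]
    have hm12 : m1 = m2 := Nat.eq_of_mul_eq_mul_left two_pos
      (((hrk _ hm1).unique hm).trans (hm'.unique (hrk' _ hm2)))
    subst hm12
    obtain ⟨eC, heC⟩ := hiso C' ⟨z', hzC'⟩ hC' hcC' m1 hm1 hm2
    obtain ⟨e⟩ := hP.glue hP' (hcard.trans hcard'.symm) C.subtype (C'.subtype.comp eC.toMonoidHom)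
      ⟨z, hzC⟩ rfl (congrArg Subtype.val heC) C.subtype_injective hc (fun c => hc' (eC c)) (fun g => by
        obtain ⟨x, c, rfl⟩ := hgen' g
        exact ⟨x, eC.symm c, by simp⟩) hgen
    exact ⟨e, hzz h' e⟩

theorem of_extraspecial {E : Type u} [Group E] [Finite E] (hE : Cfsg.IsExtraspecial 2 E) :
    ∃ z : E, Ext2 E z := by
  haveI : Fact (Nat.Prime 2) := ⟨Nat.prime_two⟩
  obtain ⟨w, hw, huniq⟩ := (Nat.card_eq_two_iff' (1 : Subgroup.center E)).1 hE.2
  have hcl : ∀ g : E, g ∈ Subgroup.center E → g = 1 ∨ g = (w : E) := fun g hg => by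
    by_cases h1 : (⟨g, hg⟩ : Subgroup.center E) = 1
    · exact Or.inl (congrArg Subtype.val h1)
    · exact Or.inr (congrArg Subtype.val (huniq _ h1))
  refine ⟨w, fun e => hw (Subtype.ext e), fun g => (Subgroup.mem_center_iff.1 w.2 g).symm, fun g hg =>
    hcl g (Subgroup.mem_center_iff.2 fun k => (hg k).eq.symm), fun g => ?_, fun g k => ?_⟩
  · rw [← pow_two]; exact hcl _ (extraspecial_pow_mem_center hE g)
  · have hm : ⁅k, g⁆ ∈ Subgroup.center E :=
      hE.1.2.2.le (Subgroup.commutator_mem_commutator (Subgroup.mem_top k) (Subgroup.mem_top g))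
    have e : k * g = g * k * ⁅k, g⁆ := by
      rw [Subgroup.mem_center_iff.1 hm (g * k), commutatorElement_def]; group
    rcases hcl _ hm with h1 | h1
    · left; rw [e, h1, mul_one]
    · right; conv_lhs => rw [e, h1]

end Cfsg.Agent.Solv.ExtTwo
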