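import Cfsg.Agent.Lib.Solv.FPFCore
import Cfsg.Agent.Lib.Solv.Basic
import Cfsg.Agent.S3736
import Mathlib.GroupTheory.SemidirectProduct

/-!
Auxiliary facts on automorphisms of `p`-power order: fixed cosets, free permutations, and the shape of
a `q`-group on which the top power of such an automorphism is minimally nontrivial.
-/

set_option autoImplicit false
set_option linter.style.haveILetI false
open Cfsg

open scoped commutatorElement

namespace Cfsg.Agent.Solv.FPFOp

universe u

/-- A fixed coset of an invariant subgroup of order prime to `p` contains a fixed element. -/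
theorem exists_fixed_in_left_coset {Q : Type u} [Group Q] [Finite Q] {p k : ℕ} [Fact p.Prime] (α : MulAut Q)
    (hα : α ^ p ^ k = 1) (N : Subgroup Q) (hN : ∀ x ∈ N, α x ∈ N) (hp : ¬ p ∣ Nat.card N) {a : Q}
    (ha : a⁻¹ * α a ∈ N) : ∃ c, α c = c ∧ a⁻¹ * c ∈ N := by
  classical
  have hstep : ∀ x : Q, a⁻¹ * x ∈ N → a⁻¹ * α x ∈ N := by
    intro x hx
    have h1 : a⁻¹ * α x = (a⁻¹ * α a) * α (a⁻¹ * x) := by rw [map_mul, map_inv]; group
    rw [h1]
    exact N.mul_mem ha (hN _ hx)
  let g : {x : Q // a⁻¹ * x ∈ N} → {x : Q // a⁻¹ * x ∈ N} := fun x => ⟨α x.1, hstep _ x.2⟩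
  have hginj : Function.Injective g := fun x y h => Subtype.ext (α.injective (congrArg Subtype.val h))
  let π : Equiv.Perm {x : Q // a⁻¹ * x ∈ N} := Equiv.ofBijective g (Finite.injective_iff_bijective.1 hginj)
  have hπi : ∀ (i : ℕ) (x : {x : Q // a⁻¹ * x ∈ N}), ((π ^ i) x).1 = (α ^ i) x.1 := by
    intro i
    induction i with
    | zero => intro x; rfl
    | succ i ih =>
      intro x
      rw [pow_succ', Equiv.Perm.mul_apply, pow_succ', MulAut.mul_apply, ← ih]
      rfl
  have hcard : Nat.card {x : Q // a⁻¹ * x ∈ N} = Nat.card N := Nat.card_congr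
    { toFun := fun x => (⟨a⁻¹ * x.1, x.2⟩ : N)
      invFun := fun n => ⟨a * n, by rw [inv_mul_cancel_left]; exact n.2⟩
      left_inv := fun x => Subtype.ext (mul_inv_cancel_left a x.1)
      right_inv := fun n => Subtype.ext (inv_mul_cancel_left a (n : Q)) }
  obtain ⟨c, hc⟩ := exists_fixed_of_not_dvd π (k := k)
    (Equiv.ext fun x => Subtype.ext (by rw [hπi, hα]; rfl)) (hcard ▸ hp)
  exact ⟨c.1, congrArg Subtype.val hc, c.2⟩

theorem not_dvd_of_pgroup {Q : Type u} [Group Q] [Finite Q] {p q : ℕ} [Fact p.Prime] [Fact q.Prime]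
    (hqp : q ≠ p) (hQ : IsPGroup q Q) (N : Subgroup Q) : ¬ p ∣ Nat.card N := by
  obtain ⟨k, hk⟩ := IsPGroup.iff_card.1 (hQ.to_subgroup N)
  rw [hk]
  exact fun h => hqp ((Nat.prime_dvd_prime_iff_eq (Fact.out : p.Prime) (Fact.out : q.Prime)).1
    ((Fact.out : p.Prime).dvd_of_dvd_pow h)).symm

/-- Fixed cosets of invariant subgroups under a fixed-point-free automorphism. -/
theorem mem_of_fixed_coset {Q : Type u} [Group Q] [Finite Q] {p q k : ℕ} [Fact p.Prime] [Fact q.Prime]
    (hqp : q ≠ p) (hQ : IsPGroup q Q) (α : MulAut Q) (hα : α ^ p ^ k = 1) (hfpf : ∀ a, α a = a → a = 1)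
    (N : Subgroup Q) (hN : ∀ x ∈ N, α x ∈ N) {a : Q} (ha : a⁻¹ * α a ∈ N) : a ∈ N := by
  obtain ⟨c, hc, hac⟩ := exists_fixed_in_left_coset α hα N hN (not_dvd_of_pgroup hqp hQ N) ha
  rw [hfpf c hc, mul_one] at hac
  exact N.inv_mem_iff.1 hac

/-- A permutation without short cycles: its order divides the number of points. -/
theorem dvd_card_of_free {α : Type*} [Finite α] (π : Equiv.Perm α) {P : ℕ} (hP0 : 0 < P) (hP : π ^ P = 1)
    (hfree : ∀ x, ∀ i, 0 < i → i < P → (π ^ i) x ≠ x) : P ∣ Nat.card α := by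
  classical
  haveI := Fintype.ofFinite α
  haveI : Fintype (MulAction.orbitRel.Quotient (Subgroup.zpowers π) α) := Fintype.ofFinite _
  have horb : ∀ x : α, Nat.card (MulAction.orbit (Subgroup.zpowers π) x) = P := by
    intro x
    rw [Nat.card_eq_fintype_card, ← MulAction.minimalPeriod_eq_card]
    have hiter : ∀ i, (fun y => π • y)^[i] x = (π ^ i) x := fun i => by
      rw [smul_iterate]; rfl
    have hper : (fun y => π • y)^[P] x = x := by rw [hiter, hP, Equiv.Perm.one_apply]
    refine le_antisymm (Function.IsPeriodicPt.minimalPeriod_le hP0 hper) ?_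
    by_contra hlt
    push Not at hlt
    refine hfree x _ (Function.IsPeriodicPt.minimalPeriod_pos hP0 hper) hlt ?_
    rw [← hiter]
    exact Function.iterate_minimalPeriod
  rw [Nat.card_congr (MulAction.selfEquivSigmaOrbits (Subgroup.zpowers π) α), Nat.card_sigma,
    Finset.sum_congr rfl (fun ω _ => horb _), Finset.sum_const, smul_eq_mul]
  exact dvd_mul_left _ _

/-- The shape of a `q`-group on which a power `τ` of `σ` of order prime to `q` is minimally nontrivial. -/
theorem minimal_action {Q : Type u} [Group Q] [Finite Q] {q : ℕ} [Fact q.Prime] (hQ : IsPGroup q Q)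
    (σ : MulAut Q) (j : ℕ) (hco : (orderOf (σ ^ j)).Coprime q) (hne : σ ^ j ≠ 1)
    (hmin : ∀ U : Subgroup Q, U ≠ ⊤ → (∀ a ∈ U, σ a ∈ U) → ∀ a ∈ U, (σ ^ j) a = a) :
    ((∀ a b : Q, a * b = b * a) ∨ (frattini Q = Subgroup.center Q ∧ commutator Q = Subgroup.center Q)) ∧
      (∀ U : Subgroup Q, frattini Q ≤ U → (∀ a ∈ U, σ a ∈ U) → U = frattini Q ∨ U = ⊤) ∧
      ∀ K : Subgroup Q, K.Normal → (∀ a, a⁻¹ * (σ ^ j) a ∈ K) → K = ⊤ := by
  classical
  let X := Q ⋊[(Subgroup.zpowers σ).subtype] (Subgroup.zpowers σ)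
  haveI : Finite (MulAut Q) := Finite.of_injective _ DFunLike.coe_injective
  haveI : Finite X := Finite.of_injective (fun x => (x.left, x.right))
    fun x y h => SemidirectProduct.ext (Prod.ext_iff.1 h).1 (Prod.ext_iff.1 h).2
  let iQ : Q →* X := SemidirectProduct.inl
  let iS : Subgroup.zpowers σ →* X := SemidirectProduct.inr
  have hiQinj : Function.Injective iQ := SemidirectProduct.inl_injective
  have hconj : ∀ (t : Subgroup.zpowers σ) (a : Q), iS t * iQ a * (iS t)⁻¹ = iQ ((t : MulAut Q) a) := fun t a => by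
    show SemidirectProduct.inr t * SemidirectProduct.inl a * (SemidirectProduct.inr t)⁻¹ = _
    rw [← map_inv]
    exact (SemidirectProduct.inl_aut t a).symm
  set τ₀ : Subgroup.zpowers σ := ⟨σ ^ j, Subgroup.pow_mem _ (Subgroup.mem_zpowers σ) j⟩ with hτ₀
  set P := iQ.range with hP
  set B := iS.range with hB
  set A := Subgroup.zpowers (iS τ₀) with hA
  have hPq : IsPGroup q P := hQ.of_surjective iQ.rangeRestrict iQ.rangeRestrict_surjective
  have hBP : B ≤ Subgroup.normalizer (P : Set X) := by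
    rintro _ ⟨t, rfl⟩
    refine Subgroup.mem_normalizer_iff.2 fun x => ⟨?_, ?_⟩
    · rintro ⟨a, rfl⟩; exact ⟨(t : MulAut Q) a, (hconj t a).symm⟩
    · rintro ⟨a, ha⟩
      refine ⟨((t⁻¹ : Subgroup.zpowers σ) : MulAut Q) a, ?_⟩
      rw [← hconj, map_inv, ha, inv_inv]
      group
  have hAB : A ≤ B := Subgroup.zpowers_le.2 ⟨τ₀, rfl⟩
  have hAn : B ≤ Subgroup.normalizer (A : Set X) := by
    rintro _ ⟨t, rfl⟩
    refine Subgroup.mem_normalizer_iff.2 fun x => ?_
    have hc : ∀ y ∈ A, iS t * y * (iS t)⁻¹ = y := by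
      intro y hy
      obtain ⟨i, rfl⟩ := Subgroup.mem_zpowers_iff.1 hy
      rw [← map_zpow, ← map_mul, ← map_inv, ← map_mul]
      congr 1
      have hcom : t * τ₀ ^ i = τ₀ ^ i * t := by
        obtain ⟨a, ha⟩ := Subgroup.mem_zpowers_iff.1 t.2
        apply Subtype.ext
        simp only [Subgroup.coe_mul, SubgroupClass.coe_zpow, hτ₀, ← ha]
        exact ((Commute.refl σ).zpow_left a).pow_right j |>.zpow_right i
      rw [hcom, mul_inv_cancel_right]
    constructor
    · intro hx; rwa [hc x hx]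
    · intro hx
      have h1 := hc _ hx
      have h2 : iS t * x * (iS t)⁻¹ = x := mul_left_cancel (a := iS t) (mul_right_cancel h1)
      rwa [h2] at hx
  have hAco : (Nat.card A).Coprime q := by
    rw [hA, Nat.card_zpowers]
    refine Nat.Coprime.coprime_dvd_left ((orderOf_map_dvd iS τ₀).trans ?_) hco
    rw [← Subgroup.orderOf_coe]
  have hcomm : ∀ (U : Subgroup Q), (∀ a ∈ U, (σ ^ j) a = a) → ⁅U.map iQ, A⁆ = ⊥ := by
    intro U hU
    rw [Subgroup.commutator_eq_bot_iff_le_centralizer]
    rintro _ ⟨a, ha, rfl⟩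
    refine Subgroup.mem_centralizer_iff.2 fun y hy => ?_
    have h1 : Commute (iS τ₀) (iQ a) := by
      have h2 := hconj τ₀ a
      rw [show ((τ₀ : MulAut Q)) a = a from hU a ha] at h2
      exact mul_inv_eq_iff_eq_mul.1 h2
    obtain ⟨i, rfl⟩ := Subgroup.mem_zpowers_iff.1 hy
    exact (h1.zpow_left i).eq
  have hnt : ⁅P, A⁆ ≠ ⊥ := by
    intro h0
    apply hne
    ext a
    have h1 := Subgroup.commutator_eq_bot_iff_le_centralizer.1 h0 ⟨a, rfl⟩
    have h2 := Subgroup.mem_centralizer_iff.1 h1 (iS τ₀) (Subgroup.mem_zpowers _)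
    have h3 := hconj τ₀ a
    rw [h2, mul_inv_cancel_right] at h3
    exact (hiQinj h3).symm
  have hinvU : ∀ U : Subgroup X, B ≤ Subgroup.normalizer (U : Set X) → ∀ a ∈ U.comap iQ, σ a ∈ U.comap iQ := by
    intro U hU a ha
    show iQ (σ a) ∈ U
    rw [← hconj ⟨σ, Subgroup.mem_zpowers σ⟩ a]
    exact (Subgroup.mem_normalizer_iff.1 (hU ⟨_, rfl⟩) _).1 ha
  have hminX : ∀ U : Subgroup X, U < P → B ≤ Subgroup.normalizer (U : Set X) → ⁅U, A⁆ = ⊥ := by
    intro U hUP hBU
    have hUe : (U.comap iQ).map iQ = U := by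
      rw [Subgroup.map_comap_eq, inf_eq_right.2 hUP.le]
    rw [← hUe]
    refine hcomm _ (hmin _ (fun h => hUP.ne ?_) (hinvU U hBU))
    rw [← hUe, h, ← MonoidHom.range_eq_map]
  obtain ⟨h1, h2, h3, -⟩ := S3736.result B A P hPq hBP hAB hAn hAco hnt hminX
  let eP : Q ≃* P := MonoidHom.ofInjective hiQinj
  have hfr : (frattini ↥P).map P.subtype = (frattini Q).map iQ := by
    have he : (frattini Q).map eP.toMonoidHom = frattini ↥P := by
      refine le_antisymm
        (Subgroup.map_le_iff_le_comap.2 (frattini_le_comap_frattini_of_surjective (φ := (eP.toMonoidHom : Q →* ↥P)) eP.surjective)) ?_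
      intro y hy
      have h4 := frattini_le_comap_frattini_of_surjective (φ := (eP.symm.toMonoidHom : ↥P →* Q)) eP.symm.surjective hy
      exact ⟨eP.symm y, h4, eP.apply_symm_apply y⟩
    rw [← he, Subgroup.map_map]
    rfl
  refine ⟨?_, ?_, ?_⟩
  · rcases h2 with hel | hsp
    · refine Or.inl fun a b => ?_
      have h := congrArg Subtype.val (hel.1.is_comm.comm (⟨iQ a, a, rfl⟩ : P) ⟨iQ b, b, rfl⟩)
      have h' : iQ (a * b) = iQ (b * a) := by rw [map_mul, map_mul]; exact h
      exact hiQinj h'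
    · obtain ⟨-, hF, hC⟩ := hsp
      refine Or.inr ?_
      have hz : (Subgroup.center Q).map eP.toMonoidHom = Subgroup.center P := by
        ext y
        constructor
        · rintro ⟨x, hx, rfl⟩
          refine Subgroup.mem_center_iff.2 fun w => ?_
          obtain ⟨v, rfl⟩ := eP.surjective w
          show eP v * eP x = eP x * eP v
          rw [← map_mul, Subgroup.mem_center_iff.1 hx v, map_mul]
        · intro hy
          refine ⟨eP.symm y, Subgroup.mem_center_iff.2 fun w => eP.injective ?_, eP.apply_symm_apply y⟩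
          rw [map_mul, map_mul, MulEquiv.apply_symm_apply]
          exact Subgroup.mem_center_iff.1 hy _
      have hc' : (commutator Q).map eP.toMonoidHom = commutator P := by
        rw [commutator_def, commutator_def, Subgroup.map_commutator,
          show Subgroup.map eP.toMonoidHom ⊤ = ⊤ from Subgroup.map_top_of_surjective eP.toMonoidHom eP.surjective]
      have hinj := Subgroup.map_injective (f := P.subtype.comp eP.toMonoidHom)
        (P.subtype_injective.comp eP.injective)
      constructor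
      · apply hinj
        show (frattini Q).map _ = (Subgroup.center Q).map _
        rw [← Subgroup.map_map, ← Subgroup.map_map, hz, ← hF]
        have : (frattini Q).map eP.toMonoidHom = frattini ↥P := by
          apply Subgroup.map_injective P.subtype_injective
          rw [hfr, Subgroup.map_map]; rfl
        rw [this]
      · apply hinj
        show (commutator Q).map _ = (Subgroup.center Q).map _
        rw [← Subgroup.map_map, ← Subgroup.map_map, hz, hc', hC]
  · intro U hU hinv
    have hBU : B ≤ Subgroup.normalizer ((U.map iQ : Subgroup X) : Set X) := by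
      rintro _ ⟨t, rfl⟩
      have hcl : ∀ a ∈ U, (t : MulAut Q) a ∈ U := by
        obtain ⟨i, hi⟩ := (IsOfFinOrder.mem_powers_iff_mem_zpowers (isOfFinOrder_of_finite σ)).2 t.2
        intro a ha
        rw [← hi]
        show (σ ^ i) a ∈ U
        clear hi
        induction i with
        | zero => simpa using ha
        | succ i ih => rw [pow_succ', MulAut.mul_apply]; exact hinv _ ih
      refine mem_normalizer_of_conj_smul (Subgroup.eq_of_le_of_card_ge ?_ (by rw [card_conj_smul]))
      intro x hx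
      rw [mem_conj_smul] at hx
      obtain ⟨a, ha, hax⟩ := hx
      refine ⟨(t : MulAut Q) a, hcl a ha, ?_⟩
      rw [← hconj, hax]
      group
      exact mul_inv_cancel_right x _
    rcases h3 (U.map iQ) (hfr ▸ Subgroup.map_mono hU) (Subgroup.map_le_range iQ U) hBU with h | h
    · exact Or.inl (Subgroup.map_injective (f := iQ) hiQinj (h.trans hfr))
    · refine Or.inr (Subgroup.map_injective (f := iQ) hiQinj ?_)
      rw [h, ← MonoidHom.range_eq_map]
  · intro K hK hmem
    apply Subgroup.map_injective (f := iQ) hiQinj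
    rw [← MonoidHom.range_eq_map]
    refine le_antisymm (Subgroup.map_le_range iQ K) ?_
    rw [← hP, ← h1, Subgroup.commutator_le]
    rintro _ ⟨a, rfl⟩ y hy
    obtain ⟨i, rfl⟩ := (IsOfFinOrder.mem_powers_iff_mem_zpowers (isOfFinOrder_of_finite _)).2 hy
    have hmem' : ∀ (i : ℕ) (b : Q), b * (((σ ^ j) ^ i) b)⁻¹ ∈ K := by
      intro i
      induction i with
      | zero => intro b; simp
      | succ i ih =>
        intro b
        have h5 : b * (((σ ^ j) ^ (i + 1)) b)⁻¹
            = (b * ((σ ^ j) b)⁻¹) * (((σ ^ j) b) * (((σ ^ j) ^ i) ((σ ^ j) b))⁻¹) := by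
          rw [pow_succ, MulAut.mul_apply]; group
        rw [h5]
        refine K.mul_mem ?_ (ih _)
        have := hmem b⁻¹
        rw [map_inv, inv_inv] at this
        exact this
    refine ⟨a * (((σ ^ j) ^ i) a)⁻¹, hmem' i a, ?_⟩
    rw [map_mul, map_inv, commutatorElement_def]
    have h5 := hconj (τ₀ ^ i) a
    rw [map_pow] at h5
    rw [show ((σ ^ j) ^ i) a = ((τ₀ ^ i : Subgroup.zpowers σ) : MulAut Q) a by simp [hτ₀], ← h5]
    show iQ a * (iS τ₀ ^ i * iQ a * (iS τ₀ ^ i)⁻¹)⁻¹ = iQ a * iS τ₀ ^ i * (iQ a)⁻¹ * (iS τ₀ ^ i)⁻¹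
    group

end Cfsg.Agent.Solv.FPFOp
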