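import Mathlib.NumberTheory.Multiplicity

/-!
The exponent `D` with `p ^ (i + m) ∣ 2 ^ D - 1` when `p ^ m = 2 ^ b + 1`.
-/

set_option autoImplicit false

namespace Cfsg.Agent.Solv.FPFOp

/-- If `p ^ m = 2 ^ b + 1` and `p ^ (i + m)` divides `2 ^ D - 1`, then `2 * b * p ^ i` divides `D`. -/
theorem dvd_exponent {p b m i D : ℕ} [Fact p.Prime] (hp2 : p ≠ 2) (hb : 1 ≤ b) (hm : 1 ≤ m)
    (he : p ^ m = 2 ^ b + 1) (hd : p ^ (i + m) ∣ 2 ^ D - 1) : 2 * b * p ^ i ∣ D := by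
  have hpp : p.Prime := Fact.out
  have hpodd : Odd p := hpp.odd_of_ne_two hp2
  have hN : 2 ≤ 2 ^ b := Nat.le_self_pow (by omega) 2
  have hsq : p ^ m ∣ 2 ^ (2 * b) - 1 := by
    refine ⟨2 ^ b - 1, ?_⟩
    rw [he, mul_comm 2 b, pow_mul]
    obtain ⟨x, hx⟩ : ∃ x, 2 ^ b = x + 1 := ⟨2 ^ b - 1, by omega⟩
    rw [hx, Nat.add_sub_cancel]
    have : (x + 1) ^ 2 = (x + 1 + 1) * x + 1 := by ring
    omega
  have hDm : p ^ m ∣ 2 ^ D - 1 := (pow_dvd_pow p (Nat.le_add_left m i)).trans hd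
  obtain ⟨k, r, hr, hD⟩ : ∃ k r, r < 2 * b ∧ D = r + 2 * b * k :=
    ⟨D / (2 * b), D % (2 * b), Nat.mod_lt _ (by omega), (Nat.mod_add_div D (2 * b)).symm⟩
  have hr0 : p ^ m ∣ 2 ^ r - 1 := by
    have h1 : p ^ m ∣ 2 ^ (2 * b * k) - 1 :=
      hsq.trans (Nat.pow_sub_one_dvd_pow_sub_one 2 ⟨k, rfl⟩)
    have h2 : 2 ^ D - 1 = 2 ^ r * (2 ^ (2 * b * k) - 1) + (2 ^ r - 1) := by
      have hX : 1 ≤ 2 ^ (2 * b * k) := Nat.one_le_two_pow
      have hY : 1 ≤ 2 ^ r := Nat.one_le_two_pow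
      rw [hD, pow_add, Nat.mul_sub, mul_one]
      have : 2 ^ r ≤ 2 ^ r * 2 ^ (2 * b * k) := Nat.le_mul_of_pos_right _ hX
      omega
    rw [h2] at hDm
    exact (Nat.dvd_add_right (dvd_mul_of_dvd_right h1 _)).1 hDm
  have hr1 : r = 0 := by
    by_contra hr1
    rcases Nat.lt_or_ge b r with hbr | hbr
    · have h3 : p ^ m ∣ 2 ^ (r - b) + 1 := by
        have h4 : (2 ^ r - 1) + (2 ^ (r - b) + 1) = 2 ^ (r - b) * (2 ^ b + 1) := by
          rw [Nat.mul_add, mul_one, ← pow_add, show r - b + b = r by omega]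
          have : 1 ≤ 2 ^ r := Nat.one_le_two_pow
          omega
        have h5 : p ^ m ∣ (2 ^ r - 1) + (2 ^ (r - b) + 1) := by rw [h4, he]; exact dvd_mul_left _ _
        exact (Nat.dvd_add_right hr0).1 h5
      have h6 := Nat.le_of_dvd (by positivity) h3
      have h7 : 2 ^ (r - b) < 2 ^ b := Nat.pow_lt_pow_right (by norm_num) (by omega)
      omega
    · have h6 : 2 ^ r ≤ 2 ^ b := Nat.pow_le_pow_right (by norm_num) hbr
      have h7 : 2 ≤ 2 ^ r := Nat.le_self_pow hr1 2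
      have h8 := Nat.le_of_dvd (by omega) hr0
      omega
  subst hr1
  rw [zero_add] at hD
  subst hD
  refine mul_dvd_mul_left _ ?_
  rcases Nat.eq_zero_or_pos k with rfl | hk
  · exact dvd_zero _
  have hp1 : p ∣ 2 ^ (2 * b) - 1 := (dvd_pow_self p (by omega)).trans hsq
  have hnd : ¬ p ∣ 2 ^ (2 * b) := fun h =>
    hp2 ((Nat.prime_dvd_prime_iff_eq hpp Nat.prime_two).1 (hpp.dvd_of_dvd_pow h))
  have hlte := Nat.emultiplicity_pow_sub_pow hpp hpodd (x := 2 ^ (2 * b)) (y := 1) hp1 hnd k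
  rw [one_pow, ← pow_mul] at hlte
  have hm' : emultiplicity p (2 ^ (2 * b) - 1) = (m : ℕ∞) := by
    refine emultiplicity_eq_coe.2 ⟨hsq, fun h => ?_⟩
    obtain ⟨x, hx⟩ : ∃ x, 2 ^ b = x + 1 := ⟨2 ^ b - 1, by omega⟩
    have h9 : 2 ^ (2 * b) - 1 = p ^ m * x := by
      rw [he, mul_comm 2 b, pow_mul, hx]
      have : (x + 1) ^ 2 = (x + 1 + 1) * x + 1 := by ring
      omega
    rw [h9, pow_succ] at h
    have h10 : p ∣ x := Nat.dvd_of_mul_dvd_mul_left (pow_pos hpp.pos m) h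
    have h11 : p ∣ 2 ^ b + 1 := he ▸ dvd_pow_self p (by omega)
    have h12 : p ∣ 2 := by
      have := Nat.dvd_sub h11 h10
      rwa [show 2 ^ b + 1 - x = 2 by omega] at this
    exact hp2 ((Nat.prime_dvd_prime_iff_eq hpp Nat.prime_two).1 h12)
  rw [hm'] at hlte
  refine pow_dvd_of_le_emultiplicity ?_
  have h13 := le_emultiplicity_of_pow_dvd hd
  rw [hlte, Nat.cast_add, add_comm (i : ℕ∞)] at h13
  exact (ENat.add_le_add_iff_left (ENat.natCast_ne_top m)).1 h13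

end Cfsg.Agent.Solv.FPFOp
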