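import Cfsg.Agent.Lib.Solv.FPFCore
import Cfsg.Agent.Lib.Solv.TheoremB

/-!
Weight spaces and twisted intertwiners for operators acting on a representation together with an
automorphism of the group.
-/

set_option autoImplicit false
set_option linter.style.haveILetI false

open scoped commutatorElement

namespace Cfsg.Agent.Solv.FPFOp

open Cfsg.Agent.Solv.CRep

universe u v

variable {K : Type*} [Field K] [IsAlgClosed K]
variable {W : Type v} [AddCommGroup W] [Module K W] [FiniteDimensional K W]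

/-- Commuting operators have a common eigenvector. -/
theorem exists_weight {A : Type*} [Group A] [Nontrivial W] (ρ : A →* Module.End K W)
    (hc : ∀ a b, ρ a * ρ b = ρ b * ρ a) :
    ∃ (v : W) (μ : A → K), v ≠ 0 ∧ ∀ a, ρ a v = μ a • v := by
  obtain ⟨U, hU, hs⟩ := exists_simple ρ
  have hsc : ∀ a, ∃ c : K, subRep ρ U hU a = c • (1 : Module.End K U) := fun a =>
    schur hs _ fun g => LinearMap.ext fun w => Subtype.ext (LinearMap.congr_fun (hc a g) (w : W))
  choose μ hμ using hsc
  haveI := hs.1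
  obtain ⟨w, hw⟩ := exists_ne (0 : U)
  exact ⟨w, μ, fun h => hw (Subtype.ext h),
    fun a => congrArg Subtype.val (LinearMap.congr_fun (hμ a) w)⟩

/-- The period of a weight under an automorphism whose operator has no fixed vector. -/
theorem weight_period {Q : Type u} [Group Q] {p n : ℕ} (hp : p.Prime) (σ : MulAut Q)
    (hσ : σ ^ p ^ n = 1) (ρ : Q →* Module.End K W) (S : Module.End K W) (hS : S ^ p ^ n = 1)
    (hSc : ∀ a, S * ρ a = ρ (σ a) * S) (hfix : ∀ w, S w = w → w = 0)
    (A : Set Q) (hA : ∀ a ∈ A, σ a ∈ A) (μ : Q → K) (v : W) (hv0 : v ≠ 0)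
    (hv : ∀ a ∈ A, ρ a v = μ a • v) :
    ∃ e m : ℕ, 1 ≤ m ∧ n = e + m ∧ (∀ a ∈ A, μ ((σ ^ p ^ e) a) = μ a) ∧
      (∀ w, (∀ a ∈ A, ρ a w = μ a • w) →
        ∀ a ∈ A, ρ a ((S ^ p ^ e) w) = μ a • (S ^ p ^ e) w) ∧
      (∀ w, (∀ a ∈ A, ρ a w = μ a • w) → (S ^ p ^ e) w = w → w = 0) := by
  classical
  obtain ⟨P, hP⟩ : ∃ P, P = p ^ n := ⟨_, rfl⟩
  rw [← hP] at hσ hS
  have hP0 : 0 < P := hP ▸ pow_pos hp.pos n
  have hAi : ∀ (i : ℕ) (a : Q), a ∈ A → (σ ^ i) a ∈ A := by
    intro i
    induction i with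
    | zero => intro a ha; exact ha
    | succ i ih => intro a ha; rw [pow_succ', MulAut.mul_apply]; exact hA _ (ih a ha)
  have hσPk : ∀ k, σ ^ (P * k) = 1 := fun k => by rw [pow_mul, hσ, one_pow]
  let D : ℕ → Prop := fun i => ∀ a ∈ A, μ ((σ ^ i) a) = μ a
  have hDP : D P := fun a _ => by rw [hσ, MulAut.one_apply]
  have hex : ∃ i, 0 < i ∧ D i := ⟨P, hP0, hDP⟩
  obtain ⟨d, hd⟩ : ∃ d, d = Nat.find hex := ⟨_, rfl⟩
  have hd0 : 0 < d ∧ D d := hd ▸ Nat.find_spec hex
  have hmin : ∀ i, 0 < i → D i → d ≤ i := fun i h1 h2 => hd ▸ Nat.find_min' hex ⟨h1, h2⟩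
  have hDk : ∀ k, D (d * k) := by
    intro k
    induction k with
    | zero => intro a _; rw [Nat.mul_zero, pow_zero, MulAut.one_apply]
    | succ k ih =>
      intro a ha
      rw [Nat.mul_succ, pow_add, MulAut.mul_apply, ih _ (hAi d a ha), hd0.2 a ha]
  have hdiv : ∀ i, D i → d ∣ i := by
    intro i hi
    refine Nat.dvd_of_mod_eq_zero (Nat.eq_zero_of_not_pos fun h0 => ?_)
    have h1 := hmin _ h0 (fun a ha => by
      rw [← hDk (i / d) _ (hAi (i % d) a ha), ← MulAut.mul_apply, ← pow_add, Nat.div_add_mod]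
      exact hi a ha)
    exact absurd h1 (not_le.2 (Nat.mod_lt _ hd0.1))
  have hdP : d ∣ P := hdiv P hDP
  have hstep : ∀ (i : ℕ), ∀ a ∈ A, ∀ w, (∀ b ∈ A, ρ b w = μ b • w) → i ≤ P →
      ρ a ((S ^ i) w) = μ ((σ ^ (P - i)) a) • (S ^ i) w := by
    intro i a ha w hw hi
    have h1 := pow_intertwine ρ σ S hSc i ((σ ^ (P - i)) a)
    rw [← MulAut.mul_apply, ← pow_add, Nat.add_sub_cancel' hi, hσ, MulAut.one_apply] at h1
    rw [← Module.End.mul_apply, ← h1, Module.End.mul_apply, hw _ (hAi _ _ ha), map_smul]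
  have hfixd : ∀ w, (∀ a ∈ A, ρ a w = μ a • w) → (S ^ d) w = w → w = 0 := by
    intro w hw hwd
    have hsum : ∑ i ∈ Finset.range d, (S ^ i) w = 0 := by
      refine hfix _ (sub_eq_zero.1 ?_)
      rw [map_sum, ← Finset.sum_sub_distrib,
        Finset.sum_congr rfl (fun i _ =>
          show S ((S ^ i) w) - (S ^ i) w = (S ^ (i + 1)) w - (S ^ i) w by
            rw [pow_succ', Module.End.mul_apply]),
        Finset.sum_range_sub (fun i => (S ^ i) w), hwd, pow_zero, Module.End.one_apply, sub_self]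
    have h0 := ThmB.weights_indep (K := K) (fun a => ρ a) A (fun i a => μ ((σ ^ (P - i)) a))
      (Finset.range d) (fun i => (S ^ i) w)
      (fun i hi a ha => hstep i a ha w hw
        (((Finset.mem_range.1 hi).le).trans (Nat.le_of_dvd hP0 hdP)))
      (by
        have key : ∀ i j, i < d → j < d → i < j →
            ∃ a ∈ A, μ ((σ ^ (P - i)) a) ≠ μ ((σ ^ (P - j)) a) := by
          intro i j hi hj hij
          by_contra hcon
          push Not at hcon
          have hjP : j ≤ P := hj.le.trans (Nat.le_of_dvd hP0 hdP)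
          have hD : D (P + (j - i)) := fun b hb => by
            have h1 := hcon _ (hAi j b hb)
            rw [← MulAut.mul_apply, ← MulAut.mul_apply, ← pow_add, ← pow_add,
              Nat.sub_add_cancel hjP, hσ, MulAut.one_apply] at h1
            rwa [show P + (j - i) = P - i + j by omega]
          have h2 := (Nat.dvd_add_right hdP).1 (hdiv _ hD)
          have := Nat.le_of_dvd (by omega) h2
          omega
        intro i hi j hj hne
        rcases Nat.lt_or_ge i j with h | h
        · exact key i j (Finset.mem_range.1 hi) (Finset.mem_range.1 hj) h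
        · obtain ⟨a, ha, h'⟩ := key j i (Finset.mem_range.1 hj) (Finset.mem_range.1 hi) (by omega)
          exact ⟨a, ha, h'.symm⟩)
      hsum 0 (Finset.mem_range.2 hd0.1)
    simpa using h0
  obtain ⟨e, he, hde⟩ := (Nat.dvd_prime_pow hp).1 (hP ▸ hdP)
  have hen : e < n := by
    rcases he.lt_or_eq with h | h
    · exact h
    · exfalso
      apply hv0 (hfixd v hv ?_)
      rw [hde, h, ← hP, hS, Module.End.one_apply]
  subst hde
  refine ⟨e, n - e, by omega, by omega, hd0.2, fun w hw a ha => ?_, hfixd⟩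
  have hPd : p ^ e ≤ P := Nat.le_of_dvd hP0 hdP
  have h1 := hd0.2 _ (hAi (P - p ^ e) a ha)
  rw [← MulAut.mul_apply, ← pow_add, Nat.add_sub_cancel' hPd, hσ, MulAut.one_apply] at h1
  rw [hstep _ a ha w hw hPd, h1]

/-- Reduction of a homogeneous module to the critical case. -/
theorem homogeneous_core {Q : Type u} [Group Q] [Finite Q] [Nontrivial W] {p q : ℕ} [Fact p.Prime]
    [Fact q.Prime] (hp2 : p ≠ 2) (hQ : IsPGroup q Q) (hqK : (q : K) ≠ 0) (hpK : (p : K) ≠ 0)
    (σ : MulAut Q) (m : ℕ) (ρ : Q →* Module.End K W) (S : Module.End K W) (hS : S ^ p ^ m = 1)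
    (hSc : ∀ a, S * ρ a = ρ (σ a) * S) (hfix : ∀ w, S w = w → w = 0)
    (R : Subgroup Q) (μ : Q → K) (hμ : ∀ a ∈ R, ∀ w, ρ a w = μ a • w)
    (hR : ∀ (U : Submodule K W) (a : Q) (c : K), U ≠ ⊥ → (∀ g, ∀ w ∈ U, ρ g w ∈ U) →
      (∀ w ∈ U, ρ a w = c • w) → a ∈ R)
    (hcomm : ∀ a b : Q, ⁅a, b⁆ ∈ R) (hRne : R ≠ ⊤)
    (hfree : ∀ a i, 0 < i → i < p ^ m → a⁻¹ * (σ ^ i) a ∈ R → a ∈ R) :
    q = 2 ∧ ∃ b, 1 ≤ b ∧ p ^ m = 2 ^ b + 1 ∧ R.index = (2 ^ b) ^ 2 := by
  classical
  haveI := Fintype.ofFinite Q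
  obtain ⟨U, hU, hs⟩ := exists_simple ρ
  haveI := hs.1
  have hUne : U ≠ ⊥ := Submodule.nontrivial_iff_ne_bot.1 hs.1
  set φ := subRep ρ U hU with hφ
  have hφμ : ∀ a ∈ R, φ a = μ a • (1 : Module.End K U) := fun a ha =>
    LinearMap.ext fun w => Subtype.ext (hμ a ha (w : W))
  have hRsc : ∀ a, a ∈ R ↔ ∃ c : K, φ a = c • (1 : Module.End K U) :=
    fun a => ⟨fun h => ⟨_, hφμ a h⟩, fun ⟨c, hc⟩ => hR U a c hUne hU fun w hw =>
      congrArg Subtype.val (LinearMap.congr_fun hc ⟨w, hw⟩)⟩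
  have hQK : (Nat.card Q : K) ≠ 0 := by
    obtain ⟨k, hk⟩ := hQ.exists_card_eq
    rw [hk, Nat.cast_pow]; exact pow_ne_zero _ hqK
  have hN0 := ThmB.finrank_ne_zero hs hQK
  have htr : ∀ a, a ∉ R → LinearMap.trace K U (φ a) = 0 := by
    intro a ha
    by_contra h0
    apply ha
    refine (hRsc a).2 (schur hs (φ a) fun k => ?_)
    obtain ⟨c, hc⟩ := (hRsc _).1 (hcomm k a)
    have h1 : φ k * φ a * φ k⁻¹ = c • φ a := by
      rw [← map_mul, ← map_mul, show k * a * k⁻¹ = ⁅k, a⁆ * a by rw [commutatorElement_def]; group,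
        map_mul, hc, smul_mul_assoc, one_mul]
    have h2 := congrArg (LinearMap.trace K U) h1
    rw [LinearMap.trace_mul_cycle, ← map_mul φ k⁻¹, inv_mul_cancel, map_one, one_mul, map_smul,
      smul_eq_mul] at h2
    have hc1 : c = 1 := mul_right_cancel₀ h0 (h2.symm.trans (one_mul _).symm)
    rw [hc1, one_smul] at h1
    calc φ a * φ k = φ k * φ a * φ k⁻¹ * φ k := by rw [h1]
      _ = φ k * φ a := by rw [mul_assoc, ← map_mul φ k⁻¹, inv_mul_cancel, map_one, mul_one]
  have hSinj : ∀ M M' : Module.End K W, M * S = M' * S → M = M' := fun M M' h => by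
    have h1 := congrArg (fun A : Module.End K W => A * S ^ (p ^ m - 1)) h
    rw [mul_assoc, mul_assoc, ← pow_succ',
      Nat.sub_add_cancel (pow_pos (Fact.out : p.Prime).pos m), hS, mul_one, mul_one] at h1
    exact h1
  -- the weight is invariant
  have hρσ : ∀ a ∈ R, ρ (σ a) = μ a • (1 : Module.End K W) := fun a ha =>
    hSinj _ _ (by
      rw [← hSc, show ρ a = μ a • (1 : Module.End K W) from LinearMap.ext fun w => hμ a ha w,
        mul_smul_comm, mul_one, smul_mul_assoc, one_mul])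
  -- an intertwiner between `φ` and its twist
  let Φ : Module.End K U → Module.End K U := fun X => ∑ g : Q, φ (σ g) * X * φ g⁻¹
  have hΦ : ∀ X h, Φ X * φ h = φ (σ h) * Φ X := by
    intro X h
    simp only [Φ, Finset.sum_mul, Finset.mul_sum]
    symm
    refine Fintype.sum_equiv (Equiv.mulLeft h) _ _ fun g => ?_
    simp only [Equiv.coe_mulLeft, map_mul, mul_inv_rev]
    rw [mul_assoc (φ (σ h) * φ (σ g) * X), mul_assoc (φ g⁻¹), ← map_mul φ h⁻¹, inv_mul_cancel,
      map_one, mul_one]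
    simp only [mul_assoc]
  have hex : ∃ X, Φ X ≠ 0 := by
    by_contra hcon
    push Not at hcon
    let b := Module.finBasis K U
    have hN : 0 < Module.finrank K U := Module.finrank_pos
    let r : Fin (Module.finrank K U) := ⟨0, hN⟩
    have h1 : ∑ g : Q, LinearMap.trace K U (φ g⁻¹) • φ (σ g) (b r) = 0 := by
      calc ∑ g : Q, LinearMap.trace K U (φ g⁻¹) • φ (σ g) (b r)
          = ∑ g : Q, ∑ i, φ (σ g) ((b.linearMap b (r, i)) (φ g⁻¹ (b i))) := by
            refine Finset.sum_congr rfl fun g _ => ?_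
            rw [LinearMap.trace_eq_matrix_trace K b, Matrix.trace, Finset.sum_smul]
            refine Finset.sum_congr rfl fun i _ => ?_
            rw [Matrix.diag_apply, LinearMap.toMatrix_apply]
            conv_rhs => rw [← b.sum_repr (φ g⁻¹ (b i))]
            simp only [map_sum, map_smul, Module.Basis.linearMap_apply_apply, smul_ite, smul_zero,
              apply_ite (φ (σ g)), map_zero]
            rw [Finset.sum_ite_eq Finset.univ i, if_pos (Finset.mem_univ i)]
        _ = ∑ i, Φ (b.linearMap b (r, i)) (b i) := by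
            rw [Finset.sum_comm]
            refine Finset.sum_congr rfl fun i _ => ?_
            simp only [Φ, LinearMap.sum_apply, Module.End.mul_apply]
        _ = 0 := by simp [hcon]
    have h2 : ∀ g : Q, LinearMap.trace K U (φ g⁻¹) • φ (σ g) (b r)
        = if g ∈ R then (Module.finrank K U : K) • b r else 0 := by
      intro g
      split_ifs with hg
      · have e1 : φ (σ g) = μ g • (1 : Module.End K U) :=
          LinearMap.ext fun w => Subtype.ext (LinearMap.congr_fun (hρσ g hg) (w : W))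
        have e2 : μ g⁻¹ * μ g = 1 := by
          obtain ⟨w, hw⟩ := exists_ne (0 : W)
          have e3 := rep_inv_apply ρ g w
          rw [hμ g hg, map_smul, hμ _ (R.inv_mem hg), smul_smul, mul_comm] at e3
          exact smul_left_injective K hw (e3.trans (one_smul K w).symm)
        rw [hφμ _ (R.inv_mem hg), map_smul, LinearMap.trace_one, e1, LinearMap.smul_apply,
          Module.End.one_apply, smul_eq_mul, smul_smul, mul_right_comm, e2, one_mul]
      · rw [htr _ (fun h => hg (R.inv_mem_iff.1 h)), zero_smul]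
    rw [Finset.sum_congr rfl (fun g _ => h2 g), ← Finset.sum_filter, Finset.sum_const,
      ← Nat.cast_smul_eq_nsmul K, smul_smul, smul_eq_zero, mul_eq_zero] at h1
    rcases h1 with (h1 | h1) | h1
    · apply hQK
      obtain ⟨c, hc⟩ := Subgroup.card_subgroup_dvd_card R
      rw [hc, Nat.cast_mul, Nat.card_eq_fintype_card, Fintype.card_subtype, h1, zero_mul]
    · exact hN0 h1
    · exact b.ne_zero r h1
  obtain ⟨X, hX⟩ := hex
  have hT1inj : Function.Injective (Φ X) :=
    intertwiner_injective hs _ hX (fun g => φ (σ g)) fun g w => LinearMap.congr_fun (hΦ X g) w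
  let T1 := LinearEquiv.ofInjectiveEndo (Φ X) hT1inj
  have hT1 : ∀ g u, T1 (φ g u) = φ (σ g) (T1 u) := fun g u => by
    rw [LinearEquiv.coe_ofInjectiveEndo]
    exact LinearMap.congr_fun (hΦ X g) u
  -- the space of embeddings
  let H : Submodule K (U →ₗ[K] W) :=
    { carrier := {f | ∀ g u, f (φ g u) = ρ g (f u)}
      add_mem' := fun {x y} hx hy g u => by
        rw [LinearMap.add_apply, LinearMap.add_apply, hx, hy, map_add]
      zero_mem' := fun g u => by simp
      smul_mem' := fun c {x} hx g u => by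
        rw [LinearMap.smul_apply, LinearMap.smul_apply, hx, map_smul] }
  haveI : Nontrivial H := by
    refine ⟨⟨⟨U.subtype, fun g u => rfl⟩, 0, fun h => ?_⟩⟩
    obtain ⟨u, hu⟩ := exists_ne (0 : U)
    exact hu (Subtype.ext (LinearMap.congr_fun (congrArg Subtype.val h) u))
  have hmem : ∀ f ∈ H, (S ∘ₗ f ∘ₗ (T1.symm : U →ₗ[K] U)) ∈ H := by
    intro f hf g u
    obtain ⟨g', rfl⟩ := σ.surjective g
    have e1 : T1.symm (φ (σ g') u) = φ g' (T1.symm u) := by
      rw [LinearEquiv.symm_apply_eq, hT1, LinearEquiv.apply_symm_apply]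
    show S (f (T1.symm (φ (σ g') u))) = ρ (σ g') (S (f (T1.symm u)))
    rw [e1, hf, ← Module.End.mul_apply, hSc, Module.End.mul_apply]
  let L : Module.End K H :=
    { toFun := fun f => ⟨_, hmem f.1 f.2⟩
      map_add' := fun x y => Subtype.ext (LinearMap.ext fun u => by simp)
      map_smul' := fun c x => Subtype.ext (LinearMap.ext fun u => by simp) }
  obtain ⟨c, hc⟩ := Module.End.exists_eigenvalue L
  obtain ⟨f, hf, hf0⟩ := hc.exists_hasEigenvector
  rw [Module.End.mem_eigenspace_iff] at hf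
  have hf0' : (f : U →ₗ[K] W) ≠ 0 := fun h => hf0 (Subtype.ext h)
  have hfinj : Function.Injective (f : U →ₗ[K] W) :=
    intertwiner_injective hs _ hf0' (fun g => ρ g) f.2
  let T : Module.End K U := c • (T1 : U →ₗ[K] U)
  have hTf : ∀ u, (f : U →ₗ[K] W) (T u) = S ((f : U →ₗ[K] W) u) := by
    intro u
    have h1 : S ((f : U →ₗ[K] W) (T1.symm (T1 u))) = (c • (f : U →ₗ[K] W)) (T1 u) :=
      LinearMap.congr_fun (congrArg Subtype.val hf) (T1 u)
    rw [LinearEquiv.symm_apply_apply, LinearMap.smul_apply, ← map_smul] at h1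
    exact h1.symm
  have hTpow : ∀ (i : ℕ) u, (f : U →ₗ[K] W) ((T ^ i) u) = (S ^ i) ((f : U →ₗ[K] W) u) := by
    intro i
    induction i with
    | zero => intro u; rfl
    | succ i ih =>
      intro u
      rw [pow_succ', Module.End.mul_apply, hTf, ih, pow_succ', Module.End.mul_apply]
  exact core hp2 hQ hqK hpK φ hs σ m T
    (LinearMap.ext fun u => hfinj (by rw [hTpow, hS]; rfl))
    (fun g => LinearMap.ext fun u => by
      show c • T1 (φ g u) = φ (σ g) (c • T1 u)
      rw [hT1, map_smul])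
    (fun u hu => hfinj (by rw [map_zero]; exact hfix _ (by rw [← hTf, hu])))
    R hRsc hcomm hRne hfree

end Cfsg.Agent.Solv.FPFOp
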