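import Cfsg.Agent.Lib.Solv.FPFSpecial

/-!
A fixed-point-free automorphism `σ` of order dividing `p ^ (n + 1)`, `p` odd, of a `q`-group, and a module
in characteristic prime to `p` and `q` on which `σ` has no fixed vector: the `p ^ n`-th power of `σ` is trivial
on the image of the group.
-/

set_option autoImplicit false
set_option linter.style.haveILetI false

namespace Cfsg.Agent.Solv.FPFOp

open Cfsg.Agent.Solv.CRep

universe u v

variable {K : Type*} [Field K] [IsAlgClosed K]

theorem centralises_aux {p q n : ℕ} [Fact p.Prime] [Fact q.Prime] (hp2 : p ≠ 2) (hqp : q ≠ p)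
    (hqK : (q : K) ≠ 0) (hpK : (p : K) ≠ 0) :
    ∀ (N : ℕ) {Q : Type u} [Group Q] [Finite Q], IsPGroup q Q → ∀ (σ : MulAut Q), σ ^ p ^ (n + 1) = 1 →
      (∀ a, σ a = a → a = 1) → ∀ {W : Type v} [AddCommGroup W] [Module K W] [FiniteDimensional K W]
      (ρ : Q →* Module.End K W) (S : Module.End K W), S ^ p ^ (n + 1) = 1 →
      (∀ a, S * ρ a = ρ (σ a) * S) → (∀ w, S w = w → w = 0) →
      Nat.card Q + Module.finrank K W = N → ∀ a, ρ ((σ ^ p ^ n) a) = ρ a := by
  intro N
  induction N using Nat.strong_induction_on with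
  | _ N ih =>
  intro Q _ _ hQ σ hσ hfpf W _ _ _ ρ S hS hSc hfix hN
  classical
  obtain ⟨P, hP⟩ : ∃ P, P = p ^ (n + 1) := ⟨_, rfl⟩
  have hP0 : 0 < P := hP ▸ pow_pos (Fact.out : p.Prime).pos _
  haveI := Fintype.ofFinite Q
  -- invariant submodules
  have hsub : ∀ (U : Submodule K W), (∀ g, ∀ w ∈ U, ρ g w ∈ U) → (∀ w ∈ U, S w ∈ U) → U ≠ ⊤ →
      ∀ a, ∀ w ∈ U, ρ ((σ ^ p ^ n) a) w = ρ a w := by
    intro U hU hSU hne a w hw
    have h1 := ih (Nat.card Q + Module.finrank K U)
      (by have := Submodule.finrank_lt hne; omega) hQ σ hσ hfpf (subRep ρ U hU) (S.restrict hSU)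
      (restrict_pow_eq_one S U hSU hS)
      (fun b => LinearMap.ext fun u => Subtype.ext (LinearMap.congr_fun (hSc b) (u : W)))
      (fun u hu => Subtype.ext (hfix _ (congrArg Subtype.val hu))) rfl a
    exact congrArg Subtype.val (LinearMap.congr_fun h1 ⟨w, hw⟩)
  by_cases hred : ∃ U : Submodule K W, (∀ g, ∀ w ∈ U, ρ g w ∈ U) ∧ (∀ w ∈ U, S w ∈ U) ∧ U ≠ ⊥ ∧ U ≠ ⊤
  · obtain ⟨U, hU, hSU, hUb, hUt⟩ := hred
    obtain ⟨π0, hπ0⟩ := Submodule.exists_isCompl U
    let pr : Module.End K W := U.subtype ∘ₗ Submodule.linearProjOfIsCompl U π0 hπ0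
    have hprmem : ∀ w, pr w ∈ U := fun w => (Submodule.linearProjOfIsCompl U π0 hπ0 w).2
    have hprfix : ∀ w ∈ U, pr w = w := fun w hw =>
      congrArg Subtype.val (Submodule.linearProjOfIsCompl_apply_left hπ0 ⟨w, hw⟩)
    let A : Module.End K W := ∑ g : Q, ρ g * pr * ρ g⁻¹
    have hAρ : ∀ b, A * ρ b = ρ b * A := by
      intro b
      simp only [A, Finset.sum_mul, Finset.mul_sum]
      symm
      refine Fintype.sum_equiv (Equiv.mulLeft b) _ _ fun g => ?_
      simp only [Equiv.coe_mulLeft, map_mul, mul_inv_rev]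
      rw [mul_assoc (ρ b * ρ g * pr), mul_assoc (ρ g⁻¹), ← map_mul ρ b⁻¹, inv_mul_cancel, map_one, mul_one]
      simp only [mul_assoc]
    let B : Module.End K W := ∑ i ∈ Finset.range P, S ^ i * A * S ^ (P - i)
    have hSP : S ^ P = 1 := hP ▸ hS
    have hBS : B * S = S * B := by
      simp only [B, Finset.sum_mul, Finset.mul_sum]
      obtain ⟨P', rfl⟩ : ∃ P', P = P' + 1 := ⟨P - 1, by omega⟩
      rw [Finset.sum_range_succ' _ P', Finset.sum_range_succ _ P']
      congr 1
      · refine Finset.sum_congr rfl fun i hi => ?_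
        rw [Finset.mem_range] at hi
        rw [mul_assoc (S ^ (i + 1) * A), ← pow_succ, show P' + 1 - (i + 1) + 1 = P' + 1 - i by omega,
          ← mul_assoc S, ← mul_assoc S, ← pow_succ']
      · rw [pow_zero, one_mul, Nat.sub_zero, hSP, mul_one, show P' + 1 - P' = 1 by omega, pow_one, ← mul_assoc S,
          ← mul_assoc S, ← pow_succ', hSP, one_mul]
    have hσP : σ ^ P = 1 := hP ▸ hσ
    have hBρ : ∀ b, B * ρ b = ρ b * B := by
      intro b
      simp only [B, Finset.sum_mul, Finset.mul_sum]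
      refine Finset.sum_congr rfl fun i hi => ?_
      have e1 := pow_intertwine ρ σ S hSc (P - i) b
      have e2 := pow_intertwine ρ σ S hSc i ((σ ^ (P - i)) b)
      rw [← MulAut.mul_apply, ← pow_add, Nat.add_sub_cancel' (Finset.mem_range.1 hi).le, hσP,
        MulAut.one_apply] at e2
      rw [mul_assoc (S ^ i * A), e1, ← mul_assoc, mul_assoc (S ^ i), hAρ, ← mul_assoc, e2]
      simp only [mul_assoc]
    have hpowU : ∀ (i : ℕ), ∀ w ∈ U, (S ^ i) w ∈ U := by
      intro i
      induction i with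
      | zero => intro w hw; simpa using hw
      | succ i ihi => intro w hw; rw [pow_succ', Module.End.mul_apply]; exact hSU _ (ihi w hw)
    have hAU : ∀ w, A w ∈ U := fun w => by
      simp only [A, LinearMap.sum_apply, Module.End.mul_apply]
      exact Submodule.sum_mem _ fun g _ => hU g _ (hprmem _)
    have hBU : ∀ w, B w ∈ U := fun w => by
      simp only [B, LinearMap.sum_apply, Module.End.mul_apply]
      exact Submodule.sum_mem _ fun i _ => hpowU i _ (hAU _)
    have hAfix : ∀ w ∈ U, A w = (Nat.card Q : K) • w := fun w hw => by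
      simp only [A, LinearMap.sum_apply, Module.End.mul_apply]
      rw [Finset.sum_congr rfl (fun g _ => by rw [hprfix _ (hU _ _ hw), rep_apply_inv]), Finset.sum_const,
        Finset.card_univ, Nat.card_eq_fintype_card, ← Nat.cast_smul_eq_nsmul K]
    have hBfix : ∀ w ∈ U, B w = ((P * Nat.card Q : ℕ) : K) • w := fun w hw => by
      simp only [B, LinearMap.sum_apply, Module.End.mul_apply]
      rw [Finset.sum_congr rfl (fun i hi => by
          rw [hAfix _ (hpowU _ w hw), map_smul, ← Module.End.mul_apply, ← pow_add,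
            Nat.add_sub_cancel' (Finset.mem_range.1 hi).le, hSP, Module.End.one_apply]),
        Finset.sum_const, Finset.card_range, ← Nat.cast_smul_eq_nsmul K, smul_smul, Nat.cast_mul]
    have hc : ((P * Nat.card Q : ℕ) : K) ≠ 0 := by
      obtain ⟨k, hk⟩ := hQ.exists_card_eq
      rw [hk, hP, Nat.cast_mul, Nat.cast_pow, Nat.cast_pow]
      exact mul_ne_zero (pow_ne_zero _ hpK) (pow_ne_zero _ hqK)
    have hkt : LinearMap.ker B ≠ ⊤ := fun h => by
      obtain ⟨w, hw, hw0⟩ := Submodule.exists_mem_ne_zero_of_ne_bot hUb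
      have h1 : B w = 0 := LinearMap.mem_ker.1 (h.symm ▸ Submodule.mem_top)
      rw [hBfix w hw, smul_eq_zero] at h1
      exact h1.elim hc hw0
    have hkρ : ∀ g, ∀ w ∈ LinearMap.ker B, ρ g w ∈ LinearMap.ker B := fun g w hw => by
      rw [LinearMap.mem_ker] at hw ⊢
      rw [← Module.End.mul_apply, hBρ, Module.End.mul_apply, hw, map_zero]
    have hkS : ∀ w ∈ LinearMap.ker B, S w ∈ LinearMap.ker B := fun w hw => by
      rw [LinearMap.mem_ker] at hw ⊢
      rw [← Module.End.mul_apply, hBS, Module.End.mul_apply, hw, map_zero]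
    intro a
    refine LinearMap.ext fun w => ?_
    obtain ⟨u, hu⟩ : ∃ u, u = (((P * Nat.card Q : ℕ) : K))⁻¹ • B w := ⟨_, rfl⟩
    have huU : u ∈ U := hu ▸ U.smul_mem _ (hBU w)
    have hwu : w - u ∈ LinearMap.ker B := by
      rw [LinearMap.mem_ker, map_sub, hu, map_smul, hBfix _ (hBU w), inv_smul_smul₀ hc, sub_self]
    have h1 := hsub U hU hSU hUt a u huU
    have h2 := hsub _ hkρ hkS hkt a _ hwu
    rw [map_sub, map_sub, h1, sub_left_inj] at h2
    exact h2
  push Not at hred
  have hWirr : ∀ U : Submodule K W, (∀ g, ∀ w ∈ U, ρ g w ∈ U) → (∀ w ∈ U, S w ∈ U) → U = ⊥ ∨ U = ⊤ :=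
    fun U h1 h2 => (em (U = ⊥)).imp id fun h3 => hred U h1 h2 h3
  -- the kernel
  have hSinv : S ^ (P - 1) * S = 1 := by rw [← pow_succ, Nat.sub_add_cancel hP0, hP, hS]
  have hkerσ : ∀ a ∈ ρ.ker, σ a ∈ ρ.ker := fun a ha => by
    rw [MonoidHom.mem_ker] at ha ⊢
    have h1 : S = ρ (σ a) * S := by rw [← hSc, ha, mul_one]
    have hS' : S * S ^ (P - 1) = 1 := by rw [← pow_succ', Nat.sub_add_cancel hP0, hP, hS]
    calc ρ (σ a) = ρ (σ a) * (S * S ^ (P - 1)) := by rw [hS', mul_one]
      _ = 1 := by rw [← mul_assoc, ← h1, hS']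
  by_cases hkb : ρ.ker = ⊥
  swap
  · have hmap : ρ.ker.map (σ : Q →* Q) = ρ.ker := by
      refine Subgroup.eq_of_le_of_card_ge ?_ ?_
      · rintro _ ⟨z, hz, rfl⟩; exact hkerσ z hz
      · exact (Nat.card_congr (ρ.ker.equivMapOfInjective _ σ.injective).toEquiv).le
    let σb : MulAut (Q ⧸ ρ.ker) := QuotientGroup.congr ρ.ker ρ.ker σ hmap
    have hσb : ∀ (i : ℕ) (a : Q), (σb ^ i) (a : Q ⧸ ρ.ker) = (((σ ^ i) a : Q) : Q ⧸ ρ.ker) := by
      intro i
      induction i with
      | zero => intro a; rfl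
      | succ i ihi =>
        intro a
        rw [pow_succ', MulAut.mul_apply, ihi, pow_succ', MulAut.mul_apply]
        exact QuotientGroup.congr_mk _ _ σ hmap _
    have hlt : Nat.card (Q ⧸ ρ.ker) < Nat.card Q := by
      rw [Subgroup.card_eq_card_quotient_mul_card_subgroup ρ.ker]
      exact lt_mul_of_one_lt_right Nat.card_pos ((Subgroup.one_lt_card_iff_ne_bot _).2 hkb)
    intro a
    have h1 := ih (Nat.card (Q ⧸ ρ.ker) + Module.finrank K W) (by omega)
      (hQ.to_quotient _) σb
      (MulEquiv.ext fun x => by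
        obtain ⟨b, rfl⟩ := QuotientGroup.mk_surjective x
        rw [hσb, hσ, MulAut.one_apply, MulAut.one_apply])
      (fun x hx => by
        obtain ⟨b, rfl⟩ := QuotientGroup.mk_surjective x
        have h := hσb 1 b
        rw [pow_one, pow_one, hx] at h
        exact (QuotientGroup.eq_one_iff b).2
          (mem_of_fixed_coset hqp hQ σ hσ hfpf ρ.ker hkerσ (QuotientGroup.eq.1 h)))
      (QuotientGroup.lift ρ.ker ρ le_rfl) S hS
      (fun x => by
        obtain ⟨b, rfl⟩ := QuotientGroup.mk_surjective x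
        have h := hσb 1 b
        rw [pow_one, pow_one] at h
        rw [h, QuotientGroup.lift_mk, QuotientGroup.lift_mk]
        exact hSc b)
      hfix rfl (a : Q ⧸ ρ.ker)
    rwa [hσb, QuotientGroup.lift_mk, QuotientGroup.lift_mk] at h1
  -- the faithful case
  have hinj : ∀ a, ρ a = 1 → a = 1 := fun a ha => by
    rw [← Subgroup.mem_bot, ← hkb]; exact MonoidHom.mem_ker.2 ha
  have hinj' : ∀ a b, ρ a = ρ b → a = b := fun a b h => by
    refine inv_mul_eq_one.1 (hinj _ ?_)
    rw [map_mul, ← h, ← map_mul, inv_mul_cancel, map_one]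
  by_cases hτ : σ ^ p ^ n = 1
  · intro a; rw [hτ, MulAut.one_apply]
  have hmin : ∀ U : Subgroup Q, U ≠ ⊤ → (∀ a ∈ U, σ a ∈ U) → ∀ a ∈ U, (σ ^ p ^ n) a = a := by
    intro U hU hUσ a ha
    let f : U →* U := ((σ : Q →* Q).comp U.subtype).codRestrict U fun x => hUσ x x.2
    have hf : Function.Injective f := fun x y h => Subtype.ext (σ.injective (congrArg Subtype.val h))
    let σU : MulAut U := MulEquiv.ofBijective f (Finite.injective_iff_bijective.1 hf)
    have hσU : ∀ (i : ℕ) (x : U), (((σU ^ i) x : U) : Q) = (σ ^ i) (x : Q) := by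
      intro i
      induction i with
      | zero => intro x; rfl
      | succ i ihi =>
        intro x
        rw [pow_succ', MulAut.mul_apply, pow_succ', MulAut.mul_apply, ← ihi]
        rfl
    have hlt : Nat.card U < Nat.card Q := by
      rcases (Subgroup.card_le_card_group U).lt_or_eq with h | h
      · exact h
      · exact absurd (Subgroup.eq_top_of_card_eq U h) hU
    have h1 := ih (Nat.card U + Module.finrank K W) (by omega) (hQ.to_subgroup U) σU
      (MulEquiv.ext fun x => Subtype.ext (by rw [hσU, hσ, MulAut.one_apply]; rfl))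
      (fun x hx => Subtype.ext (hfpf _ (congrArg Subtype.val hx)))
      (ρ.comp U.subtype) S hS (fun x => hSc (x : Q)) hfix rfl ⟨a, ha⟩
    refine hinj' _ _ ?_
    rw [← hσU (p ^ n) ⟨a, ha⟩]
    exact h1
  have hco : (orderOf (σ ^ p ^ n)).Coprime q := by
    have h1 : orderOf (σ ^ p ^ n) ∣ p := orderOf_dvd_of_pow_eq_one (by rw [← pow_mul, ← pow_succ, hσ])
    exact Nat.Coprime.coprime_dvd_left h1
      ((Nat.coprime_primes (Fact.out : p.Prime) (Fact.out : q.Prime)).2 (Ne.symm hqp))
  obtain ⟨hshape, hirr, hcl⟩ := minimal_action hQ σ (p ^ n) hco hτ hmin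
  rcases subsingleton_or_nontrivial W with hW | hW
  · intro a; exact LinearMap.ext fun w => Subsingleton.elim _ _
  by_cases hab : ∀ a b : Q, a * b = b * a
  · intro a
    obtain ⟨v, μ, hv0, hv⟩ := exists_weight ρ fun a b => by rw [← map_mul, ← map_mul, hab]
    obtain ⟨e, m, hm, hn, hper, -, -⟩ :=
      weight_period Fact.out σ hσ ρ S hS hSc hfix Set.univ (fun _ _ => trivial) μ v hv0 (fun b _ => hv b)
    have hμτ : ∀ b, μ ((σ ^ p ^ n) b) = μ b := by
      intro b
      have hk : ∀ k b, μ (((σ ^ p ^ e) ^ k) b) = μ b := by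
        intro k
        induction k with
        | zero => intro b; rfl
        | succ k ihk => intro b; rw [pow_succ', MulAut.mul_apply, hper _ trivial, ihk]
      rw [show n = e + (m - 1) by omega, pow_add, pow_mul]
      exact hk _ b
    let U0 : Submodule K W :=
      { carrier := {w | ∀ b, ρ ((σ ^ p ^ n) b) w = ρ b w}
        add_mem' := fun {x y} hx hy b => by rw [map_add, map_add, hx, hy]
        zero_mem' := fun b => by simp
        smul_mem' := fun c {x} hx b => by rw [map_smul, map_smul, hx] }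
    rcases hWirr U0 (fun g w hw b => by
        rw [← Module.End.mul_apply, ← map_mul, hab, map_mul, Module.End.mul_apply, hw,
          ← Module.End.mul_apply, ← map_mul, hab, map_mul, Module.End.mul_apply])
      (fun w hw b => by
        obtain ⟨b', rfl⟩ := σ.surjective b
        rw [← MulAut.mul_apply, ← pow_succ, pow_succ', MulAut.mul_apply, ← Module.End.mul_apply, ← hSc,
          Module.End.mul_apply, hw, ← Module.End.mul_apply, hSc, Module.End.mul_apply]) with h | h
    · have : v ∈ U0 := fun b => by rw [hv, hv, hμτ]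
      rw [h] at this
      exact absurd this hv0
    · exact LinearMap.ext fun w => (h.symm ▸ Submodule.mem_top : w ∈ U0) a
  obtain ⟨hfr, hcc⟩ := hshape.resolve_left hab
  exact (special_false hp2 hqp hqK hpK hQ σ n hσ hfpf ρ S hS hSc hfix hab hfr hcc hirr hcl hWirr hinj).elim

/-- A module without fixed vectors. -/
theorem centralises {p q n : ℕ} [Fact p.Prime] [Fact q.Prime] (hp2 : p ≠ 2) (hqp : q ≠ p)
    (hqK : (q : K) ≠ 0) (hpK : (p : K) ≠ 0) {Q : Type u} [Group Q] [Finite Q] (hQ : IsPGroup q Q)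
    (σ : MulAut Q) (hσ : σ ^ p ^ (n + 1) = 1) (hfpf : ∀ a, σ a = a → a = 1)
    {W : Type v} [AddCommGroup W] [Module K W] [FiniteDimensional K W]
    (ρ : Q →* Module.End K W) (S : Module.End K W) (hS : S ^ p ^ (n + 1) = 1)
    (hSc : ∀ a, S * ρ a = ρ (σ a) * S) (hfix : ∀ w, S w = w → w = 0) (a : Q) :
    ρ ((σ ^ p ^ n) a) = ρ a :=
  centralises_aux hp2 hqp hqK hpK _ hQ σ hσ hfpf ρ S hS hSc hfix rfl a

end Cfsg.Agent.Solv.FPFOp
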