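import Cfsg.Agent.Lib.Solv.FPFClifford
import Cfsg.Agent.Lib.Solv.FPFMinimal
import Cfsg.Agent.Lib.Solv.FPFArith
import Cfsg.Agent.Lib.Solv.PGroupPhi

/-!
A special `q`-group on which a fixed-point-free automorphism of odd `p`-power order acts irreducibly modulo
its center has no faithful module without fixed vectors.
-/

set_option autoImplicit false
set_option linter.style.haveILetI false

open scoped commutatorElement

namespace Cfsg.Agent.Solv.FPFOp

open Cfsg.Agent.Solv.CRep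

universe u v

variable {K : Type*} [Field K] [IsAlgClosed K]
variable {W : Type v} [AddCommGroup W] [Module K W] [FiniteDimensional K W]

/-- Restriction of an operator of finite order to an invariant subspace. -/
theorem restrict_pow_eq_one (S : Module.End K W) (U : Submodule K W) (h : ∀ w ∈ U, S w ∈ U) {P : ℕ}
    (hS : S ^ P = 1) : (S.restrict h : Module.End K U) ^ P = 1 := by
  have h1 : ∀ (i : ℕ) (w : U), (((S.restrict h : Module.End K U) ^ i) w : W) = (S ^ i) (w : W) := by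
    intro i
    induction i with
    | zero => intro w; rfl
    | succ i ih =>
      intro w
      rw [pow_succ', Module.End.mul_apply, LinearMap.restrict_apply]
      show S _ = _
      rw [ih, pow_succ', Module.End.mul_apply]
  exact LinearMap.ext fun w => Subtype.ext (by rw [h1, hS]; rfl)

theorem special_false {Q : Type u} [Group Q] [Finite Q] [Nontrivial W] {p q : ℕ} [Fact p.Prime]
    [Fact q.Prime] (hp2 : p ≠ 2) (hqp : q ≠ p) (hqK : (q : K) ≠ 0) (hpK : (p : K) ≠ 0)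
    (hQ : IsPGroup q Q) (σ : MulAut Q) (n : ℕ) (hσ : σ ^ p ^ (n + 1) = 1)
    (hfpf : ∀ a, σ a = a → a = 1) (ρ : Q →* Module.End K W) (S : Module.End K W)
    (hS : S ^ p ^ (n + 1) = 1) (hSc : ∀ a, S * ρ a = ρ (σ a) * S) (hfix : ∀ w, S w = w → w = 0)
    (hna : ¬ ∀ a b : Q, a * b = b * a) (hfr : frattini Q = Subgroup.center Q)
    (hcc : commutator Q = Subgroup.center Q)
    (hirr : ∀ U : Subgroup Q, frattini Q ≤ U → (∀ a ∈ U, σ a ∈ U) → U = frattini Q ∨ U = ⊤)
    (hcl : ∀ Y : Subgroup Q, Y.Normal → (∀ a, a⁻¹ * (σ ^ p ^ n) a ∈ Y) → Y = ⊤)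
    (hWirr : ∀ U : Submodule K W, (∀ g, ∀ w ∈ U, ρ g w ∈ U) → (∀ w ∈ U, S w ∈ U) → U = ⊥ ∨ U = ⊤)
    (hinj : ∀ a, ρ a = 1 → a = 1) : False := by
  classical
  haveI := Fintype.ofFinite Q
  set Z := Subgroup.center Q with hZ
  have hZσ : ∀ z ∈ Z, σ z ∈ Z := fun z hz => Subgroup.mem_center_iff.2 fun g => by
    obtain ⟨g', rfl⟩ := σ.surjective g
    rw [← map_mul, ← map_mul, Subgroup.mem_center_iff.1 hz]
  have hZσ' : ∀ z ∈ Z, σ.symm z ∈ Z := fun z hz => Subgroup.mem_center_iff.2 fun g => by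
    apply σ.injective
    rw [map_mul, map_mul, MulEquiv.apply_symm_apply, Subgroup.mem_center_iff.1 hz]
  have hZcomm : ∀ a b : Q, ⁅a, b⁆ ∈ Z := fun a b => by
    rw [← hcc, commutator_def]
    exact Subgroup.commutator_mem_commutator (Subgroup.mem_top a) (Subgroup.mem_top b)
  have hσi : ∀ (i : ℕ) (z : Q), z ∈ Z → (σ ^ i) z ∈ Z := by
    intro i
    induction i with
    | zero => intro z hz; exact hz
    | succ i ih => intro z hz; rw [pow_succ', MulAut.mul_apply]; exact hZσ _ (ih z hz)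
  -- the free action on `Q ⧸ Z`
  have hfreeZ : ∀ j, 0 < j → j < p ^ (n + 1) → ∀ a, a⁻¹ * (σ ^ j) a ∈ Z → a ∈ Z := by
    intro j hj hjP a ha
    let C : Subgroup Q :=
      { carrier := {a | a⁻¹ * (σ ^ j) a ∈ Z}
        one_mem' := by simp
        mul_mem' := fun {x y} (hx : x⁻¹ * (σ ^ j) x ∈ Z) (hy : y⁻¹ * (σ ^ j) y ∈ Z) => by
          show (x * y)⁻¹ * (σ ^ j) (x * y) ∈ Z
          have h1 : (x * y)⁻¹ * (σ ^ j) (x * y) = y⁻¹ * (x⁻¹ * (σ ^ j) x) * (σ ^ j) y := by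
            rw [map_mul]; group
          rw [h1, Subgroup.mem_center_iff.1 hx y⁻¹, mul_assoc]
          exact Z.mul_mem hx hy
        inv_mem' := fun {x} (hx : x⁻¹ * (σ ^ j) x ∈ Z) => by
          show x⁻¹⁻¹ * (σ ^ j) x⁻¹ ∈ Z
          have h1 : (x⁻¹ * (σ ^ j) x)⁻¹ = x⁻¹⁻¹ * (σ ^ j) x⁻¹ := by
            have h2 : (x⁻¹ * (σ ^ j) x)⁻¹ = x * (x⁻¹ * (σ ^ j) x)⁻¹ * x⁻¹ := by
              rw [Subgroup.mem_center_iff.1 (Z.inv_mem hx) x, mul_inv_cancel_right]
            rw [h2, map_inv]; group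
          rw [← h1]
          exact Z.inv_mem hx }
    have hCσ : ∀ x ∈ C, σ x ∈ C := fun x (hx : x⁻¹ * (σ ^ j) x ∈ Z) => by
      show (σ x)⁻¹ * (σ ^ j) (σ x) ∈ Z
      rw [← MulAut.mul_apply, ← pow_succ, pow_succ', MulAut.mul_apply, ← map_inv, ← map_mul]
      exact hZσ _ hx
    have hZC : Z ≤ C := fun z hz => Z.mul_mem (Z.inv_mem hz) (hσi j z hz)
    rcases hirr C (hfr.trans_le hZC) hCσ with h | h
    · rw [← hfr, ← h]; exact ha
    · exfalso
      let Kt : Subgroup (MulAut Q) :=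
        { carrier := {t | ∀ x, x⁻¹ * t x ∈ Z}
          one_mem' := fun x => by simp
          mul_mem' := fun {s t} hs ht x => by
            have h1 : x⁻¹ * (s * t) x = (x⁻¹ * t x) * ((t x)⁻¹ * s (t x)) := by
              rw [MulAut.mul_apply]; group
            rw [h1]
            exact Z.mul_mem (ht x) (hs _)
          inv_mem' := fun {t} ht x => by
            obtain ⟨y, rfl⟩ := t.surjective x
            rw [MulAut.inv_apply_self]
            have h1 : (t y)⁻¹ * y = (y⁻¹ * t y)⁻¹ := by group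
            rw [h1]
            exact Z.inv_mem (ht y) }
      have hj' : σ ^ j ∈ Kt := fun x => (h.symm ▸ Subgroup.mem_top x : x ∈ C)
      have hτ : σ ^ p ^ n ∈ Kt := by
        obtain ⟨e, he, hge⟩ := (Nat.dvd_prime_pow (Fact.out : p.Prime)).1 (Nat.gcd_dvd_right j (p ^ (n + 1)))
        have hen : e ≤ n := by
          by_contra hlt
          have h1 : p ^ (n + 1) ∣ j := by
            rw [show n + 1 = e by omega, ← hge]; exact Nat.gcd_dvd_left _ _
          exact absurd (Nat.le_of_dvd hj h1) (not_le.2 hjP)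
        have h1 : σ ^ (p ^ e) ∈ Kt := by
          have h2 : (σ ^ (p ^ e) : MulAut Q) = (σ ^ j) ^ Nat.gcdA j (p ^ (n + 1)) := by
            rw [← hge, ← zpow_natCast σ (Nat.gcd j (p ^ (n + 1))), Nat.gcd_eq_gcd_ab, zpow_add, zpow_mul,
              zpow_mul, zpow_natCast, zpow_natCast, hσ, one_zpow, mul_one]
          rw [h2]
          exact Kt.zpow_mem hj' _
        rw [show n = e + (n - e) by omega, pow_add, pow_mul]
        exact Kt.pow_mem h1 _
      have := hcl Z inferInstance hτ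
      exact hna fun x y => (Subgroup.mem_center_iff.1 (show x ∈ Z by rw [this]; exact Subgroup.mem_top x) y).symm
  -- the weight on the center
  obtain ⟨v, lam, hv0, hlam⟩ := exists_weight (ρ.comp Z.subtype) (fun a b => by
    show ρ (a : Q) * ρ (b : Q) = ρ (b : Q) * ρ (a : Q)
    rw [← map_mul, ← map_mul, Subgroup.mem_center_iff.1 b.2 (a : Q)])
  let μ0 : Q → K := fun a => if h : a ∈ Z then lam ⟨a, h⟩ else 0
  have hμ0 : ∀ z ∈ Z, ρ z v = μ0 z • v := fun z hz => by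
    simp only [μ0, dif_pos hz]
    exact hlam ⟨z, hz⟩
  have hμmul : ∀ y ∈ Z, ∀ z ∈ Z, μ0 (y * z) = μ0 y * μ0 z := by
    intro y hy z hz
    refine smul_left_injective K hv0 ?_
    show μ0 (y * z) • v = (μ0 y * μ0 z) • v
    rw [← hμ0 _ (Z.mul_mem hy hz), map_mul, Module.End.mul_apply, hμ0 z hz, map_smul, hμ0 y hy, smul_smul,
      mul_comm]
  have hμone : μ0 1 = 1 := by
    refine smul_left_injective K hv0 ?_
    show μ0 1 • v = (1 : K) • v
    rw [← hμ0 1 Z.one_mem, map_one, Module.End.one_apply, one_smul]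
  have hμne : ∀ z ∈ Z, μ0 z ≠ 0 := fun z hz h => by
    have := hμmul z hz _ (Z.inv_mem hz)
    rw [mul_inv_cancel, hμone, h, zero_mul] at this
    exact one_ne_zero this
  obtain ⟨e0, m0, -, hn0, hper0, hpres0, hfix0⟩ :=
    weight_period Fact.out σ hσ ρ S hS hSc hfix (Z : Set Q) hZσ μ0 v hv0 hμ0
  obtain ⟨σ0, hσ0⟩ : ∃ σ0, σ0 = σ ^ p ^ e0 := ⟨_, rfl⟩
  rw [← hσ0] at hper0
  have hσ0P : σ0 ^ p ^ m0 = 1 := by rw [hσ0, ← pow_mul, ← pow_add, ← hn0, hσ]
  let W1 : Submodule K W :=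
    { carrier := {w | ∀ z ∈ Z, ρ z w = μ0 z • w}
      add_mem' := fun {x y} hx hy z hz => by rw [map_add, hx z hz, hy z hz, smul_add]
      zero_mem' := fun z hz => by simp
      smul_mem' := fun c {x} hx z hz => by rw [map_smul, hx z hz, smul_comm] }
  have hW1 : ∀ g, ∀ w ∈ W1, ρ g w ∈ W1 := fun g w hw z hz => by
    rw [← Module.End.mul_apply, ← map_mul, ← Subgroup.mem_center_iff.1 hz g, map_mul,
      Module.End.mul_apply, hw z hz, map_smul]
  have hS1mem : ∀ w ∈ W1, (S ^ p ^ e0) w ∈ W1 := hpres0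
  let ρ1 := subRep ρ W1 hW1
  let S1 : Module.End K W1 := (S ^ p ^ e0).restrict hS1mem
  have hS1P : S1 ^ p ^ m0 = 1 :=
    restrict_pow_eq_one _ _ hS1mem (by rw [← pow_mul, ← pow_add, ← hn0, hS])
  have hS1c : ∀ a, S1 * ρ1 a = ρ1 (σ0 a) * S1 := fun a => LinearMap.ext fun w => Subtype.ext (by
    show (S ^ p ^ e0) (ρ a (w : W)) = ρ (σ0 a) ((S ^ p ^ e0) (w : W))
    rw [hσ0, ← Module.End.mul_apply, pow_intertwine ρ σ S hSc, Module.End.mul_apply])
  have hS1fix : ∀ w, S1 w = w → w = 0 :=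
    fun w hw => Subtype.ext (hfix0 (w : W) w.2 (congrArg Subtype.val hw))
  haveI : Nontrivial W1 := ⟨⟨⟨v, hμ0⟩, 0, fun h => hv0 (congrArg Subtype.val h)⟩⟩
  have hρ1Z : ∀ z ∈ Z, ∀ w : W1, ρ1 z w = μ0 z • w := fun z hz w => Subtype.ext (w.2 z hz)
  -- the radical of the commutator form
  have hcmul : ∀ a a' b : Q, μ0 ⁅a * a', b⁆ = μ0 ⁅a, b⁆ * μ0 ⁅a', b⁆ := by
    intro a a' b
    have h1 : ⁅a * a', b⁆ = a * ⁅a', b⁆ * a⁻¹ * ⁅a, b⁆ := by
      rw [commutatorElement_def, commutatorElement_def, commutatorElement_def]; group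
    rw [h1, Subgroup.mem_center_iff.1 (hZcomm a' b) a, mul_inv_cancel_right,
      hμmul _ (hZcomm _ _) _ (hZcomm _ _), mul_comm]
  have hc1 : ∀ b : Q, μ0 ⁅(1 : Q), b⁆ = 1 := fun b => by rw [commutatorElement_one_left, hμone]
  have hsym : ∀ a b : Q, μ0 ⁅a, b⁆ * μ0 ⁅b, a⁆ = 1 := fun a b => by
    rw [← hμmul _ (hZcomm _ _) _ (hZcomm _ _), ← commutatorElement_inv a b, mul_inv_cancel, hμone]
  let R : Subgroup Q :=
    { carrier := {a | ∀ b, μ0 ⁅a, b⁆ = 1}
      mul_mem' := fun {x y} hx hy b => by rw [hcmul, hx b, hy b, mul_one]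
      one_mem' := hc1
      inv_mem' := fun {x} hx b => by
        have := hcmul x x⁻¹ b
        rwa [mul_inv_cancel, hc1, hx b, one_mul, eq_comm] at this }
  have hZR : Z ≤ R := fun z hz b => by
    rw [commutatorElement_eq_one_iff_mul_comm.2 (Subgroup.mem_center_iff.1 hz b).symm, hμone]
  have hRcomm : ∀ a b : Q, ⁅a, b⁆ ∈ R := fun a b => hZR (hZcomm a b)
  haveI hRn : R.Normal := ⟨fun a ha g => by
    have h1 : g * a * g⁻¹ = ⁅g, a⁆ * a := by rw [commutatorElement_def]; group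
    rw [h1]
    exact R.mul_mem (hRcomm g a) ha⟩
  have hRσ0 : ∀ a ∈ R, σ0 a ∈ R := fun a ha b => by
    obtain ⟨b', rfl⟩ := σ0.surjective b
    rw [← map_commutatorElement, hper0 _ (hZcomm a b')]
    exact ha b'
  have hRne : R ≠ ⊤ := by
    intro hR
    have hZ1 : ∀ z ∈ Z, μ0 z = 1 := by
      let Z1 : Subgroup Q :=
        { carrier := {z | z ∈ Z ∧ μ0 z = 1}
          mul_mem' := fun {x y} hx hy => ⟨Z.mul_mem hx.1 hy.1, by rw [hμmul _ hx.1 _ hy.1, hx.2, hy.2, mul_one]⟩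
          one_mem' := ⟨Z.one_mem, hμone⟩
          inv_mem' := fun {x} hx => ⟨Z.inv_mem hx.1, by
            have := hμmul _ hx.1 _ (Z.inv_mem hx.1)
            rwa [mul_inv_cancel, hμone, hx.2, one_mul, eq_comm] at this⟩ }
      have hle : Z ≤ Z1 := by
        rw [← hcc, commutator_def, Subgroup.commutator_le]
        exact fun g _ h _ => ⟨hZcomm g h, (hR.symm ▸ Subgroup.mem_top g : g ∈ R) h⟩
      exact fun z hz => (hle hz).2
    let U1 : Submodule K W :=
      { carrier := {w | ∀ z ∈ Z, ρ z w = w}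
        add_mem' := fun {x y} hx hy z hz => by rw [map_add, hx z hz, hy z hz]
        zero_mem' := fun z hz => map_zero _
        smul_mem' := fun c {x} hx z hz => by rw [map_smul, hx z hz] }
    rcases hWirr U1 (fun g w hw z hz => by
        rw [← Module.End.mul_apply, ← map_mul, ← Subgroup.mem_center_iff.1 hz g, map_mul,
          Module.End.mul_apply, hw z hz])
      (fun w hw z hz => by
        rw [← σ.apply_symm_apply z, ← Module.End.mul_apply, ← hSc, Module.End.mul_apply,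
          hw _ (hZσ' z hz)]) with h | h
    · have : v ∈ U1 := fun z hz => by rw [hμ0 z hz, hZ1 z hz, one_smul]
      rw [h] at this
      exact hv0 this
    · apply hna
      intro a b
      refine commutatorElement_eq_one_iff_mul_comm.1 (hinj _ (LinearMap.ext fun w => ?_))
      have hw : w ∈ U1 := h ▸ Submodule.mem_top
      exact hw _ (hZcomm a b)
  -- the weight on the radical
  obtain ⟨v1, lam1, hv1, hlam1⟩ := exists_weight (ρ1.comp R.subtype) (fun a b => by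
    show ρ1 (a : Q) * ρ1 (b : Q) = ρ1 (b : Q) * ρ1 (a : Q)
    rw [← map_mul, ← map_mul, show (a : Q) * b = ⁅(a : Q), (b : Q)⁆ * (b * a) by
      rw [commutatorElement_def]; group, map_mul]
    refine LinearMap.ext fun w => ?_
    rw [Module.End.mul_apply, hρ1Z _ (hZcomm _ _), a.2, one_smul])
  let μ1 : Q → K := fun a => if h : a ∈ R then lam1 ⟨a, h⟩ else 0
  have hμ1 : ∀ a ∈ R, ρ1 a v1 = μ1 a • v1 := fun a ha => by
    simp only [μ1, dif_pos ha]
    exact hlam1 ⟨a, ha⟩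
  obtain ⟨e1, m, hm, hn1, -, hpres1, hfix1⟩ :=
    weight_period Fact.out σ0 hσ0P ρ1 S1 hS1P hS1c hS1fix (R : Set Q) hRσ0 μ1 v1 hv1 hμ1
  obtain ⟨σ1, hσ1⟩ : ∃ σ1, σ1 = σ0 ^ p ^ e1 := ⟨_, rfl⟩
  have hσ1' : σ1 = σ ^ p ^ (e0 + e1) := by rw [hσ1, hσ0, ← pow_mul, ← pow_add]
  let W2 : Submodule K W1 :=
    { carrier := {w | ∀ a ∈ R, ρ1 a w = μ1 a • w}
      add_mem' := fun {x y} hx hy a ha => by rw [map_add, hx a ha, hy a ha, smul_add]
      zero_mem' := fun a ha => by simp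
      smul_mem' := fun c {x} hx a ha => by rw [map_smul, hx a ha, smul_comm] }
  have hW2 : ∀ g, ∀ w ∈ W2, ρ1 g w ∈ W2 := fun g w hw a ha => by
    rw [← Module.End.mul_apply, ← map_mul, show a * g = g * (a * ⁅a⁻¹, g⁻¹⁆) by
      rw [commutatorElement_def]; group, map_mul, map_mul, Module.End.mul_apply, Module.End.mul_apply,
      hρ1Z _ (hZcomm _ _), (R.inv_mem ha) g⁻¹, one_smul, hw a ha, map_smul]
  have hS2mem : ∀ w ∈ W2, (S1 ^ p ^ e1) w ∈ W2 := hpres1
  let ρ2 := subRep ρ1 W2 hW2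
  let S2 : Module.End K W2 := (S1 ^ p ^ e1).restrict hS2mem
  have hS2P : S2 ^ p ^ m = 1 :=
    restrict_pow_eq_one _ _ hS2mem (by rw [← pow_mul, ← pow_add, ← hn1, hS1P])
  have hS2c : ∀ a, S2 * ρ2 a = ρ2 (σ1 a) * S2 := fun a => LinearMap.ext fun w => Subtype.ext (by
    show (S1 ^ p ^ e1) (ρ1 a (w : W1)) = ρ1 (σ1 a) ((S1 ^ p ^ e1) (w : W1))
    rw [hσ1, ← Module.End.mul_apply, pow_intertwine ρ1 σ0 S1 hS1c, Module.End.mul_apply])
  have hS2fix : ∀ w, S2 w = w → w = 0 :=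
    fun w hw => Subtype.ext (hfix1 (w : W1) w.2 (congrArg Subtype.val hw))
  haveI : Nontrivial W2 := ⟨⟨⟨v1, hμ1⟩, 0, fun h => hv1 (congrArg Subtype.val h)⟩⟩
  have hR2 : ∀ (U : Submodule K W2) (a : Q) (c : K), U ≠ ⊥ → (∀ g, ∀ w ∈ U, ρ2 g w ∈ U) →
      (∀ w ∈ U, ρ2 a w = c • w) → a ∈ R := by
    intro U a c hU hUinv hc b
    obtain ⟨w, hwU, hw0⟩ := Submodule.exists_mem_ne_zero_of_ne_bot hU
    have h1 : ρ2 ⁅a, b⁆ (ρ2 b (ρ2 a w)) = ρ2 a (ρ2 b w) := by
      rw [← Module.End.mul_apply, ← Module.End.mul_apply, ← map_mul, ← map_mul, ← Module.End.mul_apply,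
        ← map_mul]
      congr 2
      rw [commutatorElement_def]; group
    rw [hc w hwU, hc _ (hUinv b w hwU), map_smul, map_smul] at h1
    have hc0 : c ≠ 0 := fun h => hw0 (rep_injective ρ2 a (by rw [hc w hwU, h, zero_smul, map_zero]))
    have h2 : ρ2 ⁅a, b⁆ (ρ2 b w) = μ0 ⁅a, b⁆ • ρ2 b w :=
      Subtype.ext (hρ1Z _ (hZcomm a b) _)
    rw [h2, smul_smul, mul_comm, ← smul_smul] at h1
    have hu : c • ρ2 b w ≠ 0 := smul_ne_zero hc0 fun h => hw0 (rep_injective ρ2 b (by rw [h, map_zero]))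
    rw [smul_comm] at h1
    exact smul_left_injective K hu ((smul_comm _ _ _).trans (h1.trans (one_smul K _).symm))
  have hμ2 : ∀ a ∈ R, ∀ w : W2, ρ2 a w = μ1 a • w := fun a ha w => Subtype.ext (w.2 a ha)
  have hRσ1 : ∀ a ∈ R, σ1 a ∈ R := by
    rw [hσ1]
    intro a ha
    generalize p ^ e1 = i
    induction i with
    | zero => exact ha
    | succ i ih => rw [pow_succ', MulAut.mul_apply]; exact hRσ0 _ ih
  have hnm : n + 1 = (e0 + e1) + m := by omega
  have hfree : ∀ a i, 0 < i → i < p ^ m → a⁻¹ * (σ1 ^ i) a ∈ R → a ∈ R := by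
    intro a i hi him ha
    have hσ1i : ∀ x ∈ R, (σ1 ^ i) x ∈ R := by
      clear ha him hi
      induction i with
      | zero => intro x hx; exact hx
      | succ i ih => intro x hx; rw [pow_succ', MulAut.mul_apply]; exact hRσ1 _ (ih x hx)
    obtain ⟨c, hc, hac⟩ := exists_fixed_in_left_coset (σ1 ^ i) (k := m)
      (by rw [← pow_mul, mul_comm, pow_mul,
        show σ1 ^ p ^ m = 1 by rw [hσ1', ← pow_mul, ← pow_add, ← hnm, hσ], one_pow])
      R hσ1i (not_dvd_of_pgroup hqp hQ R) ha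
    have hcZ : c ∈ Z := by
      refine hfreeZ (p ^ (e0 + e1) * i) (Nat.mul_pos (pow_pos (Fact.out : p.Prime).pos _) hi) ?_ c ?_
      · rw [hnm, pow_add p (e0 + e1) m]
        exact Nat.mul_lt_mul_of_pos_left him (pow_pos (Fact.out : p.Prime).pos _)
      · rw [pow_mul, ← hσ1', hc, inv_mul_cancel]
        exact Z.one_mem
    have h1 := R.mul_mem (hZR hcZ) (R.inv_mem hac)
    rwa [mul_inv_rev, inv_inv, mul_inv_cancel_left] at h1
  obtain ⟨hq2, b, hb1, hpb, hindex⟩ :=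
    homogeneous_core hp2 hQ hqK hpK σ1 m ρ2 S2 hS2P hS2c hS2fix R μ1 hμ2 hR2 hRcomm hRne hfree
  subst hq2
  -- the order of `Q ⧸ Z`
  obtain ⟨D, hD⟩ := hQ.index Z
  have hZmap : Z.map (σ : Q →* Q) = Z := by
    refine Subgroup.eq_of_le_of_card_ge ?_ ?_
    · rintro _ ⟨z, hz, rfl⟩; exact hZσ z hz
    · exact (Nat.card_congr (Z.equivMapOfInjective _ σ.injective).toEquiv).le
  let π : Equiv.Perm (Q ⧸ Z) := (QuotientGroup.congr Z Z σ hZmap).toEquiv
  have hπi : ∀ (i : ℕ) (a : Q), (π ^ i) (a : Q ⧸ Z) = (((σ ^ i) a : Q) : Q ⧸ Z) := by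
    intro i
    induction i with
    | zero => intro a; rfl
    | succ i ih =>
      intro a
      rw [pow_succ', Equiv.Perm.mul_apply, ih, pow_succ', MulAut.mul_apply]
      exact QuotientGroup.congr_mk Z Z σ hZmap _
  have hπ1 : ∀ x, π x ≠ 1 ↔ x ≠ 1 := fun x => (map_eq_one_iff (QuotientGroup.congr Z Z σ hZmap)
    (QuotientGroup.congr Z Z σ hZmap).injective).not
  have hdvd : p ^ (n + 1) ∣ 2 ^ D - 1 := by
    have hpow : ∀ (i : ℕ) (x : {x : Q ⧸ Z // x ≠ 1}), (((π.subtypePerm hπ1) ^ i) x).1 = (π ^ i) x.1 := by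
      intro i x
      rw [Equiv.Perm.subtypePerm_pow]
      rfl
    have h1 := dvd_card_of_free (π.subtypePerm hπ1) (pow_pos (Fact.out : p.Prime).pos (n + 1))
      (Equiv.ext fun x => Subtype.ext (by
        rw [hpow]
        obtain ⟨a, ha⟩ := QuotientGroup.mk_surjective x.1
        rw [← ha, hπi, hσ, MulAut.one_apply, Equiv.Perm.one_apply, ha]))
      (fun (x : {x : Q ⧸ Z // x ≠ 1}) i hi hiP h => x.2 (by
        have h' := congrArg Subtype.val h
        rw [hpow] at h'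
        obtain ⟨a, ha⟩ := QuotientGroup.mk_surjective x.1
        rw [← ha, hπi] at h'
        rw [← ha]
        exact (QuotientGroup.eq_one_iff a).2 (hfreeZ i hi hiP a (QuotientGroup.eq.1 h'.symm))))
    rw [← hD, Subgroup.index_eq_card, Nat.card_eq_fintype_card]
    rwa [Nat.card_eq_fintype_card, Fintype.card_subtype_compl, Fintype.card_subtype_eq] at h1
  have hZtop : Z ≠ ⊤ := fun h => hna fun x y =>
    (Subgroup.mem_center_iff.1 (show x ∈ Z by rw [h]; exact Subgroup.mem_top x) y).symm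
  have hD1 : 1 ≤ D := by
    rcases Nat.eq_zero_or_pos D with rfl | h
    · exact absurd (Subgroup.index_eq_one.1 hD) hZtop
    · exact h
  rw [hnm] at hdvd
  have hDge := dvd_exponent hp2 hb1 hm hpb hdvd
  -- the coordinates
  obtain ⟨d, hd⟩ : ∃ d, d = p ^ (e0 + e1) := ⟨_, rfl⟩
  have hd0 : 0 < d := hd ▸ pow_pos (Fact.out : p.Prime).pos _
  let Ψ : Q →* (Fin d → Q ⧸ R) :=
    { toFun := fun a j => (((σ ^ (j : ℕ)) a : Q) : Q ⧸ R)
      map_one' := funext fun j => by rw [map_one]; rfl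
      map_mul' := fun x y => funext fun j => by rw [map_mul]; rfl }
  have hker : Ψ.ker = Z := by
    have hk : ∀ a, a ∈ Ψ.ker ↔ ∀ j, j < d → (σ ^ j) a ∈ R := fun a =>
      ⟨fun h j hj => (QuotientGroup.eq_one_iff _).1 (congrFun (MonoidHom.mem_ker.1 h) ⟨j, hj⟩),
        fun h => MonoidHom.mem_ker.2 (funext fun j => (QuotientGroup.eq_one_iff _).2 (h j j.2))⟩
    have hinvk : ∀ a ∈ Ψ.ker, σ a ∈ Ψ.ker := by
      intro a ha
      rw [hk] at ha ⊢
      intro j hj
      rw [← MulAut.mul_apply, ← pow_succ]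
      rcases Nat.lt_or_ge (j + 1) d with h | h
      · exact ha _ h
      · rw [show j + 1 = d by omega, hd, ← hσ1']
        exact hRσ1 _ (by simpa using ha 0 hd0)
    have hle : Z ≤ Ψ.ker := fun z hz => (hk z).2 fun j _ => hZR (hσi j z hz)
    rcases hirr Ψ.ker (hfr.trans_le hle) hinvk with h | h
    · rw [h, hfr]
    · exfalso
      exact hRne (eq_top_iff.2 fun a _ => by simpa using (hk a).1 (h.symm ▸ Subgroup.mem_top a) 0 hd0)
  have hsurj : Ψ.range = ⊤ := by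
    refine Subgroup.eq_top_of_le_card _ ?_
    rw [← Subgroup.index_ker, hker, hD, Nat.card_fun, Nat.card_eq_fintype_card (α := Fin d), Fintype.card_fin,
      ← Subgroup.index_eq_card, hindex, ← pow_mul, ← pow_mul]
    exact Nat.pow_le_pow_right (by norm_num) (Nat.le_of_dvd (by omega)
      (by rw [show b * (2 * d) = 2 * b * p ^ (e0 + e1) by rw [hd]; ring]; exact hDge))
  obtain ⟨a, b', hab⟩ : ∃ a b', μ0 ⁅a, b'⁆ ≠ 1 := by
    have h : ¬ ∀ a b', μ0 ⁅a, b'⁆ = 1 := fun h => hRne (eq_top_iff.2 fun a _ b' => h a b')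
    push Not at h
    exact h
  obtain ⟨A, hA⟩ := MonoidHom.mem_range.1
    (hsurj ▸ Subgroup.mem_top (Pi.mulSingle (⟨0, hd0⟩ : Fin d) (a : Q ⧸ R)) : _ ∈ Ψ.range)
  obtain ⟨B, hB⟩ := MonoidHom.mem_range.1
    (hsurj ▸ Subgroup.mem_top (Pi.mulSingle (⟨0, hd0⟩ : Fin d) (b' : Q ⧸ R)) : _ ∈ Ψ.range)
  have hAB : ∀ (X : Q) (x : Q), Ψ X = Pi.mulSingle (⟨0, hd0⟩ : Fin d) (x : Q ⧸ R) →
      x⁻¹ * X ∈ R ∧ ∀ r, 0 < r → r < d → (σ ^ r) X ∈ R := by
    intro X x h
    refine ⟨?_, fun r hr hrd => ?_⟩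
    · have h1 := congrFun h ⟨0, hd0⟩
      rw [Pi.mulSingle_eq_same] at h1
      exact QuotientGroup.eq.1 (by simpa [Ψ] using h1.symm)
    · have h1 := congrFun h ⟨r, hrd⟩
      rw [Pi.mulSingle_eq_of_ne (fun hh => hr.ne' (congrArg Fin.val hh))] at h1
      exact (QuotientGroup.eq_one_iff _).1 h1
  obtain ⟨hA0, hAr⟩ := hAB A a hA
  obtain ⟨hB0, hBr⟩ := hAB B b' hB
  have hmodR : ∀ x X y, x⁻¹ * X ∈ R → μ0 ⁅X, y⁆ = μ0 ⁅x, y⁆ := fun x X y h => by
    conv_lhs => rw [← mul_inv_cancel_left x X]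
    rw [hcmul, h y, mul_one]
  have hc : μ0 ⁅A, B⁆ = μ0 ⁅a, b'⁆ := by
    rw [hmodR a A B hA0]
    have h1 := hmodR b' B a hB0
    have h2 := hsym B a
    have h3 := hsym b' a
    rw [h1] at h2
    exact mul_left_cancel₀ (hμne _ (hZcomm b' a)) (h2.trans h3.symm)
  obtain ⟨z, hz⟩ : ∃ z, z = ⁅A, B⁆ := ⟨_, rfl⟩
  obtain ⟨c, hcdef⟩ : ∃ c, c = μ0 z := ⟨_, rfl⟩
  have hzZ : z ∈ Z := hz ▸ hZcomm A B
  have hzne : c ≠ 1 := by rw [hcdef, hz, hc]; exact hab
  have hsq : c * c = 1 := by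
    rw [hcdef, hz, ← hcmul]
    exact hZR (hfr ▸ (pow_two A ▸ Solv.pow_mem_frattini hQ A) : A * A ∈ Z) B
  let wz : ℕ → Q := fun k => Nat.rec 1 (fun k w => w * (σ ^ k) z) k
  have hwS : ∀ k, wz (k + 1) = wz k * (σ ^ k) z := fun _ => rfl
  have hwZ : ∀ k, wz k ∈ Z := by
    intro k
    induction k with
    | zero => exact Z.one_mem
    | succ k ih => rw [hwS]; exact Z.mul_mem ih (hσi k z hzZ)
  have hw1 : ∀ k, z * σ (wz k) = wz (k + 1) := by
    intro k
    induction k with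
    | zero => rw [hwS, show wz 0 = 1 from rfl, map_one, one_mul, mul_one, pow_zero, MulAut.one_apply]
    | succ k ih => rw [hwS k, map_mul, ← mul_assoc, ih, ← MulAut.mul_apply, ← pow_succ', hwS (k + 1), hwS k]
  have hfixw : σ (wz (p ^ (n + 1))) = wz (p ^ (n + 1)) := by
    refine mul_left_cancel (a := z) ?_
    rw [hw1, hwS, hσ, MulAut.one_apply]
    exact Subgroup.mem_center_iff.1 hzZ _
  have hperd : ∀ (k : ℕ) (y : Q), y ∈ Z → μ0 ((σ ^ (d * k)) y) = μ0 y := by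
    have h0 : ∀ (k : ℕ) (y : Q), y ∈ Z → μ0 ((σ0 ^ k) y) = μ0 y := by
      intro k
      induction k with
      | zero => intro y _; rfl
      | succ k ih =>
        intro y hy
        rw [pow_succ, MulAut.mul_apply, ih _ (hσ0 ▸ hσi _ y hy), hper0 y hy]
    intro k y hy
    rw [hd, pow_add, mul_assoc, pow_mul, ← hσ0]
    exact h0 _ y hy
  have hval : ∀ r, 0 < r → r < d → μ0 ((σ ^ r) z) = 1 := fun r hr hrd => by
    rw [hz, map_commutatorElement]
    exact hAr r hr hrd _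
  have hsum : ∀ k, μ0 (wz (d * k)) = c ^ k := by
    intro k
    induction k with
    | zero => rw [Nat.mul_zero, pow_zero]; exact hμone
    | succ k ih =>
      have h1 : ∀ r, r < d → μ0 (wz (d * k + (r + 1))) = c ^ (k + 1) := by
        intro r
        induction r with
        | zero =>
          intro _
          rw [show d * k + (0 + 1) = d * k + 1 from rfl, hwS, hμmul _ (hwZ _) _ (hσi _ z hzZ), ih,
            hperd k z hzZ, ← hcdef, pow_succ]
        | succ r ihr =>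
          intro hr
          rw [← add_assoc (d * k), hwS, hμmul _ (hwZ _) _ (hσi _ z hzZ), ihr (by omega), pow_add σ,
            MulAut.mul_apply, hperd k _ (hσi _ z hzZ), hval _ (by omega) hr, mul_one]
      have h2 := h1 (d - 1) (by omega)
      rwa [Nat.sub_add_cancel hd0, ← Nat.mul_succ] at h2
  have h1 : c ^ p ^ m = 1 := by
    rw [← hsum, hd, ← pow_add, ← hnm, hfpf _ hfixw, hμone]
  obtain ⟨k, hk⟩ : Odd (p ^ m) := ((Fact.out : p.Prime).odd_of_ne_two hp2).pow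
  rw [hk, pow_succ, pow_mul, pow_two, hsq, one_pow, one_mul] at h1
  exact hzne h1

end Cfsg.Agent.Solv.FPFOp
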