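import Cfsg.Agent.Lib.Solv.Cores
import Cfsg.Agent.Lib.Perm.NilpotentHall

/-!
Primary parts of a nilpotent subgroup, and factorisations into nilpotent subgroups of coprime orders.
-/

set_option autoImplicit false
set_option linter.style.haveILetI false
set_option linter.unusedSectionVars false

open scoped Pointwise

namespace Cfsg.Agent.Solv.Fct

universe u

variable {G : Type u} [Group G] [Finite G]

/-- the `p`-part of a subgroup -/
noncomputable def part (A : Subgroup G) (p : ℕ) : Subgroup G :=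
  (Classical.choice (inferInstance : Nonempty (Sylow p A)) : Sylow p A).1.map A.subtype

theorem part_le (A : Subgroup G) (p : ℕ) : part A p ≤ A := Subgroup.map_subtype_le _

theorem part_pgroup (A : Subgroup G) (p : ℕ) : IsPGroup p (part A p) := (Sylow.isPGroup' _).map _

theorem part_card (A : Subgroup G) (p : ℕ) [Fact p.Prime] :
    Nat.card (part A p) = p ^ (Nat.card A).factorization p := by
  rw [part, card_map_subtype]
  exact Sylow.card_eq_multiplicity _

theorem part_ne_bot (A : Subgroup G) {p : ℕ} [Fact p.Prime] (h : p ∣ Nat.card A) : part A p ≠ ⊥ := by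
  intro e
  have h1 := part_card A p
  rw [e, Subgroup.card_bot] at h1
  exact (Nat.one_lt_pow ((Fact.out : p.Prime).factorization_pos_of_dvd Nat.card_pos.ne' h).ne'
    (Fact.out : p.Prime).one_lt).ne h1

theorem mem_part {A : Subgroup G} (hA : Group.IsNilpotent A) {p : ℕ} [Fact p.Prime] {x : G} (hx : x ∈ A)
    (hp : ∃ k, orderOf x = p ^ k) : x ∈ part A p := by
  obtain ⟨P, hP⟩ : ∃ P : Sylow p A, P = Classical.choice (inferInstance : Nonempty (Sylow p A)) := ⟨_, rfl⟩
  haveI : (P : Subgroup A).Normal := ((Group.isNilpotent_of_finite_tfae (G := A)).out 0 3 : Group.IsNilpotent A ↔ ∀ (p : ℕ) (_ : Fact p.Prime) (P : Sylow p A), (P : Subgroup A).Normal).1 hA p inferInstance P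
  obtain ⟨k, hk⟩ := hp
  have hxp : IsPGroup p (Subgroup.zpowers (⟨x, hx⟩ : A)) :=
    IsPGroup.of_card (n := k) (by rw [Nat.card_zpowers, Subgroup.orderOf_mk, hk])
  have h2 := hxp.to_sup_of_normal_right P.2
  have h3 : Subgroup.zpowers (⟨x, hx⟩ : A) ⊔ P = P := P.3 h2 le_sup_right
  have h4 : (⟨x, hx⟩ : A) ∈ (P : Subgroup A) := h3 ▸ Subgroup.mem_sup_left (Subgroup.mem_zpowers _)
  rw [part, ← hP]
  exact ⟨_, h4, rfl⟩

theorem part_order {A : Subgroup G} {p : ℕ} [Fact p.Prime] {x : G} (hx : x ∈ part A p) :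
    ∃ k, orderOf x = p ^ k := by
  obtain ⟨k, hk⟩ := IsPGroup.iff_orderOf.1 (part_pgroup A p) ⟨x, hx⟩
  exact ⟨k, by rwa [Subgroup.orderOf_mk] at hk⟩

theorem part_conj {A : Subgroup G} (hA : Group.IsNilpotent A) {p : ℕ} [Fact p.Prime] {a x : G} (ha : a ∈ A)
    (hx : x ∈ part A p) : a * x * a⁻¹ ∈ part A p :=
  mem_part hA (A.mul_mem (A.mul_mem ha (part_le A p hx)) (A.inv_mem ha)) (by
    obtain ⟨k, hk⟩ := part_order hx
    exact ⟨k, by rw [← hk]; exact (MulAut.conj a).orderOf_eq x⟩)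

theorem le_normalizer_part {A : Subgroup G} (hA : Group.IsNilpotent A) (p : ℕ) [Fact p.Prime] :
    A ≤ Subgroup.normalizer (part A p : Set G) :=
  fun _ ha => Subgroup.mem_normalizer_fintype fun _ hx => part_conj hA ha hx

theorem part_comm {A : Subgroup G} (hA : Group.IsNilpotent A) {p q : ℕ} [Fact p.Prime] [Fact q.Prime]
    (hne : p ≠ q) {x y : G} (hx : x ∈ part A p) (hy : y ∈ part A q) : x * y = y * x :=
  Perm.NilpotentHall.comm_nilpotent hA (part_le A p hx) (part_le A q hy)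
    (Perm.NilpotentHall.coprime_of_mem hne (part_pgroup A p) (part_pgroup A q) hx hy)

/-- a subgroup containing all parts contains the group -/
theorem le_of_parts {A H : Subgroup G} (h : ∀ p : ℕ, [Fact p.Prime] → part A p ≤ H) : A ≤ H := by
  rw [← Subgroup.subgroupOf_eq_top]
  refine eq_top_of_forall_sylow_le _ fun p hp => ⟨Classical.choice inferInstance, fun x hx => ?_⟩
  exact h p ⟨x, hx, rfl⟩

theorem exists_central {A : Subgroup G} (hA : Group.IsNilpotent A) {p : ℕ} [hp : Fact p.Prime]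
    (h : p ∣ Nat.card A) : ∃ z ∈ part A p, z ≠ 1 ∧ orderOf z = p ∧ ∀ a ∈ A, z * a = a * z := by
  haveI : Nontrivial (part A p) := by
    rw [Subgroup.nontrivial_iff_ne_bot]; exact part_ne_bot A h
  haveI : Nontrivial (Subgroup.center (part A p)) := (part_pgroup A p).center_nontrivial
  have hdvd : p ∣ Nat.card (Subgroup.center (part A p)) := by
    obtain ⟨k, hk, e⟩ := ((part_pgroup A p).to_subgroup (Subgroup.center (part A p))).nontrivial_iff_card.1
      inferInstance
    rw [e]; exact dvd_pow_self p (by omega)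
  obtain ⟨z, hz⟩ := exists_prime_orderOf_dvd_card' p hdvd
  have hzo : orderOf ((z : part A p) : G) = p := by
    rw [Subgroup.orderOf_coe, Subgroup.orderOf_coe, hz]
  refine ⟨((z : part A p) : G), (z : part A p).2, fun e => hp.out.one_lt.ne' (by rw [← hzo, e, orderOf_one]),
    hzo, fun a ha => ?_⟩
  have : A ≤ Subgroup.centralizer ({((z : part A p) : G)} : Set G) := by
    refine le_of_parts fun q hq x hx => ?_
    rw [Subgroup.mem_centralizer_singleton_iff]
    rcases eq_or_ne q p with rfl | hne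
    · exact congrArg Subtype.val (Subgroup.mem_center_iff.1 z.2 ⟨x, hx⟩)
    · exact part_comm hA hne hx (z : part A p).2
  exact (Subgroup.mem_centralizer_singleton_iff.1 (this ha)).symm

/-- factorisation into nilpotent subgroups of coprime orders -/
structure IsFct (A B : Subgroup G) : Prop where
  prod : ∀ g, ∃ a ∈ A, ∃ b ∈ B, g = a * b
  cop : (Nat.card A).Coprime (Nat.card B)
  nilA : Group.IsNilpotent A
  nilB : Group.IsNilpotent B

/-- `L` is factorised -/
def Fac (A B L : Subgroup G) : Prop := ∀ a ∈ A, ∀ b ∈ B, a * b ∈ L → a ∈ L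

variable {A B : Subgroup G}

theorem IsFct.symm (h : IsFct A B) : IsFct B A :=
  ⟨fun g => by
    obtain ⟨a, ha, b, hb, e⟩ := h.prod g⁻¹
    exact ⟨b⁻¹, B.inv_mem hb, a⁻¹, A.inv_mem ha, by rw [← mul_inv_rev, ← e, inv_inv]⟩,
    h.cop.symm, h.nilB, h.nilA⟩

theorem Fac.symm {L : Subgroup G} (h : Fac A B L) : Fac B A L := by
  intro b hb a ha hL
  have h1 : a⁻¹ * b⁻¹ ∈ L := by rw [← mul_inv_rev]; exact L.inv_mem hL
  have h2 : a⁻¹ ∈ L := h _ (A.inv_mem ha) _ (B.inv_mem hb) h1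
  simpa [mul_assoc] using L.mul_mem hL h2

theorem IsFct.inf_eq_bot (h : IsFct A B) : A ⊓ B = ⊥ := coprime_inf h.cop

theorem IsFct.eq_one (h : IsFct A B) {x : G} (ha : x ∈ A) (hb : x ∈ B) : x = 1 :=
  Subgroup.mem_bot.1 (h.inf_eq_bot ▸ Subgroup.mem_inf.2 ⟨ha, hb⟩)

theorem IsFct.unique (h : IsFct A B) {a a' b b' : G} (ha : a ∈ A) (ha' : a' ∈ A) (hb : b ∈ B) (hb' : b' ∈ B)
    (e : a * b = a' * b') : a = a' ∧ b = b' := by
  have h1 : a'⁻¹ * a = b' * b⁻¹ := by
    rw [eq_mul_inv_iff_mul_eq, mul_assoc, e, inv_mul_cancel_left]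
  have h2 := h.eq_one (A.mul_mem (A.inv_mem ha') ha) (h1 ▸ B.mul_mem hb' (B.inv_mem hb))
  have h3 : a = a' := (inv_mul_eq_one.1 h2).symm
  exact ⟨h3, mul_left_cancel (h3 ▸ e : a' * b = a' * b')⟩

theorem fac_of_le {L : Subgroup G} (h : A ≤ L) : Fac A B L := fun _ ha _ _ _ => h ha

theorem fac_of_ge {L : Subgroup G} (h : B ≤ L) : Fac A B L := fun a _ b hb hL => by
  simpa using L.mul_mem hL (L.inv_mem (h hb))

theorem Fac.exists_prod (h : IsFct A B) {L : Subgroup G} (hL : Fac A B L) {v : G} (hv : v ∈ L) :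
    ∃ a ∈ A, ∃ b ∈ B, a ∈ L ∧ b ∈ L ∧ v = a * b := by
  obtain ⟨a, ha, b, hb, rfl⟩ := h.prod v
  have h1 := hL a ha b hb hv
  exact ⟨a, ha, b, hb, h1, by simpa using L.mul_mem (L.inv_mem h1) hv, rfl⟩

theorem Fac.card (h : IsFct A B) {L : Subgroup G} (hL : Fac A B L) :
    Nat.card L = Nat.card (A ⊓ L : Subgroup G) * Nat.card (B ⊓ L : Subgroup G) := by
  rw [← Nat.card_prod]
  symm
  refine Nat.card_eq_of_bijective (fun x : (A ⊓ L : Subgroup G) × (B ⊓ L : Subgroup G) =>
    (⟨(x.1 : G) * x.2, L.mul_mem x.1.2.2 x.2.2.2⟩ : L)) ⟨?_, ?_⟩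
  · rintro ⟨x, y⟩ ⟨x', y'⟩ e
    obtain ⟨e1, e2⟩ := h.unique x.2.1 x'.2.1 y.2.1 y'.2.1 (congrArg Subtype.val e)
    exact Prod.ext (Subtype.ext e1) (Subtype.ext e2)
  · rintro ⟨v, hv⟩
    obtain ⟨a, ha, b, hb, haL, hbL, rfl⟩ := hL.exists_prod h hv
    exact ⟨(⟨a, ha, haL⟩, ⟨b, hb, hbL⟩), rfl⟩

theorem IsFct.card (h : IsFct A B) : Nat.card G = Nat.card A * Nat.card B := by
  have := (fac_of_le (A := A) (B := B) (L := ⊤) le_top).card h
  rwa [inf_top_eq, inf_top_eq, Subgroup.card_top] at this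

theorem IsFct.index (h : IsFct A B) : A.index = Nat.card B := by
  have h1 := A.card_mul_index
  rw [h.card] at h1
  exact Nat.eq_of_mul_eq_mul_left Nat.card_pos h1

theorem IsFct.not_dvd (h : IsFct A B) {p : ℕ} [hp : Fact p.Prime] (hA : p ∣ Nat.card A) :
    ¬ p ∣ Nat.card B := fun hB => hp.out.ne_one (Nat.eq_one_of_dvd_coprimes h.cop hA hB)

theorem IsFct.part_index (h : IsFct A B) {p : ℕ} [Fact p.Prime] (hA : p ∣ Nat.card A) :
    ¬ p ∣ (part A p).index := by
  rw [← Subgroup.relIndex_mul_index (part_le A p), h.index]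
  refine (Fact.out : p.Prime).not_dvd_mul ?_ (h.not_dvd hA)
  rw [Subgroup.relIndex]
  have : (part A p).subgroupOf A = (Classical.choice (inferInstance : Nonempty (Sylow p A)) : Sylow p A).1 :=
    Subgroup.comap_map_eq_self_of_injective A.subtype_injective _
  rw [this]
  exact Sylow.not_dvd_index _

/-- a normal subgroup of a factorised group with order prime to `|B|` lies in `A` -/
theorem Fac.normal_le (h : IsFct A B) {L : Subgroup G} (hL : Fac A B L) {S : Subgroup G} (hS : S ≤ L)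
    (hSn : L ≤ Subgroup.normalizer (S : Set G)) (hc : (Nat.card S).Coprime (Nat.card B)) : S ≤ A := by
  intro x hx
  obtain ⟨a, ha, b, hb, haL, hbL, rfl⟩ := hL.exists_prod h (hS hx)
  suffices b = 1 by rw [this, mul_one]; exact ha
  haveI hn : (S.subgroupOf L).Normal := (Subgroup.normal_subgroupOf_iff_le_normalizer hS).2 hSn
  obtain ⟨T, hT⟩ : ∃ T, T = (S.subgroupOf L) ⊔ (A.subgroupOf L) := ⟨_, rfl⟩
  have hbT : (⟨b, hbL⟩ : L) ∈ T := by
    rw [hT]
    have h1 : (⟨a, haL⟩ : L)⁻¹ * ⟨a * b, hS hx⟩ = ⟨b, hbL⟩ := Subtype.ext (by simp)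
    rw [← h1]
    exact mul_mem (inv_mem (Subgroup.mem_sup_right (show (⟨a, haL⟩ : L) ∈ A.subgroupOf L from ha)))
      (Subgroup.mem_sup_left (show (⟨a * b, hS hx⟩ : L) ∈ S.subgroupOf L from hx))
  have hd : orderOf b ∣ Nat.card S * Nat.card A := by
    rw [← Subgroup.orderOf_mk b hbL]
    refine (Subgroup.orderOf_dvd_natCard T hbT).trans ?_
    rw [hT]
    refine (card_sup_dvd _ _).trans (mul_dvd_mul ?_ ?_)
    · rw [card_subgroupOf hS]
    · rw [← Subgroup.inf_subgroupOf_right, card_subgroupOf inf_le_right]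
      exact Subgroup.card_dvd_of_le inf_le_left
  have hd2 : orderOf b ∣ Nat.card B := Subgroup.orderOf_dvd_natCard B hb
  exact orderOf_eq_one_iff.1 (Nat.eq_one_of_dvd_coprimes (hc.mul_left h.cop) hd hd2)

/-- a factorised subgroup is a factorised group -/
theorem Fac.sub (h : IsFct A B) {L : Subgroup G} (hL : Fac A B L) :
    IsFct (A.subgroupOf L) (B.subgroupOf L) := by
  haveI := h.nilA
  haveI := h.nilB
  refine ⟨fun v => ?_, ?_, ?_, ?_⟩
  · obtain ⟨a, ha, b, hb, haL, hbL, e⟩ := hL.exists_prod h v.2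
    exact ⟨⟨a, haL⟩, ha, ⟨b, hbL⟩, hb, Subtype.ext e⟩
  · rw [← Subgroup.inf_subgroupOf_right A, ← Subgroup.inf_subgroupOf_right B,
      card_subgroupOf inf_le_right, card_subgroupOf inf_le_right]
    exact (h.cop.coprime_dvd_left (Subgroup.card_dvd_of_le inf_le_left)).coprime_dvd_right
      (Subgroup.card_dvd_of_le inf_le_left)
  · rw [← Subgroup.inf_subgroupOf_right A]
    haveI := isNilpotent_of_le (inf_le_left : A ⊓ L ≤ A) h.nilA
    exact Group.nilpotent_of_mulEquiv (Subgroup.subgroupOfEquivOfLe (inf_le_right : A ⊓ L ≤ L)).symm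
  · rw [← Subgroup.inf_subgroupOf_right B]
    haveI := isNilpotent_of_le (inf_le_left : B ⊓ L ≤ B) h.nilB
    exact Group.nilpotent_of_mulEquiv (Subgroup.subgroupOfEquivOfLe (inf_le_right : B ⊓ L ≤ L)).symm

end Cfsg.Agent.Solv.Fct
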