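import Cfsg.Agent.Lib.Solv.Generation
import Mathlib.GroupTheory.Schreier
import Mathlib.GroupTheory.Abelianization.Defs

/-!
# Bounding the derived group by those of fixed point subgroups

`A` is abelian, acts coprimely on `K`, and any two subgroups of `A` with cyclic quotient share a
non-identity element. If every derived group of a `C_K(c)` has order at most `m`, then the order of
the derived group of `K` is bounded in terms of `m` and the order of `A`.
-/

set_option autoImplicit false
set_option linter.style.haveILetI false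

open scoped Pointwise commutatorElement

namespace Cfsg.Agent.Solv.FixDer

universe u

variable {G : Type u} [Group G]

/-- The set of products `c₁ ⋯ cₖ` with `cᵢ` fixed by the `i`th subgroup. -/
def prodFix (P : Subgroup G) : List (Subgroup G) → Set G
  | [] => {1}
  | B :: l => ((P ⊓ Subgroup.centralizer (B : Set G) : Subgroup G) : Set G) * prodFix P l

theorem one_mem_prodFix (P : Subgroup G) : ∀ l, (1 : G) ∈ prodFix P l
  | [] => rfl
  | B :: l => ⟨1, one_mem _, 1, one_mem_prodFix P l, one_mul 1⟩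

theorem prodFix_subset (P : Subgroup G) : ∀ l, prodFix P l ⊆ P
  | [] => by simp [prodFix]
  | B :: l => by
    rintro _ ⟨c, hc, r, hr, rfl⟩
    exact P.mul_mem (Subgroup.mem_inf.1 hc).1 (prodFix_subset P l hr)

theorem prodFix_insert (P L : Subgroup G) (hL : P ≤ Subgroup.normalizer (L : Set G)) :
    ∀ (l : List (Subgroup G)) (B : Subgroup G), B ∈ l →
      ∀ d ∈ P ⊓ Subgroup.centralizer (B : Set G), (∀ r ∈ P, r⁻¹ * d * r * d⁻¹ ∈ L) →
      ∀ t ∈ prodFix P l, t * d ∈ prodFix P l * (L : Set G) := by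
  intro l
  induction l with
  | nil => simp
  | cons B' l ih =>
    intro B hB d hd hcomm t ht
    obtain ⟨c, hc, r, hr, rfl⟩ := ht
    by_cases hBB : B = B'
    · subst hBB
      have hrP := prodFix_subset P l hr
      have hr' : r⁻¹ * d⁻¹ * r * d ∈ L := by
        have h1 := hcomm r hrP
        have h2 : d⁻¹ * (r⁻¹ * d * r * d⁻¹)⁻¹ * d⁻¹⁻¹ ∈ L :=
          conj_mem_of_mem_normalizer (hL (P.inv_mem (Subgroup.mem_inf.1 hd).1)) (L.inv_mem h1)
        rwa [show d⁻¹ * (r⁻¹ * d * r * d⁻¹)⁻¹ * d⁻¹⁻¹ = r⁻¹ * d⁻¹ * r * d by group] at h2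
      refine ⟨c * d * r, ⟨c * d, mul_mem hc hd, r, hr, rfl⟩, _, hr', ?_⟩
      group
    · obtain ⟨u, hu, n, hn, he⟩ := ih B ((List.mem_cons.1 hB).resolve_left hBB) d hd hcomm r hr
      have he' : u * n = r * d := he
      refine ⟨c * u, ⟨c, hc, u, hu, rfl⟩, n, hn, ?_⟩
      show c * u * n = c * r * d
      rw [mul_assoc, he', mul_assoc]

/-- A `p`-group is the product of the fixed points of the subgroups with cyclic quotient. -/
theorem subset_prodFix [Finite G] {p : ℕ} [Fact p.Prime] (A P : Subgroup G)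
    (hA : IsMulCommutative A) (hP : IsPGroup p P) (hAP : A ≤ Subgroup.normalizer (P : Set G))
    (hco : (Nat.card A).Coprime (Nat.card P)) (l : List (Subgroup G))
    (hl : ∀ B ∈ CycQuot A, B ∈ l) : (P : Set G) ⊆ prodFix P l := by
  haveI : Group.IsNilpotent P := hP.isNilpotent
  obtain ⟨n, hn⟩ := (Subgroup.isNilpotent_iff_lowerCentralSeries P).1 inferInstance
  have key : ∀ i, (P : Set G) ⊆ prodFix P l * (P.lowerCentralSeries i : Set G) := by
    intro i
    induction i with
    | zero =>
      intro x hx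
      exact ⟨1, one_mem_prodFix P l, x, by rw [Subgroup.lowerCentralSeries_zero]; exact hx, one_mul x⟩
    | succ i ih =>
      set L := P.lowerCentralSeries i with hL
      set L' := P.lowerCentralSeries (i + 1) with hL'
      have hle : ∀ j, P.lowerCentralSeries j ≤ P := fun j => by
        induction j with
        | zero => rw [Subgroup.lowerCentralSeries_zero]
        | succ j ihj =>
          rw [Subgroup.lowerCentralSeries_succ]
          exact Subgroup.commutator_le.2 fun a ha b hb =>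
            mul_mem (mul_mem (mul_mem (ihj ha) hb) (inv_mem (ihj ha))) (inv_mem hb)
      have hinv : ∀ j, A ⊔ P ≤ Subgroup.normalizer (P.lowerCentralSeries j : Set G) := fun j => by
        have hAP' : A ⊔ P ≤ Subgroup.normalizer (P : Set G) := sup_le hAP Subgroup.le_normalizer
        induction j with
        | zero => rwa [Subgroup.lowerCentralSeries_zero]
        | succ j ihj =>
          intro a ha
          refine mem_normalizer_of_conj_smul ?_
          rw [Subgroup.lowerCentralSeries_succ, conj_smul_eq_map, Subgroup.map_commutator,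
            ← conj_smul_eq_map, ← conj_smul_eq_map, conj_smul_of_mem_normalizer (ihj ha),
            conj_smul_of_mem_normalizer (hAP' ha)]
      intro x hx
      obtain ⟨t, ht, y, hy, rfl⟩ := ih hx
      have hgen := gen_pgroup A hA _ L rfl (hP.to_le (hle i)) (le_sup_left.trans (hinv i))
        (hco.coprime_dvd_right (Subgroup.card_dvd_of_le (hle i)))
      set W : Set G := {d | ∃ B ∈ CycQuot A, d ∈ L ⊓ Subgroup.centralizer (B : Set G)}
      have hyW : y ∈ Subgroup.closure W := by
        refine (hgen.trans (iSup₂_le fun B hB => ?_)) hy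
        exact fun d hd => Subgroup.subset_closure ⟨B, hB, hd⟩
      have step : ∀ d ∈ W, ∀ z ∈ prodFix P l * (L' : Set G), z * d ∈ prodFix P l * (L' : Set G) := by
        rintro d ⟨B, hB, hdL, hdB⟩ _ ⟨t, ht, n, hn, rfl⟩
        have hdP : d ∈ P := hle i hdL
        have hcm : ∀ r ∈ P, r⁻¹ * d * r * d⁻¹ ∈ L' := fun r hr => by
          rw [hL', Subgroup.lowerCentralSeries_succ, Subgroup.commutator_comm]
          have := Subgroup.commutator_mem_commutator (P.inv_mem hr) hdL
          simpa [commutatorElement_def, mul_assoc] using this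
        obtain ⟨u, hu, n', hn', he⟩ := prodFix_insert P L' (le_sup_right.trans (hinv (i + 1))) l B
          (hl B hB) d ⟨hdP, hdB⟩ hcm t ht
        have hd' := conj_mem_of_mem_normalizer
            (hinv (i + 1) (Subgroup.mem_sup_right (P.inv_mem hdP))) hn
        refine ⟨u, hu, n' * (d⁻¹ * n * d⁻¹⁻¹), L'.mul_mem hn' hd', ?_⟩
        show u * (n' * (d⁻¹ * n * d⁻¹⁻¹)) = t * n * d
        rw [← mul_assoc, show u * n' = t * d from he, inv_inv]
        group
      have hinvW : ∀ d ∈ W, d⁻¹ ∈ W := fun d ⟨B, hB, hd⟩ => ⟨B, hB, inv_mem hd⟩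
      have hall : ∀ d ∈ Subgroup.closure W, ∀ z ∈ prodFix P l * (L' : Set G),
          z * d ∈ prodFix P l * (L' : Set G) := by
        intro d hd
        induction hd using Subgroup.closure_induction with
        | mem d hd => exact step d hd
        | one => simp
        | mul a b _ _ iha ihb => intro z hz; rw [← mul_assoc]; exact ihb _ (iha z hz)
        | inv a _ iha =>
          intro z hz
          -- right translation is injective, hence bijective, on a finite set
          have himg := Set.eq_of_subset_of_ncard_le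
            (s := (fun v => v * a) '' (prodFix P l * (L' : Set G)))
            (by rintro _ ⟨v, hv, rfl⟩; exact iha v hv)
            (Set.ncard_image_of_injective _ (mul_left_injective a)).ge (Set.toFinite _)
          obtain ⟨w, hw, hwe⟩ := himg.ge hz
          rw [← show w * a = z from hwe, mul_inv_cancel_right]
          exact hw
      exact hall y hyW t ⟨t, ht, 1, one_mem _, mul_one t⟩
  intro x hx
  obtain ⟨t, ht, y, hy, rfl⟩ := key n hx
  rw [SetLike.mem_coe, hn, Subgroup.mem_bot] at hy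
  subst hy
  simpa using ht

theorem exists_reps [Finite G] (P N : Subgroup G) (hN : P ≤ Subgroup.normalizer (N : Set G)) (M : ℕ) :
    ∀ l : List (Subgroup G),
      (∀ B ∈ l, ∃ R : Set G, R.ncard ≤ M ∧ R ⊆ P ∧
        ((P ⊓ Subgroup.centralizer (B : Set G) : Subgroup G) : Set G) ⊆ R * (N : Set G)) →
      ∃ R : Set G, R.ncard ≤ M ^ l.length ∧ R ⊆ P ∧ prodFix P l ⊆ R * (N : Set G) := by
  intro l
  induction l with
  | nil =>
    intro _
    exact ⟨{1}, by simp, by simp, fun x hx => ⟨x, hx, 1, one_mem _, mul_one x⟩⟩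
  | cons B l ih =>
    intro h
    obtain ⟨R₁, h1, h1P, h1s⟩ := h B (List.mem_cons_self ..)
    obtain ⟨R₂, h2, h2P, h2s⟩ := ih fun B' hB' => h B' (List.mem_cons_of_mem _ hB')
    refine ⟨R₁ * R₂, ?_, ?_, ?_⟩
    · rw [← Set.image_mul_prod, List.length_cons, pow_succ']
      refine (Set.ncard_image_le (Set.toFinite _)).trans ?_
      rw [Set.ncard_prod]
      exact Nat.mul_le_mul h1 h2
    · rintro _ ⟨a, ha, b, hb, rfl⟩; exact P.mul_mem (h1P ha) (h2P hb)
    · rintro _ ⟨c, hc, r, hr, rfl⟩
      obtain ⟨a, ha, n, hn, rfl⟩ := h1s hc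
      obtain ⟨b, hb, n', hn', rfl⟩ := h2s hr
      refine ⟨a * b, Set.mul_mem_mul ha hb, b⁻¹ * n * b⁻¹⁻¹ * n', mul_mem
        (conj_mem_of_mem_normalizer (hN (P.inv_mem (h2P hb))) hn) hn', ?_⟩
      group

theorem le_pow_of_ordProj_le {d B : ℕ} (hd : d ≠ 0) (hB : 1 ≤ B)
    (h : ∀ p : ℕ, p.Prime → p ∣ d → p ^ d.factorization p ≤ B) : d ≤ B ^ (B + 1) := by
  rw [← Nat.prod_factorization_pow_eq_self hd]
  refine (Finset.prod_le_pow_card _ _ B fun p hp => ?_).trans (Nat.pow_le_pow_right hB ?_)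
  · rw [Nat.support_factorization, Nat.mem_primeFactors] at hp
    exact h p hp.1 hp.2.1
  · rw [Nat.support_factorization]
    refine (Finset.card_le_card (fun p hp => ?_)).trans (Finset.card_range (B + 1)).le
    rw [Nat.mem_primeFactors] at hp
    rw [Finset.mem_range, Nat.lt_succ_iff]
    refine le_trans (Nat.le_self_pow ?_ p) (h p hp.1 hp.2.1)
    exact (hp.1.factorization_pos_of_dvd hd hp.2.1).ne'

/-- A group with a bounded generating set of elements of bounded order in its abelianization. -/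
theorem card_le_of_gens {H : Type*} [CommGroup H] [Finite H] (m : ℕ) (s : Finset H)
    (hm : ∀ x ∈ s, orderOf x ≤ m) : Nat.card (Subgroup.closure (s : Set H)) ≤ m ^ s.card := by
  classical
  induction s using Finset.induction_on with
  | empty => simp
  | insert a s ha ih =>
    rw [Finset.coe_insert, Set.insert_eq, Subgroup.closure_union, ← Subgroup.zpowers_eq_closure,
      Finset.card_insert_of_notMem ha, pow_succ']
    have h := card_sup_mul_card_inf (Subgroup.zpowers a) (Subgroup.closure (s : Set H))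
    calc Nat.card ↥(Subgroup.zpowers a ⊔ Subgroup.closure (s : Set H))
        ≤ Nat.card ↥(Subgroup.zpowers a ⊔ Subgroup.closure (s : Set H)) *
          Nat.card ↥(Subgroup.zpowers a ⊓ Subgroup.closure (s : Set H)) :=
          Nat.le_mul_of_pos_right _ Nat.card_pos
      _ = Nat.card (Subgroup.zpowers a) * Nat.card (Subgroup.closure (s : Set H)) := h
      _ ≤ m * m ^ s.card := Nat.mul_le_mul
          (by rw [Nat.card_zpowers]; exact hm a (Finset.mem_insert_self a s))
          (ih fun x hx => hm x (Finset.mem_insert_of_mem hx))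

theorem ncard_commutatorSet_le (H : Type*) [Group H] [Finite H] :
    Nat.card (commutatorSet H) ≤ (Subgroup.center H).index * (Subgroup.center H).index := by
  rw [Subgroup.index_eq_card, ← Nat.card_prod]
  refine Nat.card_le_card_of_surjective
    (fun q : (H ⧸ Subgroup.center H) × (H ⧸ Subgroup.center H) =>
      (⟨⁅q.1.out, q.2.out⁆, ⟨_, _, rfl⟩⟩ : commutatorSet H)) ?_
  rintro ⟨_, a, b, rfl⟩
  refine ⟨(QuotientGroup.mk a, QuotientGroup.mk b), Subtype.ext ?_⟩
  obtain ⟨⟨z, hz⟩, hza⟩ := QuotientGroup.mk_out_eq_mul (Subgroup.center H) a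
  obtain ⟨⟨w, hw⟩, hwb⟩ := QuotientGroup.mk_out_eq_mul (Subgroup.center H) b
  show ⁅(QuotientGroup.mk a : H ⧸ Subgroup.center H).out, (QuotientGroup.mk b : H ⧸ Subgroup.center H).out⁆ = ⁅a, b⁆
  rw [hza, hwb]
  rw [Subgroup.mem_center_iff] at hz hw
  simp only [commutatorElement_def, mul_inv_rev]
  calc a * z * (b * w) * (z⁻¹ * a⁻¹) * (w⁻¹ * b⁻¹)
      = a * ((z * (b * w)) * z⁻¹) * a⁻¹ * w⁻¹ * b⁻¹ := by group
    _ = a * b * (w * a⁻¹) * w⁻¹ * b⁻¹ := by rw [← hz]; group
    _ = _ := by rw [← hw]; group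

/-- The bound. -/
def bound (N m : ℕ) : ℕ :=
  let E := N * m + 1
  let B := (E ^ E) ^ (2 ^ N)
  let d := B ^ (B + 1)
  d ^ (d * (d * d) + 1) * (m + 1) ^ E

theorem card_commutator_le [Finite G] (A K : Subgroup G) (hA : IsMulCommutative A)
    (hAK : A ≤ Subgroup.normalizer (K : Set G)) (hco : (Nat.card A).Coprime (Nat.card K))
    (hmeet : ∀ B ∈ CycQuot A, ∀ B' ∈ CycQuot A, ∃ c ∈ A, c ≠ 1 ∧ c ∈ B ∧ c ∈ B') (m : ℕ)
    (hm : ∀ c ∈ A, c ≠ 1 → Nat.card ↥(⁅K ⊓ Subgroup.centralizer ({c} : Set G),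
      K ⊓ Subgroup.centralizer ({c} : Set G)⁆) ≤ m) :
    Nat.card ↥(⁅K, K⁆) ≤ bound (Nat.card A) m := by
  classical
  set N := Nat.card A
  let D : A → Subgroup G := fun c => ⁅K ⊓ Subgroup.centralizer ({(c : G)} : Set G),
    K ⊓ Subgroup.centralizer ({(c : G)} : Set G)⁆
  have hDK : ∀ c, D c ≤ K := fun c => Subgroup.commutator_le.2 fun a ha b hb =>
    mul_mem (mul_mem (mul_mem ha.1 hb.1) (inv_mem ha.1)) (inv_mem hb.1)
  let E₀ : Set G := insert 1 (⋃ c : {c : A // c ≠ 1}, (D c : Set G))
  let W : Set G := {w | ∃ B ∈ CycQuot A, w ∈ K ⊓ Subgroup.centralizer (B : Set G)}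
  let H := Subgroup.closure E₀
  have hE₀K : E₀ ⊆ K := Set.insert_subset (one_mem K) (Set.iUnion_subset fun c => hDK c)
  have hHK : H ≤ K := (Subgroup.closure_le _).2 hE₀K
  have hE₀ : E₀.ncard ≤ N * m + 1 := by
    refine (Set.ncard_insert_le _ _).trans (Nat.add_le_add_right ?_ 1)
    rw [← Nat.card_coe_set_eq]
    calc Nat.card (⋃ c : {c : A // c ≠ 1}, (D c : Set G))
        ≤ Nat.card (Σ c : {c : A // c ≠ 1}, D c) := Nat.card_le_card_of_surjective
          (fun x => (⟨x.2, Set.mem_iUnion.2 ⟨x.1, x.2.2⟩⟩ : ↥(⋃ c : {c : A // c ≠ 1}, (D c : Set G))))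
          fun ⟨x, hx⟩ => by
            obtain ⟨c, hc⟩ := Set.mem_iUnion.1 hx
            exact ⟨⟨c, x, hc⟩, rfl⟩
      _ ≤ N * m := by
          letI := Fintype.ofFinite {c : A // c ≠ 1}
          rw [Nat.card_sigma]
          refine (Finset.sum_le_card_nsmul _ _ m fun c _ => hm _ c.1.2 fun h => c.2 (Subtype.ext h)).trans ?_
          rw [smul_eq_mul, Finset.card_univ]
          refine Nat.mul_le_mul_right _ ?_
          rw [← Nat.card_eq_fintype_card]
          exact Finite.card_subtype_le _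
  have hcomm : ∀ w ∈ W, ∀ e ∈ W, ⁅w, e⁆ ∈ E₀ := by
    rintro w ⟨B, hB, hw⟩ e ⟨B', hB', he⟩
    obtain ⟨c, hcA, hc1, hcB, hcB'⟩ := hmeet B hB B' hB'
    refine Set.mem_insert_of_mem _ (Set.mem_iUnion.2
      ⟨⟨⟨c, hcA⟩, fun h => hc1 (congrArg Subtype.val h)⟩, Subgroup.commutator_mem_commutator ?_ ?_⟩)
    · exact ⟨hw.1, Subgroup.centralizer_le (Set.singleton_subset_iff.2 hcB) hw.2⟩
    · exact ⟨he.1, Subgroup.centralizer_le (Set.singleton_subset_iff.2 hcB') he.2⟩
  have hKW : K ≤ Subgroup.closure W := (gen_eq A K hA hAK hco).ge.trans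
    (iSup₂_le fun B hB x hx => Subgroup.subset_closure ⟨B, hB, hx⟩)
  -- generators fixed by subgroups with cyclic quotient
  let E₁ : Set G := E₀ ∩ W
  have hH1 : H ≤ Subgroup.closure E₁ := by
    refine (Subgroup.closure_le _).2 (Set.insert_subset (one_mem _) (Set.iUnion_subset fun c => ?_))
    have hAC : A ≤ Subgroup.normalizer (D c : Set G) := fun a ha => by
      have hC : MulAut.conj a • (K ⊓ Subgroup.centralizer ({((c : A) : G)} : Set G)) =
          K ⊓ Subgroup.centralizer ({((c : A) : G)} : Set G) := by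
        rw [Subgroup.smul_inf, conj_smul_of_mem_normalizer (hAK ha), Subgroup.conj_smul_eq_self_of_mem]
        rw [Subgroup.mem_centralizer_singleton_iff]
        exact congrArg Subtype.val (hA.is_comm.comm ⟨a, ha⟩ c.1)
      refine mem_normalizer_of_conj_smul ?_
      show MulAut.conj a • ⁅_, _⁆ = _
      rw [conj_smul_eq_map, Subgroup.map_commutator, ← conj_smul_eq_map, hC]
    intro x hx
    refine ((gen_eq A (D c) hA hAC (hco.coprime_dvd_right (Subgroup.card_dvd_of_le (hDK c)))).ge.trans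
      (iSup₂_le fun B hB y hy => ?_)) hx
    exact Subgroup.subset_closure ⟨Set.mem_insert_of_mem _ (Set.mem_iUnion.2 ⟨c, hy.1⟩),
      B, hB, hDK c hy.1, hy.2⟩
  have hKH : K ≤ Subgroup.normalizer (H : Set G) := hKW.trans ((Subgroup.closure_le _).2 fun w hw => by
    refine mem_normalizer_of_conj_smul (Subgroup.eq_of_le_of_card_ge ?_ (by rw [card_conj_smul]))
    rw [conj_smul_eq_map, Subgroup.map_le_iff_le_comap]
    refine hH1.trans ((Subgroup.closure_le _).2 fun e he => ?_)
    show w * e * w⁻¹ ∈ H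
    rw [show w * e * w⁻¹ = ⁅w, e⁆ * e by rw [commutatorElement_def]; group]
    exact H.mul_mem (Subgroup.subset_closure (hcomm w hw e he.2)) (Subgroup.subset_closure he.1))
  have hWK : Subgroup.closure W = K := le_antisymm ((Subgroup.closure_le _).2 fun w ⟨B, _, hw⟩ => hw.1) hKW
  have hder : ⁅K, K⁆ ≤ H := by
    have hsub : ∀ S : Set G, ∀ x : G, (∀ y ∈ S, ⁅x, y⁆ ∈ H) → S ⊆ K →
        ∀ y ∈ Subgroup.closure S, ⁅x, y⁆ ∈ H := fun S x hS hSK y hy => by
      induction hy using Subgroup.closure_induction with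
      | mem y hy => exact hS y hy
      | one => simp [commutatorElement_def]
      | mul a b ha _ iha ihb =>
        rw [show ⁅x, a * b⁆ = ⁅x, a⁆ * (a * ⁅x, b⁆ * a⁻¹) by simp only [commutatorElement_def]; group]
        exact H.mul_mem iha (conj_mem_of_mem_normalizer (hKH ((Subgroup.closure_le _).2 hSK ha)) ihb)
      | inv a ha iha =>
        rw [show ⁅x, a⁻¹⁆ = a⁻¹ * ⁅x, a⁆⁻¹ * a⁻¹⁻¹ by simp only [commutatorElement_def]; group]
        exact conj_mem_of_mem_normalizer (hKH (inv_mem ((Subgroup.closure_le _).2 hSK ha))) (H.inv_mem iha)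
    have hWs : W ⊆ K := fun w ⟨B, _, hw⟩ => hw.1
    refine Subgroup.commutator_le.2 fun x hx y hy => ?_
    refine hsub W x (fun w hw => ?_) hWs y (hWK.ge hy)
    rw [← commutatorElement_inv]
    exact H.inv_mem (hsub W w (fun v hv => Subgroup.subset_closure (hcomm w hw v hv)) hWs x (hWK.ge hx))
  -- action on `H`
  set C := Subgroup.centralizer (H : Set G) with hC
  set E := N * m + 1 with hEdef
  have hM1 : 1 ≤ E ^ E := Nat.one_le_pow _ _ (by omega)
  have hRep : ∀ P : Subgroup G, P ≤ K → ∀ B ∈ CycQuot A, ∃ R : Set G, R.ncard ≤ E ^ E ∧ R ⊆ P ∧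
      ((P ⊓ Subgroup.centralizer (B : Set G) : Subgroup G) : Set G) ⊆ R * (C : Set G) := by
    intro P hPK B hB
    set S : Subgroup G := P ⊓ Subgroup.centralizer (B : Set G)
    have hSW : ∀ w ∈ S, w ∈ W := fun w hw => ⟨B, hB, hPK hw.1, hw.2⟩
    let φ : S → (E₁ → E₀) := fun w e => ⟨⁅(w : G), (e : G)⁆, hcomm _ (hSW w w.2) _ e.2.2⟩
    choose g hg using fun v : Set.range φ => v.2
    refine ⟨Set.range fun v => ((g v : S) : G), ?_, ?_, fun w hw => ?_⟩
    · have h1 : Nat.card E₀ ≤ E := (Nat.card_coe_set_eq E₀).le.trans hE₀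
      have h2 : Nat.card E₁ ≤ E := (Nat.card_mono (Set.toFinite _) Set.inter_subset_left).trans h1
      rw [← Nat.card_coe_set_eq]
      refine (Finite.card_range_le _).trans ((Finite.card_subtype_le _).trans ?_)
      rw [Nat.card_fun]
      exact (Nat.pow_le_pow_left h1 _).trans (Nat.pow_le_pow_right (by omega) h2)
    · rintro _ ⟨v, rfl⟩; exact (g v).2.1
    · refine ⟨_, ⟨⟨φ ⟨w, hw⟩, ⟨_, rfl⟩⟩, rfl⟩, ((g ⟨φ ⟨w, hw⟩, ⟨_, rfl⟩⟩ : S) : G)⁻¹ * w, ?_,
        mul_inv_cancel_left _ _⟩
      have hgw := hg ⟨φ ⟨w, hw⟩, ⟨_, rfl⟩⟩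
      generalize ((g ⟨φ ⟨w, hw⟩, ⟨_, rfl⟩⟩) : S) = v at hgw
      have : H ≤ Subgroup.centralizer ({(v : G)⁻¹ * w} : Set G) := hH1.trans ((Subgroup.closure_le _).2 fun e he => by
        rw [SetLike.mem_coe, Subgroup.mem_centralizer_singleton_iff]
        have h3 : ⁅(v : G), e⁆ = ⁅w, e⁆ := congrArg Subtype.val (congrFun hgw ⟨e, he⟩)
        have h4 : (v : G) * e * (v : G)⁻¹ = w * e * w⁻¹ := by
          simpa [commutatorElement_def] using h3
        calc e * ((v : G)⁻¹ * w) = (v : G)⁻¹ * ((v : G) * e * (v : G)⁻¹) * w := by group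
          _ = _ := by rw [h4]; group)
      exact Subgroup.mem_centralizer_iff.2 fun h hh =>
        Subgroup.mem_centralizer_singleton_iff.1 (this hh)
  have hKC : K ≤ Subgroup.normalizer (C : Set G) := fun k hk => by
    refine mem_normalizer_of_conj_smul (Subgroup.eq_of_le_of_card_ge ?_ (by rw [card_conj_smul]))
    rw [conj_smul_eq_map]
    rintro _ ⟨c, hc, rfl⟩
    refine Subgroup.mem_centralizer_iff.2 fun h hh => ?_
    have h1 := Subgroup.mem_centralizer_iff.1 hc _ (conj_mem_of_mem_normalizer (hKH (K.inv_mem hk)) hh)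
    show h * (k * c * k⁻¹) = k * c * k⁻¹ * h
    calc h * (k * c * k⁻¹) = k * ((k⁻¹ * h * k⁻¹⁻¹) * c) * k⁻¹ := by group
      _ = _ := by rw [h1]; group
  set Bd := (E ^ E) ^ (2 ^ N)
  have hd : C.relIndex K ≤ Bd ^ (Bd + 1) := by
    haveI : (C.subgroupOf K).Normal := Subgroup.normal_subgroupOf_of_le_normalizer hKC
    refine le_pow_of_ordProj_le (Subgroup.index_ne_zero_of_finite (H := C.subgroupOf K)) (Nat.one_le_pow _ _ hM1)
      fun p hp _ => ?_
    haveI := Fact.mk hp
    obtain ⟨P, hP, hPA⟩ := exists_invariant_sylow hAK hco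
      (Or.inl (Group.isSolvable_of_comm fun s t => hA.is_comm.comm s t)) p
    letI := Fintype.ofFinite {B : Subgroup G // B ≤ A}
    letI := Fintype.ofFinite A
    let l : List (Subgroup G) := ((Finset.univ : Finset {B : Subgroup G // B ≤ A}).toList.map Subtype.val).filter
      fun B => decide (B ∈ CycQuot A)
    have hl : ∀ B ∈ CycQuot A, B ∈ l := fun B hB => List.mem_filter.2 ⟨List.mem_map.2
      ⟨⟨B, hB.1⟩, Finset.mem_toList.2 (Finset.mem_univ _), rfl⟩, by simpa using hB⟩
    have hlen : l.length ≤ 2 ^ N := by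
      refine (List.length_filter_le _ _).trans ?_
      rw [List.length_map, Finset.length_toList, Finset.card_univ, ← Nat.card_eq_fintype_card]
      refine le_trans (Nat.card_le_card_of_injective (fun B => ((B.1.subgroupOf A : Subgroup A) : Set A))
        fun B B' h => Subtype.ext ?_) (by rw [Nat.card_eq_fintype_card (α := Set A),
          Fintype.card_set, ← Nat.card_eq_fintype_card])
      have h' : B.1.subgroupOf A = B'.1.subgroupOf A := SetLike.coe_injective h
      rw [← Subgroup.map_subgroupOf_eq_of_le B.2, h', Subgroup.map_subgroupOf_eq_of_le B'.2]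
    obtain ⟨R, hR, -, hRs⟩ := exists_reps P C (hP.1.trans hKC) (E ^ E) l
      (fun B hB => hRep P hP.1 B (by simpa using (List.mem_filter.1 hB).2))
    have hPR := (subset_prodFix A P hA hP.isPGroup hPA
      (hco.coprime_dvd_right (Subgroup.card_dvd_of_le hP.1)) l hl).trans hRs
    obtain ⟨Q, hQ⟩ := hP.exists_sylow
    set π := QuotientGroup.mk' (C.subgroupOf K)
    set Q' := Q.mapSurjective (f := π) (QuotientGroup.mk'_surjective _)
    rw [show C.relIndex K = Nat.card (K ⧸ C.subgroupOf K) from Subgroup.index_eq_card _,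
      ← Q'.card_eq_multiplicity]
    have hR' : R.ncard ≤ Bd := hR.trans (Nat.pow_le_pow_right hM1 hlen)
    refine le_trans ?_ hR'
    rw [← Nat.card_coe_set_eq]
    have hex : ∀ y : ↥(Q' : Subgroup (K ⧸ C.subgroupOf K)),
        ∃ r ∈ R, ∃ n ∈ C, ∃ x : K, π x = y ∧ r * n = (x : G) := fun y => by
      obtain ⟨x, hx, hxe⟩ := y.2
      have hxP : (x : G) ∈ P := hQ ▸ ⟨x, hx, rfl⟩
      obtain ⟨r, hr, n, hn, h⟩ := hPR hxP
      exact ⟨r, hr, n, hn, x, hxe, h⟩
    choose r hr n hn he using hex
    refine Nat.card_le_card_of_injective (fun y => (⟨r y, hr y⟩ : R)) fun y y' h => Subtype.ext ?_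
    obtain ⟨x, hx, hxe⟩ := he y
    obtain ⟨x', hx', hxe'⟩ := he y'
    rw [← hx, ← hx']
    refine (QuotientGroup.eq).2 (Subgroup.mem_subgroupOf.2 ?_)
    push_cast
    rw [← hxe, ← hxe', show r y = r y' from congrArg Subtype.val h]
    rw [show (r y' * n y)⁻¹ * (r y' * n y') = (n y)⁻¹ * n y' by group]
    exact C.mul_mem (C.inv_mem (hn y)) (hn y')
  -- Schur
  set d := Bd ^ (Bd + 1)
  refine (Subgroup.card_le_of_le hder).trans ?_
  have hz : (Subgroup.center H).index ≤ d := by
    refine le_trans ?_ hd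
    have : C.subgroupOf H ≤ Subgroup.center H := fun x hx => Subgroup.mem_center_iff.2 fun y =>
      Subtype.ext (Subgroup.mem_centralizer_iff.1 hx y y.2)
    refine (Nat.le_of_dvd (Nat.pos_of_ne_zero Subgroup.index_ne_zero_of_finite)
      (Subgroup.index_dvd_of_le this)).trans ?_
    exact Subgroup.relIndex_le_of_le_right hHK (Subgroup.index_ne_zero_of_finite (H := C.subgroupOf K))
  have h1 : Nat.card (commutator H) ≤ d ^ (d * (d * d) + 1) := by
    refine (Nat.le_of_dvd (pow_pos (Nat.pos_of_ne_zero Subgroup.index_ne_zero_of_finite) _)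
      (Subgroup.card_commutator_dvd_index_center_pow H)).trans ?_
    refine (Nat.pow_le_pow_left hz _).trans (Nat.pow_le_pow_right (Nat.one_le_pow _ _ (Nat.one_le_pow _ _ hM1)) ?_)
    exact Nat.add_le_add_right (Nat.mul_le_mul hz ((ncard_commutatorSet_le H).trans (Nat.mul_le_mul hz hz))) 1
  have h2 : Nat.card (H ⧸ commutator H) ≤ (m + 1) ^ E := by
    letI : CommGroup (H ⧸ commutator H) := inferInstanceAs (CommGroup (Abelianization H))
    let s : Finset (H ⧸ commutator H) :=
      ((Set.toFinite E₀).toFinset.subtype fun x => x ∈ H).image fun x => QuotientGroup.mk x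
    have hs : Subgroup.closure (s : Set (H ⧸ commutator H)) = ⊤ := by
      have e : (s : Set (H ⧸ commutator H)) = QuotientGroup.mk' (commutator H) '' (((↑) : H → G) ⁻¹' E₀) := by
        ext x
        constructor
        · intro hx
          obtain ⟨y, hy, rfl⟩ := Finset.mem_image.1 hx
          exact ⟨y, (Set.Finite.mem_toFinset (Set.toFinite E₀)).1 (Finset.mem_subtype.1 hy), rfl⟩
        · rintro ⟨y, hy, rfl⟩
          exact Finset.mem_image.2 ⟨y, Finset.mem_subtype.2 ((Set.Finite.mem_toFinset _).2 hy), rfl⟩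
      rw [e, ← MonoidHom.map_closure, show Subgroup.closure (((↑) : H → G) ⁻¹' E₀) = ⊤ from
          Subgroup.closure_preimage_eq_top E₀,
        Subgroup.map_top_of_surjective _ (QuotientGroup.mk'_surjective _)]
    have hcard : s.card ≤ E := by
      refine Finset.card_image_le.trans ?_
      rw [Finset.card_subtype]
      refine (Finset.card_filter_le _ _).trans ?_
      rw [← Set.ncard_eq_toFinset_card]
      exact hE₀
    have h3 := card_le_of_gens (m + 1) s fun x hx => by
      obtain ⟨y, hy, rfl⟩ := Finset.mem_image.1 hx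
      refine le_trans (Nat.le_of_dvd (orderOf_pos y)
        (orderOf_map_dvd (QuotientGroup.mk' (commutator H)) y)) ?_
      rw [← Subgroup.orderOf_coe]
      rcases (Set.Finite.mem_toFinset _).1 (Finset.mem_subtype.1 hy) with h | h
      · rw [h, orderOf_one]; omega
      · obtain ⟨c, hc⟩ := Set.mem_iUnion.1 h
        refine le_trans ?_ ((hm _ c.1.2 fun e => c.2 (Subtype.ext e)).trans (Nat.le_succ m))
        rw [← Subgroup.orderOf_mk _ hc]
        exact Nat.le_of_dvd Nat.card_pos (orderOf_dvd_natCard _)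
    rw [hs, Subgroup.card_top] at h3
    exact h3.trans (Nat.pow_le_pow_right (Nat.succ_pos m) hcard)
  rw [Subgroup.card_eq_card_quotient_mul_card_subgroup (commutator H), mul_comm]
  exact Nat.mul_le_mul h1 h2

end Cfsg.Agent.Solv.FixDer
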