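import Cfsg.Agent.Lib.Solv.Generation
import Cfsg.Agent.Lib.Solv.CoprimeHall
import Cfsg.Agent.Lib.Fusion.Basic
import Mathlib.GroupTheory.Transfer

/-!
If an abelian group `A` acts coprimely on a solvable `Y = [Y, A]`, then `C_Y(A)` is generated by the subgroups
`C(A) ∩ [C_Y(K), A]` with `A / K` cyclic (Goldschmidt).
-/

set_option autoImplicit false
set_option linter.unusedSectionVars false
set_option linter.style.haveILetI false

open scoped Pointwise commutatorElement

namespace Cfsg.Agent.Solv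

universe u

namespace FixedGen

variable {G : Type u} [Group G]

/-- The generators of `C_Y(A)`. -/
def fixGen (A Y : Subgroup G) : Subgroup G :=
  ⨆ K ∈ CycQuot A, ⁅Y ⊓ Subgroup.centralizer (K : Set G), A⁆ ⊓ Subgroup.centralizer (A : Set G)

theorem le_fixGen {A Y K : Subgroup G} (hK : K ∈ CycQuot A) :
    ⁅Y ⊓ Subgroup.centralizer (K : Set G), A⁆ ⊓ Subgroup.centralizer (A : Set G) ≤ fixGen A Y :=
  le_iSup₂_of_le K hK le_rfl

theorem fixGen_le_centralizer (A Y : Subgroup G) : fixGen A Y ≤ Subgroup.centralizer (A : Set G) :=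
  iSup₂_le fun _ _ => inf_le_right

theorem centralizer_norm [Finite G] {X : Subgroup G} {g : G} (hg : g ∈ Subgroup.normalizer (X : Set G)) :
    g ∈ Subgroup.normalizer ((Subgroup.centralizer (X : Set G) : Subgroup G) : Set G) := by
  refine Cfsg.Agent.Fusion.mem_normalizer_of_cj_le ?_
  rintro _ ⟨c, hc, rfl⟩
  refine Subgroup.mem_centralizer_iff.2 fun y hy => ?_
  have h := Subgroup.mem_centralizer_iff.1 hc _ (conj_mem_of_mem_normalizer (inv_mem hg) hy)
  rw [inv_inv] at h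
  show y * (g * c * g⁻¹) = g * c * g⁻¹ * y
  calc y * (g * c * g⁻¹) = g * ((g⁻¹ * y * g) * c) * g⁻¹ := by group
    _ = _ := by rw [h]; group

theorem cent_norm {A Y K : Subgroup G} (hA : IsMulCommutative A) (hAY : A ≤ Subgroup.normalizer (Y : Set G))
    (hK : K ≤ A) : A ≤ Subgroup.normalizer ((Y ⊓ Subgroup.centralizer (K : Set G) : Subgroup G) : Set G) := by
  intro a ha
  refine mem_normalizer_of_conj_smul ?_
  rw [Subgroup.smul_inf, conj_smul_of_mem_normalizer (hAY ha), Subgroup.conj_smul_eq_self_of_mem ?_]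
  rw [Subgroup.mem_centralizer_iff]
  intro b hb
  exact congrArg Subtype.val (hA.is_comm.comm ⟨b, hK hb⟩ ⟨a, ha⟩)

theorem fixGen_le {A Y : Subgroup G} (hA : IsMulCommutative A) (hAY : A ≤ Subgroup.normalizer (Y : Set G)) :
    fixGen A Y ≤ Y :=
  iSup₂_le fun _ hK => inf_le_left.trans ((commutator_normal_in (cent_norm hA hAY hK.1)).1.trans inf_le_left)

theorem fixGen_mono {A Y Y' : Subgroup G} (h : Y' ≤ Y) : fixGen A Y' ≤ fixGen A Y :=
  iSup₂_mono fun _ _ => inf_le_inf_right _ (Subgroup.commutator_mono (inf_le_inf_right _ h) le_rfl)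

/-- The image of fixed points under a homomorphism. -/
theorem map_fixed [Finite G] {H : Type*} [Group H] (f : G →* H) {A K : Subgroup G}
    (hAK : A ≤ Subgroup.normalizer (K : Set G)) (hco : (Nat.card A).Coprime (Nat.card K))
    (hsol : Group.IsSolvable A ∨ Group.IsSolvable K) :
    K.map f ⊓ Subgroup.centralizer ((A.map f : Subgroup H) : Set H) ≤
      (K ⊓ Subgroup.centralizer (A : Set G)).map f := by
  rintro y ⟨⟨x, hx, rfl⟩, hy⟩
  have hAD : A ≤ Subgroup.normalizer ((K ⊓ f.ker : Subgroup G) : Set G) :=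
    normalizer_smul_inf hAK fun a _ => by rw [Subgroup.normalizer_eq_top_iff.2 f.normal_ker]; trivial
  obtain ⟨c, hc, hcd⟩ := exists_fixed_in_coset' A K (K ⊓ f.ker) hAK hco hsol inf_le_left hAD hx (fun a ha => by
    refine Subgroup.mem_inf.2 ⟨mul_mem (inv_mem hx) (conj_mem_of_mem_normalizer (hAK ha) hx), ?_⟩
    have h := Subgroup.mem_centralizer_iff.1 hy (f a) ⟨a, ha, rfl⟩
    rw [MonoidHom.mem_ker, map_mul, map_mul, map_mul, h, map_inv, map_inv]
    group)
  refine ⟨c, hc, ?_⟩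
  have h := (Subgroup.mem_inf.1 hcd).2
  rw [MonoidHom.mem_ker, map_mul, map_inv, inv_mul_eq_one] at h
  exact h.symm

theorem map_fixGen [Finite G] {H : Type*} [Group H] (f : G →* H) {A Y : Subgroup G} (hA : IsMulCommutative A)
    (hAY : A ≤ Subgroup.normalizer (Y : Set G)) (hco : (Nat.card A).Coprime (Nat.card Y)) :
    fixGen (A.map f) (Y.map f) ≤ (fixGen A Y).map f := by
  refine iSup₂_le fun K' hK' => ?_
  obtain ⟨hK'A, a', ⟨a, ha, rfl⟩, hgen⟩ := hK'
  set K := A ⊓ K'.comap f with hK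
  have hsol : Group.IsSolvable A := Group.isSolvable_of_comm fun s t => hA.is_comm.comm s t
  have hmapK : K.map f = K' := by
    refine le_antisymm (Subgroup.map_le_iff_le_comap.2 inf_le_right) fun y hy => ?_
    obtain ⟨x, hx, rfl⟩ := hK'A hy
    exact ⟨x, ⟨hx, hy⟩, rfl⟩
  have hKc : K ∈ CycQuot A := by
    refine ⟨inf_le_left, a, ha, le_antisymm (sup_le inf_le_left (Subgroup.zpowers_le.2 ha)) fun x hx => ?_⟩
    have h1 : f x ∈ (K ⊔ Subgroup.zpowers a).map f := by
      rw [Subgroup.map_sup, hmapK, MonoidHom.map_zpowers, hgen]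
      exact ⟨x, hx, rfl⟩
    obtain ⟨y, hy, e⟩ := h1
    have hyA : y ∈ A := (sup_le inf_le_left (Subgroup.zpowers_le.2 ha) : K ⊔ Subgroup.zpowers a ≤ A) hy
    have h2 : x * y⁻¹ ∈ K := Subgroup.mem_inf.2 ⟨mul_mem hx (inv_mem hyA), by
      rw [Subgroup.mem_comap]
      rw [map_mul, map_inv, e, mul_inv_cancel]
      exact one_mem _⟩
    rw [show x = (x * y⁻¹) * y by group]
    exact mul_mem (Subgroup.mem_sup_left h2) hy
  have hKn := cent_norm hA hAY hKc.1
  have h1 : Y.map f ⊓ Subgroup.centralizer ((K' : Subgroup H) : Set H) ≤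
      (Y ⊓ Subgroup.centralizer (K : Set G)).map f := by
    rw [← hmapK]
    exact map_fixed f (hKc.1.trans hAY) (hco.coprime_dvd_left (Subgroup.card_dvd_of_le hKc.1))
      (Or.inl (isSolvable_of_le hKc.1 hsol))
  have hC := (commutator_normal_in hKn).2.2
  refine le_trans (inf_le_inf_right _ (Subgroup.commutator_mono h1 le_rfl)) ?_
  rw [← Subgroup.map_commutator]
  refine (map_fixed f hC (hco.coprime_dvd_right (Subgroup.card_dvd_of_le
    ((commutator_normal_in hKn).1.trans inf_le_left))) (Or.inl hsol)).trans ?_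
  exact Subgroup.map_mono (le_fixGen hKc)

section Main

variable [Finite G] {A Y : Subgroup G} (hA : IsMulCommutative A) (hAY : A ≤ Subgroup.normalizer (Y : Set G))
  (hco : (Nat.card A).Coprime (Nat.card Y)) (hYA : ⁅Y, A⁆ = Y)
include hA hAY hco hYA

/-- `C_Y(A)` lies in the derived subgroup. -/
theorem fixed_le_derived : Y ⊓ Subgroup.centralizer (A : Set G) ≤ ⁅Y, Y⁆ := by
  classical
  intro n hn
  haveI := Fintype.ofFinite A
  let o : ↥Y →* Abelianization ↥Y := Abelianization.of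
  let c : A → ↥Y → ↥Y := fun a y => ⟨(a : G) * y * (a : G)⁻¹, conj_mem_of_mem_normalizer (hAY a.2) y.2⟩
  let P : ↥Y →* Abelianization ↥Y :=
    { toFun := fun y => ∏ a : A, o (c a y)
      map_one' := Finset.prod_eq_one fun a _ => by
        rw [show c a 1 = 1 from Subtype.ext (by simp [c]), map_one]
      map_mul' := fun x y => by
        rw [← Finset.prod_mul_distrib]
        refine Finset.prod_congr rfl fun a _ => ?_
        rw [show c a (x * y) = c a x * c a y from Subtype.ext (by simp [c]), map_mul] }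
  have hP : ∀ (b : A) (y : ↥Y), P (c b y) = P y := fun b y => by
    show ∏ a : A, o (c a (c b y)) = ∏ a : A, o (c a y)
    refine Fintype.prod_equiv (Equiv.mulRight b) _ _ fun a => ?_
    exact congrArg o (Subtype.ext (by simp [c, mul_assoc]))
  have hker : ⁅Y, A⁆ ≤ P.ker.map Y.subtype := Subgroup.commutator_le.2 fun y hy a ha => by
    refine ⟨⟨y, hy⟩ * (c ⟨a, ha⟩ ⟨y, hy⟩)⁻¹, ?_, ?_⟩
    · rw [SetLike.mem_coe, MonoidHom.mem_ker, map_mul, map_inv, hP, mul_inv_cancel]
    · simp [c, commutatorElement_def, mul_assoc]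
  obtain ⟨y, hy, e⟩ := hker (hYA.symm ▸ hn.1 : n ∈ ⁅Y, A⁆)
  obtain rfl : y = ⟨n, hn.1⟩ := Subtype.ext e
  have h1 : o ⟨n, hn.1⟩ ^ Nat.card A = 1 := by
    refine Eq.trans ?_ (MonoidHom.mem_ker.1 hy)
    show _ = ∏ a : A, o (c a ⟨n, hn.1⟩)
    rw [Finset.prod_congr rfl fun a _ => congrArg o (show c a ⟨n, hn.1⟩ = ⟨n, hn.1⟩ from Subtype.ext (by
        simp only [c]
        rw [Subgroup.mem_centralizer_iff.1 hn.2 a a.2, mul_inv_cancel_right])),
      Finset.prod_const, Finset.card_univ, Nat.card_eq_fintype_card]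
  have h2 : o ⟨n, hn.1⟩ ^ Nat.card ↥Y = 1 := by rw [← map_pow, pow_card_eq_one', map_one]
  have h3 : o ⟨n, hn.1⟩ = 1 :=
    orderOf_eq_one_iff.1 (Nat.eq_one_of_dvd_coprimes hco (orderOf_dvd_of_pow_eq_one h1) (orderOf_dvd_of_pow_eq_one h2))
  rw [← MonoidHom.mem_ker, Abelianization.ker_of] at h3
  rw [← Subgroup.map_subtype_commutator Y]
  exact ⟨_, h3, rfl⟩

/-- Fixed points of `[D, Y]` for a normal `D` centralising `[D, Y]`. -/
theorem fix_mem {D : Subgroup G} (hDY : D ≤ Y) (hYD : Y ≤ Subgroup.normalizer (D : Set G))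
    (hAD : A ≤ Subgroup.normalizer (D : Set G)) (hcen : ∀ d ∈ D, ∀ n ∈ ⁅D, Y⁆, d * n = n * d) :
    ⁅D, Y⁆ ⊓ Subgroup.centralizer (A : Set G) ≤ fixGen A Y := by
  classical
  set N := ⁅D, Y⁆ with hN
  have hND : N ≤ D := (commutator_normal_in hYD).1
  have hAN : A ≤ Subgroup.normalizer (N : Set G) := fun a ha => mem_normalizer_of_conj_smul (by
    rw [hN, conj_smul_eq_map, Subgroup.map_commutator, ← conj_smul_eq_map, ← conj_smul_eq_map,
      conj_smul_of_mem_normalizer (hAD ha), conj_smul_of_mem_normalizer (hAY ha)])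
  haveI := Fintype.ofFinite A
  letI : CommGroup ↥N :=
    { (inferInstance : Group ↥N) with mul_comm := fun x y => Subtype.ext (hcen x (hND x.2) y y.2) }
  let c : A → ↥N → ↥N := fun a x => ⟨(a : G) * x * (a : G)⁻¹, conj_mem_of_mem_normalizer (hAN a.2) x.2⟩
  let P : ↥N →* ↥N :=
    { toFun := fun x => ∏ a : A, c a x
      map_one' := Finset.prod_eq_one fun a _ => Subtype.ext (by simp [c])
      map_mul' := fun x y => by
        rw [← Finset.prod_mul_distrib]
        exact Finset.prod_congr rfl fun a _ => Subtype.ext (by simp [c]) }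
  have hP : ∀ (b : A) (x : ↥N), P (c b x) = P x := fun b x => by
    show ∏ a : A, c a (c b x) = ∏ a : A, c a x
    exact Fintype.prod_equiv (Equiv.mulRight b) _ _ fun a => Subtype.ext (by simp [c, mul_assoc])
  have hPfix : ∀ (b : A) (x : ↥N), c b (P x) = P x := fun b x => by
    have e : ∀ z w, c b (z * w) = c b z * c b w := fun z w => Subtype.ext (by simp [c])
    let cb : ↥N →* ↥N := MonoidHom.mk' (c b) e
    show cb (∏ a : A, c a x) = _
    rw [map_prod]
    exact Fintype.prod_equiv (Equiv.mulLeft b) _ _ fun a => Subtype.ext (by simp [cb, c, mul_assoc])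
  set T : Subgroup G := (((fixGen A Y).comap (N.subtype.comp P)).map N.subtype) with hT
  have hTN : T ≤ N := Subgroup.map_subtype_le _
  -- commutators with a fixed second entry
  have hmul : ∀ d₁ ∈ D, ∀ d₂ ∈ D, ∀ y ∈ Y, ⁅d₁ * d₂, y⁆ = ⁅d₂, y⁆ * ⁅d₁, y⁆ := by
    intro d₁ h₁ d₂ h₂ y hy
    have h := hcen d₁ h₁ _ (Subgroup.commutator_mem_commutator h₂ hy)
    calc ⁅d₁ * d₂, y⁆ = d₁ * ⁅d₂, y⁆ * d₁⁻¹ * ⁅d₁, y⁆ := by simp only [commutatorElement_def]; group
      _ = _ := by rw [h, mul_inv_cancel_right]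
  have hinv : ∀ d ∈ D, ∀ y ∈ Y, ⁅d⁻¹, y⁆ = ⁅d, y⁆⁻¹ := by
    intro d hd y hy
    have h := hmul d hd d⁻¹ (inv_mem hd) y hy
    rw [mul_inv_cancel, commutatorElement_one_left] at h
    exact eq_inv_of_mul_eq_one_left h.symm
  let W : Subgroup G :=
    { carrier := {y | y ∈ Y ∧ ∀ d ∈ D, ⁅d, y⁆ ∈ T}
      one_mem' := ⟨one_mem _, fun d _ => by rw [commutatorElement_one_right]; exact one_mem _⟩
      mul_mem' := fun {y₁ y₂} ⟨h₁, g₁⟩ ⟨h₂, g₂⟩ => ⟨mul_mem h₁ h₂, fun d hd => by
        have hx := g₂ d hd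
        have e : ⁅d, y₁ * y₂⁆ = ⁅d, y₁⁆ * (⁅⁅d, y₂⁆, y₁⁆⁻¹ * ⁅d, y₂⁆) := by
          simp only [commutatorElement_def]; group
        rw [e]
        exact mul_mem (g₁ d hd) (mul_mem (inv_mem (g₁ _ (hND (hTN hx)))) hx)⟩
      inv_mem' := fun {y} ⟨hy, g⟩ => ⟨inv_mem hy, fun d hd => by
        have e : ⁅d, y⁻¹⁆ = ⁅y⁻¹ * d * y, y⁆⁻¹ := by simp only [commutatorElement_def]; group
        rw [e]
        exact inv_mem (g _ (by simpa using conj_mem_of_mem_normalizer (hYD (inv_mem hy)) hd))⟩ }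
  have hW : Y ≤ W := by
    calc Y = ⁅Y, A⁆ := hYA.symm
      _ = ⨆ K ∈ CycQuot A, ⁅Y ⊓ Subgroup.centralizer (K : Set G), A⁆ := (gen_commutator_eq A Y hA hAY hco).symm
      _ ≤ W := iSup₂_le fun K hK y hy => by
        obtain ⟨h1, h2, h3⟩ := commutator_normal_in (cent_norm hA hAY hK.1)
        have hyC := h1 hy
        refine ⟨hyC.1, fun d hd => ?_⟩
        let S : Subgroup G :=
          { carrier := {d | d ∈ D ∧ ⁅d, y⁆ ∈ T}
            one_mem' := ⟨one_mem _, by rw [commutatorElement_one_left]; exact one_mem _⟩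
            mul_mem' := fun {a b} ⟨ha, ga⟩ ⟨hb, gb⟩ => ⟨mul_mem ha hb, by
              rw [hmul a ha b hb y hyC.1]; exact mul_mem gb ga⟩
            inv_mem' := fun {a} ⟨ha, ga⟩ => ⟨inv_mem ha, by rw [hinv a ha y hyC.1]; exact inv_mem ga⟩ }
        have hsol : Group.IsSolvable A := Group.isSolvable_of_comm fun s t => hA.is_comm.comm s t
        obtain ⟨m, hm, x, hx, rfl⟩ := exists_commutator_mul_fixed (A := K) (hK.1.trans hAD)
          ((hco.coprime_dvd_left (Subgroup.card_dvd_of_le hK.1)).coprime_dvd_right (Subgroup.card_dvd_of_le hDY))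
          (Or.inl (isSolvable_of_le hK.1 hsol)) hd
        have hmS : m ∈ S := by
          refine (Subgroup.commutator_le.2 fun e he k hk => ?_ : ⁅D, K⁆ ≤ S) hm
          have hek : k * e⁻¹ * k⁻¹ ∈ D := conj_mem_of_mem_normalizer (hAD (hK.1 hk)) (inv_mem he)
          have hky : k * y = y * k := Subgroup.mem_centralizer_iff.1 hyC.2 k hk
          refine ⟨by rw [show ⁅e, k⁆ = e * (k * e⁻¹ * k⁻¹) by rw [commutatorElement_def]; group]
                     exact mul_mem he hek, ?_⟩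
          have he1 : ⁅k * e⁻¹ * k⁻¹, y⁆ = k * ⁅e, y⁆⁻¹ * k⁻¹ := by
            rw [← hinv e he y hyC.1]
            have hky' : k⁻¹ * y = y * k⁻¹ := by
              calc k⁻¹ * y = k⁻¹ * (y * k) * k⁻¹ := by group
                _ = _ := by rw [← hky]; group
            simp only [commutatorElement_def]
            calc k * e⁻¹ * k⁻¹ * y * (k * e⁻¹ * k⁻¹)⁻¹ * y⁻¹ = k * e⁻¹ * (k⁻¹ * y) * k * e * (k⁻¹ * y⁻¹) := by group
              _ = k * (e⁻¹ * y * e⁻¹⁻¹ * y⁻¹) * k⁻¹ := by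
                rw [hky', show k⁻¹ * y⁻¹ = y⁻¹ * k⁻¹ by rw [← mul_inv_rev, ← mul_inv_rev, hky]]; group
          let n : ↥N := ⟨⁅e, y⁆, Subgroup.commutator_mem_commutator he hyC.1⟩
          refine ⟨c ⟨k, hK.1 hk⟩ n⁻¹ * n, ?_, ?_⟩
          · rw [SetLike.mem_coe, Subgroup.mem_comap, MonoidHom.comp_apply, map_mul, hP, map_inv, inv_mul_cancel,
              map_one]
            exact one_mem _
          · rw [show ⁅e, k⁆ = e * (k * e⁻¹ * k⁻¹) by rw [commutatorElement_def]; group,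
              hmul e he _ hek y hyC.1, he1]
            rfl
        have hxS : x ∈ S := by
          refine ⟨hx.1, ⟨⁅x, y⁆, Subgroup.commutator_mem_commutator hx.1 hyC.1⟩, ?_, rfl⟩
          set M := ⁅Y ⊓ Subgroup.centralizer (K : Set G), A⁆
          have hxy : ⁅x, y⁆ ∈ M := by
            rw [commutatorElement_def]
            exact mul_mem (conj_mem_of_mem_normalizer (h2 ⟨hDY hx.1, hx.2⟩) hy) (inv_mem hy)
          refine le_fixGen hK ⟨?_, Subgroup.mem_centralizer_iff.2 fun a ha => ?_⟩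
          · show ((∏ a : A, c a _ : ↥N) : G) ∈ M
            exact (Subgroup.prod_mem (M.subgroupOf N) fun a _ =>
              (conj_mem_of_mem_normalizer (h3 a.2) hxy : (c a ⟨⁅x, y⁆, _⟩ : ↥N) ∈ M.subgroupOf N))
          · exact mul_inv_eq_iff_eq_mul.1
              (congrArg Subtype.val (hPfix ⟨a, ha⟩ ⟨⁅x, y⁆, Subgroup.commutator_mem_commutator hx.1 hyC.1⟩))
        exact (S.mul_mem hmS hxS).2
  intro n hn
  obtain ⟨n', hn', e⟩ := (Subgroup.commutator_le.2 fun d hd y hy => (hW hy).2 d hd : N ≤ T) hn.1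
  obtain rfl : n' = ⟨n, hn.1⟩ := Subtype.ext e
  have h1 : (n : G) ^ Nat.card A ∈ fixGen A Y := by
    have : P ⟨n, hn.1⟩ = (⟨n, hn.1⟩ : ↥N) ^ Nat.card A := by
      show ∏ a : A, c a ⟨n, hn.1⟩ = _
      rw [Finset.prod_congr rfl fun a _ => show c a ⟨n, hn.1⟩ = ⟨n, hn.1⟩ from Subtype.ext (by
          simp only [c]
          rw [Subgroup.mem_centralizer_iff.1 hn.2 a a.2, mul_inv_cancel_right]),
        Finset.prod_const, Finset.card_univ, Nat.card_eq_fintype_card]
    have h := Subgroup.mem_comap.1 hn'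
    rwa [MonoidHom.comp_apply, this] at h
  obtain ⟨j, hj⟩ := exists_pow_eq_self_of_coprime (x := n) (n := Nat.card A)
    (hco.coprime_dvd_right (Subgroup.orderOf_dvd_natCard Y (hDY (hND hn.1))))
  rw [← hj]
  exact pow_mem h1 j

/-- Reduction modulo an invariant normal subgroup. -/
theorem quot_step {N : Subgroup G} (hNY : N ≤ Y) (hNb : N ≠ ⊥) (hYN : Y ≤ Subgroup.normalizer (N : Set G))
    (hAN : A ≤ Subgroup.normalizer (N : Set G))
    (ih : ∀ (H : Type u) [Group H] [Finite H] (A' Y' : Subgroup H), IsMulCommutative A' →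
      A' ≤ Subgroup.normalizer (Y' : Set H) → (Nat.card A').Coprime (Nat.card Y') → ⁅Y', A'⁆ = Y' →
      Group.IsSolvable Y' → Nat.card Y' < Nat.card Y → Y' ⊓ Subgroup.centralizer (A' : Set H) ≤ fixGen A' Y')
    (hsol : Group.IsSolvable Y) :
    Y ⊓ Subgroup.centralizer (A : Set G) ≤ fixGen A Y ⊔ (N ⊓ Subgroup.centralizer (A : Set G)) := by
  set S := Subgroup.normalizer (N : Set G) with hS
  haveI : (N.subgroupOf S).Normal := Subgroup.normal_subgroupOf_of_le_normalizer le_rfl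
  set Ys := Y.subgroupOf S
  set As := A.subgroupOf S
  set π := QuotientGroup.mk' (N.subgroupOf S)
  have eY : Ys.map S.subtype = Y := Subgroup.map_subgroupOf_eq_of_le hYN
  have eA : As.map S.subtype = A := Subgroup.map_subgroupOf_eq_of_le hAN
  have hAYs : As ≤ Subgroup.normalizer (Ys : Set S) := fun a ha =>
    Subgroup.mem_normalizer_iff.2 fun y => Subgroup.mem_normalizer_iff.1 (hAY ha) y
  have hcoS : (Nat.card As).Coprime (Nat.card Ys) := by
    rwa [card_subgroupOf hAN, card_subgroupOf hYN]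
  have hAs : IsMulCommutative As := ⟨⟨fun a b => Subtype.ext (Subtype.ext
    (congrArg Subtype.val (hA.is_comm.comm ⟨((a : S) : G), a.2⟩ ⟨((b : S) : G), b.2⟩) :))⟩⟩
  have hcom : ⁅Ys, As⁆ = Ys := Subgroup.map_injective S.subtype_injective (by
    rw [Subgroup.map_commutator, eY, eA, hYA])
  have hsolS : Group.IsSolvable As := Group.isSolvable_of_comm fun s t => hAs.is_comm.comm s t
  have hlt : Nat.card (Ys.map π) < Nat.card Y := by
    have hd : Nat.card (Ys.map π) ∣ Nat.card Ys := Subgroup.card_map_dvd Ys π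
    rw [card_subgroupOf hYN] at hd
    refine lt_of_le_of_ne (Nat.le_of_dvd Nat.card_pos hd) fun heq => ?_
    obtain ⟨n, hn, hn1⟩ := (Subgroup.bot_or_exists_ne_one N).resolve_left hNb
    have hinj : Set.InjOn π (Ys : Set S) := by
      have hs : Function.Surjective (π.subgroupMap Ys) := π.subgroupMap_surjective Ys
      have hb := (Nat.bijective_iff_surjective_and_card _).2 ⟨hs, by rw [heq, card_subgroupOf hYN]⟩
      exact fun x hx y hy e => congrArg Subtype.val (hb.1 (Subtype.ext e : π.subgroupMap Ys ⟨x, hx⟩ = π.subgroupMap Ys ⟨y, hy⟩))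
    have := hinj (x₁ := ⟨n, hYN (hNY hn)⟩) (hNY hn) (x₂ := 1) (one_mem _) (by
      rw [map_one]; exact (QuotientGroup.eq_one_iff _).2 hn)
    exact hn1 (congrArg Subtype.val this)
  intro x hx
  have hAπ : IsMulCommutative (As.map π) := ⟨⟨fun a b => by
    obtain ⟨a', ha', ea⟩ := a.2
    obtain ⟨b', hb', eb⟩ := b.2
    refine Subtype.ext ?_
    show (a : S ⧸ N.subgroupOf S) * b = b * a
    rw [← ea, ← eb, ← map_mul, ← map_mul]
    exact congrArg π (congrArg Subtype.val (hAs.is_comm.comm ⟨a', ha'⟩ ⟨b', hb'⟩))⟩⟩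
  have h1 := ih _ (As.map π) (Ys.map π) hAπ
    ((Subgroup.map_mono hAYs).trans (Subgroup.le_normalizer_map π))
    ((hcoS.coprime_dvd_left (Subgroup.card_map_dvd As π)).coprime_dvd_right (Subgroup.card_map_dvd Ys π))
    (by rw [← Subgroup.map_commutator, hcom]) (isSolvable_map π (isSolvable_subgroupOf hYN hsol)) hlt
  have h2 := h1 (x := π ⟨x, hYN hx.1⟩) ⟨⟨_, hx.1, rfl⟩, Subgroup.mem_centralizer_iff.2 (by
    rintro _ ⟨a, ha, rfl⟩
    rw [← map_mul, ← map_mul]
    exact congrArg π (Subtype.ext (Subgroup.mem_centralizer_iff.1 hx.2 a ha)))⟩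
  obtain ⟨l, hl, e⟩ := map_fixGen π hAs hAYs hcoS h2
  have hlG : (l : G) ∈ fixGen A Y := by
    have h3 : (fixGen As Ys).map S.subtype ≤ fixGen A Y := by
      rw [fixGen, Subgroup.map_iSup]
      refine iSup_le fun K => ?_
      rw [Subgroup.map_iSup]
      refine iSup_le fun hK => ?_
      obtain ⟨hKA, a, ha, hgen⟩ := hK
      have hK' : K.map S.subtype ∈ CycQuot A := by
        refine ⟨eA ▸ Subgroup.map_mono hKA, a, ha, ?_⟩
        rw [show Subgroup.zpowers (a : G) = (Subgroup.zpowers a).map S.subtype from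
          (MonoidHom.map_zpowers S.subtype a).symm, ← Subgroup.map_sup, hgen, eA]
      refine le_trans ?_ (le_fixGen hK')
      rintro _ ⟨z, ⟨hz1, hz2⟩, rfl⟩
      refine ⟨?_, Subgroup.mem_centralizer_iff.2 fun b hb =>
        congrArg Subtype.val (Subgroup.mem_centralizer_iff.1 hz2 ⟨b, hAN hb⟩ hb)⟩
      have h4 : (Ys ⊓ Subgroup.centralizer (K : Set S)).map S.subtype ≤
          Y ⊓ Subgroup.centralizer ((K.map S.subtype : Subgroup G) : Set G) := by
        rintro _ ⟨w, ⟨hw1, hw2⟩, rfl⟩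
        refine ⟨hw1, Subgroup.mem_centralizer_iff.2 ?_⟩
        rintro _ ⟨k, hk, rfl⟩
        exact congrArg Subtype.val (Subgroup.mem_centralizer_iff.1 hw2 k hk)
      refine Subgroup.commutator_mono h4 le_rfl ?_
      rw [← eA, ← Subgroup.map_commutator]
      exact ⟨z, hz1, rfl⟩
    exact h3 ⟨l, hl, rfl⟩
  have hdiff : (l : G)⁻¹ * x ∈ N := by
    have := QuotientGroup.eq.1 e
    exact this
  rw [show x = (l : G) * ((l : G)⁻¹ * x) by group]
  exact mul_mem (Subgroup.mem_sup_left hlG) (Subgroup.mem_sup_right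
    (Subgroup.mem_inf.2 ⟨hdiff, mul_mem (inv_mem (fixGen_le_centralizer A Y hlG)) hx.2⟩))

end Main

/-- The elements of `Y` central modulo the centre of `Y`. -/
def secondCenter (Y : Subgroup G) : Subgroup G :=
  ((Subgroup.center (↥Y ⧸ Subgroup.center ↥Y)).comap (QuotientGroup.mk' (Subgroup.center ↥Y))).map Y.subtype

theorem main_aux : ∀ (n : ℕ) (G : Type u) [Group G] [Finite G] (A Y : Subgroup G), IsMulCommutative A →
    A ≤ Subgroup.normalizer (Y : Set G) → (Nat.card A).Coprime (Nat.card Y) → ⁅Y, A⁆ = Y →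
    Group.IsSolvable Y → Nat.card Y = n → Y ⊓ Subgroup.centralizer (A : Set G) ≤ fixGen A Y := by
  intro n
  induction n using Nat.strong_induction_on with
  | _ n IH =>
  intro G _ _ A Y hA hAY hco hYA hsol hn
  subst hn
  have hsolA : Group.IsSolvable A := Group.isSolvable_of_comm fun s t => hA.is_comm.comm s t
  have ih : ∀ (H : Type u) [Group H] [Finite H] (A' Y' : Subgroup H), IsMulCommutative A' →
      A' ≤ Subgroup.normalizer (Y' : Set H) → (Nat.card A').Coprime (Nat.card Y') → ⁅Y', A'⁆ = Y' →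
      Group.IsSolvable Y' → Nat.card Y' < Nat.card Y → Y' ⊓ Subgroup.centralizer (A' : Set H) ≤ fixGen A' Y' :=
    fun H _ _ A' Y' a b c e f h => IH _ h H A' Y' a b c e f rfl
  -- a normal subgroup `D` with `[D, Y] ≠ 1` centralised by `D`
  have hstep : ∀ D : Subgroup G, D ≤ Y → Y ≤ Subgroup.normalizer (D : Set G) →
      A ≤ Subgroup.normalizer (D : Set G) → (∀ d ∈ D, ∀ z ∈ ⁅D, Y⁆, d * z = z * d) → ⁅D, Y⁆ ≠ ⊥ →
      Y ⊓ Subgroup.centralizer (A : Set G) ≤ fixGen A Y := by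
    intro D hDY hYD hAD hcen hne
    obtain ⟨h1, -, h3⟩ := commutator_normal_in hYD
    have hAN : A ≤ Subgroup.normalizer ((⁅D, Y⁆ : Subgroup G) : Set G) := fun a ha =>
      mem_normalizer_of_conj_smul (by
        rw [conj_smul_eq_map, Subgroup.map_commutator, ← conj_smul_eq_map, ← conj_smul_eq_map,
          conj_smul_of_mem_normalizer (hAD ha), conj_smul_of_mem_normalizer (hAY ha)])
    exact (quot_step hA hAY hco hYA (h1.trans hDY) hne h3 hAN ih hsol).trans
      (sup_le le_rfl (fix_mem hA hAY hco hYA hDY hYD hAD hcen))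
  by_cases hYb : Y = ⊥
  · rw [hYb, bot_inf_eq]; exact bot_le
  obtain ⟨N, hNY, hNb, hYN, hAN, q, hq, hNq⟩ := exists_min_invariant hsol hYb hAY
  haveI := Fact.mk hq
  -- an abelian characteristic piece of `N`
  obtain ⟨M, hMN, hMb, hMab, hYM, hAM⟩ : ∃ M : Subgroup G, M ≤ N ∧ M ≠ ⊥ ∧ (∀ a ∈ M, ∀ b ∈ M, a * b = b * a) ∧
      Y ≤ Subgroup.normalizer (M : Set G) ∧ A ≤ Subgroup.normalizer (M : Set G) := by
    haveI : Nontrivial ↥N := (Subgroup.nontrivial_iff_ne_bot N).2 hNb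
    haveI := hNq.center_nontrivial
    refine ⟨N ⊓ Subgroup.centralizer (N : Set G), inf_le_left, ?_, fun a ha b hb =>
      (Subgroup.mem_centralizer_iff.1 ha.2 b hb.1).symm, ?_, ?_⟩
    · obtain ⟨z, hz⟩ := exists_ne (1 : Subgroup.center ↥N)
      refine fun h => hz (Subtype.ext (Subtype.ext ?_))
      have hm : ((z : N) : G) ∈ N ⊓ Subgroup.centralizer (N : Set G) := ⟨(z : N).2, Subgroup.mem_centralizer_iff.2
        fun y hy => congrArg Subtype.val (Subgroup.mem_center_iff.1 z.2 ⟨y, hy⟩)⟩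
      rw [h, Subgroup.mem_bot] at hm
      exact hm
    all_goals
      first
        | exact normalizer_smul_inf hYN fun y hy => centralizer_norm (hYN hy)
        | exact normalizer_smul_inf hAN fun a ha => centralizer_norm (hAN ha)
  have hMY := hMN.trans hNY
  by_cases hcent : ⁅M, Y⁆ = ⊥
  swap
  · exact hstep M hMY hYM hAM (fun d hd z hz => hMab d hd z ((commutator_normal_in hYM).1 hz)) hcent
  have hMc : ∀ m ∈ M, ∀ y ∈ Y, y * m = m * y := fun m hm y hy =>
    Subgroup.mem_centralizer_iff.1 (Subgroup.commutator_eq_bot_iff_le_centralizer.1 hcent hm) y hy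
  have hquot := quot_step hA hAY hco hYA hMY hMb hYM hAM ih hsol
  obtain ⟨Q, hQ, hMQ, hAQ⟩ := exists_invariant_sylow_ge hAY hco (Or.inl hsolA) M hMY (hNq.to_le hMN) hAM
  by_cases hQY : Q = Y
  · -- the nilpotent case
    by_cases hab : ⁅Y, Y⁆ = ⊥
    · exact le_trans (fixed_le_derived hA hAY hco hYA) (hab ▸ bot_le)
    set D := secondCenter Y with hD
    have hYp : IsPGroup q Y := hQY ▸ hQ.isPGroup
    have hDY : D ≤ Y := Subgroup.map_subtype_le _
    have hDchar : ∀ g : G, g ∈ Subgroup.normalizer (Y : Set G) → g ∈ Subgroup.normalizer (D : Set G) := by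
      intro g hg
      refine Cfsg.Agent.Fusion.mem_normalizer_of_cj_le ?_
      rintro _ ⟨_, ⟨d, hd, rfl⟩, rfl⟩
      refine ⟨⟨g * d * g⁻¹, conj_mem_of_mem_normalizer hg d.2⟩, Subgroup.mem_center_iff.2 fun y' => ?_, rfl⟩
      obtain ⟨y, rfl⟩ := QuotientGroup.mk'_surjective _ y'
      let y₀ : Y := ⟨g⁻¹ * y * g, by simpa using conj_mem_of_mem_normalizer (inv_mem hg) y.2⟩
      have h := Subgroup.mem_center_iff.1 (Subgroup.mem_comap.1 hd) (QuotientGroup.mk' _ y₀)
      rw [← map_mul, ← map_mul] at h ⊢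
      have h' := Subgroup.mem_center_iff.1 (QuotientGroup.eq.1 h)
      refine QuotientGroup.eq.2 (Subgroup.mem_center_iff.2 fun z => Subtype.ext ?_)
      let z₀ : Y := ⟨g⁻¹ * z * g, by simpa using conj_mem_of_mem_normalizer (inv_mem hg) z.2⟩
      have h'' := congrArg Subtype.val (h' z₀)
      simp only [y₀, z₀, Subgroup.coe_mul, Subgroup.coe_inv] at h'' ⊢
      calc (z : G) * ((↑y * (g * ↑d * g⁻¹))⁻¹ * (g * ↑d * g⁻¹ * ↑y))
          = g * ((g⁻¹ * z * g) * ((g⁻¹ * ↑y * g * ↑d)⁻¹ * (↑d * (g⁻¹ * ↑y * g)))) * g⁻¹ := by group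
        _ = _ := by rw [h'']; group
    have hDc : ∀ d ∈ D, ∀ y ∈ Y, ∀ y' ∈ Y, y' * ⁅d, y⁆ = ⁅d, y⁆ * y' := by
      rintro _ ⟨d, hd, rfl⟩ y hy y' hy'
      have h := Subgroup.mem_center_iff.1 (Subgroup.mem_comap.1 hd) (QuotientGroup.mk' _ ⟨y, hy⟩)
      rw [← map_mul, ← map_mul] at h
      have h0 : ⁅d, (⟨y, hy⟩ : Y)⁆ ∈ Subgroup.center ↥Y := by
        rw [← QuotientGroup.eq_one_iff, ← QuotientGroup.mk'_apply, commutatorElement_def, map_mul, map_mul,
          ← h, map_mul, map_inv, map_inv]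
        group
      exact congrArg Subtype.val (Subgroup.mem_center_iff.1 h0 ⟨y', hy'⟩)
    refine hstep D hDY (fun y hy => hDchar y (Subgroup.le_normalizer hy)) (fun a ha => hDchar a (hAY ha))
      (fun d hd z hz => ?_) fun hbot => ?_
    · have : ⁅D, Y⁆ ≤ Subgroup.centralizer (Y : Set G) := Subgroup.commutator_le.2 fun d hd y hy =>
        Subgroup.mem_centralizer_iff.2 fun y' hy' => hDc d hd y hy y' hy'
      exact Subgroup.mem_centralizer_iff.1 (this hz) d (hDY hd)
    · -- the second centre is bigger than the centre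
      refine hab (Subgroup.commutator_eq_bot_iff_le_centralizer.2 ?_)
      by_contra hna
      have hne : Nontrivial (↥Y ⧸ Subgroup.center ↥Y) := by
        rw [← Finite.one_lt_card_iff_nontrivial, ← Subgroup.index_eq_card]
        refine Subgroup.one_lt_index_of_ne_top fun htop => hna fun y hy => ?_
        refine Subgroup.mem_centralizer_iff.2 fun y' hy' => ?_
        exact congrArg Subtype.val (Subgroup.mem_center_iff.1 (htop ▸ Subgroup.mem_top (⟨y, hy⟩ : Y)) ⟨y', hy'⟩)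
      haveI := (hYp.to_quotient (Subgroup.center ↥Y)).center_nontrivial
      obtain ⟨z, hz⟩ := exists_ne (1 : Subgroup.center (↥Y ⧸ Subgroup.center ↥Y))
      obtain ⟨d, hd⟩ := QuotientGroup.mk'_surjective (Subgroup.center ↥Y) (z : ↥Y ⧸ Subgroup.center ↥Y)
      have hdD : (d : G) ∈ D := ⟨d, by rw [SetLike.mem_coe, Subgroup.mem_comap, hd]; exact z.2, rfl⟩
      refine hz (Subtype.ext ?_)
      rw [← hd]
      refine (QuotientGroup.eq_one_iff d).2 (Subgroup.mem_center_iff.2 fun y => Subtype.ext ?_)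
      exact Subgroup.mem_centralizer_iff.1 (Subgroup.commutator_eq_bot_iff_le_centralizer.1 hbot hdD) y y.2
  -- a proper Sylow subgroup
  refine hquot.trans (sup_le le_rfl fun m hm => ?_)
  set L := fixGen A Y with hL
  have hLY : L ≤ Y := fixGen_le hA hAY
  obtain ⟨c1, c2, c3⟩ := commutator_normal_in hAQ
  set Q₀ := ⁅Q, A⁆ with hQ₀
  have hcQ : (Nat.card A).Coprime (Nat.card Q) := hco.coprime_dvd_right (Subgroup.card_dvd_of_le hQ.1)
  have hQ₀L : Q₀ ⊓ Subgroup.centralizer (A : Set G) ≤ L := by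
    refine le_trans (ih G A Q₀ hA c3 (hcQ.coprime_dvd_right (Subgroup.card_dvd_of_le c1))
      (commutator_commutator_eq hAQ hcQ (Or.inl hsolA)) (isSolvable_of_le (c1.trans hQ.1) hsol)
      (lt_of_le_of_lt (Subgroup.card_le_of_le c1) (card_lt_of_lt (lt_of_le_of_ne hQ.1 hQY))))
      (fixGen_mono (c1.trans hQ.1))
  have hLQ : L ⊓ Q ≤ Subgroup.normalizer (Q₀ : Set G) := inf_le_right.trans c2
  set R := Q₀ ⊔ (L ⊓ Q) with hR
  have hdec : ∀ x ∈ Q, ∃ r ∈ R, ∃ e ∈ M, x = r * e := by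
    intro x hx
    obtain ⟨q₀, h0, c, hc, rfl⟩ := exists_commutator_mul_fixed hAQ hcQ (Or.inl hsolA) hx
    have hc' := hquot ⟨hQ.1 hc.1, hc.2⟩
    rw [← SetLike.mem_coe, Subgroup.coe_mul_of_left_le_normalizer_right _ _ (fun l hl => by
      refine Subgroup.mem_normalizer_iff.2 fun e => ?_
      have he : ∀ u ∈ L, ∀ e ∈ M ⊓ Subgroup.centralizer (A : Set G), u * e * u⁻¹ = e := fun u hu e he => by
        rw [hMc e he.1 u (hLY hu), mul_inv_cancel_right]
      refine ⟨fun h => by rw [he l hl e h]; exact h, fun h => ?_⟩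
      have := he l⁻¹ (inv_mem hl) _ h
      rw [show l⁻¹ * (l * e * l⁻¹) * l⁻¹⁻¹ = e by group] at this
      rw [this]; exact h)] at hc'
    obtain ⟨l, hl, e, he, hle⟩ := hc'
    have hlQ : l ∈ Q := by
      rw [show l = c * e⁻¹ by rw [← hle]; group]
      exact mul_mem hc.1 (inv_mem (hMQ he.1))
    exact ⟨q₀ * l, mul_mem (Subgroup.mem_sup_left h0) (Subgroup.mem_sup_right ⟨hl, hlQ⟩), e, he.1, by
      rw [← hle]; group⟩
  have hQ'R : ⁅Q, Q⁆ ≤ R := Subgroup.commutator_le.2 fun x hx y hy => by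
    obtain ⟨r, hr, e, he, rfl⟩ := hdec x hx
    obtain ⟨r', hr', e', he', rfl⟩ := hdec y hy
    have hrY : r ∈ Y := (sup_le (c1.trans hQ.1) (inf_le_left.trans hLY) : R ≤ Y) hr
    have hr'Y : r' ∈ Y := (sup_le (c1.trans hQ.1) (inf_le_left.trans hLY) : R ≤ Y) hr'
    have : ⁅r * e, r' * e'⁆ = ⁅r, r'⁆ := by
      have E1 : Commute e r' := (hMc e he r' hr'Y).symm
      have E2 : Commute e e' := (hMc e he e' (hMY he')).symm
      have E3 : Commute e' r⁻¹ := (hMc e' he' r⁻¹ (inv_mem hrY)).symm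
      calc ⁅r * e, r' * e'⁆ = r * (e * (r' * e')) * e⁻¹ * r⁻¹ * e'⁻¹ * r'⁻¹ := by
            rw [commutatorElement_def]; group
        _ = r * r' * (e' * r⁻¹) * e'⁻¹ * r'⁻¹ := by rw [(E1.mul_right E2).eq]; group
        _ = ⁅r, r'⁆ := by rw [E3.eq, commutatorElement_def]; group
    rw [this, commutatorElement_def]
    exact mul_mem (mul_mem (mul_mem hr hr') (inv_mem hr)) (inv_mem hr')
  -- the transfer
  have hmQ' : m ∈ ⁅Q, Q⁆ := by
    have hmY' : m ∈ ⁅Y, Y⁆ := fixed_le_derived hA hAY hco hYA ⟨hMY hm.1, hm.2⟩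
    set Qy := Q.subgroupOf Y
    rw [← Subgroup.map_subtype_commutator Y] at hmY'
    obtain ⟨mY, hmY, rfl⟩ := hmY'
    simp only [Subgroup.subtype_apply] at hm ⊢
    let ϕ : ↥Qy →* Abelianization ↥Qy := Abelianization.of
    have h1 := MonoidHom.transfer_eq_pow ϕ mY fun k g₀ _ => by
      refine Subtype.ext ?_
      have hmk : ((mY ^ k : Y) : G) ∈ M := by rw [SubgroupClass.coe_pow]; exact pow_mem hm.1 k
      show (g₀ : G)⁻¹ * ((mY ^ k : Y) : G) * g₀ = ((mY ^ k : Y) : G)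
      rw [mul_assoc, ← hMc _ hmk g₀ g₀.2, inv_mul_cancel_left]
    rw [Abelianization.commutator_subset_ker (MonoidHom.transfer ϕ) hmY] at h1
    have h2 : mY ^ Qy.index ∈ (commutator ↥Qy).map Qy.subtype :=
      ⟨_, by rw [SetLike.mem_coe, ← Abelianization.ker_of, MonoidHom.mem_ker]; exact h1.symm, rfl⟩
    have h3 : (mY : G) ^ Qy.index ∈ ⁅Q, Q⁆ := by
      have := Subgroup.mem_map_of_mem Y.subtype h2
      rwa [Subgroup.map_subtype_commutator, Subgroup.map_commutator, Subgroup.map_subgroupOf_eq_of_le hQ.1,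
        map_pow] at this
    obtain ⟨k, hk⟩ := IsPGroup.iff_orderOf.1 (hNq.to_le hMN) ⟨_, hm.1⟩
    rw [Subgroup.orderOf_mk] at hk
    have hndvd : ¬ q ∣ Qy.index := by
      obtain ⟨S, hS⟩ := hQ.exists_sylow
      rw [show Qy = (S : Subgroup Y) from by
        rw [show Qy = Q.subgroupOf Y from rfl, ← hS, Subgroup.subgroupOf,
          Subgroup.comap_map_eq_self_of_injective Y.subtype_injective]]
      exact S.not_dvd_index
    obtain ⟨j, hj⟩ := exists_pow_eq_self_of_coprime (x := ((mY : Y) : G)) (n := Qy.index) (by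
      show Nat.Coprime Qy.index _
      exact hk ▸ (((hq.coprime_iff_not_dvd).2 hndvd).pow_left k).symm)
    rw [← hj]
    exact pow_mem h3 j
  have hmR := hQ'R hmQ'
  rw [hR, ← SetLike.mem_coe, Subgroup.coe_mul_of_right_le_normalizer_left _ _ hLQ] at hmR
  obtain ⟨q₀, h0, l, hl, e⟩ := hmR
  have hq0 : q₀ ∈ L := by
    refine hQ₀L (Subgroup.mem_inf.2 ⟨h0, ?_⟩)
    rw [show q₀ = m * l⁻¹ by rw [← e]; group]
    exact mul_mem hm.2 (inv_mem (fixGen_le_centralizer A Y hl.1))
  rw [← e]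
  exact mul_mem hq0 hl.1

/-- Goldschmidt's generation lemma. -/
theorem fixed_le_fixGen {G : Type u} [Group G] [Finite G] {A Y : Subgroup G} (hA : IsMulCommutative A)
    (hAY : A ≤ Subgroup.normalizer (Y : Set G)) (hco : (Nat.card A).Coprime (Nat.card Y)) (hYA : ⁅Y, A⁆ = Y)
    (hsol : Group.IsSolvable Y) : Y ⊓ Subgroup.centralizer (A : Set G) ≤ fixGen A Y :=
  main_aux _ G A Y hA hAY hco hYA hsol rfl

theorem isCyclic_quot {A B K : Subgroup G} (hA : IsMulCommutative A) (hB : B ≤ A) (hK : K ∈ CycQuot A)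
    [((B ⊓ K).subgroupOf B).Normal] : IsCyclic (↥B ⧸ (B ⊓ K).subgroupOf B) := by
  obtain ⟨hKA, a, ha, hgen⟩ := hK
  haveI : (K.subgroupOf A).Normal := ⟨fun k hk g => by
    rw [hA.is_comm.comm g k, mul_inv_cancel_right]; exact hk⟩
  haveI : IsCyclic (↥A ⧸ K.subgroupOf A) := by
    refine ⟨⟨QuotientGroup.mk' _ ⟨a, ha⟩, fun z => ?_⟩⟩
    obtain ⟨x, rfl⟩ := QuotientGroup.mk'_surjective _ z
    have hsup : (K.subgroupOf A ⊔ Subgroup.zpowers (⟨a, ha⟩ : A)) = ⊤ := by
      refine Subgroup.map_injective A.subtype_injective ?_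
      rw [Subgroup.map_sup, Subgroup.map_subgroupOf_eq_of_le hKA, MonoidHom.map_zpowers,
        ← MonoidHom.range_eq_map, Subgroup.range_subtype]
      exact hgen
    have hx := hsup.ge (Subgroup.mem_top x)
    have h := Subgroup.mem_map_of_mem (QuotientGroup.mk' (K.subgroupOf A)) hx
    rwa [Subgroup.map_sup, QuotientGroup.map_mk'_self, bot_sup_eq, MonoidHom.map_zpowers] at h
  let f : ↥B →* ↥A ⧸ K.subgroupOf A := (QuotientGroup.mk' (K.subgroupOf A)).comp (Subgroup.inclusion hB)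
  have hker : ∀ x ∈ (B ⊓ K).subgroupOf B, x ∈ f.ker := fun x hx => (QuotientGroup.eq_one_iff _).2 hx.2
  refine isCyclic_of_injective (QuotientGroup.lift _ f hker) ?_
  rw [← MonoidHom.ker_eq_bot_iff, eq_bot_iff]
  intro z hz
  obtain ⟨x, rfl⟩ := QuotientGroup.mk'_surjective _ z
  exact (QuotientGroup.eq_one_iff x).2 ⟨x.2, (QuotientGroup.eq_one_iff (Subgroup.inclusion hB x)).1 hz⟩

/-- The fixed points of a subgroup `B` of `A`. -/
theorem centralizer_eq_iSup {G : Type u} [Group G] [Finite G] {A B Y : Subgroup G} (hA : IsMulCommutative A)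
    (hB : B ≤ A) (hAY : A ≤ Subgroup.normalizer (Y : Set G)) (hco : (Nat.card A).Coprime (Nat.card Y))
    (hYA : ⁅Y, A⁆ = Y) (hsol : Group.IsSolvable Y) :
    Y ⊓ Subgroup.centralizer (B : Set G) =
      ⨆ B₀ : {B₀ : Subgroup G // B₀ ≤ B ∧ ∀ [(B₀.subgroupOf B).Normal], IsCyclic (↥B ⧸ B₀.subgroupOf B)},
        Y ⊓ Subgroup.centralizer (B : Set G) ⊓ ⁅Y ⊓ Subgroup.centralizer ((B₀ : Subgroup G) : Set G), A⁆ := by
  refine le_antisymm ?_ (iSup_le fun _ => inf_le_left)
  set R := ⨆ B₀ : {B₀ : Subgroup G // B₀ ≤ B ∧ ∀ [(B₀.subgroupOf B).Normal], IsCyclic (↥B ⧸ B₀.subgroupOf B)},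
        Y ⊓ Subgroup.centralizer (B : Set G) ⊓ ⁅Y ⊓ Subgroup.centralizer ((B₀ : Subgroup G) : Set G), A⁆
  have hsolA : Group.IsSolvable A := Group.isSolvable_of_comm fun s t => hA.is_comm.comm s t
  have hn := cent_norm hA hAY hB
  have hc := commutator_sup_fixed hn (hco.coprime_dvd_right (Subgroup.card_dvd_of_le inf_le_left)) (Or.inl hsolA)
  refine hc.ge.trans (sup_le ?_ ?_)
  · refine le_iSup_of_le ⟨B, le_rfl, ?_⟩ (le_inf (commutator_normal_in hn).1 le_rfl)
    intro _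
    haveI : Subsingleton (↥B ⧸ B.subgroupOf B) := by
      rw [← Finite.card_le_one_iff_subsingleton, ← Subgroup.index_eq_card, Subgroup.subgroupOf_self, Subgroup.index_top]
    infer_instance
  · refine le_trans (inf_le_inf_right _ inf_le_left) ((fixed_le_fixGen hA hAY hco hYA hsol).trans (iSup₂_le ?_))
    intro K hK
    refine le_iSup_of_le ⟨B ⊓ K, inf_le_left, fun {_} => isCyclic_quot hA hB hK⟩ (le_inf (le_inf ?_ ?_) ?_)
    · exact inf_le_left.trans ((commutator_normal_in (cent_norm hA hAY hK.1)).1.trans inf_le_left)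
    · exact inf_le_right.trans (Subgroup.centralizer_le (SetLike.coe_subset_coe.2 hB))
    · exact inf_le_left.trans (Subgroup.commutator_mono
        (inf_le_inf_left _ (Subgroup.centralizer_le (SetLike.coe_subset_coe.2 inf_le_right))) le_rfl)

end FixedGen

end Cfsg.Agent.Solv
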