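import Cfsg.Agent.Lib.Fusion.IndexP
import Cfsg.Agent.Lib.Fusion.KInfMap
import Cfsg.Agent.Lib.Local.FS.FactorFree
import Cfsg.Agent.S1993
import Cfsg.Agent.S5197

/-!
# A saturated system on a group without `p'`-automorphisms has a proper focal subgroup for `p ≥ 5`

The upper K-infinity subgroup controls transfer and its normalizer system has a model, in which the
normalizer of a Sylow group induces only `p`-elements on it.
-/

set_option autoImplicit false
set_option linter.style.haveILetI false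

namespace Cfsg.Agent.Solv

open Cfsg Cfsg.FusionSystem Cfsg.Agent.Local.FS Cfsg.Agent.Fusion
open scoped commutatorElement

universe u

theorem commutator_le_of_index_prime_focal {L : Type*} [Group L] {p : ℕ} [Fact p.Prime] (M : Subgroup L)
    [M.Normal] (hi : M.index = p) : commutator L ≤ M := by
  have hcyc : IsCyclic (L ⧸ M) :=
    isCyclic_of_prime_card (p := p) ((Subgroup.index_eq_card M).symm.trans hi)
  refine (commutator_def L).le.trans (Subgroup.commutator_le.2 fun a _ b _ => ?_)
  refine (QuotientGroup.eq_one_iff _).1 ?_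
  show QuotientGroup.mk' M ⁅a, b⁆ = 1
  rw [map_commutatorElement]
  refine commutatorElement_eq_one_iff_mul_comm.2 ?_
  obtain ⟨g, hg⟩ := hcyc.exists_generator
  obtain ⟨i, hi'⟩ := hg (QuotientGroup.mk' M a)
  obtain ⟨j, hj⟩ := hg (QuotientGroup.mk' M b)
  rw [← hi', ← hj]
  exact (zpow_mul_comm g i j)

theorem focal_ne_top {Ω : Type u} [Group Ω] {S : Subgroup Ω} [Finite S] {p : ℕ} [Fact p.Prime]
    (hp : 5 ≤ p) (hS : IsPGroup p S) {F : FusionSystem S} (hF : F.IsSaturated p) (hne : S ≠ ⊥)
    (hAut : IsPGroup p (MulAut S)) : F.focalSubgroup.subgroupOf S ≠ ⊤ := by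
  classical
  have hW := isCharPFunctor_kInfUpper.{u} p
  set K := inducedFunctor (kInfUpper.{u}) S with hKdef
  have hKS : K ≤ S := Subgroup.map_subtype_le _
  have hV : normalizerIn S K = S := normalizerIn_functor hS hW.2
  have hfn : F.IsFullyNormalized K := fn_of_normalized hKS hV
  have hT : ∀ (G : Type u) [Group G] [Finite G] (P : Sylow p G),
      Subgroup.centralizer ((pCore p G : Subgroup G) : Set G) ≤ pCore p G →
      pCore p G ⊓ commutator G = pCore p G ⊓ (commutator ↥(Subgroup.normalizer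
        (((kInfUpper ↥(P : Subgroup G)).map (P : Subgroup G).subtype : Subgroup G) : Set G))).map
        (Subgroup.normalizer
        (((kInfUpper ↥(P : Subgroup G)).map (P : Subgroup G).subtype : Subgroup G) : Set G)).subtype := by
    intro G _ _ P _
    have h := (Cfsg.Agent.S1993.result P).1 hp
    have hle : pCore p G ≤ (P : Subgroup G) := pCore_le_sylow P
    rw [Subgroup.map_subtype_commutator, ← inf_eq_left.mpr hle, inf_assoc, h, ← inf_assoc]
    rfl
  set N := normSys F hKS with hNdef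
  have hfoc : N.focalSubgroup = F.focalSubgroup :=
    Cfsg.Agent.S5197.result (fun Q _ => kInfUpper Q) hW.1 hW.2 hT hS F hF N fun _ => rfl
  haveI : Finite ↥(normalizerIn S K) := finite_normalizerIn
  haveI : Group.IsNilpotent ↥S := hS.isNilpotent
  have hVp : IsPGroup p ↥(normalizerIn S K) := hS.to_le inf_le_left
  have hn : N.IsNormal K := normal_normalizerSystem hKS fun _ => rfl
  have hc : N.IsCentric K := by
    refine ⟨le_normalizerIn hKS, fun T hT' => ?_⟩
    rw [eq_of_isConj_stronglyClosed (normal_stronglyClosed hn) hT']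
    intro x hx
    obtain ⟨hxV, hxc⟩ := mem_centralizerIn.1 hx
    refine ⟨⟨x, hxV.1⟩, centralizer_kInfUpper_le ?_, rfl⟩
    exact fun y hy => Subtype.ext (hxc (y : Ω) ⟨y, hy, rfl⟩)
  obtain ⟨L, _, ι, hL⟩ := exists_model hVp (normSys_saturated hS hF hfn) hn hc
  haveI := hL.1
  obtain ⟨T, hTι⟩ := hL.2.2.1
  have hinj := hL.2.1.1
  have hTne : (T : Subgroup L) ≠ ⊥ := fun h => hne (le_bot_iff.1 fun x hx => by
    have h1 : ι ⟨x, hV.ge hx⟩ ∈ (⊥ : Subgroup L) := h ▸ hTι.ge ⟨_, rfl⟩
    exact Subgroup.mem_bot.2 (congrArg Subtype.val (hinj ((Subgroup.mem_bot.1 h1).trans ι.map_one.symm))))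
  -- only `p`-automorphisms
  have hAutV : IsPGroup p (MulAut ↥(normalizerIn S K)) :=
    hAut.of_equiv (MulAut.congr (MulEquiv.subgroupCongr hV).symm)
  have hN : ∀ g ∈ Subgroup.normalizer ((T : Subgroup L) : Set L), (orderOf g).Coprime p →
      g ∈ Subgroup.centralizer ((T : Subgroup L) : Set L) := by
    intro g hg hgp
    let eι : ↥(normalizerIn S K) ≃* ↥(T : Subgroup L) :=
      (MonoidHom.ofInjective hinj).trans (MulEquiv.subgroupCongr hTι.symm)
    let c : MulAut ↥(T : Subgroup L) :=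
      (T : Subgroup L).normalizerMonoidHom ⟨g, hg⟩
    set α : MulAut ↥(normalizerIn S K) := (MulAut.congr eι.symm) c with hα
    have h1 : α ^ orderOf g = 1 := by
      rw [hα, ← map_pow]
      have : (⟨g, hg⟩ : Subgroup.normalizer ((T : Subgroup L) : Set L)) ^ orderOf g = 1 :=
        Subtype.ext (by rw [SubmonoidClass.coe_pow]; exact pow_orderOf_eq_one g)
      rw [← map_pow, this, map_one, map_one]
    obtain ⟨k, hk⟩ := hAutV α
    have h2 : α = 1 := by
      have h3 := pow_gcd_eq_one.mpr ⟨h1, hk⟩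
      rwa [Nat.Coprime.gcd_eq_one (hgp.pow_right k), pow_one] at h3
    have h4 : c = 1 := (MulAut.congr eι.symm).injective (h2.trans (map_one _).symm)
    intro t ht
    have h5 := congrArg Subtype.val (DFunLike.congr_fun h4 ⟨t, ht⟩)
    change g * t * g⁻¹ = t at h5
    exact ((mul_inv_eq_iff_eq_mul).mp h5).symm
  obtain ⟨M, hMn, hMi⟩ := exists_index_p_of_transfer (G := L) hW
    (fun X _ _ _ => kInfUpper_transfer hp X) L involves_refl (sylIn_top T) hTne hN
  haveI := hMn
  have hLM := commutator_le_of_index_prime_focal M hMi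
  have hle : N.focalSubgroup ≤ (M.comap ι).map (normalizerIn S K).subtype := by
    refine (Subgroup.closure_le _).2 ?_
    rintro _ ⟨P, φ, x, hφ, rfl⟩
    have hP : P ≤ normalizerIn S K := (N.le_of_mem hφ).1
    have hφm : ∀ y : P, φ y ∈ normalizerIn S K := (N.le_of_mem hφ).2
    obtain ⟨g, hg⟩ := (hL.2.1.2 P hP φ hφm).1 hφ
    refine ⟨(⟨x, hP x.2⟩ : ↥(normalizerIn S K))⁻¹ * ⟨φ x, hφm x⟩, ?_, rfl⟩
    show ι _ ∈ M
    rw [map_mul, map_inv, hg x]
    refine hLM ?_
    have h6 : ⁅(ι ⟨x, hP x.2⟩)⁻¹, g⁆ ∈ commutator L :=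
      Subgroup.commutator_mem_commutator (Subgroup.mem_top _) (Subgroup.mem_top _)
    simpa [commutatorElement_def, mul_assoc] using h6
  intro htop
  have hTM : (T : Subgroup L) ≤ M := by
    intro t ht
    obtain ⟨v, rfl⟩ := hTι.le ht
    have h7 : (v : Ω) ∈ F.focalSubgroup := by
      have h8 : (⟨v, v.2.1⟩ : S) ∈ F.focalSubgroup.subgroupOf S := htop ▸ Subgroup.mem_top _
      exact h8
    obtain ⟨w, hw, hwv⟩ := hle (hfoc.ge h7)
    rw [← Subtype.ext hwv]
    exact hw
  exact T.not_dvd_index ((dvd_of_eq hMi.symm).trans (Subgroup.index_dvd_of_le hTM))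

end Cfsg.Agent.Solv
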