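import Cfsg.Agent.Lib.Solv.SFourInverted

/-!
Modules which are large for every elementary abelian 2-group acting on them: closure under chains,
and the module generated by the central involutions of a Sylow 2-subgroup of a solvable group
without sections `S₄`.
-/

set_option autoImplicit false

universe u

open Cfsg
open scoped commutatorElement Pointwise

namespace Cfsg.Agent.Solv.SFour

variable {G : Type u} [Group G]

/-- Every subgroup of `T` inducing an elementary abelian group `R` on `V` satisfies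
`|R|² ≤ |V : C_V(R)|`. -/
def Big (T V : Subgroup G) : Prop :=
  ∀ R : Subgroup G, R ≤ T → (∀ x ∈ R, x * x ∈ Subgroup.centralizer (V : Set G)) →
    Nat.card R ^ 2 * Nat.card (V ⊓ Subgroup.centralizer (R : Set G) : Subgroup G) ≤
      Nat.card V * Nat.card (R ⊓ Subgroup.centralizer (V : Set G) : Subgroup G) ^ 2

theorem Big.mono {T T' V : Subgroup G} (h : Big T V) (hT : T' ≤ T) : Big T' V :=
  fun R hR => h R (hR.trans hT)

theorem map_inf_centralizer {H : Type*} [Group H] {f : G →* H} (hf : Function.Injective f)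
    (A B : Subgroup G) :
    (A ⊓ Subgroup.centralizer (B : Set G)).map f =
      A.map f ⊓ Subgroup.centralizer (B.map f : Set H) := by
  ext y
  constructor
  · rintro ⟨x, ⟨hxA, hxB⟩, rfl⟩
    refine ⟨⟨x, hxA, rfl⟩, Subgroup.mem_centralizer_iff.2 ?_⟩
    rintro _ ⟨b, hb, rfl⟩
    rw [← map_mul, Subgroup.mem_centralizer_iff.1 hxB b hb, map_mul]
  · rintro ⟨⟨x, hxA, rfl⟩, hxB⟩
    refine ⟨x, ⟨hxA, Subgroup.mem_centralizer_iff.2 fun b hb => hf ?_⟩, rfl⟩
    rw [map_mul, map_mul]
    exact Subgroup.mem_centralizer_iff.1 hxB (f b) ⟨b, hb, rfl⟩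

theorem card_map_inj {H : Type*} [Group H] {f : G →* H} (hf : Function.Injective f)
    (A : Subgroup G) : Nat.card (A.map f) = Nat.card A :=
  Subgroup.card_map_of_injective hf

theorem Big.map {H : Type*} [Group H] {f : G →* H} (hf : Function.Injective f) {T V : Subgroup G}
    (h : Big T V) : Big (T.map f) (V.map f) := by
  intro R hR hsq
  have hRf : R = (R.comap f).map f :=
    (Subgroup.map_comap_eq_self (hR.trans (Subgroup.map_le_range f T))).symm
  have hR0 : R.comap f ≤ T := fun x hx => by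
    obtain ⟨y, hy, he⟩ := hR hx
    rwa [← hf he]
  have h0 := h (R.comap f) hR0 fun x hx => Subgroup.mem_centralizer_iff.2 fun v hv => hf (by
    simpa only [map_mul] using Subgroup.mem_centralizer_iff.1 (hsq (f x) hx) (f v) ⟨v, hv, rfl⟩)
  rw [hRf, ← map_inf_centralizer hf, ← map_inf_centralizer hf, card_map_inj hf, card_map_inj hf,
    card_map_inj hf, card_map_inj hf]
  exact h0

theorem Big.of_map {H : Type*} [Group H] {f : G →* H} (hf : Function.Injective f)
    {T V : Subgroup G} (h : Big (T.map f) (V.map f)) : Big T V := by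
  intro R hR hsq
  have h0 := h (R.map f) (Subgroup.map_mono hR) (by
    rintro _ ⟨x, hx, rfl⟩
    refine Subgroup.mem_centralizer_iff.2 ?_
    rintro _ ⟨v, hv, rfl⟩
    simp only [← map_mul]
    rw [Subgroup.mem_centralizer_iff.1 (hsq x hx) v hv])
  rwa [← map_inf_centralizer hf, ← map_inf_centralizer hf, card_map_inj hf, card_map_inj hf,
    card_map_inj hf, card_map_inj hf] at h0

theorem Big.conj {T V : Subgroup G} (h : Big T V) {g : G}
    (hg : g ∈ Subgroup.normalizer (T : Set G)) : Big T (MulAut.conj g • V) := by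
  have h' := h.map (f := (MulAut.conj g).toMonoidHom) (MulAut.conj g).injective
  rwa [← conj_smul_eq_map, ← conj_smul_eq_map, conj_smul_of_mem_normalizer hg] at h'

theorem Big.subgroupOf {T V N : Subgroup G} (h : Big T V) (hT : T ≤ N) (hV : V ≤ N) :
    Big (T.subgroupOf N) (V.subgroupOf N) := by
  refine Big.of_map N.subtype_injective ?_
  rwa [Subgroup.map_subgroupOf_eq_of_le hT, Subgroup.map_subgroupOf_eq_of_le hV]

theorem Big.of_subgroupOf {T V N : Subgroup G} (hT : T ≤ N) (hV : V ≤ N)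
    (h : Big (T.subgroupOf N) (V.subgroupOf N)) : Big T V := by
  have h' := h.map N.subtype_injective
  rwa [Subgroup.map_subgroupOf_eq_of_le hT, Subgroup.map_subgroupOf_eq_of_le hV] at h'

theorem centralizer_sup (A B : Subgroup G) :
    Subgroup.centralizer ((A ⊔ B : Subgroup G) : Set G) =
      Subgroup.centralizer (A : Set G) ⊓ Subgroup.centralizer (B : Set G) := by
  refine le_antisymm (le_inf (Subgroup.centralizer_le (SetLike.coe_subset_coe.2 le_sup_left))
    (Subgroup.centralizer_le (SetLike.coe_subset_coe.2 le_sup_right))) ?_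
  rw [Subgroup.le_centralizer_iff]
  exact sup_le (Subgroup.le_centralizer_iff.1 inf_le_left)
    (Subgroup.le_centralizer_iff.1 inf_le_right)

variable [Finite G]

theorem elem_le_normalizer {W A B : Subgroup G} (hW : IsElementaryAbelian 2 W) (hA : A ≤ W)
    (hB : B ≤ W) : B ≤ Subgroup.normalizer (A : Set G) := fun x hx =>
  Cfsg.Agent.SFour.mem_normalizer_of_forall fun y hy => by
    rwa [← Local.elemAb_commute hW (hA hy) (hB hx), mul_inv_cancel_right]

/-- A module generated by big submodules is big. -/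
theorem big_of_generated {T W : Subgroup G} (hW : IsElementaryAbelian 2 W) {ι : Type*}
    (s : Finset ι) (Vf : ι → Subgroup G) (hle : ∀ i ∈ s, Vf i ≤ W) (hgen : W ≤ ⨆ i ∈ s, Vf i)
    (hb : ∀ i ∈ s, Big T (Vf i)) : Big T W := by
  classical
  intro R hRT hsq
  have key : ∀ s' : Finset ι, s' ⊆ s →
      Nat.card R ^ 2 * Nat.card (W ⊓ Subgroup.centralizer (R : Set G) : Subgroup G) ≤
        Nat.card (W ⊓ Subgroup.centralizer ((R ⊓ Subgroup.centralizer
            ((⨆ i ∈ s', Vf i : Subgroup G) : Set G) : Subgroup G) : Set G) : Subgroup G) *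
          Nat.card (R ⊓ Subgroup.centralizer ((⨆ i ∈ s', Vf i : Subgroup G) : Set G) :
            Subgroup G) ^ 2 := by
    intro s'
    induction s' using Finset.induction_on with
    | empty =>
      intro _
      have h : (⨆ i ∈ (∅ : Finset ι), Vf i) = ⊥ := by simp
      have hc : R ⊓ Subgroup.centralizer ((⊥ : Subgroup G) : Set G) = R :=
        inf_eq_left.2 fun x _ => Subgroup.mem_centralizer_iff.2 fun b hb => by
          rw [Subgroup.mem_bot.1 hb, one_mul, mul_one]
      rw [h, hc, mul_comm]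
    | @insert i s' his ih =>
      intro hsub
      obtain ⟨his', hsub'⟩ := Finset.insert_subset_iff.1 hsub
      have h1 := ih hsub'
      set U := ⨆ j ∈ s', Vf j with hU
      set R' := R ⊓ Subgroup.centralizer (U : Set G) with hR'
      set R'' := R ⊓ Subgroup.centralizer ((⨆ j ∈ insert i s', Vf j : Subgroup G) : Set G) with hR''
      have hR''eq : R'' = R' ⊓ Subgroup.centralizer (Vf i : Set G) := by
        rw [hR'', hR', hU, Finset.iSup_insert, centralizer_sup, inf_assoc,
          inf_comm (Subgroup.centralizer (Vf i : Set G))]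
      have h2 := hb i his' R' (inf_le_left.trans hRT) fun x hx =>
        Subgroup.centralizer_le (SetLike.coe_subset_coe.2 (hle i his')) (hsq x hx.1)
      rw [← hR''eq] at h2
      set A := W ⊓ Subgroup.centralizer (R' : Set G) with hA
      set A' := W ⊓ Subgroup.centralizer (R'' : Set G) with hA'
      set VR := Vf i ⊓ Subgroup.centralizer (R' : Set G) with hVR
      have hR''le : R'' ≤ R' := hR''eq ▸ inf_le_left
      have hsup : A ⊔ Vf i ≤ A' := by
        refine sup_le (inf_le_inf_left _ (Subgroup.centralizer_le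
          (SetLike.coe_subset_coe.2 hR''le))) (le_inf (hle i his') ?_)
        rw [Subgroup.le_centralizer_iff, hR''eq]
        exact inf_le_right
      have hcard := card_sup_mul_card_inf' A (Vf i) (elem_le_normalizer hW inf_le_left (hle i his'))
      have h3 : Nat.card A * Nat.card (Vf i) ≤ Nat.card A' * Nat.card VR := by
        rw [← hcard]
        exact Nat.mul_le_mul (Subgroup.card_le_of_le hsup)
          (Subgroup.card_le_of_le (le_inf inf_le_right (inf_le_left.trans inf_le_right)))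
      refine h1.trans ?_
      refine Nat.le_of_mul_le_mul_right ?_ (Nat.card_pos (α := (Vf i : Subgroup G)))
      calc Nat.card A * Nat.card R' ^ 2 * Nat.card (Vf i)
          = Nat.card R' ^ 2 * (Nat.card A * Nat.card (Vf i)) := by ring
        _ ≤ Nat.card R' ^ 2 * (Nat.card A' * Nat.card VR) := Nat.mul_le_mul_left _ h3
        _ = Nat.card A' * (Nat.card R' ^ 2 * Nat.card VR) := by ring
        _ ≤ Nat.card A' * (Nat.card (Vf i) * Nat.card R'' ^ 2) := Nat.mul_le_mul_left _ h2
        _ = Nat.card A' * Nat.card R'' ^ 2 * Nat.card (Vf i) := by ring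
  have h := key s (Finset.Subset.refl s)
  rw [le_antisymm (iSup₂_le hle) hgen] at h
  exact h.trans (Nat.mul_le_mul_right _ (Subgroup.card_le_of_le inf_le_left))

/-- The image of `e ↦ [r, e]` on an elementary abelian group normalized by `r`. -/
def deltaSub (E : Subgroup G) (r : G) (hE : IsElementaryAbelian 2 E)
    (hr : r ∈ Subgroup.normalizer (E : Set G)) : Subgroup G where
  carrier := {w | ∃ e ∈ E, r * e * r⁻¹ * e = w}
  one_mem' := ⟨1, E.one_mem, by group⟩
  mul_mem' := by
    rintro _ _ ⟨e, he, rfl⟩ ⟨f, hf, rfl⟩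
    refine ⟨e * f, E.mul_mem he hf, ?_⟩
    rw [show r * (e * f) * r⁻¹ * (e * f) = r * e * r⁻¹ * ((r * f * r⁻¹) * e) * f by group,
      Local.elemAb_commute hE (conj_mem_of_mem_normalizer hr hf) he]
    group
  inv_mem' := by
    rintro _ ⟨e, he, rfl⟩
    refine ⟨e, he, (inv_eq_of_mul_eq_one_right ?_).symm⟩
    rw [← pow_two]
    exact hE.2 _ (E.mul_mem (conj_mem_of_mem_normalizer hr he) he)

theorem deltaSub_le {E : Subgroup G} {r : G} (hE : IsElementaryAbelian 2 E)
    (hr : r ∈ Subgroup.normalizer (E : Set G)) : deltaSub E r hE hr ≤ E := by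
  rintro _ ⟨e, he, rfl⟩
  exact E.mul_mem (conj_mem_of_mem_normalizer hr he) he

theorem deltaSub_fixed {E : Subgroup G} {r : G} (hE : IsElementaryAbelian 2 E)
    (hr : r ∈ Subgroup.normalizer (E : Set G)) (hro : Odd (orderOf r)) {w : G}
    (hw : w ∈ deltaSub E r hE hr) (hfix : r * w * r⁻¹ = w) : w = 1 := by
  obtain ⟨e, he, rfl⟩ := hw
  set f := r * e * r⁻¹ with hf
  have hfE : f ∈ E := conj_mem_of_mem_normalizer hr he
  have h2 : r * f * r⁻¹ = e := by
    rw [show r * (f * e) * r⁻¹ = r * f * r⁻¹ * f by rw [hf]; group,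
      Local.elemAb_commute hE hfE he] at hfix
    exact mul_right_cancel hfix
  have hc : Commute (r ^ 2) e := mul_inv_eq_iff_eq_mul.1 <| by
    calc r ^ 2 * e * (r ^ 2)⁻¹ = r * f * r⁻¹ := by rw [hf, pow_two]; group
      _ = e := h2
  obtain ⟨k, hk⟩ := Cfsg.Agent.SFour.exists_sq_pow hro
  have h5 := (hc.pow_left k).eq
  rw [← hk] at h5
  rw [hf, h5, mul_inv_cancel_right, ← pow_two]
  exact hE.2 e he

theorem deltaSub_ne_bot {E : Subgroup G} {r : G} (hE : IsElementaryAbelian 2 E)
    (hr : r ∈ Subgroup.normalizer (E : Set G)) {e : G} (he : e ∈ E) (hne : r * e * r⁻¹ ≠ e) :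
    deltaSub E r hE hr ≠ ⊥ := fun h => hne (by
  have h1 : r * e * r⁻¹ * e ∈ deltaSub E r hE hr := ⟨e, he, rfl⟩
  rw [h, Subgroup.mem_bot, mul_eq_one_iff_eq_inv] at h1
  rw [h1]
  exact inv_eq_of_mul_eq_one_right (by rw [← pow_two]; exact hE.2 e he))

theorem mem_normalizer_deltaSub_self {E : Subgroup G} {r : G} (hE : IsElementaryAbelian 2 E)
    (hr : r ∈ Subgroup.normalizer (E : Set G)) :
    r ∈ Subgroup.normalizer (deltaSub E r hE hr : Set G) := by
  refine Cfsg.Agent.SFour.mem_normalizer_of_forall ?_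
  rintro _ ⟨e, he, rfl⟩
  exact ⟨r * e * r⁻¹, conj_mem_of_mem_normalizer hr he, by group⟩

theorem mem_normalizer_deltaSub_of_commute {E : Subgroup G} {r g : G}
    (hE : IsElementaryAbelian 2 E) (hr : r ∈ Subgroup.normalizer (E : Set G))
    (hg : g ∈ Subgroup.normalizer (E : Set G))
    (h : ∀ e ∈ E, g * (r * e * r⁻¹) * g⁻¹ = r * (g * e * g⁻¹) * r⁻¹) :
    g ∈ Subgroup.normalizer (deltaSub E r hE hr : Set G) := by
  refine Cfsg.Agent.SFour.mem_normalizer_of_forall ?_
  rintro _ ⟨e, he, rfl⟩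
  refine ⟨g * e * g⁻¹, conj_mem_of_mem_normalizer hg he, ?_⟩
  rw [← h e he]; group

theorem mem_normalizer_deltaSub_of_invert {E : Subgroup G} {r g : G}
    (hE : IsElementaryAbelian 2 E) (hr : r ∈ Subgroup.normalizer (E : Set G))
    (hg : g ∈ Subgroup.normalizer (E : Set G))
    (h : ∀ e ∈ E, r * (g * (r * e * r⁻¹) * g⁻¹) * r⁻¹ = g * e * g⁻¹) :
    g ∈ Subgroup.normalizer (deltaSub E r hE hr : Set G) := by
  refine Cfsg.Agent.SFour.mem_normalizer_of_forall ?_
  rintro _ ⟨e, he, rfl⟩
  set x := g * (r * e * r⁻¹) * g⁻¹ with hx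
  have hxE : x ∈ E := conj_mem_of_mem_normalizer hg (conj_mem_of_mem_normalizer hr he)
  refine ⟨x, hxE, ?_⟩
  rw [h e he, show g * (r * e * r⁻¹ * e) * g⁻¹ = x * (g * e * g⁻¹) by rw [hx]; group]
  exact Local.elemAb_commute hE (conj_mem_of_mem_normalizer hg he) hxE

theorem exists_odd_lift' (C : Subgroup G) [C.Normal] (x : G ⧸ C) (hx : Odd (orderOf x)) :
    ∃ r : G, (r : G ⧸ C) = x ∧ Odd (orderOf r) := by
  obtain ⟨g, rfl⟩ := QuotientGroup.mk_surjective x
  set m := orderOf (g : G ⧸ C)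
  obtain ⟨t, n, hn, hgn⟩ := Nat.exists_eq_pow_mul_and_not_dvd (orderOf_pos g).ne' 2 (by norm_num)
  obtain ⟨j, hj⟩ := hx
  refine ⟨g ^ (m + 1) ^ t, ?_, ?_⟩
  · rw [QuotientGroup.mk_pow, ← pow_mod_orderOf]
    have h1 : (m + 1) ^ t % m = 1 % m := by
      rw [Nat.pow_mod, Nat.add_mod_left, ← Nat.pow_mod, one_pow]
    rw [h1, pow_mod_orderOf, pow_one]
  · refine Odd.of_dvd_nat (Nat.odd_iff.2 (Nat.two_dvd_ne_zero.1 hn)) (orderOf_dvd_of_pow_eq_one ?_)
    rw [show m + 1 = 2 * (j + 1) by omega, mul_pow, ← pow_mul,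
      show 2 ^ t * (j + 1) ^ t * n = orderOf g * (j + 1) ^ t by rw [hgn]; ring,
      pow_mul, pow_orderOf_eq_one, one_pow]

/-- The module generated by elements fixed by a Sylow 2-subgroup is big. -/
theorem big_of_central (hs : Group.IsSolvable G) (hS4 : ¬ Involves (Equiv.Perm (Fin 4)) G)
    (S : Sylow 2 G) {V : Subgroup G} [V.Normal] (hV : IsElementaryAbelian 2 V) (Z : Set G)
    (hZV : ∀ z ∈ Z, z ∈ V) (hZ : ∀ z ∈ Z, ∀ s ∈ (S : Subgroup G), s * z = z * s)
    (hgen : ∀ D : Subgroup G, (∀ g : G, ∀ z ∈ Z, g * z * g⁻¹ ∈ D) → V ≤ D) :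
    Big (S : Subgroup G) V := by
  haveI : Fact (Nat.Prime 2) := ⟨Nat.prime_two⟩
  set C := Subgroup.centralizer (V : Set G) with hC
  haveI : C.Normal := by rw [hC]; infer_instance
  set mk := QuotientGroup.mk' C with hmk
  have hfix : ∀ g ∈ C, ∀ v ∈ V, g * v * g⁻¹ = v := fun g hg v hv => by
    rw [← Subgroup.mem_centralizer_iff.1 hg v hv, mul_inv_cancel_right]
  have hker : mk.ker = C := QuotientGroup.ker_mk' C
  have hC0 : pCore 2 (G ⧸ C) = ⊥ := by
    set P := (pCore 2 (G ⧸ C)).comap mk with hP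
    haveI : (pCore 2 (G ⧸ C)).Normal := pCore_normal 2
    haveI hPn : P.Normal := Subgroup.Normal.comap inferInstance mk
    set T := (S : Subgroup G) ⊓ P with hT
    have hTP : Fusion.SylIn 2 T P :=
      (Fusion.sylIn_top S).inf_normal le_top (by rw [Subgroup.normalizer_eq_top])
    have hPle : P ≤ T ⊔ C := by
      intro p hp
      have h1 : mk p ∈ (S : Subgroup G).map mk := by
        have h := Fusion.pCore_le_sylow
          (Sylow.mapSurjective (QuotientGroup.mk'_surjective C) S) hp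
        exact h
      obtain ⟨s, hs, he⟩ := h1
      have hc : s⁻¹ * p ∈ C := by
        rw [← hker, MonoidHom.mem_ker, map_mul, map_inv, he, inv_mul_cancel]
      have hsP : s ∈ P := by
        show mk s ∈ pCore 2 (G ⧸ C)
        rw [he]; exact hp
      have h2 := Subgroup.mul_mem_sup (show s ∈ T from ⟨hs, hsP⟩) hc
      rwa [mul_inv_cancel_left] at h2
    have hVT : V ≤ Subgroup.centralizer (T : Set G) := by
      refine hgen _ fun g z hz => ?_
      obtain ⟨n, hn, hng⟩ := Fusion.frattini_conj hTP (H := ⊤)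
        (by rw [Subgroup.normalizer_eq_top]) (Subgroup.mem_top g)
      set m := n * g with hm
      set y := m * z * m⁻¹ with hy
      have hyV : y ∈ V := Subgroup.Normal.conj_mem inferInstance z (hZV z hz) m
      have hyT : T ≤ Subgroup.centralizer ({y} : Set G) := fun t ht => by
        rw [Subgroup.mem_centralizer_singleton_iff]
        have h1 : m⁻¹ * t * m ∈ T := by
          have := conj_mem_of_mem_normalizer (Subgroup.inv_mem _ hng) ht
          rwa [inv_inv] at this
        have h2 := hZ z hz _ h1.1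
        calc t * y = m * ((m⁻¹ * t * m) * z) * m⁻¹ := by rw [hy]; group
          _ = m * (z * (m⁻¹ * t * m)) * m⁻¹ := by rw [h2]
          _ = y * t := by rw [hy]; group
      have hyC : C ≤ Subgroup.centralizer ({y} : Set G) := fun c hc => by
        rw [Subgroup.mem_centralizer_singleton_iff]
        exact (Subgroup.mem_centralizer_iff.1 hc y hyV).symm
      have hny : n⁻¹ * y = y * n⁻¹ := Subgroup.mem_centralizer_singleton_iff.1
        (sup_le hyT hyC (hPle (P.inv_mem hn)))
      have he : g * z * g⁻¹ = y := by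
        calc g * z * g⁻¹ = n⁻¹ * y * n := by rw [hy, hm]; group
          _ = y := by rw [hny, inv_mul_cancel_right]
      rw [he, Subgroup.mem_centralizer_iff]
      exact fun t ht => Subgroup.mem_centralizer_singleton_iff.1 (hyT ht)
    have hPC : P ≤ C := hPle.trans (sup_le (Subgroup.le_centralizer_iff.1 hVT) le_rfl)
    rw [eq_bot_iff]
    intro x hx
    obtain ⟨p, rfl⟩ := QuotientGroup.mk'_surjective C x
    rw [Subgroup.mem_bot, ← MonoidHom.mem_ker, hker]
    exact hPC hx
  have hsC : Group.IsSolvable (G ⧸ C) :=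
    Group.isSolvable_of_surjective (QuotientGroup.mk'_surjective C)
  intro R
  induction hn : Nat.card R using Nat.strong_induction_on generalizing R with
  | _ n ih =>
  subst hn
  intro hRS hsq
  by_cases hRC : R ≤ C
  · rw [inf_eq_left.2 (Subgroup.le_centralizer_iff.1 hRC), inf_eq_left.2 hRC, mul_comm]
  set E := R.map mk with hE
  have hEsq : ∀ e ∈ E, e * e ∈ (⊥ : Subgroup (G ⧸ C)) := by
    rintro _ ⟨x, hx, rfl⟩
    rw [← map_mul, Subgroup.mem_bot, ← MonoidHom.mem_ker, hker]
    exact hsq x hx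
  have hEne : ¬ E ≤ ⊥ := fun h => hRC fun x hx => by
    rw [← hker, MonoidHom.mem_ker]
    exact h ⟨x, hx, rfl⟩
  obtain ⟨E0, a', r', -, hE0E, hcardE, ha'E, hr'o, hr'1, har', hbr'⟩ :=
    Cfsg.Agent.SFour.exists_hyperplane hsC ⊥ hC0.symm E bot_le hEsq hEne
  obtain ⟨a, haR, rfl⟩ := ha'E
  obtain ⟨r, rfl, hro⟩ := exists_odd_lift' C r' hr'o
  set B := R ⊓ E0.comap mk with hB
  have hBmap : B.map mk = E0 := le_antisymm (by rintro _ ⟨x, hx, rfl⟩; exact hx.2) fun z hz => by
    obtain ⟨x, hx, rfl⟩ := hE0E hz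
    exact ⟨x, ⟨hx, hz⟩, rfl⟩
  have hBC : mk.ker ⊓ B = mk.ker ⊓ R := by
    refine le_antisymm (inf_le_inf_left _ inf_le_left) fun x hx => ⟨hx.1, hx.2, ?_⟩
    show mk x ∈ E0
    rw [MonoidHom.mem_ker.1 hx.1]
    exact E0.one_mem
  have hcardB : Nat.card R ≤ 2 * Nat.card B := by
    rw [Cfsg.Agent.SFour.card_eq_inf_ker_mul mk R, Cfsg.Agent.SFour.card_eq_inf_ker_mul mk B,
      hBmap, hBC]
    calc Nat.card (mk.ker ⊓ R : Subgroup G) * Nat.card E
        ≤ Nat.card (mk.ker ⊓ R : Subgroup G) * (2 * Nat.card E0) := Nat.mul_le_mul_left _ hcardE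
      _ = _ := by ring
  have hrC : ¬ r ∈ C := fun h => hr'1 (Subgroup.mem_bot.2 ((QuotientGroup.eq_one_iff r).2 h))
  have hmem : ∀ x : G, mk x = 1 → x ∈ C := fun x hx => by rwa [← hker]
  have har : a * r * a⁻¹ * r ∈ C := hmem _ (by
    rw [map_mul, map_mul, map_mul, map_inv]; exact Subgroup.mem_bot.1 har')
  have hbr : ∀ b ∈ B, Commute (mk b) (mk r) := fun b hb =>
    commutatorElement_eq_one_iff_mul_comm.1 (Subgroup.mem_bot.1 (hbr' (mk b) hb.2))
  have hab : ∀ b ∈ B, Commute (mk b) (mk a) := fun b hb => by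
    have h := fun x (hx : x ∈ R) => Subgroup.mem_bot.1 (hEsq _ ⟨x, hx, rfl⟩)
    have h1 := h _ (R.mul_mem hb.1 haR)
    rw [map_mul] at h1
    calc mk b * mk a = (mk b * mk a) * ((mk a * mk a) : G ⧸ C) := by rw [h a haR, mul_one]
      _ = (mk b * mk a) * (mk a * ((mk b * mk b) * mk a)) := by rw [h b hb.1, one_mul]
      _ = ((mk b * mk a) * (mk a * mk b)) * (mk b * mk a) := by group
      _ = mk a * mk b := by
        rw [show mk b * mk a * (mk a * mk b) = mk b * (mk a * mk a) * mk b by group, h a haR,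
          mul_one, h b hb.1, one_mul, ← inv_inv (mk b * mk a), inv_eq_of_mul_eq_one_right h1]
        rw [mul_inv_rev, inv_eq_of_mul_eq_one_right (h b hb.1),
          inv_eq_of_mul_eq_one_right (h a haR)]
  have hcomm : ∀ g h : G, Commute (mk h) (mk g) → ∀ v ∈ V,
      g * (h * v * h⁻¹) * g⁻¹ = h * (g * v * g⁻¹) * h⁻¹ := fun g h hgh v hv => by
    have hc : h⁻¹ * g⁻¹ * h * g ∈ C := hmem _ (by
      rw [map_mul, map_mul, map_mul, map_inv, map_inv, mul_assoc, hgh.eq]
      group)
    have h1 := hfix _ hc v hv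
    calc g * (h * v * h⁻¹) * g⁻¹
        = g * h * ((h⁻¹ * g⁻¹ * h * g) * v * (h⁻¹ * g⁻¹ * h * g)⁻¹) * h⁻¹ * g⁻¹ := by
          rw [h1]; group
      _ = h * (g * v * g⁻¹) * h⁻¹ := by group
  set W := V ⊓ Subgroup.centralizer (B : Set G) with hW
  have hWe : IsElementaryAbelian 2 W := Local.elemAb_mono hV inf_le_left
  have hnorm : ∀ g : G, (∀ b ∈ B, Commute (mk b) (mk g)) →
      g ∈ Subgroup.normalizer (W : Set G) := fun g hg =>
    Cfsg.Agent.SFour.mem_normalizer_of_forall fun w hw =>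
      ⟨Subgroup.Normal.conj_mem inferInstance w hw.1 g, Subgroup.mem_centralizer_iff.2 fun b hb => by
        have h1 := hcomm g b (hg b hb) w hw.1
        have h2 : b * w * b⁻¹ = w := by
          rw [Subgroup.mem_centralizer_iff.1 hw.2 b hb, mul_inv_cancel_right]
        rw [h2] at h1
        exact (mul_inv_eq_iff_eq_mul.1 h1.symm)⟩
  have hrW : r ∈ Subgroup.normalizer (W : Set G) := hnorm r hbr
  have haW : a ∈ Subgroup.normalizer (W : Set G) := hnorm a hab
  have hne : ∃ w ∈ W, r * w * r⁻¹ ≠ w := by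
    by_contra hno
    simp only [not_exists, not_and, not_not, ne_eq] at hno
    obtain ⟨v, hv, hvr⟩ : ∃ v ∈ V, r * v * r⁻¹ ≠ v := by
      by_contra h
      simp only [not_exists, not_and, not_not, ne_eq] at h
      exact hrC (Subgroup.mem_centralizer_iff.2 fun v hv =>
        (mul_inv_eq_iff_eq_mul.1 (h v hv)).symm)
    have hrV : r ∈ Subgroup.normalizer (V : Set G) := by
      rw [Subgroup.normalizer_eq_top]; trivial
    obtain ⟨e, he, he1, heB⟩ := exists_fixed_ne
      ((Local.elemAb_isPGroup hV).to_le (deltaSub_le hV hrV))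
      (S.2.to_le (inf_le_left.trans hRS) : IsPGroup 2 B)
      (fun b hb => mem_normalizer_deltaSub_of_commute hV hrV
        (by rw [Subgroup.normalizer_eq_top]; trivial)
        fun x hx => hcomm b r (hbr b hb).symm x hx)
      (deltaSub_ne_bot hV hrV hv hvr)
    exact he1 (deltaSub_fixed hV hrV hro he
      (hno e ⟨deltaSub_le hV hrV he, Subgroup.mem_centralizer_iff.2 heB⟩))
  have haa : ∀ v ∈ W, a * (a * v * a⁻¹) * a⁻¹ = v := fun v hv => by
    calc a * (a * v * a⁻¹) * a⁻¹ = (a * a) * v * (a * a)⁻¹ := by group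
      _ = v := hfix _ (hsq a haR) v hv.1
  have hra : ∀ v ∈ W, r * (a * (r * v * r⁻¹) * a⁻¹) * r⁻¹ = a * v * a⁻¹ := fun v hv => by
    calc r * (a * (r * v * r⁻¹) * a⁻¹) * r⁻¹
        = (r * (a * r * a⁻¹ * r) * r⁻¹) * (a * v * a⁻¹) * (r * (a * r * a⁻¹ * r) * r⁻¹)⁻¹ := by
          group
      _ = _ := hfix _ (Subgroup.Normal.conj_mem inferInstance _ har r) _
          (Subgroup.Normal.conj_mem inferInstance v hv.1 a)
  have h4 := four_mul_card_fixed_le hS4 hWe hrW haW hro haa hra hne
  have hsub : V ⊓ Subgroup.centralizer (R : Set G) ≤ W ⊓ Subgroup.centralizer ({a} : Set G) :=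
    fun x hx => ⟨⟨hx.1, Subgroup.centralizer_le (SetLike.coe_subset_coe.2 inf_le_left) hx.2⟩,
      Subgroup.mem_centralizer_singleton_iff.2 (Subgroup.mem_centralizer_iff.1 hx.2 a haR).symm⟩
  have haB : a ∉ B := fun h => by
    have hc := (hbr a h).eq
    have h2 : mk r * mk r = 1 := by
      have := Subgroup.mem_bot.1 har'
      change mk a * mk r * (mk a)⁻¹ * mk r = 1 at this
      rwa [hc, mul_inv_cancel_right] at this
    exact hr'1 (Subgroup.mem_bot.2
      (Cfsg.Agent.SFour.odd_of_eq_one hr'o (by rw [pow_two]; exact h2)))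
  have hlt : Nat.card B < Nat.card R := by
    refine lt_of_le_of_ne (Subgroup.card_le_of_le inf_le_left) fun h => haB ?_
    have e := Subgroup.eq_of_le_of_card_ge (inf_le_left : B ≤ R) h.ge
    exact e.ge haR
  have hih := ih _ hlt B rfl (inf_le_left.trans hRS) fun x hx => hsq x hx.1
  calc Nat.card R ^ 2 * Nat.card (V ⊓ Subgroup.centralizer (R : Set G) : Subgroup G)
      ≤ (2 * Nat.card B) ^ 2 * Nat.card (W ⊓ Subgroup.centralizer ({a} : Set G) : Subgroup G) :=
        Nat.mul_le_mul (Nat.pow_le_pow_left hcardB 2) (Subgroup.card_le_of_le hsub)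
    _ = Nat.card B ^ 2 *
        (4 * Nat.card (W ⊓ Subgroup.centralizer ({a} : Set G) : Subgroup G)) := by ring
    _ ≤ Nat.card B ^ 2 * Nat.card W := Nat.mul_le_mul_left _ h4
    _ ≤ Nat.card V * Nat.card (B ⊓ C : Subgroup G) ^ 2 := hih
    _ ≤ Nat.card V * Nat.card (R ⊓ C : Subgroup G) ^ 2 :=
        Nat.mul_le_mul_left _ (Nat.pow_le_pow_left
          (Subgroup.card_le_of_le (inf_le_inf_right _ inf_le_left)) 2)

end Cfsg.Agent.Solv.SFour
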