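import Cfsg.Agent.Lib.Lead.FpfFour
import Mathlib.GroupTheory.Sylow
import Mathlib.GroupTheory.NoncommCoprod
import Mathlib.RingTheory.Coprime.Lemmas

/-!
# A group with a fixed-point-free automorphism of order four is solvable

The Gorenstein–Herstein Theorem, by a counting argument: an element inverted by the square `τ` of the
automorphism `σ` commutes with its image under `σ`, so it lies in an invariant abelian subgroup; hence
the inverted `q`-elements all lie in the unique invariant Sylow `q`-subgroup, and counting shows that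
those belonging to distinct primes commute.
-/

set_option autoImplicit false
set_option linter.style.haveILetI false
set_option linter.unusedSectionVars false

namespace Cfsg.Agent.Solv.FpfFourSolvable

open Cfsg.Agent.Lead.FpfFour

universe u

variable {M : Type u} [Group M] [Finite M] {σ : MulAut M}

/-- The telescoping identity. -/
theorem tele (h : Fpf σ) (h4 : σ ^ 4 = 1) (x : M) : x * σ x * σ (σ x) * σ (σ (σ x)) = 1 := by
  obtain ⟨y, hy⟩ := h.bijective.2 x
  have hy' : y⁻¹ * σ y = x := hy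
  rw [← hy']
  simp only [map_mul, map_inv, iterate_four h4]
  group

/-- An inverted element commutes with its image. -/
theorem inverted_commute (h : Fpf σ) (h4 : σ ^ 4 = 1) {x : M} (hx : σ (σ x) = x⁻¹) :
    Commute x (σ x) := by
  have h1 := tele h h4 x
  rw [hx, map_inv] at h1
  show x * σ x = σ x * x
  calc x * σ x = (x * σ x * x⁻¹ * (σ x)⁻¹) * (σ x * x) := by group
    _ = σ x * x := by rw [h1, one_mul]

variable (σ) in
/-- The set of elements inverted by the square. -/
def inverted : Set M := {x | σ (σ x) = x⁻¹}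

theorem inverted_pow {x : M} (hx : x ∈ inverted σ) (n : ℕ) : x ^ n ∈ inverted σ := by
  show σ (σ (x ^ n)) = (x ^ n)⁻¹
  rw [map_pow, map_pow, show σ (σ x) = x⁻¹ from hx, inv_pow]

variable (σ) in
/-- The fixed points of the square. -/
def fixedSq : Subgroup M where
  carrier := {x | σ (σ x) = x}
  one_mem' := by simp
  mul_mem' := fun {a b} (ha : σ (σ a) = a) (hb : σ (σ b) = b) => by
    show σ (σ (a * b)) = a * b
    rw [map_mul, map_mul, ha, hb]
  inv_mem' := fun {a} (ha : σ (σ a) = a) => by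
    show σ (σ a⁻¹) = a⁻¹
    rw [map_inv, map_inv, ha]

theorem fixedSq_comm (h : Fpf σ) {a b : M} (ha : a ∈ fixedSq σ) (hb : b ∈ fixedSq σ) :
    Commute a b := by
  have hab := h.inverted_of_fixed_square ((fixedSq σ).mul_mem ha hb)
  rw [map_mul, h.inverted_of_fixed_square ha, h.inverted_of_fixed_square hb, mul_inv_rev] at hab
  exact (Commute.inv_inv_iff.1 hab)

theorem fixedSq_inv (h : Fpf σ) {a : M} (ha : a ∈ fixedSq σ) : σ a ∈ fixedSq σ := by
  rw [h.inverted_of_fixed_square ha]
  exact (fixedSq σ).inv_mem ha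

/-- Conjugation by a fixed point of the square preserves the inverted elements. -/
theorem conj_inverted {a x : M} (ha : a ∈ fixedSq σ) (hx : x ∈ inverted σ) :
    a * x * a⁻¹ ∈ inverted σ := by
  show σ (σ (a * x * a⁻¹)) = (a * x * a⁻¹)⁻¹
  simp only [map_mul, map_inv, show σ (σ a) = a from ha, show σ (σ x) = x⁻¹ from hx]
  group

theorem conj_pow' {x : M} (hx : σ (σ x) = x⁻¹) (n : ℕ) : σ (σ (x ^ n)) = (x ^ n)⁻¹ := inverted_pow hx n

theorem mem_conj_sylow {q : ℕ} {Q : Sylow q M} {y z : M} :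
    z ∈ ((y • Q : Sylow q M) : Subgroup M) ↔ y⁻¹ * z * y ∈ (Q : Subgroup M) := by
  rw [Sylow.coe_subgroup_smul, Subgroup.mem_pointwise_smul_iff_inv_smul_mem, ← map_inv,
    MulAut.smul_def, MulAut.conj_apply, inv_inv]

/-- An invariant Sylow subgroup. -/
theorem exists_inv_sylow (h : Fpf σ) (q : ℕ) [Fact q.Prime] :
    ∃ Q : Sylow q M, ∀ a ∈ (Q : Subgroup M), σ a ∈ (Q : Subgroup M) := by
  obtain ⟨Q⟩ : Nonempty (Sylow q M) := inferInstance
  let Q' : Sylow q M := Q.mapSurjective (f := σ.toMonoidHom) σ.surjective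
  obtain ⟨k, hk⟩ := MulAction.exists_smul_eq M Q Q'
  obtain ⟨y, hy⟩ := h.bijective.2 k⁻¹
  have hy' : y⁻¹ * σ y = k⁻¹ := hy
  refine ⟨y • Q, fun a ha => mem_conj_sylow.2 ?_⟩
  have hval : σ (y⁻¹ * a * y) ∈ (Q' : Subgroup M) :=
    Subgroup.mem_map_of_mem σ.toMonoidHom (mem_conj_sylow.1 ha)
  rw [← hk] at hval
  have hval := mem_conj_sylow.1 hval
  have hk' : σ y = y * k⁻¹ := by rw [← hy', mul_inv_cancel_left]
  rw [map_mul, map_mul, map_inv, hk'] at hval
  convert hval using 1
  group

/-- An invariant `q`-subgroup lies in every invariant Sylow subgroup. -/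
theorem le_inv_sylow (h : Fpf σ) {q : ℕ} [Fact q.Prime] (Q : Sylow q M)
    (hQ : ∀ a ∈ (Q : Subgroup M), σ a ∈ (Q : Subgroup M)) {R : Subgroup M} (hR : IsPGroup q R)
    (hRσ : ∀ a ∈ R, σ a ∈ R) : R ≤ (Q : Subgroup M) := by
  obtain ⟨S, ⟨hRS, hS, hSσ⟩, hSmax⟩ := Set.Finite.exists_maximal (s := {S : Subgroup M |
    R ≤ S ∧ IsPGroup q S ∧ ∀ a ∈ S, σ a ∈ S}) (Set.toFinite _) ⟨R, le_rfl, hR, hRσ⟩
  obtain ⟨T, hST⟩ := hS.exists_le_sylow
  -- the normaliser of `S` in `M` contains no larger `q`-subgroup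
  have hST' : S = (T : Subgroup M) := by
    by_contra hne
    set N : Subgroup M := Subgroup.normalizer (S : Set M) with hN
    have hNσ : ∀ a ∈ N, σ a ∈ N := fun a ha => by
      rw [hN, Subgroup.mem_normalizer_iff] at ha ⊢
      intro s
      obtain ⟨s', rfl⟩ := σ.surjective s
      have hiff : ∀ z, σ z ∈ S ↔ z ∈ S := fun z => by
        refine ⟨fun hz => ?_, hSσ z⟩
        have he := map_eq_of_invariant σ S hSσ
        rw [← he] at hz
        obtain ⟨w, hw, hwz⟩ := hz
        exact (σ.injective hwz) ▸ hw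
      rw [← map_inv, ← map_mul, ← map_mul, hiff, hiff]
      exact ha s'
    obtain ⟨U, hU⟩ := exists_inv_sylow (restrict_fpf h N hNσ) q
    set U' : Subgroup M := (U : Subgroup N).map N.subtype with hU'
    have hSN : S ≤ N := Subgroup.le_normalizer
    have hSU : S ≤ U' := by
      intro s hs
      haveI hn : (S.subgroupOf N).Normal := Subgroup.normal_in_normalizer
      have hp : IsPGroup q (S.subgroupOf N) := hS.of_injective
        (Subgroup.subgroupOfEquivOfLe hSN).toMonoidHom (Subgroup.subgroupOfEquivOfLe hSN).injective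
      exact ⟨⟨s, hSN hs⟩, hp.le_sylow_of_normal U hs, rfl⟩
    have hU'σ : ∀ a ∈ U', σ a ∈ U' := by
      rintro _ ⟨a, ha, rfl⟩
      exact ⟨restrict σ N hNσ a, hU a ha, rfl⟩
    have heq : S = U' := le_antisymm hSU (hSmax ⟨hRS.trans hSU, U.isPGroup'.map _, hU'σ⟩ hSU)
    -- `S` is a proper subgroup of `T`, so it is properly contained in its normaliser in `T`
    haveI : Group.IsNilpotent (T : Subgroup M) := T.isPGroup'.isNilpotent
    have hlt : S.subgroupOf (T : Subgroup M) < ⊤ := lt_top_iff_ne_top.2 fun e =>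
      hne (le_antisymm hST (Subgroup.subgroupOf_eq_top.1 e))
    have hnc := Group.normalizerCondition_of_isNilpotent (G := (T : Subgroup M)) _ hlt
    obtain ⟨t, ht, hts⟩ := SetLike.exists_of_lt hnc
    have htN : (t : M) ∈ N := by
      rw [hN, Subgroup.mem_normalizer_iff]
      intro s
      constructor
      · intro hs
        exact ((Subgroup.mem_normalizer_iff.1 ht) ⟨s, hST hs⟩).1 hs
      · intro hs
        have hsT : s ∈ (T : Subgroup M) := by
          have := (T : Subgroup M).mul_mem ((T : Subgroup M).mul_mem ((T : Subgroup M).inv_mem t.2)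
            (hST hs)) t.2
          simpa [mul_assoc] using this
        exact ((Subgroup.mem_normalizer_iff.1 ht) ⟨s, hsT⟩).2 hs
    have hV : IsPGroup q (((T : Subgroup M) ⊓ N).subgroupOf N) :=
      (T.isPGroup'.to_le inf_le_left).of_injective
        (Subgroup.subgroupOfEquivOfLe (inf_le_right : (T : Subgroup M) ⊓ N ≤ N)).toMonoidHom
        (Subgroup.subgroupOfEquivOfLe (inf_le_right : (T : Subgroup M) ⊓ N ≤ N)).injective
    obtain ⟨V, hVle⟩ := hV.exists_le_sylow
    have hVU : Nat.card V = Nat.card U := Nat.card_congr (Sylow.equiv V U).toEquiv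
    have hge : ((T : Subgroup M) ⊓ N).subgroupOf N = S.subgroupOf N := by
      refine (Subgroup.eq_of_le_of_card_ge (fun z hz => ?_) ?_).symm
      · exact ⟨hST hz, z.2⟩
      · refine (Subgroup.card_le_of_le hVle).trans (hVU.trans_le ?_)
        rw [Nat.card_congr (Subgroup.subgroupOfEquivOfLe hSN).toEquiv]
        have h1 : Nat.card U' = Nat.card (U : Subgroup N) :=
          Nat.card_congr ((U : Subgroup N).equivMapOfInjective _ N.subtype_injective).toEquiv.symm
        rw [heq, h1]
    have : (⟨(t : M), htN⟩ : N) ∈ S.subgroupOf N := hge ▸ (⟨t.2, htN⟩ : (t : M) ∈ (T : Subgroup M) ⊓ N)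
    exact hts this
  -- so `S` is an invariant Sylow subgroup, hence equal to `Q`
  obtain ⟨y, hy⟩ := MulAction.exists_smul_eq M Q T
  have hTσ : ∀ a ∈ (T : Subgroup M), σ a ∈ (T : Subgroup M) := hST' ▸ hSσ
  have hmem : ∀ z, z ∈ (Q : Subgroup M) → y * z * y⁻¹ ∈ (T : Subgroup M) := fun z hz => by
    rw [← hy]
    exact mem_conj_sylow.2 (by simpa [mul_assoc] using hz)
  have hmem' : ∀ z, z ∈ (T : Subgroup M) → y⁻¹ * z * y ∈ (Q : Subgroup M) := fun z hz => by
    rw [← hy] at hz
    exact mem_conj_sylow.1 hz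
  set N : Subgroup M := Subgroup.normalizer ((Q : Subgroup M) : Set M) with hN
  have hNσ : ∀ a ∈ N, σ a ∈ N := fun a ha => by
    rw [hN, Subgroup.mem_normalizer_iff] at ha ⊢
    intro s
    obtain ⟨s', rfl⟩ := σ.surjective s
    have hiff : ∀ z, σ z ∈ (Q : Subgroup M) ↔ z ∈ (Q : Subgroup M) := fun z => by
      refine ⟨fun hz => ?_, hQ z⟩
      have he := map_eq_of_invariant σ _ hQ
      rw [← he] at hz
      obtain ⟨w, hw, hwz⟩ := hz
      exact (σ.injective hwz) ▸ hw
    rw [← map_inv, ← map_mul, ← map_mul, hiff, hiff]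
    exact ha s'
  have hy1 : y⁻¹ * σ y ∈ N := by
    rw [hN, Subgroup.mem_normalizer_iff]
    have hfw : ∀ s ∈ (Q : Subgroup M), (y⁻¹ * σ y) * s * (y⁻¹ * σ y)⁻¹ ∈ (Q : Subgroup M) := by
      intro s hs
      obtain ⟨s', hs', rfl⟩ : ∃ s' ∈ (Q : Subgroup M), σ s' = s := by
        have he := map_eq_of_invariant σ _ hQ
        rw [← he] at hs
        exact hs
      have := hmem' _ (hTσ _ (hmem s' hs'))
      convert this using 1
      simp only [map_mul, map_inv, mul_inv_rev, inv_inv]
      group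
    intro s
    refine ⟨hfw s, fun hs => ?_⟩
    have hE : (Q : Subgroup M).map (MulAut.conj (y⁻¹ * σ y)).toMonoidHom = (Q : Subgroup M) :=
      Subgroup.eq_of_le_of_card_ge (by rintro _ ⟨a, ha, rfl⟩; exact hfw a ha)
        (Subgroup.card_map_of_injective (MulAut.conj (y⁻¹ * σ y)).injective).ge
    rw [← hE] at hs
    obtain ⟨a, ha, hae⟩ := hs
    have hae' : (y⁻¹ * σ y) * a * (y⁻¹ * σ y)⁻¹ = (y⁻¹ * σ y) * s * (y⁻¹ * σ y)⁻¹ := hae
    exact mul_left_cancel (mul_right_cancel hae') ▸ ha
  obtain ⟨n, hn⟩ := (restrict_fpf h N hNσ).bijective.2 ⟨y⁻¹ * σ y, hy1⟩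
  have hn' : (n : M)⁻¹ * σ n = y⁻¹ * σ y := congrArg Subtype.val hn
  have hyn : (n : M) = y := h.bijective.1 hn'
  intro z hz
  have hzT : z ∈ (T : Subgroup M) := hST ((hRS : R ≤ S) hz)
  have := hmem' z hzT
  have hnn := Subgroup.mem_normalizer_iff.1 (show (n : M) ∈ Subgroup.normalizer ((Q : Subgroup M) : Set M) from n.2)
  rw [← hyn] at this
  have h2 := (hnn _).1 this
  simpa [mul_assoc] using h2

/-- Every element has an inverted displacement, and all inverted elements arise. -/
theorem card_inverted (h : Fpf σ) (h4 : σ ^ 4 = 1) (H : Subgroup M) (hH : ∀ a ∈ H, σ a ∈ H) :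
    Nat.card ↥(H ⊓ fixedSq σ) * Nat.card {x : M // x ∈ inverted σ ∧ x ∈ H} = Nat.card H := by
  have hodd : Odd (Nat.card M) := h.odd h4
  set A : Subgroup H := (fixedSq σ).subgroupOf H with hA
  have hf : ∀ y : H, (σ (σ (y : M)) * (y : M)⁻¹) ∈ inverted σ ∧ (σ (σ (y : M)) * (y : M)⁻¹) ∈ H := by
    intro y
    refine ⟨?_, H.mul_mem (hH _ (hH _ y.2)) (H.inv_mem y.2)⟩
    show σ (σ (σ (σ (y : M)) * (y : M)⁻¹)) = (σ (σ (y : M)) * (y : M)⁻¹)⁻¹
    rw [map_mul, map_mul, map_inv, map_inv, iterate_four h4, mul_inv_rev, inv_inv]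
  have hfib : ∀ y z : H, σ (σ (y : M)) * (y : M)⁻¹ = σ (σ (z : M)) * (z : M)⁻¹ ↔ y⁻¹ * z ∈ A := by
    intro y z
    rw [hA, Subgroup.mem_subgroupOf]
    show _ ↔ σ (σ ((y : M)⁻¹ * z)) = (y : M)⁻¹ * z
    rw [map_mul, map_mul, map_inv, map_inv]
    constructor
    · intro e
      calc (σ (σ (y : M)))⁻¹ * σ (σ (z : M))
          = (σ (σ (y : M)))⁻¹ * (σ (σ (z : M)) * (z : M)⁻¹) * z := by group
        _ = (σ (σ (y : M)))⁻¹ * (σ (σ (y : M)) * (y : M)⁻¹) * z := by rw [← e]
        _ = (y : M)⁻¹ * z := by group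
    · intro e
      calc σ (σ (y : M)) * (y : M)⁻¹ = σ (σ (y : M)) * ((y : M)⁻¹ * z) * (z : M)⁻¹ := by group
        _ = σ (σ (y : M)) * ((σ (σ (y : M)))⁻¹ * σ (σ (z : M))) * (z : M)⁻¹ := by rw [e]
        _ = σ (σ (z : M)) * (z : M)⁻¹ := by group
  let F : H ⧸ A → {x : M // x ∈ inverted σ ∧ x ∈ H} := Quotient.lift (fun y => ⟨_, hf y⟩)
    (fun y z e => Subtype.ext ((hfib y z).2 (QuotientGroup.leftRel_apply.1 e)))
  have hbij : Function.Bijective F := by
    refine ⟨fun a b => ?_, fun x => ?_⟩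
    · induction a using QuotientGroup.induction_on with | H y =>
      induction b using QuotientGroup.induction_on with | H z =>
      intro e
      exact QuotientGroup.eq.2 ((hfib y z).1 (congrArg Subtype.val e))
    · obtain ⟨x, hx, hxH⟩ := x
      obtain ⟨k, hk⟩ := Odd.of_dvd_nat hodd (orderOf_dvd_natCard x)
      refine ⟨((⟨x, hxH⟩ : H) ^ k : H), Subtype.ext ?_⟩
      show σ (σ ((x : M) ^ k)) * ((x : M) ^ k)⁻¹ = x
      rw [conj_pow' hx k, ← mul_inv_rev, ← pow_add, inv_eq_iff_eq_inv, eq_inv_iff_mul_eq_one,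
        ← pow_succ, show k + k + 1 = orderOf x by omega, pow_orderOf_eq_one]
  have h1 := A.card_mul_index
  rw [Subgroup.index, Nat.card_eq_of_bijective F hbij] at h1
  have h2 : Nat.card A = Nat.card ↥(H ⊓ fixedSq σ) := by
    rw [hA, ← Subgroup.inf_subgroupOf_left,
      Nat.card_congr (Subgroup.subgroupOfEquivOfLe (inf_le_left : H ⊓ fixedSq σ ≤ H)).toEquiv]
  rwa [h2] at h1

/-- The inverted `q`-elements lie in the invariant Sylow subgroup. -/
theorem inverted_mem_sylow (h : Fpf σ) (h4 : σ ^ 4 = 1) {q : ℕ} [Fact q.Prime] (Q : Sylow q M)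
    (hQ : ∀ a ∈ (Q : Subgroup M), σ a ∈ (Q : Subgroup M)) {x : M} (hx : σ (σ x) = x⁻¹)
    {k : ℕ} (hxk : x ^ q ^ k = 1) : x ∈ (Q : Subgroup M) := by
  set R := Subgroup.closure ({x, σ x} : Set M) with hR
  have hcomm : IsMulCommutative R := Subgroup.isMulCommutative_closure (k := ({x, σ x} : Set M)) (by
    rintro a (rfl | rfl) b (rfl | rfl)
    · rfl
    · exact inverted_commute h h4 hx
    · exact (inverted_commute h h4 hx).symm
    · rfl)
  refine le_inv_sylow h Q hQ (R := R) ?_ ?_ (Subgroup.subset_closure (Or.inl rfl))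
  · intro r
    refine ⟨k, Subtype.ext ?_⟩
    rw [Subgroup.coe_pow, Subgroup.coe_one]
    obtain ⟨r, hr⟩ := r
    show r ^ q ^ k = 1
    induction hr using Subgroup.closure_induction with
    | mem z hz =>
      rcases hz with rfl | rfl
      · exact hxk
      · rw [← map_pow, hxk, map_one]
    | one => exact one_pow _
    | mul a b ha hb iha ihb =>
      have : Commute a b := congrArg Subtype.val (mul_comm' (⟨a, ha⟩ : R) ⟨b, hb⟩)
      rw [this.mul_pow, iha, ihb, one_mul]
    | inv a ha iha => rw [inv_pow, iha, inv_one]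
  · intro a ha
    have hle : R.map σ.toMonoidHom ≤ R := by
      rw [hR, MonoidHom.map_closure, Subgroup.closure_le]
      rintro _ ⟨z, rfl | rfl, rfl⟩
      · exact Subgroup.subset_closure (Or.inr rfl)
      · show σ (σ x) ∈ _
        rw [hx]
        exact Subgroup.inv_mem _ (Subgroup.subset_closure (Or.inl rfl))
    exact hle ⟨a, ha, rfl⟩

/-- The component exponent for one prime of the order. -/
theorem exists_component {m : ℕ} (hm : m ≠ 0) (q : ℕ) (hq : q.Prime) :
    ∃ e : ℕ, (e ≡ 1 [MOD q ^ m.factorization q]) ∧ (m / q ^ m.factorization q ∣ e) := by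
  obtain ⟨e, he1, he2⟩ := Nat.chineseRemainder
    ((Nat.coprime_ordCompl hq hm).pow_left (m.factorization q)).symm 0 1
  exact ⟨e, he2, Nat.modEq_zero_iff_dvd.1 he1⟩

variable (M) in
/-- The primes dividing the order. -/
abbrev Idx : Type := {p : ℕ // p ∈ (Nat.card M).primeFactors}

instance (p : Idx M) : Fact (p : ℕ).Prime := ⟨Nat.prime_of_mem_primeFactors p.2⟩

variable (M) in
/-- A chosen component exponent. -/
noncomputable def expo (p : Idx M) : ℕ :=
  (exists_component (m := Nat.card M) Nat.card_pos.ne' (p : ℕ) (Nat.prime_of_mem_primeFactors p.2)).choose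

theorem expo_spec (p : Idx M) : (expo M p ≡ 1 [MOD (p : ℕ) ^ (Nat.card M).factorization p]) ∧
    (Nat.card M / (p : ℕ) ^ (Nat.card M).factorization p ∣ expo M p) :=
  (exists_component (m := Nat.card M) Nat.card_pos.ne' (p : ℕ) (Nat.prime_of_mem_primeFactors p.2)).choose_spec

theorem part_pow (x : M) (p : Idx M) :
    (x ^ expo M p) ^ (p : ℕ) ^ (Nat.card M).factorization p = 1 := by
  obtain ⟨t, ht⟩ := (expo_spec p).2
  rw [← pow_mul, ht, mul_comm, ← mul_assoc, Nat.ordProj_mul_ordCompl_eq_self, pow_mul,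
    pow_card_eq_one', one_pow]

theorem sum_expo_modEq : (∑ p : Idx M, expo M p) ≡ 1 [MOD Nat.card M] := by
  classical
  have hm0 : Nat.card M ≠ 0 := Nat.card_pos.ne'
  have hkey : ∀ p : Idx M, (∑ r : Idx M, expo M r) ≡ 1 [MOD (p : ℕ) ^ (Nat.card M).factorization p] := by
    intro p
    rw [← Finset.sum_erase_add _ _ (Finset.mem_univ p)]
    have h0 : (∑ r ∈ Finset.univ.erase p, expo M r) ≡ 0 [MOD (p : ℕ) ^ (Nat.card M).factorization p] := by
      refine Nat.modEq_zero_iff_dvd.2 (Finset.dvd_sum fun r hr => ?_)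
      have hne : (r : ℕ) ≠ p := fun e => (Finset.mem_erase.1 hr).1 (Subtype.ext e)
      refine (Nat.Coprime.dvd_of_dvd_mul_left (m := (r : ℕ) ^ (Nat.card M).factorization r) ?_ ?_).trans
        (expo_spec r).2
      · exact ((Nat.coprime_primes (Fact.out) (Fact.out)).2 hne.symm).pow _ _
      · rw [Nat.ordProj_mul_ordCompl_eq_self]
        exact Nat.ordProj_dvd _ _
    exact (h0.add (expo_spec p).1).trans (by rw [zero_add])
  have h : ((Nat.card M : ℕ) : ℤ) ∣ ((∑ r : Idx M, expo M r : ℕ) : ℤ) - 1 := by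
    have hprod : ((Nat.card M : ℕ) : ℤ) =
        ∏ p : Idx M, ((((p : ℕ) ^ (Nat.card M).factorization p : ℕ)) : ℤ) := by
      rw [← Nat.cast_prod, Finset.univ_eq_attach,
        Finset.prod_attach (Nat.card M).primeFactors (fun p => p ^ (Nat.card M).factorization p)]
      congr 1
      exact (Nat.prod_factorization_pow_eq_self hm0).symm
    rw [hprod]
    refine Finset.prod_dvd_of_coprime ?_ fun p _ => ?_
    · intro p _ r _ hne
      show IsCoprime _ _
      rw [Nat.isCoprime_iff_coprime]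
      exact ((Nat.coprime_primes (Fact.out) (Fact.out)).2 fun e => hne (Subtype.ext e)).pow _ _
    · exact (Int.modEq_iff_dvd.1 ((Int.natCast_modEq_iff.2 (hkey p)).symm))
  exact (Int.natCast_modEq_iff.1 (Int.modEq_iff_dvd.2 (by simpa using h))).symm

/-- An element is the product of its components. -/
theorem pow_sum_expo (x : M) : x ^ (∑ p : Idx M, expo M p) = x := by
  have := (pow_eq_pow_iff_modEq (x := x)).2 (sum_expo_modEq.of_dvd (orderOf_dvd_natCard x))
  rwa [pow_one] at this

theorem eq_of_parts {x y : M} (hxy : ∀ p : Idx M, x ^ expo M p = y ^ expo M p) : x = y := by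
  classical
  have : ∀ s : Finset (Idx M), x ^ (∑ p ∈ s, expo M p) = y ^ (∑ p ∈ s, expo M p) := by
    intro s
    induction s using Finset.induction_on with
    | empty => simp
    | insert a s ha ih => rw [Finset.sum_insert ha, pow_add, pow_add, ih, hxy a]
  rw [← pow_sum_expo x, ← pow_sum_expo y]
  exact this _

/-- The components can be prescribed arbitrarily, so inverted elements of coprime order commute. -/
theorem inverted_coprime_commute (h : Fpf σ) (h4 : σ ^ 4 = 1) {q r : Idx M} (hqr : q ≠ r)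
    {u v : M} (hu : σ (σ u) = u⁻¹) (hv : σ (σ v) = v⁻¹)
    (huq : ∃ k, u ^ (q : ℕ) ^ k = 1) (hvr : ∃ k, v ^ (r : ℕ) ^ k = 1) : Commute u v := by
  classical
  choose Q hQ using fun p : Idx M => exists_inv_sylow h (p : ℕ)
  let A : Subgroup M := fixedSq σ
  let J := {x : M // x ∈ inverted σ ∧ x ∈ (⊤ : Subgroup M)}
  let K := fun p : Idx M => {x : M // x ∈ inverted σ ∧ x ∈ (Q p : Subgroup M)}
  let L := fun p : Idx M => ↥((Q p : Subgroup M) ⊓ A)
  let F : J → ∀ p : Idx M, K p := fun x p => ⟨(x : M) ^ expo M p, inverted_pow x.2.1 _,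
    inverted_mem_sylow h h4 (Q p) (hQ p) (conj_pow' x.2.1 _) (part_pow (x : M) p)⟩
  have hFinj : Function.Injective F := fun x y hxy =>
    Subtype.ext (eq_of_parts fun p => congrArg Subtype.val (congrFun hxy p))
  have hAmem : ∀ (a : A) (p : Idx M), (a : M) ^ expo M p ∈ (Q p : Subgroup M) ⊓ A := by
    intro a p
    refine ⟨?_, A.pow_mem a.2 _⟩
    refine le_inv_sylow h (Q p) (hQ p) (R := Subgroup.zpowers ((a : M) ^ expo M p)) ?_ ?_
      (Subgroup.mem_zpowers _)
    · obtain ⟨j, -, hj⟩ := (Nat.dvd_prime_pow (Fact.out : (p : ℕ).Prime)).1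
        (orderOf_dvd_of_pow_eq_one (part_pow (a : M) p))
      exact IsPGroup.of_card (n := j) (by rw [Nat.card_zpowers, hj])
    · rintro z ⟨i, rfl⟩
      refine ⟨-i, ?_⟩
      have hi := h.inverted_of_fixed_square (c := ((a : M) ^ expo M p) ^ i)
        (A.zpow_mem (A.pow_mem a.2 _) i)
      show ((a : M) ^ expo M p) ^ (-i) = σ (((a : M) ^ expo M p) ^ i)
      rw [hi, zpow_neg]
  let F' : A → ∀ p : Idx M, L p := fun a p => ⟨(a : M) ^ expo M p, hAmem a p⟩
  have hF'inj : Function.Injective F' := fun x y hxy =>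
    Subtype.ext (eq_of_parts fun p => congrArg Subtype.val (congrFun hxy p))
  have h1 : Nat.card A * Nat.card J = Nat.card M := by
    have := card_inverted h h4 ⊤ (fun _ _ => Subgroup.mem_top _)
    rwa [top_inf_eq, Subgroup.card_top] at this
  have h2 : ∀ p : Idx M, Nat.card (L p) * Nat.card (K p) = (p : ℕ) ^ (Nat.card M).factorization p :=
    fun p => (card_inverted h h4 _ (hQ p)).trans (Q p).card_eq_multiplicity
  have h3 : Nat.card M = (∏ p : Idx M, Nat.card (L p)) * ∏ p : Idx M, Nat.card (K p) := by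
    rw [← Finset.prod_mul_distrib, Finset.prod_congr rfl fun p _ => h2 p, Finset.univ_eq_attach,
      Finset.prod_attach (Nat.card M).primeFactors (fun p => p ^ (Nat.card M).factorization p)]
    exact (Nat.prod_factorization_pow_eq_self Nat.card_pos.ne').symm
  have h4' : Nat.card (∀ p : Idx M, K p) ≤ Nat.card J := by
    have hA := Nat.card_le_card_of_injective F' hF'inj
    rw [Nat.card_pi] at hA ⊢
    refine Nat.le_of_mul_le_mul_left ?_ (Nat.card_pos (α := A))
    rw [h1]
    exact (Nat.mul_le_mul_right _ hA).trans h3.symm.le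
  have hsurj := (hFinj.bijective_of_nat_card_le h4').2
  by_cases hu1 : u = 1
  · subst hu1; exact Commute.one_left v
  by_cases hv1 : v = 1
  · subst hv1; exact Commute.one_right u
  obtain ⟨k, hk⟩ := huq
  obtain ⟨l, hl⟩ := hvr
  have huK : u ∈ inverted σ ∧ u ∈ (Q q : Subgroup M) := ⟨hu, inverted_mem_sylow h h4 _ (hQ q) hu hk⟩
  have hvK : v ∈ inverted σ ∧ v ∈ (Q r : Subgroup M) := ⟨hv, inverted_mem_sylow h h4 _ (hQ r) hv hl⟩
  let g : ∀ p : Idx M, K p := fun p =>
    if hp : p = q then hp ▸ (⟨u, huK⟩ : K q) else if hp' : p = r then hp' ▸ (⟨v, hvK⟩ : K r)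
      else ⟨1, by simp [inverted], Subgroup.one_mem _⟩
  obtain ⟨x, hx⟩ := hsurj g
  have hxu : (x : M) ^ expo M q = u := by
    have := congrArg Subtype.val (congrFun hx q)
    simpa [F, g] using this
  have hxv : (x : M) ^ expo M r = v := by
    have := congrArg Subtype.val (congrFun hx r)
    simpa [F, g, hqr.symm] using this
  rw [← hxu, ← hxv]
  exact (Commute.refl (x : M)).pow_pow _ _

/-- **Gorenstein–Herstein.** -/
theorem isSolvable (h : Fpf σ) (h4 : σ ^ 4 = 1) : Group.IsSolvable M := by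
  classical
  choose Q hQ using fun p : Idx M => exists_inv_sylow h (p : ℕ)
  let J := fun p : Idx M => Subgroup.closure {x : M | x ∈ inverted σ ∧ ∃ k, x ^ (p : ℕ) ^ k = 1}
  have hJQ : ∀ p, J p ≤ (Q p : Subgroup M) := fun p => (Subgroup.closure_le _).2 fun x hx => by
    obtain ⟨hx, k, hk⟩ := hx
    exact inverted_mem_sylow h h4 _ (hQ p) hx hk
  have hJsolv : ∀ p, Group.IsSolvable (J p) := fun p => by
    haveI : Group.IsNilpotent (J p) := ((Q p).isPGroup'.to_le (hJQ p)).isNilpotent
    infer_instance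
  have hJc : ∀ p r, p ≠ r → J p ≤ Subgroup.centralizer (J r : Set M) := by
    intro p r hpr
    rw [Subgroup.centralizer_closure, Subgroup.closure_le]
    intro x hx
    refine Subgroup.mem_centralizer_iff.2 fun y hy => ?_
    exact (inverted_coprime_commute h h4 hpr hx.1 hy.1 hx.2 hy.2).symm
  have hsup : ∀ s : Finset (Idx M), Group.IsSolvable ↥(s.sup J) := by
    intro s
    induction s using Finset.induction_on with
    | empty =>
      rw [Finset.sup_empty]
      infer_instance
    | insert a s ha ih =>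
      rw [Finset.sup_insert]
      haveI := ih
      haveI := hJsolv a
      have hc : ∀ (x : J a) (y : ↥(s.sup J)), Commute ((J a).subtype x) ((s.sup J).subtype y) := fun x y => by
        have hle : s.sup J ≤ Subgroup.centralizer (J a : Set M) :=
          Finset.sup_le fun b hb => hJc b a (fun e => ha (e ▸ hb))
        exact (Subgroup.mem_centralizer_iff.1 (hle y.2) x x.2)
      let f := MonoidHom.noncommCoprod (J a).subtype (s.sup J).subtype hc
      have hr : f.range = J a ⊔ s.sup J := by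
        show (MonoidHom.noncommCoprod (J a).subtype (s.sup J).subtype hc).range = _
        rw [MonoidHom.noncommCoprod_range, Subgroup.range_subtype, Subgroup.range_subtype]
      exact Group.isSolvable_of_surjective (f := (MulEquiv.subgroupCongr hr).toMonoidHom.comp f.rangeRestrict)
        ((MulEquiv.subgroupCongr hr).surjective.comp f.rangeRestrict_surjective)
  set H := Finset.univ.sup J with hH
  haveI := hsup Finset.univ
  have hI : ∀ x ∈ inverted σ, x ∈ H := by
    intro x hx
    rw [← pow_sum_expo x]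
    have : ∀ s : Finset (Idx M), x ^ (∑ p ∈ s, expo M p) ∈ H := by
      intro s
      induction s using Finset.induction_on with
      | empty => simp
      | insert a s ha ih =>
        rw [Finset.sum_insert ha, pow_add]
        refine H.mul_mem ?_ ih
        exact (Finset.le_sup (f := J) (Finset.mem_univ a))
          (Subgroup.subset_closure ⟨inverted_pow hx _, _, part_pow x a⟩)
    exact this _
  have hcl : H = Subgroup.closure (inverted σ) := le_antisymm
    (Finset.sup_le fun p _ => Subgroup.closure_mono fun x hx => hx.1) ((Subgroup.closure_le _).2 hI)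
  -- every element is a product of an element of `H` and a fixed point of the square
  have hgen : ∀ y : M, ∃ a ∈ fixedSq σ, ∃ z ∈ H, y = z * a := by
    intro y
    have hx : σ (σ y) * y⁻¹ ∈ inverted σ := by
      show σ (σ (σ (σ y) * y⁻¹)) = (σ (σ y) * y⁻¹)⁻¹
      rw [map_mul, map_mul, map_inv, map_inv, iterate_four h4, mul_inv_rev, inv_inv]
    set x := σ (σ y) * y⁻¹ with hxdef
    obtain ⟨k, hk⟩ := Odd.of_dvd_nat (h.odd h4) (orderOf_dvd_natCard x)
    refine ⟨(x ^ k)⁻¹ * y, ?_, x ^ k, H.pow_mem (hI x hx) k, (mul_inv_cancel_left _ _).symm⟩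
    show σ (σ ((x ^ k)⁻¹ * y)) = (x ^ k)⁻¹ * y
    rw [map_mul, map_mul, map_inv, map_inv, conj_pow' hx k, inv_inv,
      show σ (σ y) = x * y by rw [hxdef, inv_mul_cancel_right], ← mul_assoc, ← pow_succ]
    congr 1
    rw [eq_inv_iff_mul_eq_one, ← pow_add, show k + 1 + k = orderOf x by omega, pow_orderOf_eq_one]
  haveI : H.Normal := by
    refine ⟨fun z hz y => ?_⟩
    obtain ⟨a, ha, w, hw, rfl⟩ := hgen y
    have hmap : H.map (MulAut.conj a).toMonoidHom ≤ H := by
      rw [hcl, MonoidHom.map_closure, Subgroup.closure_le]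
      rintro _ ⟨x, hx, rfl⟩
      exact Subgroup.subset_closure (conj_inverted ha hx)
    have h1 : a * z * a⁻¹ ∈ H := hmap ⟨z, hz, rfl⟩
    have := H.mul_mem (H.mul_mem hw h1) (H.inv_mem hw)
    simpa [mul_assoc] using this
  haveI : Group.IsSolvable (fixedSq σ) :=
    Group.isSolvable_of_comm fun a b => Subtype.ext (fixedSq_comm h a.2 b.2)
  haveI : Group.IsSolvable (M ⧸ H) := by
    refine Group.isSolvable_of_surjective (f := (QuotientGroup.mk' H).comp (fixedSq σ).subtype) fun y => ?_
    induction y using QuotientGroup.induction_on with | H y =>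
    obtain ⟨a, ha, z, hz, rfl⟩ := hgen y
    refine ⟨⟨a, ha⟩, ?_⟩
    show (a : M ⧸ H) = ((z * a : M) : M ⧸ H)
    rw [QuotientGroup.mk_mul, (QuotientGroup.eq_one_iff z).2 hz, one_mul]
  exact Group.isSolvable_of_ker_le_range H.subtype (QuotientGroup.mk' H)
    (by rw [QuotientGroup.ker_mk', Subgroup.range_subtype])

end Cfsg.Agent.Solv.FpfFourSolvable
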