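import Cfsg.Agent.Lib.Solv.LCS
import Cfsg.Agent.Lib.Solv.GradedLie

/-!
The Lie ring of the lower central series, the action of automorphisms on it, and the class bound
for groups with a fixed-point-free automorphism of prime order.
-/

set_option autoImplicit false
set_option linter.style.haveILetI false
set_option linter.unusedSectionVars false

open scoped commutatorElement DirectSum TensorProduct

namespace Cfsg.Agent.Solv.GrLie

universe u

variable (G : Type u) [Group G]

/-- The lower central series, starting with index zero. -/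
abbrev γ (i : ℕ) : Subgroup G := (⊤ : Subgroup G).lowerCentralSeries i

theorem γ_succ_le (i : ℕ) : γ G (i + 1) ≤ γ G i :=
  (⊤ : Subgroup G).lowerCentralSeries_antitone (Nat.le_succ i)

theorem iterComm_γ (s : ℕ) : ∀ k, iterComm (γ G s) k = γ G (s + k)
  | 0 => rfl
  | k + 1 => by
    show ⁅iterComm (γ G s) k, ⊤⁆ = _
    rw [iterComm_γ s k]; rfl

theorem commutator_γ (s t : ℕ) : ⁅γ G s, γ G t⁆ ≤ γ G (s + t + 1) := by
  refine (commutator_lcs_le_iterComm t (γ G s)).trans ?_
  rw [iterComm_γ, add_assoc]

variable {G}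

theorem comm_mem {s t : ℕ} {g h : G} (hg : g ∈ γ G s) (hh : h ∈ γ G t) :
    ⁅g, h⁆ ∈ γ G (s + t + 1) := commutator_γ G s t (Subgroup.commutator_mem_commutator hg hh)

variable (G)

/-- One section of the lower central series. -/
abbrev Sec (i : ℕ) : Type u := ↥(γ G i) ⧸ (γ G (i + 1)).subgroupOf (γ G i)

instance instCommGroupSec (i : ℕ) : CommGroup (Sec G i) :=
  { (inferInstance : Group (Sec G i)) with
    mul_comm := by
      intro a b
      obtain ⟨x, rfl⟩ := QuotientGroup.mk'_surjective _ a
      obtain ⟨y, rfl⟩ := QuotientGroup.mk'_surjective _ b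
      refine QuotientGroup.eq.2 ?_
      rw [Subgroup.mem_subgroupOf]
      have h := (⊤ : Subgroup G).lowerCentralSeries_antitone (by omega : i + 1 ≤ i + i + 1)
        (comm_mem (inv_mem y.2) (inv_mem x.2))
      rw [commutatorElement_def, inv_inv, inv_inv] at h
      simpa [mul_assoc] using h }

/-- The Lie ring of the lower central series. -/
def Gr : Type u := ⨁ i : ℕ, Additive (Sec G i)

instance : AddCommGroup (Gr G) := inferInstanceAs (AddCommGroup (⨁ i : ℕ, Additive (Sec G i)))

variable {G}

/-- The image of an element of the `i`-th term in degree `i`. -/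
def ι (i : ℕ) (g : G) (hg : g ∈ γ G i) : Gr G :=
  DirectSum.of (fun i => Additive (Sec G i)) i (Additive.ofMul (QuotientGroup.mk (⟨g, hg⟩ : ↥(γ G i))))

theorem ι_mul {i : ℕ} {g h : G} (hg : g ∈ γ G i) (hh : h ∈ γ G i) :
    ι i (g * h) (mul_mem hg hh) = ι i g hg + ι i h hh :=
  map_add (DirectSum.of (fun i => Additive (Sec G i)) i)
    (Additive.ofMul (QuotientGroup.mk (⟨g, hg⟩ : ↥(γ G i))))
    (Additive.ofMul (QuotientGroup.mk (⟨h, hh⟩ : ↥(γ G i))))

theorem ι_eq_zero {i : ℕ} {g : G} (hg : g ∈ γ G i) : ι i g hg = 0 ↔ g ∈ γ G (i + 1) := by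
  refine ⟨fun h => ?_, fun h => ?_⟩
  · have h1 := DirectSum.of_injective (β := fun i => Additive (Sec G i)) i
      (h.trans (map_zero _).symm)
    exact ((QuotientGroup.eq_one_iff _).1 (congrArg Additive.toMul h1) :)
  · show DirectSum.of (fun i => Additive (Sec G i)) i _ = 0
    rw [(QuotientGroup.eq_one_iff (⟨g, hg⟩ : ↥(γ G i))).2 h, ofMul_one, map_zero]

theorem ι_one (i : ℕ) : ι i (1 : G) (one_mem _) = 0 := (ι_eq_zero _).2 (one_mem _)

theorem ι_inv {i : ℕ} {g : G} (hg : g ∈ γ G i) : ι i g⁻¹ (inv_mem hg) = -ι i g hg := by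
  rw [eq_neg_iff_add_eq_zero, ← ι_mul]
  simp only [inv_mul_cancel, ι_one]

theorem ι_congr {i j : ℕ} {g h : G} (hij : i = j) (hgh : g = h) (hg : g ∈ γ G i) (hh : h ∈ γ G j) :
    ι i g hg = ι j h hh := by subst hij hgh; rfl

theorem ι_conj {i : ℕ} (c : G) {g : G} (hg : g ∈ γ G i) :
    ι i (c * g * c⁻¹) (((⊤ : Subgroup G).lowerCentralSeries_normal i).conj_mem g hg c) = ι i g hg := by
  have h1 : ⁅c, g⁆ ∈ γ G (i + 1) := by
    rw [← commutatorElement_inv]
    exact inv_mem (Subgroup.commutator_mem_commutator hg (Subgroup.mem_top c))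
  rw [ι_congr rfl (show c * g * c⁻¹ = ⁅c, g⁆ * g by rw [commutatorElement_def]; group) _
    (mul_mem (γ_succ_le G i h1) hg), ι_mul (γ_succ_le G i h1) hg, (ι_eq_zero _).2 h1, zero_add]

@[elab_as_elim]
theorem induction_on {P : Gr G → Prop} (x : Gr G) (h0 : P 0) (hι : ∀ i g hg, P (ι i g hg))
    (hadd : ∀ a b, P a → P b → P (a + b)) : P x := by
  refine DirectSum.induction_on (motive := P) x h0 (fun i a => ?_) hadd
  obtain ⟨⟨g, hg⟩, hgx⟩ := QuotientGroup.mk'_surjective _ (Additive.toMul a)
  have : a = Additive.ofMul (QuotientGroup.mk (⟨g, hg⟩ : ↥(γ G i))) := congrArg Additive.ofMul hgx.symm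
  rw [this]
  exact hι i g hg

/-- An additive map out of one section. -/
def liftSec {B : Type*} [AddCommGroup B] {i : ℕ} (f : ↥(γ G i) → B) (hmul : ∀ a b, f (a * b) = f a + f b)
    (hker : ∀ a : ↥(γ G i), (a : G) ∈ γ G (i + 1) → f a = 0) : Additive (Sec G i) →+ B :=
  MonoidHom.toAdditiveLeft (QuotientGroup.lift _
    (MonoidHom.mk' (fun a => Multiplicative.ofAdd (f a))
      fun a b => by rw [hmul, ofAdd_add])
    fun a ha => by
      show Multiplicative.ofAdd (f a) = 1
      rw [hker a ha, ofAdd_zero])

theorem liftSec_apply {B : Type*} [AddCommGroup B] {i : ℕ} (f : ↥(γ G i) → B) (hmul hker) (a : ↥(γ G i)) :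
    liftSec f hmul hker (Additive.ofMul (QuotientGroup.mk a)) = f a := rfl

/-- The pairing with a fixed element. -/
def pairRight (i j : ℕ) (g : ↥(γ G i)) : Additive (Sec G j) →+ Gr G :=
  liftSec (fun h => ι (i + j + 1) ⁅(g : G), (h : G)⁆ (comm_mem g.2 h.2))
    (fun a b => by
      have e : ⁅(g : G), ((a * b : ↥(γ G j)) : G)⁆ = ⁅(g : G), (a : G)⁆ * ((a : G) * ⁅(g : G), (b : G)⁆ * (a : G)⁻¹) := by
        simp only [Subgroup.coe_mul, commutatorElement_def]; group
      rw [ι_congr rfl e _ (mul_mem (comm_mem g.2 a.2)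
        (((⊤ : Subgroup G).lowerCentralSeries_normal _).conj_mem _ (comm_mem g.2 b.2) _)),
        ι_mul, ι_conj]
      exact ((⊤ : Subgroup G).lowerCentralSeries_normal _).conj_mem _ (comm_mem g.2 b.2) _)
    (fun a ha => (ι_eq_zero _).2
      ((⊤ : Subgroup G).lowerCentralSeries_antitone (by omega) (comm_mem g.2 ha)))

/-- The pairing of two sections. -/
def pair (i j : ℕ) : Additive (Sec G i) →+ Additive (Sec G j) →+ Gr G :=
  liftSec (pairRight i j)
    (fun a b => AddMonoidHom.ext fun x => by
      obtain ⟨h, hh⟩ := QuotientGroup.mk'_surjective _ (Additive.toMul x)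
      obtain rfl : x = Additive.ofMul (QuotientGroup.mk h) := congrArg Additive.ofMul hh.symm
      have e : ⁅((a * b : ↥(γ G i)) : G), (h : G)⁆ = (a : G) * ⁅(b : G), (h : G)⁆ * (a : G)⁻¹ * ⁅(a : G), (h : G)⁆ := by
        simp only [Subgroup.coe_mul, commutatorElement_def]; group
      show ι (i + j + 1) ⁅((a * b : ↥(γ G i)) : G), (h : G)⁆ _ =
        ι (i + j + 1) ⁅(a : G), (h : G)⁆ _ + ι (i + j + 1) ⁅(b : G), (h : G)⁆ _
      rw [ι_congr rfl e _ (mul_mem
        (((⊤ : Subgroup G).lowerCentralSeries_normal _).conj_mem _ (comm_mem b.2 h.2) _) (comm_mem a.2 h.2)),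
        ι_mul, ι_conj, add_comm]
      exact ((⊤ : Subgroup G).lowerCentralSeries_normal _).conj_mem _ (comm_mem b.2 h.2) _)
    (fun a ha => AddMonoidHom.ext fun x => by
      obtain ⟨h, hh⟩ := QuotientGroup.mk'_surjective _ (Additive.toMul x)
      obtain rfl : x = Additive.ofMul (QuotientGroup.mk h) := congrArg Additive.ofMul hh.symm
      exact (ι_eq_zero _).2 ((⊤ : Subgroup G).lowerCentralSeries_antitone (by omega) (comm_mem ha h.2)))

/-- The bracket. -/
def brHom : Gr G →+ Gr G →+ Gr G :=
  DirectSum.toAddMonoid fun i => AddMonoidHom.flip (DirectSum.toAddMonoid fun j => (pair i j).flip)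

theorem brHom_ι {i j : ℕ} {g h : G} (hg : g ∈ γ G i) (hh : h ∈ γ G j) :
    brHom (ι i g hg) (ι j h hh) = ι (i + j + 1) ⁅g, h⁆ (comm_mem hg hh) := by
  show DirectSum.toAddMonoid (fun i => AddMonoidHom.flip (DirectSum.toAddMonoid fun j => (pair i j).flip))
    (DirectSum.of (fun i => Additive (Sec G i)) i _) (DirectSum.of (fun i => Additive (Sec G i)) j _) = _
  rw [DirectSum.toAddMonoid_of, AddMonoidHom.flip_apply, DirectSum.toAddMonoid_of]
  rfl

theorem brHom_skew (x y : Gr G) : brHom x y + brHom y x = 0 := by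
  induction x using induction_on with
  | h0 => simp
  | hι i g hg =>
    induction y using induction_on with
    | h0 => simp
    | hι j h hh =>
      rw [brHom_ι, brHom_ι, ι_congr (show j + i + 1 = i + j + 1 by omega) (commutatorElement_inv g h).symm _
        (inv_mem (comm_mem hg hh)), ι_inv, add_neg_cancel]
      exact comm_mem hg hh
    | hadd a b ha hb =>
      rw [map_add, map_add, AddMonoidHom.add_apply, add_add_add_comm, ha, hb, add_zero]
  | hadd a b ha hb =>
    rw [map_add, map_add, AddMonoidHom.add_apply, add_add_add_comm, ha, hb, add_zero]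

theorem brHom_self (x : Gr G) : brHom x x = 0 := by
  induction x using induction_on with
  | h0 => simp
  | hι i g hg => rw [brHom_ι]; exact (ι_congr rfl (commutatorElement_self g) _ (one_mem _)).trans (ι_one _)
  | hadd a b ha hb =>
    simp only [map_add, AddMonoidHom.add_apply]
    rw [ha, hb, zero_add, add_zero, add_comm]
    exact brHom_skew a b

theorem brHom_jacobi (x y z : Gr G) :
    brHom (brHom x y) z + brHom (brHom z x) y + brHom (brHom y z) x = 0 := by
  induction x using induction_on with
  | h0 => simp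
  | hadd a b ha hb =>
    simp only [map_add, AddMonoidHom.add_apply]
    calc _ = (brHom (brHom a y) z + brHom (brHom z a) y + brHom (brHom y z) a) +
          (brHom (brHom b y) z + brHom (brHom z b) y + brHom (brHom y z) b) := by abel
      _ = 0 := by rw [ha, hb, add_zero]
  | hι i x hx =>
    induction y using induction_on with
    | h0 => simp
    | hadd a b ha hb =>
      simp only [map_add, AddMonoidHom.add_apply]
      calc _ = (brHom (brHom (ι i x hx) a) z + brHom (brHom z (ι i x hx)) a + brHom (brHom a z) (ι i x hx)) +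
            (brHom (brHom (ι i x hx) b) z + brHom (brHom z (ι i x hx)) b + brHom (brHom b z) (ι i x hx)) := by abel
        _ = 0 := by rw [ha, hb, add_zero]
    | hι j y hy =>
      induction z using induction_on with
      | h0 => simp
      | hadd a b ha hb =>
        simp only [map_add, AddMonoidHom.add_apply]
        calc _ = (brHom (brHom (ι i x hx) (ι j y hy)) a + brHom (brHom a (ι i x hx)) (ι j y hy) +
                brHom (brHom (ι j y hy) a) (ι i x hx)) +
              (brHom (brHom (ι i x hx) (ι j y hy)) b + brHom (brHom b (ι i x hx)) (ι j y hy) +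
                brHom (brHom (ι j y hy) b) (ι i x hx)) := by abel
          _ = 0 := by rw [ha, hb, add_zero]
      | hι k z hz =>
        have term : ∀ {a b c : ℕ} {u v w : G} (hu : u ∈ γ G a) (hv : v ∈ γ G b) (hw : w ∈ γ G c) (t : G),
            brHom (brHom (ι a u hu) (ι b v hv)) (ι c w hw) = -ι (a + b + 1 + c + 1) ⁅⁅u, v⁆⁻¹, t * w * t⁻¹⁆
              (comm_mem (inv_mem (comm_mem hu hv))
                (((⊤ : Subgroup G).lowerCentralSeries_normal c).conj_mem w hw t)) := by
          intro a b c u v w hu hv hw t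
          rw [← brHom_ι (inv_mem (comm_mem hu hv)), ι_conj, ι_inv, map_neg, AddMonoidHom.neg_apply,
            neg_neg, brHom_ι hu hv]
          exact ((⊤ : Subgroup G).lowerCentralSeries_normal c).conj_mem w hw t
        rw [term hx hy hz x, term hz hx hy z, term hy hz hx y,
          ι_congr (show k + i + 1 + j + 1 = i + j + 1 + k + 1 by omega) rfl _
            ((show k + i + 1 + j + 1 = i + j + 1 + k + 1 by omega) ▸
              comm_mem (inv_mem (comm_mem hz hx))
                (((⊤ : Subgroup G).lowerCentralSeries_normal j).conj_mem y hy z)),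
          ι_congr (show j + k + 1 + i + 1 = i + j + 1 + k + 1 by omega) rfl _
            ((show j + k + 1 + i + 1 = i + j + 1 + k + 1 by omega) ▸
              comm_mem (inv_mem (comm_mem hy hz))
                (((⊤ : Subgroup G).lowerCentralSeries_normal i).conj_mem x hx y)),
          ← neg_add, ← neg_add, ← ι_mul, ← ι_mul, neg_eq_zero]
        refine (ι_congr rfl ?_ _ (one_mem _)).trans (ι_one _)
        simp only [commutatorElement_def]; group

instance : LieRing (Gr G) where
  bracket x y := brHom x y
  add_lie x y z := by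
    show brHom (x + y) z = brHom x z + brHom y z
    rw [map_add, AddMonoidHom.add_apply]
  lie_add x y z := map_add _ _ _
  lie_self := brHom_self
  leibniz_lie x y z := by
    show brHom x (brHom y z) = brHom (brHom x y) z + brHom y (brHom x z)
    have h1 := brHom_jacobi x y z
    have h2 := brHom_skew (brHom y z) x
    have h3 := brHom_skew y (brHom x z)
    have h4 : brHom (brHom z x) y + brHom (brHom x z) y = 0 := by
      rw [← AddMonoidHom.add_apply, ← map_add, brHom_skew, map_zero, AddMonoidHom.zero_apply]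
    calc brHom x (brHom y z) = brHom x (brHom y z) +
          (brHom (brHom x y) z + brHom (brHom z x) y + brHom (brHom y z) x) := by rw [h1, add_zero]
      _ = (brHom (brHom y z) x + brHom x (brHom y z)) + brHom (brHom x y) z + brHom (brHom z x) y := by abel
      _ = brHom (brHom x y) z + brHom (brHom z x) y + (brHom y (brHom x z) + brHom (brHom x z) y) := by
        rw [h2, h3, zero_add, add_zero]
      _ = brHom (brHom x y) z + brHom y (brHom x z) +
          (brHom (brHom z x) y + brHom (brHom x z) y) := by abel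
      _ = _ := by rw [h4, add_zero]

theorem lie_ι {i j : ℕ} {g h : G} (hg : g ∈ γ G i) (hh : h ∈ γ G j) :
    ⁅ι i g hg, ι j h hh⁆ = ι (i + j + 1) ⁅g, h⁆ (comm_mem hg hh) := brHom_ι hg hh

theorem map_mem_γ (σ : G ≃* G) {i : ℕ} {g : G} (hg : g ∈ γ G i) : σ g ∈ γ G i := by
  have h := Subgroup.mem_map_of_mem σ.toMonoidHom hg
  rw [Subgroup.map_lowerCentralSeries] at h
  exact Subgroup.lowerCentralSeries_mono i le_top h

/-- The action of an automorphism. -/
def act (σ : G ≃* G) : Gr G →+ Gr G :=
  DirectSum.toAddMonoid fun i => liftSec (fun g : ↥(γ G i) => ι i (σ g) (map_mem_γ σ g.2))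
    (fun a b => (ι_congr rfl (map_mul σ (a : G) (b : G)) _ _).trans
      (ι_mul (map_mem_γ σ a.2) (map_mem_γ σ b.2)))
    (fun a ha => (ι_eq_zero _).2 (map_mem_γ σ ha))

theorem act_ι (σ : G ≃* G) {i : ℕ} {g : G} (hg : g ∈ γ G i) :
    act σ (ι i g hg) = ι i (σ g) (map_mem_γ σ hg) := by
  show DirectSum.toAddMonoid _ (DirectSum.of (fun i => Additive (Sec G i)) i _) = _
  rw [DirectSum.toAddMonoid_of]
  rfl

theorem act_comp (σ τ : MulAut G) (x : Gr G) : act σ (act τ x) = act (σ * τ : MulAut G) x := by
  induction x using induction_on with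
  | h0 => simp
  | hι i g hg => rw [act_ι, act_ι, act_ι]; rfl
  | hadd a b ha hb => simp only [map_add, ha, hb]

theorem act_one (x : Gr G) : act (1 : MulAut G) x = x := by
  induction x using induction_on with
  | h0 => simp
  | hι i g hg => rw [act_ι]; rfl
  | hadd a b ha hb => rw [map_add, ha, hb]

theorem act_lie (σ : G ≃* G) (x y : Gr G) : act σ ⁅x, y⁆ = ⁅act σ x, act σ y⁆ := by
  induction x using induction_on with
  | h0 => simp
  | hadd a b ha hb => simp only [add_lie, map_add, ha, hb]
  | hι i g hg =>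
    induction y using induction_on with
    | h0 => simp
    | hadd a b ha hb => simp only [lie_add, map_add, ha, hb]
    | hι j h hh =>
      rw [lie_ι, act_ι, act_ι, act_ι, lie_ι]
      exact ι_congr rfl (map_commutatorElement σ g h) _ _

theorem card_smul [Finite G] (x : Gr G) : (Nat.card G : ℤ) • x = 0 := by
  induction x using induction_on with
  | h0 => simp
  | hadd a b ha hb => rw [smul_add, ha, hb, add_zero]
  | hι i g hg =>
    have key : ∀ n : ℕ, n • ι i g hg = ι i (g ^ n) (pow_mem hg n) := fun n => by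
      induction n with
      | zero => rw [zero_smul]; exact ((ι_congr rfl (pow_zero g) _ (one_mem _)).trans (ι_one i)).symm
      | succ n ih =>
        rw [succ_nsmul, ih, ← ι_mul]
        exact ι_congr rfl (pow_succ g n).symm _ _
    rw [natCast_zsmul, key]
    exact (ι_congr rfl pow_card_eq_one' _ (one_mem _)).trans (ι_one i)

end Cfsg.Agent.Solv.GrLie
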