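import Mathlib

/-!
Fixed spaces of operators permuting the pieces of a graded vector space, and the grading by the
characters of an abelian group of operators of order prime to the characteristic.
-/

set_option autoImplicit false
set_option linter.style.haveILetI false

namespace Cfsg.Agent.Solv.Graded

open Module

variable {K : Type*} [Field K] {E : Type*} [AddCommGroup E] [Module K E]

section Family

variable {ι : Type*} [Fintype ι] [DecidableEq ι] (π : ι → Module.End K E)

theorem finrank_eq [FiniteDimensional K E] (hsum : ∑ i, π i = 1)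
    (horth : ∀ i j, π i * π j = if i = j then π i else 0) {m : ℕ}
    (hm : ∀ i, finrank K (LinearMap.range (π i)) = m) :
    finrank K E = Fintype.card ι * m := by
  let f : E →ₗ[K] ((i : ι) → LinearMap.range (π i)) := LinearMap.pi fun i => (π i).rangeRestrict
  have hone : ∀ a : E, ∑ i, π i a = a := fun a => by
    rw [← LinearMap.sum_apply, hsum, Module.End.one_apply]
  have hf : Function.Bijective f := by
    refine ⟨fun a b h => ?_, fun g => ⟨∑ i, (g i : E), funext fun j => Subtype.ext ?_⟩⟩
    · rw [← hone a, ← hone b]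
      exact Finset.sum_congr rfl fun i _ => congrArg Subtype.val (congrFun h i)
    · show π j (∑ i, (g i : E)) = (g j : E)
      rw [map_sum, Finset.sum_eq_single j]
      · obtain ⟨y, hy⟩ := (g j).2
        rw [← hy, ← Module.End.mul_apply, horth, if_pos rfl]
      · intro i _ hij
        obtain ⟨y, hy⟩ := (g i).2
        rw [← hy, ← Module.End.mul_apply, horth, if_neg (Ne.symm hij), LinearMap.zero_apply]
      · simp
  rw [(LinearEquiv.ofBijective f hf).finrank_eq, Module.finrank_pi_fintype,
    Finset.sum_congr rfl (fun i _ => hm i), Finset.sum_const, Finset.card_univ, smul_eq_mul]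

/-- An operator which permutes the pieces with a permutation of prime order `p` has its fixed space
bounded by the number of orbits. -/
theorem fix_le [FiniteDimensional K E] (hsum : ∑ i, π i = 1) {p : ℕ} (hp : p.Prime)
    (x : Module.End K E) (s : Equiv.Perm ι) (hs : s ^ p = 1)
    (hx : ∀ i, x * π i = π (s i) * x) {m : ℕ} (hm : ∀ i, finrank K (LinearMap.range (π i)) = m) :
    p * finrank K (LinearMap.ker (x - 1)) ≤
      ((p - 1) * Nat.card {i // s i = i} + Fintype.card ι) * m := by
  classical
  let e := Fintype.equivFin ι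
  have hmod : ∀ k, s ^ k = s ^ (k % p) := fun k => pow_eq_pow_mod k hs
  have happ : ∀ a b i, (s ^ (a + b)) i = (s ^ a) ((s ^ b) i) := fun a b i => by
    rw [pow_add, Equiv.Perm.mul_apply]
  obtain ⟨R, hR⟩ : ∃ R, R = Finset.univ.filter (fun i => ∀ k : ℕ, k < p → e i ≤ e ((s ^ k) i)) :=
    ⟨_, rfl⟩
  have hmemR : ∀ r ∈ R, ∀ k, e r ≤ e ((s ^ k) r) := by
    intro r hr k
    rw [hR, Finset.mem_filter] at hr
    rw [hmod k]
    exact hr.2 _ (Nat.mod_lt _ hp.pos)
  have hcover : ∀ i, ∃ r ∈ R, ∃ k, (s ^ k) r = i := by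
    intro i
    obtain ⟨k, hk, hkmin⟩ := Finset.exists_min_image (Finset.range p) (fun k => e ((s ^ k) i))
      ⟨0, Finset.mem_range.2 hp.pos⟩
    refine ⟨(s ^ k) i, ?_, p - k, ?_⟩
    · rw [hR, Finset.mem_filter]
      refine ⟨Finset.mem_univ _, fun l _ => ?_⟩
      rw [← happ, hmod (l + k)]
      exact hkmin _ (Finset.mem_range.2 (Nat.mod_lt _ hp.pos))
    · rw [← happ, Nat.sub_add_cancel (Finset.mem_range.1 hk).le, hs, Equiv.Perm.one_apply]
  -- counting representatives
  obtain ⟨Fx, hFx⟩ : ∃ Fx, Fx = Finset.univ.filter (fun i => s i = i) := ⟨_, rfl⟩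
  have hcnt : p * R.card + Fx.card ≤ p * Fx.card + Fintype.card ι := by
    have h1 : ((R \ Fx) ×ˢ Finset.range p).card ≤ (Finset.univ \ Fx).card := by
      refine Finset.card_le_card_of_injOn (fun z => (s ^ z.2) z.1) (fun z hz => ?_) ?_
      · rw [Finset.mem_coe, Finset.mem_product, Finset.mem_sdiff] at hz
        rw [Finset.mem_coe, Finset.mem_sdiff]
        refine ⟨Finset.mem_univ _, fun h => hz.1.2 ?_⟩
        rw [hFx, Finset.mem_filter] at h ⊢
        refine ⟨Finset.mem_univ _, (s ^ z.2).injective ?_⟩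
        rw [← Equiv.Perm.mul_apply, ← pow_succ, pow_succ', Equiv.Perm.mul_apply]
        exact h.2
      · rintro ⟨r, k⟩ hr ⟨r', l⟩ hr' heq
        rw [Finset.mem_coe, Finset.mem_product, Finset.mem_sdiff, Finset.mem_range] at hr hr'
        dsimp only at heq hr hr'
        have hrr : r' = r := by
          have e1 : (s ^ (p - l + k)) r = r' := by
            rw [happ, heq, ← happ, Nat.sub_add_cancel hr'.2.le, hs, Equiv.Perm.one_apply]
          have e2 : (s ^ (p - k + l)) r' = r := by
            rw [happ, ← heq, ← happ, Nat.sub_add_cancel hr.2.le, hs, Equiv.Perm.one_apply]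
          refine e.injective (le_antisymm ?_ ?_)
          · have := hmemR r' hr'.1.1 (p - k + l); rwa [e2] at this
          · have := hmemR r hr.1.1 (p - l + k); rwa [e1] at this
        subst hrr
        have key : ∀ a b, a < p → b < p → a < b → (s ^ a) r' ≠ (s ^ b) r' := by
          intro a b ha hb hab h
          have hd : (s ^ (b - a)) r' = r' := by
            apply (s ^ a).injective
            rw [← happ, Nat.add_sub_cancel' hab.le, h]
          have hiter : ∀ j : ℕ, (s ^ ((b - a) * j)) r' = r' := by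
            intro j
            induction j with
            | zero => rw [Nat.mul_zero, pow_zero, Equiv.Perm.one_apply]
            | succ j ih => rw [Nat.mul_succ, happ, hd, ih]
          have hcop : Nat.Coprime (b - a) p :=
            Nat.Coprime.symm ((hp.coprime_iff_not_dvd).2
              (Nat.not_dvd_of_pos_of_lt (Nat.sub_pos_of_lt hab) (by omega)))
          obtain ⟨j, -, hj⟩ := Nat.exists_mul_mod_eq_one_of_coprime hcop hp.one_lt
          refine hr'.1.2 ?_
          rw [hFx, Finset.mem_filter]
          have := hiter j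
          rw [hmod, hj, pow_one] at this
          exact ⟨Finset.mem_univ _, this⟩
        rcases lt_trichotomy k l with h | h | h
        · exact absurd heq (key k l hr.2 hr'.2 h)
        · rw [h]
        · exact absurd heq.symm (key l k hr'.2 hr.2 h)
    rw [Finset.card_product, Finset.card_range,
      Finset.card_sdiff_of_subset (Finset.subset_univ Fx), Finset.card_univ] at h1
    have h2 : R.card ≤ (R \ Fx).card + Fx.card := by
      have := Finset.card_le_card_sdiff_add_card (s := R) (t := Fx)
      exact this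
    have h3 : Fx.card ≤ Fintype.card ι := Finset.card_le_univ _
    have h4 : p * R.card ≤ p * (R \ Fx).card + p * Fx.card := by
      rw [← Nat.mul_add]; exact Nat.mul_le_mul_left _ h2
    rw [Nat.mul_comm (R \ Fx).card p] at h1
    omega
  have hF : Nat.card {i // s i = i} = Fx.card := by
    rw [Nat.card_eq_fintype_card, Fintype.card_subtype, hFx]
  -- the fixed space is determined by the representatives
  let g : LinearMap.ker (x - 1) →ₗ[K] ((r : R) → LinearMap.range (π r)) :=
    (LinearMap.pi fun r : R => (π r).rangeRestrict).comp (Submodule.subtype _)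
  have hg : Function.Injective g := by
    rw [← LinearMap.ker_eq_bot, Submodule.eq_bot_iff]
    rintro ⟨v, hv⟩ hgv
    rw [LinearMap.mem_ker, LinearMap.sub_apply, Module.End.one_apply, sub_eq_zero] at hv
    rw [LinearMap.mem_ker] at hgv
    have h0 : ∀ r ∈ R, π r v = 0 := fun r hr => congrArg Subtype.val (congrFun hgv ⟨r, hr⟩)
    have hall : ∀ k, ∀ r ∈ R, π ((s ^ k) r) v = 0 := by
      intro k
      induction k with
      | zero => intro r hr; rw [pow_zero, Equiv.Perm.one_apply]; exact h0 r hr
      | succ k ih =>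
        intro r hr
        rw [pow_succ', Equiv.Perm.mul_apply]
        conv_lhs => rw [← hv]
        rw [← Module.End.mul_apply, ← hx, Module.End.mul_apply, ih r hr, map_zero]
    refine Subtype.ext ?_
    show v = 0
    rw [← Module.End.one_apply (R := K) v, ← hsum, LinearMap.sum_apply]
    refine Finset.sum_eq_zero fun i _ => ?_
    obtain ⟨r, hr, k, rfl⟩ := hcover i
    exact hall k r hr
  have hle := LinearMap.finrank_le_finrank_of_injective hg
  rw [Module.finrank_pi_fintype, Finset.sum_congr rfl (fun (r : R) _ => hm r), Finset.sum_const,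
    Finset.card_univ, Fintype.card_coe, smul_eq_mul] at hle
  rw [hF]
  calc p * finrank K (LinearMap.ker (x - 1)) ≤ p * (R.card * m) := Nat.mul_le_mul_left _ hle
    _ = (p * R.card) * m := (mul_assoc _ _ _).symm
    _ ≤ _ := by
      refine Nat.mul_le_mul_right _ ?_
      have := hp.pos
      rw [Nat.sub_mul, one_mul]
      have : Fx.card ≤ p * Fx.card := Nat.le_mul_of_pos_left _ hp.pos
      omega

end Family

section Characters

variable {A : Type*} [CommGroup A] [Fintype A] (τ : A →* Module.End K E)

/-- The projection onto the vectors of character `χ`. -/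
noncomputable def proj (χ : A →* Kˣ) : Module.End K E :=
  (Fintype.card A : K)⁻¹ • ∑ a, ((χ a⁻¹ : Kˣ) : K) • τ a

variable {τ}

theorem mul_proj (χ : A →* Kˣ) (b : A) : τ b * proj τ χ = ((χ b : Kˣ) : K) • proj τ χ := by
  unfold proj
  rw [mul_smul_comm, Finset.mul_sum, smul_comm (((χ b : Kˣ) : K)), Finset.smul_sum (r := ((χ b : Kˣ) : K))]
  refine congrArg (fun z : Module.End K E => (Fintype.card A : K)⁻¹ • z) (Fintype.sum_equiv (Equiv.mulLeft b) _ _ fun a => ?_)
  rw [Equiv.coe_mulLeft, mul_smul_comm, ← map_mul, smul_smul, ← Units.val_mul, ← map_mul,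
    mul_inv_rev, mul_comm a⁻¹ b⁻¹, mul_inv_cancel_left]

theorem proj_apply_of_mem (hA : (Fintype.card A : K) ≠ 0) (χ : A →* Kˣ) {v : E}
    (hv : ∀ a, τ a v = ((χ a : Kˣ) : K) • v) : proj τ χ v = v := by
  rw [proj, LinearMap.smul_apply, LinearMap.sum_apply,
    Finset.sum_congr rfl (fun a _ => show (((χ a⁻¹ : Kˣ) : K) • τ a) v = v by
      rw [LinearMap.smul_apply, hv, smul_smul, ← Units.val_mul, ← map_mul, inv_mul_cancel, map_one,
        Units.val_one, one_smul]),
    Finset.sum_const, Finset.card_univ, ← Nat.cast_smul_eq_nsmul K, smul_smul, inv_mul_cancel₀ hA,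
    one_smul]

theorem mem_range_proj (hA : (Fintype.card A : K) ≠ 0) {χ : A →* Kˣ} {v : E} :
    v ∈ LinearMap.range (proj τ χ) ↔ ∀ a, τ a v = ((χ a : Kˣ) : K) • v := by
  refine ⟨?_, fun h => ⟨v, proj_apply_of_mem hA χ h⟩⟩
  rintro ⟨w, rfl⟩ a
  rw [← Module.End.mul_apply, mul_proj, LinearMap.smul_apply]

theorem proj_mul_proj (hA : (Fintype.card A : K) ≠ 0) (χ ψ : A →* Kˣ) [Decidable (χ = ψ)] :
    proj τ χ * proj τ ψ = if χ = ψ then proj τ χ else 0 := by
  split_ifs with h
  · refine LinearMap.ext fun v => ?_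
    rw [Module.End.mul_apply, ← h]
    exact proj_apply_of_mem hA χ ((mem_range_proj hA).1 ⟨v, rfl⟩)
  · obtain ⟨b, hb⟩ : ∃ b, χ b ≠ ψ b := by
      by_contra hc
      push Not at hc
      exact h (MonoidHom.ext hc)
    refine LinearMap.ext fun v => ?_
    have h1 := (mem_range_proj (τ := τ) (χ := χ) hA).1 ⟨proj τ ψ v, rfl⟩ b
    have h2 := (mem_range_proj (τ := τ) (χ := ψ) hA).1 ⟨v, rfl⟩ b
    have hcomm : τ b * proj τ χ = proj τ χ * τ b := by
      rw [proj, mul_smul_comm, smul_mul_assoc, Finset.mul_sum, Finset.sum_mul]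
      refine congrArg _ (Finset.sum_congr rfl fun a _ => ?_)
      rw [mul_smul_comm, smul_mul_assoc, ← map_mul, ← map_mul, mul_comm b a]
    rw [← Module.End.mul_apply (τ b), hcomm, Module.End.mul_apply, h2, map_smul] at h1
    rw [LinearMap.zero_apply, Module.End.mul_apply]
    by_contra h0
    exact hb (Units.ext (smul_left_injective K h0 h1).symm)

theorem intertwine (x : Module.End K E) (θ : MulAut A) (hx : ∀ a, x * τ a = τ (θ a) * x)
    (χ : A →* Kˣ) : x * proj τ χ = proj τ (χ.comp (θ⁻¹ : MulAut A).toMonoidHom) * x := by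
  rw [proj, proj, mul_smul_comm, smul_mul_assoc, Finset.mul_sum, Finset.sum_mul]
  refine congrArg _ (Fintype.sum_equiv θ.toEquiv _ _ fun a => ?_)
  show x * (((χ a⁻¹ : Kˣ) : K) • τ a) =
    ((χ ((θ⁻¹ : MulAut A) (θ a)⁻¹) : Kˣ) : K) • τ (θ a) * x
  rw [mul_smul_comm, hx, smul_mul_assoc, map_inv, map_inv, MulAut.inv_apply_self, map_inv]

variable [IsAlgClosed K]

theorem card_dual (hA : (Fintype.card A : K) ≠ 0) :
    Nat.card (A →* Kˣ) = Nat.card A := by
  haveI : NeZero (Monoid.exponent A : K) := ⟨fun h => hA (by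
    obtain ⟨c, hc⟩ := Group.exponent_dvd_nat_card (G := A)
    rw [← Nat.card_eq_fintype_card, hc, Nat.cast_mul, h, zero_mul])⟩
  obtain ⟨e⟩ := CommGroup.monoidHom_mulEquiv_of_hasEnoughRootsOfUnity A K
  exact Nat.card_congr e.toEquiv

theorem finite_dual (hA : (Fintype.card A : K) ≠ 0) : Finite (A →* Kˣ) :=
  Nat.finite_of_card_ne_zero (by rw [card_dual hA]; exact Nat.card_pos.ne')

theorem sum_proj (hA : (Fintype.card A : K) ≠ 0) [Fintype (A →* Kˣ)] :
    ∑ χ : A →* Kˣ, proj τ χ = 1 := by
  classical
  haveI : NeZero (Monoid.exponent A : K) := ⟨fun h => hA (by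
    obtain ⟨c, hc⟩ := Group.exponent_dvd_nat_card (G := A)
    rw [← Nat.card_eq_fintype_card, hc, Nat.cast_mul, h, zero_mul])⟩
  have hsum : ∀ a : A, (∑ χ : A →* Kˣ, ((χ a : Kˣ) : K)) = if a = 1 then (Fintype.card A : K) else 0 := by
    intro a
    split_ifs with h
    · rw [h, Finset.sum_congr rfl (fun χ _ => by rw [map_one, Units.val_one]), Finset.sum_const,
        Finset.card_univ, nsmul_one, ← Nat.card_eq_fintype_card (α := A →* Kˣ), card_dual hA,
        Nat.card_eq_fintype_card]
    · obtain ⟨ψ, hψ⟩ := CommGroup.exists_apply_ne_one_of_hasEnoughRootsOfUnity A K h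
      have h1 : ((ψ a : Kˣ) : K) * ∑ χ : A →* Kˣ, ((χ a : Kˣ) : K) = ∑ χ : A →* Kˣ, ((χ a : Kˣ) : K) := by
        rw [Finset.mul_sum]
        exact Fintype.sum_equiv (Equiv.mulLeft ψ) _ _ fun χ => rfl
      by_contra h0
      exact hψ (Units.ext ((mul_eq_right₀ h0).1 h1))
  simp only [proj]
  rw [← Finset.smul_sum, Finset.sum_comm]
  simp only [← Finset.sum_smul]
  rw [Finset.sum_eq_single 1 (fun a _ ha => by rw [hsum, if_neg (inv_ne_one.2 ha), zero_smul])
    (fun h => absurd (Finset.mem_univ _) h), hsum, if_pos inv_one, map_one, smul_smul,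
    inv_mul_cancel₀ hA, one_smul]

end Characters

end Cfsg.Agent.Solv.Graded
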