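import Cfsg.Agent.Lib.Solv.GradedLie

/-!
Lie rings graded by a finite elementary abelian `p`-group in which every component acts nilpotently
of bounded degree on every component: the nilpotency class is bounded.

The proof extends Kreknin's theorem to gradings by the integers modulo `p` in which the component
of degree zero acts nilpotently, and Higman's rewriting to arbitrary finite index groups.
-/

set_option autoImplicit false
set_option linter.style.haveILetI false
set_option linter.unusedSectionVars false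

namespace Cfsg.Agent.Solv.GradedNil

open GradedLie (rb lb rb_closure lb_closure jacobi_left jacobi_right)

variable {M : Type*} [LieRing M] {E : Type*} [AddCommGroup E]

/-- The family spanned by brackets. -/
def eBr (U V : E → AddSubgroup M) : E → AddSubgroup M := fun d =>
  AddSubgroup.closure {x | ∃ (i j : E) (u v : M), u ∈ U i ∧ v ∈ V j ∧ i + j = d ∧ x = ⁅u, v⁆}

theorem mem_eBr {U V : E → AddSubgroup M} {i j : E} {u v : M} (hu : u ∈ U i) (hv : v ∈ V j) :
    ⁅u, v⁆ ∈ eBr U V (i + j) :=
  AddSubgroup.subset_closure ⟨i, j, u, v, hu, hv, rfl, rfl⟩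

theorem eBr_le {U V W : E → AddSubgroup M}
    (h : ∀ i j : E, ∀ u ∈ U i, ∀ v ∈ V j, ⁅u, v⁆ ∈ W (i + j)) : eBr U V ≤ W := fun d =>
  (AddSubgroup.closure_le _).2 (by rintro _ ⟨i, j, u, v, hu, hv, rfl, rfl⟩; exact h i j u hu v hv)

theorem eBr_mono {U U' V V' : E → AddSubgroup M} (hU : U ≤ U') (hV : V ≤ V') : eBr U V ≤ eBr U' V' :=
  eBr_le fun i j _ hu _ hv => mem_eBr (hU i hu) (hV j hv)

/-- Components closed under the bracket. -/
def Closed (C : E → AddSubgroup M) : Prop := ∀ i j : E, ∀ u ∈ C i, ∀ v ∈ C j, ⁅u, v⁆ ∈ C (i + j)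

/-- The derived series. -/
def eD (C : E → AddSubgroup M) : ℕ → E → AddSubgroup M
  | 0 => C
  | r + 1 => eBr (eD C r) (eD C r)

/-- The lower central series, starting with index zero. -/
def eΓ (C : E → AddSubgroup M) : ℕ → E → AddSubgroup M
  | 0 => C
  | s + 1 => eBr (eΓ C s) C

theorem eD_add (C : E → AddSubgroup M) (a : ℕ) : ∀ b, eD C (b + a) = eD (eD C a) b
  | 0 => by rw [Nat.zero_add]; rfl
  | b + 1 => by rw [Nat.succ_add]; show eBr _ _ = eBr _ _; rw [eD_add C a b]

theorem eD_mono {C C' : E → AddSubgroup M} (h : C ≤ C') : ∀ r, eD C r ≤ eD C' r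
  | 0 => h
  | r + 1 => eBr_mono (eD_mono h r) (eD_mono h r)

section

variable {C : E → AddSubgroup M} (hC : Closed C)
include hC

theorem eD_le : ∀ r, eD C r ≤ C
  | 0 => le_rfl
  | r + 1 => eBr_le fun i j u hu v hv => hC i j u (eD_le r i hu) v (eD_le r j hv)

theorem eD_succ_le : ∀ r, eD C (r + 1) ≤ eD C r
  | 0 => eBr_le hC
  | r + 1 => eBr_mono (eD_succ_le r) (eD_succ_le r)

theorem eD_closed (r : ℕ) : Closed (eD C r) := by
  induction r with
  | zero => exact hC
  | succ r ih =>
    intro i j u hu v hv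
    exact mem_eBr (eBr_le ih i hu) (eBr_le ih j hv)

theorem eD_ideal : ∀ (r : ℕ) (i j : E), ∀ u ∈ eD C r i, ∀ v ∈ C j, ⁅u, v⁆ ∈ eD C r (i + j)
  | 0, i, j, u, hu, v, hv => hC i j u hu v hv
  | r + 1, i, j, u, hu, v, hv => by
    refine rb_closure ?_ hu
    rintro _ ⟨i1, i2, u1, u2, h1, h2, rfl, rfl⟩
    rw [jacobi_right]
    refine add_mem ?_ ?_
    · rw [show i1 + i2 + j = i1 + j + i2 by abel]
      exact mem_eBr (eD_ideal r i1 j u1 h1 v hv) h2
    · rw [add_assoc]
      exact mem_eBr h1 (eD_ideal r i2 j u2 h2 v hv)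

theorem eΓ_le : ∀ s, eΓ C s ≤ C
  | 0 => le_rfl
  | s + 1 => eBr_le fun i j u hu v hv => hC i j u (eΓ_le s i hu) v hv

theorem eΓ_succ_le : ∀ s, eΓ C (s + 1) ≤ eΓ C s
  | 0 => eBr_le hC
  | s + 1 => eBr_mono (eΓ_succ_le s) le_rfl

theorem eΓ_anti : Antitone (eΓ C) := antitone_nat_of_succ_le (eΓ_succ_le hC)

theorem eΓ_bracket : ∀ (t s : ℕ) (i j : E), ∀ u ∈ eΓ C s i, ∀ v ∈ eΓ C t j,
    ⁅u, v⁆ ∈ eΓ C (s + t + 1) (i + j)
  | 0, _, _, _, _, hu, _, hv => mem_eBr hu hv
  | t + 1, s, i, j, u, hu, v, hv => by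
    refine lb_closure ?_ hv
    rintro _ ⟨j1, j2, v1, v2, h1, h2, rfl, rfl⟩
    rw [jacobi_left]
    refine sub_mem ?_ ?_
    · rw [show s + (t + 1) + 1 = s + t + 1 + 1 by omega, ← add_assoc i j1 j2]
      exact (mem_eBr (eΓ_bracket t s i j1 u hu v1 h1) h2 :)
    · rw [show s + (t + 1) + 1 = s + 1 + t + 1 by omega, show i + (j1 + j2) = i + j2 + j1 by abel]
      exact eΓ_bracket t (s + 1) (i + j2) j1 _ (mem_eBr hu h2) v1 h1

end

/-! ### Words -/

/-- The value of a list of elements applied to an element. -/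
def app : M → List M → M
  | a, [] => a
  | a, x :: l => app ⁅a, x⁆ l

theorem app_append (l₂ : List M) : ∀ (l₁ : List M) (a : M), app a (l₁ ++ l₂) = app (app a l₁) l₂ := by
  intro l₁
  induction l₁ with
  | nil => intro a; rfl
  | cons x l ih => intro a; exact ih _

theorem app_add (a b : M) : ∀ l : List M, app (a + b) l = app a l + app b l := by
  intro l
  induction l generalizing a b with
  | nil => rfl
  | cons x l ih => show app ⁅a + b, x⁆ l = _; rw [add_lie, ih]; rfl

theorem app_zero : ∀ l : List M, app (0 : M) l = 0 := by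
  intro l
  induction l with
  | nil => rfl
  | cons x l ih => show app ⁅(0 : M), x⁆ l = _; rw [zero_lie, ih]

theorem app_mem {A : E → AddSubgroup M} {C : E → AddSubgroup M}
    (hA : ∀ i j : E, ∀ u ∈ A i, ∀ v ∈ C j, ⁅u, v⁆ ∈ A (i + j)) {z : E} :
    ∀ (l : List M), (∀ x ∈ l, x ∈ C z) → ∀ (a : M) (e : E), a ∈ A e → app a l ∈ A (e + l.length • z) := by
  intro l
  induction l with
  | nil => intro _ a e ha; simpa [app] using ha
  | cons x l ih =>
    intro hl a e ha
    have h1 := ih (fun y hy => hl y (List.mem_cons_of_mem _ hy)) _ _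
      (hA e z a ha x (hl x List.mem_cons_self))
    show app ⁅a, x⁆ l ∈ _
    rw [List.length_cons, succ_nsmul', ← add_assoc]
    exact h1

/-- `N` brackets with elements of one component kill every component. -/
def Nilp (A C : E → AddSubgroup M) (N : ℕ) : Prop :=
  ∀ (d v : E) (a : M) (l : List M), a ∈ A d → (∀ x ∈ l, x ∈ C v) → l.length = N → app a l = 0

theorem Nilp.of_le {A C : E → AddSubgroup M} {N : ℕ} (h : Nilp A C N) {d v : E} {a : M} {l : List M}
    (ha : a ∈ A d) (hl : ∀ x ∈ l, x ∈ C v) (hlen : N ≤ l.length) : app a l = 0 := by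
  rw [← List.take_append_drop N l, app_append,
    h d v a _ ha (fun x hx => hl x (List.mem_of_mem_take hx)) (by rw [List.length_take]; omega),
    app_zero]

theorem Nilp.mono {A A' C C' : E → AddSubgroup M} {N : ℕ} (h : Nilp A C N) (hA : A' ≤ A) (hC : C' ≤ C) :
    Nilp A' C' N := fun d v a l ha hl hlen => h d v a l (hA d ha) (fun x hx => hC v (hl x hx)) hlen

/-- A letter: an element with a weight and a degree. -/
abbrev Word (M : Type*) (E : Type*) := List (M × ℕ × E)

/-- The value of a word. -/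
def val (a : M) (l : Word M E) : M := app a (l.map Prod.fst)

/-- The weight of a word. -/
def wt (l : Word M E) : ℕ := (l.map fun x => x.2.1 + 1).sum

/-- The degree of a word. -/
def dg (l : Word M E) : E := (l.map fun x => x.2.2).sum

/-- All letters lie in the recorded terms. -/
def Ok (C : E → AddSubgroup M) (l : Word M E) : Prop := ∀ x ∈ l, x.1 ∈ eΓ C x.2.1 x.2.2

section Gather

variable {C A Z : E → AddSubgroup M} (hC : Closed C)
  (hA : ∀ i j : E, ∀ u ∈ A i, ∀ v ∈ C j, ⁅u, v⁆ ∈ A (i + j))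
  (hZ : ∀ i j : E, ∀ u ∈ Z i, ∀ v ∈ C j, ⁅u, v⁆ ∈ Z (i + j))

include hC

theorem val_mem {A : E → AddSubgroup M} (hA : ∀ i j : E, ∀ u ∈ A i, ∀ v ∈ C j, ⁅u, v⁆ ∈ A (i + j)) :
    ∀ (l : Word M E), Ok C l → ∀ (a : M) (e : E), a ∈ A e → val a l ∈ A (e + dg l) := by
  intro l
  induction l with
  | nil => intro _ a e ha; simpa [dg, val, app] using ha
  | cons x l ih =>
    intro hl a e ha
    have h1 := ih (fun y hy => hl y (List.mem_cons_of_mem _ hy)) _ _
      (hA e x.2.2 a ha x.1 (eΓ_le hC _ _ (hl x List.mem_cons_self)))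
    show val ⁅a, x.1⁆ l ∈ _
    rw [show dg (x :: l) = x.2.2 + dg l from rfl, ← add_assoc]
    exact h1

include hA

theorem perm_congr {l l' : Word M E} (hp : l.Perm l') : Ok C l → ∀ (a : M) (e : E), a ∈ A e →
    (∀ l'', Ok C l'' → l''.length < l.length → wt l'' = wt l → dg l'' = dg l →
      val a l'' ∈ Z (e + dg l)) →
    val a l - val a l' ∈ Z (e + dg l) := by
  induction hp with
  | nil => intro _ a e _ _; rw [sub_self]; exact zero_mem _
  | @cons x l l' hp ih =>
    intro hl a e ha hshort
    have hx : x.1 ∈ C x.2.2 := eΓ_le hC _ _ (hl x List.mem_cons_self)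
    have h1 := ih (fun y hy => hl y (List.mem_cons_of_mem _ hy)) _ _
      (hA e x.2.2 a ha x.1 hx) fun l'' hok hlen hwt hdg => by
        have h2 := hshort (x :: l'') (fun y hy => ?_) (by simpa using hlen)
          (by rw [show wt (x :: l'') = x.2.1 + 1 + wt l'' from rfl, hwt]; rfl)
          (by rw [show dg (x :: l'') = x.2.2 + dg l'' from rfl, hdg]; rfl)
        · rw [show dg (x :: l) = x.2.2 + dg l from rfl, ← add_assoc] at h2
          exact h2
        · rcases List.mem_cons.1 hy with rfl | hy'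
          exacts [hl _ List.mem_cons_self, hok y hy']
    rw [show dg (x :: l) = x.2.2 + dg l from rfl, ← add_assoc]
    exact h1
  | @swap x y l =>
    intro hl a e ha hshort
    have hy' := hl y List.mem_cons_self
    have hx' := hl x (List.mem_cons_of_mem _ List.mem_cons_self)
    have h2 := hshort ((⁅y.1, x.1⁆, y.2.1 + x.2.1 + 1, y.2.2 + x.2.2) :: l) (fun z hz => ?_)
      (by simp) (by simp [wt]; omega) (by simp [dg, add_assoc])
    · show app ⁅⁅a, y.1⁆, x.1⁆ (l.map Prod.fst) - app ⁅⁅a, x.1⁆, y.1⁆ (l.map Prod.fst) ∈ _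
      rw [jacobi_right a y.1 x.1, app_add, add_sub_cancel_left]
      exact h2
    · rcases List.mem_cons.1 hz with rfl | hz'
      · exact eΓ_bracket hC _ _ _ _ _ hy' _ hx'
      · exact hl z (List.mem_cons_of_mem _ (List.mem_cons_of_mem _ hz'))
  | @trans l₁ l₂ l₃ hp₁ hp₂ ih₁ ih₂ =>
    intro hl a e ha hshort
    have hd : dg l₂ = dg l₁ := (hp₁.map _).sum_eq.symm
    have hw : wt l₂ = wt l₁ := (hp₁.map _).sum_eq.symm
    have h2 := ih₂ (fun z hz => hl z (hp₁.mem_iff.2 hz)) a e ha fun l'' hok hlen hwt hdg => by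
      rw [hd]; exact hshort l'' hok (hp₁.length_eq ▸ hlen) (hwt.trans hw) (hdg.trans hd)
    rw [hd] at h2
    have h3 := add_mem (ih₁ hl a e ha hshort) h2
    rwa [sub_add_sub_cancel] at h3

include hZ

/-- Words of large weight take values in the target. -/
theorem gather [Finite E] {N c : ℕ} (hN : Nilp A C N)
    (hc : ∀ d v : E, ∀ u ∈ A d, ∀ x ∈ eΓ C c v, ⁅u, x⁆ ∈ Z (d + v)) :
    ∀ (k : ℕ) (l : Word M E), l.length = k → Ok C l → Nat.card E * N * c < wt l →
      ∀ (a : M) (e : E), a ∈ A e → val a l ∈ Z (e + dg l) := by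
  classical
  haveI := Fintype.ofFinite E
  intro k
  induction k using Nat.strong_induction_on with
  | _ k ih =>
  intro l hk hl hwt a e ha
  by_cases hbig : ∃ x ∈ l, c ≤ x.2.1
  · obtain ⟨x, hx, hxc⟩ := hbig
    obtain ⟨l₁, l₂, rfl⟩ := List.append_of_mem hx
    have h1 := val_mem hC hA l₁ (fun y hy => hl y (List.mem_append_left _ hy)) a e ha
    have h2 := hc _ x.2.2 _ h1 x.1 (eΓ_anti hC hxc _ (hl x hx))
    have h3 := val_mem hC hZ l₂
      (fun y hy => hl y (List.mem_append_right _ (List.mem_cons_of_mem _ hy))) _ _ h2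
    rw [show dg (l₁ ++ x :: l₂) = dg l₁ + (x.2.2 + dg l₂) by simp [dg], ← add_assoc, ← add_assoc]
    show app a ((l₁ ++ x :: l₂).map Prod.fst) ∈ _
    rw [List.map_append, app_append]
    exact h3
  push Not at hbig
  have hlen : Nat.card E * N < l.length := by
    have h1 : wt l ≤ l.length * c := by
      have h2 := List.sum_le_card_nsmul (l.map fun x => x.2.1 + 1) c (by
        intro n hn
        obtain ⟨x, hx, rfl⟩ := List.mem_map.1 hn
        exact hbig x hx)
      simpa [wt] using h2
    exact Nat.lt_of_mul_lt_mul_right (hwt.trans_le h1)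
  obtain ⟨v, hv⟩ : ∃ v : E, N ≤ (l.map fun x => x.2.2).count v := by
    by_contra hne
    push Not at hne
    have h1 : (l.map fun x => x.2.2).length ≤ ∑ v : E, N := by
      rw [← Multiset.coe_card, ← Multiset.sum_count_eq_card (s := Finset.univ) (fun a _ => Finset.mem_univ a)]
      exact Finset.sum_le_sum fun v _ => by rw [Multiset.coe_count]; exact (hne v).le
    rw [Finset.sum_const, Finset.card_univ, List.length_map, smul_eq_mul, ← Nat.card_eq_fintype_card] at h1
    omega
  obtain ⟨l₁, hl₁⟩ : ∃ l₁, l₁ = l.filter (fun x => decide (x.2.2 = v)) := ⟨_, rfl⟩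
  obtain ⟨l₂, hl₂⟩ : ∃ l₂, l₂ = l.filter (fun x => !decide (x.2.2 = v)) := ⟨_, rfl⟩
  have hperm : l.Perm (l₁ ++ l₂) := by rw [hl₁, hl₂]; exact (List.filter_append_perm _ l).symm
  have hlen₁ : N ≤ l₁.length := by
    refine hv.trans (le_of_eq ?_)
    rw [hl₁, List.count, List.countP_map, List.countP_eq_length_filter]
    congr 1
  have h0 : app a (l₁.map Prod.fst) = 0 := by
    refine hN.of_le ha (v := v) ?_ (by rwa [List.length_map])
    intro y hy
    obtain ⟨x, hx, rfl⟩ := List.mem_map.1 hy
    rw [hl₁, List.mem_filter] at hx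
    have hxv : x.2.2 = v := of_decide_eq_true hx.2
    exact hxv ▸ eΓ_le hC _ _ (hl x hx.1)
  have h1 := perm_congr hC hA (Z := Z) hperm hl a e ha fun l'' hok hlen' hwt' hdg => by
    rw [← hdg]; exact ih _ (hk ▸ hlen') l'' rfl hok (hwt'.symm ▸ hwt) a e ha
  have h2 : val a (l₁ ++ l₂) = 0 := by
    show app a ((l₁ ++ l₂).map Prod.fst) = 0
    rw [List.map_append, app_append, h0, app_zero]
  rwa [h2, sub_zero] at h1

end Gather

/-- Rewriting a deep term through a higher one. -/
theorem span {C : E → AddSubgroup M} (hC : Closed C) (c : ℕ) : ∀ (m : ℕ) (d : E),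
    eΓ C (c + m) d ≤ AddSubgroup.closure
      {x | ∃ (a : M) (e : E) (l : Word M E), a ∈ eΓ C c e ∧ Ok C l ∧ wt l = m ∧ e + dg l = d ∧
        x = val a l}
  | 0, d => fun x hx => AddSubgroup.subset_closure
      ⟨x, d, [], hx, fun _ h => absurd h List.not_mem_nil, rfl, by simp [dg], rfl⟩
  | m + 1, d => by
    refine (AddSubgroup.closure_le _).2 ?_
    rintro _ ⟨i, j, u, v, hu, hv, rfl, rfl⟩
    refine rb_closure ?_ (span hC c m i hu)
    rintro _ ⟨a, e, l, ha, hl, hw, hd, rfl⟩
    refine AddSubgroup.subset_closure ⟨a, e, l ++ [(v, 0, j)], ha, fun y hy => ?_, ?_, ?_, ?_⟩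
    · rcases List.mem_append.1 hy with hy | hy
      · exact hl y hy
      · rw [List.mem_singleton.1 hy]; exact hv
    · simp [wt, ← hw]
    · rw [← hd]; simp [dg, add_assoc]
    · show _ = app a ((l ++ [(v, 0, j)]).map Prod.fst)
      rw [List.map_append, app_append]; rfl

/-- The class bound from the derived length. -/
def classOf (n N : ℕ) : ℕ → ℕ
  | 0 => 0
  | k + 1 => classOf n N k + (n * N * classOf n N k + 1)

theorem higman [Finite E] {C : E → AddSubgroup M} (hC : Closed C) {N : ℕ} (hN : Nilp C C N) :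
    ∀ k : ℕ, eΓ C (classOf (Nat.card E) N k) ≤ eD C k := by
  intro k
  induction k with
  | zero => exact le_rfl
  | succ k ih =>
    intro d
    refine (span hC _ _ d).trans ((AddSubgroup.closure_le _).2 ?_)
    rintro _ ⟨a, e, l, ha, hl, hw, rfl, rfl⟩
    exact gather hC (eD_ideal hC k) (eD_ideal hC (k + 1)) (hN.mono (eD_le hC k) le_rfl)
      (fun i j u hu x hx => mem_eBr hu (ih j hx)) _ l rfl hl (by omega) a e (ih _ ha)

/-! ### Gradings by the integers modulo `p` -/

section Kreknin

variable {p : ℕ}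

/-- Left-normed monomials in components of degree above `k`. -/
inductive Mon (k : ℕ) (C : ZMod p → AddSubgroup M) : M → ZMod p → Prop
  | of {a : M} {d : ZMod p} (hd : k < d.val) (ha : a ∈ C d) : Mon k C a d
  | mul {w a : M} {e d : ZMod p} (hw : Mon k C w e) (hd : k < d.val) (ha : a ∈ C d) :
      Mon k C ⁅w, a⁆ (e + d)

/-- The subring generated by the components of degree above `k`. -/
def Hgh (k : ℕ) (C : ZMod p → AddSubgroup M) : ZMod p → AddSubgroup M :=
  fun d => AddSubgroup.closure {x | Mon k C x d}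

theorem Mon.mem {k : ℕ} {C : ZMod p → AddSubgroup M} (hC : Closed C) {w : M} {e : ZMod p}
    (h : Mon k C w e) : w ∈ C e := by
  induction h with
  | of hd ha => exact ha
  | mul hw hd ha ih => exact hC _ _ _ ih _ ha

theorem Hgh_closed (k : ℕ) (C : ZMod p → AddSubgroup M) : Closed (Hgh k C) := by
  have key : ∀ {a : M} {j : ZMod p}, Mon k C a j → ∀ {i : ZMod p} {u : M}, u ∈ Hgh k C i →
      ⁅u, a⁆ ∈ Hgh k C (i + j) := by
    intro a j ha
    induction ha with
    | @of a d hd ha =>
      intro i u hu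
      refine rb_closure (fun w hw => ?_) hu
      exact AddSubgroup.subset_closure (Mon.mul hw hd ha)
    | @mul w a e d hw hd ha ih =>
      intro i u hu
      rw [jacobi_left]
      refine sub_mem ?_ ?_
      · rw [← add_assoc]
        exact rb_closure (fun x hx => AddSubgroup.subset_closure (Mon.mul hx hd ha)) (ih hu)
      · rw [show i + (e + d) = i + d + e by abel]
        exact ih (rb_closure (fun x hx => AddSubgroup.subset_closure (Mon.mul hx hd ha)) hu)
  intro i j u hu v hv
  exact lb_closure (fun x hx => key hx hu) hv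

theorem Hgh_mono {k : ℕ} {C C' : ZMod p → AddSubgroup M} (h : C ≤ C') : Hgh k C ≤ Hgh k C' := by
  intro d
  refine (AddSubgroup.closure_le _).2 fun x hx => ?_
  have hx' : Mon k C x d := hx
  clear hx
  induction hx' with
  | of hd ha => exact AddSubgroup.subset_closure (Mon.of hd (h _ ha))
  | mul hw hd ha ih =>
    exact rb_closure (fun w hw => AddSubgroup.subset_closure (Mon.mul hw hd (h _ ha))) ih

theorem Hgh_zero_stable {k : ℕ} {C : ZMod p → AddSubgroup M} (hC : Closed C) {d : ZMod p} {x z : M}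
    (hz : z ∈ C 0) (hx : x ∈ Hgh k C d) : ⁅x, z⁆ ∈ Hgh k C d := by
  refine rb_closure (fun w hw => ?_) hx
  have hw' : Mon k C w d := hw
  clear hw hx
  induction hw' with
  | @of a d hd ha =>
    exact AddSubgroup.subset_closure (Mon.of hd (by simpa using hC d 0 a ha z hz))
  | @mul w a e d hw hd ha ih =>
    rw [jacobi_right]
    refine add_mem ?_ ?_
    · exact rb_closure (fun y hy => AddSubgroup.subset_closure (Mon.mul hy hd ha)) ih
    · exact AddSubgroup.subset_closure (Mon.mul hw hd (by simpa using hC d 0 a ha z hz))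

theorem Hgh_app_stable {k : ℕ} {C : ZMod p → AddSubgroup M} (hC : Closed C) {d : ZMod p} :
    ∀ (l : List M), (∀ z ∈ l, z ∈ C 0) → ∀ x, x ∈ Hgh k C d → app x l ∈ Hgh k C d := by
  intro l
  induction l with
  | nil => intro _ x hx; exact hx
  | cons z l ih =>
    intro hl x hx
    exact ih (fun y hy => hl y (List.mem_cons_of_mem _ hy)) _
      (Hgh_zero_stable hC (hl z List.mem_cons_self) hx)

/-- The errors in Kreknin's step: `m` brackets with degree zero. -/
def err (C : ZMod p → AddSubgroup M) (K : ZMod p) (m : ℕ) : AddSubgroup M :=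
  AddSubgroup.closure {x | ∃ a ∈ C K, ∃ l : List M, (∀ z ∈ l, z ∈ C 0) ∧ l.length = m ∧ x = app a l}

theorem iterate_step {C₀ : ZMod p → AddSubgroup M} {k g : ℕ} {K : ZMod p}
    (h1 : ∀ C' : ZMod p → AddSubgroup M, Closed C' → C' ≤ C₀ → eD C' g K ≤ Hgh k C' K ⊔ err C' K 1) :
    ∀ (m : ℕ) (C : ZMod p → AddSubgroup M), Closed C → C ≤ C₀ →
      eD C (m * g) K ≤ Hgh k C K ⊔ err C K m := by
  intro m
  induction m with
  | zero =>
    intro C _ _ x hx
    rw [Nat.zero_mul] at hx
    exact AddSubgroup.mem_sup_right (AddSubgroup.subset_closure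
      ⟨x, hx, [], fun _ h => absurd h List.not_mem_nil, rfl, rfl⟩)
  | succ m ih =>
    intro C hC hC0
    rw [Nat.succ_mul, eD_add]
    refine (ih _ (eD_closed hC g) ((eD_le hC g).trans hC0)).trans (sup_le ((Hgh_mono (eD_le hC g) K).trans le_sup_left) ?_)
    refine (AddSubgroup.closure_le _).2 ?_
    rintro _ ⟨a, ha, l, hl, hlen, rfl⟩
    have hl' : ∀ z ∈ l, z ∈ C 0 := fun z hz => eD_le hC g 0 (hl z hz)
    obtain ⟨y, hy, w, hw, rfl⟩ := AddSubgroup.mem_sup.1 (h1 C hC hC0 ha)
    rw [SetLike.mem_coe, app_add]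
    refine add_mem (AddSubgroup.mem_sup_left (Hgh_app_stable hC l hl' y hy)) ?_
    refine AddSubgroup.mem_sup_right ?_
    clear ha hy
    induction hw using AddSubgroup.closure_induction with
    | zero => rw [app_zero]; exact zero_mem _
    | add a b _ _ iha ihb => rw [app_add]; exact add_mem iha ihb
    | neg a _ iha =>
      have e : app (-a) l = -app a l := by
        rw [eq_neg_iff_add_eq_zero, ← app_add, neg_add_cancel, app_zero]
      rw [e]; exact neg_mem iha
    | mem x hx =>
      obtain ⟨a, ha, l₀, hl₀, hlen₀, rfl⟩ := hx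
      refine AddSubgroup.subset_closure ⟨a, ha, l₀ ++ l, fun z hz => ?_, ?_, (app_append _ _ _).symm⟩
      · rcases List.mem_append.1 hz with hz | hz
        exacts [hl₀ z hz, hl' z hz]
      · rw [List.length_append, hlen₀, hlen, add_comm]

theorem err_eq_bot {C : ZMod p → AddSubgroup M} {N : ℕ}
    (hN : ∀ (d : ZMod p) (a : M) (l : List M), a ∈ C d → (∀ z ∈ l, z ∈ C 0) → l.length = N → app a l = 0)
    (K : ZMod p) : err C K N = ⊥ := by
  refine le_bot_iff.1 ((AddSubgroup.closure_le _).2 ?_)
  rintro _ ⟨a, ha, l, hl, hlen, rfl⟩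
  exact hN K a l ha hl hlen

variable [Fact p.Prime]

theorem step {C : ZMod p → AddSubgroup M} (hC : Closed C) {k : ℕ} (hk : k + 1 < p) {u : M} {i : ZMod p}
    (hu : Mon k C u i) : ∀ j : ZMod p, ∀ v ∈ C j, i + j = ((k + 1 : ℕ) : ZMod p) →
      ⁅u, v⁆ ∈ Hgh (k + 1) C ((k + 1 : ℕ) : ZMod p) ⊔ err C ((k + 1 : ℕ) : ZMod p) 1 := by
  haveI : NeZero p := ⟨(Fact.out : p.Prime).ne_zero⟩
  obtain ⟨K, hK⟩ : ∃ K : ZMod p, K = ((k + 1 : ℕ) : ZMod p) := ⟨_, rfl⟩
  have hKv : K.val = k + 1 := by rw [hK, ZMod.val_natCast_of_lt hk]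
  have hval : ∀ d j : ZMod p, k + 1 < d.val → d + j = K → k + 1 < j.val := by
    intro d j hd hdj
    by_contra hle
    have h1 := ZMod.val_add d j
    rw [hdj, hKv] at h1
    rcases lt_or_ge (d.val + j.val) p with hlt | hge
    · rw [Nat.mod_eq_of_lt hlt] at h1; omega
    · rw [Nat.mod_eq_sub_mod hge, Nat.mod_eq_of_lt (by have := ZMod.val_lt d; omega)] at h1
      have := ZMod.val_lt d
      omega
  have herr : ∀ a ∈ C K, ∀ z ∈ C 0, ⁅a, z⁆ ∈ err C K 1 := fun a ha z hz =>
    AddSubgroup.subset_closure ⟨a, ha, [z],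
      fun y hy => List.mem_singleton.1 hy ▸ hz, rfl, rfl⟩
  rw [← hK]
  induction hu with
  | @of a d hd ha =>
    intro j v hv hdj
    rcases (Nat.succ_le_of_lt hd).eq_or_lt with heq | hlt
    · have hdK : d = K := ZMod.val_injective p (by omega)
      rw [hdK] at hdj ha
      have hv0 : v ∈ C 0 := by rwa [add_eq_left.1 hdj] at hv
      exact AddSubgroup.mem_sup_right (herr a ha v hv0)
    · rw [← hdj]
      exact AddSubgroup.mem_sup_left
        (AddSubgroup.subset_closure (Mon.mul (Mon.of hlt ha) (hval d j hlt hdj) hv))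
  | @mul w a e d hw hd ha ih =>
    intro j v hv hdj
    rw [jacobi_right]
    refine add_mem ?_ (ih (d + j) _ (hC d j a ha v hv) (by rw [← hdj]; abel))
    have hwv := hC e j w (hw.mem hC) v hv
    rcases (Nat.succ_le_of_lt hd).eq_or_lt with heq | hlt
    · have hdK : d = K := ZMod.val_injective p (by omega)
      rw [hdK] at hdj ha
      have h0 : e + j = 0 := add_eq_right.1 (show e + j + K = K by rw [add_right_comm]; exact hdj)
      rw [h0] at hwv
      rw [← lie_skew]
      exact neg_mem (AddSubgroup.mem_sup_right (herr a ha _ hwv))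
    · have he : e + j + d = K := by rw [← hdj]; abel
      rw [← he]
      exact AddSubgroup.mem_sup_left (AddSubgroup.subset_closure
        (Mon.mul (Mon.of (hval d (e + j) hlt (by rw [← he]; abel)) hwv) hlt ha))

/-- The derived length needed to reach the subring generated in degrees above `k`. -/
def lenAbove (N : ℕ) : ℕ → ℕ
  | 0 => N
  | k + 1 => lenAbove N k + N * (lenAbove N k + 1)

theorem kreknin_aux (N : ℕ) : ∀ (k : ℕ), k < p → ∀ (C : ZMod p → AddSubgroup M), Closed C →
    (∀ (d : ZMod p) (a : M) (l : List M), a ∈ C d → (∀ z ∈ l, z ∈ C 0) → l.length = N → app a l = 0) →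
    ∀ d, eD C (lenAbove N k) d ≤ Hgh k C d := by
  haveI : NeZero p := ⟨(Fact.out : p.Prime).ne_zero⟩
  intro k
  induction k with
  | zero =>
    intro _ C hC hN d
    rcases eq_or_ne d 0 with rfl | hd
    · have h1 := iterate_step (C₀ := C) (k := 0) (g := 1) (K := (0 : ZMod p)) (fun C' hC' _ => ?_) N C hC le_rfl
      · rw [err_eq_bot hN, sup_bot_eq, Nat.mul_one] at h1
        exact h1
      refine (AddSubgroup.closure_le _).2 ?_
      rintro _ ⟨i, j, u, v, hu, hv, hij, rfl⟩
      rcases eq_or_ne i 0 with rfl | hi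
      · rw [zero_add] at hij
        refine AddSubgroup.mem_sup_right (AddSubgroup.subset_closure
          ⟨u, hu, [v], fun y hy => ?_, rfl, rfl⟩)
        rw [List.mem_singleton.1 hy, ← hij]; exact hv
      · have hj : j ≠ 0 := fun h => hi (by rwa [h, add_zero] at hij)
        rw [← hij]
        exact AddSubgroup.mem_sup_left (AddSubgroup.subset_closure (Mon.mul
          (Mon.of (Nat.pos_of_ne_zero fun h => hi ((ZMod.val_eq_zero i).1 h)) hu)
          (Nat.pos_of_ne_zero fun h => hj ((ZMod.val_eq_zero j).1 h)) hv))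
    · intro x hx
      exact AddSubgroup.subset_closure (Mon.of (Nat.pos_of_ne_zero
        (fun h => hd ((ZMod.val_eq_zero d).1 h))) (eD_le hC _ d hx))
  | succ k ih =>
    intro hk C hC hN d
    obtain ⟨f, hf⟩ : ∃ f, f = lenAbove N k := ⟨_, rfl⟩
    obtain ⟨g, hg⟩ : ∃ g, g = N * (f + 1) := ⟨_, rfl⟩
    rw [show lenAbove N (k + 1) = f + g by rw [hg, hf]; rfl, eD_add]
    have h1 := ih (by omega) (eD C g) (eD_closed hC g) (fun d a l ha hl hlen =>
      hN d a l (eD_le hC g d ha) (fun z hz => eD_le hC g 0 (hl z hz)) hlen) d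
    rw [← hf] at h1
    refine h1.trans ?_
    have hgen : ∀ (a : M) (d : ZMod p), k < d.val → a ∈ eD C g d → a ∈ Hgh (k + 1) C d := by
      intro a d hd ha
      rcases (Nat.succ_le_of_lt hd).eq_or_lt with heq | hlt
      · have hdK : d = ((k + 1 : ℕ) : ZMod p) :=
          ZMod.val_injective p (by rw [ZMod.val_natCast_of_lt hk]; omega)
        subst hdK
        -- iterate the step along the derived series
        have h2 := iterate_step (C₀ := C) (k := k + 1) (g := f + 1) (K := ((k + 1 : ℕ) : ZMod p))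
          (fun C' hC' hle => by
            refine (AddSubgroup.closure_le _).2 ?_
            rintro _ ⟨i, j, u, v, hu, hv, hij, rfl⟩
            have h3 := ih (by omega) C' hC' (fun d a l ha hl hlen =>
              hN d a l (hle d ha) (fun z hz => hle 0 (hl z hz)) hlen) i
            rw [← hf] at h3
            exact rb_closure (fun w hw => step hC' hk hw j v (eD_le hC' f j hv) hij) (h3 hu))
          N C hC le_rfl
        rw [err_eq_bot hN, sup_bot_eq, ← hg] at h2
        exact h2 ha
      · exact AddSubgroup.subset_closure (Mon.of hlt (eD_le hC _ d ha))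
    refine (AddSubgroup.closure_le _).2 fun x hx => ?_
    have hx' : Mon k (eD C g) x d := hx
    clear hx h1
    induction hx' with
    | of hd ha => exact hgen _ _ hd ha
    | mul hw hd ha ih' => exact Hgh_closed (k + 1) C _ _ _ ih' _ (hgen _ _ hd ha)

/-- Kreknin's theorem when the component of degree zero acts nilpotently. -/
theorem kreknin (N : ℕ) {C : ZMod p → AddSubgroup M} (hC : Closed C)
    (hN : ∀ (d : ZMod p) (a : M) (l : List M), a ∈ C d → (∀ z ∈ l, z ∈ C 0) → l.length = N → app a l = 0) :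
    eD C (lenAbove N (p - 1)) = ⊥ := by
  haveI : NeZero p := ⟨(Fact.out : p.Prime).ne_zero⟩
  funext d
  refine le_bot_iff.1 ((kreknin_aux N (p - 1) (Nat.sub_lt (NeZero.pos p) one_pos) C hC hN d).trans ?_)
  refine (AddSubgroup.closure_le _).2 fun x hx => ?_
  have hx' : Mon (p - 1) C x d := hx
  cases hx' with
  | of hd ha => have := ZMod.val_lt d; omega
  | @mul w a e d hw hd ha => have := ZMod.val_lt d; omega

end Kreknin

/-! ### Elementary abelian gradings -/

section Elementary

variable {p : ℕ}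

/-- The class bound for `s` independent directions. -/
def classBound (p n N : ℕ) : ℕ → ℕ
  | 0 => n * N + N + 1
  | s + 1 => classOf n N (lenAbove (n * N * classBound p n N s + 1) (p - 1))

variable [Fact p.Prime] {k : ℕ}

/-- The family restricted to a subgroup of the index group. -/
def res (C : (Fin k → ZMod p) → AddSubgroup M) (S : AddSubgroup (Fin k → ZMod p)) :
    (Fin k → ZMod p) → AddSubgroup M := fun v => ⨆ _ : v ∈ S, C v

theorem mem_res {C : (Fin k → ZMod p) → AddSubgroup M} {S : AddSubgroup (Fin k → ZMod p)}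
    {v : Fin k → ZMod p} {x : M} (h : x ∈ res C S v) : x = 0 ∨ (v ∈ S ∧ x ∈ C v) := by
  by_cases hv : v ∈ S
  · right
    unfold res at h
    rw [iSup_pos hv] at h
    exact ⟨hv, h⟩
  · left
    unfold res at h
    rw [iSup_neg hv] at h
    exact AddSubgroup.mem_bot.1 h

theorem le_res {C : (Fin k → ZMod p) → AddSubgroup M} {S : AddSubgroup (Fin k → ZMod p)}
    {v : Fin k → ZMod p} {x : M} (hv : v ∈ S) (h : x ∈ C v) : x ∈ res C S v :=
  AddSubgroup.mem_iSup_of_mem hv h

theorem res_le (C : (Fin k → ZMod p) → AddSubgroup M) (S : AddSubgroup (Fin k → ZMod p)) :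
    res C S ≤ C := fun _ => iSup_le fun _ => le_rfl

theorem res_closed {C : (Fin k → ZMod p) → AddSubgroup M} (hC : Closed C)
    (S : AddSubgroup (Fin k → ZMod p)) : Closed (res C S) := by
  intro i j u hu v hv
  rcases mem_res hu with rfl | ⟨hi, hu'⟩
  · rw [zero_lie]; exact zero_mem _
  rcases mem_res hv with rfl | ⟨hj, hv'⟩
  · rw [lie_zero]; exact zero_mem _
  exact le_res (add_mem hi hj) (hC i j u hu' v hv')

theorem nilpotent_res {N : ℕ} {C : (Fin k → ZMod p) → AddSubgroup M} (hC : Closed C) (hN : Nilp C C N) :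
    ∀ (s : ℕ), s ≤ k → ∀ (S : AddSubgroup (Fin k → ZMod p)),
      (∀ v ∈ S, ∀ j : Fin k, s ≤ (j : ℕ) → v j = 0) →
      eΓ (res C S) (classBound p (p ^ k) N s) = ⊥ := by
  haveI : NeZero p := ⟨(Fact.out : p.Prime).ne_zero⟩
  have hcard : Nat.card (Fin k → ZMod p) = p ^ k := by
    rw [Nat.card_fun, Nat.card_zmod, Nat.card_fin]
  have hSC : ∀ S, res C S ≤ C := res_le C
  intro s
  induction s with
  | zero =>
    intro _ S hS
    have hzero : ∀ v ∈ S, v = 0 := fun v hv => funext fun j => hS v hv j (Nat.zero_le _)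
    have key : ∀ m d, eΓ (res C S) m d ≤ AddSubgroup.closure
        {x | ∃ a, a ∈ C 0 ∧ ∃ l : List M, (∀ z ∈ l, z ∈ C 0) ∧ l.length = m ∧ x = app a l} := by
      intro m
      induction m with
      | zero =>
        intro d x hx
        rcases mem_res (show x ∈ res C S d from hx) with rfl | ⟨hd, hx'⟩
        · exact zero_mem _
        · rw [hzero d hd] at hx'
          exact AddSubgroup.subset_closure ⟨x, hx', [], fun _ h => absurd h List.not_mem_nil, rfl, rfl⟩
      | succ m ihm =>
        intro d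
        refine (AddSubgroup.closure_le _).2 ?_
        rintro _ ⟨i, j, u, v, hu, hv, rfl, rfl⟩
        rcases mem_res hv with rfl | ⟨hj, hv'⟩
        · rw [lie_zero]; exact zero_mem _
        rw [hzero j hj] at hv'
        refine rb_closure ?_ (ihm i hu)
        rintro _ ⟨a, ha, l, hl, hlen, rfl⟩
        refine AddSubgroup.subset_closure ⟨a, ha, l ++ [v], fun z hz => ?_, ?_, by rw [app_append]; rfl⟩
        · rcases List.mem_append.1 hz with hz | hz
          exacts [hl z hz, List.mem_singleton.1 hz ▸ hv']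
        · rw [List.length_append, hlen]; rfl
    funext d
    refine le_bot_iff.1 ((key _ d).trans ((AddSubgroup.closure_le _).2 ?_))
    rintro _ ⟨a, ha, l, hl, hlen, rfl⟩
    exact hN.of_le (d := 0) (v := 0) ha hl (by rw [hlen]; simp [classBound]; omega)
  | succ s ih =>
    intro hs S hS
    obtain ⟨i, hi⟩ : ∃ i : Fin k, i = ⟨s, hs⟩ := ⟨_, rfl⟩
    obtain ⟨S0, hS0⟩ : ∃ S0 : AddSubgroup (Fin k → ZMod p),
        S0 = S ⊓ (Pi.evalAddMonoidHom (fun _ : Fin k => ZMod p) i).ker := ⟨_, rfl⟩
    have hS0s : ∀ v ∈ S0, ∀ j : Fin k, s ≤ (j : ℕ) → v j = 0 := by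
      intro v hv j hj
      rw [hS0] at hv
      rcases hj.eq_or_lt with he | hlt
      · rw [show j = i from hi ▸ Fin.ext he.symm]; exact hv.2
      · exact hS v hv.1 j hlt
    obtain ⟨c, hc⟩ : ∃ c, c = classBound p (p ^ k) N s := ⟨_, rfl⟩
    have hM : eΓ (res C S0) c = ⊥ := hc ▸ ih (by omega) S0 hS0s
    -- the part of degree zero acts nilpotently
    have hact : ∀ (l : List (M × (Fin k → ZMod p))), l.length = p ^ k * N * c + 1 →
        (∀ x ∈ l, x.1 ∈ res C S0 x.2) → ∀ (d : Fin k → ZMod p) (a : M), a ∈ C d →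
        app a (l.map Prod.fst) = 0 := by
      intro l hlen hl d a ha
      have h1 := gather (C := res C S0) (A := C) (Z := fun _ => ⊥) (res_closed hC S0)
        (fun i j u hu v hv => hC i j u hu v (hSC S0 j hv))
        (fun i j u hu v _ => by rw [AddSubgroup.mem_bot] at hu ⊢; rw [hu, zero_lie])
        (N := N) (c := c) (fun d v a l ha hl hlen => hN d v a l ha (fun x hx => hSC S0 v (hl x hx)) hlen)
        (fun d v u _ x hx => by
          rw [hM, Pi.bot_apply, AddSubgroup.mem_bot] at hx
          rw [AddSubgroup.mem_bot, hx, lie_zero])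
        _ (l.map fun x => (x.1, 0, x.2)) rfl (fun y hy => by
          obtain ⟨x, hx, rfl⟩ := List.mem_map.1 hy
          exact hl x hx)
        (by
          have : wt (l.map fun x => (x.1, (0 : ℕ), x.2)) = l.length := by
            simp [wt, Function.comp_def]
          rw [this, hlen, hcard]; omega) a d ha
      rw [AddSubgroup.mem_bot, val, List.map_map] at h1
      exact h1
    -- the coarse family
    obtain ⟨Cb, hCb⟩ : ∃ Cb : ZMod p → AddSubgroup M,
        ∀ j, Cb j = ⨆ v : {v : Fin k → ZMod p // v i = j}, res C S v.1 := ⟨_, fun j => rfl⟩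
    have hmemCb : ∀ v x, x ∈ res C S v → x ∈ Cb (v i) := fun v x hx => by
      rw [hCb]
      exact le_iSup (fun w : {w : Fin k → ZMod p // w i = v i} => res C S w.1) ⟨v, rfl⟩ hx
    have hCbc : Closed Cb := by
      intro j₁ j₂ u hu v hv
      rw [hCb] at hu hv
      refine AddSubgroup.iSup_induction _ (C := fun u => ⁅u, v⁆ ∈ Cb (j₁ + j₂)) hu ?_ ?_ ?_
      · rintro ⟨v₁, rfl⟩ u hu
        refine AddSubgroup.iSup_induction _ (C := fun v => ⁅u, v⁆ ∈ Cb (v₁ i + j₂)) hv ?_ ?_ ?_
        · rintro ⟨v₂, rfl⟩ v hv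
          exact hmemCb (v₁ + v₂) _ (res_closed hC S _ _ u hu v hv)
        · rw [lie_zero]; exact zero_mem _
        · intro a b ha hb; rw [lie_add]; exact add_mem ha hb
      · rw [zero_lie]; exact zero_mem _
      · intro a b ha hb; rw [add_lie]; exact add_mem ha hb
    have hCbN : ∀ (j : ZMod p) (a : M) (l : List M), a ∈ Cb j → (∀ z ∈ l, z ∈ Cb 0) →
        l.length = p ^ k * N * c + 1 → app a l = 0 := by
      have key : ∀ (l : List M), (∀ z ∈ l, z ∈ Cb 0) → ∀ (pre : List (M × (Fin k → ZMod p))),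
          pre.length + l.length = p ^ k * N * c + 1 → (∀ x ∈ pre, x.1 ∈ res C S0 x.2) →
          ∀ (d : Fin k → ZMod p) (a : M), a ∈ C d → app (app a (pre.map Prod.fst)) l = 0 := by
        intro l
        induction l with
        | nil => intro _ pre hlen hpre d a ha; exact hact pre (by simpa using hlen) hpre d a ha
        | cons z l ihl =>
          intro hl pre hlen hpre d a ha
          show app ⁅app a (pre.map Prod.fst), z⁆ l = 0
          have hz := hl z List.mem_cons_self
          rw [hCb] at hz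
          refine AddSubgroup.iSup_induction _
            (C := fun z => app ⁅app a (pre.map Prod.fst), z⁆ l = 0) hz ?_ ?_ ?_
          · rintro ⟨v, hv⟩ z hz
            have hz0 : z ∈ res C S0 v := by
              rcases mem_res hz with rfl | ⟨hvS, hz'⟩
              · exact zero_mem _
              · exact le_res (hS0 ▸ ⟨hvS, hv⟩) hz'
            have h2 := ihl (fun y hy => hl y (List.mem_cons_of_mem _ hy)) (pre ++ [(z, v)])
              (by rw [List.length_append, List.length_singleton]; simp at hlen; omega)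
              (fun x hx => by
                rcases List.mem_append.1 hx with hx | hx
                exacts [hpre x hx, List.mem_singleton.1 hx ▸ hz0]) d a ha
            rwa [List.map_append, app_append] at h2
          · rw [lie_zero, app_zero]
          · intro x y hx hy; rw [lie_add, app_add, hx, hy, add_zero]
      intro j a l ha hl hlen
      rw [hCb] at ha
      refine AddSubgroup.iSup_induction _ (C := fun a => app a l = 0) ha ?_ ?_ ?_
      · intro v a ha
        exact key l hl [] (by simpa using hlen) (fun _ h => absurd h List.not_mem_nil) v.1 a (hSC S v.1 ha)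
      · exact app_zero l
      · intro x y hx hy; rw [app_add, hx, hy, add_zero]
    have hD : ∀ r v, eD (res C S) r v ≤ eD Cb r (v i) := by
      intro r
      induction r with
      | zero => intro v x hx; exact hmemCb v x hx
      | succ r ihr =>
        intro v
        refine (AddSubgroup.closure_le _).2 ?_
        rintro _ ⟨a, b, u, w, hu, hw, rfl, rfl⟩
        exact mem_eBr (ihr a hu) (ihr b hw)
    funext d
    refine le_bot_iff.1 ?_
    show eΓ (res C S) (classOf (p ^ k) N (lenAbove (p ^ k * N * classBound p (p ^ k) N s + 1) (p - 1))) d ≤ _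
    rw [← hc]
    have hh := higman (res_closed hC S) (hN.mono (hSC S) (hSC S))
      (lenAbove (p ^ k * N * c + 1) (p - 1))
    rw [hcard] at hh
    refine (hh d).trans ((hD _ d).trans ?_)
    rw [kreknin _ hCbc hCbN]
    exact le_rfl

/-- A Lie ring graded by an elementary abelian group of order `p ^ k` whose components act
nilpotently of degree `N` is nilpotent of bounded class. -/
theorem nilpotent_bound {N : ℕ} {C : (Fin k → ZMod p) → AddSubgroup M} (hC : Closed C)
    (hN : Nilp C C N) : eΓ C (classBound p (p ^ k) N k) = ⊥ := by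
  have h : res C ⊤ = C := funext fun v => le_antisymm (res_le C ⊤ v) fun x hx => le_res trivial hx
  have h1 := nilpotent_res hC hN k le_rfl ⊤ fun v _ j hj => absurd j.2 (by omega)
  rwa [h] at h1

end Elementary

end Cfsg.Agent.Solv.GradedNil
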