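import Cfsg.Agent.Lib.Solv.FPFModule
import Cfsg.Agent.Lib.Solv.ConjRep
import Cfsg.Agent.Lib.Solv.HallHigman
import Cfsg.Agent.Lib.Solv.FittingTower
import Cfsg.Agent.Lib.Solv.Subnormal
import Cfsg.Agent.Lib.Fusion.Cores

/-!
The theorem of Shult and Gross: a solvable group with a fixed-point-free automorphism of order `p ^ n`,
`p` odd, has Fitting height at most `n`.
-/

set_option autoImplicit false
set_option linter.style.haveILetI false

open Cfsg
open scoped commutatorElement Pointwise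

namespace Cfsg.Agent.Solv.FPFOp

universe u

variable {G : Type u} [Group G] [Finite G] {p : ℕ} [Fact p.Prime]

/-- A fixed-point-free automorphism of `p`-power order forces the order to be prime to `p`. -/
theorem not_dvd_card (σ : MulAut G) {k : ℕ} (hσ : σ ^ p ^ k = 1) (hfpf : ∀ g, σ g = g → g = 1) :
    ¬ p ∣ Nat.card G := by
  classical
  haveI := Fintype.ofFinite G
  intro hdvd
  have hπ1 : ∀ x, σ.toEquiv x ≠ 1 ↔ x ≠ 1 := fun x => (map_eq_one_iff σ σ.injective).not
  have hsub : ¬ p ∣ Nat.card {x : G // x ≠ 1} := by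
    rw [Nat.card_eq_fintype_card, Fintype.card_subtype_compl, Fintype.card_subtype_eq,
      ← Nat.card_eq_fintype_card]
    intro h
    have h1 := Nat.dvd_sub hdvd h
    rw [show Nat.card G - (Nat.card G - 1) = 1 by have := Nat.card_pos (α := G); omega] at h1
    exact (Fact.out : p.Prime).not_dvd_one h1
  have hpow : ∀ (i : ℕ) (x : {x : G // x ≠ 1}),
      (((Equiv.subtypeEquiv σ.toEquiv (fun a => (hπ1 a).symm) : Equiv.Perm {x : G // x ≠ 1}) ^ i) x).1 = (σ ^ i) x.1 := by
    intro i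
    induction i with
    | zero => intro x; rfl
    | succ i ih => intro x; rw [pow_succ', Equiv.Perm.mul_apply, pow_succ', MulAut.mul_apply, ← ih]; rfl
  obtain ⟨a, ha⟩ := exists_fixed_of_not_dvd
    (Equiv.subtypeEquiv σ.toEquiv (fun a => (hπ1 a).symm) : Equiv.Perm {x : G // x ≠ 1}) (k := k)
    (Equiv.ext fun x => Subtype.ext (by rw [hpow, hσ]; rfl)) hsub
  exact a.2 (hfpf a.1 (congrArg Subtype.val ha))

/-- A fixed-point-free automorphism of `p`-power order passes to invariant quotients. -/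
theorem exists_quotient (σ : MulAut G) {k : ℕ} (hσ : σ ^ p ^ k = 1) (hfpf : ∀ g, σ g = g → g = 1)
    (N : Subgroup G) [N.Normal] (hN : N.map σ.toMonoidHom = N) :
    ∃ σb : MulAut (G ⧸ N), (∀ (i : ℕ) (a : G), (σb ^ i) (a : G ⧸ N) = (((σ ^ i) a : G) : G ⧸ N)) ∧
      σb ^ p ^ k = 1 ∧ ∀ x, σb x = x → x = 1 := by
  let σb : MulAut (G ⧸ N) := QuotientGroup.congr N N σ hN
  have hσb : ∀ (i : ℕ) (a : G), (σb ^ i) (a : G ⧸ N) = (((σ ^ i) a : G) : G ⧸ N) := by
    intro i
    induction i with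
    | zero => intro a; rfl
    | succ i ih =>
      intro a
      rw [pow_succ', MulAut.mul_apply, ih, pow_succ', MulAut.mul_apply]
      exact QuotientGroup.congr_mk _ _ σ hN _
  refine ⟨σb, hσb, MulEquiv.ext fun x => ?_, fun x hx => ?_⟩
  · obtain ⟨b, rfl⟩ := QuotientGroup.mk_surjective x
    rw [hσb, hσ, MulAut.one_apply, MulAut.one_apply]
  · obtain ⟨b, rfl⟩ := QuotientGroup.mk_surjective x
    have h := hσb 1 b
    rw [pow_one, pow_one, hx] at h
    obtain ⟨c, hc, hbc⟩ := exists_fixed_in_left_coset σ hσ N (fun y hy => hN ▸ ⟨y, hy, rfl⟩)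
      (fun h => not_dvd_card σ hσ hfpf (h.trans (Subgroup.card_subgroup_dvd_card N))) (QuotientGroup.eq.1 h)
    rw [hfpf c hc, mul_one, N.inv_mem_iff] at hbc
    exact (QuotientGroup.eq_one_iff b).2 hbc

/-- A Sylow subgroup of an invariant subgroup which is itself invariant. -/
theorem exists_invariant_sylow (σ : MulAut G) {k : ℕ} (hσ : σ ^ p ^ k = 1) (hfpf : ∀ g, σ g = g → g = 1)
    (q : ℕ) [Fact q.Prime] (L : Subgroup G) (hL : ∀ x ∈ L, σ x ∈ L) :
    ∃ P : Sylow q L, ∀ x ∈ (P : Subgroup L).map L.subtype, σ x ∈ (P : Subgroup L).map L.subtype := by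
  let f : L →* L := ((σ : G →* G).comp L.subtype).codRestrict L fun x => hL x x.2
  have hf : Function.Injective f := fun x y h => Subtype.ext (σ.injective (congrArg Subtype.val h))
  let σL : MulAut L := MulEquiv.ofBijective f (Finite.injective_iff_bijective.1 hf)
  have hσL : ∀ (i : ℕ) (x : L), (((σL ^ i) x : L) : G) = (σ ^ i) (x : G) := by
    intro i
    induction i with
    | zero => intro x; rfl
    | succ i ih =>
      intro x
      rw [pow_succ', MulAut.mul_apply, pow_succ', MulAut.mul_apply, ← ih]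
      rfl
  have hσLP : σL ^ p ^ k = 1 := MulEquiv.ext fun x => Subtype.ext (by rw [hσL, hσ]; rfl)
  have hnd : ¬ p ∣ Nat.card (Sylow q L) := fun h => by
    refine not_dvd_card σ hσ hfpf (h.trans ?_)
    exact ((Sylow.card_dvd_index (Classical.arbitrary (Sylow q L))).trans (Subgroup.index_dvd_card _)).trans
      (Subgroup.card_subgroup_dvd_card L)
  obtain ⟨P, hP⟩ := exists_fixed_of_not_dvd (MulAction.toPermHom (MulAut L) (Sylow q L) σL) (k := k)
    (by rw [← map_pow, hσLP, map_one]) hnd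
  refine ⟨P, ?_⟩
  rintro _ ⟨x, hx, rfl⟩
  refine ⟨σL x, ?_, rfl⟩
  have h1 : σL • x ∈ σL • (P : Subgroup L) := Subgroup.smul_mem_pointwise_smul x σL _ hx
  have h2 : ((σL • P : Sylow q L) : Subgroup L) = (P : Subgroup L) := congrArg _ hP
  rw [Sylow.pointwise_smul_def] at h2
  rw [h2] at h1
  exact h1

/-- The centralizer statement on one invariant elementary abelian normal subgroup. -/
theorem fix_on_section {q r n : ℕ} [Fact q.Prime] [Fact r.Prime] (hp2 : p ≠ 2) (hqp : q ≠ p) (hqr : q ≠ r)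
    (hrp : r ≠ p) (σ : MulAut G) (hσ : σ ^ p ^ (n + 1) = 1) (hfpf : ∀ g, σ g = g → g = 1)
    (V : Subgroup G) [V.Normal] (hV : Cfsg.IsElementaryAbelian r V) (hVσ : ∀ x ∈ V, σ x ∈ V)
    (Q : Subgroup G) (hQ : IsPGroup q Q) (hQσ : ∀ x ∈ Q, σ x ∈ Q) {a : G} (ha : a ∈ Q) :
    ∀ v ∈ V, (a⁻¹ * (σ ^ p ^ n) a) * v = v * (a⁻¹ * (σ ^ p ^ n) a) := by
  classical
  let F := AlgebraicClosure (ZMod r)
  haveI : CharP F r := charP_of_injective_algebraMap (algebraMap (ZMod r) F).injective r
  have hcast : ∀ s : ℕ, s.Prime → s ≠ r → (s : F) ≠ 0 := fun s hs hsr h => by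
    rw [CharP.cast_eq_zero_iff F r] at h
    exact hsr ((Nat.prime_dvd_prime_iff_eq (Fact.out : r.Prime) hs).1 h).symm
  letI : CommGroup V := { (inferInstance : Group V) with mul_comm := hV.1.is_comm.comm }
  let cV : G →* MulAut V := MulAut.conjNormal
  let α : G →* AddMonoid.End (Additive V) :=
    { toFun := fun g => MonoidHom.toAdditive (cV g).toMonoidHom
      map_one' := DFunLike.ext _ _ fun m => by
        show Additive.ofMul (cV 1 (Additive.toMul m)) = m
        rw [map_one, MulAut.one_apply]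
        rfl
      map_mul' := fun a b => DFunLike.ext _ _ fun m => by
        show Additive.ofMul (cV (a * b) (Additive.toMul m)) = Additive.ofMul (cV a (cV b (Additive.toMul m)))
        rw [map_mul, MulAut.mul_apply] }
  have hα : ∀ (g : G) (m : Additive V),
      ((Additive.toMul (α g m) : V) : G) = g * (Additive.toMul m : V) * g⁻¹ :=
    fun g m => MulAut.conjNormal_apply g (Additive.toMul m)
  let sV : V →* V := ((σ : G →* G).comp V.subtype).codRestrict V fun x => hVσ x x.2
  let s : AddMonoid.End (Additive V) := MonoidHom.toAdditive sV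
  have hs : ∀ m : Additive V, ((Additive.toMul (s m) : V) : G) = σ (Additive.toMul m : V) := fun m => rfl
  have hspow : ∀ (i : ℕ) (m : Additive V),
      ((Additive.toMul ((s ^ i) m) : V) : G) = (σ ^ i) (Additive.toMul m : V) := by
    intro i
    induction i with
    | zero => intro m; rfl
    | succ i ih =>
      intro m
      rw [pow_succ', show (s * s ^ i) m = s ((s ^ i) m) from rfl, hs, ih, pow_succ', MulAut.mul_apply]
  have hext : ∀ f g : AddMonoid.End (Additive V),
      (∀ m, ((Additive.toMul (f m) : V) : G) = ((Additive.toMul (g m) : V) : G)) → f = g := fun f g h =>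
    DFunLike.ext _ _ fun m => Additive.toMul.injective (Subtype.ext (h m))
  obtain ⟨k, Θ, hΘ, -⟩ := CRep.exists_baseChange (M := Additive V) (p := r) (fun m => by
    apply Additive.toMul.injective
    rw [toMul_nsmul, toMul_zero]
    exact Subtype.ext (by rw [SubmonoidClass.coe_pow]; exact hV.2 _ (Additive.toMul m).2)) F
  let fQ : Q →* Q := ((σ : G →* G).comp Q.subtype).codRestrict Q fun x => hQσ x x.2
  have hfQ : Function.Injective fQ := fun x y h => Subtype.ext (σ.injective (congrArg Subtype.val h))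
  let σQ : MulAut Q := MulEquiv.ofBijective fQ (Finite.injective_iff_bijective.1 hfQ)
  have hσQ : ∀ (i : ℕ) (x : Q), (((σQ ^ i) x : Q) : G) = (σ ^ i) (x : G) := by
    intro i
    induction i with
    | zero => intro x; rfl
    | succ i ih =>
      intro x
      rw [pow_succ', MulAut.mul_apply, pow_succ', MulAut.mul_apply, ← ih]
      rfl
  let ρ : Q →* Module.End F (Fin k → F) := Θ.toMonoidHom.comp (α.comp Q.subtype)
  have hsP : s ^ p ^ (n + 1) = 1 := hext _ _ fun m => by rw [hspow, hσ]; rfl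
  have hsum : (∑ i ∈ Finset.range (p ^ (n + 1)), s ^ i) = 0 := by
    refine DFunLike.ext _ _ fun m => ?_
    have h1 : s ((∑ i ∈ Finset.range (p ^ (n + 1)), s ^ i : AddMonoid.End (Additive V)) m) =
        (∑ i ∈ Finset.range (p ^ (n + 1)), s ^ i : AddMonoid.End (Additive V)) m := by
      have h2 : s * ∑ i ∈ Finset.range (p ^ (n + 1)), s ^ i = ∑ i ∈ Finset.range (p ^ (n + 1)), s ^ i := by
        have e1 := Finset.sum_range_succ' (fun i => s ^ i) (p ^ (n + 1))
        have e2 := Finset.sum_range_succ (fun i => s ^ i) (p ^ (n + 1))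
        rw [e1, pow_zero, hsP] at e2
        rw [Finset.mul_sum]
        refine Eq.trans (Finset.sum_congr rfl fun i _ => ?_) (add_right_cancel e2)
        rw [← pow_succ']
      exact DFunLike.congr_fun h2 m
    have h3 := hfpf _ (congrArg (fun x => ((Additive.toMul x : V) : G)) h1)
    exact Additive.toMul.injective (Subtype.ext h3)
  have hfix : ∀ w, Θ s w = w → w = 0 := by
    intro w hw
    have h1 : ∀ i : ℕ, ((Θ s) ^ i) w = w := by
      intro i
      induction i with
      | zero => rfl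
      | succ i ih => rw [pow_succ', Module.End.mul_apply, ih, hw]
    have h2 := congrArg (fun f => Θ f w) hsum
    simp only [map_sum, map_pow, map_zero, LinearMap.sum_apply, LinearMap.zero_apply] at h2
    rw [Finset.sum_congr rfl (fun i _ => h1 i), Finset.sum_const, Finset.card_range,
      ← Nat.cast_smul_eq_nsmul F, smul_eq_zero, Nat.cast_pow] at h2
    exact h2.resolve_left (pow_ne_zero _ (hcast p Fact.out hrp.symm))
  have hmain := centralises (K := F) hp2 hqp (hcast q Fact.out hqr) (hcast p Fact.out hrp.symm) hQ σQ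
    (MulEquiv.ext fun x => Subtype.ext (by rw [hσQ, hσ]; rfl))
    (fun x hx => Subtype.ext (hfpf _ (congrArg Subtype.val hx))) (n := n) ρ (Θ s)
    (by rw [← map_pow, hsP, map_one])
    (fun x => by
      show Θ s * Θ (α (x : G)) = Θ (α (σ (x : G))) * Θ s
      rw [← map_mul, ← map_mul]
      refine congrArg Θ (hext _ _ fun m => ?_)
      show ((Additive.toMul (s (α (x : G) m)) : V) : G) = ((Additive.toMul (α (σ (x : G)) (s m)) : V) : G)
      rw [hs, hα, hα, hs, map_mul, map_mul, map_inv])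
    hfix ⟨a, ha⟩
  have h4 : α ((σ ^ p ^ n) a) = α a := hΘ (by rw [← hσQ (p ^ n) ⟨a, ha⟩]; exact hmain)
  intro v hv
  have h5 := hα ((σ ^ p ^ n) a) (Additive.ofMul ⟨v, hv⟩)
  rw [h4, hα] at h5
  change a * v * a⁻¹ = (σ ^ p ^ n) a * v * ((σ ^ p ^ n) a)⁻¹ at h5
  calc (a⁻¹ * (σ ^ p ^ n) a) * v
      = a⁻¹ * ((σ ^ p ^ n) a * v * ((σ ^ p ^ n) a)⁻¹) * (σ ^ p ^ n) a := by group
    _ = v * (a⁻¹ * (σ ^ p ^ n) a) := by rw [← h5]; group

/-- An invariant `q`-subgroup and an invariant normal `r`-subgroup. -/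
theorem fix_on_pgroup {q r n : ℕ} [Fact q.Prime] [Fact r.Prime] (hp2 : p ≠ 2) (hqp : q ≠ p) (hqr : q ≠ r)
    (hrp : r ≠ p) (σ : MulAut G) (hσ : σ ^ p ^ (n + 1) = 1) (hfpf : ∀ g, σ g = g → g = 1)
    (V : Subgroup G) [V.Normal] (hV : IsPGroup r V) (hVσ : ∀ x ∈ V, σ x ∈ V)
    (Q : Subgroup G) (hQ : IsPGroup q Q) (hQσ : ∀ x ∈ Q, σ x ∈ Q) {a : G} (ha : a ∈ Q) :
    a⁻¹ * (σ ^ p ^ n) a ∈ Subgroup.centralizer (V : Set G) := by
  classical
  set Φ := (frattini ↥V).map V.subtype with hΦ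
  haveI hΦn : Φ.Normal := map_subtype_normal_of_characteristic V _
  let fV : V →* V := ((σ : G →* G).comp V.subtype).codRestrict V fun x => hVσ x x.2
  have hfVi : Function.Injective fV := fun x y h => Subtype.ext (σ.injective (congrArg Subtype.val h))
  let σV : MulAut V := MulEquiv.ofBijective fV (Finite.injective_iff_bijective.1 hfVi)
  have hΦσ : Φ.map σ.toMonoidHom = Φ := by
    refine Subgroup.eq_of_le_of_card_ge ?_ ?_
    · rintro _ ⟨_, ⟨u, hu, rfl⟩, rfl⟩
      refine ⟨σV u, ?_, rfl⟩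
      rw [← Subgroup.characteristic_iff_map_eq.1 (inferInstance : (frattini ↥V).Characteristic) σV]
      exact ⟨u, hu, rfl⟩
    · exact (Nat.card_congr (Φ.equivMapOfInjective _ σ.injective).toEquiv).le
  obtain ⟨σb, hσb, hσbP, hσbf⟩ := exists_quotient σ hσ hfpf Φ hΦσ
  have hσb1 : ∀ x : G, σb (x : G ⧸ Φ) = ((σ x : G) : G ⧸ Φ) := fun x => by
    have := hσb 1 x; rwa [pow_one, pow_one] at this
  let π := QuotientGroup.mk' Φ
  haveI : (V.map π).Normal := (inferInstance : V.Normal).map π (QuotientGroup.mk'_surjective Φ)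
  have hπ : ∀ x : V, frattini ↥V ≤ Φ.comap V.subtype := fun _ => Subgroup.le_comap_map _ _
  have hVe : Cfsg.IsElementaryAbelian r (V.map π) := by
    refine ⟨⟨⟨?_⟩⟩, ?_⟩
    · rintro ⟨_, x, hx, rfl⟩ ⟨_, y, hy, rfl⟩
      refine Subtype.ext ?_
      show π x * π y = π y * π x
      rw [← commutatorElement_eq_one_iff_mul_comm, ← map_commutatorElement]
      exact (QuotientGroup.eq_one_iff _).2
        ⟨⁅(⟨x, hx⟩ : V), ⟨y, hy⟩⁆, commutatorElement_mem_frattini hV _ _, rfl⟩
    · rintro _ ⟨x, hx, rfl⟩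
      rw [← map_pow]
      exact (QuotientGroup.eq_one_iff _).2 ⟨(⟨x, hx⟩ : V) ^ r, pow_mem_frattini hV _, rfl⟩
  have key := fix_on_section hp2 hqp hqr hrp σb hσbP hσbf (V.map π) hVe
    (by rintro _ ⟨x, hx, rfl⟩; exact ⟨σ x, hVσ x hx, (hσb1 x).symm⟩)
    (Q.map π) (hQ.map π)
    (by rintro _ ⟨x, hx, rfl⟩; exact ⟨σ x, hQσ x hx, (hσb1 x).symm⟩) (a := π a) ⟨a, ha, rfl⟩
  have hd : a⁻¹ * (σ ^ p ^ n) a ∈ Q := by
    refine Q.mul_mem (Q.inv_mem ha) ?_
    have : ∀ i : ℕ, (σ ^ i) a ∈ Q := by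
      intro i
      induction i with
      | zero => exact ha
      | succ i ih => rw [pow_succ', MulAut.mul_apply]; exact hQσ _ ih
    exact this _
  obtain ⟨d, hddef⟩ : ∃ d, d = a⁻¹ * (σ ^ p ^ n) a := ⟨_, rfl⟩
  rw [← hddef] at hd ⊢
  have hco : (orderOf d).Coprime r := by
    obtain ⟨i, hi⟩ := hQ.exists_card_eq
    exact (((Nat.coprime_primes (Fact.out : q.Prime) (Fact.out : r.Prime)).2 hqr).pow_left i).coprime_dvd_left
      (hi ▸ Subgroup.orderOf_dvd_natCard Q hd)
  refine centralizes_of_frattini V hV d (by rw [Subgroup.normalizer_eq_top]; exact Subgroup.mem_top d) hco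
    fun x hx => ?_
  rw [← hΦ, ← QuotientGroup.eq_one_iff, ← QuotientGroup.mk'_apply, map_commutatorElement,
    commutatorElement_eq_one_iff_mul_comm]
  have h1 := key (π x) ⟨x, hx, rfl⟩
  rw [show (σb ^ p ^ n) (π a) = π ((σ ^ p ^ n) a) from hσb _ a, ← map_inv, ← map_mul, ← hddef] at h1
  exact h1.symm

/-- The top power of the automorphism centralises the group modulo the Fitting subgroup. -/
theorem inv_mul_mem_fitting (hG : Group.IsSolvable G) (hp2 : p ≠ 2) {n : ℕ} (σ : MulAut G)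
    (hσ : σ ^ p ^ (n + 1) = 1) (hfpf : ∀ g, σ g = g → g = 1) (x : G) :
    x⁻¹ * (σ ^ p ^ n) x ∈ fittingSubgroup G := by
  classical
  haveI := fittingSubgroup_normal (G := G)
  obtain ⟨F, hF⟩ : ∃ F, F = fittingSubgroup G := ⟨_, rfl⟩
  rw [← hF]
  haveI : F.Normal := hF ▸ fittingSubgroup_normal
  obtain ⟨τ, hτ⟩ : ∃ τ, τ = σ ^ p ^ n := ⟨_, rfl⟩
  rw [← hτ]
  have hcard := not_dvd_card σ hσ hfpf
  have hFσ : F.map σ.toMonoidHom = F := by
    rw [hF]; exact Subgroup.characteristic_iff_map_eq.1 fitting_characteristic σ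
  obtain ⟨σb, hσb, hσbP, hσbf⟩ := exists_quotient σ hσ hfpf F hFσ
  have hσi : ∀ (A : Subgroup G), (∀ y ∈ A, σ y ∈ A) → ∀ y ∈ A, τ y ∈ A := by
    intro A hA y hy
    rw [hτ]
    generalize p ^ n = i
    induction i with
    | zero => exact hy
    | succ i ih => rw [pow_succ', MulAut.mul_apply]; exact hA _ ih
  obtain ⟨τb, hτb⟩ : ∃ τb, τb = σb ^ p ^ n := ⟨_, rfl⟩
  have hτb' : ∀ g : G, τb (g : G ⧸ F) = ((τ g : G) : G ⧸ F) := fun g => by rw [hτb, hτ, hσb]
  -- one prime at a time
  have hprime : ∀ q : ℕ, q.Prime → ∀ y ∈ pCore q (G ⧸ F), τb y = y := by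
    intro q hq y hy
    haveI := Fact.mk hq
    obtain ⟨g, rfl⟩ := QuotientGroup.mk_surjective y
    rw [hτb', QuotientGroup.eq]
    suffices h : g⁻¹ * τ g ∈ F by
      have h2 := F.inv_mem h
      rwa [mul_inv_rev, inv_inv] at h2
    let π := QuotientGroup.mk' F
    obtain ⟨L, hLdef⟩ : ∃ L, L = (pCore q (G ⧸ F)).comap π := ⟨_, rfl⟩
    have hgL : g ∈ L := hLdef ▸ hy
    haveI : L.Normal := hLdef ▸ Subgroup.Normal.comap (pCore_normal q) π
    have hFL : F ≤ L := fun f hf => by
      rw [hLdef, Subgroup.mem_comap, QuotientGroup.mk'_apply, (QuotientGroup.eq_one_iff f).2 hf]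
      exact one_mem _
    have hLq : ∀ l ∈ L, ∃ i : ℕ, l ^ q ^ i ∈ F := fun l hl => by
      rw [hLdef] at hl
      obtain ⟨i, hi⟩ := pCore_isPGroup (G := G ⧸ F) q ⟨π l, hl⟩
      exact ⟨i, (QuotientGroup.eq_one_iff _).1 (congrArg Subtype.val hi)⟩
    by_cases hqp : q = p
    · have hbot : pCore q (G ⧸ F) = ⊥ := by
        obtain ⟨i, hi⟩ := (pCore_isPGroup (G := G ⧸ F) q).exists_card_eq
        rcases Nat.eq_zero_or_pos i with rfl | h
        · exact Subgroup.card_eq_one.1 (by rw [hi, pow_zero])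
        · exfalso
          refine hcard ((hqp ▸ dvd_pow_self q h.ne' : p ∣ q ^ i).trans (hi ▸ ?_))
          exact (Subgroup.card_subgroup_dvd_card _).trans (Subgroup.card_quotient_dvd_card F)
      rw [hbot, Subgroup.mem_bot, QuotientGroup.eq_one_iff] at hy
      exact F.mul_mem (F.inv_mem hy) (hσi F (fun z hz => hFσ ▸ ⟨z, hz, rfl⟩) g hy)
    have hLσ : ∀ l ∈ L, σ l ∈ L := fun l hl => by
      rw [hLdef] at hl ⊢
      show π (σ l) ∈ pCore q (G ⧸ F)
      rw [show π (σ l) = σb (π l) by have := hσb 1 l; rw [pow_one, pow_one] at this; exact this.symm,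
        ← Cfsg.Agent.Fusion.map_pCore_equiv (p := q) σb]
      exact ⟨π l, hl, rfl⟩
    obtain ⟨P, hP⟩ := exists_invariant_sylow σ hσ hfpf q L hLσ
    set Q := (P : Subgroup L).map L.subtype with hQdef
    have hQq : IsPGroup q Q := P.2.map _
    have hsup : (F.subgroupOf L) ⊔ (P : Subgroup L) = ⊤ := by
      rw [← Subgroup.index_eq_one]
      haveI : (F.subgroupOf L).Normal := Subgroup.Normal.subgroupOf inferInstance L
      have hq' : IsPGroup q (L ⧸ F.subgroupOf L) := fun z => by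
        obtain ⟨l, rfl⟩ := QuotientGroup.mk_surjective z
        obtain ⟨i, hi⟩ := hLq l l.2
        refine ⟨i, ?_⟩
        rw [← QuotientGroup.mk_pow, QuotientGroup.eq_one_iff]
        exact hi
      obtain ⟨i, hi⟩ := hq'.exists_card_eq
      refine Nat.eq_one_of_dvd_coprimes ?_ (Subgroup.index_dvd_of_le le_sup_left) (Subgroup.index_dvd_of_le le_sup_right)
      rw [Subgroup.index_eq_card, hi]
      exact ((hq.coprime_iff_not_dvd.2 P.not_dvd_index).pow_left i)
    obtain ⟨f, hf, a, ha, hfa⟩ : ∃ f ∈ F, ∃ a ∈ Q, f * a = g := by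
      haveI : (F.subgroupOf L).Normal := Subgroup.Normal.subgroupOf inferInstance L
      obtain ⟨f, hf, a, ha, hfa⟩ := Subgroup.mem_sup_of_normal_left.1
        (hsup ▸ Subgroup.mem_top (⟨g, hgL⟩ : L) : (⟨g, hgL⟩ : L) ∈ F.subgroupOf L ⊔ (P : Subgroup L))
      exact ⟨(f : G), hf, (a : G), ⟨a, ha, rfl⟩, congrArg Subtype.val hfa⟩
    -- the other primes
    obtain ⟨F', hF'⟩ : ∃ F', F' = ⨆ r : {r : Nat.Primes // (r : ℕ) ≠ q}, pCore (r.1 : ℕ) G := ⟨_, rfl⟩
    haveI hF'n : F'.Normal := by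
      haveI : ∀ r : {r : Nat.Primes // (r : ℕ) ≠ q}, (pCore (r.1 : ℕ) G).Normal := fun r => pCore_normal _
      rw [hF']
      exact Subgroup.iSup_normal (fun r : {r : Nat.Primes // (r : ℕ) ≠ q} => pCore (r.1 : ℕ) G)
    have hdC : a⁻¹ * τ a ∈ Subgroup.centralizer (F' : Set G) := by
      rw [Subgroup.mem_centralizer_iff]
      intro z hz
      have hle : F' ≤ Subgroup.centralizer {a⁻¹ * τ a} := by
        rw [hF']
        refine iSup_le fun r => ?_
        haveI := Fact.mk r.1.2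
        haveI := pCore_normal (G := G) (r.1 : ℕ)
        by_cases hrp : (r.1 : ℕ) = p
        · have hbot : pCore (r.1 : ℕ) G = ⊥ := by
            obtain ⟨i, hi⟩ := (pCore_isPGroup (G := G) (r.1 : ℕ)).exists_card_eq
            rcases Nat.eq_zero_or_pos i with rfl | h
            · exact Subgroup.card_eq_one.1 (by rw [hi, pow_zero])
            · exfalso
              exact hcard ((hrp ▸ dvd_pow_self _ h.ne' : p ∣ (r.1 : ℕ) ^ i).trans
                (hi ▸ Subgroup.card_subgroup_dvd_card _))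
          rw [hbot]; exact bot_le
        have h1 := fix_on_pgroup hp2 hqp (Ne.symm r.2) hrp σ hσ hfpf (pCore (r.1 : ℕ) G) (pCore_isPGroup _)
          (fun z hz => by
            rw [← Cfsg.Agent.Fusion.map_pCore_equiv (p := (r.1 : ℕ)) σ]; exact ⟨z, hz, rfl⟩)
          Q hQq hP ha
        rw [← hτ] at h1
        intro z hz
        exact Subgroup.mem_centralizer_singleton_iff.2 (Subgroup.mem_centralizer_iff.1 h1 z hz)
      exact Subgroup.mem_centralizer_singleton_iff.1 (hle hz)
    have hFle : F ≤ pCore q G ⊔ F' := by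
      rw [hF, fitting_eq_iSup_pCore, hF']
      refine iSup_le fun r => ?_
      by_cases h : (r : ℕ) = q
      · rw [h]; exact le_sup_left
      · exact le_sup_of_le_right
          (le_iSup (fun r : {r : Nat.Primes // (r : ℕ) ≠ q} => pCore (r.1 : ℕ) G) ⟨r, h⟩)
    obtain ⟨M, hM⟩ : ∃ M, M = L ⊓ Subgroup.centralizer (F' : Set G) := ⟨_, rfl⟩
    haveI : M.Normal := by rw [hM]; infer_instance
    have hMF : M ≤ F := by
      rw [hF]
      refine normal_le_fitting ?_
      let fM := ((QuotientGroup.mk' F').comp M.subtype).rangeRestrict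
      have hker : fM.ker ≤ Subgroup.center M := fun z hz => by
        rw [MonoidHom.ker_rangeRestrict, MonoidHom.mem_ker] at hz
        refine Subgroup.mem_center_iff.2 fun m => Subtype.ext ?_
        have hm : (m : G) ∈ Subgroup.centralizer (F' : Set G) :=
          (hM ▸ m.2 : (m : G) ∈ L ⊓ Subgroup.centralizer (F' : Set G)).2
        exact (Subgroup.mem_centralizer_iff.1 hm (z : G) ((QuotientGroup.eq_one_iff _).1 hz)).symm
      have hq' : IsPGroup q ((QuotientGroup.mk' F').comp M.subtype).range := by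
        rintro ⟨_, m, rfl⟩
        obtain ⟨i, hi⟩ := hLq (m : G) (hM ▸ m.2 : (m : G) ∈ L ⊓ Subgroup.centralizer (F' : Set G)).1
        haveI := pCore_normal (G := G) q
        obtain ⟨s, hs, f, hf, hsf⟩ := Subgroup.mem_sup_of_normal_left.1 (hFle hi)
        obtain ⟨j, hj⟩ := pCore_isPGroup (G := G) q ⟨s, hs⟩
        refine ⟨i + j, Subtype.ext ?_⟩
        show (QuotientGroup.mk' F' (m : G)) ^ q ^ (i + j) = 1
        rw [pow_add, pow_mul, ← map_pow, ← hsf, map_mul,
          show QuotientGroup.mk' F' f = 1 from (QuotientGroup.eq_one_iff f).2 hf, mul_one, ← map_pow,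
          show s ^ q ^ j = 1 from congrArg Subtype.val hj, map_one]
      haveI := hq'.isNilpotent
      exact Subgroup.isNilpotent_of_ker_le_center fM hker
    have hdM : a⁻¹ * τ a ∈ M := by
      rw [hM]
      refine ⟨?_, hdC⟩
      have haL : a ∈ L := by
        obtain ⟨a', -, rfl⟩ := ha
        exact a'.2
      exact L.mul_mem (L.inv_mem haL) (hσi L hLσ a haL)
    rw [← hfa, mul_inv_rev, map_mul]
    have h1 : a⁻¹ * f⁻¹ * (τ f * τ a) = a⁻¹ * (f⁻¹ * τ f) * a⁻¹⁻¹ * (a⁻¹ * τ a) := by group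
    rw [h1]
    exact F.mul_mem ((inferInstance : F.Normal).conj_mem _
      (F.mul_mem (F.inv_mem hf) (hσi F (fun z hz => hFσ ▸ ⟨z, hz, rfl⟩) f hf)) _) (hMF hdM)
  -- the Fitting subgroup of the quotient is centralised, hence so is the quotient
  have hfit : ∀ y ∈ fittingSubgroup (G ⧸ F), τb y = y := by
    intro y hy
    have hle : fittingSubgroup (G ⧸ F) ≤ τb.toMonoidHom.eqLocus (MonoidHom.id _) := by
      rw [fitting_eq_iSup_pCore]
      exact iSup_le fun q z hz => hprime q q.2 z hz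
    exact hle hy
  obtain ⟨c, hc⟩ : ∃ c, c = (x : G ⧸ F)⁻¹ * τb (x : G ⧸ F) := ⟨_, rfl⟩
  haveI := fittingSubgroup_normal (G := G ⧸ F)
  have hcC : c ∈ Subgroup.centralizer (fittingSubgroup (G ⧸ F) : Set (G ⧸ F)) := by
    rw [Subgroup.mem_centralizer_iff]
    intro y hy
    have h2 := hfit _ ((inferInstance : (fittingSubgroup (G ⧸ F)).Normal).conj_mem y hy (x : G ⧸ F))
    rw [map_mul, map_mul, map_inv, hfit y hy] at h2
    calc y * c = (x : G ⧸ F)⁻¹ * ((x : G ⧸ F) * y * (x : G ⧸ F)⁻¹) * τb (x : G ⧸ F) := by rw [hc]; group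
      _ = (x : G ⧸ F)⁻¹ * (τb (x : G ⧸ F) * y * (τb (x : G ⧸ F))⁻¹) * τb (x : G ⧸ F) := by rw [h2]
      _ = c * y := by rw [hc]; group
  have hsol : Group.IsSolvable (G ⧸ F) := by
    haveI := hG
    exact Group.isSolvable_of_surjective (QuotientGroup.mk'_surjective F)
  have hcF := hfit c (centralizer_fitting_le hsol hcC)
  have hiter : ∀ i : ℕ, (τb ^ i) (x : G ⧸ F) = (x : G ⧸ F) * c ^ i := by
    intro i
    induction i with
    | zero => simp
    | succ i ih =>
      rw [pow_succ' τb, MulAut.mul_apply, ih, map_mul, map_pow, hcF, pow_succ' c, ← mul_assoc,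
        show τb (x : G ⧸ F) = (x : G ⧸ F) * c by rw [hc]; group]
  have hcp : c ^ p = 1 := by
    have := hiter p
    rw [hτb, ← pow_mul, ← pow_succ, hσbP, MulAut.one_apply] at this
    exact mul_eq_left.1 this.symm
  have hc1 : c = 1 := by
    rw [← orderOf_eq_one_iff]
    rcases (Nat.dvd_prime (Fact.out : p.Prime)).1 (orderOf_dvd_of_pow_eq_one hcp) with h | h
    · exact h
    · exact absurd ((h ▸ orderOf_dvd_natCard c).trans (Subgroup.card_quotient_dvd_card F)) hcard
  rw [hc, hτb', ← QuotientGroup.mk_inv, ← QuotientGroup.mk_mul, QuotientGroup.eq_one_iff] at hc1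
  exact hc1

/-- The chain. -/
theorem R_eq_bot (hp2 : p ≠ 2) : ∀ (n : ℕ) {G : Type u} [Group G] [Finite G], Group.IsSolvable G →
    ∀ σ : MulAut G, σ ^ p ^ n = 1 → (∀ g, σ g = g → g = 1) → FitTower.R n (⊤ : Subgroup G) = ⊥ := by
  intro n
  induction n with
  | zero =>
    intro G _ _ _ σ hσ hfpf
    rw [pow_zero, pow_one] at hσ
    rw [FitTower.R_zero, eq_bot_iff]
    exact fun g _ => Subgroup.mem_bot.2 (hfpf g (by rw [hσ]; rfl))
  | succ n ih =>
    intro G _ _ hG σ hσ hfpf
    haveI := fittingSubgroup_normal (G := G)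
    have hFσ : (fittingSubgroup G).map σ.toMonoidHom = fittingSubgroup G :=
      Subgroup.characteristic_iff_map_eq.1 fitting_characteristic σ
    obtain ⟨σb, hσb, -, hσbf⟩ := exists_quotient σ hσ hfpf _ hFσ
    have hσbP : σb ^ p ^ n = 1 := MulEquiv.ext fun y => by
      obtain ⟨g, rfl⟩ := QuotientGroup.mk_surjective y
      rw [hσb, MulAut.one_apply, eq_comm, QuotientGroup.eq]
      exact inv_mul_mem_fitting hG hp2 σ hσ hfpf g
    have hsol : Group.IsSolvable (G ⧸ fittingSubgroup G) := by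
      haveI := hG
      exact Group.isSolvable_of_surjective (QuotientGroup.mk'_surjective _)
    have h1 := ih hsol σb hσbP hσbf
    rw [← Subgroup.map_top_of_surjective (QuotientGroup.mk' (fittingSubgroup G)) (QuotientGroup.mk'_surjective _),
      ← FitTower.map_R, Subgroup.map_eq_bot_iff, QuotientGroup.ker_mk'] at h1
    rw [FitTower.R_succ, eq_bot_iff]
    exact (FitTower.res_mono h1).trans (FitTower.res_eq_bot fittingSubgroup_nilpotent).le

end Cfsg.Agent.Solv.FPFOp
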