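import Cfsg.Agent.Lib.Solv.SolvFixFrac

/-!
An automorphism of prime order `p > 3` of a finite abelian `q`-group with a nondegenerate invariant
alternating pairing moves elements in at least sixteen directions.
-/

set_option autoImplicit false
set_option linter.style.haveILetI false

namespace Cfsg.Agent.Solv.FixFrac

variable {A : Type*} [CommGroup A] [Finite A] {K : Type*} [Field K]

theorem prime_pow_excluded {q i n : ℕ} (hq : q.Prime) (hn : n = q ^ i) {r s : ℕ} (hr : r.Prime)
    (hs : s.Prime) (hrs : r ≠ s) (h1 : r ∣ n) (h2 : s ∣ n) : False := by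
  subst hn
  exact hrs (((Nat.prime_dvd_prime_iff_eq hr hq).1 (hr.dvd_of_dvd_pow h1)).trans
    ((Nat.prime_dvd_prime_iff_eq hs hq).1 (hs.dvd_of_dvd_pow h2)).symm)

theorem sixteen_le_range {p q : ℕ} [hp : Fact p.Prime] [hq : Fact q.Prime] (h3 : 3 < p)
    {θ : MulAut A} (hθ : θ ^ p = 1) (hA : IsPGroup q A) (hne : θ ≠ 1) (β : A →* A →* Kˣ)
    (hnd : Function.Injective β) (halt : ∀ a, β a a = 1) (hinv : ∀ a b, β (θ a) (θ b) = β a b)
    (hqp : q = p → p < Nat.card (diffHom θ).range) : 16 ≤ Nat.card (diffHom θ).range := by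
  classical
  obtain ⟨D, hD⟩ : ∃ D, D = (diffHom θ).range := ⟨_, rfl⟩
  obtain ⟨i, hi⟩ := IsPGroup.iff_card.1 (hA.to_subgroup D)
  rw [← hD]
  by_cases hqp' : q = p
  · have h1 := hqp hqp'
    rw [← hD, hi, hqp'] at h1
    have h2 : 2 ≤ i := by
      by_contra h
      have h' : i ≤ 1 := by omega
      have := Nat.pow_le_pow_right hp.out.pos h'
      rw [pow_one] at this
      omega
    rw [hi, hqp']
    exact le_trans (le_trans (by norm_num) (Nat.pow_le_pow_left (show 4 ≤ p by omega) 2))
      (Nat.pow_le_pow_right hp.out.pos h2)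
  have h4 : 4 ≤ Nat.card D := hD ▸ four_le_range hp.out h3 hθ hne
  by_contra hlt
  rw [not_le] at hlt
  have hinvD : ∀ d ∈ D, θ d ∈ D := by
    rw [hD]
    rintro _ ⟨b, rfl⟩
    exact ⟨θ b, by rw [diffHom_apply, diffHom_apply, map_div]⟩
  -- fixed points in `D`
  have hfixD : ∀ d ∈ D, θ d = d → d = 1 := by
    intro d hd hfd
    rw [hD] at hd
    obtain ⟨a, rfl⟩ := hd
    have h1 := pow_apply_of_fix (θ := θ) (a := a) hfd p
    rw [hθ, MulAut.one_apply, left_eq_mul] at h1
    obtain ⟨j, hj⟩ := hA (θ a / a)
    have h2 := pow_gcd_eq_one.2 ⟨h1, hj⟩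
    rw [((Nat.coprime_primes hp.out hq.out).2 (Ne.symm hqp')).pow_right j |>.gcd_eq_one, pow_one] at h2
    rw [diffHom_apply]; exact h2
  -- the permutation of `D`
  let f : D → D := fun d => ⟨θ d, hinvD d d.2⟩
  have hf : Function.Bijective f :=
    Finite.injective_iff_bijective.1 fun u v h => Subtype.ext (θ.injective (congrArg Subtype.val h))
  obtain ⟨π, hπ⟩ : ∃ π : Equiv.Perm D, π = Equiv.ofBijective f hf := ⟨_, rfl⟩
  have hπ1 : ∀ d : D, ((π d : D) : A) = θ (d : A) := fun d => by rw [hπ]; rfl
  have hπk : ∀ (k : ℕ) (d : D), (((π ^ k) d : D) : A) = (θ ^ k) (d : A) := by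
    intro k
    induction k with
    | zero => intro d; rfl
    | succ k ih => intro d; rw [pow_succ', pow_succ', Equiv.Perm.mul_apply, MulAut.mul_apply, hπ1, ih]
  have hπp : π ^ p = 1 := Equiv.ext fun d => Subtype.ext (by rw [hπk, hθ]; rfl)
  have hmod : p ∣ Nat.card D - 1 := by
    have hπne : π ≠ 1 := by
      intro h
      have htriv : ∀ d ∈ D, d = 1 := fun d hd => hfixD d hd (by
        rw [← hπ1 ⟨d, hd⟩, h]; rfl)
      have : Nat.card D ≤ 1 := by
        rw [(Subgroup.eq_bot_iff_forall D).2 htriv, Subgroup.card_bot]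
      omega
    have hP : IsPGroup p (Subgroup.zpowers π) :=
      IsPGroup.of_card (n := 1) (by rw [Nat.card_zpowers, orderOf_eq_prime hπp hπne, pow_one])
    have h := hP.card_modEq_card_fixedPoints (α := D)
    have h1 : Nat.card (MulAction.fixedPoints (Subgroup.zpowers π) D) = 1 := by
      have hset : MulAction.fixedPoints (Subgroup.zpowers π) D = {1} := by
        ext d
        rw [Set.mem_singleton_iff]
        refine ⟨fun hd => Subtype.ext (hfixD d d.2 ?_), ?_⟩
        · rw [← hπ1 d]
          exact congrArg Subtype.val (hd ⟨π, Subgroup.mem_zpowers π⟩)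
        · rintro rfl ⟨g, hg⟩
          have hfix : π (1 : D) = 1 := Subtype.ext (by rw [hπ1]; exact map_one θ)
          have hle : Subgroup.zpowers π ≤ MulAction.stabilizer (Equiv.Perm D) (1 : D) :=
            Subgroup.zpowers_le.2 hfix
          exact hle hg
      rw [hset, Nat.card_unique]
    rw [h1] at h
    exact (Nat.modEq_iff_dvd' Nat.card_pos).1 h.symm
  obtain ⟨n, hn⟩ : ∃ n, n = Nat.card D := ⟨_, rfl⟩
  rw [← hn] at h4 hlt hmod hi
  have hcases : n = 8 ∨ n = 11 := by
    have hp5 : 5 ≤ p := by
      by_contra h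
      obtain rfl : p = 4 := by omega
      exact absurd hp.out (by decide)
    have hple : p ≤ n - 1 := Nat.le_of_dvd (by omega) hmod
    by_contra hc
    rw [not_or] at hc
    have h6 : n = 6 ∨ n = 12 ∨ n = 14 → False := by
      rintro (h | h | h)
      · exact prime_pow_excluded hq.out hi Nat.prime_two Nat.prime_three (by omega) (by omega) (by omega)
      · exact prime_pow_excluded hq.out hi Nat.prime_two Nat.prime_three (by omega) (by omega) (by omega)
      · exact prime_pow_excluded hq.out hi Nat.prime_two (by norm_num : (7 : ℕ).Prime) (by omega) (by omega) (by omega)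
    have h15 : n = 15 → False := fun h => prime_pow_excluded hq.out hi Nat.prime_three
      (by norm_num : (5 : ℕ).Prime) (by omega) (by omega) (by omega)
    interval_cases n <;> interval_cases p <;>
      first
        | omega
        | exact h15 rfl
        | exact h6 (by omega)
        | exact absurd hp.out (by decide)
  -- `D` is nondegenerate
  have horth : ∀ c, θ c = c → ∀ d ∈ D, β c d = 1 := by
    intro c hc d hd
    rw [hD] at hd
    obtain ⟨a, rfl⟩ := hd
    rw [diffHom_apply, map_div, div_eq_one]
    conv_lhs => rw [← hc]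
    exact hinv c a
  have hanti : ∀ a b, β a b * β b a = 1 := by
    intro a b
    have h := halt (a * b)
    rw [map_mul β, MonoidHom.mul_apply, map_mul (β a), map_mul (β b), halt, halt, one_mul, mul_one] at h
    exact h
  have hndD : ∀ d ∈ D, (∀ e ∈ D, β d e = 1) → d = 1 := by
    intro d hd he
    let m : D × {c : A // θ c = c} → A := fun z => (z.1 : A) * z.2.1
    have hm : Function.Injective m := by
      rintro ⟨d₁, c₁⟩ ⟨d₂, c₂⟩ h
      have h' : (d₂ : A)⁻¹ * d₁ = c₂.1 * c₁.1⁻¹ := by
        rw [inv_mul_eq_iff_eq_mul, ← mul_assoc, eq_mul_inv_iff_mul_eq]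
        exact h
      have h1 : (d₂ : A)⁻¹ * d₁ = 1 := hfixD _ (D.mul_mem (D.inv_mem d₂.2) d₁.2)
        (by rw [h', map_mul, map_inv, c₂.2, c₁.2])
      refine Prod.ext (Subtype.ext (inv_mul_eq_one.1 h1).symm) (Subtype.ext ?_)
      rw [h1, eq_comm, mul_inv_eq_one] at h'
      exact h'.symm
    have hcard : Nat.card (D × {c : A // θ c = c}) = Nat.card A := by
      rw [Nat.card_prod, hD]; exact card_range_mul θ
    have hsurj := (hm.bijective_of_nat_card_le hcard.ge).2
    apply hnd
    rw [map_one]
    refine MonoidHom.ext fun a => ?_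
    obtain ⟨⟨d', c⟩, rfl⟩ := hsurj a
    rw [MonoidHom.one_apply, map_mul, he _ d'.2, one_mul]
    have := hanti d c.1
    rwa [horth _ c.2 d hd, mul_one] at this
  rcases hcases with h8 | h11
  · -- order eight
    have hp7 : p = 7 := by
      rw [h8] at hmod
      exact (Nat.prime_dvd_prime_iff_eq hp.out (by norm_num)).1 hmod
    have hq2 : q = 2 := by
      have : 2 ∣ q ^ i := by rw [← hi, h8]; norm_num
      exact ((Nat.prime_dvd_prime_iff_eq Nat.prime_two hq.out).1 (Nat.prime_two.dvd_of_dvd_pow this)).symm
    -- exponent two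
    have hexp : ∀ d ∈ D, d ^ 2 = 1 := by
      by_contra hx
      let T := {d : D // (d : A) ^ 2 = 1}
      have hTlt : Nat.card T < 7 := by
        haveI := Fintype.ofFinite D
        push Not at hx
        obtain ⟨d, hd, hd2⟩ := hx
        have h1 : Fintype.card T < Fintype.card D := Fintype.card_subtype_lt (x := (⟨d, hd⟩ : D)) hd2
        obtain ⟨k, hk⟩ := (IsPGroup.iff_card (p := 2)).1
          (IsPGroup.to_subgroup (H := (MonoidHom.ker (powMonoidHom 2 : D →* D))) (hq2 ▸ hA.to_subgroup D))
        have hTk : Nat.card T = 2 ^ k := by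
          rw [← hk]
          exact Nat.card_congr (Equiv.subtypeEquivRight fun z => by
            rw [MonoidHom.mem_ker, powMonoidHom_apply, Subtype.ext_iff, SubmonoidClass.coe_pow,
              Subgroup.coe_one])
        rw [← Nat.card_eq_fintype_card, ← Nat.card_eq_fintype_card, ← hn, h8, hTk] at h1
        rw [hTk]
        have : k < 3 := (Nat.pow_lt_pow_iff_right (a := 2) (by omega)).1 (by simpa using h1)
        interval_cases k <;> norm_num
      let g : T → T := fun t => ⟨π t.1, by
        rw [hπ1, ← map_pow, t.2, map_one]⟩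
      have hg : Function.Bijective g := Finite.injective_iff_bijective.1 fun u v h =>
        Subtype.ext (π.injective (congrArg Subtype.val h))
      have hgk : ∀ (k : ℕ) (t : T), (((Equiv.ofBijective g hg) ^ k) t).1 = (π ^ k) t.1 := by
        intro k
        induction k with
        | zero => intro t; rfl
        | succ k ih => intro t; rw [pow_succ', pow_succ', Equiv.Perm.mul_apply, Equiv.Perm.mul_apply, ← ih t]; rfl
      have htriv : Equiv.ofBijective g hg = 1 := perm_eq_one hp.out (hp7 ▸ hTlt)
        (Equiv.ext fun t => Subtype.ext (by rw [hgk, hπp]; rfl))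
      obtain ⟨z, hz⟩ := exists_prime_orderOf_dvd_card' (G := D) 2 (by rw [← hn, h8]; norm_num)
      have hz2 : (z : A) ^ 2 = 1 := by
        rw [← hz, ← Subgroup.orderOf_coe z, pow_orderOf_eq_one]
      have hfz : θ (z : A) = z := by
        rw [← hπ1 z]
        exact congrArg (fun t : T => ((t.1 : D) : A)) (Equiv.ext_iff.1 htriv ⟨z, hz2⟩)
      have hzA := hfixD _ z.2 hfz
      have hz0 : z = 1 := Subtype.ext hzA
      rw [hz0, orderOf_one] at hz
      omega
    have hval : ∀ u, ∀ d ∈ D, β u d = 1 ∨ β u d = -1 := by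
      intro u d hd
      have h1 : (β u d) ^ 2 = 1 := by rw [← map_pow, hexp d hd, map_one]
      exact sq_eq_one_iff.1 (by
        have := congrArg Units.val h1
        rwa [Units.val_pow_eq_pow_val, Units.val_one] at this) |>.imp
        (fun h => Units.ext h) (fun h => Units.ext (by rw [h]; simp))
    -- the kernels of the characters of elements
    let ker : A → Subgroup D := fun u => ((β u).comp D.subtype).ker
    have hker : ∀ u, (u ∈ D ∧ u ≠ 1) → Nat.card (ker u) = 4 := by
      rintro u ⟨huD, hu1⟩
      obtain ⟨φ, hφ⟩ : ∃ φ : D →* Kˣ, φ = (β u).comp D.subtype := ⟨_, rfl⟩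
      have h1 : Nat.card φ.range ≤ 2 := by
        have hsub : (φ.range : Set Kˣ) ⊆ {1, -1} := by
          rintro _ ⟨d, rfl⟩
          rw [hφ, MonoidHom.comp_apply]
          exact hval u _ d.2
        have := Nat.card_mono ((Set.finite_singleton (-1 : Kˣ)).insert 1) hsub
        refine this.trans ?_
        rw [Nat.card_coe_set_eq]
        exact (Set.ncard_insert_le _ _).trans (by rw [Set.ncard_singleton])
      have h2 : Nat.card φ.range ≠ 1 := by
        intro h
        refine hu1 (hndD u huD fun e he => ?_)
        have : φ ⟨e, he⟩ ∈ φ.range := ⟨_, rfl⟩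
        rw [Subgroup.card_eq_one.1 h, Subgroup.mem_bot, hφ] at this
        exact this
      have hmul : Nat.card φ.ker * Nat.card φ.range = 8 := by
        rw [← Subgroup.index_ker, Subgroup.card_mul_index, ← hn, h8]
      show Nat.card ((β u).comp D.subtype).ker = 4
      rw [← hφ]
      have h3 : Nat.card φ.range = 2 := by
        have h5 : 1 ≤ Nat.card φ.range := by
          by_contra h
          rw [not_le, Nat.lt_one_iff] at h
          rw [h, mul_zero] at hmul
          omega
        omega
      rw [h3] at hmul; omega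
    obtain ⟨e, he⟩ := exists_prime_orderOf_dvd_card' (G := D) 2 (by rw [← hn, h8]; norm_num)
    have he1 : (e : A) ≠ 1 := fun h => by
      have : e = 1 := Subtype.ext h
      rw [this, orderOf_one] at he; omega
    obtain ⟨f', hfk, hf1, hfe⟩ : ∃ f' : D, f' ∈ ker e ∧ f' ≠ 1 ∧ f' ≠ e := by
      by_contra hno
      push Not at hno
      have hsub : ((ker e : Subgroup D) : Set D) ⊆ {1, e} := fun z hz => by
        by_cases h : z = 1
        · exact Or.inl h
        · exact Or.inr (hno z hz h)
      have := Nat.card_mono ((Set.finite_singleton e).insert 1) hsub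
      have h4 := hker e ⟨e.2, he1⟩
      have h2 : Nat.card ({1, e} : Set D) ≤ 2 := by
        rw [Nat.card_coe_set_eq]
        exact (Set.ncard_insert_le _ _).trans (by rw [Set.ncard_singleton])
      have : Nat.card ((ker e : Subgroup D) : Set D) = 4 := h4
      omega
    have hfA : (f' : A) ≠ 1 := fun h => hf1 (Subtype.ext h)
    have hsq : ∀ z : D, z * z = 1 := fun z => Subtype.ext (by
      rw [Subgroup.coe_mul, ← sq, hexp _ z.2]; rfl)
    have hef : e * f' ≠ 1 := fun h => hfe (mul_left_cancel ((h.trans (hsq e).symm)))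
    have hin : ∀ u : D, u ∈ ker u := fun u => MonoidHom.mem_ker.2 (halt u.1)
    have hfe' : e ∈ ker f' := by
      refine MonoidHom.mem_ker.2 ?_
      show β (f' : A) e = 1
      have := hanti (e : A) f'
      rwa [show β (e : A) f' = 1 from MonoidHom.mem_ker.1 hfk, one_mul] at this
    have hset : ∀ u : D, (u : A) ≠ 1 → e ∈ ker u → f' ∈ ker u →
        ((ker u : Subgroup D) : Set D) = {1, e, f', e * f'} := by
      intro u hu h1 h2
      refine (Set.eq_of_subset_of_ncard_le ?_ ?_ (Set.toFinite _)).symm
      · rintro z (rfl | rfl | rfl | rfl)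
        exacts [one_mem _, h1, h2, (ker u).mul_mem h1 h2]
      · rw [← Nat.card_coe_set_eq]
        have h4 : Nat.card ((ker u : Subgroup D) : Set D) = 4 := hker u ⟨u.2, hu⟩
        rw [h4]
        rw [Set.ncard_insert_of_notMem, Set.ncard_insert_of_notMem, Set.ncard_pair]
        · intro h
          exact (fun he => he1 (congrArg Subtype.val he)) (mul_eq_right.1 h.symm)
        · rintro (h | h)
          · exact hfe h.symm
          · exact hf1 (mul_eq_left.1 h.symm)
        · rintro (h | h | h)
          · exact he1 (congrArg Subtype.val h.symm)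
          · exact hf1 h.symm
          · exact hef h.symm
    have heq : (ker e : Subgroup D) = ker f' := SetLike.coe_injective
      ((hset e he1 (hin e) hfk).trans (hset f' hfA hfe' (hin f')).symm)
    refine hef (Subtype.ext (hndD _ (e * f').2 fun d hd => ?_))
    show β ((e : A) * (f' : A)) d = 1
    rw [map_mul, MonoidHom.mul_apply]
    have hiff : β (e : A) d = 1 ↔ β (f' : A) d = 1 := by
      have := SetLike.ext_iff.1 heq ⟨d, hd⟩
      exact this
    rcases hval e d hd with h1 | h1
    · rw [h1, hiff.1 h1, one_mul]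
    · rcases hval f' d hd with h2 | h2
      · rw [hiff.2 h2, h2, one_mul]
      · rw [h1, h2]; exact neg_one_mul _ |>.trans (neg_neg _)
  · -- prime order
    haveI := Fact.mk (show Nat.Prime 11 by norm_num)
    have hD11 : Nat.card D = 11 := hn.symm.trans h11
    haveI : Nontrivial D := Finite.one_lt_card_iff_nontrivial.1 (by rw [hD11]; norm_num)
    obtain ⟨g, hg⟩ := exists_ne (1 : D)
    refine hg (Subtype.ext (hndD _ g.2 fun e he => ?_))
    obtain ⟨k, hk⟩ := mem_zpowers_of_prime_card (p := 11) hD11 (g := g) (g' := ⟨e, he⟩) hg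
    rw [← show ((g : D) : A) ^ k = e from congrArg Subtype.val hk, map_zpow, halt, one_zpow]

end Cfsg.Agent.Solv.FixFrac
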