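import Cfsg.Agent.Lib.Solv.SolvFixFrac
import Cfsg.Agent.Lib.Solv.Zipper
import Cfsg.Agent.Lib.Solv.Basic
import Cfsg.Agent.Lib.Local.FS.EssentialSL2
import Cfsg.Agent.Lib.Local.TransvectionPair
import Cfsg.Agent.Lib.Fusion.StableFactorization

/-!
A solvable group of automorphisms of a finite abelian `p`-group, `p > 3`, generated by conjugates of
an element of order `p` which moves every element within a group of order `p`, is a `p`-group.
-/

set_option autoImplicit false
set_option linter.style.haveILetI false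

namespace Cfsg.Agent.Solv.Transv

open Cfsg.Agent.Solv.FixFrac
open scoped Pointwise

variable {A : Type*} [CommGroup A] {p : ℕ}

/-- `a` fixes `v`, of order dividing `p`, and moves everything within `⟨v⟩`. -/
structure IsLine (p : ℕ) (a : MulAut A) (v : A) : Prop where
  pow : v ^ p = 1
  fix : a v = v
  diff : ∀ t, a t / t ∈ Subgroup.zpowers v

theorem exists_isLine [Finite A] [hp : Fact p.Prime] (hA : IsPGroup p A) {a : MulAut A}
    (ha : a ^ p = 1) (hr : Nat.card (diffHom a).range ≤ p) : ∃ v, IsLine p a v := by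
  obtain ⟨D, hD⟩ : ∃ D, D = (diffHom a).range := ⟨_, rfl⟩
  obtain ⟨i, hi⟩ := IsPGroup.iff_card.1 (hA.to_subgroup D)
  rw [← hD, hi] at hr
  by_cases hb : D = ⊥
  · refine ⟨1, one_pow _, map_one a, fun t => ?_⟩
    have : diffHom a t ∈ D := hD ▸ ⟨t, rfl⟩
    rw [hb, Subgroup.mem_bot, diffHom_apply] at this
    rw [this]; exact one_mem _
  have hi1 : i = 1 := by
    have h0 : i ≠ 0 := fun h => hb (Subgroup.card_eq_one.1 (by rw [hi, h, pow_zero]))
    have h1 : i < 2 := by
      by_contra h2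
      have := Nat.pow_le_pow_right hp.out.pos (not_lt.1 h2)
      have := hp.out.two_le
      nlinarith
    omega
  rw [hi1, pow_one] at hi
  haveI : Nontrivial D := (Subgroup.nontrivial_iff_ne_bot D).2 hb
  obtain ⟨⟨v, hvD⟩, hv1⟩ := exists_ne (1 : D)
  have hgen : ∀ d ∈ D, d ∈ Subgroup.zpowers v := by
    intro d hd
    obtain ⟨k, hk⟩ := mem_zpowers_of_prime_card (p := p) hi (g := (⟨v, hvD⟩ : D)) (g' := ⟨d, hd⟩) hv1
    exact ⟨k, congrArg Subtype.val hk⟩
  have hinv : ∀ d ∈ D, a d ∈ D := by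
    rw [hD]
    rintro _ ⟨b, rfl⟩
    exact ⟨a b, by rw [diffHom_apply, diffHom_apply, map_div]⟩
  let f : {d : D // d ≠ 1} → {d : D // d ≠ 1} := fun d =>
    ⟨⟨a (d.1 : A), hinv _ d.1.2⟩, fun h => d.2 (Subtype.ext (a.injective (by
      rw [show a (d.1 : A) = 1 from congrArg Subtype.val h, Subgroup.coe_one, map_one])))⟩
  have hf : Function.Bijective f := Finite.injective_iff_bijective.1 fun u w h =>
    Subtype.ext (Subtype.ext (a.injective (congrArg (fun z : {d : D // d ≠ 1} => (z.1 : A)) h)))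
  have hpw : ∀ (k : ℕ) (d : {d : D // d ≠ 1}),
      ((((Equiv.ofBijective f hf) ^ k) d).1 : A) = (a ^ k) (d.1 : A) := by
    intro k
    induction k with
    | zero => intro d; rfl
    | succ k ih =>
      intro d
      rw [pow_succ', pow_succ', Equiv.Perm.mul_apply, MulAut.mul_apply, ← ih d]
      rfl
  have hcard : Nat.card {d : D // d ≠ 1} < p := by
    classical
    haveI := Fintype.ofFinite D
    rw [← hi, Nat.card_eq_fintype_card, Nat.card_eq_fintype_card]
    exact Fintype.card_subtype_lt (x := (1 : D)) (fun h => h rfl)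
  have htriv : Equiv.ofBijective f hf = 1 := perm_eq_one hp.out hcard
    (Equiv.ext fun d => Subtype.ext (Subtype.ext (by rw [hpw, ha]; rfl)))
  refine ⟨v, ?_, congrArg (fun z : {d : D // d ≠ 1} => (z.1 : A))
    (Equiv.ext_iff.1 htriv ⟨⟨v, hvD⟩, hv1⟩), fun t => hgen _ (hD ▸ ⟨t, rfl⟩)⟩
  have := congrArg Subtype.val (pow_card_eq_one' (x := (⟨v, hvD⟩ : D)))
  rw [hi, SubmonoidClass.coe_pow] at this
  exact this

theorem IsLine.conj {a : MulAut A} {v : A} (h : IsLine p a v) (g : MulAut A) :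
    IsLine p (g * a * g⁻¹) (g v) := by
  refine ⟨by rw [← map_pow, h.pow, map_one],
    by rw [MulAut.mul_apply, MulAut.mul_apply, MulAut.inv_apply_self, h.fix], fun t => ?_⟩
  obtain ⟨k, hk⟩ := h.diff (g⁻¹ t)
  refine ⟨k, ?_⟩
  show (g v) ^ k = _
  rw [← map_zpow, show v ^ k = a (g⁻¹ t) / g⁻¹ t from hk, map_div, MulAut.apply_inv_self,
    MulAut.mul_apply, MulAut.mul_apply]

theorem pow_chain {g : MulAut A} {t u z : A} (h1 : g t = t * u) (h2 : g u = u * z) (h3 : g z = z) :
    ∀ k : ℕ, (g ^ k) t = t * u ^ k * z ^ k.choose 2 := by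
  intro k
  induction k with
  | zero => simp
  | succ k ih =>
    rw [pow_succ', MulAut.mul_apply, ih, map_mul, map_mul, map_pow, map_pow, h1, h2, h3, mul_pow,
      show (k + 1).choose 2 = k + k.choose 2 by rw [Nat.choose_succ_succ, Nat.choose_one_right],
      pow_succ' u, pow_add z]
    simp only [mul_assoc, mul_comm, mul_left_comm]

/-- If `a` fixes `w` then `⟨a, b⟩` is a `p`-group. -/
theorem chain [Finite A] [hp : Fact p.Prime] (h3 : 3 < p) {a b : MulAut A} {v w : A}
    (ha : IsLine p a v) (hb : IsLine p b w) (haw : a w = w) :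
    IsPGroup p (Subgroup.closure ({a, b} : Set (MulAut A))) := by
  obtain ⟨L, hL⟩ : ∃ L, L = Subgroup.zpowers v ⊔ Subgroup.zpowers w := ⟨_, rfl⟩
  let S : Subgroup (MulAut A) :=
    { carrier := {g | (∀ t, g t / t ∈ L) ∧ (∀ l ∈ L, g l / l ∈ Subgroup.zpowers w) ∧ g w = w}
      one_mem' := ⟨fun t => by rw [MulAut.one_apply, div_self']; exact one_mem L,
        fun l _ => by rw [MulAut.one_apply, div_self']; exact one_mem _, rfl⟩
      mul_mem' := by
        rintro g h ⟨g1, g2, g3⟩ ⟨h1, h2, h3⟩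
        refine ⟨fun t => ?_, fun l hl => ?_, by rw [MulAut.mul_apply, h3, g3]⟩
        · have := L.mul_mem (g1 (h t)) (h1 t)
          rwa [div_mul_div_cancel] at this
        · have hhl : h l ∈ L := by
            have := L.mul_mem (h1 l) hl
            rwa [div_mul_cancel] at this
          have := (Subgroup.zpowers w).mul_mem (g2 (h l) hhl) (h2 l hl)
          rwa [div_mul_div_cancel] at this
      inv_mem' := by
        rintro g ⟨g1, g2, g3⟩
        have key : ∀ t, g⁻¹ t / t = (g (g⁻¹ t) / g⁻¹ t)⁻¹ := fun t => by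
          rw [MulAut.apply_inv_self, inv_div]
        refine ⟨fun t => by rw [key]; exact L.inv_mem (g1 _), fun l hl => ?_, ?_⟩
        · have hgl : g⁻¹ l ∈ L := by
            have h := L.mul_mem (L.inv_mem (g1 (g⁻¹ l))) hl
            rwa [← key, div_mul_cancel] at h
          rw [key]
          exact (Subgroup.zpowers w).inv_mem (g2 _ hgl)
        · conv_lhs => rw [← g3]
          exact MulAut.inv_apply_self _ g w }
  have hmem : ∀ {g : MulAut A}, g ∈ S ↔
      (∀ t, g t / t ∈ L) ∧ (∀ l ∈ L, g l / l ∈ Subgroup.zpowers w) ∧ g w = w := Iff.rfl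
  have haL : ∀ l ∈ L, a l = l := by
    intro l hl
    rw [hL] at hl
    obtain ⟨y, ⟨i, rfl⟩, z, ⟨j, rfl⟩, rfl⟩ := Subgroup.mem_sup.1 hl
    show a (v ^ i * w ^ j) = v ^ i * w ^ j
    rw [map_mul, map_zpow, map_zpow, ha.fix, haw]
  have hle : Subgroup.closure ({a, b} : Set (MulAut A)) ≤ S := (Subgroup.closure_le _).2 (by
    rintro g (rfl | rfl)
    · exact hmem.2 ⟨fun t => hL ▸ Subgroup.mem_sup_left (ha.diff t),
        fun l hl => by rw [haL l hl, div_self']; exact one_mem _, haw⟩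
    · exact hmem.2 ⟨fun t => hL ▸ Subgroup.mem_sup_right (hb.diff t), fun l _ => hb.diff l, hb.fix⟩)
  refine IsPGroup.to_le ?_ hle
  rintro ⟨g, hg⟩
  refine ⟨1, Subtype.ext (MulEquiv.ext fun t => ?_)⟩
  obtain ⟨g1, g2, g3⟩ := hmem.1 hg
  show (g ^ p ^ 1) t = t
  obtain ⟨k, hk⟩ := g2 _ (g1 t)
  have hz : g (g (g t / t) / (g t / t)) = g (g t / t) / (g t / t) := by
    rw [← show w ^ k = _ from hk, map_zpow, g3]
  rw [pow_one, pow_chain (g := g) (u := g t / t) (z := g (g t / t) / (g t / t))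
    (by rw [mul_div_cancel]) (by rw [mul_div_cancel]) hz p]
  have hu : (g t / t) ^ p = 1 := by
    have h := g1 t
    rw [hL] at h
    obtain ⟨y, ⟨i, rfl⟩, z, ⟨j, rfl⟩, he⟩ := Subgroup.mem_sup.1 h
    rw [← he]
    show (v ^ i * w ^ j) ^ p = 1
    rw [mul_pow, ← zpow_natCast, ← zpow_natCast, ← zpow_mul, ← zpow_mul, mul_comm i, mul_comm j,
      zpow_mul, zpow_mul, zpow_natCast, zpow_natCast, ha.pow, hb.pow, one_zpow, one_zpow, mul_one]
  obtain ⟨c, hc⟩ := hp.out.dvd_choose_self two_ne_zero (by omega : 2 < p)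
  rw [hu, mul_one, hc, pow_mul, ← show w ^ k = _ from hk, ← zpow_natCast (w ^ k), ← zpow_mul,
    mul_comm k, zpow_mul, zpow_natCast, hb.pow, one_zpow, one_pow, mul_one]

open Cfsg.Agent.Fusion.Dickson in
theorem pair [Finite A] [hp : Fact p.Prime] (h3 : 3 < p) (Γ : Subgroup (MulAut A))
    [Group.IsSolvable Γ] {a b : MulAut A} (haΓ : a ∈ Γ) (hbΓ : b ∈ Γ) {v w : A}
    (ha : IsLine p a v) (hb : IsLine p b w) :
    IsPGroup p (Subgroup.closure ({a, b} : Set (MulAut A))) := by
  by_cases haw : a w = w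
  · exact chain h3 ha hb haw
  by_cases hbv : b v = v
  · rw [Set.pair_comm]; exact chain h3 hb ha hbv
  exfalso
  obtain ⟨L, hL⟩ : ∃ L, L = Subgroup.zpowers v ⊔ Subgroup.zpowers w := ⟨_, rfl⟩
  have hv1 : v ≠ 1 := fun h => hbv (by rw [h, map_one])
  have hw1 : w ≠ 1 := fun h => haw (by rw [h, map_one])
  have hvw : w ∉ Subgroup.zpowers v := by
    rintro ⟨i, rfl⟩
    exact haw (show a (v ^ i) = v ^ i by rw [map_zpow, ha.fix])
  have hov : orderOf v = p := orderOf_eq_prime ha.pow hv1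
  have how : orderOf w = p := orderOf_eq_prime hb.pow hw1
  have hinf : Subgroup.zpowers v ⊓ Subgroup.zpowers w = ⊥ := by
    by_contra hne
    obtain ⟨⟨z, hz⟩, hzne⟩ := Subgroup.ne_bot_iff_exists_ne_one.1 hne
    have hz1 : z ≠ 1 := fun e => hzne (Subtype.ext e)
    exact hvw (Subgroup.zpowers_le.2 hz.1
      (Local.TransPair.mem_zpowers_swap hb.pow hz1 hz.2))
  have hcardL : Nat.card L = p ^ 2 := by
    rw [hL, card_sup_of_inf_eq_bot _ _ hinf, Nat.card_zpowers, Nat.card_zpowers, hov, how, sq]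
  have hvL : v ∈ L := hL ▸ Subgroup.mem_sup_left (Subgroup.mem_zpowers v)
  have hwL : w ∈ L := hL ▸ Subgroup.mem_sup_right (Subgroup.mem_zpowers w)
  have hexp : ∀ l : L, l ^ p = 1 := by
    rintro ⟨l, hl⟩
    refine Subtype.ext ?_
    show l ^ p = 1
    rw [hL] at hl
    obtain ⟨y, ⟨i, rfl⟩, z, ⟨j, rfl⟩, rfl⟩ := Subgroup.mem_sup.1 hl
    show (v ^ i * w ^ j) ^ p = 1
    rw [mul_pow, ← zpow_natCast, ← zpow_natCast, ← zpow_mul, ← zpow_mul, mul_comm i, mul_comm j,
      zpow_mul, zpow_mul, zpow_natCast, zpow_natCast, ha.pow, hb.pow, one_zpow, one_zpow, mul_one]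
  have hspan : ∀ l : L, ∃ i j : ℕ, l = (⟨v, hvL⟩ : L) ^ i * (⟨w, hwL⟩ : L) ^ j := by
    rintro ⟨l, hl⟩
    rw [hL] at hl
    obtain ⟨y, hy, z, hz, rfl⟩ := Subgroup.mem_sup.1 hl
    obtain ⟨i, hi⟩ := mem_powers_iff_mem_zpowers.2 hy
    obtain ⟨j, hj⟩ := mem_powers_iff_mem_zpowers.2 hz
    exact ⟨i, j, Subtype.ext (by
      show y * z = v ^ i * w ^ j
      rw [← hi, ← hj])⟩
  -- restriction to the plane
  let T : Subgroup (MulAut A) :=
    { carrier := {g | ∀ t, g t ∈ L ↔ t ∈ L}
      one_mem' := fun t => Iff.rfl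
      mul_mem' := fun {g h} hg hh t => by rw [MulAut.mul_apply]; exact (hg _).trans (hh t)
      inv_mem' := fun {g} hg t => by
        have := (hg (g⁻¹ t)).symm
        rwa [MulAut.apply_inv_self] at this }
  have hmemT : ∀ {g : MulAut A} {u : A}, u ∈ L → (∀ t, g t / t ∈ Subgroup.zpowers u) → g ∈ T := by
    intro g u hu hd t
    have h1 : g t / t ∈ L := Subgroup.zpowers_le.2 hu (hd t)
    refine ⟨fun h => ?_, fun h => ?_⟩
    · have := L.mul_mem (L.inv_mem h1) h
      rwa [inv_div, div_mul_cancel] at this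
    · have := L.mul_mem h1 h
      rwa [div_mul_cancel] at this
  have haT : a ∈ T := hmemT hvL ha.diff
  have hbT : b ∈ T := hmemT hwL hb.diff
  let Ψ : (T ⊓ Γ : Subgroup (MulAut A)) →* MulAut L := MonoidHom.mk'
    (fun g =>
      { toFun := fun l => ⟨(g : MulAut A) (l : A), (g.2.1 _).2 l.2⟩
        invFun := fun l => ⟨((g : MulAut A)⁻¹) (l : A), ((inv_mem g.2.1 : _ ∈ T) _).2 l.2⟩
        left_inv := fun l => Subtype.ext (MulAut.inv_apply_self _ _ _)
        right_inv := fun l => Subtype.ext (MulAut.apply_inv_self _ _ _)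
        map_mul' := fun l m => Subtype.ext (map_mul (g : MulAut A) _ _) })
    fun g h => MulEquiv.ext fun l => rfl
  haveI : Group.IsSolvable (T ⊓ Γ : Subgroup (MulAut A)) :=
    isSolvable_of_le inf_le_right ‹_›
  haveI : Finite L := inferInstance
  obtain ⟨ρ, hρ, r1, r2, r3, r4⟩ := Local.FS.exists_sl2_hom (p := p) (H := L)
    (fun x y => mul_comm x y) hexp hspan hcardL
  have hnorm : ∀ {c : MulAut A} {e f : A}, IsLine p c e → c f ≠ f → e ≠ 1 →
      ∃ k : ℕ, (c ^ k) e = e ∧ (c ^ k) f = e * f := by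
    intro c e f hc hcf he
    have hne : c f / f ≠ 1 := fun h => hcf (div_eq_one.1 h)
    have hfix : c (c f / f) = c f / f := by
      obtain ⟨i, hi⟩ := hc.diff f
      rw [← show e ^ i = c f / f from hi, map_zpow, hc.fix]
    obtain ⟨m, hm⟩ := Local.TransPair.exists_npow (p := p)
      (show (c f / f) ^ p = 1 from Local.TransPair.pow_of_mem_zpowers hc.pow (hc.diff f))
      (Local.TransPair.mem_zpowers_swap hc.pow hne (hc.diff f))
    refine ⟨m, ?_, ?_⟩
    · rw [pow_apply_of_fix (by rw [hc.fix, div_self', map_one]) m, hc.fix, div_self', one_pow,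
        mul_one]
    · rw [pow_apply_of_fix hfix m, hm, mul_comm]
  obtain ⟨k, hk1, hk2⟩ := hnorm ha haw hv1
  obtain ⟨l, hl1, hl2⟩ := hnorm hb hbv hw1
  have heq : ∀ {c d : MulAut L}, c ⟨v, hvL⟩ = d ⟨v, hvL⟩ → c ⟨w, hwL⟩ = d ⟨w, hwL⟩ → c = d := by
    intro c d h1 h2
    refine MulEquiv.ext fun x => ?_
    obtain ⟨i, j, rfl⟩ := hspan x
    rw [map_mul, map_mul, map_pow, map_pow, map_pow, map_pow, h1, h2]
  have hup : ρ (upU 1) = Ψ ⟨a ^ k, pow_mem haT k, pow_mem haΓ k⟩ :=
    heq (r1.trans (Subtype.ext hk1.symm)) (r2.trans (Subtype.ext hk2.symm))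
  have hlow : ρ (lowL 1) = Ψ ⟨b ^ l, pow_mem hbT l, pow_mem hbΓ l⟩ :=
    heq (r3.trans (Subtype.ext (by
      show v * w = (b ^ l) v
      rw [hl2, mul_comm]))) (r4.trans (Subtype.ext hl1.symm))
  have hall : ∀ g, ρ g ∈ Ψ.range := fun g =>
    ((Local.FS.sl2_le_of_transvections (L := Ψ.range.comap ρ)
      (by rw [Subgroup.mem_comap, hup]; exact ⟨_, rfl⟩)
      (by rw [Subgroup.mem_comap, hlow]; exact ⟨_, rfl⟩)).ge (Subgroup.mem_top g) :)
  haveI : Group.IsSolvable Ψ.range := Group.isSolvable_of_surjective Ψ.rangeRestrict_surjective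
  have hsol : Group.IsSolvable (Matrix.SpecialLinearGroup (Fin 2) (ZMod p)) :=
    Group.isSolvable_of_isSolvable_injective (f := ρ.codRestrict Ψ.range hall)
      (fun x y h => hρ (congrArg Subtype.val h))
  have h := Fusion.eq_three_of_solvable_involves (p := p) (by omega) hsol
    ⟨⊤, ⊥, inferInstance, ⟨(QuotientGroup.quotientMulEquivOfEq
      (Subgroup.bot_subgroupOf (⊤ : Subgroup (Matrix.SpecialLinearGroup (Fin 2) (ZMod p))))).trans
        (QuotientGroup.quotientBot.trans Subgroup.topEquiv)⟩⟩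
  omega

/-- The theorem. -/
theorem isPGroup_range [Finite A] [hp : Fact p.Prime] (h3 : 3 < p) (hA : IsPGroup p A) {G : Type*}
    [Group G] [Finite G] [Group.IsSolvable G] (act : G →* MulAut A) {x : G} (hx : x ^ p = 1)
    (hgen : Subgroup.normalClosure {x} = ⊤) (hr : Nat.card (diffHom (act x)).range ≤ p) :
    IsPGroup p act.range := by
  haveI : Group.IsSolvable act.range := Group.isSolvable_of_surjective act.rangeRestrict_surjective
  obtain ⟨v, hv⟩ := exists_isLine hA (a := act x) (by rw [← map_pow, hx, map_one]) hr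
  obtain ⟨P, hP⟩ : ∃ P, P = Subgroup.zpowers (act.rangeRestrict x) := ⟨_, rfl⟩
  have hjoin : ∀ g : act.range, IsPGroup p (P ⊔ MulAut.conj g • P : Subgroup act.range) := by
    intro g
    have h := pair h3 act.range (act.rangeRestrict x).2 (g * act.rangeRestrict x * g⁻¹).2 hv
      (hv.conj (g : MulAut A))
    refine IsPGroup.to_le
      (h.comap_of_injective act.range.subtype (Subgroup.subtype_injective _)) ?_
    rw [sup_le_iff, hP, conj_smul_eq_map, MonoidHom.map_zpowers, Subgroup.zpowers_le,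
      Subgroup.zpowers_le]
    exact ⟨Subgroup.subset_closure (Or.inl rfl), Subgroup.subset_closure (Or.inr rfl)⟩
  have hle := baer_suzuki P hjoin
  haveI := pCore_normal (G := act.range) p
  have htop : Cfsg.pCore p act.range = ⊤ := by
    rw [eq_top_iff]
    rintro ⟨_, g, rfl⟩ -
    have : (⊤ : Subgroup G) ≤ (Cfsg.pCore p act.range).comap act.rangeRestrict := by
      rw [← hgen]
      refine Subgroup.normalClosure_le_normal (Set.singleton_subset_iff.2 ?_)
      exact hle (hP ▸ Subgroup.mem_zpowers _)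
    exact this (Subgroup.mem_top g)
  exact (pCore_isPGroup (G := act.range) p).of_equiv
    ((MulEquiv.subgroupCongr htop).trans Subgroup.topEquiv)

end Cfsg.Agent.Solv.Transv
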