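import Cfsg.Agent.Lib.Solv.GradedFix
import Cfsg.Agent.Lib.Solv.HalfFixIndex
import Cfsg.Agent.Lib.Solv.TransvSolv
import Cfsg.Agent.Lib.Solv.CoprimeRep
import Cfsg.Agent.Lib.Solv.Cores

/-!
In an irreducible nontrivial representation of a solvable group generated by the conjugates of an
element of prime order `p > 3`, the fixed space of that element has less than half the dimension.
-/

set_option autoImplicit false
set_option linter.style.haveILetI false
set_option linter.unusedSectionVars false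

open scoped commutatorElement

namespace Cfsg.Agent.Solv.HalfFix

open Module Cfsg.Agent.Solv.CRep Cfsg.Agent.Solv.FixFrac

variable {G : Type*} [Group G] [Finite G] {K : Type*} [Field K]
variable {W : Type*} [AddCommGroup W] [Module K W] [FiniteDimensional K W]

/-- An abelian normal subgroup of a faithful irreducible group has order prime to the characteristic. -/
theorem card_ne_zero {ℓ : ℕ} [hl : Fact ℓ.Prime] [CharP K ℓ] (σ : G →* Module.End K W)
    (hs : IsSimpleRep σ) (hfaith : Function.Injective σ) (A : Subgroup G) [A.Normal]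
    (hAc : ∀ a ∈ A, ∀ b ∈ A, a * b = b * a) : (Nat.card A : K) ≠ 0 := by
  haveI := hs.1
  intro h
  rw [CharP.cast_eq_zero_iff K ℓ] at h
  obtain ⟨b₀, hb₀⟩ := exists_prime_orderOf_dvd_card' (G := A) ℓ h
  obtain ⟨B, hB⟩ : ∃ B : Subgroup G, ∀ g, g ∈ B ↔ g ∈ A ∧ g ^ ℓ = 1 := by
    refine ⟨{ carrier := {g | g ∈ A ∧ g ^ ℓ = 1}, one_mem' := ⟨one_mem _, one_pow _⟩,
              mul_mem' := ?_, inv_mem' := ?_ }, fun g => Iff.rfl⟩
    · rintro a b ⟨ha, ha'⟩ ⟨hb, hb'⟩
      exact ⟨mul_mem ha hb, by rw [(show Commute a b from hAc a ha b hb).mul_pow, ha', hb', mul_one]⟩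
    · rintro a ⟨ha, ha'⟩
      exact ⟨inv_mem ha, by rw [inv_pow, ha', inv_one]⟩
  haveI hBn : B.Normal := ⟨fun b hb g => by
    rw [hB] at hb ⊢
    exact ⟨(inferInstance : A.Normal).conj_mem b hb.1 g, by rw [_root_.conj_pow, hb.2, mul_one, mul_inv_cancel]⟩⟩
  obtain ⟨U, hU, hUs⟩ := exists_simple (σ.comp B.subtype)
  haveI := hUs.1
  haveI : CharP (Module.End K U) ℓ :=
    charP_of_injective_algebraMap (FaithfulSMul.algebraMap_injective K (Module.End K U)) ℓ
  have htriv : ∀ b : B, subRep (σ.comp B.subtype) U hU b = 1 := by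
    intro b
    obtain ⟨r, hr⟩ : ∃ r, r = subRep (σ.comp B.subtype) U hU := ⟨_, rfl⟩
    rw [← hr]
    have hb : b ^ ℓ = 1 := Subtype.ext ((hB _).1 b.2).2
    have hnil : (r b - 1) ^ ℓ = 0 := by
      rw [sub_pow_char_of_commute ℓ (Commute.one_right _), ← map_pow, hb, map_one, one_pow, sub_self]
    rcases hUs.2 (LinearMap.ker (r b - 1)) (fun g w hw => by
      rw [← hr]
      rw [LinearMap.mem_ker, LinearMap.sub_apply, Module.End.one_apply, sub_eq_zero] at hw ⊢
      rw [← Module.End.mul_apply, ← map_mul, show b * g = g * b from Subtype.ext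
        (hAc _ ((hB _).1 b.2).1 _ ((hB _).1 g.2).1), map_mul, Module.End.mul_apply, hw]) with h0 | h0
    · exfalso
      have hinj : Function.Injective ((r b - 1) : Module.End K U) := LinearMap.ker_eq_bot.1 h0
      have hpow : ∀ k : ℕ, Function.Injective (((r b - 1) ^ k : Module.End K U)) := by
        intro k
        induction k with
        | zero => intro u v h; exact h
        | succ k ih => rw [pow_succ']; exact hinj.comp ih
      obtain ⟨u, hu⟩ := exists_ne (0 : U)
      exact hu (hpow ℓ (by rw [hnil, LinearMap.zero_apply, LinearMap.zero_apply]))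
    · exact sub_eq_zero.1 (LinearMap.ker_eq_top.1 h0)
  let Fx : Submodule K W :=
    { carrier := {v | ∀ b ∈ B, σ b v = v}
      add_mem' := fun ha hb b hbB => by rw [map_add, ha b hbB, hb b hbB]
      zero_mem' := fun b _ => map_zero _
      smul_mem' := fun c v hv b hbB => by rw [map_smul, hv b hbB] }
  obtain ⟨u, hu⟩ := exists_ne (0 : U)
  have hFx : Fx = ⊤ := by
    refine (hs.2 Fx fun g v hv b hb => ?_).resolve_left fun h0 => hu (Subtype.ext ?_)
    · rw [← Module.End.mul_apply, ← map_mul, show b * g = g * (g⁻¹ * b * g) by group, map_mul,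
        Module.End.mul_apply, hv _ (by
          have := hBn.conj_mem b hb g⁻¹
          rwa [inv_inv] at this)]
    · have hmem : (u : W) ∈ Fx := fun b hb => by
        have := congrArg (fun f : Module.End K U => ((f u : U) : W)) (htriv ⟨b, hb⟩)
        rwa [subRep_apply] at this
      rw [h0, Submodule.mem_bot] at hmem
      exact hmem
  have hb1 : (b₀ : G) = 1 := hfaith (by
    rw [map_one]
    refine LinearMap.ext fun v => ?_
    have hv : v ∈ Fx := hFx ▸ Submodule.mem_top
    exact hv _ ((hB _).2 ⟨b₀.2, by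
      rw [← hb₀, ← Subgroup.orderOf_coe b₀, pow_orderOf_eq_one]⟩))
  have : b₀ = 1 := Subtype.ext hb1
  rw [this, orderOf_one] at hb₀
  exact hl.out.ne_one hb₀.symm

variable [IsAlgClosed K] {σ : G →* Module.End K W} {p : ℕ}

theorem central_scalar (hs : IsSimpleRep σ) {z : G} (hz : z ∈ Subgroup.center G) :
    ∃ c : K, σ z = c • 1 :=
  schur hs (σ z) fun g => by rw [← map_mul, ← map_mul, Subgroup.mem_center_iff.1 hz g]

theorem mem_center_of_scalar (hfaith : Function.Injective σ) {z : G}
    (hz : ∃ c : K, σ z = c • (1 : Module.End K W)) : z ∈ Subgroup.center G := by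
  obtain ⟨c, hc⟩ := hz
  refine Subgroup.mem_center_iff.2 fun g => hfaith ?_
  rw [map_mul, map_mul, hc, smul_one_mul, mul_smul_comm, mul_one]

/-- A non-scalar abelian group of operators gives a system of imprimitivity, hence the bound. -/
theorem imprimitive_core [Group.IsSolvable G] (hp : p.Prime) (h3 : 3 < p) (hs : IsSimpleRep σ)
    {x : G} (hx : x ^ p = 1) (hgen : Subgroup.normalClosure {x} = ⊤)
    {A : Type*} [CommGroup A] [Fintype A] (τ : A →* Module.End K W) (cj : G →* MulAut A)
    (hcj : ∀ g a, σ g * τ a = τ (cj g a) * σ g) (hA' : (Fintype.card A : K) ≠ 0)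
    (hns : ∃ a, ¬ ∃ c : K, τ a = c • (1 : Module.End K W)) :
    2 * finrank K (LinearMap.ker (σ x - 1)) < finrank K W := by
  classical
  haveI := hs.1
  haveI := Graded.finite_dual (K := K) hA'
  letI : Fintype (A →* Kˣ) := Fintype.ofFinite _
  let mv : G → (A →* Kˣ) → (A →* Kˣ) := fun g χ => χ.comp ((cj g)⁻¹ : MulAut A).toMonoidHom
  have hmv : ∀ g χ, σ g * Graded.proj τ χ = Graded.proj τ (mv g χ) * σ g := fun g χ =>
    Graded.intertwine (σ g) (cj g) (hcj g) χ
  have hsurjσ : ∀ g, LinearMap.range (σ g) = ⊤ := fun g =>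
    LinearMap.range_eq_top.2 fun v => ⟨σ g⁻¹ v, rep_apply_inv σ g v⟩
  have hmvne : ∀ g χ, Graded.proj τ χ ≠ 0 → Graded.proj τ (mv g χ) ≠ 0 := by
    intro g χ hne h0
    refine hne (LinearMap.ext fun v => rep_injective σ g ?_)
    rw [← Module.End.mul_apply, hmv, h0, zero_mul]
    simp
  let ι := {χ : A →* Kˣ // Graded.proj τ χ ≠ 0}
  letI : MulAction G ι :=
    { smul := fun g i => ⟨mv g i.1, hmvne g i.1 i.2⟩
      one_smul := fun i => Subtype.ext (MonoidHom.ext fun a => by
        show i.1 (((cj 1)⁻¹ : MulAut A) a) = i.1 a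
        rw [map_one, inv_one, MulAut.one_apply])
      mul_smul := fun g h i => Subtype.ext (MonoidHom.ext fun a => by
        show i.1 (((cj (g * h))⁻¹ : MulAut A) a) =
          i.1 (((cj h)⁻¹ : MulAut A) (((cj g)⁻¹ : MulAut A) a))
        rw [map_mul, mul_inv_rev, MulAut.mul_apply]) }
  obtain ⟨π, hπ⟩ : ∃ π : ι → Module.End K W, π = fun i => Graded.proj τ i.1 := ⟨_, rfl⟩
  have hπmv : ∀ g (i : ι), σ g * π i = π (g • i) * σ g := fun g i => by rw [hπ]; exact hmv g i.1
  have horth : ∀ i j : ι, π i * π j = if i = j then π i else 0 := by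
    intro i j
    rw [hπ]
    simp only [Graded.proj_mul_proj hA']
    by_cases h : i = j
    · rw [if_pos h, if_pos (congrArg Subtype.val h)]
    · rw [if_neg h, if_neg (fun e => h (Subtype.ext e))]
  have hsum : ∑ i : ι, π i = 1 := by
    rw [hπ, ← Graded.sum_proj (τ := τ) hA',
      ← Finset.sum_filter_ne_zero (s := (Finset.univ : Finset (A →* Kˣ)))]
    exact (Finset.sum_subtype _ (fun χ => by simp) (fun χ => Graded.proj τ χ)).symm
  have hιne : Nonempty ι := by
    by_contra h
    rw [not_nonempty_iff] at h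
    rw [Finset.univ_eq_empty, Finset.sum_empty] at hsum
    obtain ⟨v, hv⟩ := exists_ne (0 : W)
    exact hv (by rw [← Module.End.one_apply (R := K) v, ← hsum, LinearMap.zero_apply])
  -- transitivity
  haveI : MulAction.IsPretransitive G ι := ⟨fun i j => by
    by_contra hno
    obtain ⟨O, hO⟩ : ∃ O : Finset ι, O = Finset.univ.filter (fun k => ∃ g : G, g • i = k) := ⟨_, rfl⟩
    have hjO : j ∉ O := by rw [hO, Finset.mem_filter]; exact fun h => hno h.2
    have hiO : i ∈ O := by rw [hO, Finset.mem_filter]; exact ⟨Finset.mem_univ _, 1, one_smul G i⟩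
    have hinv : ∀ g, ∀ v ∈ LinearMap.range (∑ k ∈ O, π k), σ g v ∈ LinearMap.range (∑ k ∈ O, π k) := by
      rintro g _ ⟨v, rfl⟩
      refine ⟨σ g v, ?_⟩
      rw [← Module.End.mul_apply, ← Module.End.mul_apply, Finset.sum_mul, Finset.mul_sum]
      congr 1
      refine (Finset.sum_nbij' (fun k => g • k) (fun k => g⁻¹ • k) ?_ ?_ ?_ ?_ ?_).symm
      · intro k hk
        have hk' : k ∈ O := hk
        rw [hO, Finset.mem_filter] at hk'
        obtain ⟨h, hh⟩ := hk'.2
        rw [hO]
        exact Finset.mem_filter.2 ⟨Finset.mem_univ _, g * h, by rw [mul_smul, hh]⟩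
      · intro k hk
        have hk' : k ∈ O := hk
        rw [hO, Finset.mem_filter] at hk'
        obtain ⟨h, hh⟩ := hk'.2
        rw [hO]
        exact Finset.mem_filter.2 ⟨Finset.mem_univ _, g⁻¹ * h, by rw [mul_smul, hh]⟩
      · intro k _; exact inv_smul_smul g k
      · intro k _; exact smul_inv_smul g k
      · intro k _; exact hπmv g k
    rcases hs.2 _ hinv with h | h
    · refine i.2 ?_
      have h1 : π i * (∑ k ∈ O, π k) = π i := by
        rw [Finset.mul_sum, Finset.sum_eq_single i (fun k _ hk => by rw [horth, if_neg hk.symm])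
          (fun h => absurd hiO h), horth, if_pos rfl]
      rw [LinearMap.range_eq_bot.1 h, mul_zero] at h1
      rw [hπ] at h1
      exact h1.symm
    · refine j.2 (LinearMap.ext fun v => ?_)
      obtain ⟨w, rfl⟩ := LinearMap.range_eq_top.1 h v
      have h1 : π j * (∑ k ∈ O, π k) = 0 := by
        rw [Finset.mul_sum]
        exact Finset.sum_eq_zero fun k hk => by rw [horth, if_neg (fun e => hjO (by rwa [e]))]
      have := LinearMap.congr_fun h1 w
      rw [Module.End.mul_apply, hπ] at this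
      rw [LinearMap.zero_apply] at this ⊢
      rw [hπ]
      exact this⟩
  haveI : Nontrivial ι := by
    by_contra h
    rw [not_nontrivial_iff_subsingleton] at h
    obtain ⟨i⟩ := hιne
    have h1 : π i = 1 := by
      rw [← hsum]
      exact (Finset.sum_eq_single i (fun k _ hk => absurd (Subsingleton.elim k i) hk)
        (fun h => absurd (Finset.mem_univ _) h)).symm
    obtain ⟨a, hna⟩ := hns
    refine hna ⟨((i.1 a : Kˣ) : K), LinearMap.ext fun v => ?_⟩
    rw [LinearMap.smul_apply, Module.End.one_apply]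
    exact (Graded.mem_range_proj (τ := τ) (χ := i.1) hA').1
      ⟨v, by rw [hπ] at h1; exact LinearMap.congr_fun h1 v⟩ a
  have hdimeq : ∀ i j : ι, finrank K (LinearMap.range (π i)) = finrank K (LinearMap.range (π j)) := by
    intro i j
    obtain ⟨g, rfl⟩ := MulAction.exists_smul_eq G i j
    have h1 : LinearMap.range (π (g • i)) = (LinearMap.range (π i)).map (σ g) := by
      rw [← LinearMap.range_comp, ← Module.End.mul_eq_comp, hπmv, Module.End.mul_eq_comp,
        LinearMap.range_comp_of_range_eq_top _ (hsurjσ g)]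
    rw [h1]
    exact (Submodule.equivMapOfInjective _ (rep_injective σ g) _).finrank_eq
  obtain ⟨i₀⟩ := hιne
  obtain ⟨m, hm⟩ : ∃ m, m = finrank K (LinearMap.range (π i₀)) := ⟨_, rfl⟩
  have hm' : ∀ i, finrank K (LinearMap.range (π i)) = m := fun i => by rw [hm]; exact hdimeq i i₀
  have hd := Graded.finrank_eq π hsum horth hm'
  have hs' : (MulAction.toPermHom G ι x) ^ p = 1 := by rw [← map_pow, hx, map_one]
  have hc := Graded.fix_le π hsum hp (σ x) (MulAction.toPermHom G ι x) hs' (fun i => hπmv x i) hm'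
  have hF := fix_frac (X := ι) hp h3 hx hgen
  have hFeq : Nat.card {i : ι // MulAction.toPermHom G ι x i = i} = Nat.card {c : ι // x • c = c} := rfl
  rw [hFeq] at hc
  rw [Nat.card_eq_fintype_card (α := ι)] at hF
  have hmpos : 0 < m := by
    rw [hm, Nat.pos_iff_ne_zero, Ne, Submodule.finrank_eq_zero, LinearMap.range_eq_bot, hπ]
    exact i₀.2
  have hn : 0 < Fintype.card ι := Fintype.card_pos_iff.2 ⟨i₀⟩
  rw [hd]
  generalize Nat.card {c : ι // x • c = c} = F at hc hF
  generalize Fintype.card ι = n at hc hF hn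
  generalize finrank K (LinearMap.ker (σ x - 1)) = c at hc
  obtain ⟨r, rfl⟩ : ∃ r, p = r + 1 := ⟨p - 1, by omega⟩
  rw [Nat.add_sub_cancel] at hc
  by_contra hlt
  rw [not_lt] at hlt
  have e1 : (r + 1) * (n * m) ≤ 2 * ((r * F + n) * m) :=
    le_trans (Nat.mul_le_mul_left _ hlt) (by rw [mul_left_comm]; exact Nat.mul_le_mul_left _ hc)
  have e2 : (r + 1) * n ≤ 2 * (r * F + n) := by
    rw [← mul_assoc, ← mul_assoc 2] at e1
    exact Nat.le_of_mul_le_mul_right e1 hmpos
  have e3 : r * (4 * F) ≤ r * n := Nat.mul_le_mul_left _ hF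
  nlinarith

theorem imprimitive [Group.IsSolvable G] (hp : p.Prime) (h3 : 3 < p) (hs : IsSimpleRep σ)
    {x : G} (hx : x ^ p = 1)
    (hgen : Subgroup.normalClosure {x} = ⊤) (A : Subgroup G) [hAn : A.Normal]
    (hAc : ∀ a ∈ A, ∀ b ∈ A, a * b = b * a) (hA : (Nat.card A : K) ≠ 0)
    (hns : ∃ a ∈ A, ¬ ∃ c : K, σ a = c • (1 : Module.End K W)) :
    2 * finrank K (LinearMap.ker (σ x - 1)) < finrank K W := by
  letI : CommGroup A :=
    { (inferInstance : Group A) with mul_comm := fun a b => Subtype.ext (hAc _ a.2 _ b.2) }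
  letI : Fintype A := Fintype.ofFinite A
  obtain ⟨a, ha, hna⟩ := hns
  refine imprimitive_core hp h3 hs hx hgen (A := A) (σ.comp A.subtype) MulAut.conjNormal
    (fun g a => ?_) (by rwa [← Nat.card_eq_fintype_card]) ⟨⟨a, ha⟩, hna⟩
  show σ g * σ (a : G) = σ ((MulAut.conjNormal g a : A) : G) * σ g
  rw [← map_mul, ← map_mul, MulAut.conjNormal_apply, inv_mul_cancel_right]

theorem zpowers_eq_top {H : Type*} [Group H] [Finite H] [Group.IsNilpotent H] {x : H}
    (hgen : Subgroup.normalClosure {x} = ⊤) : Subgroup.zpowers x = ⊤ := by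
  by_contra h
  obtain ⟨M, hM, hle⟩ := (eq_top_or_exists_le_coatom (Subgroup.zpowers x)).resolve_left h
  haveI : M.Normal := Subgroup.NormalizerCondition.normal_of_coatom M Group.normalizerCondition_of_isNilpotent hM
  exact hM.1 (top_le_iff.1 (hgen ▸ Subgroup.normalClosure_le_normal
    (Set.singleton_subset_iff.2 (hle (Subgroup.mem_zpowers x)))))

/-- Conjugation on endomorphisms. -/
def adHom (σ : G →* Module.End K W) : G →* Module.End K (Module.End K W) where
  toFun g := LinearMap.mulLeft K (σ g) * LinearMap.mulRight K (σ g⁻¹)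
  map_one' := LinearMap.ext fun T => by simp
  map_mul' g h := LinearMap.ext fun T => by
    simp only [Module.End.mul_apply, LinearMap.mulLeft_apply, LinearMap.mulRight_apply, mul_inv_rev,
      map_mul, mul_assoc]

theorem adHom_apply (σ : G →* Module.End K W) (g : G) (T : Module.End K W) :
    adHom σ g T = σ g * (T * σ g⁻¹) := rfl

/-- The commutant of a nontrivial element bounds the square of the dimension of its fixed space. -/
theorem sq_lt_commutant (x : G) (hne : σ x ≠ 1) :
    finrank K (LinearMap.ker (σ x - 1)) * finrank K (LinearMap.ker (σ x - 1)) <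
      finrank K (LinearMap.ker (adHom σ x - 1)) := by
  set C := LinearMap.ker (σ x - 1) with hC
  set R := LinearMap.range (σ x - 1) with hR
  have hq : finrank K (W ⧸ R) = finrank K C := by
    have h1 := Submodule.finrank_quotient_add_finrank R
    have h2 := LinearMap.finrank_range_add_finrank_ker (σ x - 1)
    rw [← hR, ← hC] at h2
    omega
  let Ψ : ((W ⧸ R) →ₗ[K] C) →ₗ[K] Module.End K W :=
    { toFun := fun f => C.subtype.comp (f.comp R.mkQ)
      map_add' := fun f g => LinearMap.ext fun w => rfl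
      map_smul' := fun c f => LinearMap.ext fun w => rfl }
  have hΨ : Function.Injective Ψ := by
    intro f g h
    refine LinearMap.ext fun z => ?_
    obtain ⟨w, rfl⟩ := Submodule.Quotient.mk_surjective R z
    exact Subtype.ext (LinearMap.congr_fun h w)
  have hmem : ∀ f, Ψ f ∈ LinearMap.ker (adHom σ x - 1) := by
    intro f
    rw [LinearMap.mem_ker, LinearMap.sub_apply, Module.End.one_apply, sub_eq_zero, adHom_apply]
    refine LinearMap.ext fun w => ?_
    rw [Module.End.mul_apply, Module.End.mul_apply]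
    show σ x (f (Submodule.Quotient.mk (σ x⁻¹ w)) : W) = (f (Submodule.Quotient.mk w) : W)
    have h1 : (Submodule.Quotient.mk (σ x⁻¹ w) : W ⧸ R) = Submodule.Quotient.mk w := by
      rw [Submodule.Quotient.eq, hR]
      refine ⟨-(σ x⁻¹ w), ?_⟩
      rw [LinearMap.sub_apply, Module.End.one_apply, map_neg, rep_apply_inv]
      abel
    rw [h1]
    have := LinearMap.mem_ker.1 (f (Submodule.Quotient.mk w)).2
    rw [LinearMap.sub_apply, Module.End.one_apply, sub_eq_zero] at this
    exact this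
  have hlt : LinearMap.range Ψ < LinearMap.ker (adHom σ x - 1) := by
    refine lt_of_le_of_ne (by rintro _ ⟨f, rfl⟩; exact hmem f) fun he => hne ?_
    have h1 : (1 : Module.End K W) ∈ LinearMap.range Ψ := by
      rw [he, LinearMap.mem_ker, LinearMap.sub_apply, Module.End.one_apply, sub_eq_zero, adHom_apply,
        one_mul, ← map_mul, mul_inv_cancel, map_one]
    obtain ⟨f, hf⟩ := h1
    refine sub_eq_zero.1 (LinearMap.ext fun w => ?_)
    have h2 := LinearMap.congr_fun hf ((σ x - 1) w)
    rw [Module.End.one_apply] at h2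
    rw [LinearMap.zero_apply, ← h2]
    show ((f (Submodule.Quotient.mk ((σ x - 1) w)) : C) : W) = 0
    rw [(Submodule.Quotient.mk_eq_zero R).2 ⟨w, rfl⟩, map_zero, Submodule.coe_zero]
  have h3 := Submodule.finrank_lt_finrank_of_lt hlt
  rwa [LinearMap.finrank_range_of_inj hΨ, Module.finrank_linearMap, hq] at h3

/-- The scalar by which a central element acts. -/
noncomputable def centralChar (hs : IsSimpleRep σ) : Subgroup.center G →* Kˣ :=
  MonoidHom.mk' (fun z => Units.mk0 (central_scalar hs z.2).choose (fun h0 => by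
      haveI := hs.1
      have h := (central_scalar hs z.2).choose_spec
      rw [h0, zero_smul] at h
      obtain ⟨v, hv⟩ := exists_ne (0 : W)
      apply hv
      apply rep_injective σ (z : G)
      rw [h, LinearMap.zero_apply, LinearMap.zero_apply]))
    fun y z => Units.ext (by
      haveI := hs.1
      refine smul_one_injective (W := W) ?_
      show (central_scalar hs (y * z).2).choose • (1 : Module.End K W) =
        ((central_scalar hs y.2).choose * (central_scalar hs z.2).choose) • 1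
      refine (central_scalar hs (y * z).2).choose_spec.symm.trans ?_
      rw [Subgroup.coe_mul, map_mul]
      exact (congrArg₂ (· * ·) (central_scalar hs y.2).choose_spec
        (central_scalar hs z.2).choose_spec).trans (by rw [smul_mul_smul_comm, one_mul]))

theorem centralChar_spec (hs : IsSimpleRep σ) (z : Subgroup.center G) :
    σ (z : G) = ((centralChar hs z : Kˣ) : K) • 1 :=
  (central_scalar hs z.2).choose_spec

/-- All abelian normal subgroups central: the bound. -/
theorem primitive [Group.IsSolvable G] [hp : Fact p.Prime] (h3 : 3 < p) {ℓ : ℕ} [Fact ℓ.Prime]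
    [CharP K ℓ] (hs : IsSimpleRep σ) (hfaith : Function.Injective σ) {x : G} (hx : x ^ p = 1)
    (hgen : Subgroup.normalClosure {x} = ⊤) (hG : Nontrivial G)
    (hprim : ∀ A : Subgroup G, A.Normal → (∀ a ∈ A, ∀ b ∈ A, a * b = b * a) → A ≤ Subgroup.center G) :
    2 * finrank K (LinearMap.ker (σ x - 1)) < finrank K W := by
  classical
  haveI := hs.1
  have hx1 : x ≠ 1 := by
    intro h
    rw [h] at hgen
    have hb : Subgroup.normalClosure ({1} : Set G) ≤ ⊥ :=
      Subgroup.normalClosure_le_normal (Set.singleton_subset_iff.2 (one_mem _))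
    rw [hgen, top_le_iff] at hb
    exact absurd hb bot_ne_top
  have hσx : σ x ≠ 1 := fun h => hx1 (hfaith (by rw [h, map_one]))
  have hSQ := sq_lt_commutant (σ := σ) x hσx
  -- the abelian case
  by_cases hab : ∀ a b : G, a * b = b * a
  · have hall : ∀ g : G, ∃ c : K, σ g = c • 1 := fun g => central_scalar hs
      (Subgroup.mem_center_iff.2 fun h => hab h g)
    obtain ⟨c, hc⟩ := hall x
    have hker : LinearMap.ker (σ x - 1) = ⊥ := by
      rw [Submodule.eq_bot_iff]
      intro v hv
      rw [LinearMap.mem_ker, LinearMap.sub_apply, hc, LinearMap.smul_apply, Module.End.one_apply,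
        sub_eq_zero] at hv
      by_contra hv0
      exact hσx (by rw [hc, show c = 1 from smul_left_injective K hv0
        (show c • v = (1 : K) • v by rw [hv, one_smul]), one_smul])
    rw [hker, finrank_bot, mul_zero]
    exact Module.finrank_pos
  have hnilp : ¬ Group.IsNilpotent G := by
    intro hn
    refine hab fun a b => ?_
    obtain ⟨i, hi⟩ : a ∈ Subgroup.zpowers x := zpowers_eq_top hgen ▸ Subgroup.mem_top a
    obtain ⟨j, hj⟩ : b ∈ Subgroup.zpowers x := zpowers_eq_top hgen ▸ Subgroup.mem_top b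
    rw [← hi, ← hj]
    show x ^ i * x ^ j = x ^ j * x ^ i
    rw [← zpow_add, ← zpow_add, add_comm]
  have hcentral : ∀ r : ℕ, ∀ (_ : Fact r.Prime), (∀ a ∈ Cfsg.pCore r G, x * a = a * x) →
      ∀ a ∈ Cfsg.pCore r G, ∀ g, g * a = a * g := by
    intro r hr h
    haveI := pCore_normal (G := G) r
    have hle : (⊤ : Subgroup G) ≤ Subgroup.centralizer (Cfsg.pCore r G : Set G) :=
      hgen ▸ Subgroup.normalClosure_le_normal (Set.singleton_subset_iff.2
        (Subgroup.mem_centralizer_iff.2 fun a ha => (h a ha).symm))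
    exact fun a ha g => (Subgroup.mem_centralizer_iff.1 (hle (Subgroup.mem_top g)) a ha).symm
  -- choose `q`
  obtain ⟨q, hqF, hqmove, hqpref⟩ : ∃ q : ℕ, ∃ _ : Fact q.Prime, (∃ a ∈ Cfsg.pCore q G, x * a ≠ a * x) ∧
      (q = p → ∀ r : ℕ, ∀ (_ : Fact r.Prime), r ≠ p → ∀ a ∈ Cfsg.pCore r G, x * a = a * x) := by
    by_cases h1 : ∃ r : ℕ, ∃ _ : Fact r.Prime, r ≠ p ∧ ∃ a ∈ Cfsg.pCore r G, x * a ≠ a * x
    · obtain ⟨r, hr, hrp, h⟩ := h1
      exact ⟨r, hr, h, fun e => absurd e hrp⟩
    push Not at h1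
    refine ⟨p, hp, ?_, fun _ r hr hrp => h1 r hr hrp⟩
    by_contra h2
    push Not at h2
    apply hnilp
    have hxF : x ∈ Subgroup.centralizer (Cfsg.fittingSubgroup G : Set G) := by
      have hle : Cfsg.fittingSubgroup G ≤ Subgroup.centralizer ({x} : Set G) := by
        rw [fitting_eq_iSup_pCore]
        refine iSup_le fun r a ha => Subgroup.mem_centralizer_iff.2 ?_
        intro z hz
        rw [Set.mem_singleton_iff.1 hz]
        by_cases hrp : (r : ℕ) = p
        · rw [hrp] at ha; exact h2 a ha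
        · exact h1 _ ⟨r.2⟩ hrp a ha
      exact Subgroup.mem_centralizer_iff.2 fun a ha =>
        (Subgroup.mem_centralizer_iff.1 (hle ha) x rfl).symm
    haveI := fittingSubgroup_normal (G := G)
    have htop : (⊤ : Subgroup G) ≤ Cfsg.fittingSubgroup G := hgen ▸ Subgroup.normalClosure_le_normal
      (Set.singleton_subset_iff.2 (centralizer_fitting_le inferInstance hxF))
    haveI := fittingSubgroup_nilpotent (G := G)
    exact isNilpotent_of_le htop inferInstance |> fun h =>
      (Group.isNilpotent_congr Subgroup.topEquiv).1 h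
  obtain ⟨Q, hQ⟩ : ∃ Q, Q = Cfsg.pCore q G := ⟨_, rfl⟩
  haveI hQn : Q.Normal := hQ ▸ pCore_normal q
  have hQp : IsPGroup q Q := hQ ▸ pCore_isPGroup q
  haveI : Group.IsNilpotent Q := hQp.isNilpotent
  -- `Q' ≤ Z(G)`
  obtain ⟨Zq, hZq⟩ : ∃ Zq : Subgroup G, Zq = Q ⊓ Subgroup.center G := ⟨_, rfl⟩
  have hder : ∀ a ∈ Q, ∀ b ∈ Q, ⁅a, b⁆ ∈ Subgroup.center G := by
    -- the second centre
    let Z2 : Subgroup G :=
      { carrier := {y | y ∈ Q ∧ ∀ a ∈ Q, ⁅y, a⁆ ∈ Subgroup.center G}
        one_mem' := ⟨one_mem _, fun a _ => by rw [commutatorElement_one_left]; exact one_mem _⟩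
        mul_mem' := by
          rintro y z ⟨hy, hy'⟩ ⟨hz, hz'⟩
          refine ⟨mul_mem hy hz, fun a ha => ?_⟩
          rw [show ⁅y * z, a⁆ = y * ⁅z, a⁆ * y⁻¹ * ⁅y, a⁆ by
            simp only [_root_.commutatorElement_def]; group]
          exact mul_mem ((inferInstance : (Subgroup.center G).Normal).conj_mem _ (hz' a ha) y) (hy' a ha)
        inv_mem' := by
          rintro y ⟨hy, hy'⟩
          refine ⟨inv_mem hy, fun a ha => ?_⟩
          rw [show ⁅y⁻¹, a⁆ = y⁻¹ * ⁅y, a⁆⁻¹ * y⁻¹⁻¹ by
            simp only [_root_.commutatorElement_def]; group]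
          exact (inferInstance : (Subgroup.center G).Normal).conj_mem _ (inv_mem (hy' a ha)) y⁻¹ }
    obtain ⟨D, hD⟩ : ∃ D : Subgroup G, D = ⁅Q, Q⁆ := ⟨_, rfl⟩
    haveI hDn : D.Normal := hD ▸ inferInstance
    have hDQ : D ≤ Q := hD ▸ Subgroup.commutator_le_left Q Q
    have hcomm : ∀ y ∈ Z2, ∀ d ∈ D, y * d = d * y := by
      intro y hy d hd
      have hle : D ≤ Subgroup.centralizer ({y} : Set G) := by
        rw [hD, Subgroup.commutator_le]
        intro a ha b hb
        refine Subgroup.mem_centralizer_iff.2 ?_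
        intro z hz
        rw [Set.mem_singleton_iff.1 hz]
        obtain ⟨e, he⟩ : ∃ e, e = ⁅y, a⁆ := ⟨_, rfl⟩
        obtain ⟨f, hf⟩ : ∃ f, f = ⁅y, b⁆ := ⟨_, rfl⟩
        have he' : ∀ g, g * e = e * g := he ▸ Subgroup.mem_center_iff.1 (hy.2 a ha)
        have hf' : ∀ g, g * f = f * g := hf ▸ Subgroup.mem_center_iff.1 (hy.2 b hb)
        have h1 : y * a * y⁻¹ = e * a := by rw [he, _root_.commutatorElement_def]; group
        have h2 : y * b * y⁻¹ = f * b := by rw [hf, _root_.commutatorElement_def]; group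
        have hconj : y * ⁅a, b⁆ * y⁻¹ = ⁅a, b⁆ := by
          rw [conjugate_commutatorElement, h1, h2, _root_.commutatorElement_def,
            _root_.commutatorElement_def]
          calc e * a * (f * b) * (e * a)⁻¹ * (f * b)⁻¹
              = e * (a * f) * b * a⁻¹ * e⁻¹ * b⁻¹ * f⁻¹ := by group
            _ = e * (f * a) * b * a⁻¹ * e⁻¹ * b⁻¹ * f⁻¹ := by rw [hf']
            _ = e * f * (a * b * a⁻¹ * e⁻¹ * b⁻¹) * f⁻¹ := by group
            _ = e * f * (a * b * a⁻¹ * (b⁻¹ * e⁻¹)) * f⁻¹ := by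
              rw [show b⁻¹ * e⁻¹ = e⁻¹ * b⁻¹ by rw [← mul_inv_rev, ← mul_inv_rev, he']]
              group
            _ = e * f * (a * b * a⁻¹ * b⁻¹) * (e * f)⁻¹ := by
              rw [show (e * f)⁻¹ = (f * e)⁻¹ by rw [he' f]]; group
            _ = e * ((a * b * a⁻¹ * b⁻¹) * f) * (e * f)⁻¹ := by rw [hf' (a * b * a⁻¹ * b⁻¹)]; group
            _ = e * (a * b * a⁻¹ * b⁻¹) * e⁻¹ := by group
            _ = (a * b * a⁻¹ * b⁻¹) * e * e⁻¹ := by rw [he' (a * b * a⁻¹ * b⁻¹)]
            _ = a * b * a⁻¹ * b⁻¹ := mul_inv_cancel_right _ _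
        exact mul_inv_eq_iff_eq_mul.1 hconj
      exact Subgroup.mem_centralizer_iff.1 (hle hd) y rfl
    have hZ2n : ∀ g, ∀ y ∈ Z2, g * y * g⁻¹ ∈ Z2 := by
      intro g y hy
      refine ⟨hQn.conj_mem y hy.1 g, fun a ha => ?_⟩
      have h1 := (inferInstance : (Subgroup.center G).Normal).conj_mem _
        (hy.2 (g⁻¹ * a * g) (by simpa using hQn.conj_mem a ha g⁻¹)) g
      rwa [conjugate_commutatorElement, show g * (g⁻¹ * a * g) * g⁻¹ = a by group] at h1
    have hinter : D ⊓ Z2 ≤ Subgroup.center G := hprim _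
      ⟨fun y hy g => ⟨hDn.conj_mem y hy.1 g, hZ2n g y hy.2⟩⟩
      (fun a ha b hb => hcomm a ha.2 b hb.1)
    intro a ha b hb
    by_contra hno
    haveI hZqn : (Zq.subgroupOf Q).Normal := by
      haveI : Zq.Normal := hZq ▸ inferInstance
      infer_instance
    obtain ⟨M, hM⟩ : ∃ M : Subgroup (Q ⧸ Zq.subgroupOf Q),
        M = (D.subgroupOf Q).map (QuotientGroup.mk' (Zq.subgroupOf Q)) := ⟨_, rfl⟩
    haveI : M.Normal := hM ▸ Subgroup.Normal.map inferInstance _ (QuotientGroup.mk'_surjective _)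
    have habQ : ⁅a, b⁆ ∈ Q := hDQ (hD ▸ Subgroup.commutator_mem_commutator ha hb)
    have hMne : M ≠ ⊥ := by
      intro h0
      apply hno
      have h1 : QuotientGroup.mk' (Zq.subgroupOf Q) ⟨⁅a, b⁆, habQ⟩ ∈ M := by
        rw [hM]
        exact Subgroup.mem_map_of_mem _ (Subgroup.mem_subgroupOf.2
          (hD ▸ Subgroup.commutator_mem_commutator ha hb))
      rw [h0, Subgroup.mem_bot, QuotientGroup.mk'_apply, QuotientGroup.eq_one_iff,
        Subgroup.mem_subgroupOf, hZq] at h1
      exact h1.2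
    have hQq : IsPGroup q (Q ⧸ Zq.subgroupOf Q) := hQp.to_quotient _
    obtain ⟨k, hk⟩ := IsPGroup.iff_card.1 (hQq.to_subgroup M)
    haveI : Nontrivial M := (Subgroup.nontrivial_iff_ne_bot M).2 hMne
    -- a central element in `M`
    have hkpos : q ∣ Nat.card M := by
      rw [hk]
      refine dvd_pow_self q ?_
      rintro rfl
      exact hMne (Subgroup.card_eq_one.1 (by rw [hk, pow_zero]))
    letI : MulDistribMulAction (Q ⧸ Zq.subgroupOf Q) M :=
      MulDistribMulAction.compHom M (MulAut.conjNormal : (Q ⧸ Zq.subgroupOf Q) →* MulAut M)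
    obtain ⟨c, hc, hc1⟩ := hQq.exists_fixed_point_of_prime_dvd_card_of_fixed_point M hkpos
      (a := (1 : M)) (fun g => smul_one g)
    obtain ⟨y, hy⟩ := QuotientGroup.mk'_surjective (Zq.subgroupOf Q) (c : Q ⧸ Zq.subgroupOf Q)
    have hcM := le_of_eq hM c.2
    obtain ⟨d, hd, hdc⟩ := Subgroup.mem_map.1 hcM
    have hdZ2 : (d : G) ∈ Z2 := by
      refine ⟨d.2, fun g hg => ?_⟩
      have h1 : (QuotientGroup.mk' (Zq.subgroupOf Q)) ⟨g, hg⟩ * (c : Q ⧸ Zq.subgroupOf Q) *
          ((QuotientGroup.mk' (Zq.subgroupOf Q)) ⟨g, hg⟩)⁻¹ = c :=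
        congrArg Subtype.val (hc ((QuotientGroup.mk' (Zq.subgroupOf Q)) ⟨g, hg⟩))
      rw [← hdc, ← map_inv, ← map_mul, ← map_mul, QuotientGroup.mk'_apply, QuotientGroup.mk'_apply,
        QuotientGroup.eq, Subgroup.mem_subgroupOf, hZq] at h1
      have h2 : (g * (d : G) * g⁻¹)⁻¹ * d ∈ Subgroup.center G := h1.2
      have h3 := (inferInstance : (Subgroup.center G).Normal).conj_mem _ h2 (g * (d : G) * g⁻¹)
      rwa [show g * (d : G) * g⁻¹ * ((g * (d : G) * g⁻¹)⁻¹ * d) * (g * (d : G) * g⁻¹)⁻¹ = ⁅(d : G), g⁆ by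
        rw [_root_.commutatorElement_def]; group] at h3
    apply hc1
    refine Subtype.ext ?_
    rw [Subgroup.coe_one, ← hdc, eq_comm, QuotientGroup.mk'_apply, QuotientGroup.eq_one_iff,
      Subgroup.mem_subgroupOf, hZq]
    exact ⟨d.2, hinter ⟨Subgroup.mem_subgroupOf.1 hd, hdZ2⟩⟩
  -- the quotient by the centre and its action
  obtain ⟨C₀, hC₀⟩ : ∃ C₀ : Subgroup Q, C₀ = (Subgroup.center G).subgroupOf Q := ⟨_, rfl⟩
  haveI : C₀.Normal := hC₀ ▸ inferInstance
  letI : CommGroup (Q ⧸ C₀) := { (inferInstance : Group (Q ⧸ C₀)) with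
    mul_comm := fun a b => by
      obtain ⟨a, rfl⟩ := QuotientGroup.mk_surjective a
      obtain ⟨b, rfl⟩ := QuotientGroup.mk_surjective b
      rw [← QuotientGroup.mk_mul, ← QuotientGroup.mk_mul, QuotientGroup.eq, hC₀, Subgroup.mem_subgroupOf]
      have h1 := hder _ (Q.inv_mem b.2) _ (Q.inv_mem a.2)
      rw [_root_.commutatorElement_def, inv_inv, inv_inv] at h1
      show ((a : G) * b)⁻¹ * (b * a) ∈ _
      rwa [mul_inv_rev, ← mul_assoc] }
  have hmap : ∀ g : G, C₀.map ((MulAut.conjNormal g : Q ≃* Q) : Q →* Q) = C₀ := by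
    intro g
    ext n
    rw [hC₀, Subgroup.mem_map]
    refine ⟨?_, fun hn => ⟨(MulAut.conjNormal g : MulAut Q)⁻¹ n, ?_, MulAut.apply_inv_self _ _ _⟩⟩
    · rintro ⟨m, hm, rfl⟩
      exact (inferInstance : (Subgroup.center G).Normal).conj_mem _ (Subgroup.mem_subgroupOf.1 hm) g
    · rw [← map_inv]
      exact (inferInstance : (Subgroup.center G).Normal).conj_mem _ (Subgroup.mem_subgroupOf.1 hn) g⁻¹
  let act : G →* MulAut (Q ⧸ C₀) :=
    MonoidHom.mk' (fun g => QuotientGroup.congr C₀ C₀ (MulAut.conjNormal g) (hmap g)) fun a b =>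
      MulEquiv.ext fun c => by
        obtain ⟨n, rfl⟩ := QuotientGroup.mk_surjective c
        show QuotientGroup.congr C₀ C₀ (MulAut.conjNormal (a * b)) (hmap _) (QuotientGroup.mk n) =
          QuotientGroup.congr C₀ C₀ (MulAut.conjNormal a) (hmap _)
            (QuotientGroup.congr C₀ C₀ (MulAut.conjNormal b) (hmap _) (QuotientGroup.mk n))
        rw [QuotientGroup.congr_mk, QuotientGroup.congr_mk, QuotientGroup.congr_mk, map_mul,
          MulAut.mul_apply]
  have hact : ∀ g (n : Q), act g (QuotientGroup.mk n) = QuotientGroup.mk (MulAut.conjNormal g n) :=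
    fun g n => QuotientGroup.congr_mk C₀ C₀ _ (hmap g) n
  have hAq : IsPGroup q (Q ⧸ C₀) := hQp.to_quotient _
  -- elements acting trivially on the quotient: a power centralises `Q`
  have hkey : ∀ g : G, act g = 1 → ∀ a : Q, ∀ k : ℕ,
      ∃ z ∈ Subgroup.center G, z ∈ Q ∧ g * a * g⁻¹ = a * z ∧ g ^ k * a * (g ^ k)⁻¹ = a * z ^ k := by
    intro g hg a k
    refine ⟨(a : G)⁻¹ * (g * a * g⁻¹), ?_, mul_mem (inv_mem a.2) (hQn.conj_mem _ a.2 g),
      (mul_inv_cancel_left _ _).symm, ?_⟩
    · have h1 : act g (QuotientGroup.mk a) = QuotientGroup.mk a := by rw [hg]; rfl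
      rw [hact, eq_comm, QuotientGroup.eq, hC₀, Subgroup.mem_subgroupOf] at h1
      exact h1
    · induction k with
      | zero => simp
      | succ k ih =>
        obtain ⟨z, hz⟩ : ∃ z, z = (a : G)⁻¹ * (g * a * g⁻¹) := ⟨_, rfl⟩
        rw [← hz] at ih ⊢
        have hzc : ∀ h, h * z ^ k = z ^ k * h := by
          have h1 : z ∈ Subgroup.center G := by
            have h1 : act g (QuotientGroup.mk a) = QuotientGroup.mk a := by rw [hg]; rfl
            rw [hact, eq_comm, QuotientGroup.eq, hC₀, Subgroup.mem_subgroupOf] at h1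
            rw [hz]; exact h1
          exact Subgroup.mem_center_iff.1 ((Subgroup.center G).pow_mem h1 k)
        rw [pow_succ', show g * g ^ k * (a : G) * (g * g ^ k)⁻¹ = g * (g ^ k * a * (g ^ k)⁻¹) * g⁻¹ by group,
          ih, show g * ((a : G) * z ^ k) * g⁻¹ = g * a * g⁻¹ * (g * z ^ k * g⁻¹) by group,
          hzc g, mul_inv_cancel_right, show g * (a : G) * g⁻¹ = a * z by rw [hz, mul_inv_cancel_left],
          mul_assoc, ← pow_succ']
  have hQne : ∃ a ∈ Q, x * a ≠ a * x := hQ ▸ hqmove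
  -- when `q = p`, `x` is not a transvection
  have hbig : q = p → p < Nat.card (diffHom (act x)).range := by
    intro hqp
    subst hqp
    by_contra hr
    rw [not_lt] at hr
    have hP := Transv.isPGroup_range h3 hAq act hx hgen hr
    apply hnilp
    have hc : ∀ g : G, ∃ k : ℕ, g ^ q ^ k ∈ Subgroup.center G := by
      intro g
      obtain ⟨k, hk⟩ := hP ⟨act g, g, rfl⟩
      have hk' : act (g ^ q ^ k) = 1 := by rw [map_pow]; exact congrArg Subtype.val hk
      obtain ⟨j, hj⟩ := IsPGroup.iff_card.1 hQp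
      refine ⟨k + j, ?_⟩
      rw [pow_add, pow_mul]
      obtain ⟨h, hh⟩ : ∃ h, h = (g ^ q ^ k) ^ q ^ j := ⟨_, rfl⟩
      rw [← hh]
      have hcQ : ∀ a ∈ Q, h * a * h⁻¹ = a := by
        intro a ha
        obtain ⟨z, -, hzQ, -, hz⟩ := hkey _ hk' ⟨a, ha⟩ (q ^ j)
        have h1 : z ^ q ^ j = 1 := by
          have := congrArg Subtype.val (pow_card_eq_one' (x := (⟨z, hzQ⟩ : Q)))
          rw [hj, SubmonoidClass.coe_pow] at this
          exact this
        rw [h1, mul_one] at hz
        rw [hh]; exact hz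
      have hcF : h ∈ Subgroup.centralizer (Cfsg.fittingSubgroup G : Set G) := by
        have hle : Cfsg.fittingSubgroup G ≤ Subgroup.centralizer ({h} : Set G) := by
          rw [fitting_eq_iSup_pCore]
          refine iSup_le fun r a ha => Subgroup.mem_centralizer_iff.2 ?_
          intro z hz
          rw [Set.mem_singleton_iff.1 hz]
          by_cases hrp : (r : ℕ) = q
          · rw [hrp, ← hQ] at ha
            exact mul_inv_eq_iff_eq_mul.1 (hcQ a ha)
          · exact hcentral _ ⟨r.2⟩ (hqpref rfl _ ⟨r.2⟩ hrp) a ha h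
        exact Subgroup.mem_centralizer_iff.2 fun a ha =>
          (Subgroup.mem_centralizer_iff.1 (hle ha) h rfl).symm
      haveI := fittingSubgroup_normal (G := G)
      refine hprim (Subgroup.centralizer (Cfsg.fittingSubgroup G : Set G)) inferInstance
        (fun a ha b hb => ?_) hcF
      exact (Subgroup.mem_centralizer_iff.1 hb a (centralizer_fitting_le inferInstance ha))
    have hpq : IsPGroup q (G ⧸ Subgroup.center G) := by
      intro c
      obtain ⟨g, rfl⟩ := QuotientGroup.mk_surjective c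
      obtain ⟨k, hk⟩ := hc g
      exact ⟨k, by rw [← QuotientGroup.mk_pow, QuotientGroup.eq_one_iff]; exact hk⟩
    haveI := hpq.isNilpotent
    exact Subgroup.isNilpotent_of_ker_le_center (QuotientGroup.mk' (Subgroup.center G))
      (le_of_eq (QuotientGroup.ker_mk' _))
  -- `x` moves the quotient
  have hθne : act x ≠ 1 := by
    intro h
    by_cases hqp : q = p
    · have h1 := hbig hqp
      rw [h] at h1
      have h2 : Nat.card (diffHom (1 : MulAut (Q ⧸ C₀))).range = 1 := by
        rw [Subgroup.card_eq_one, MonoidHom.range_eq_bot_iff]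
        exact MonoidHom.ext fun a => div_self' a
      have := hp.out.pos
      omega
    obtain ⟨a, ha, hne⟩ := hQne
    obtain ⟨z, hzc, hzQ, hz1, hz⟩ := hkey x h ⟨a, ha⟩ p
    rw [hx] at hz
    have hzp : z ^ p = 1 := by
      simp only [one_mul, inv_one, mul_one] at hz
      exact left_eq_mul.1 hz
    obtain ⟨j, hj⟩ := hQp ⟨z, hzQ⟩
    have hj' : z ^ q ^ j = 1 := congrArg Subtype.val hj
    have h12 := pow_gcd_eq_one.2 ⟨hzp, hj'⟩
    rw [((Nat.coprime_primes hp.out hqF.out).2 (Ne.symm hqp)).pow_right j |>.gcd_eq_one, pow_one] at h12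
    rw [h12, mul_one] at hz1
    exact hne (mul_inv_eq_iff_eq_mul.1 hz1)
  -- the pairing
  let cf : Q → Q → Kˣ := fun a b => centralChar hs ⟨⁅(a : G), (b : G)⁆, hder _ a.2 _ b.2⟩
  have hcf_right : ∀ a b b', cf a (b * b') = cf a b * cf a b' := by
    intro a b b'
    rw [← map_mul]
    refine congrArg (fun z => centralChar hs z) (Subtype.ext ?_)
    show ⁅(a : G), (b : G) * b'⁆ = ⁅(a : G), (b : G)⁆ * ⁅(a : G), (b' : G)⁆
    rw [show ⁅(a : G), (b : G) * b'⁆ = ⁅(a : G), (b : G)⁆ * ((b : G) * ⁅(a : G), (b' : G)⁆ * (b : G)⁻¹) by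
      simp only [_root_.commutatorElement_def]; group,
      Subgroup.mem_center_iff.1 (hder _ a.2 _ b'.2) b, mul_inv_cancel_right]
  have hcf_left : ∀ a a' b, cf (a * a') b = cf a b * cf a' b := by
    intro a a' b
    rw [mul_comm (cf a b), ← map_mul]
    refine congrArg (fun z => centralChar hs z) (Subtype.ext ?_)
    show ⁅(a : G) * a', (b : G)⁆ = ⁅(a' : G), (b : G)⁆ * ⁅(a : G), (b : G)⁆
    rw [show ⁅(a : G) * a', (b : G)⁆ = (a : G) * ⁅(a' : G), (b : G)⁆ * (a : G)⁻¹ * ⁅(a : G), (b : G)⁆ by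
      simp only [_root_.commutatorElement_def]; group,
      Subgroup.mem_center_iff.1 (hder _ a'.2 _ b.2) a, mul_inv_cancel_right]
  have hcf_triv : ∀ a b, a ∈ C₀ → cf a b = 1 ∧ cf b a = 1 := by
    intro a b ha
    rw [hC₀, Subgroup.mem_subgroupOf] at ha
    have hab : (a : G) * b = b * a := (Subgroup.mem_center_iff.1 ha b).symm
    constructor
    · rw [← map_one (centralChar hs)]
      refine congrArg (fun z => centralChar hs z) (Subtype.ext ?_)
      exact commutatorElement_eq_one_iff_mul_comm.2 hab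
    · rw [← map_one (centralChar hs)]
      refine congrArg (fun z => centralChar hs z) (Subtype.ext ?_)
      exact commutatorElement_eq_one_iff_mul_comm.2 hab.symm
  let row : Q → ((Q ⧸ C₀) →* Kˣ) := fun b =>
    QuotientGroup.lift C₀ (MonoidHom.mk' (fun a => cf a b) fun a a' => hcf_left a a' b)
      fun a ha => MonoidHom.mem_ker.2 (hcf_triv a b ha).1
  let β : (Q ⧸ C₀) →* ((Q ⧸ C₀) →* Kˣ) :=
    QuotientGroup.lift C₀ (MonoidHom.mk' row fun b b' => MonoidHom.ext fun a => by
        obtain ⟨a, rfl⟩ := QuotientGroup.mk_surjective a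
        exact hcf_right a b b')
      fun b hb => MonoidHom.mem_ker.2 (MonoidHom.ext fun a => by
        obtain ⟨a, rfl⟩ := QuotientGroup.mk_surjective a
        exact (hcf_triv b a hb).2)
  have hβ : ∀ a b : Q, β (QuotientGroup.mk b) (QuotientGroup.mk a) = cf a b := fun a b => rfl
  have hnd : Function.Injective β := by
    rw [injective_iff_map_eq_one]
    intro b hb
    obtain ⟨b, rfl⟩ := QuotientGroup.mk_surjective b
    rw [QuotientGroup.eq_one_iff, hC₀, Subgroup.mem_subgroupOf]
    have hbc : ∀ a : Q, (a : G) * b = b * a := by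
      intro a
      have h1 : cf a b = 1 := by rw [← hβ, hb]; rfl
      refine commutatorElement_eq_one_iff_mul_comm.1 (hfaith ?_)
      have h2 := centralChar_spec hs ⟨⁅(a : G), (b : G)⁆, hder _ a.2 _ b.2⟩
      rw [show centralChar hs ⟨⁅(a : G), (b : G)⁆, hder _ a.2 _ b.2⟩ = 1 from h1, Units.val_one,
        one_smul] at h2
      rw [map_one]; exact h2
    refine hprim (Q ⊓ Subgroup.centralizer (Q : Set G)) inferInstance
      (fun a ha c hc => Subgroup.mem_centralizer_iff.1 hc.2 a ha.1) ?_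
    exact ⟨b.2, Subgroup.mem_centralizer_iff.2 fun a ha => hbc ⟨a, ha⟩⟩
  have halt : ∀ a, β a a = 1 := by
    intro a
    obtain ⟨a, rfl⟩ := QuotientGroup.mk_surjective a
    rw [hβ, ← map_one (centralChar hs)]
    exact congrArg (fun z => centralChar hs z) (Subtype.ext (commutatorElement_self (a : G)))
  have hinvar : ∀ a b, β (act x a) (act x b) = β a b := by
    intro a b
    obtain ⟨a, rfl⟩ := QuotientGroup.mk_surjective a
    obtain ⟨b, rfl⟩ := QuotientGroup.mk_surjective b
    rw [hact, hact, hβ, hβ]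
    refine congrArg (fun z => centralChar hs z) (Subtype.ext ?_)
    show ⁅x * (b : G) * x⁻¹, x * (a : G) * x⁻¹⁆ = ⁅(b : G), (a : G)⁆
    rw [← conjugate_commutatorElement,
      Subgroup.mem_center_iff.1 (hder _ b.2 _ a.2) x, mul_inv_cancel_right]
  have hθp : act x ^ p = 1 := by rw [← map_pow, hx, map_one]
  have h16 := sixteen_le_range (p := p) (q := q) h3 hθp hAq hθne β hnd halt hinvar hbig
  have hcnt := card_range_mul (act x)
  -- order prime to the characteristic
  have hqK : (q : K) ≠ 0 := by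
    haveI : Nontrivial Q := by
      obtain ⟨a, ha, hne⟩ := hQne
      refine (Subgroup.nontrivial_iff_ne_bot Q).2 fun h => hne ?_
      rw [h, Subgroup.mem_bot] at ha
      rw [ha, mul_one, one_mul]
    have hn : (Q ⊓ Subgroup.centralizer (Q : Set G)) ≠ ⊥ := by
      intro h0
      haveI := hQp.center_nontrivial
      obtain ⟨z, hz⟩ := exists_ne (1 : Subgroup.center Q)
      refine hz (Subtype.ext (Subtype.ext ?_))
      have hmem : ((z : Q) : G) ∈ Q ⊓ Subgroup.centralizer (Q : Set G) := ⟨(z : Q).2,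
        Subgroup.mem_centralizer_iff.2 fun c hc =>
          congrArg Subtype.val (Subgroup.mem_center_iff.1 z.2 ⟨c, hc⟩)⟩
      rw [h0, Subgroup.mem_bot] at hmem
      exact hmem
    have h1 := card_ne_zero (ℓ := ℓ) σ hs hfaith (Q ⊓ Subgroup.centralizer (Q : Set G))
      (fun a ha c hc => Subgroup.mem_centralizer_iff.1 hc.2 a ha.1)
    obtain ⟨k, hk⟩ := IsPGroup.iff_card.1 (hQp.to_le (inf_le_left (b := Subgroup.centralizer (Q : Set G))))
    intro h0
    rw [hk, Nat.cast_pow, h0, zero_pow] at h1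
    · exact h1 rfl
    · rintro rfl
      exact hn (Subgroup.card_eq_one.1 (by rw [hk, pow_zero]))
  letI : Fintype (Q ⧸ C₀) := Fintype.ofFinite _
  have hA' : (Fintype.card (Q ⧸ C₀) : K) ≠ 0 := by
    obtain ⟨k, hk⟩ := IsPGroup.iff_card.1 hAq
    rw [← Nat.card_eq_fintype_card, hk, Nat.cast_pow]
    exact pow_ne_zero _ hqK
  haveI := Graded.finite_dual (K := K) hA'
  letI : Fintype ((Q ⧸ C₀) →* Kˣ) := Fintype.ofFinite _
  let τ : (Q ⧸ C₀) →* Module.End K (Module.End K W) :=
    QuotientGroup.lift C₀ ((adHom σ).comp Q.subtype) fun a ha => by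
      rw [hC₀, Subgroup.mem_subgroupOf] at ha
      refine MonoidHom.mem_ker.2 (LinearMap.ext fun T => ?_)
      rw [MonoidHom.comp_apply, adHom_apply, Module.End.one_apply]
      obtain ⟨c, hc⟩ := central_scalar hs ha
      show σ (a : G) * (T * σ (a : G)⁻¹) = T
      rw [hc, smul_one_mul, ← mul_smul_comm, ← smul_one_mul c (σ (a : G)⁻¹), ← hc, ← map_mul,
        mul_inv_cancel, map_one, mul_one]
  have hτ : ∀ (a : Q) (T : Module.End K W),
      τ (QuotientGroup.mk a) T = σ (a : G) * (T * σ (a : G)⁻¹) := fun a T => rfl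
  have hτmul : ∀ a T S, τ a (T * S) = τ a T * τ a S := by
    intro a T S
    obtain ⟨a, rfl⟩ := QuotientGroup.mk_surjective a
    rw [hτ, hτ, hτ, mul_assoc (σ (a : G)) (T * σ (a : G)⁻¹), mul_assoc T (σ (a : G)⁻¹),
      ← mul_assoc (σ (a : G)⁻¹) (σ (a : G)), ← map_mul, inv_mul_cancel, map_one, one_mul,
      mul_assoc T S]
  have hτσ : ∀ a b : Q, τ (QuotientGroup.mk a) (σ (b : G)) = ((cf a b : Kˣ) : K) • σ (b : G) := by
    intro a b
    rw [hτ, ← map_mul, ← map_mul]
    have h := centralChar_spec hs ⟨⁅(a : G), (b : G)⁆, hder _ a.2 _ b.2⟩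
    rw [show (a : G) * ((b : G) * (a : G)⁻¹) = ⁅(a : G), (b : G)⁆ * b by
      rw [_root_.commutatorElement_def]; group, map_mul]
    rw [show σ ⁅(a : G), (b : G)⁆ = ((cf a b : Kˣ) : K) • 1 from h, smul_one_mul]
  obtain ⟨π, hπ⟩ : ∃ π : (Q ⧸ C₀) → Module.End K (Module.End K W),
      π = fun b => Graded.proj τ (β b) := ⟨_, rfl⟩
  have hβbij : Function.Bijective β :=
    hnd.bijective_of_nat_card_le (Graded.card_dual hA').le
  have hsum : ∑ b, π b = 1 := by
    rw [hπ, ← Graded.sum_proj (τ := τ) hA']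
    exact Fintype.sum_equiv (Equiv.ofBijective β hβbij) _ _ fun b => rfl
  have horth : ∀ b c, π b * π c = if b = c then π b else 0 := by
    intro b c
    rw [hπ]
    simp only [Graded.proj_mul_proj hA', hnd.eq_iff]
  obtain ⟨m, hm⟩ : ∃ m, m = finrank K (LinearMap.range (π 1)) := ⟨_, rfl⟩
  have hm' : ∀ b, finrank K (LinearMap.range (π b)) = m := by
    intro b
    obtain ⟨b, rfl⟩ := QuotientGroup.mk_surjective b
    have hinj : Function.Injective (LinearMap.mulLeft K (σ (b : G))) := by
      intro T S h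
      have h' := congrArg (σ (b : G)⁻¹ * ·) h
      simp only [LinearMap.mulLeft_apply, ← mul_assoc, ← map_mul, inv_mul_cancel, map_one, one_mul] at h'
      exact h'
    have hrange : LinearMap.range (π (QuotientGroup.mk b)) =
        (LinearMap.range (π 1)).map (LinearMap.mulLeft K (σ (b : G))) := by
      rw [hπ]
      ext T
      simp only [Submodule.mem_map, Graded.mem_range_proj hA', map_one, MonoidHom.one_apply,
        Units.val_one, one_smul, LinearMap.mulLeft_apply]
      constructor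
      · intro hT
        refine ⟨σ (b : G)⁻¹ * T, fun a => ?_, by
          rw [← mul_assoc, ← map_mul, mul_inv_cancel, map_one, one_mul]⟩
        obtain ⟨a, rfl⟩ := QuotientGroup.mk_surjective a
        rw [hτmul, hT]
        have e1 := hτσ a b⁻¹
        rw [Subgroup.coe_inv] at e1
        rw [e1, hβ, smul_mul_assoc, mul_smul_comm, smul_smul, ← Units.val_mul, ← hcf_right,
          inv_mul_cancel, (hcf_triv 1 a (one_mem _)).2, Units.val_one, one_smul]
      · rintro ⟨S, hS, rfl⟩ a
        obtain ⟨a, rfl⟩ := QuotientGroup.mk_surjective a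
        rw [hτmul, hS, hτσ, hβ, smul_mul_assoc]
    rw [hrange, hm]
    exact (Submodule.equivMapOfInjective _ hinj _).finrank_eq.symm
  have hd := Graded.finrank_eq π hsum horth hm'
  rw [Module.finrank_linearMap] at hd
  have hxπ : ∀ b, adHom σ x * π b = π (act x b) * adHom σ x := by
    intro b
    rw [hπ]
    show adHom σ x * Graded.proj τ (β b) = Graded.proj τ (β (act x b)) * adHom σ x
    rw [Graded.intertwine (τ := τ) (adHom σ x) (act x) ?_ (β b)]
    · congr 2
      refine MonoidHom.ext fun a => ?_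
      show β b (((act x)⁻¹ : MulAut (Q ⧸ C₀)) a) = β (act x b) a
      rw [← hinvar b (((act x)⁻¹ : MulAut (Q ⧸ C₀)) a), MulAut.apply_inv_self]
    · intro a
      obtain ⟨a, rfl⟩ := QuotientGroup.mk_surjective a
      refine LinearMap.ext fun T => ?_
      rw [Module.End.mul_apply, Module.End.mul_apply, hact, hτ, hτ, adHom_apply, adHom_apply,
        MulAut.conjNormal_apply]
      simp only [← mul_assoc, ← map_mul]
      rw [show x * (a : G) * x⁻¹ * x = x * a by group]
      simp only [mul_assoc, ← map_mul]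
      rw [show x⁻¹ * (x * ((a : G) * x⁻¹))⁻¹ = (a : G)⁻¹ * x⁻¹ by group]
  have hs' : (act x).toEquiv ^ p = 1 := by
    have h : MulAut.toPerm (Q ⧸ C₀) (act x) ^ p = 1 := by rw [← map_pow, hθp, map_one]
    exact h
  have hc := Graded.fix_le π hsum hp.out (adHom σ x) (act x).toEquiv hs' hxπ hm'
  have hFeq : Nat.card {b : Q ⧸ C₀ // (act x).toEquiv b = b} = Nat.card {b : Q ⧸ C₀ // act x b = b} :=
    rfl
  rw [hFeq] at hc
  rw [Nat.card_eq_fintype_card (α := Q ⧸ C₀)] at hcnt
  generalize Nat.card {b : Q ⧸ C₀ // act x b = b} = F at hc hcnt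
  generalize Nat.card (diffHom (act x)).range = R at h16 hcnt
  generalize Fintype.card (Q ⧸ C₀) = n at hc hcnt hd
  generalize finrank K (LinearMap.ker (adHom σ x - 1)) = e at hc hSQ
  generalize finrank K (LinearMap.ker (σ x - 1)) = c at hSQ ⊢
  generalize finrank K W = d at hd ⊢
  have hF : 16 * F ≤ n := by rw [← hcnt]; exact Nat.mul_le_mul_right _ h16
  obtain ⟨r, hr⟩ : ∃ r, p = r + 5 := ⟨p - 5, by
    have : p ≠ 4 := fun h => absurd (h ▸ hp.out) (by decide)
    omega⟩
  rw [hr, show r + 5 - 1 = r + 4 by omega] at hc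
  by_contra hlt
  rw [not_lt] at hlt
  have e1 : d * d ≤ 4 * (c * c) := by nlinarith
  have e2 : (r + 5) * (n * m) < (r + 5) * (4 * e) := by
    refine Nat.mul_lt_mul_of_pos_left ?_ (by omega)
    rw [← hd]; omega
  have e3 : (r + 4) * (16 * F) * m ≤ (r + 4) * n * m :=
    Nat.mul_le_mul_right _ (Nat.mul_le_mul_left _ hF)
  nlinarith

/-- The bound for a faithful irreducible representation over an algebraically closed field. -/
theorem faithful_bound [Group.IsSolvable G] [Fact p.Prime] (h3 : 3 < p) {ℓ : ℕ} [Fact ℓ.Prime]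
    [CharP K ℓ] (hs : IsSimpleRep σ) (hfaith : Function.Injective σ) {x : G} (hx : x ^ p = 1)
    (hgen : Subgroup.normalClosure {x} = ⊤) (hG : Nontrivial G) :
    2 * finrank K (LinearMap.ker (σ x - 1)) < finrank K W := by
  by_cases h : ∀ A : Subgroup G, A.Normal → (∀ a ∈ A, ∀ b ∈ A, a * b = b * a) → A ≤ Subgroup.center G
  · exact primitive (ℓ := ℓ) h3 hs hfaith hx hgen hG h
  push Not at h
  obtain ⟨A, hAn, hAc, hA⟩ := h
  obtain ⟨a, ha, hna⟩ := SetLike.not_le_iff_exists.1 hA
  exact imprimitive (Fact.out : p.Prime) h3 hs hx hgen A hAc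
    (card_ne_zero (ℓ := ℓ) σ hs hfaith A hAc) ⟨a, ha, fun hc => hna (mem_center_of_scalar hfaith hc)⟩

end Cfsg.Agent.Solv.HalfFix
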