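import Cfsg.Agent.Lib.Solv.HalfFix

/-!
The half bound for faithful irreducible representations over an arbitrary field of positive
characteristic, by extension to the algebraic closure.
-/

set_option autoImplicit false
set_option linter.style.haveILetI false

namespace Cfsg.Agent.Solv.HalfFix

open Module Cfsg.Agent.Solv.CRep
open scoped TensorProduct

universe u v w

variable {G : Type u} [Group G] [Finite G] {K : Type v} [Field K]

theorem simple_bound [IsAlgClosed K] [Group.IsSolvable G] {p : ℕ} [Fact p.Prime] (h3 : 3 < p)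
    {ℓ : ℕ} [Fact ℓ.Prime] [CharP K ℓ] {W : Type*} [AddCommGroup W] [Module K W]
    [FiniteDimensional K W] (σ : G →* Module.End K W) (hs : IsSimpleRep σ) {x : G} (hx : x ^ p = 1)
    (hgen : Subgroup.normalClosure {x} = ⊤) (hnt : ∃ g, σ g ≠ 1) :
    2 * finrank K (LinearMap.ker (σ x - 1)) < finrank K W := by
  obtain ⟨N, hN⟩ : ∃ N, N = σ.toHomUnits.ker := ⟨_, rfl⟩
  haveI hNn : N.Normal := hN ▸ inferInstance
  subst hN
  let σ' : G ⧸ σ.toHomUnits.ker →* Module.End K W :=
    (Units.coeHom _).comp (QuotientGroup.kerLift σ.toHomUnits)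
  have hmk : ∀ g : G, σ' (QuotientGroup.mk g) = σ g := fun g => rfl
  have hinj : Function.Injective σ' := fun a b h =>
    QuotientGroup.kerLift_injective σ.toHomUnits (Units.ext h)
  have hs' : IsSimpleRep σ' := ⟨hs.1, fun U hU => hs.2 U fun g w hw => hU (QuotientGroup.mk g) w hw⟩
  have hgen' : Subgroup.normalClosure {(QuotientGroup.mk x : G ⧸ σ.toHomUnits.ker)} = ⊤ := by
    rw [eq_top_iff]
    intro c _
    obtain ⟨g, rfl⟩ := QuotientGroup.mk_surjective c
    have hle : (⊤ : Subgroup G) ≤ (Subgroup.normalClosure {(QuotientGroup.mk x : G ⧸ σ.toHomUnits.ker)}).comap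
        (QuotientGroup.mk' _) := hgen ▸ Subgroup.normalClosure_le_normal
          (Set.singleton_subset_iff.2 (Subgroup.subset_normalClosure rfl))
    exact hle (Subgroup.mem_top g)
  have hnt' : Nontrivial (G ⧸ σ.toHomUnits.ker) := by
    obtain ⟨g, hg⟩ := hnt
    refine ⟨QuotientGroup.mk g, 1, fun h => hg ?_⟩
    rw [← hmk, h, map_one]
  have h := faithful_bound (σ := σ') (ℓ := ℓ) h3 hs' hinj (x := QuotientGroup.mk x)
    (by rw [← QuotientGroup.mk_pow, hx]; rfl) hgen' hnt'
  exact h

/-- The representation on a quotient. -/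
def quotRep {W : Type*} [AddCommGroup W] [Module K W] (σ : G →* Module.End K W) (U : Submodule K W)
    (hU : ∀ g, ∀ w ∈ U, σ g w ∈ U) : G →* Module.End K (W ⧸ U) where
  toFun g := U.mapQ U (σ g) (fun w hw => hU g w hw)
  map_one' := LinearMap.ext fun z => by
    obtain ⟨w, rfl⟩ := Submodule.Quotient.mk_surjective U z
    simp
  map_mul' g h := LinearMap.ext fun z => by
    obtain ⟨w, rfl⟩ := Submodule.Quotient.mk_surjective U z
    simp

theorem quotRep_mk {W : Type*} [AddCommGroup W] [Module K W] (σ : G →* Module.End K W)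
    (U : Submodule K W) (hU : ∀ g, ∀ w ∈ U, σ g w ∈ U) (g : G) (w : W) :
    quotRep σ U hU g (Submodule.Quotient.mk w) = Submodule.Quotient.mk (σ g w) := rfl

/-- Every representation in which the sum over a subgroup of invertible order vanishes. -/
theorem descend [IsAlgClosed K] [Group.IsSolvable G] {p : ℕ} [Fact p.Prime] (h3 : 3 < p)
    {ℓ : ℕ} [Fact ℓ.Prime] [CharP K ℓ] {x : G} (hx : x ^ p = 1)
    (hgen : Subgroup.normalClosure {x} = ⊤) (M : Subgroup G) [Fintype M]
    (hM : (Fintype.card M : K) ≠ 0) :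
    ∀ (n : ℕ) {W : Type w} [AddCommGroup W] [Module K W] [FiniteDimensional K W] [Nontrivial W]
      (σ : G →* Module.End K W), finrank K W = n → (∑ m : M, σ m) = 0 →
      2 * finrank K (LinearMap.ker (σ x - 1)) < finrank K W := by
  intro n
  induction n using Nat.strong_induction_on with
  | _ n ih =>
    intro W _ _ _ _ σ hn hsum
    obtain ⟨U, hU, hUs⟩ := exists_simple σ
    haveI := hUs.1
    have hsumU : ∀ w : U, ∑ m : M, subRep σ U hU (m : G) w = 0 := fun w => Subtype.ext (by
      rw [Submodule.coe_sum, Submodule.coe_zero]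
      have := LinearMap.congr_fun hsum (w : W)
      rwa [LinearMap.sum_apply] at this)
    have hnt : ∃ g, subRep σ U hU g ≠ 1 := by
      by_contra hc
      push Not at hc
      obtain ⟨w, hw⟩ := exists_ne (0 : U)
      have h := hsumU w
      rw [Finset.sum_congr rfl (fun (m : M) _ => by rw [hc, Module.End.one_apply]), Finset.sum_const,
        Finset.card_univ, ← Nat.cast_smul_eq_nsmul K, smul_eq_zero] at h
      exact h.elim hM hw
    have h1 := simple_bound (ℓ := ℓ) h3 (subRep σ U hU) hUs hx hgen hnt
    have hd := Submodule.finrank_quotient_add_finrank U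
    -- the fixed spaces
    let L : LinearMap.ker (σ x - 1) →ₗ[K] W ⧸ U := U.mkQ.comp (Submodule.subtype _)
    have hL : finrank K (LinearMap.range L) ≤ finrank K (LinearMap.ker (quotRep σ U hU x - 1)) := by
      refine Submodule.finrank_mono ?_
      rintro _ ⟨⟨w, hw⟩, rfl⟩
      rw [LinearMap.mem_ker, LinearMap.sub_apply, Module.End.one_apply, sub_eq_zero] at hw ⊢
      show quotRep σ U hU x (Submodule.Quotient.mk w) = Submodule.Quotient.mk w
      rw [quotRep_mk, hw]
    let j : LinearMap.ker L →ₗ[K] LinearMap.ker (subRep σ U hU x - 1) :=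
      { toFun := fun w => ⟨⟨((w : LinearMap.ker (σ x - 1)) : W),
            (Submodule.Quotient.mk_eq_zero U).1 (LinearMap.mem_ker.1 w.2)⟩, by
          have hw := LinearMap.mem_ker.1 (w : LinearMap.ker (σ x - 1)).2
          rw [LinearMap.mem_ker, LinearMap.sub_apply, Module.End.one_apply, sub_eq_zero]
          rw [LinearMap.sub_apply, Module.End.one_apply, sub_eq_zero] at hw
          exact Subtype.ext hw⟩
        map_add' := fun a b => rfl
        map_smul' := fun c a => rfl }
    have hj : Function.Injective j := fun a b h =>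
      Subtype.ext (Subtype.ext (congrArg (fun z : LinearMap.ker (subRep σ U hU x - 1) => ((z : U) : W)) h))
    have h2 := LinearMap.finrank_le_finrank_of_injective hj
    have h4 := LinearMap.finrank_range_add_finrank_ker L
    by_cases hq : finrank K (W ⧸ U) = 0
    · have := Submodule.finrank_le (LinearMap.ker (quotRep σ U hU x - 1))
      omega
    haveI : Nontrivial (W ⧸ U) := Module.finrank_pos_iff.1 (Nat.pos_of_ne_zero hq)
    have hUpos : 0 < finrank K U := Module.finrank_pos
    have hsumQ : ∑ m : M, quotRep σ U hU (m : G) = 0 := LinearMap.ext fun z => by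
      obtain ⟨w, rfl⟩ := Submodule.Quotient.mk_surjective U z
      rw [LinearMap.sum_apply, LinearMap.zero_apply,
        Finset.sum_congr rfl (fun (m : M) _ => quotRep_mk σ U hU (m : G) w)]
      show ∑ m : M, U.mkQ (σ (m : G) w) = 0
      rw [← map_sum, ← LinearMap.sum_apply, hsum, LinearMap.zero_apply, map_zero]
    have h5 := ih (finrank K (W ⧸ U)) (by omega) (quotRep σ U hU) rfl hsumQ
    omega

end Cfsg.Agent.Solv.HalfFix

namespace Cfsg.Agent.Solv.HalfFix

open Module Cfsg.Agent.Solv.CRep
open scoped TensorProduct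

universe u' v' w'

theorem half_fix {G : Type u'} [Group G] [Finite G] [Group.IsSolvable G] {p : ℕ} [Fact p.Prime]
    (h3 : 3 < p) {x : G} (hx : x ^ p = 1) (hgen : Subgroup.normalClosure {x} = ⊤) [Nontrivial G]
    {k : Type v'} [Field k] {ℓ : ℕ} [Fact ℓ.Prime] [CharP k ℓ] {V : Type w'} [AddCommGroup V]
    [Module k V] [FiniteDimensional k V] (ρ : G →* Module.End k V) (hs : IsSimpleRep ρ)
    (hfaith : Function.Injective ρ) :
    2 * finrank k (LinearMap.ker (ρ x - 1)) < finrank k V := by
  classical
  haveI := hs.1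
  obtain ⟨M, hMn, hMb, hMmin⟩ := exists_minimal_normal (G := G)
  haveI := hMn
  have hMab := minimal_normal_elementaryAbelian M inferInstance hMb hMmin
  have hMc : ∀ a ∈ M, ∀ b ∈ M, a * b = b * a := fun a ha b hb =>
    congrArg Subtype.val (hMab.1.is_comm.comm ⟨a, ha⟩ ⟨b, hb⟩)
  letI : Fintype M := Fintype.ofFinite M
  have hM0 : (Fintype.card M : k) ≠ 0 := by
    rw [← Nat.card_eq_fintype_card]
    exact card_ne_zero (ℓ := ℓ) ρ hs hfaith M hMc
  -- the sum over `M`
  obtain ⟨e, he⟩ : ∃ e : Module.End k V, e = ∑ m : M, ρ m := ⟨_, rfl⟩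
  have he0 : e = 0 := by
    have hinv : ∀ g, ∀ v ∈ LinearMap.range e, ρ g v ∈ LinearMap.range e := by
      rintro g _ ⟨v, rfl⟩
      refine ⟨ρ g v, ?_⟩
      rw [← Module.End.mul_apply, ← Module.End.mul_apply, he, Finset.sum_mul, Finset.mul_sum]
      congr 1
      symm
      refine Fintype.sum_equiv (MulAut.conjNormal g : M ≃* M).toEquiv _ _ fun a => ?_
      rw [← map_mul, ← map_mul]
      congr 1
      show g * (a : G) = ((MulAut.conjNormal g a : M) : G) * g
      rw [MulAut.conjNormal_apply]; group
    rcases hs.2 _ hinv with h | h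
    · exact LinearMap.range_eq_bot.1 h
    · exfalso
      refine hMb ((Subgroup.eq_bot_iff_forall M).2 fun a ha => hfaith ?_)
      rw [map_one]
      refine LinearMap.ext fun v => ?_
      obtain ⟨w, rfl⟩ := LinearMap.range_eq_top.1 h v
      rw [Module.End.one_apply, ← Module.End.mul_apply, he, Finset.mul_sum]
      congr 1
      exact Fintype.sum_equiv (Equiv.mulLeft (⟨a, ha⟩ : M)) _ _ fun b => (map_mul ρ _ _).symm
  -- extension of scalars
  let K := AlgebraicClosure k
  haveI : CharP K ℓ := charP_of_injective_algebraMap (algebraMap k K).injective ℓ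
  let σ : G →* Module.End K (K ⊗[k] V) := (Module.End.baseChangeHom k K V).toMonoidHom.comp ρ
  have hσ : ∀ g, σ g = (ρ g).baseChange K := fun g => rfl
  have hMK : (Fintype.card M : K) ≠ 0 := fun h0 => hM0 ((algebraMap k K).injective
    (by rw [map_natCast, map_zero, h0]))
  have hsumK : ∑ m : M, σ m = 0 := by
    have : ∑ m : M, σ m = Module.End.baseChangeHom k K V e := by rw [he, map_sum]; rfl
    rw [this, he0, map_zero]
  have hdim : finrank K (K ⊗[k] V) = finrank k V := Module.finrank_baseChange
  haveI : Nontrivial (K ⊗[k] V) :=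
    Module.finrank_pos_iff.1 (by rw [hdim]; exact Module.finrank_pos)
  have h := descend (ℓ := ℓ) h3 hx hgen M hMK _ σ rfl hsumK
  rw [hdim] at h
  refine lt_of_le_of_lt (Nat.mul_le_mul_left 2 ?_) h
  -- fixed vectors extend
  let C := LinearMap.ker (ρ x - 1)
  let i : K ⊗[k] C →ₗ[K] K ⊗[k] V := C.subtype.baseChange K
  have hi : Function.Injective i :=
    Module.Flat.lTensor_preserves_injective_linearMap C.subtype C.subtype_injective
  have hmem : ∀ z, i z ∈ LinearMap.ker (σ x - 1) := by
    intro z
    rw [LinearMap.mem_ker, LinearMap.sub_apply, Module.End.one_apply, sub_eq_zero, hσ,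
      ← LinearMap.comp_apply, ← LinearMap.baseChange_comp]
    have hc : (ρ x).comp C.subtype = C.subtype := LinearMap.ext fun c => by
      have := LinearMap.mem_ker.1 c.2
      rw [LinearMap.sub_apply, Module.End.one_apply, sub_eq_zero] at this
      exact this
    rw [hc]
  have h2 := LinearMap.finrank_le_finrank_of_injective
    (f := i.codRestrict (LinearMap.ker (σ x - 1)) hmem)
    (fun a b h => hi (congrArg Subtype.val h))
  rwa [Module.finrank_baseChange] at h2

end Cfsg.Agent.Solv.HalfFix
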