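import Mathlib
import Cfsg.Agent.Lib.Fusion.Basic
import Cfsg.Agent.Lib.Fusion.NPC
import Cfsg.Agent.Lib.Solv.Coprime
import Cfsg.Prelude.Def_HallClasses

/-!
# Fusion in π-homogeneous groups with the `D_π`-property

If all automisers of `π`-subgroups are `π`-groups and every `π`-subgroup is conjugate into `H`,
then `H` controls the fusion of its `p`-subgroups.
-/

set_option autoImplicit false
set_option linter.style.haveILetI false

open Cfsg Cfsg.Agent.Fusion

namespace Cfsg.Agent.Solv.Homogeneous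

universe u

variable {G : Type u} [Group G]

/-- Automisers of nontrivial `π`-subgroups are `π`-groups. -/
def Automisers (π : Set ℕ) (G : Type u) [Group G] : Prop :=
  ∀ H : Subgroup G, H ≠ ⊥ → (∀ p : ℕ, p.Prime → p ∣ Nat.card ↥H → p ∈ π) →
    ∀ p : ℕ, p.Prime →
      p ∣ (Subgroup.centralizer (H : Set G)).relIndex (Subgroup.normalizer (H : Set G)) → p ∈ π

/-- The standing hypotheses. -/
structure Good (π : Set ℕ) (H : Subgroup G) : Prop where
  hom : Automisers π G
  pi : IsPiSubgroup π H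
  dom : ∀ K : Subgroup G, IsPiSubgroup π K → ∃ g : G, cj K g ≤ H

theorem mem_cent_iff {S : Subgroup G} {x : G} :
    x ∈ Subgroup.centralizer (S : Set G) ↔ ∀ s ∈ S, x * s * x⁻¹ = s :=
  mem_centralizer_set

theorem conj_comp (a b u : G) : a * b * u * (a * b)⁻¹ = a * (b * u * b⁻¹) * a⁻¹ := by group

variable [Finite G] {π : Set ℕ} {p : ℕ} [hp : Fact p.Prime]

theorem isPiSubgroup_of_pGroup (hpπ : p ∈ π) {Q : Subgroup G} (hQ : IsPGroup p Q) :
    IsPiSubgroup π Q := fun r hr hd => by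
  obtain ⟨k, hk⟩ := IsPGroup.iff_card.1 hQ
  rw [hk] at hd
  rwa [(Nat.prime_dvd_prime_iff_eq hr hp.out).1 (hr.dvd_of_dvd_pow hd)]

theorem coprime_of_pow {r k n : ℕ} (hr : r.Prime) (h : ¬ r ∣ n) : (r ^ k).Coprime n :=
  Nat.Coprime.pow_left k (hr.coprime_iff_not_dvd.2 h)

theorem exists_supplement (hpπ : p ∈ π) (hom : Automisers π G) {U P0 : Subgroup G}
    (hUne : U ≠ ⊥) (hU : IsPGroup p U)
    (hP0 : SylIn p P0 (Subgroup.normalizer (U : Set G)))
    (hcen : P0 ⊓ Subgroup.centralizer (U : Set G) ≤ U) :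
    ∃ L : Subgroup G, P0 ≤ L ∧ IsPiSubgroup π L ∧ L ≤ Subgroup.normalizer (U : Set G) ∧
      ∀ n ∈ Subgroup.normalizer (U : Set G), ∃ c ∈ Subgroup.centralizer (U : Set G), c * n ∈ L := by
  classical
  set N := Subgroup.normalizer (U : Set G) with hN
  set C := Subgroup.centralizer (U : Set G) with hC
  have hCN : C ≤ N := Subgroup.centralizer_le_normalizer _
  have hNC : N ≤ Subgroup.normalizer (C : Set G) := fun n hn => by
    rw [mem_normalizer_iff_cj, hC, cj_centralizer, cj_eq_self hn]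
  -- the automiser is a `π`-group
  have haut : ∀ r : ℕ, r.Prime → r ∉ π → ∀ x ∈ N, (∃ k : ℕ, orderOf x = r ^ k) → x ∈ C := by
    intro r hr hrπ x hx hxo
    obtain ⟨k, hk⟩ := hxo
    haveI : (C.subgroupOf N).Normal := Subgroup.normal_subgroupOf_of_le_normalizer hNC
    have h1 : orderOf (QuotientGroup.mk' (C.subgroupOf N) ⟨x, hx⟩) ∣ r ^ k := by
      refine (orderOf_map_dvd _ _).trans ?_
      rw [Subgroup.orderOf_mk, hk]
    have h2 : orderOf (QuotientGroup.mk' (C.subgroupOf N) ⟨x, hx⟩) ∣ C.relIndex N := by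
      rw [Subgroup.relIndex, Subgroup.index_eq_card]
      exact orderOf_dvd_natCard _
    have h3 : ¬ r ∣ C.relIndex N := fun h =>
      hrπ (hom U hUne (isPiSubgroup_of_pGroup hpπ hU) r hr h)
    have h4 := orderOf_eq_one_iff.1 (Nat.eq_one_of_dvd_coprimes (coprime_of_pow hr h3) h1 h2)
    exact Subgroup.mem_subgroupOf.1 ((QuotientGroup.eq_one_iff _).1 h4)
  -- the normal `p`-complement of `C`
  have hPC : SylIn p (P0 ⊓ C) C := hP0.inf_normal hCN hNC
  have hCnpc : HasNormalPComplement p C := by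
    obtain ⟨S, hS⟩ := hPC.exists_sylow_subgroupOf
    refine hnpc_of_normalizer_le_centralizer S fun x _ => ?_
    refine Subgroup.mem_centralizer_iff.2 fun y hy => Subtype.ext ?_
    have hy' : (y : G) ∈ P0 ⊓ C := Subgroup.mem_subgroupOf.1 (hS.le hy)
    exact (Subgroup.mem_centralizer_iff.1 x.2) _ (hcen hy')
  set O := (pResidual p C).map C.subtype with hO
  have hOp : ¬ p ∣ Nat.card O := by
    rw [hO, Subgroup.card_map_of_injective C.subtype_injective]
    exact hp.out.coprime_iff_not_dvd.1 (hnpc_iff.1 hCnpc).symm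
  have hOmem : ∀ x ∈ C, (orderOf x).Coprime p → x ∈ O := fun x hx hxp =>
    ⟨⟨x, hx⟩, Subgroup.subset_closure (show (orderOf (⟨x, hx⟩ : C)).Coprime p by
      rwa [Subgroup.orderOf_mk]), rfl⟩
  -- a minimal supplement over `P0`
  have hex : ∃ k : ℕ, ∃ L : Subgroup G, Nat.card L = k ∧ P0 ≤ L ∧ L ≤ N ∧
      ∀ n ∈ N, ∃ c ∈ C, c * n ∈ L :=
    ⟨_, N, rfl, hP0.le, le_rfl, fun n hn => ⟨1, one_mem _, by simpa using hn⟩⟩
  obtain ⟨L, hLcard, hPL, hLN, hcov⟩ := Nat.find_spec hex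
  have hmin : ∀ L' : Subgroup G, P0 ≤ L' → L' ≤ L → (∀ n ∈ N, ∃ c ∈ C, c * n ∈ L') → L' = L := by
    intro L' h1 h2 h3
    refine Subgroup.eq_of_le_of_card_ge h2 ?_
    rw [hLcard]
    exact Nat.find_min' hex ⟨L', rfl, h1, h2.trans hLN, h3⟩
  refine ⟨L, hPL, ?_, hLN, hcov⟩
  intro r hr hrL
  by_contra hrπ
  haveI := Fact.mk hr
  have hrp : r ≠ p := fun h => hrπ (h ▸ hpπ)
  set D := Subgroup.closure {x : G | x ∈ L ∧ x ∈ C ∧ (orderOf x).Coprime p} with hD
  have hDC : D ≤ C := (Subgroup.closure_le _).2 fun x hx => hx.2.1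
  have hDL : D ≤ L := (Subgroup.closure_le _).2 fun x hx => hx.1
  have hDO : D ≤ O := (Subgroup.closure_le _).2 fun x hx => hOmem x hx.2.1 hx.2.2
  have hpD : ¬ p ∣ Nat.card D := fun h => hOp (h.trans (Subgroup.card_dvd_of_le hDO))
  have hLD : L ≤ Subgroup.normalizer (D : Set G) := fun l hl => by
    refine mem_normalizer_of_cj_le ?_
    rw [hD, cj, MonoidHom.map_closure]
    refine Subgroup.closure_mono ?_
    rintro _ ⟨x, ⟨h1, h2, h3⟩, rfl⟩
    refine ⟨mul_mem (mul_mem hl h1) (inv_mem hl), (Subgroup.mem_normalizer_iff.1 (hNC (hLN hl)) x).1 h2, ?_⟩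
    rwa [orderOf_injective _ (MulAut.conj l).injective x]
  have hrD : ∀ x ∈ L, (∃ k : ℕ, orderOf x = r ^ k) → x ∈ D := by
    intro x hx hxo
    refine Subgroup.subset_closure ⟨hx, haut r hr hrπ x (hLN hx) hxo, ?_⟩
    obtain ⟨k, hk⟩ := hxo
    rw [hk]
    exact Nat.Coprime.pow_left k ((Nat.coprime_primes hr hp.out).2 hrp)
  have hrGroup : ∀ R : Subgroup G, IsPGroup r R → R ≤ L → R ≤ D := fun R hR hRL x hx => by
    obtain ⟨k, hk⟩ := IsPGroup.iff_orderOf.1 hR ⟨x, hx⟩
    exact hrD x (hRL hx) ⟨k, by rwa [Subgroup.orderOf_mk] at hk⟩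
  obtain ⟨R, hR⟩ := exists_sylIn (p := r) D
  set K := L ⊓ Subgroup.normalizer (R : Set G) with hK
  have hDK : ∀ l ∈ L, ∃ d ∈ D, d * l ∈ K := fun l hl => by
    obtain ⟨d, hd, hdl⟩ := frattini_conj hR hLD hl
    exact ⟨d, hd, mul_mem (hDL hd) hl, hdl⟩
  have hDKsup : D ⊔ K = L := by
    refine le_antisymm (sup_le hDL inf_le_left) fun l hl => ?_
    obtain ⟨d, hd, hdl⟩ := hDK l hl
    have := mul_mem (Subgroup.mem_sup_left (inv_mem hd) : d⁻¹ ∈ D ⊔ K) (Subgroup.mem_sup_right hdl)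
    rwa [inv_mul_cancel_left] at this
  obtain ⟨T, hT⟩ := exists_sylIn (p := p) K
  have hTL : SylIn p T L := by
    refine ⟨hT.le.trans inf_le_left, hT.isPGroup, fun hd => ?_⟩
    rw [← Subgroup.relIndex_mul_relIndex T K L hT.le inf_le_left] at hd
    rcases hp.out.dvd_mul.1 hd with h | h
    · exact hT.not_dvd h
    · have h1 := card_sup_mul_card_inf' D K (inf_le_left.trans hLD)
      rw [hDKsup] at h1
      have h2 : Nat.card K * K.relIndex L = Nat.card L := by
        have h := (K.subgroupOf L).card_mul_index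
        rwa [Nat.card_congr (Subgroup.subgroupOfEquivOfLe (inf_le_left : K ≤ L)).toEquiv] at h
      have h3 : K.relIndex L * Nat.card (D ⊓ K : Subgroup G) = Nat.card D := by
        refine Nat.eq_of_mul_eq_mul_left (Nat.card_pos (α := K)) ?_
        rw [← mul_assoc, h2, h1, mul_comm]
      exact hpD (h3 ▸ h.mul_right _)
  obtain ⟨l, hl, hlT⟩ := hTL.conj_eq (hP0.mono hPL hLN)
  set R' := cj R l with hR'
  have hR'D : SylIn r R' D := hR.cj' (hLD hl)
  have hP0R : P0 ≤ Subgroup.normalizer (R' : Set G) := by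
    rw [hR', ← cj_normalizer, ← hlT]
    exact cj_mono (hT.le.trans inf_le_right) l
  have hLR : L ≤ Subgroup.normalizer (R' : Set G) := by
    have := hmin (L ⊓ Subgroup.normalizer (R' : Set G)) (le_inf hPL hP0R) inf_le_left (fun n hn => by
      obtain ⟨c, hc, hcn⟩ := hcov n hn
      obtain ⟨d, hd, hdn⟩ := frattini_conj hR'D hLD hcn
      exact ⟨d * c, mul_mem (hDC hd) hc, by
        rw [mul_assoc]; exact ⟨mul_mem (hDL hd) hcn, hdn⟩⟩)
    exact this.ge.trans inf_le_right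
  have hR'L : SylIn r R' L := by
    obtain ⟨S, hS, hR'S⟩ := exists_sylIn_ge hR'D.isPGroup (hR'D.le.trans hDL)
    rwa [hR'D.eq_of_le hS.isPGroup hR'S (hrGroup S hS.isPGroup hS.le)] at hS
  haveI : (R'.subgroupOf L).Normal := Subgroup.normal_subgroupOf_of_le_normalizer hLR
  obtain ⟨S, hS⟩ := hR'L.exists_sylow_subgroupOf
  obtain ⟨B', hB'⟩ := Subgroup.exists_right_complement'_of_coprime (N := R'.subgroupOf L)
    (by rw [← hS]; exact S.card_coprime_index)
  set B := B'.map L.subtype with hB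
  have hBL : B ≤ L := Subgroup.map_subtype_le _
  have hBidx : B.relIndex L = Nat.card R' := by
    rw [hB, Subgroup.relIndex, Subgroup.subgroupOf,
      Subgroup.comap_map_eq_self_of_injective L.subtype_injective, hB'.index_eq_card,
      Nat.card_congr (Subgroup.subgroupOfEquivOfLe hR'L.le).toEquiv]
  have hpR : ¬ p ∣ Nat.card R' := fun h =>
    hpD (h.trans (Subgroup.card_dvd_of_le hR'D.le))
  obtain ⟨T', hT'⟩ := exists_sylIn (p := p) B
  have hT'L : SylIn p T' L := by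
    refine ⟨hT'.le.trans hBL, hT'.isPGroup, fun hd => ?_⟩
    rw [← Subgroup.relIndex_mul_relIndex T' B L hT'.le hBL, hBidx] at hd
    rcases hp.out.dvd_mul.1 hd with h | h
    · exact hT'.not_dvd h
    · exact hpR h
  obtain ⟨l', hl', hlT'⟩ := hT'L.conj_eq (hP0.mono hPL hLN)
  have hBcov : cj B l' = L := by
    refine hmin _ (hlT' ▸ cj_mono hT'.le l') ((cj_mono hBL l').trans (cj_eq_self_of_mem hl').le)
      fun n hn => ?_
    obtain ⟨c, hc, hcn⟩ := hcov n hn
    set m := l'⁻¹ * (c * n) * l' with hm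
    have hmL : m ∈ L := mul_mem (mul_mem (inv_mem hl') hcn) hl'
    have htop : (⟨m, hmL⟩ : L) ∈ R'.subgroupOf L ⊔ B' := hB'.sup_eq_top.ge (Subgroup.mem_top _)
    rw [Subgroup.mem_sup_of_normal_left] at htop
    obtain ⟨a, ha, b, hb, hab⟩ := htop
    have hab' : (a : G) * b = m := congrArg Subtype.val hab
    have haC : (a : G) ∈ C := hDC (hR'D.le ha)
    refine ⟨l' * (a : G)⁻¹ * l'⁻¹ * c, mul_mem
      ((Subgroup.mem_normalizer_iff.1 (hNC (hLN hl')) _).1 (inv_mem haC)) hc, ?_⟩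
    have : l' * (a : G)⁻¹ * l'⁻¹ * c * n = l' * (b : G) * l'⁻¹ := by
      rw [show (b : G) = (a : G)⁻¹ * m by rw [← hab', inv_mul_cancel_left], hm]; group
    rw [this]
    exact conj_mem_cj ⟨b, hb, rfl⟩
  have hone : Nat.card R' = 1 := by
    have h := congrArg (fun X : Subgroup G => Nat.card X) hBcov
    simp only [card_cj] at h
    have h2 : Nat.card B * B.relIndex L = Nat.card L := by
      have h := (B.subgroupOf L).card_mul_index
      rwa [Nat.card_congr (Subgroup.subgroupOfEquivOfLe hBL).toEquiv] at h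
    rw [hBidx, h] at h2
    exact (Nat.mul_eq_left Nat.card_pos.ne').1 h2
  exact hR'L.not_dvd (by rwa [Subgroup.card_eq_one.1 hone, Subgroup.relIndex_bot_left])

/-- `H` controls the fusion of the subgroups of a Sylow `p`-subgroup it contains. -/
theorem fusion_pSubgroup {H : Subgroup G} (hg : Good π H) (hpπ : p ∈ π) {P : Subgroup G}
    (hP : SylIn p P ⊤) (hPH : P ≤ H) :
    ∀ (k : ℕ) (U : Subgroup G), Nat.card G - Nat.card U = k → U ≤ P → ∀ g : G, cj U g ≤ P →
      ∃ h ∈ H, ∀ u ∈ U, h * u * h⁻¹ = g * u * g⁻¹ := by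
  intro k
  induction k using Nat.strong_induction_on with
  | _ k IH =>
  intro U hk hUP g hgU
  by_cases hUb : U = ⊥
  · exact ⟨1, one_mem _, fun u hu => by
      rw [hUb, Subgroup.mem_bot] at hu; subst hu; simp⟩
  have IH' : ∀ V : Subgroup G, Nat.card U < Nat.card V → V ≤ P → ∀ g : G, cj V g ≤ P →
      ∃ h ∈ H, ∀ u ∈ V, h * u * h⁻¹ = g * u * g⁻¹ := fun V hV hVP g hgV =>
    IH (Nat.card G - Nat.card V) (by
      have := Subgroup.card_le_card_group V; omega) V rfl hVP g hgV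
  -- the automorphisms induced by the normalizer of a fully normalised subgroup
  have hA : ∀ W : Subgroup G, W ≤ P → Nat.card W = Nat.card U → W ≠ ⊥ →
      SylIn p (P ⊓ Subgroup.normalizer (W : Set G)) (Subgroup.normalizer (W : Set G)) →
      ∀ n ∈ Subgroup.normalizer (W : Set G), ∃ h ∈ H, ∀ u ∈ W, h * u * h⁻¹ = n * u * n⁻¹ := by
    intro W hWP hWc hWb hW n hn
    set N := Subgroup.normalizer (W : Set G) with hN
    set C := Subgroup.centralizer (W : Set G) with hC
    set P0 := P ⊓ N with hP0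
    have hWp : IsPGroup p W := hP.isPGroup.to_le hWP
    have hCN : C ≤ N := Subgroup.centralizer_le_normalizer _
    have hNC : N ≤ Subgroup.normalizer (C : Set G) := fun n hn => by
      rw [mem_normalizer_iff_cj, hC, cj_centralizer, cj_eq_self hn]
    have hnW : ∀ u ∈ W, n * u * n⁻¹ ∈ W := fun u hu => (Subgroup.mem_normalizer_iff.1 hn u).1 hu
    by_cases hcen : P0 ⊓ C ≤ W
    · obtain ⟨L, hPL, hLπ, hLN, hcov⟩ := exists_supplement hpπ hg.hom hWb hWp hW hcen
      obtain ⟨c, hc⟩ := hg.dom L hLπ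
      obtain ⟨x, hx, hxP⟩ := (hP.mono hPH le_top).conj_le (isPGroup_cj hW.isPGroup c)
        ((cj_mono hPL c).trans hc)
      set e := x * c with he
      have heP : cj P0 e ≤ P := by rw [he, ← cj_cj]; exact hxP
      have heL : cj L e ≤ H := by
        rw [he, ← cj_cj]; exact (cj_mono hc x).trans (cj_eq_self_of_mem hx).le
      by_cases hWeq : W = P
      · have heN : e ∈ N := by
          refine mem_normalizer_of_cj_le ?_
          refine le_trans (cj_mono ?_ e) (hWeq ▸ heP)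
          exact le_inf hWP Subgroup.le_normalizer
        set n1 := e⁻¹ * n * e with hn1
        obtain ⟨c1, hc1, hl⟩ := hcov n1 (mul_mem (mul_mem (inv_mem heN) hn) heN)
        refine ⟨e * (c1 * n1) * e⁻¹, heL (conj_mem_cj hl), fun u hu => ?_⟩
        have hy : e⁻¹ * (n * u * n⁻¹) * e ∈ W := by
          have h := (Subgroup.mem_normalizer_iff.1 (inv_mem heN) _).1 (hnW u hu)
          rwa [inv_inv] at h
        have h1 := mem_cent_iff.1 hc1 _ hy
        calc e * (c1 * n1) * e⁻¹ * u * (e * (c1 * n1) * e⁻¹)⁻¹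
            = e * (c1 * (e⁻¹ * (n * u * n⁻¹) * e) * c1⁻¹) * e⁻¹ := by rw [hn1]; group
          _ = n * u * n⁻¹ := by rw [h1]; group
      · have hlt : W < P0 :=
          SylIn.normalizer_growth hWP hWeq hP.isPGroup
        obtain ⟨h', hh', hh'e⟩ := IH' P0 (hWc ▸ Solv.card_lt_of_lt hlt) inf_le_left e heP
        set z := h'⁻¹ * e with hz
        have hzW : ∀ u ∈ W, z * u * z⁻¹ = u := fun u hu => by
          rw [hz, conj_comp, ← hh'e u (hlt.le hu)]; group
        have hzW' : ∀ u ∈ W, z⁻¹ * u * z = u := fun u hu => by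
          conv_lhs => rw [← hzW u hu]
          group
        obtain ⟨c1, hc1, hl⟩ := hcov n hn
        refine ⟨z * (c1 * n) * z⁻¹, ?_, fun u hu => ?_⟩
        · rw [hz, show h'⁻¹ * e * (c1 * n) * (h'⁻¹ * e)⁻¹ =
            h'⁻¹ * (e * (c1 * n) * e⁻¹) * h' by group]
          exact mul_mem (mul_mem (inv_mem hh') (heL (conj_mem_cj hl))) hh'
        · calc z * (c1 * n) * z⁻¹ * u * (z * (c1 * n) * z⁻¹)⁻¹
              = z * (c1 * (n * (z⁻¹ * u * z) * n⁻¹) * c1⁻¹) * z⁻¹ := by group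
            _ = n * u * n⁻¹ := by
              rw [hzW' u hu, mem_cent_iff.1 hc1 _ (hnW u hu), hzW _ (hnW u hu)]
    · set Q1 := P0 ⊓ C ⊔ W with hQ1
      have hWQ : W < Q1 := lt_of_le_of_ne le_sup_right fun h => hcen (h ▸ le_sup_left)
      have hQ1P : Q1 ≤ P := sup_le (inf_le_left.trans inf_le_left) hWP
      obtain ⟨c, hc, hcn⟩ := frattini_conj (hW.inf_normal hCN hNC) hNC hn
      have hQn : cj Q1 (c * n) = Q1 := by
        rw [hQ1, cj_sup, cj_eq_self hcn, cj_eq_self (mul_mem (hCN hc) hn)]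
      obtain ⟨h, hh, hhe⟩ := IH' Q1 (hWc ▸ Solv.card_lt_of_lt hWQ) hQ1P (c * n) (hQn.le.trans hQ1P)
      refine ⟨h, hh, fun u hu => ?_⟩
      rw [hhe u (hWQ.le hu), conj_comp, mem_cent_iff.1 hc _ (hnW u hu)]
  by_cases hUeq : U = P
  · subst hUeq
    have hgN : g ∈ Subgroup.normalizer (U : Set G) := mem_normalizer_of_cj_le hgU
    have hW : SylIn p (U ⊓ Subgroup.normalizer (U : Set G)) (Subgroup.normalizer (U : Set G)) := by
      rw [inf_eq_left.2 Subgroup.le_normalizer]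
      exact hP.mono Subgroup.le_normalizer le_top
    exact hA U le_rfl rfl hUb hW g hgN
  -- a fully normalised conjugate
  obtain ⟨R, hR⟩ := exists_sylIn (p := p) (Subgroup.normalizer (U : Set G))
  have hUR : U ≤ R := by
    have hsup : IsPGroup p (R ⊔ U : Subgroup G) :=
      hR.isPGroup.to_sup_of_normal_right' (hP.isPGroup.to_le hUP) hR.le
    rw [← hR.eq_of_le hsup le_sup_left (sup_le hR.le Subgroup.le_normalizer)]
    exact le_sup_right
  obtain ⟨a, -, haR⟩ := hP.conj_le hR.isPGroup le_top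
  set W := cj U a with hWdef
  have hWP : W ≤ P := (cj_mono hUR a).trans haR
  have hWsyl : SylIn p (P ⊓ Subgroup.normalizer (W : Set G)) (Subgroup.normalizer (W : Set G)) := by
    have h1 : SylIn p (cj R a) (Subgroup.normalizer (W : Set G)) := by
      rw [hWdef, ← cj_normalizer]; exact hR.cj a
    rwa [h1.eq_of_le hP.isPGroup.to_inf_left (le_inf haR h1.le) inf_le_right]
  have hmap : ∀ V : Subgroup G, V ≤ P → ∀ b : G, cj U b = V →
      ∃ h ∈ H, ∃ e : G, cj V e = W ∧ ∀ v ∈ V, h * v * h⁻¹ = e * v * e⁻¹ := by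
    intro V hVP b hb
    have hVne : V ≠ P := fun h => hUeq (Subgroup.eq_of_le_of_card_ge hUP (by
      rw [← h, ← hb, card_cj]))
    set e0 := a * b⁻¹ with he0
    have he0V : cj V e0 = W := by rw [he0, ← hb, cj_cj, inv_mul_cancel_right, hWdef]
    set V0 := P ⊓ Subgroup.normalizer (V : Set G) with hV0
    have hV0N : cj V0 e0 ≤ Subgroup.normalizer (W : Set G) := by
      rw [← he0V, ← cj_normalizer]; exact cj_mono inf_le_right e0
    obtain ⟨n, hn, hnle⟩ := hWsyl.conj_le (isPGroup_cj hP.isPGroup.to_inf_left e0) hV0N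
    rw [cj_cj] at hnle
    have hlt : V < V0 := SylIn.normalizer_growth hVP hVne hP.isPGroup
    obtain ⟨h, hh, hhe⟩ := IH' V0 (by
      rw [show Nat.card U = Nat.card V by rw [← hb, card_cj]]; exact Solv.card_lt_of_lt hlt)
      inf_le_left (n * e0) (hnle.trans inf_le_left)
    refine ⟨h, hh, n * e0, ?_, fun v hv => hhe v (hlt.le hv)⟩
    rw [← cj_cj, he0V, cj_eq_self hn]
  obtain ⟨h1, hh1, e1, he1, hh1e⟩ := hmap U hUP 1 (cj_one U)
  obtain ⟨h2, hh2, e2, he2, hh2e⟩ := hmap (cj U g) hgU g rfl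
  set n0 := e2 * g * e1⁻¹ with hn0
  have hn0N : n0 ∈ Subgroup.normalizer (W : Set G) := by
    refine mem_normalizer_iff_cj.2 ?_
    rw [hn0]
    conv_lhs => rw [← he1]
    rw [cj_cj, inv_mul_cancel_right, ← cj_cj, he2]
  obtain ⟨h0, hh0, hh0e⟩ := hA W hWP (card_cj U a) (fun h => hUb (by
    rw [← Subgroup.card_eq_one, ← card_cj U a, ← hWdef, h, Subgroup.card_bot])) hWsyl n0 hn0N
  refine ⟨h2⁻¹ * h0 * h1, mul_mem (mul_mem (inv_mem hh2) hh0) hh1, fun u hu => ?_⟩
  have h1u : e1 * u * e1⁻¹ ∈ W := he1 ▸ conj_mem_cj hu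
  have hgu : g * u * g⁻¹ ∈ cj U g := conj_mem_cj hu
  rw [conj_comp, hh1e u hu, conj_comp, hh0e _ h1u]
  have e : n0 * (e1 * u * e1⁻¹) * n0⁻¹ = e2 * (g * u * g⁻¹) * e2⁻¹ := by rw [hn0]; group
  rw [e, ← hh2e _ hgu]
  group

end Cfsg.Agent.Solv.Homogeneous
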