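import Mathlib
import Cfsg.Agent.Lib.Solv.HomogeneousFusion
import Cfsg.Agent.Lib.Solv.Parts
import Cfsg.Agent.S0877

/-!
# A π-homogeneous group with the `D_π`-property is π′-closed
-/

set_option autoImplicit false
set_option linter.style.haveILetI false

open Cfsg Cfsg.Agent.Fusion

namespace Cfsg.Agent.Solv.Homogeneous

universe u

theorem automisers_subgroup {G : Type u} [Group G] [Finite G] {π : Set ℕ} (h : Automisers π G)
    (M : Subgroup G) : Automisers π M := by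
  intro H hH hHπ r hr hd
  set H' := H.map M.subtype with hH'
  have hH'M : H' ≤ M := Subgroup.map_subtype_le H
  have hsub : H'.subgroupOf M = H := Subgroup.comap_map_eq_self_of_injective M.subtype_injective H
  have hcent : Subgroup.centralizer (H : Set M) =
      (Subgroup.centralizer (H' : Set G)).subgroupOf M := by
    ext x
    rw [Subgroup.mem_subgroupOf, Subgroup.mem_centralizer_iff, Subgroup.mem_centralizer_iff]
    constructor
    · rintro hx _ ⟨y, hy, rfl⟩
      exact congrArg Subtype.val (hx y hy)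
    · exact fun hx y hy => Subtype.ext (hx _ ⟨y, hy, rfl⟩)
  have hnorm : Subgroup.normalizer (H : Set M) =
      (Subgroup.normalizer (H' : Set G) ⊓ M).subgroupOf M := by
    rw [Subgroup.inf_subgroupOf_right, Subgroup.subgroupOf_normalizer_eq hH'M, hsub]
  rw [hcent, hnorm, Subgroup.relIndex_subgroupOf inf_le_right] at hd
  have hne : H' ≠ ⊥ := fun e => hH
    ((Subgroup.map_eq_bot_iff_of_injective _ M.subtype_injective).1 e)
  refine h H' hne (fun q hq hq' => hHπ q hq ?_) r hr (hd.trans ?_)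
  · rwa [hH', Subgroup.card_map_of_injective M.subtype_injective] at hq'
  · haveI : ((Subgroup.centralizer (H' : Set G)).subgroupOf (Subgroup.normalizer (H' : Set G))).Normal :=
      Subgroup.normal_subgroupOf_of_le_normalizer fun n hn => by
        rw [mem_normalizer_iff_cj, cj_centralizer, cj_eq_self hn]
    rw [← Subgroup.relIndex_subgroupOf (K := Subgroup.normalizer (H' : Set G) ⊓ M)
      (L := Subgroup.normalizer (H' : Set G)) inf_le_left]
    exact Subgroup.relIndex_dvd_index_of_normal _ _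

variable {G : Type u} [Group G]

theorem isPiSubgroup_zpowers {π : Set ℕ} {H : Subgroup G} (hH : IsPiSubgroup π H) {a : G}
    (ha : a ∈ H) [Finite G] : IsPiSubgroup π (Subgroup.zpowers a) :=
  fun r hr hd => hH r hr (hd.trans (Subgroup.card_dvd_of_le (Subgroup.zpowers_le.2 ha)))

theorem exists_sylow_le [Finite G] {π : Set ℕ} {H : Subgroup G} (hg : Good π H) {p : ℕ}
    [hp : Fact p.Prime] (hpπ : p ∈ π) : ∃ P : Subgroup G, SylIn p P ⊤ ∧ P ≤ H := by
  obtain ⟨S⟩ : Nonempty (Sylow p G) := inferInstance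
  obtain ⟨g, hgS⟩ := hg.dom S (isPiSubgroup_of_pGroup hpπ S.isPGroup')
  exact ⟨_, (sylIn_top S).cj' (by rw [Subgroup.normalizer_eq_top_iff.2 inferInstance]; trivial), hgS⟩

theorem fusion_pElement [Finite G] {π : Set ℕ} {H : Subgroup G} (hg : Good π H) {p : ℕ}
    [hp : Fact p.Prime] (hpπ : p ∈ π) {a : G} (hak : ∃ k : ℕ, orderOf a = p ^ k) (haH : a ∈ H)
    {g : G} (hgH : g * a * g⁻¹ ∈ H) : ∃ h ∈ H, h * a * h⁻¹ = g * a * g⁻¹ := by
  obtain ⟨P, hP, hPH⟩ := exists_sylow_le hg hpπ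
  obtain ⟨k, hk⟩ := hak
  have hZ : ∀ b : G, orderOf b = p ^ k → b ∈ H → ∃ h ∈ H, h * b * h⁻¹ ∈ P := by
    intro b hb hbH
    obtain ⟨h, hh, hle⟩ := (hP.mono hPH le_top).conj_le (Solv.isPGroup_zpowers hb)
      (Subgroup.zpowers_le.2 hbH)
    exact ⟨h, hh, hle (conj_mem_cj (Subgroup.mem_zpowers b))⟩
  have hk' : orderOf (g * a * g⁻¹) = p ^ k := by
    rw [← hk]; exact orderOf_injective (MulAut.conj g).toMonoidHom (MulAut.conj g).injective a
  obtain ⟨h1, hh1, ha1⟩ := hZ a hk haH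
  obtain ⟨h2, hh2, ha2⟩ := hZ _ hk' hgH
  set U := Subgroup.zpowers (h1 * a * h1⁻¹) with hU
  obtain ⟨h, hh, hhe⟩ := fusion_pSubgroup hg hpπ hP hPH _ U rfl (Subgroup.zpowers_le.2 ha1)
    (h2 * g * h1⁻¹) (by
      rw [hU, cj, MonoidHom.map_zpowers, Subgroup.zpowers_le]
      show h2 * g * h1⁻¹ * (h1 * a * h1⁻¹) * (h2 * g * h1⁻¹)⁻¹ ∈ P
      rw [show h2 * g * h1⁻¹ * (h1 * a * h1⁻¹) * (h2 * g * h1⁻¹)⁻¹ =
        h2 * (g * a * g⁻¹) * h2⁻¹ by group]
      exact ha2)
  refine ⟨h2⁻¹ * h * h1, mul_mem (mul_mem (inv_mem hh2) hh) hh1, ?_⟩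
  rw [conj_comp, conj_comp, hhe _ (Subgroup.mem_zpowers _)]
  group

theorem fusion_element {π : Set ℕ} : ∀ (n : ℕ) (G : Type u) [Group G] [Finite G] (H : Subgroup G),
    Good π H → ∀ x ∈ H, ∀ g : G, orderOf x = n → g * x * g⁻¹ ∈ H →
      ∃ h ∈ H, h * x * h⁻¹ = g * x * g⁻¹ := by
  intro n
  induction n using Nat.strong_induction_on with
  | _ n IH =>
  intro G _ _ H hg x hx g hn hgx
  by_cases h1 : n = 1
  · rw [h1, orderOf_eq_one_iff] at hn
    exact ⟨1, one_mem _, by subst hn; group⟩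
  obtain ⟨p, hp, hpn⟩ := Nat.exists_prime_and_dvd h1
  haveI := Fact.mk hp
  have hpπ : p ∈ π := hg.pi p hp (hpn.trans (hn ▸ H.orderOf_dvd_natCard hx))
  obtain ⟨a, b, ha, hb, hab, hak, hbp⟩ := Solv.exists_ppart p x
  have hbn : orderOf b < n := by
    have hd : orderOf b ∣ n := hn ▸ orderOf_dvd_of_mem_zpowers hb
    refine lt_of_le_of_ne (Nat.le_of_dvd (hn ▸ orderOf_pos x) hd) fun e => hp.ne_one ?_
    exact Nat.eq_one_of_dvd_coprimes hbp (e ▸ hpn) dvd_rfl
  have hconj : ∀ z ∈ Subgroup.zpowers x, g * z * g⁻¹ ∈ H := by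
    intro z hz
    obtain ⟨i, rfl⟩ := hz
    show g * x ^ i * g⁻¹ ∈ H
    rw [← conj_zpow]; exact zpow_mem hgx i
  have haH : a ∈ H := (Subgroup.zpowers_le.2 hx) ha
  have hbH : b ∈ H := (Subgroup.zpowers_le.2 hx) hb
  obtain ⟨h, hh, hha⟩ := fusion_pElement hg hpπ hak haH (hconj a ha)
  set C := Subgroup.centralizer ({a} : Set G) with hC
  have hmemC : ∀ {t : G}, t ∈ C ↔ t * a * t⁻¹ = a := fun {t} => by
    rw [hC, Subgroup.mem_centralizer_singleton_iff, mul_inv_eq_iff_eq_mul]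
  set c := h⁻¹ * g with hc
  have hcC : c ∈ C := hmemC.2 (by rw [hc, conj_comp, ← hha]; group)
  have hbC : b ∈ C := hmemC.2 (by
    obtain ⟨i, rfl⟩ := ha; obtain ⟨j, rfl⟩ := hb
    show x ^ j * x ^ i * (x ^ j)⁻¹ = x ^ i
    rw [← zpow_add, add_comm, zpow_add, mul_inv_cancel_right])
  set K := (H ⊓ C).subgroupOf C with hK
  have hgood : Good π K := by
    refine ⟨automisers_subgroup hg.hom C, fun q hq hd => hg.pi q hq ?_, fun L hL => ?_⟩
    · refine hd.trans ?_
      rw [hK, Nat.card_congr (Subgroup.subgroupOfEquivOfLe (inf_le_right : H ⊓ C ≤ C)).toEquiv]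
      exact Subgroup.card_dvd_of_le inf_le_left
    · set L' := L.map C.subtype with hL'
      have hL'C : L' ≤ C := Subgroup.map_subtype_le L
      have hnorm : L' ≤ Subgroup.normalizer (Subgroup.zpowers a : Set G) := fun t ht =>
        Subgroup.centralizer_le_normalizer _ (by
          rw [Subgroup.mem_centralizer_iff]
          rintro _ ⟨i, rfl⟩
          show a ^ i * t = t * a ^ i
          exact (Commute.zpow_left (show Commute a t from
            ((mul_inv_eq_iff_eq_mul.1 (hmemC.1 (hL'C ht))).symm)) i).eq)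
      have hpi : IsPiSubgroup π (Subgroup.zpowers a ⊔ L') := fun q hq hd => by
        have h' := card_sup_mul_card_inf' (Subgroup.zpowers a) L' hnorm
        rcases hq.dvd_mul.1 (hd.trans ⟨_, h'.symm⟩) with h'' | h''
        · exact isPiSubgroup_zpowers hg.pi haH q hq h''
        · refine hL q hq ?_
          rwa [hL', Subgroup.card_map_of_injective C.subtype_injective] at h''
      obtain ⟨d, hd⟩ := hg.dom _ hpi
      have hdaH : d * a * d⁻¹ ∈ H := hd (conj_mem_cj (Subgroup.mem_sup_left (Subgroup.mem_zpowers a)))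
      obtain ⟨h', hh', hha'⟩ := fusion_pElement hg hpπ hak haH hdaH
      have hdC : h'⁻¹ * d ∈ C := hmemC.2 (by rw [conj_comp, ← hha']; group)
      refine ⟨⟨_, hdC⟩, ?_⟩
      rintro _ ⟨l, hl, rfl⟩
      refine Subgroup.mem_subgroupOf.2 ⟨?_, (_ : C).2⟩
      show h'⁻¹ * d * (l : G) * (h'⁻¹ * d)⁻¹ ∈ H
      rw [conj_comp]
      have hdl : d * (l : G) * d⁻¹ ∈ H := hd (conj_mem_cj (Subgroup.mem_sup_right ⟨l, hl, rfl⟩))
      rw [inv_inv]
      exact mul_mem (mul_mem (inv_mem hh') hdl) hh'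
  have hcb : c * b * c⁻¹ ∈ H := by
    rw [hc, conj_comp, inv_inv]
    exact mul_mem (mul_mem (inv_mem hh) (hconj b hb)) hh
  obtain ⟨k, hk, hke⟩ := IH (orderOf b) hbn C K hgood ⟨b, hbC⟩
    (Subgroup.mem_subgroupOf.2 ⟨hbH, hbC⟩) ⟨c, hcC⟩ (Subgroup.orderOf_mk b hbC)
    (Subgroup.mem_subgroupOf.2 ⟨hcb, C.mul_mem (C.mul_mem hcC hbC) (C.inv_mem hcC)⟩)
  have hkb : (k : G) * b * (k : G)⁻¹ = c * b * c⁻¹ := congrArg Subtype.val hke
  have hka := hmemC.1 k.2
  have hkH : (k : G) ∈ H := (Subgroup.mem_subgroupOf.1 hk).1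
  refine ⟨h * k, mul_mem hh hkH, ?_⟩
  have e1 : (k : G) * x * (k : G)⁻¹ = c * x * c⁻¹ := by
    rw [← hab, show (k : G) * (a * b) * (k : G)⁻¹ = (k * a * (k : G)⁻¹) * (k * b * (k : G)⁻¹) by group,
      hka, hkb]
    conv_lhs => arg 1; rw [← hmemC.1 hcC]
    group
  rw [conj_comp, e1, hc]
  group

theorem exists_normal_complement [Finite G] {π : Set ℕ} (hD : IsDPiGroup π G)
    (hom : Automisers π G) :
    ∃ K : Subgroup G, ∀ x : G, x ∈ K ↔ ∀ p : ℕ, p.Prime → p ∣ orderOf x → p ∉ π := by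
  obtain ⟨H, -, hH⟩ := Finite.exists_le_maximal (p := IsPiSubgroup (G := G) π) (a := (⊥ : Subgroup G))
    (fun q hq hd => by rw [Subgroup.card_bot] at hd; exact absurd hd hq.not_dvd_one)
  have hg : Good π H := by
    refine ⟨hom, hH.prop, fun K hK => ?_⟩
    obtain ⟨M, hKM, hM⟩ := Finite.exists_le_maximal (p := IsPiSubgroup (G := G) π) hK
    obtain ⟨g, hge⟩ := hD M H hM hH
    exact ⟨g, (cj_mono hKM g).trans hge.ge⟩
  have hidx : ∀ p : ℕ, p.Prime → p ∈ π → ¬ p ∣ H.index := fun p hp hpπ hd => by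
    haveI := Fact.mk hp
    obtain ⟨P, hP, hPH⟩ := exists_sylow_le hg hpπ
    refine hP.not_dvd ?_
    rw [Subgroup.relIndex_top_right]
    exact hd.trans (Subgroup.index_dvd_of_le hPH)
  have hcop : (Nat.card H).Coprime H.index :=
    Nat.coprime_of_dvd fun q hq h1 h2 => hidx q hq (hH.prop q hq h1) h2
  obtain ⟨K, hKn, hKH, hKH'⟩ := S0877.result H hcop (fun x hx y hy hxy => by
      obtain ⟨g, rfl⟩ := isConj_iff.1 hxy
      exact fusion_element _ G H hg x hx g rfl hy)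
    (fun E q _ _ hE => by
      obtain ⟨g, hgE⟩ := hg.dom E (fun r hr hd => hH.prop r hr (hd.trans hE))
      exact ⟨g, hgE⟩)
  haveI := hKn
  have hcard : Nat.card K = H.index := by
    have hc := Subgroup.isComplement'_of_disjoint_and_mul_eq_univ (disjoint_iff.2 hKH')
      (by rw [← Subgroup.normal_mul, hKH, Subgroup.coe_top])
    exact hc.index_eq_card.symm
  have hKidx : K.index = Nat.card H := by
    have h1 := K.card_mul_index
    have h2 := H.card_mul_index
    rw [hcard] at h1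
    refine Nat.eq_of_mul_eq_mul_left (Nat.pos_of_ne_zero (Subgroup.index_ne_zero_of_finite (H := H))) ?_
    rw [h1, ← h2, mul_comm]
  refine ⟨K, fun x => ⟨fun hx q hq hd hqπ => ?_, fun hx => ?_⟩⟩
  · exact hidx q hq hqπ (hcard ▸ hd.trans (K.orderOf_dvd_natCard hx))
  · refine (QuotientGroup.eq_one_iff x).1 (orderOf_eq_one_iff.1 ?_)
    by_contra hne
    obtain ⟨q, hq, hqd⟩ := Nat.exists_prime_and_dvd hne
    refine hx q hq (hqd.trans (orderOf_map_dvd (QuotientGroup.mk' K) x)) (hH.prop q hq ?_)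
    rw [← hKidx, Subgroup.index_eq_card]
    exact hqd.trans (orderOf_dvd_natCard (QuotientGroup.mk' K x))

end Cfsg.Agent.Solv.Homogeneous
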