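import Cfsg.Agent.Lib.Solv.OmegaSplit
import Cfsg.Agent.Lib.Solv.AnisotropicQuad
import Cfsg.Agent.Lib.Solv.Kulakoff
import Cfsg.Agent.Lib.Char.ItoConverse

/-!
A solvable group with trivial core of odd order and a single class of at least two involutions has a
normal Sylow 2-subgroup.
-/

set_option autoImplicit false
set_option linter.style.haveILetI false
open Cfsg

open scoped Pointwise commutatorElement

namespace Cfsg.Agent.Solv.InvClass

open Solv.OmegaSplit

variable {G : Type*} [Group G] [Finite G]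

/-- A power of an element outside `E` lies outside with square inside. -/
theorem exists_sq_mem {E : Subgroup G} {x : G} (hx : x ∉ E) (k : ℕ) (hk : x ^ 2 ^ k ∈ E) :
    ∃ i : ℕ, x ^ 2 ^ i ∉ E ∧ (x ^ 2 ^ i) ^ 2 ∈ E := by
  induction k with
  | zero => rw [pow_zero, pow_one] at hk; exact absurd hk hx
  | succ k ih =>
    by_cases h : x ^ 2 ^ k ∈ E
    · exact ih h
    · exact ⟨k, h, by rwa [← pow_mul, ← pow_succ]⟩

theorem core (hsolv : Group.IsSolvable G) (hbot : pPrimeCore 2 G = ⊥)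
    (hconj : ∀ x y : G, x ≠ 1 → x ^ 2 = 1 → y ≠ 1 → y ^ 2 = 1 → IsConj x y)
    (htwo : ∃ x y : G, x ≠ y ∧ x ≠ 1 ∧ x ^ 2 = 1 ∧ y ≠ 1 ∧ y ^ 2 = 1) :
    (pCore 2 G).index.Coprime 2 := by
  classical
  haveI : Fact (Nat.Prime 2) := ⟨Nat.prime_two⟩
  by_contra hidx
  have hps : IsPSolvable 2 G := Char.isPSolvable_of_isSolvable Nat.prime_two _ rfl hsolv
  have hinvOrd : ∀ x : G, x ≠ 1 → x ^ 2 = 1 → orderOf x = 2 := fun x h1 h2 => orderOf_eq_prime h2 h1
  have hordInv : ∀ x : G, orderOf x = 2 → x ≠ 1 ∧ x ^ 2 = 1 := fun x hx =>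
    ⟨fun h => by rw [h, orderOf_one] at hx; omega, by rw [← hx]; exact pow_orderOf_eq_one x⟩
  have htr : Trans 2 G := by
    intro x y hx hy
    obtain ⟨g, hg⟩ := isConj_iff.1 (hconj y x (hordInv y hy).1 (hordInv y hy).2 (hordInv x hx).1 (hordInv x hx).2)
    exact ⟨MulAut.conj g, by rw [MulAut.conj_apply, hg]; exact Subgroup.mem_zpowers x⟩
  haveI := pCore_normal (G := G) 2
  set P1 := pCore 2 G with hP1
  have hPG : IsPGroup 2 P1 := pCore_isPGroup 2
  have hcenP : ∀ x : G, x ^ 2 = 1 → x ∈ P1 ⊓ Subgroup.centralizer (P1 : Set G) := by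
    intro x hx
    rcases eq_or_ne x 1 with rfl | h1
    · exact Subgroup.one_mem _
    · exact order_p_central hps hbot htr (hinvOrd x h1 hx)
  let E : Subgroup G :=
    { carrier := {x | x ^ 2 = 1}
      one_mem' := one_pow 2
      mul_mem' := fun {a b} (ha : a ^ 2 = 1) (hb : b ^ 2 = 1) => by
        have hab : Commute a b := (Subgroup.mem_centralizer_iff.1 (Subgroup.mem_inf.1 (hcenP b hb)).2 a
          (Subgroup.mem_inf.1 (hcenP a ha)).1)
        show (a * b) ^ 2 = 1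
        rw [hab.mul_pow, ha, hb, one_mul]
      inv_mem' := fun {a} (ha : a ^ 2 = 1) => by show a⁻¹ ^ 2 = 1; rw [inv_pow, ha, inv_one] }
  have hEmem : ∀ x : G, x ∈ E ↔ x ^ 2 = 1 := fun x => Iff.rfl
  have hEP : E ≤ P1 := fun x hx => (Subgroup.mem_inf.1 (hcenP x hx)).1
  have hEc : ∀ e ∈ E, ∀ u ∈ P1, u * e = e * u := fun e he u hu =>
    Subgroup.mem_centralizer_iff.1 (Subgroup.mem_inf.1 (hcenP e he)).2 u hu
  haveI hEn : E.Normal := ⟨fun x hx g => by
    show (g * x * g⁻¹) ^ 2 = 1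
    rw [conj_pow, (hEmem x).1 hx, mul_one, mul_inv_cancel]⟩
  obtain ⟨H, hHc, hH1, hHM, hdec, hnorm, hcent, hMN⟩ := exists_complement hps hbot hidx
  set N := Subgroup.normalizer (H : Set G) with hN
  set M := pp' 2 G with hM
  have hEH : ∀ e ∈ E, ∀ x ∈ H, x * e = e * x := by
    intro e he x hx
    rcases eq_or_ne e 1 with rfl | h1
    · simp
    · exact Subgroup.mem_centralizer_iff.1
        (exists_centralizing hps hbot htr hidx hHM hdec hnorm hcent (hinvOrd e h1 he)) x hx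
  have hEN : E ≤ N := fun e he => Subgroup.mem_normalizer_iff.2 fun x => by
    constructor
    · intro hx
      rwa [← hEH e he x hx, mul_inv_cancel_right]
    · intro hx
      have h1 := hEH e he _ hx
      have h2 : e * x * e⁻¹ = x := by
        have h3 : e * x = e * (e * x * e⁻¹) := by rw [← h1]; group
        exact (mul_left_cancel h3).symm
      rwa [h2] at hx
  have htrN : ∀ e ∈ E, e ≠ 1 → ∀ e' ∈ E, e' ≠ 1 → ∃ n ∈ N, n * e * n⁻¹ = e' := by
    intro e he he1 e' he' he'1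
    obtain ⟨g, hg⟩ := isConj_iff.1 (hconj e e' he1 he he'1 he')
    obtain ⟨u, hu, n, hn, rfl⟩ := hnorm g
    refine ⟨n, hn, ?_⟩
    rw [← hg]
    have h1 := hEc _ (hEn.conj_mem e he n) u hu
    rw [show u * n * e * (u * n)⁻¹ = u * (n * e * n⁻¹) * u⁻¹ by group, h1, mul_inv_cancel_right]
  obtain ⟨z₁, z₂, hz12, hz₁1, hz₁, hz₂1, hz₂⟩ := htwo
  have hbig : 4 ≤ Nat.card E := by
    obtain ⟨k, hk⟩ := IsPGroup.iff_card.1 (hPG.to_le hEP)
    have hinj : Function.Injective (fun i : Fin 3 => (![⟨1, E.one_mem⟩, ⟨z₁, hz₁⟩, ⟨z₂, hz₂⟩] : Fin 3 → E) i) := by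
      intro i j hij
      fin_cases i <;> fin_cases j <;>
        simp_all [Subtype.ext_iff, Ne.symm hz12, Ne.symm hz₁1, Ne.symm hz₂1]
    have h3 : 3 ≤ Nat.card E := by
      have := Nat.card_le_card_of_injective _ hinj
      simpa using this
    rw [hk] at h3 ⊢
    rcases k with - | - | k
    · simp at h3
    · simp at h3
    · calc 4 = 2 ^ 2 := rfl
        _ ≤ 2 ^ (k + 1 + 1) := Nat.pow_le_pow_right (by norm_num) (by omega)
  have hNP : N ≤ Subgroup.normalizer (P1 : Set G) := by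
    rw [Subgroup.normalizer_eq_top_iff.2 inferInstance]; exact le_top
  have hHN : H ≤ N := Subgroup.le_normalizer
  -- `H` does not centralise `P1`
  have hPH : ⁅P1, H⁆ ≠ ⊥ := by
    intro h0
    have hc := Subgroup.commutator_eq_bot_iff_le_centralizer.1 h0
    haveI : H.Normal := by
      rw [← Subgroup.normalizer_eq_top_iff, eq_top_iff]
      intro g _
      obtain ⟨u, hu, n, hn, rfl⟩ := hnorm g
      refine Subgroup.mul_mem _ (Subgroup.mem_normalizer_iff.2 fun x => ?_) hn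
      constructor
      · intro hx
        rwa [← Subgroup.mem_centralizer_iff.1 (hc hu) x hx, mul_inv_cancel_right]
      · intro hx
        have h1 := Subgroup.mem_centralizer_iff.1 (hc (P1.inv_mem hu)) _ hx
        have h2 : x = u * x * u⁻¹ := by
          calc x = u⁻¹ * (u * x * u⁻¹) * u := by group
            _ = u * x * u⁻¹ * u⁻¹ * u := by rw [h1]
            _ = u * x * u⁻¹ := by rw [inv_mul_cancel_right]
        rwa [← h2] at hx
    exact hH1 (eq_bot_iff.2 (hbot ▸ normal_le_pPrimeCore hHc))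
  obtain ⟨D, ⟨hDP, hND, hDH⟩, hDmin⟩ := (wellFounded_lt (α := Subgroup G)).has_min
    {U : Subgroup G | U ≤ P1 ∧ N ≤ Subgroup.normalizer (U : Set G) ∧ ⁅U, H⁆ ≠ ⊥} ⟨P1, le_rfl, hNP, hPH⟩
  have hDG : IsPGroup 2 D := hPG.to_le hDP
  obtain ⟨hDcomm, hshape, hirr, -⟩ := S3736.result N H D hDG hND hHN le_rfl hHc hDH fun U hU hNU => by
    by_contra h0
    exact hDmin U ⟨hU.le.trans hDP, hNU, h0⟩ hU
  have hfixD : ∀ U : Subgroup G, D ≤ U → ¬ U ≤ Subgroup.centralizer (H : Set G) := fun U hU h0 =>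
    hDH (Subgroup.commutator_eq_bot_iff_le_centralizer.2 (hU.trans h0))
  have hsp : IsSpecial 2 ↥D := hshape.resolve_left fun hel => hfixD D le_rfl fun d hd =>
    Subgroup.mem_centralizer_iff.2 fun x hx => hEH d (hel.2 d hd) x hx
  obtain ⟨-, hspF, hspC⟩ := hsp
  haveI : Group.IsNilpotent D := hDG.isNilpotent
  -- squares and commutators of `D`
  have hsqC : ∀ x : D, x ^ 2 ∈ Subgroup.center D := fun x => hspF ▸ pow_mem_frattini hDG x
  have hcommC : ∀ x y : D, ⁅x, y⁆ ∈ Subgroup.center D := fun x y =>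
    hspC ▸ Subgroup.commutator_mem_commutator (Subgroup.mem_top x) (Subgroup.mem_top y)
  have hcommE : ∀ x y : D, ((⁅x, y⁆ : D) : G) ^ 2 = 1 := by
    intro x y
    have h1 : ⁅x ^ 2, y⁆ = ⁅x, y⁆ ^ 2 := by
      have h3 : ⁅x * x, y⁆ = x * ⁅x, y⁆ * x⁻¹ * ⁅x, y⁆ := by simp only [commutatorElement_def]; group
      rw [pow_two, h3, Subgroup.mem_center_iff.1 (hcommC x y) x, mul_inv_cancel_right, ← pow_two]
    have h2 : ⁅x ^ 2, y⁆ = 1 :=
      commutatorElement_eq_one_iff_mul_comm.2 (Subgroup.mem_center_iff.1 (hsqC x) y).symm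
    rw [← Subgroup.coe_pow, ← h1, h2]; rfl
  have hcenE : ∀ x : D, x ∈ Subgroup.center D → (x : G) ∈ E := by
    have h1 : commutator D ≤ E.subgroupOf D := by
      rw [commutator_def, Subgroup.commutator_le]
      intro a _ b _
      exact Subgroup.mem_subgroupOf.2 (hcommE a b)
    intro x hx
    exact Subgroup.mem_subgroupOf.1 (h1 (hspC.ge hx))
  have hED : E ≤ D := by
    obtain ⟨w, hw, hw1⟩ : ∃ w ∈ D, w ≠ 1 := by
      by_contra hall
      push Not at hall
      exact hDH (by rw [(Subgroup.eq_bot_iff_forall D).2 hall, Subgroup.commutator_bot_left])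
    haveI : Nontrivial D := ⟨⟨⟨w, hw⟩, 1, fun h => hw1 (congrArg Subtype.val h)⟩⟩
    haveI := hDG.center_nontrivial
    obtain ⟨⟨c, hc⟩, hc1⟩ := exists_ne (1 : Subgroup.center D)
    have hcE : (c : G) ∈ E := hcenE c hc
    have hc1' : (c : G) ≠ 1 := fun h => hc1 (Subtype.ext (Subtype.ext h))
    intro e he
    rcases eq_or_ne e 1 with rfl | he1
    · exact D.one_mem
    obtain ⟨n, hn, hne⟩ := htrN _ hcE hc1' e he he1
    rw [← hne]
    exact (Subgroup.mem_normalizer_iff.1 (hND hn) _).1 c.2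
  have hΦ : (frattini ↥D).map D.subtype = E := by
    refine le_antisymm ?_ ?_
    · rintro _ ⟨x, hx, rfl⟩
      exact hcenE x (hspF ▸ hx)
    · intro e he
      refine ⟨⟨e, hED he⟩, ?_, rfl⟩
      rw [hspF]
      exact Subgroup.mem_center_iff.2 fun y => Subtype.ext (hEc e he y (hDP y.2))
  have hirr' : ∀ U : Subgroup G, E ≤ U → U ≤ D → N ≤ Subgroup.normalizer (U : Set G) → U = E ∨ U = D :=
    fun U h1 h2 h3 => by rw [← hΦ] at h1 ⊢; exact hirr U h1 h2 h3
  -- fixed points of `H` on `D`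
  have hDfix : ∀ d ∈ D, (∀ x ∈ H, x * d = d * x) → d ∈ E := by
    intro d hd hd'
    have hn : N ≤ Subgroup.normalizer ((D ⊓ Subgroup.centralizer (H : Set G) : Subgroup G) : Set G) := by
      intro n hn
      refine mem_normalizer_of_conj_smul ?_
      rw [Subgroup.smul_inf, conj_smul_of_mem_normalizer (hND hn)]
      congr 1
      ext y
      rw [mem_conj_smul, Subgroup.mem_centralizer_iff, Subgroup.mem_centralizer_iff]
      constructor
      · intro hy x hx
        have h1 := hy (n⁻¹ * x * n) ((Subgroup.mem_normalizer_iff''.1 hn x).1 hx)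
        calc x * y = n * ((n⁻¹ * x * n) * (n⁻¹ * y * n)) * n⁻¹ := by group
          _ = n * ((n⁻¹ * y * n) * (n⁻¹ * x * n)) * n⁻¹ := by rw [h1]
          _ = y * x := by group
      · intro hy x hx
        have h1 := hy (n * x * n⁻¹) ((Subgroup.mem_normalizer_iff.1 hn x).1 hx)
        calc x * (n⁻¹ * y * n) = n⁻¹ * ((n * x * n⁻¹) * y) * n := by group
          _ = n⁻¹ * (y * (n * x * n⁻¹)) * n := by rw [h1]
          _ = n⁻¹ * y * n * x := by group
    have hle : E ≤ D ⊓ Subgroup.centralizer (H : Set G) :=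
      le_inf hED fun e he => Subgroup.mem_centralizer_iff.2 fun x hx => hEH e he x hx
    rcases hirr' _ hle inf_le_left hn with h1 | h1
    · rw [← h1]
      exact Subgroup.mem_inf.2 ⟨hd, Subgroup.mem_centralizer_iff.2 hd'⟩
    · exact absurd (inf_eq_left.1 h1) (hfixD D le_rfl)
  have hsqE : ∀ d ∈ D, d ^ 2 ∈ E := fun d hd => hcenE _ (hsqC ⟨d, hd⟩)
  have hDsq : ∀ e ∈ E, e ≠ 1 → ∃ d ∈ D, d ^ 2 = e := by
    intro e he he1
    obtain ⟨d, hd, hdE⟩ := SetLike.not_le_iff_exists.1 fun h : D ≤ E =>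
      hfixD D le_rfl fun d hd => Subgroup.mem_centralizer_iff.2 fun x hx => hEH d (h hd) x hx
    obtain ⟨n, hn, hne⟩ := htrN _ (hsqE d hd) (fun h => hdE h) e he he1
    refine ⟨n * d * n⁻¹, (Subgroup.mem_normalizer_iff.1 (hND hn) d).1 hd, ?_⟩
    rw [conj_pow, hne]
  -- an element commuting with `D` modulo `E`
  have hlin : ∀ q ∈ N, (∀ e ∈ E, q * e = e * q) → (∀ d ∈ D, ⁅d, q⁆ ∈ E) →
      (∀ x ∈ H, ∀ d ∈ D, ⁅x * d * x⁻¹, q⁆ = ⁅d, q⁆) → ∀ d ∈ D, d * q = q * d := by
    intro q hq hqE hqd hqH d hd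
    refine commutatorElement_eq_one_iff_mul_comm.1 ?_
    let K : Subgroup G :=
      { carrier := {a | a ∈ D ∧ ⁅a, q⁆ = 1}
        one_mem' := ⟨D.one_mem, commutatorElement_one_left q⟩
        mul_mem' := fun {a b} ha hb => ⟨D.mul_mem ha.1 hb.1, by
          rw [commutatorElement_eq_one_iff_mul_comm]
          exact ((show Commute a q from commutatorElement_eq_one_iff_mul_comm.1 ha.2).mul_left
            (commutatorElement_eq_one_iff_mul_comm.1 hb.2))⟩
        inv_mem' := fun {a} ha => ⟨D.inv_mem ha.1, by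
          rw [commutatorElement_eq_one_iff_mul_comm]
          exact (show Commute a q from commutatorElement_eq_one_iff_mul_comm.1 ha.2).inv_left⟩ }
    have hK : ⁅D, H⁆ ≤ K := Subgroup.commutator_le.2 fun a ha x hx => by
      have hmem : ⁅a, x⁆ ∈ D := hDcomm.le (Subgroup.commutator_mem_commutator ha hx)
      refine ⟨hmem, ?_⟩
      have hxa : x * a⁻¹ * x⁻¹ ∈ D := (Subgroup.mem_normalizer_iff.1 (hND (hHN hx)) _).1 (D.inv_mem ha)
      have h1 : ⁅x * a⁻¹ * x⁻¹, q⁆ = ⁅a⁻¹, q⁆ := hqH x hx _ (D.inv_mem ha)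
      have hce : ∀ e ∈ E, ∀ y ∈ D, y * e = e * y := fun e he y hy => hEc e he y (hDP hy)
      calc ⁅⁅a, x⁆, q⁆ = a * ⁅x * a⁻¹ * x⁻¹, q⁆ * a⁻¹ * ⁅a, q⁆ := by simp only [commutatorElement_def]; group
        _ = a * ⁅a⁻¹, q⁆ * a⁻¹ * ⁅a, q⁆ := by rw [h1]
        _ = 1 := by simp only [commutatorElement_def]; group
    rw [hDcomm] at hK
    exact (hK hd).2
  -- `P1 ⊓ N = E`
  have hQ : ∀ q ∈ P1, q ∈ N → q ∈ E := by
    intro q hq hqN
    by_contra hqE
    obtain ⟨k, hk⟩ := hPG ⟨q, hq⟩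
    have hk' : q ^ 2 ^ k = 1 := congrArg Subtype.val hk
    obtain ⟨i, hi, hi2⟩ := exists_sq_mem hqE k (hk' ▸ E.one_mem)
    set r := q ^ 2 ^ i with hr
    have hrP : r ∈ P1 := P1.pow_mem hq _
    have hrN : r ∈ N := N.pow_mem hqN _
    have hrH : ∀ x ∈ H, x * r = r * x :=
      Subgroup.mem_centralizer_iff.1 (hcent (Subgroup.mem_inf.2 ⟨hrP, hrN⟩))
    have hrD : ∀ d ∈ D, ⁅d, r⁆ ∈ E := by
      set Q0 := P1 ⊓ N with hQ0
      haveI hlcs : ∀ j, (P1.lowerCentralSeries j).Normal := fun j => by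
        induction j with
        | zero => exact (inferInstance : P1.Normal)
        | succ j ih => exact @Subgroup.commutator_normal _ _ _ _ ih inferInstance
      set U := ⁅D, Q0⁆ ⊔ E with hU
      have hUD : U ≤ D := sup_le (Subgroup.commutator_le.2 fun a ha b hb => by
        have h1 := (Subgroup.mem_normalizer_iff.1 (hND (Subgroup.mem_inf.1 hb).2) _).1 (D.inv_mem ha)
        have h2 := D.mul_mem ha h1
        simpa [commutatorElement_def, mul_assoc] using h2) hED
      have hUN : N ≤ Subgroup.normalizer (U : Set G) := by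
        intro n hn
        refine mem_normalizer_of_conj_smul ?_
        rw [hU, hQ0, conj_smul_eq_map, Subgroup.map_sup, Subgroup.map_commutator, ← conj_smul_eq_map,
          ← conj_smul_eq_map, ← conj_smul_eq_map, conj_smul_of_mem_normalizer (hND hn), Subgroup.smul_inf,
          conj_smul_of_mem_normalizer (hNP hn), conj_smul_of_mem_normalizer (Subgroup.le_normalizer hn),
          conj_smul_of_mem_normalizer (by rw [Subgroup.normalizer_eq_top_iff.2 hEn]; exact Subgroup.mem_top n)]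
      rcases hirr' U le_sup_right hUD hUN with h1 | h1
      · intro d hd
        rw [← h1]
        exact Subgroup.mem_sup_left (Subgroup.commutator_mem_commutator hd (Subgroup.mem_inf.2 ⟨hrP, hrN⟩))
      · exfalso
        have hlower : ∀ j, D ≤ P1.lowerCentralSeries j ⊔ E := by
          intro j
          induction j with
          | zero => exact hDP.trans le_sup_left
          | succ j ih =>
            rw [← h1]
            refine sup_le ?_ le_sup_right
            refine (Subgroup.commutator_le.2 fun a ha b hb => ?_).trans le_sup_left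
            obtain ⟨g, hg, e, he, rfl⟩ := Subgroup.mem_sup_of_normal_right.1 (ih ha)
            have hb' : b ∈ P1 := (Subgroup.mem_inf.1 hb).1
            have h2 : ⁅g * e, b⁆ = ⁅g, b⁆ := by
              have h3 : b * e = e * b := hEc e he b hb'
              calc ⁅g * e, b⁆ = g * (e * b) * e⁻¹ * g⁻¹ * b⁻¹ := by simp only [commutatorElement_def]; group
                _ = g * b * g⁻¹ * b⁻¹ := by rw [← h3]; group
                _ = _ := (commutatorElement_def g b).symm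
            rw [h2]
            exact Subgroup.commutator_mem_commutator hg hb'
        haveI : Group.IsNilpotent P1 := hPG.isNilpotent
        have h2 := hlower (Group.nilpotencyClass P1)
        rw [Subgroup.lowerCentralSeries_eq_bot_of_nilpotencyClass_le le_rfl, bot_sup_eq] at h2
        exact hfixD D le_rfl fun d hd => Subgroup.mem_centralizer_iff.2 fun x hx => hEH d (h2 hd) x hx
    have hrc : ∀ d ∈ D, d * r = r * d := hlin r hrN (fun e he => hEc e he r hrP) hrD fun x hx d hd => by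
      have h1 : x * ⁅d, r⁆ * x⁻¹ = ⁅d, r⁆ := by rw [hEH _ (hrD d hd) x hx, mul_inv_cancel_right]
      calc ⁅x * d * x⁻¹, r⁆ = x * ⁅d, x⁻¹ * (r * x)⁆ * x⁻¹ := by simp only [commutatorElement_def]; group
        _ = x * ⁅d, r⁆ * x⁻¹ := by rw [← hrH x hx, inv_mul_cancel_left]
        _ = ⁅d, r⁆ := h1
    have hr1 : r ^ 2 ≠ 1 := fun h => hi h
    obtain ⟨d, hd, hd2⟩ := hDsq _ hi2 hr1
    have h1 : r * d⁻¹ ∈ E := by
      show (r * d⁻¹) ^ 2 = 1
      rw [(show Commute r d⁻¹ from (show Commute r d from (hrc d hd).symm).inv_right).mul_pow, inv_pow, hd2,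
        mul_inv_cancel]
    have hrmem : r ∈ D := by
      have := D.mul_mem (hED h1) hd
      rwa [inv_mul_cancel_right] at this
    exact hi (hDfix r hrmem hrH)
  -- the layer above `M`
  haveI hMn : M.Normal := pp'_normal
  have hPM : P1 ≤ M := pCore_le_pp'
  have hEM : ∀ e ∈ E, ∀ m ∈ M, m * e = e * m := by
    intro e he m hm
    obtain ⟨u, hu, x, hx, rfl⟩ := hdec m hm
    rw [mul_assoc, hEH e he x hx, ← mul_assoc, hEc e he u hu, mul_assoc]
  haveI : (pCore 2 (G ⧸ M)).Normal := pCore_normal 2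
  set L := (pCore 2 (G ⧸ M)).comap (QuotientGroup.mk' M) with hL
  haveI hLn : L.Normal := Subgroup.Normal.comap inferInstance _
  have hML : M ≤ L := fun m hm => by
    show QuotientGroup.mk m ∈ pCore 2 (G ⧸ M)
    rw [(QuotientGroup.eq_one_iff m).2 hm]; exact one_mem _
  have hML2 : ∃ a, M.relIndex L = 2 ^ (a + 1) := by
    obtain ⟨a, ha⟩ := IsPGroup.iff_card.1 (pCore_isPGroup (G := G ⧸ M) 2)
    have h1 := PLen.comap_relIndex_eq (N := M) ⊥ (pCore 2 (G ⧸ M))
    rw [MonoidHom.comap_bot, QuotientGroup.ker_mk', Subgroup.relIndex_bot_left, ha] at h1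
    rcases a with - | a
    swap
    · exact ⟨a, h1⟩
    exfalso
    have hbot2 : pCore 2 (G ⧸ M) = ⊥ := Subgroup.eq_bot_of_card_eq _ (by rw [ha, pow_zero])
    have hps' : IsPSolvable 2 (G ⧸ M) :=
      isPSolvable_map Nat.prime_two hps (QuotientGroup.mk' M) (QuotientGroup.mk'_surjective M)
    have hc := centralizer_pPrimeCore_le hps' hbot2
    -- the `2'`-core of `G ⧸ M` is trivial
    have hodd : pPrimeCore 2 (G ⧸ M) = ⊥ := by
      haveI := pPrimeCore_normal (G := G ⧸ M) 2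
      set R := (pPrimeCore 2 (G ⧸ M)).comap (QuotientGroup.mk' M) with hR
      haveI : R.Normal := Subgroup.Normal.comap inferInstance _
      haveI : (R.map (QuotientGroup.mk' P1)).Normal :=
        Subgroup.Normal.map inferInstance _ (QuotientGroup.mk'_surjective P1)
      have hRM : R ≤ M := by
        intro r hr
        refine (show R.map (QuotientGroup.mk' P1) ≤ pPrimeCore 2 (G ⧸ P1) from normal_le_pPrimeCore ?_)
          ⟨r, hr, rfl⟩
        have hPR : P1 ≤ R := hPM.trans fun m hm => by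
          show QuotientGroup.mk m ∈ pPrimeCore 2 (G ⧸ M)
          rw [(QuotientGroup.eq_one_iff m).2 hm]; exact one_mem _
        have h2 := card_map_mk'_mul_card_inf P1 R
        have hcM : Nat.card M = Nat.card (pPrimeCore 2 (G ⧸ P1)) * Nat.card P1 :=
          card_comap_mk' P1 (pPrimeCore 2 (G ⧸ P1))
        rw [inf_eq_left.2 hPR, hR, card_comap_mk', hcM, ← mul_assoc] at h2
        rw [Nat.eq_of_mul_eq_mul_right Nat.card_pos h2]
        exact (pPrimeCore_coprime 2).mul_left (pPrimeCore_coprime 2)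
      have h3 := Subgroup.map_mono (f := QuotientGroup.mk' M) hRM
      rw [hR, Subgroup.map_comap_eq_self_of_surjective (QuotientGroup.mk'_surjective M),
        QuotientGroup.map_mk'_self] at h3
      exact eq_bot_iff.2 h3
    rw [hodd] at hc
    apply hz12
    obtain ⟨g, hg⟩ := isConj_iff.1 (hconj z₁ z₂ hz₁1 hz₁ hz₂1 hz₂)
    have hgM : g ∈ M := (QuotientGroup.eq_one_iff g).1 (Subgroup.mem_bot.1 (hc
      (Subgroup.mem_centralizer_iff.2 fun y hy => by rw [show y = 1 from Subgroup.mem_bot.1 hy, one_mul, mul_one])))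
    rw [hEM z₁ hz₁ g hgM, mul_inv_cancel_right] at hg
    exact hg
  obtain ⟨a, ha⟩ := hML2
  -- `L` centralises `E`
  have hLE : ∀ e ∈ E, ∀ l ∈ L, l * e = e * l := by
    obtain ⟨S2⟩ : Nonempty (Sylow 2 L) := inferInstance
    have hS2ne : (S2 : Subgroup L) ≠ ⊥ := by
      intro h0
      have h1 := S2.not_dvd_index
      rw [h0, Subgroup.index_bot] at h1
      refine h1 ((dvd_trans (ha ▸ dvd_pow_self 2 (Nat.succ_ne_zero a)) ?_))
      exact Subgroup.relIndex_dvd_card M L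
    haveI : Nontrivial (S2 : Subgroup L) := (Subgroup.nontrivial_iff_ne_bot _).2 hS2ne
    haveI := S2.isPGroup'.center_nontrivial
    obtain ⟨k, hk⟩ := IsPGroup.iff_card.1 (S2.isPGroup'.to_subgroup (Subgroup.center (S2 : Subgroup L)))
    have hk0 : k ≠ 0 := by
      intro h; rw [h, pow_zero] at hk
      exact absurd hk (Finite.one_lt_card (α := Subgroup.center (S2 : Subgroup L))).ne'
    obtain ⟨z, hz⟩ := exists_prime_orderOf_dvd_card' (G := Subgroup.center (S2 : Subgroup L)) 2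
      (hk ▸ dvd_pow_self 2 hk0)
    rw [← Subgroup.orderOf_coe, ← Subgroup.orderOf_coe, ← Subgroup.orderOf_coe] at hz
    set z' : G := (((z : (S2 : Subgroup L)) : L) : G) with hz'
    obtain ⟨hz'1, hz'2⟩ := hordInv z' hz
    set C := Subgroup.centralizer ({z'} : Set G) with hC
    have hMC : M ≤ C := fun m hm => Subgroup.mem_centralizer_singleton_iff.2 (hEM z' hz'2 m hm)
    have hSC : (S2 : Subgroup L) ≤ C.subgroupOf L := fun x hx => Subgroup.mem_subgroupOf.2
      (Subgroup.mem_centralizer_singleton_iff.2 (congrArg (fun y : L => (y : G))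
        (congrArg Subtype.val (Subgroup.mem_center_iff.1 z.2 ⟨x, hx⟩))))
    have hLC : L ≤ C := by
      rw [← Subgroup.relIndex_eq_one]
      have h1 : C.relIndex L ∣ (S2 : Subgroup L).index := Subgroup.index_dvd_of_le hSC
      have h2 : C.relIndex L ∣ 2 ^ (a + 1) := ha ▸ Subgroup.relIndex_dvd_of_le_left L hMC
      exact Nat.eq_one_of_dvd_coprimes
        (((Nat.Prime.coprime_iff_not_dvd Nat.prime_two).2 S2.not_dvd_index).pow_left _) h2 h1
    intro e he l hl
    rcases eq_or_ne e 1 with rfl | he1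
    · simp
    obtain ⟨g, hg⟩ := isConj_iff.1 (hconj z' e hz'1 hz'2 he1 he)
    have h1 := Subgroup.mem_centralizer_singleton_iff.1 (hLC (hLn.conj_mem l hl g⁻¹))
    rw [inv_inv] at h1
    rw [← hg]
    calc l * (g * z' * g⁻¹) = g * ((g⁻¹ * l * g) * z') * g⁻¹ := by group
      _ = g * (z' * (g⁻¹ * l * g)) * g⁻¹ := by rw [h1]
      _ = g * z' * g⁻¹ * l := by group
  -- the 2-elements of `N ⊓ L`
  set X := L ⊓ N with hX
  have hXE : E ≤ X := le_inf ((hEP.trans hPM).trans hML) hEN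
  obtain ⟨T⟩ : Nonempty (Sylow 2 X) := inferInstance
  set T' : Subgroup G := (T : Subgroup X).map X.subtype with hT'
  have hTX : T' ≤ X := Subgroup.map_subtype_le _
  have hTG : IsPGroup 2 T' := T.isPGroup'.map _
  have hET : E ≤ T' := by
    intro e he
    have h1 : IsPGroup 2 (E.subgroupOf X) := (hPG.to_le hEP).comap_of_injective X.subtype X.subtype_injective
    haveI : (E.subgroupOf X).Normal := hEn.subgroupOf X
    exact ⟨⟨e, hXE he⟩, h1.le_sylow_of_normal T (Subgroup.mem_subgroupOf.2 he), rfl⟩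
  have hmemT : ∀ t ∈ T', t ∈ N ∧ ∀ e ∈ E, t * e = e * t := fun t ht =>
    ⟨(Subgroup.mem_inf.1 (hTX ht)).2, fun e he => hLE e he t (Subgroup.mem_inf.1 (hTX ht)).1⟩
  have hTne : ¬ T' ≤ E := by
    intro hle
    have hind : ¬ 2 ∣ (E.subgroupOf X).index := by
      have h2 : (T : Subgroup X) ≤ E.subgroupOf X := fun x hx => Subgroup.mem_subgroupOf.2 (hle ⟨x, hx, rfl⟩)
      exact fun h => T.not_dvd_index (h.trans (Subgroup.index_dvd_of_le h2))
    apply hind
    show 2 ∣ E.relIndex X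
    have h3 : P1.relIndex X = P1.relIndex L := by
      rw [← Subgroup.relIndex_sup_right]
      congr 1
      refine le_antisymm (sup_le inf_le_left (hPM.trans hML)) fun l hl => ?_
      obtain ⟨u, hu, n, hn, rfl⟩ := hnorm l
      have hnL : n ∈ L := by
        have := L.mul_mem (L.inv_mem (hML (hPM hu))) hl
        rwa [inv_mul_cancel_left] at this
      exact Subgroup.mul_mem _ (Subgroup.mem_sup_right hu) (Subgroup.mem_sup_left (Subgroup.mem_inf.2 ⟨hnL, hn⟩))
    have h4 : E = P1 ⊓ X := le_antisymm (le_inf hEP hXE) fun x hx =>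
      hQ x (Subgroup.mem_inf.1 hx).1 (Subgroup.mem_inf.1 (Subgroup.mem_inf.1 hx).2).2
    rw [h4, Subgroup.inf_relIndex_right, h3, ← Subgroup.relIndex_mul_relIndex P1 M L hPM hML, ha]
    exact Dvd.dvd.mul_left (dvd_pow_self 2 (Nat.succ_ne_zero a)) _
  -- operators on `D`
  haveI : Fintype D := Fintype.ofFinite _
  set E' : Subgroup D := E.subgroupOf D with hE'
  have hcardE' : Nat.card E' = Nat.card E := card_subgroupOf hED
  have hdata : AnisoQuad.Data E' := by
    refine ⟨fun x => ?_, fun x => Subgroup.mem_subgroupOf.2 (hsqE x x.2), fun e he x => Subtype.ext ?_,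
      fun x hx => Subgroup.mem_subgroupOf.2 (hcenE x hx), ?_, by rw [hcardE']; exact hbig⟩
    · rw [Subgroup.mem_subgroupOf, hEmem, ← Subgroup.coe_pow, OneMemClass.coe_eq_one]
    · exact hEc _ (Subgroup.mem_subgroupOf.1 he) _ (hDP x.2)
    · intro e he he1 e' he' he'1
      obtain ⟨n, hn, hne⟩ := htrN _ (Subgroup.mem_subgroupOf.1 he) (fun h => he1 (Subtype.ext h)) _
        (Subgroup.mem_subgroupOf.1 he') (fun h => he'1 (Subtype.ext h))
      set φ := Subgroup.normalizerMonoidHom D ⟨n, hND hn⟩ with hφ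
      have hφe : φ e = e' := Subtype.ext hne
      exact Nat.card_congr (φ.toEquiv.subtypeEquiv fun d => by
        show d ^ 2 = e ↔ (φ d) ^ 2 = e'
        rw [← map_pow, ← hφe, φ.injective.eq_iff])
  obtain ⟨φ, hφ⟩ : ∃ φ : N →* MulAut D, ∀ (n : N) (d : D), ((φ n d : D) : G) = n * d * (n : G)⁻¹ :=
    ⟨(Subgroup.normalizerMonoidHom D).comp (Subgroup.inclusion hND), fun n d => rfl⟩
  set Hs := (H.subgroupOf N).map φ with hHs
  have hHfix : ∀ g ∈ Hs, ∀ e ∈ E', g e = e := by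
    rintro _ ⟨x, hx, rfl⟩ e he
    refine Subtype.ext ?_
    rw [hφ, hEH _ (Subgroup.mem_subgroupOf.1 he) _ (Subgroup.mem_subgroupOf.1 hx), mul_inv_cancel_right]
  have hHodd : ∀ g ∈ Hs, Odd (orderOf g) := by
    rintro _ ⟨x, hx, rfl⟩
    have h1 : orderOf (φ x) ∣ Nat.card H := (orderOf_map_dvd φ x).trans (by
      rw [← Subgroup.orderOf_coe]; exact Subgroup.orderOf_dvd_natCard H hx)
    exact (Nat.coprime_two_right.1 hHc).of_dvd_nat h1
  have hHC : ∀ d : D, (∀ g ∈ Hs, g d = d) → d ∈ E' := by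
    intro d hd
    refine Subgroup.mem_subgroupOf.2 (hDfix d d.2 fun x hx => ?_)
    have h1 := congrArg (fun y : D => (y : G)) (hd _ ⟨⟨x, hHN hx⟩, Subgroup.mem_subgroupOf.2 hx, rfl⟩)
    simp only [hφ] at h1
    exact mul_inv_eq_iff_eq_mul.1 h1
  have hnormHs : ∀ n : N, ∀ g ∈ Hs, φ n * g * (φ n)⁻¹ ∈ Hs := by
    rintro n _ ⟨x, hx, rfl⟩
    exact ⟨n * x * n⁻¹, Subgroup.mem_subgroupOf.2
      ((Subgroup.mem_normalizer_iff.1 n.2 _).1 (Subgroup.mem_subgroupOf.1 hx)), by simp⟩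
  have hfixT : ∀ (t : N), (t : G) ∈ T' → ∀ e ∈ E', φ t e = e := fun t ht e he => Subtype.ext (by
    rw [hφ, (hmemT t ht).2 _ (Subgroup.mem_subgroupOf.1 he), mul_inv_cancel_right])
  have hnearE : ∀ (n : N), (n : G) ∈ E → AnisoQuad.Data.Near E' (φ n) := fun n hn d => by
    have : φ n d = d := Subtype.ext (by rw [hφ, ← hEc _ hn _ (hDP d.2), mul_inv_cancel_right])
    rw [this, inv_mul_cancel]; exact E'.one_mem
  -- elements outside `E` with square inside act nontrivially modulo `E`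
  have hnn : ∀ (t : N), (t : G) ∈ T' → (t : G) ∉ E → (t : G) ^ 2 ∈ E → ¬ AnisoQuad.Data.Near E' (φ t) := by
    intro t ht htE ht2 hnear
    obtain ⟨htN, htc⟩ := hmemT t ht
    have hcomH : ∀ g ∈ Hs, φ t * g * (φ t)⁻¹ = g := by
      intro g hg
      have hmem : φ t * g * (φ t)⁻¹ * g⁻¹ ∈ Hs := Hs.mul_mem (hnormHs t g hg) (Hs.inv_mem hg)
      refine mul_inv_eq_one.1 (MulEquiv.ext fun d => ?_)
      refine AnisoQuad.Data.exact_of_mod (hHfix _ hmem) (hHodd _ hmem) (fun e he => hdata.sq_e he) ?_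
      set w := (φ t)⁻¹ (g⁻¹ d) with hw
      have hz : (φ t * g * (φ t)⁻¹ * g⁻¹) d = φ t (g w) := by simp [MulAut.mul_apply, hw]
      have h1 : w⁻¹ * g⁻¹ d ∈ E' := by
        have h3 := hnear w
        rwa [show φ t w = g⁻¹ d by rw [hw, MulAut.apply_inv_self]] at h3
      have h4 : (g w)⁻¹ * d ∈ E' := by
        have h5 : g (w⁻¹ * g⁻¹ d) = (g w)⁻¹ * d := by rw [map_mul, map_inv, MulAut.apply_inv_self]
        rw [← h5, hHfix g hg _ h1]; exact h1
      rw [hz]
      have h6 : d⁻¹ * φ t (g w) = ((g w)⁻¹ * d)⁻¹ * ((g w)⁻¹ * φ t (g w)) := by group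
      rw [h6]
      exact E'.mul_mem (E'.inv_mem h4) (hnear _)
    have htD : ∀ d ∈ D, ⁅d, (t : G)⁆ ∈ E := by
      intro d hd
      have h1 : ⁅d, (t : G)⁆ = (d * (t : G) * d⁻¹ * (t : G)⁻¹) := commutatorElement_def _ _
      have h2 : d⁻¹⁻¹ * ((φ t ⟨d⁻¹, D.inv_mem hd⟩ : D) : G) ∈ E :=
        Subgroup.mem_subgroupOf.1 (hnear ⟨d⁻¹, D.inv_mem hd⟩)
      rw [hφ, inv_inv] at h2
      rw [h1]
      simpa [mul_assoc] using h2
    have hc : ∀ d ∈ D, d * (t : G) = (t : G) * d := hlin t htN htc htD fun x hx d hd => by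
      have h1 := hcomH (φ ⟨x, hHN hx⟩) ⟨_, Subgroup.mem_subgroupOf.2 hx, rfl⟩
      have h2 : φ t * φ ⟨x, hHN hx⟩ = φ ⟨x, hHN hx⟩ * φ t := mul_inv_eq_iff_eq_mul.1 h1
      have h3 : (t : G) * (x * d⁻¹ * x⁻¹) * (t : G)⁻¹ = x * ((t : G) * d⁻¹ * (t : G)⁻¹) * x⁻¹ := by
        have h4 := congrArg Subtype.val (DFunLike.congr_fun h2 ⟨d⁻¹, D.inv_mem hd⟩)
        simpa [MulAut.mul_apply, hφ] using h4
      calc ⁅x * d * x⁻¹, (t : G)⁆ = x * d * x⁻¹ * ((t : G) * (x * d⁻¹ * x⁻¹) * (t : G)⁻¹) := by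
            simp only [commutatorElement_def]; group
        _ = x * ⁅d, (t : G)⁆ * x⁻¹ := by rw [h3]; simp only [commutatorElement_def]; group
        _ = ⁅d, (t : G)⁆ := by rw [hEH _ (htD d hd) x hx, mul_inv_cancel_right]
    obtain ⟨d, hd, hd2⟩ := hDsq _ ht2 (fun h => htE h)
    have h1 : (t : G) * d⁻¹ ∈ E := by
      show ((t : G) * d⁻¹) ^ 2 = 1
      rw [(show Commute (t : G) d⁻¹ from (show Commute (t : G) d from (hc d hd).symm).inv_right).mul_pow, inv_pow,
        hd2, mul_inv_cancel]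
    refine htE (hQ _ (hDP ?_) htN)
    have := D.mul_mem (hED h1) hd
    rwa [inv_mul_cancel_right] at this
  -- a central element modulo `E`
  set E2 := E.subgroupOf T' with hE2
  haveI : E2.Normal := hEn.subgroupOf T'
  have hne2 : (⊤ : Subgroup (T' ⧸ E2)) ≠ ⊥ := by
    intro h0
    refine hTne fun t ht => ?_
    have h1 : ((⟨t, ht⟩ : T') : T' ⧸ E2) ∈ (⊥ : Subgroup (T' ⧸ E2)) := h0 ▸ Subgroup.mem_top _
    exact Subgroup.mem_subgroupOf.1 ((QuotientGroup.eq_one_iff _).1 (Subgroup.mem_bot.1 h1))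
  obtain ⟨zq, -, hzc, hzo⟩ := exists_central_order (hTG.to_quotient E2) ⊤ hne2
  obtain ⟨⟨z, hzT⟩, rfl⟩ := QuotientGroup.mk_surjective zq
  have hzE : z ∉ E := fun h => by
    rw [(QuotientGroup.eq_one_iff _).2 (Subgroup.mem_subgroupOf.2 (show ((⟨z, hzT⟩ : T') : G) ∈ E from h)),
      orderOf_one] at hzo
    omega
  have hz2 : z ^ 2 ∈ E := by
    have h1 := pow_orderOf_eq_one ((⟨z, hzT⟩ : T') : T' ⧸ E2)
    rw [hzo, ← QuotientGroup.mk_pow, QuotientGroup.eq_one_iff] at h1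
    exact Subgroup.mem_subgroupOf.1 h1
  have hzcomm : ∀ t ∈ T', (z * t)⁻¹ * (t * z) ∈ E := by
    intro t ht
    have h1 := Subgroup.mem_center_iff.1 hzc ((⟨t, ht⟩ : T') : T' ⧸ E2)
    rw [← QuotientGroup.mk_mul, ← QuotientGroup.mk_mul] at h1
    exact Subgroup.mem_subgroupOf.1 (QuotientGroup.eq.1 h1.symm)
  -- another square class
  obtain ⟨e₂, he₂, he₂1, he₂z⟩ : ∃ e ∈ E, e ≠ 1 ∧ e ≠ z ^ 2 := by
    rcases eq_or_ne (z ^ 2) z₁ with h | h
    · exact ⟨z₂, hz₂, hz₂1, fun h' => hz12 (h ▸ h'.symm)⟩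
    · exact ⟨z₁, hz₁, hz₁1, fun h' => h h'.symm⟩
  obtain ⟨s, hs, hsE, hs2⟩ : ∃ s ∈ T', s ∉ E ∧ s ^ 2 = e₂ := by
    obtain ⟨n, hn, hne⟩ := htrN _ hz2 (fun h => hzE h) e₂ he₂ he₂1
    have hwX : n * z * n⁻¹ ∈ X := Subgroup.mem_inf.2 ⟨hLn.conj_mem z (Subgroup.mem_inf.1 (hTX hzT)).1 n,
      N.mul_mem (N.mul_mem hn (hmemT z hzT).1) (N.inv_mem hn)⟩
    obtain ⟨k, hk⟩ := hTG ⟨z, hzT⟩
    have hwp : IsPGroup 2 (Subgroup.zpowers (⟨_, hwX⟩ : X)) := by
      have hw : (⟨_, hwX⟩ : X) ^ 2 ^ k = 1 := Subtype.ext (by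
        show (n * z * n⁻¹) ^ 2 ^ k = 1
        rw [conj_pow, show z ^ 2 ^ k = 1 from congrArg Subtype.val hk, mul_one, mul_inv_cancel])
      obtain ⟨i, -, hi⟩ := (Nat.dvd_prime_pow Nat.prime_two).1 (orderOf_dvd_of_pow_eq_one hw)
      exact IsPGroup.of_card (n := i) (by rw [Nat.card_zpowers, hi])
    obtain ⟨Q, hQ'⟩ := hwp.exists_le_sylow
    obtain ⟨x, hx⟩ := MulAction.exists_smul_eq X Q T
    have hmem : x * ⟨_, hwX⟩ * x⁻¹ ∈ (T : Subgroup X) := by
      rw [← hx, Sylow.coe_subgroup_smul]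
      show _ ∈ MulAut.conj x • (Q : Subgroup X)
      rw [mem_conj_smul]
      have : x⁻¹ * (x * ⟨_, hwX⟩ * x⁻¹) * x = (⟨_, hwX⟩ : X) := by group
      rw [this]
      exact hQ' (Subgroup.mem_zpowers _)
    refine ⟨(x : G) * (n * z * n⁻¹) * (x : G)⁻¹, ⟨_, hmem, rfl⟩, fun h => hzE ?_, ?_⟩
    · have h1 := hEn.conj_mem _ h (x : G)⁻¹
      have h2 := hEn.conj_mem _ h1 n⁻¹
      simpa [mul_assoc] using h2
    · rw [conj_pow, conj_pow, hne, hLE e₂ he₂ x (Subgroup.mem_inf.1 x.2).1, mul_inv_cancel_right]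
  have hzsc : (z * s)⁻¹ * (s * z) ∈ E := hzcomm s hs
  have hzs2 : (z * s) ^ 2 ∈ E := by
    have h1 : (z * s) ^ 2 = z * ((z * s) * ((z * s)⁻¹ * (s * z))) * s := by
      rw [mul_inv_cancel_left, pow_two]; group
    rw [h1]
    have hcz := (hmemT z hzT).2
    have hcs := (hmemT s hs).2
    have h2 : z * (z * s * ((z * s)⁻¹ * (s * z))) * s = z ^ 2 * (s ^ 2 * ((z * s)⁻¹ * (s * z))) := by
      calc z * (z * s * ((z * s)⁻¹ * (s * z))) * s = z * (z * s) * (((z * s)⁻¹ * (s * z)) * s) := by group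
        _ = z * (z * s) * (s * ((z * s)⁻¹ * (s * z))) := by rw [hcs _ hzsc]
        _ = _ := by rw [pow_two, pow_two]; group
    rw [h2]
    exact E.mul_mem hz2 (E.mul_mem (hs2 ▸ he₂) hzsc)
  have hzsE : z * s ∉ E := by
    intro h
    apply he₂z
    have hc : s * (z * s) = (z * s) * s := (hmemT s hs).2 _ h
    have hcom : Commute s z := (mul_right_cancel (b := s) (by rw [mul_assoc]; exact hc) : s * z = z * s)
    have h1 : z ^ 2 * s ^ 2 = 1 := by rw [← hcom.symm.mul_pow]; exact h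
    rw [hs2] at h1
    rw [eq_inv_of_mul_eq_one_right h1]
    exact inv_eq_of_mul_eq_one_right (by rw [← pow_two]; exact hz2)
  set tz : N := ⟨z, (hmemT z hzT).1⟩ with htz
  set ts : N := ⟨s, (hmemT s hs).1⟩ with hts
  refine hdata.no_four Hs hHfix hHodd hHC (t := φ tz) (s := φ ts) (hfixT tz hzT) (hfixT ts hs) (hnormHs tz)
    (hnormHs ts) ?_ ?_ ?_ (hnn tz hzT hzE hz2) (hnn ts hs hsE (by show s ^ 2 ∈ E; rw [hs2]; exact he₂)) ?_
  · rw [← map_mul]; exact hnearE _ (by show z * z ∈ E; rw [← pow_two]; exact hz2)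
  · rw [← map_mul]; exact hnearE _ (by show s * s ∈ E; rw [← pow_two, hs2]; exact he₂)
  · intro d
    rw [← MulAut.mul_apply, ← MulAut.mul_apply, ← map_mul, ← map_mul]
    have h0 : ts * tz = tz * ts * ((tz * ts)⁻¹ * (ts * tz)) := by group
    rw [h0, map_mul φ (tz * ts), MulAut.mul_apply]
    have h1 := hnearE ((tz * ts)⁻¹ * (ts * tz)) (by simpa [htz, hts] using hzsc) d
    set y := φ ((tz * ts)⁻¹ * (ts * tz)) d with hy
    rw [← map_inv, ← map_mul]
    rw [map_mul φ tz ts, MulAut.mul_apply, hfixT ts hs _ h1, hfixT tz hzT _ h1]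
    exact h1
  · rw [← map_mul]
    exact hnn (tz * ts) (T'.mul_mem hzT hs) hzsE hzs2

end Cfsg.Agent.Solv.InvClass
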