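import Mathlib

/-!
# Jennings' theorem for restricted series

For a descending series `E` of a finite `p`-group with `[E i, E j] ≤ E (i+j)` and `(E i)^p ≤ E (p i)`,
an element `g` with `g - 1` of weight at least `m` in the group algebra over `ZMod p` lies in `E m`.
-/

set_option autoImplicit false
set_option linter.style.haveILetI false
set_option linter.unusedSectionVars false

open scoped commutatorElement

namespace Cfsg.Agent.Solv.Jennings

variable {p : ℕ} [hp : Fact p.Prime] {G : Type*} [Group G]

/-- A series compatible with commutators and `p`-th powers. -/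
structure Series (p : ℕ) (G : Type*) [Group G] where
  E : ℕ → Subgroup G
  top : E 1 = ⊤
  anti : Antitone E
  comm : ∀ {i j : ℕ} {a b : G}, a ∈ E i → b ∈ E j → ⁅a, b⁆ ∈ E (i + j)
  pow : ∀ {i : ℕ} {a : G}, a ∈ E i → a ^ p ∈ E (p * i)
  bot : ∃ N, E N = ⊥

variable (S : Series p G)

/-- The group element in the algebra. -/
noncomputable def el (p : ℕ) {G : Type*} [Group G] (g : G) : MonoidAlgebra (ZMod p) G :=
  MonoidAlgebra.of (ZMod p) G g

/-- `g - 1`. -/
noncomputable def dl (p : ℕ) {G : Type*} [Group G] (g : G) : MonoidAlgebra (ZMod p) G := el p g - 1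

theorem el_mul (g h : G) : el p (g * h) = el p g * el p h := map_mul _ g h

theorem el_one : el p (1 : G) = 1 := map_one _

theorem el_pow (g : G) (n : ℕ) : el p (g ^ n) = el p g ^ n := map_pow _ g n

theorem el_eq (g : G) : el p g = dl p g + 1 := (sub_add_cancel _ _).symm

theorem dl_one : dl p (1 : G) = 0 := by rw [dl, el_one, sub_self]

theorem dl_mul (g h : G) : dl p (g * h) = dl p g + el p g * dl p h := by
  simp only [dl, el_mul]; noncomm_ring

instance charP_algebra : CharP (MonoidAlgebra (ZMod p) G) p :=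
  charP_of_injective_algebraMap (algebraMap (ZMod p) (MonoidAlgebra (ZMod p) G)).injective p

theorem dl_pow_prime (g : G) : dl p g ^ p = dl p (g ^ p) := by
  haveI : ExpChar (MonoidAlgebra (ZMod p) G) p := ExpChar.prime hp.out
  rw [dl, sub_pow_char_of_commute _ (Commute.one_right _), one_pow, ← el_pow, dl]

/-- Words of prescribed weight in `g - 1` for `g ∈ H`. -/
inductive Word (H : Subgroup G) : ℕ → MonoidAlgebra (ZMod p) G → Prop
  | one : Word H 0 1
  | mul {m w : ℕ} {r : MonoidAlgebra (ZMod p) G} {g : G} :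
      Word H m r → g ∈ H → g ∈ S.E w → Word H (m + w) (r * dl p g)

/-- The weight filtration. -/
noncomputable def V (H : Subgroup G) (m : ℕ) : Submodule (ZMod p) (MonoidAlgebra (ZMod p) G) :=
  Submodule.span (ZMod p) {r | ∃ m', m ≤ m' ∧ Word S H m' r}

variable {S} {H : Subgroup G}

theorem word_mem_V {m : ℕ} {r : MonoidAlgebra (ZMod p) G} (h : Word S H m r) : r ∈ V S H m :=
  Submodule.subset_span ⟨m, le_rfl, h⟩

theorem V_anti {a b : ℕ} (h : a ≤ b) : V S H b ≤ V S H a :=
  Submodule.span_mono fun _ ⟨m, hm, hw⟩ => ⟨m, h.trans hm, hw⟩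

theorem one_mem_V : (1 : MonoidAlgebra (ZMod p) G) ∈ V S H 0 := word_mem_V Word.one

theorem dl_mem {g : G} {w : ℕ} (hg : g ∈ H) (hw : g ∈ S.E w) : dl p g ∈ V S H w := by
  simpa using word_mem_V (Word.mul Word.one hg hw)

theorem mem_E_one (g : G) : g ∈ S.E 1 := by simp [S.top]

theorem mem_E_zero (g : G) : g ∈ S.E 0 := S.anti (Nat.zero_le 1) (mem_E_one g)

theorem dl_mem_one {g : G} (hg : g ∈ H) : dl p g ∈ V S H 1 := dl_mem hg (mem_E_one g)

theorem el_mem {g : G} (hg : g ∈ H) : el p g ∈ V S H 0 := by
  rw [el_eq]; exact add_mem (V_anti (Nat.zero_le 1) (dl_mem_one hg)) one_mem_V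

theorem word_mul {a b : ℕ} {r s : MonoidAlgebra (ZMod p) G} (hr : Word S H a r) (hs : Word S H b s) :
    Word S H (a + b) (r * s) := by
  induction hs with
  | one => simpa using hr
  | @mul m w r' g _ hg hw ih => rw [← mul_assoc, ← add_assoc]; exact Word.mul ih hg hw

theorem mul_mem_V {a b : ℕ} {r s : MonoidAlgebra (ZMod p) G} (hr : r ∈ V S H a) (hs : s ∈ V S H b) :
    r * s ∈ V S H (a + b) := by
  induction hr using Submodule.span_induction with
  | mem x hx =>
    induction hs using Submodule.span_induction with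
    | mem y hy =>
      obtain ⟨a', ha, hx⟩ := hx
      obtain ⟨b', hb, hy⟩ := hy
      exact V_anti (Nat.add_le_add ha hb) (word_mem_V (word_mul hx hy))
    | zero => simp
    | add y z _ _ hy hz => rw [mul_add]; exact add_mem hy hz
    | smul c y _ hy => rw [mul_smul_comm]; exact Submodule.smul_mem _ c hy
  | zero => simp
  | add x y _ _ hx hy => rw [add_mul]; exact add_mem hx hy
  | smul c x _ hx => rw [smul_mul_assoc]; exact Submodule.smul_mem _ c hx

/-- A word of positive weight is a combination of `h - 1`, `h ∈ H`. -/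
theorem V_le_aug {m : ℕ} (hm : 1 ≤ m) :
    V S H m ≤ Submodule.span (ZMod p) {r | ∃ h ∈ H, r = dl p h} := by
  have key : ∀ {m : ℕ} {r : MonoidAlgebra (ZMod p) G}, Word S H m r →
      (m = 0 ∧ r = 1) ∨ r ∈ Submodule.span (ZMod p) {r | ∃ h ∈ H, r = dl p h} := by
    intro m r hr
    induction hr with
    | one => exact Or.inl ⟨rfl, rfl⟩
    | @mul m w r' g hwd hg hw ih =>
      clear hwd
      right
      rcases ih with ⟨-, rfl⟩ | ih
      · rw [one_mul]; exact Submodule.subset_span ⟨g, hg, rfl⟩
      · induction ih using Submodule.span_induction with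
        | mem x hx =>
          obtain ⟨h, hh, rfl⟩ := hx
          rw [show dl p h * dl p g = dl p (h * g) - dl p h - dl p g by
            simp only [dl, el_mul]; noncomm_ring]
          exact sub_mem (sub_mem (Submodule.subset_span ⟨_, mul_mem hh hg, rfl⟩)
            (Submodule.subset_span ⟨h, hh, rfl⟩)) (Submodule.subset_span ⟨g, hg, rfl⟩)
        | zero => simp
        | add x y _ _ hx hy => rw [add_mul]; exact add_mem hx hy
        | smul c x _ hx => rw [smul_mul_assoc]; exact Submodule.smul_mem _ c hx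
  refine Submodule.span_le.2 ?_
  rintro r ⟨m', hm', hr⟩
  exact (key hr).resolve_left fun h => by omega

theorem swap {H' : Subgroup G} {b : G} {w : ℕ} (hb : b ∈ S.E w)
    (hnorm : ∀ u ∈ H', b⁻¹ * u * b ∈ H') {a : ℕ} {r : MonoidAlgebra (ZMod p) G}
    (hr : r ∈ V S H' a) : ∃ r₁ ∈ V S H' a, ∃ r₂ ∈ V S H' (a + w), r * dl p b = dl p b * r₁ + r₂ := by
  have key : ∀ {m : ℕ} {r : MonoidAlgebra (ZMod p) G}, Word S H' m r →
      ∃ r₁ ∈ V S H' m, ∃ r₂ ∈ V S H' (m + w), r * dl p b = dl p b * r₁ + r₂ := by
    intro m r hr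
    induction hr with
    | one => exact ⟨1, one_mem_V, 0, zero_mem _, by simp⟩
    | @mul m v r' u hw' hu hv ih =>
      obtain ⟨r₁, h1, r₂, h2, he⟩ := ih
      set u' := b⁻¹ * u * b with hu'
      have hu'H : u' ∈ H' := hnorm u hu
      set c := u⁻¹ * u' with hc
      have hcE : c ∈ S.E (v + w) := by
        have h := S.comm (inv_mem hv) (inv_mem hb)
        rwa [show ⁅u⁻¹, b⁻¹⁆ = c by rw [hc, hu', commutatorElement_def]; group] at h
      have hu'E : u' ∈ S.E v := by
        rw [show u' = u * c by rw [hc]; group]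
        exact mul_mem hv (S.anti (Nat.le_add_right v w) hcE)
      refine ⟨r₁ * dl p u', mul_mem_V h1 (dl_mem hu'H hu'E),
        r₂ * dl p u' + r' * (el p u * dl p c),
        add_mem (V_anti (by omega) (mul_mem_V h2 (dl_mem hu'H hu'E))) ?_, ?_⟩
      · refine V_anti (by omega) (mul_mem_V (word_mem_V hw') (mul_mem_V (el_mem hu)
          (dl_mem (mul_mem (inv_mem hu) hu'H) hcE)))
      · have e1 : dl p u * dl p b = dl p b * dl p u' + el p u * dl p c := by
          have e2 : el p b * el p u' = el p u * el p b := by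
            rw [← el_mul, ← el_mul, show b * u' = u * b by rw [hu']; group]
          have e3 : el p u * el p c = el p u' := by
            rw [← el_mul, show u * c = u' by rw [hc]; group]
          simp only [dl]
          rw [show (el p u - 1) * (el p b - 1) = el p u * el p b - el p u - el p b + 1 by noncomm_ring,
            show (el p b - 1) * (el p u' - 1) + el p u * (el p c - 1) =
              el p b * el p u' - el p b - el p u' + 1 + el p u * el p c - el p u by noncomm_ring, e2, e3]
          abel
        rw [mul_assoc r', e1, mul_add, ← mul_assoc r', he]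
        noncomm_ring
  induction hr using Submodule.span_induction with
  | mem x hx =>
    obtain ⟨m', hm, hx⟩ := hx
    obtain ⟨r₁, h1, r₂, h2, he⟩ := key hx
    exact ⟨r₁, V_anti hm h1, r₂, V_anti (by omega) h2, he⟩
  | zero => exact ⟨0, zero_mem _, 0, zero_mem _, by simp⟩
  | add x y _ _ hx hy =>
    obtain ⟨x₁, hx1, x₂, hx2, hex⟩ := hx
    obtain ⟨y₁, hy1, y₂, hy2, hey⟩ := hy
    exact ⟨x₁ + y₁, add_mem hx1 hy1, x₂ + y₂, add_mem hx2 hy2, by rw [add_mul, hex, hey]; noncomm_ring⟩
  | smul c x _ hx =>
    obtain ⟨x₁, hx1, x₂, hx2, hex⟩ := hx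
    exact ⟨c • x₁, Submodule.smul_mem _ c hx1, c • x₂, Submodule.smul_mem _ c hx2,
      by rw [smul_mul_assoc, hex, smul_add, mul_smul_comm]⟩

/-- The straightened filtration along `H' ⊂ H = ⟨b⟩H'`. -/
noncomputable def T (S : Series p G) (H' : Subgroup G) (b : G) (w m : ℕ) :
    Submodule (ZMod p) (MonoidAlgebra (ZMod p) G) :=
  Submodule.span (ZMod p) {x | ∃ e < p, ∃ r ∈ V S H' (m - e * w), x = dl p b ^ e * r}

theorem T_anti {H' : Subgroup G} {b : G} {w a c : ℕ} (h : a ≤ c) : T S H' b w c ≤ T S H' b w a :=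
  Submodule.span_mono fun _ ⟨e, he, r, hr, hx⟩ => ⟨e, he, r, V_anti (by omega) hr, hx⟩

theorem V_le_T {H' : Subgroup G} {b : G} {w : ℕ} (hb : b ∈ S.E w)
    (hnorm : ∀ u ∈ H', b⁻¹ * u * b ∈ H') (hbp : b ^ p ∈ H')
    (hcov : ∀ g ∈ H, ∃ e < p, (b ^ e)⁻¹ * g ∈ H')
    (hhigh : ∀ g ∈ H, g ∈ S.E (w + 1) → g ∈ H')
    (huniq : ∀ e < p, b ^ e ∈ H' → e = 0) (m : ℕ) : V S H m ≤ T S H' b w m := by
  have hR : ∀ {m a : ℕ} {x : MonoidAlgebra (ZMod p) G} {h : G}, x ∈ T S H' b w m → h ∈ H' →
      h ∈ S.E a → x * dl p h ∈ T S H' b w (m + a) := by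
    intro m a x h hx hh ha
    induction hx using Submodule.span_induction with
    | mem x hx =>
      obtain ⟨e, he, r, hr, rfl⟩ := hx
      exact Submodule.subset_span ⟨e, he, r * dl p h,
        V_anti (by omega) (mul_mem_V hr (dl_mem hh ha)), mul_assoc _ _ _⟩
    | zero => simp
    | add x y _ _ hx hy => rw [add_mul]; exact add_mem hx hy
    | smul c x _ hx => rw [smul_mul_assoc]; exact Submodule.smul_mem _ c hx
  have hB : ∀ {m : ℕ} {x : MonoidAlgebra (ZMod p) G}, x ∈ T S H' b w m →
      x * dl p b ∈ T S H' b w (m + w) := by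
    intro m x hx
    induction hx using Submodule.span_induction with
    | mem x hx =>
      obtain ⟨e, he, r, hr, rfl⟩ := hx
      obtain ⟨r₁, h1, r₂, h2, heq⟩ := swap hb hnorm hr
      rw [mul_assoc, heq, mul_add, ← mul_assoc, ← pow_succ]
      refine add_mem ?_ (Submodule.subset_span ⟨e, he, r₂, V_anti (by omega) h2, rfl⟩)
      rcases eq_or_lt_of_le (Nat.succ_le_of_lt he) with hep | hep
      · rw [show e + 1 = p from hep, dl_pow_prime]
        refine Submodule.subset_span ⟨0, hp.out.pos, dl p (b ^ p) * r₁, ?_, by simp⟩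
        refine V_anti ?_ (mul_mem_V (dl_mem hbp (S.pow hb)) h1)
        have : p * w = (e + 1) * w := by rw [show e + 1 = p from hep]
        rw [this, Nat.add_mul, Nat.one_mul]; omega
      · refine Submodule.subset_span ⟨e + 1, hep, r₁, V_anti ?_ h1, rfl⟩
        rw [Nat.add_mul, Nat.one_mul]; omega
    | zero => simp
    | add x y _ _ hx hy => rw [add_mul]; exact add_mem hx hy
    | smul c x _ hx => rw [smul_mul_assoc]; exact Submodule.smul_mem _ c hx
  have hBe : ∀ (e : ℕ) {m : ℕ} {x : MonoidAlgebra (ZMod p) G}, x ∈ T S H' b w m →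
      x * el p (b ^ e) ∈ T S H' b w m := by
    intro e
    induction e with
    | zero => intro m x hx; simpa [el_one] using hx
    | succ e ih =>
      intro m x hx
      rw [pow_succ, el_mul, ← mul_assoc, el_eq b, mul_add, mul_one]
      exact add_mem (T_anti (Nat.le_add_right m w) (hB (ih hx))) (ih hx)
  have hBd : ∀ (e : ℕ) {m : ℕ} {x : MonoidAlgebra (ZMod p) G}, x ∈ T S H' b w m →
      x * dl p (b ^ e) ∈ T S H' b w (m + w) := by
    intro e
    induction e with
    | zero => intro m x _; simp [dl_one]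
    | succ e ih =>
      intro m x hx
      rw [pow_succ, dl_mul, mul_add, ← mul_assoc]
      exact add_mem (ih hx) (hB (hBe e hx))
  have key : ∀ {m : ℕ} {r : MonoidAlgebra (ZMod p) G}, Word S H m r → r ∈ T S H' b w m := by
    intro m r hr
    induction hr with
    | one => exact Submodule.subset_span ⟨0, hp.out.pos, 1, V_anti (by omega) one_mem_V, by simp⟩
    | @mul m a r' g _ hg ha ih =>
      obtain ⟨e, he, hh⟩ := hcov g hg
      rcases le_or_gt a w with haw | haw
      · have hhE : (b ^ e)⁻¹ * g ∈ S.E a :=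
          mul_mem (inv_mem (pow_mem (S.anti haw hb) e)) ha
        rw [show g = b ^ e * ((b ^ e)⁻¹ * g) by group, dl_mul, mul_add, ← mul_assoc r']
        exact add_mem (T_anti (by omega) (hBd e ih)) (hR (hBe e ih) hh hhE)
      · have hgH : g ∈ H' := hhigh g hg (S.anti haw ha)
        exact hR ih hgH ha
  refine Submodule.span_le.2 ?_
  rintro r ⟨m', hm', hr⟩
  exact T_anti hm' (key hr)

/-- The inductive step. -/
theorem step {H' : Subgroup G} {b : G} {w : ℕ} (hb : b ∈ S.E w)
    (hnorm : ∀ u ∈ H', b⁻¹ * u * b ∈ H') (hbp : b ^ p ∈ H')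
    (hcov : ∀ g ∈ H, ∃ e < p, (b ^ e)⁻¹ * g ∈ H')
    (hhigh : ∀ g ∈ H, g ∈ S.E (w + 1) → g ∈ H')
    (huniq : ∀ e < p, b ^ e ∈ H' → e = 0) (hHE : ∀ g ∈ H, g ∈ S.E w)
    (ih : ∀ m g, g ∈ H' → dl p g ∈ V S H' m → g ∈ S.E m) :
    ∀ m g, g ∈ H → dl p g ∈ V S H m → g ∈ S.E m := by
  intro m g hg hV
  rcases le_or_gt m w with hmw | hmw
  · exact S.anti hmw (hHE g hg)
  classical
  have hdec : ∀ {e e' : ℕ}, e < p → e' < p → ∀ {h h' : G}, h ∈ H' → h' ∈ H' →
      b ^ e * h = b ^ e' * h' → e = e' ∧ h = h' := by
    have hle : ∀ {e e' : ℕ}, e ≤ e' → e' < p → ∀ {h h' : G}, h ∈ H' → h' ∈ H' →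
        b ^ e * h = b ^ e' * h' → e = e' ∧ h = h' := by
      intro e e' hee he' h h' hh hh' heq
      obtain ⟨d, rfl⟩ := Nat.exists_eq_add_of_le hee
      rw [pow_add, mul_assoc, mul_right_inj] at heq
      have hd : b ^ d ∈ H' := by
        rw [show b ^ d = h * h'⁻¹ by rw [heq]; group]; exact mul_mem hh (inv_mem hh')
      obtain rfl := huniq d (by omega) hd
      exact ⟨rfl, by simpa using heq⟩
    intro e e' he he' h h' hh hh' heq
    rcases le_total e e' with h1 | h1
    · exact hle h1 he' hh hh' heq
    · obtain ⟨a, b⟩ := hle h1 he hh' hh heq.symm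
      exact ⟨a.symm, b.symm⟩
  let ex : G → Prop := fun x => ∃ q : ℕ × G, q.1 < p ∧ q.2 ∈ H' ∧ x = b ^ q.1 * q.2
  let dc : G → ℕ × G := fun x => if h : ex x then h.choose else (0, x)
  have hdc : ∀ {e : ℕ}, e < p → ∀ {h : G}, h ∈ H' → dc (b ^ e * h) = (e, h) := by
    intro e he h hh
    have hx : ex (b ^ e * h) := ⟨(e, h), he, hh, rfl⟩
    simp only [dc, dif_pos hx]
    obtain ⟨a, c, d⟩ := hx.choose_spec
    obtain ⟨u, v⟩ := hdec he a hh c d
    exact Prod.ext u.symm v.symm
  let π := (MonoidAlgebra.basis G (ZMod p)).constr (ZMod p) (fun x => el p (dc x).2)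
  let lam := (MonoidAlgebra.basis G (ZMod p)).constr (ZMod p) (fun x => ((dc x).1 : ZMod p))
  have hπ : ∀ x, π (el p x) = el p (dc x).2 := fun x => by
    have : el p x = MonoidAlgebra.basis G (ZMod p) x := by simp [el]
    simp only [π, this, Module.Basis.constr_basis]
  have hlam : ∀ x, lam (el p x) = ((dc x).1 : ZMod p) := fun x => by
    have : el p x = MonoidAlgebra.basis G (ZMod p) x := by simp [el]
    simp only [lam, this, Module.Basis.constr_basis]
  have hcalc : ∀ (e t : ℕ), t + e < p → ∀ h ∈ H',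
      π (el p (b ^ t) * dl p b ^ e * el p h) = (if e = 0 then el p h else 0) ∧
      lam (el p (b ^ t) * dl p b ^ e * el p h) =
        (if e = 0 then (t : ZMod p) else if e = 1 then 1 else 0) := by
    intro e
    induction e with
    | zero =>
      intro t ht h hh
      have ht' : t < p := by omega
      simp [← el_mul, hπ, hlam, hdc ht' hh]
    | succ e ih =>
      intro t ht h hh
      have h1 := ih (t + 1) (by omega) h hh
      have h2 := ih t (by omega) h hh
      have e1 : el p (b ^ t) * dl p b ^ (e + 1) * el p h =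
          el p (b ^ (t + 1)) * dl p b ^ e * el p h - el p (b ^ t) * dl p b ^ e * el p h := by
        rw [pow_succ' (dl p b), pow_succ b, el_mul, dl]; noncomm_ring
      rw [e1, map_sub, map_sub, h1.1, h1.2, h2.1, h2.2]
      refine ⟨by simp, ?_⟩
      rcases e with - | e
      · simp
      · simp
  have hel : ∀ e < p, ∀ h ∈ H', π (dl p b ^ e * el p h) = (if e = 0 then el p h else 0) ∧
      lam (dl p b ^ e * el p h) = (if e = 1 then 1 else 0) := by
    intro e he h hh
    have h0 := hcalc e 0 (by omega) h hh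
    simp only [pow_zero, el_one, one_mul, Nat.cast_zero] at h0
    refine ⟨h0.1, h0.2.trans ?_⟩
    rcases eq_or_ne e 0 with rfl | he0 <;> simp_all
  have hdlh : ∀ e < p, ∀ h ∈ H', lam (dl p b ^ e * dl p h) = 0 := by
    intro e he h hh
    have h1 : dl p b ^ e * dl p h = dl p b ^ e * el p h - dl p b ^ e * el p 1 := by
      rw [el_one, ← mul_sub]; rfl
    rw [h1, map_sub, (hel e he h hh).2, (hel e he 1 (one_mem _)).2, sub_self]
  -- every element of weight zero is a combination of group elements
  have hspan : ∀ {k : ℕ}, V S H' k ≤ Submodule.span (ZMod p) {r | ∃ h ∈ H', r = el p h} := by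
    intro k
    refine (V_anti (Nat.zero_le k)).trans (Submodule.span_le.2 ?_)
    rintro r ⟨m', -, hr⟩
    induction hr with
    | one => exact Submodule.subset_span ⟨1, one_mem _, el_one.symm⟩
    | @mul m w r' u hwd hu _ ihr =>
      clear hwd
      induction ihr using Submodule.span_induction with
      | mem x hx =>
        obtain ⟨h, hh, rfl⟩ := hx
        rw [dl, mul_sub, mul_one, ← el_mul]
        exact sub_mem (Submodule.subset_span ⟨_, mul_mem hh hu, rfl⟩) (Submodule.subset_span ⟨h, hh, rfl⟩)
      | zero => simp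
      | add x y _ _ hx hy => rw [add_mul]; exact add_mem hx hy
      | smul c x _ hx => rw [smul_mul_assoc]; exact Submodule.smul_mem _ c hx
  have hπT : ∀ {x : MonoidAlgebra (ZMod p) G}, x ∈ T S H' b w m → π x ∈ V S H' m ∧ lam x = 0 := by
    intro x hx
    induction hx using Submodule.span_induction with
    | mem x hx =>
      obtain ⟨e, he, r, hr, rfl⟩ := hx
      refine ⟨?_, ?_⟩
      · rcases Nat.eq_zero_or_pos e with rfl | he0
        · rw [pow_zero, one_mul]
          have hfix : π r = r := by
            have : ∀ y ∈ Submodule.span (ZMod p) {r | ∃ h ∈ H', r = el p h}, π y = y := by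
              intro y hy
              induction hy using Submodule.span_induction with
              | mem y hy =>
                obtain ⟨h, hh, rfl⟩ := hy
                simpa using (hel 0 hp.out.pos h hh).1
              | zero => simp
              | add y z _ _ hy hz => rw [map_add, hy, hz]
              | smul c y _ hy => rw [map_smul, hy]
            exact this r (hspan hr)
          rw [hfix]; simpa using hr
        · have : ∀ y ∈ Submodule.span (ZMod p) {r | ∃ h ∈ H', r = el p h},
              π (dl p b ^ e * y) = 0 := by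
            intro y hy
            induction hy using Submodule.span_induction with
            | mem y hy =>
              obtain ⟨h, hh, rfl⟩ := hy
              simpa [he0.ne'] using (hel e he h hh).1
            | zero => simp
            | add y z _ _ hy hz => rw [mul_add, map_add, hy, hz, add_zero]
            | smul c y _ hy => rw [mul_smul_comm, map_smul, hy, smul_zero]
          rw [this r (hspan hr)]; exact zero_mem _
      · rcases le_or_gt 2 e with he2 | he2
        · have : ∀ y ∈ Submodule.span (ZMod p) {r | ∃ h ∈ H', r = el p h},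
              lam (dl p b ^ e * y) = 0 := by
            intro y hy
            induction hy using Submodule.span_induction with
            | mem y hy =>
              obtain ⟨h, hh, rfl⟩ := hy
              simpa [show e ≠ 1 by omega] using (hel e he h hh).2
            | zero => simp
            | add y z _ _ hy hz => rw [mul_add, map_add, hy, hz, add_zero]
            | smul c y _ hy => rw [mul_smul_comm, map_smul, hy, smul_zero]
          exact this r (hspan hr)
        · have hpos : 1 ≤ m - e * w := by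
            rcases (show e = 0 ∨ e = 1 by omega) with rfl | rfl <;> simp <;> omega
          have := V_le_aug hpos hr
          clear hr
          induction this using Submodule.span_induction with
          | mem y hy => obtain ⟨h, hh, rfl⟩ := hy; exact hdlh e he h hh
          | zero => simp
          | add y z _ _ hy hz => rw [mul_add, map_add, hy, hz, add_zero]
          | smul c y _ hy => rw [mul_smul_comm, map_smul, hy, smul_zero]
    | zero => simp
    | add x y _ _ hx hy =>
      rw [map_add, map_add]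
      exact ⟨add_mem hx.1 hy.1, by rw [hx.2, hy.2, add_zero]⟩
    | smul c x _ hx =>
      rw [map_smul, map_smul]
      exact ⟨Submodule.smul_mem _ c hx.1, by rw [hx.2, smul_zero]⟩
  obtain ⟨e, he, hh⟩ := hcov g hg
  obtain ⟨hπg, hlg⟩ := hπT (V_le_T hb hnorm hbp hcov hhigh huniq m hV)
  have hdg : dc g = (e, (b ^ e)⁻¹ * g) := by
    conv_lhs => rw [show g = b ^ e * ((b ^ e)⁻¹ * g) by group]
    exact hdc he hh
  have hd1 : dc 1 = (0, 1) := by simpa using hdc hp.out.pos (one_mem H')
  rw [dl, map_sub, hlam, ← el_one, hlam, hdg, hd1] at hlg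
  simp only [Nat.cast_zero, sub_zero] at hlg
  rw [ZMod.natCast_eq_zero_iff e p] at hlg
  obtain rfl : e = 0 := Nat.eq_zero_of_dvd_of_lt hlg he
  rw [dl, map_sub, hπ, ← el_one, hπ, hdg, hd1] at hπg
  simp only [pow_zero, inv_one, one_mul] at hπg hh
  exact ih m g hh (by rw [dl, ← el_one]; exact hπg)

theorem mem_E_of_dl_mem_aux [Finite G] (hG : IsPGroup p G) : ∀ (N : ℕ) (H : Subgroup G),
    Nat.card H ≤ N → ∀ m g, g ∈ H → dl p g ∈ V S H m → g ∈ S.E m := by
  intro N
  induction N with
  | zero =>
    intro H h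
    have := Nat.card_pos (α := H)
    omega
  | succ N ih =>
    intro H hN
    rcases eq_or_ne H ⊥ with rfl | hH
    · intro m g hg _
      rw [Subgroup.mem_bot] at hg
      rw [hg]; exact one_mem _
    classical
    obtain ⟨N₀, hN₀⟩ := S.bot
    have hex : ∃ i, ¬ H ≤ S.E (i + 1) := ⟨N₀, fun h => hH (le_bot_iff.1 ((h.trans
      (S.anti (Nat.le_succ _))).trans hN₀.le))⟩
    set w := Nat.find hex with hw
    have hw1 : ¬ H ≤ S.E (w + 1) := Nat.find_spec hex
    have hHE : H ≤ S.E w := by
      rcases Nat.eq_zero_or_pos w with h0 | h0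
      · rw [h0]; exact fun g _ => mem_E_zero g
      · have := Nat.find_min hex (m := w - 1) (by omega)
        rw [not_not, Nat.sub_add_cancel h0] at this
        exact this
    have hsub : (S.E (w + 1)).subgroupOf H ≠ ⊤ := fun h => hw1 (Subgroup.subgroupOf_eq_top.1 h)
    obtain ⟨K, hK, hEK⟩ := (eq_top_or_exists_le_coatom _).resolve_left hsub
    haveI : Group.IsNilpotent H := (hG.to_subgroup H).isNilpotent
    haveI hKn : K.Normal :=
      Subgroup.NormalizerCondition.normal_of_coatom K Group.normalizerCondition_of_isNilpotent hK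
    have hKi : Nat.card (H ⧸ K) = p := by
      haveI : Nontrivial (H ⧸ K) := QuotientGroup.nontrivial_iff.2 hK.1
      have hsimple : IsSimpleGroup (H ⧸ K) := by
        refine ⟨fun N hN => ?_⟩
        have h1 : K ≤ N.comap (QuotientGroup.mk' K) := fun x hx => by
          simp [Subgroup.mem_comap, (QuotientGroup.eq_one_iff x).2 hx, N.one_mem]
        rcases eq_or_lt_of_le h1 with h | h
        · left
          rw [← Subgroup.map_comap_eq_self_of_surjective (QuotientGroup.mk'_surjective K) N, ← h,
            Subgroup.map_eq_bot_iff, QuotientGroup.ker_mk']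
        · right
          rw [← Subgroup.map_comap_eq_self_of_surjective (QuotientGroup.mk'_surjective K) N, hK.2 _ h,
            Subgroup.map_top_of_surjective _ (QuotientGroup.mk'_surjective K)]
      have hpq : IsPGroup p (H ⧸ K) := (hG.to_subgroup H).to_quotient K
      haveI := hsimple
      letI : CommGroup (H ⧸ K) :=
        { (inferInstance : Group (H ⧸ K)) with
          mul_comm := fun x y => by
            have h := (IsSimpleGroup.eq_bot_or_eq_top_of_normal (Subgroup.center (H ⧸ K))
              inferInstance).resolve_left (ne_of_gt (hpq.bot_lt_center))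
            exact (Subgroup.mem_center_iff.1 (h ▸ Subgroup.mem_top x) y).symm }
      obtain ⟨k, hk⟩ := hpq.exists_card_eq
      have hpr := IsSimpleGroup.prime_card (α := H ⧸ K)
      rw [hk] at hpr ⊢
      rw [Nat.Prime.eq_one_of_pow hpr, pow_one]
    obtain ⟨b₀, hb₀⟩ : ∃ x : H, x ∉ K := by
      by_contra h
      exact hK.1 (eq_top_iff.2 fun x _ => by_contra fun hx => h ⟨x, hx⟩)
    set H' : Subgroup G := K.map H.subtype with hH'
    have hmem : ∀ x : H, (x : G) ∈ H' ↔ x ∈ K := fun x =>
      Subgroup.mem_map_iff_mem H.subtype_injective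
    have hlt : Nat.card H' < Nat.card H := by
      rw [hH', Subgroup.card_map_of_injective H.subtype_injective]
      refine lt_of_le_of_ne (Nat.le_of_dvd Nat.card_pos K.card_subgroup_dvd_card) fun e => ?_
      exact hK.1 (Subgroup.eq_top_of_card_eq K e)
    have hne : (b₀ : H ⧸ K) ≠ 1 := fun h => hb₀ ((QuotientGroup.eq_one_iff b₀).1 h)
    have hord : orderOf (b₀ : H ⧸ K) = p := by
      refine orderOf_eq_prime ?_ hne
      rw [← hKi]; exact pow_card_eq_one'
    refine step (H' := H') (b := b₀) (hHE b₀.2) ?_ ?_ ?_ ?_ ?_ (fun g hg => hHE hg)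
      (fun m g hg hV => ih H' (by omega) m g hg hV)
    · rintro _ ⟨u, hu, rfl⟩
      exact (hmem (b₀⁻¹ * u * b₀)).2 (by simpa using hKn.conj_mem u hu b₀⁻¹)
    · refine (hmem (b₀ ^ p)).2 ((QuotientGroup.eq_one_iff _).1 ?_)
      rw [QuotientGroup.mk_pow, ← hord, pow_orderOf_eq_one]
    · intro g hg
      have hm : ((⟨g, hg⟩ : H) : H ⧸ K) ∈ Submonoid.powers (b₀ : H ⧸ K) :=
        mem_powers_of_prime_card hKi hne
      obtain ⟨e, he⟩ := hm
      refine ⟨e % p, Nat.mod_lt _ hp.out.pos, ?_⟩
      have : (b₀ ^ (e % p))⁻¹ * ⟨g, hg⟩ ∈ K := by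
        rw [← QuotientGroup.eq, QuotientGroup.mk_pow, ← hord, pow_mod_orderOf]
        exact he
      exact (hmem _).2 this
    · intro g hg hg1
      exact (hmem ⟨g, hg⟩).2 (hEK (Subgroup.mem_subgroupOf.2 hg1))
    · intro e he hbe
      have : (b₀ : H ⧸ K) ^ e = 1 := by
        rw [← QuotientGroup.mk_pow, QuotientGroup.eq_one_iff]
        exact (hmem (b₀ ^ e)).1 hbe
      by_contra h0
      exact absurd (Nat.le_of_dvd (Nat.pos_of_ne_zero h0) (orderOf_dvd_of_pow_eq_one this))
        (by omega)

/-- **Jennings**: an element whose difference with one has weight at least `m` lies in `E m`. -/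
theorem mem_E_of_dl_mem [Finite G] (hG : IsPGroup p G) {m : ℕ} {g : G}
    (h : dl p g ∈ V S (⊤ : Subgroup G) m) : g ∈ S.E m :=
  mem_E_of_dl_mem_aux hG _ ⊤ le_rfl m g (Subgroup.mem_top g) h

end Cfsg.Agent.Solv.Jennings
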