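import Mathlib

/-!
A unipotent operator `T` with `T ^ P = 1` in characteristic `p`, `P` a power of `p`, whose commuting
operators all are scalars plus orbit sums, is nearly regular: if `T ≠ 1` then `(T - 1) ^ (P - 2) ≠ 0`,
and if `(T - 1) ^ (P - 1) = 0` then the space has dimension `P - 1`.
-/

set_option autoImplicit false
set_option linter.style.haveILetI false

namespace Cfsg.Agent.Solv.JBound

variable {K : Type*} [Field K] {p : ℕ} [Fact p.Prime] [CharP K p]
variable {W : Type*} [AddCommGroup W] [Module K W]

open Polynomial in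
/-- The basic identity of polynomials in two variables. -/
theorem poly_identity (n : ℕ) (P : ℕ) (hP : P = p ^ n) :
    ∑ i ∈ Finset.range P, (C X : K[X][X]) ^ i * X ^ (P - 1 - i) =
      ∑ i ∈ Finset.range P, (C X - 1 : K[X][X]) ^ i * (X - 1) ^ (P - 1 - i) := by
  subst hP
  have hne : (C X : K[X][X]) - X ≠ 0 := fun h => by
    have h1 := congrArg (fun f => Polynomial.coeff f 1) h
    simp at h1
  refine mul_right_cancel₀ hne ?_
  rw [geom_sum₂_mul, show (C X : K[X][X]) - X = (C X - 1) - (X - 1) by ring, geom_sum₂_mul,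
    sub_pow_char_pow, sub_pow_char_pow, one_pow]
  ring

/-- The sum over the orbit, in terms of the nilpotent part. -/
theorem orbit_sum_eq (n : ℕ) (P : ℕ) (hP : P = p ^ n) (T Y : Module.End K W) :
    ∑ i ∈ Finset.range P, T ^ i * Y * T ^ (P - 1 - i) =
      ∑ i ∈ Finset.range P, (T - 1) ^ i * Y * (T - 1) ^ (P - 1 - i) := by
  obtain ⟨L, hL⟩ : ∃ L : Module.End K (Module.End K W), L = LinearMap.mulLeft K T := ⟨_, rfl⟩
  obtain ⟨R, hR⟩ : ∃ R : Module.End K (Module.End K W), R = LinearMap.mulRight K T := ⟨_, rfl⟩
  have hLR : Commute L R := by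
    rw [hL, hR]
    exact LinearMap.ext fun A => by simp [Module.End.mul_apply, mul_assoc]
  obtain ⟨φ, hφ⟩ : ∃ φ : Polynomial K →+* Module.End K (Module.End K W),
      φ = (Polynomial.aeval L).toRingHom := ⟨_, rfl⟩
  have hcomm : ∀ a, Commute (φ a) R := fun a => by
    rw [hφ]
    induction a using Polynomial.induction_on with
    | C c => simpa using Algebra.commute_algebraMap_left c R
    | add f g hf hg => rw [map_add]; exact hf.add_left hg
    | monomial k c _ =>
      simp only [AlgHom.toRingHom_eq_coe, RingHom.coe_coe, map_mul, map_pow, Polynomial.aeval_C,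
        Polynomial.aeval_X]
      exact (Algebra.commute_algebraMap_left c R).mul_left (hLR.pow_left _)
  have key := congrArg (Polynomial.eval₂RingHom' φ R hcomm) (poly_identity (K := K) n P hP)
  simp only [map_sum, map_mul, map_pow, map_sub, map_one] at key
  have hCX : Polynomial.eval₂RingHom' φ R hcomm (Polynomial.C Polynomial.X) = L := by
    simp [hφ]
  have hX : Polynomial.eval₂RingHom' φ R hcomm (Polynomial.X : Polynomial (Polynomial K)) = R := by
    simp
  rw [hCX, hX] at key
  have hL1 : L - 1 = LinearMap.mulLeft K (T - 1) := LinearMap.ext fun A => by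
    simp [hL, sub_mul]
  have hR1 : R - 1 = LinearMap.mulRight K (T - 1) := LinearMap.ext fun A => by
    simp [hR, mul_sub]
  rw [hL1, hR1, hL, hR] at key
  have h1 := LinearMap.congr_fun key Y
  simpa [LinearMap.sum_apply, LinearMap.pow_mulLeft, LinearMap.pow_mulRight, mul_assoc] using h1

variable [FiniteDimensional K W]

/-- The dichotomy for a unipotent operator whose commutant consists of scalars and orbit sums. -/
theorem bound (n : ℕ) (P : ℕ) (hP : P = p ^ n) (T : Module.End K W) (hT : T ^ P = 1) (s : ℕ)
    (hs : (T - 1) ^ s = 0) (hmin : ∀ k < s, (T - 1) ^ k ≠ 0)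
    (hcom : ∀ A : Module.End K W, A * T = T * A → ∃ (c : K) (Y : Module.End K W),
      A = c • (1 : Module.End K W) + (∑ i ∈ Finset.range P, T ^ i * Y * T ^ (P - 1 - i)) * T) :
    s ≤ P ∧ (s ≤ 1 ∨ P ≤ s + 1) ∧ (2 ≤ s → s + 1 = P → Module.finrank K W = s) := by
  obtain ⟨N, hN⟩ : ∃ N, N = T - 1 := ⟨_, rfl⟩
  rw [← hN] at hs hmin
  haveI : CharP (Module.End K W) p ∨ Subsingleton W := by
    rcases subsingleton_or_nontrivial W with h | h
    · exact Or.inr h
    · exact Or.inl (charP_of_injective_algebraMap' K p)
  have hNP : N ^ P = 0 := by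
    rcases subsingleton_or_nontrivial W with h | h
    · exact LinearMap.ext fun w => Subsingleton.elim _ _
    · haveI : CharP (Module.End K W) p := charP_of_injective_algebraMap' K p
      rw [hN, hP, sub_pow_char_pow_of_commute (p := p) (n := n) (Commute.one_right T), one_pow,
        ← hP, hT, sub_self]
  have hsP : s ≤ P := by
    by_contra h
    exact hmin P (Nat.lt_of_not_le h) hNP
  have hzero : ∀ k, s ≤ k → N ^ k = 0 := fun k hk => by
    rw [← Nat.sub_add_cancel hk, pow_add, hs, mul_zero]
  have hNT : Commute N T := hN ▸ (Commute.refl T).sub_left (Commute.one_left T)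
  -- an orbit sum moves the layers of the radical up
  have hshift : ∀ (Y : Module.End K W) (j : ℕ) (v : W), v ∈ LinearMap.range (N ^ j) →
      ((∑ i ∈ Finset.range P, T ^ i * Y * T ^ (P - 1 - i)) * T) v ∈
        LinearMap.range (N ^ (j + (P - s))) := by
    rintro Y j v ⟨w, rfl⟩
    rw [orbit_sum_eq n P hP T Y, ← hN, ← Module.End.mul_apply, mul_assoc, ← (hNT.pow_left j).eq,
      Finset.sum_mul, LinearMap.sum_apply]
    refine Submodule.sum_mem _ fun i hi => ?_
    rw [Finset.mem_range] at hi
    rcases Nat.lt_or_ge ((P - 1 - i) + j) s with hlt | hge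
    · refine ⟨(N ^ (i - (j + (P - s))) * Y * N ^ (P - 1 - i) * (N ^ j * T)) w, ?_⟩
      rw [← Module.End.mul_apply]
      obtain ⟨e, he⟩ : ∃ e, i = j + (P - s) + e := ⟨i - (j + (P - s)), by omega⟩
      rw [show i - (j + (P - s)) = e by omega, show N ^ i = N ^ (j + (P - s)) * N ^ e by
        rw [← pow_add, ← he]]
      simp only [mul_assoc]
    · have h0 : N ^ i * Y * N ^ (P - 1 - i) * (N ^ j * T) = 0 := by
        rw [← mul_assoc, mul_assoc (N ^ i * Y), ← pow_add, hzero _ hge, mul_zero, zero_mul]
      rw [h0]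
      exact Submodule.zero_mem _
  have hrange : ∀ {a b : ℕ}, a ≤ b → LinearMap.range (N ^ b) ≤ LinearMap.range (N ^ a) := fun {a b} h => by
    rintro v ⟨w, rfl⟩
    exact ⟨(N ^ (b - a)) w, by rw [← Module.End.mul_apply, ← pow_add, Nat.add_sub_cancel' h]⟩
  refine ⟨hsP, ?_, ?_⟩
  · by_contra h
    push Not at h
    obtain ⟨h2, hP2⟩ := h
    obtain ⟨c, Y, hY⟩ := hcom N hNT.eq
    obtain ⟨w, hw⟩ : ∃ w, (N ^ (s - 1)) w ≠ 0 := by
      by_contra hno
      push Not at hno
      exact hmin (s - 1) (by omega) (LinearMap.ext hno)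
    have hc : c = 0 := by
      have h1 := LinearMap.congr_fun hY ((N ^ (s - 1)) w)
      rw [← Module.End.mul_apply, ← pow_succ', Nat.sub_add_cancel (by omega : 1 ≤ s), hs] at h1
      obtain ⟨u, hu⟩ := hshift Y (s - 1) _ ⟨w, rfl⟩
      rw [LinearMap.zero_apply, LinearMap.add_apply, LinearMap.smul_apply, Module.End.one_apply,
        ← hu, hzero (s - 1 + (P - s)) (by omega), LinearMap.zero_apply, add_zero] at h1
      exact (smul_eq_zero.1 h1.symm).resolve_right hw
    have hle : ∀ k, 1 ≤ k → LinearMap.range N ≤ LinearMap.range (N ^ k) := by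
      intro k hk
      induction k with
      | zero => omega
      | succ k ihk =>
        rcases Nat.eq_zero_or_pos k with rfl | hk0
        · rw [pow_one]
        · rintro v ⟨u, rfl⟩
          have h1 : LinearMap.range N ≤ LinearMap.range (N ^ 2) := by
            rintro _ ⟨a, rfl⟩
            have h2 := hshift Y 0 a ⟨a, by simp⟩
            have h3 := LinearMap.congr_fun hY a
            rw [hc, LinearMap.add_apply, LinearMap.smul_apply, zero_smul, zero_add] at h3
            rw [h3]
            exact hrange (show 2 ≤ 0 + (P - s) by omega) h2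
          obtain ⟨a, ha⟩ := h1 ⟨u, rfl⟩
          obtain ⟨b, hb⟩ := ihk hk0 ⟨a, rfl⟩
          refine ⟨b, ?_⟩
          rw [pow_succ', Module.End.mul_apply, hb, ← ha, pow_two, Module.End.mul_apply]
    refine hmin 1 (by omega) (LinearMap.ext fun v => ?_)
    obtain ⟨u, hu⟩ := hle s (by omega) ⟨v, rfl⟩
    rw [pow_one, LinearMap.zero_apply, ← hu, hs, LinearMap.zero_apply]
  · intro h2 hsP1
    obtain ⟨v, hv⟩ : ∃ v, (N ^ (s - 1)) v ≠ 0 := by
      by_contra hno
      push Not at hno
      exact hmin (s - 1) (by omega) (LinearMap.ext hno)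
    obtain ⟨ψ, hψ⟩ := Module.Projective.exists_dual_ne_zero K hv
    -- an operator commuting with `T` with image spanned by the images of `v`
    obtain ⟨A, hA⟩ : ∃ A : Module.End K W,
        A = ∑ i ∈ Finset.range s, (ψ ∘ₗ (N ^ (s - 1 - i))).smulRight ((N ^ i) v) := ⟨_, rfl⟩
    have hAapply : ∀ w, A w = ∑ i ∈ Finset.range s, ψ ((N ^ (s - 1 - i)) w) • (N ^ i) v := fun w => by
      simp [hA, LinearMap.sum_apply]
    have hAN : A * N = N * A := LinearMap.ext fun w => by
      obtain ⟨t, rfl⟩ : ∃ t, s = t + 1 := ⟨s - 1, by omega⟩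
      rw [Module.End.mul_apply, Module.End.mul_apply, hAapply, hAapply, map_sum,
        Finset.sum_range_succ', Finset.sum_range_succ (fun i =>
          N (ψ ((N ^ (t + 1 - 1 - i)) w) • (N ^ i) v))]
      congr 1
      · refine Finset.sum_congr rfl fun i hi => ?_
        rw [Finset.mem_range] at hi
        rw [map_smul, ← Module.End.mul_apply (N ^ (t + 1 - 1 - (i + 1))), ← pow_succ,
          ← Module.End.mul_apply N, ← pow_succ', show t + 1 - 1 - (i + 1) + 1 = t + 1 - 1 - i by omega]
      · rw [← Module.End.mul_apply, ← pow_succ, show t + 1 - 1 - 0 + 1 = t + 1 by omega, hs,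
          LinearMap.zero_apply, map_zero, zero_smul, map_smul, ← Module.End.mul_apply N, ← pow_succ', hs,
          LinearMap.zero_apply, smul_zero]
    have hAT : A * T = T * A := by
      rw [show T = N + 1 by rw [hN, sub_add_cancel], mul_add, add_mul, hAN, mul_one, one_mul]
    obtain ⟨c, Y, hY⟩ := hcom A hAT
    -- modulo the first layer `A` is a scalar
    have hmod : ∀ w, ψ ((N ^ (s - 1)) w) • v - c • w ∈ LinearMap.range N := by
      intro w
      have h1 : A w - ψ ((N ^ (s - 1)) w) • v ∈ LinearMap.range N := by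
        obtain ⟨t, rfl⟩ : ∃ t, s = t + 1 := ⟨s - 1, by omega⟩
        rw [hAapply, Finset.sum_range_succ', pow_zero, Module.End.one_apply,
          show t + 1 - 1 - 0 = t + 1 - 1 from Nat.sub_zero _, add_sub_cancel_right]
        refine Submodule.sum_mem _ fun i _ => Submodule.smul_mem _ _ ⟨(N ^ i) v, ?_⟩
        rw [← Module.End.mul_apply, ← pow_succ']
      have h3 : A w - c • w ∈ LinearMap.range N := by
        rw [hY, LinearMap.add_apply, LinearMap.smul_apply, Module.End.one_apply, add_sub_cancel_left]
        have h4 := hshift Y 0 w ⟨w, by simp⟩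
        rw [show (0 : ℕ) + (P - s) = 1 by omega, pow_one] at h4
        exact h4
      have h5 := Submodule.sub_mem _ h3 h1
      rwa [sub_sub_sub_cancel_left] at h5
    have hc : c ≠ 0 := fun hc => by
      have h1 := hmod v
      rw [hc, zero_smul, sub_zero] at h1
      obtain ⟨u, hu⟩ := (Submodule.smul_mem_iff _ hψ).1 h1
      exact hv (by rw [← hu, ← Module.End.mul_apply, ← pow_succ, Nat.sub_add_cancel (by omega : 1 ≤ s),
        hs, LinearMap.zero_apply])
    obtain ⟨U, hU⟩ : ∃ U : Submodule K W, U = Submodule.span K (Set.range fun i : Fin s => (N ^ i.val) v) :=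
      ⟨_, rfl⟩
    have hUN : ∀ u ∈ U, ∀ k, (N ^ k) u ∈ U := by
      intro u hu k
      rw [hU] at hu
      induction hu using Submodule.span_induction with
      | mem x hx =>
        obtain ⟨i, rfl⟩ := hx
        show (N ^ k) ((N ^ i.val) v) ∈ U
        rw [← Module.End.mul_apply, ← pow_add]
        rcases Nat.lt_or_ge (k + i.val) s with hlt | hge
        · exact hU ▸ Submodule.subset_span ⟨⟨k + i.val, hlt⟩, rfl⟩
        · rw [hzero _ hge]; exact Submodule.zero_mem _
      | zero => rw [map_zero]; exact Submodule.zero_mem _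
      | add a b _ _ ha hb => rw [map_add]; exact Submodule.add_mem _ ha hb
      | smul a x _ hx => rw [map_smul]; exact Submodule.smul_mem _ _ hx
    have hv0 : v ∈ U := hU ▸ Submodule.subset_span ⟨⟨0, by omega⟩, by simp⟩
    have hall : ∀ k w, ∃ u ∈ U, w - u ∈ LinearMap.range (N ^ k) := by
      intro k
      induction k with
      | zero => exact fun w => ⟨0, Submodule.zero_mem _, ⟨w, by simp⟩⟩
      | succ k ihk =>
        intro w
        obtain ⟨u, hu, a, ha⟩ := ihk w
        obtain ⟨b, hb⟩ := hmod a
        refine ⟨u + c⁻¹ • (ψ ((N ^ (s - 1)) a) • (N ^ k) v),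
          Submodule.add_mem _ hu (Submodule.smul_mem _ _ (Submodule.smul_mem _ _ (hUN v hv0 k))), ?_⟩
        refine ⟨-(c⁻¹ • b), ?_⟩
        rw [map_neg, map_smul, pow_succ, Module.End.mul_apply, hb, map_sub, map_smul, map_smul,
          smul_sub, smul_smul c⁻¹ c, inv_mul_cancel₀ hc, one_smul, ha]
        abel
    have htop : U = ⊤ := eq_top_iff.2 fun w _ => by
      obtain ⟨u, hu, a, ha⟩ := hall s w
      rw [hs, LinearMap.zero_apply, eq_comm, sub_eq_zero] at ha
      exact ha ▸ hu
    refine le_antisymm ?_ ?_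
    · rw [← finrank_top K W, ← htop, hU]
      exact (finrank_range_le_card _).trans (le_of_eq (Fintype.card_fin s))
    · have hli : LinearIndependent K (fun i : Fin s => (N ^ i.val) v) := by
        rw [Fintype.linearIndependent_iff]
        classical
        intro g hg
        by_contra hne
        push Not at hne
        obtain ⟨i₀, hi₀, hmin'⟩ := Finset.exists_min_image (Finset.univ.filter fun i => g i ≠ 0)
          (fun i => i.val) ⟨hne.choose, by simp [hne.choose_spec]⟩
        rw [Finset.mem_filter] at hi₀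
        have h1 := congrArg (N ^ (s - 1 - i₀.val)) hg
        rw [map_sum, map_zero, Finset.sum_eq_single i₀, map_smul, ← Module.End.mul_apply, ← pow_add,
          show s - 1 - i₀.val + i₀.val = s - 1 by omega] at h1
        · exact hi₀.2 ((smul_eq_zero.1 h1).resolve_right hv)
        · intro i _ hi
          by_cases hgi : g i = 0
          · rw [hgi, zero_smul, map_zero]
          · have h2 := hmin' i (by simp [hgi])
            rw [map_smul, ← Module.End.mul_apply, ← pow_add, hzero _ (by
              have : i.val ≠ i₀.val := fun h => hi (Fin.ext h)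
              omega), LinearMap.zero_apply, smul_zero]
        · exact fun h => absurd (Finset.mem_univ _) h
      simpa using hli.fintype_card_le_finrank

end Cfsg.Agent.Solv.JBound
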