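import Cfsg.Agent.Lib.Solv.MaxClass
import Cfsg.Agent.Lib.Solv.PolySeq
import Cfsg.Agent.Lib.Solv.PGroupPhi

/-!
# Groups of maximal class: two-step centralizers and uniform elements
-/

set_option autoImplicit false
set_option linter.style.haveILetI false
set_option linter.unusedSectionVars false

open scoped commutatorElement

namespace Cfsg.Agent.Solv.MaxC

open PolySeq

universe u

variable {G : Type u} [Group G] [Finite G] {p : ℕ} [hp : Fact p.Prime] {n : ℕ}

/-- `G` has order `p ^ n`, `n ≥ 2`, and class `n - 1`. -/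
structure IsMax (G : Type u) [Group G] (p n : ℕ) : Prop where
  card : Nat.card G = p ^ n
  two : 2 ≤ n
  ne : (⊤ : Subgroup G).lowerCentralSeries (n - 2) ≠ ⊥

theorem IsMax.isPGroup (h : IsMax G p n) : IsPGroup p G := IsPGroup.of_card h.card

theorem F_one : F G 1 = ⊤ := rfl

theorem F_zero : F G 0 = ⊤ := rfl

theorem F_comm_top {k : ℕ} (hk : 1 ≤ k) : F G (k + 1) = ⁅F G k, (⊤ : Subgroup G)⁆ := by
  unfold F
  rw [show k + 1 - 1 = k - 1 + 1 by omega, Subgroup.lowerCentralSeries_succ]

theorem F_comm {a b : ℕ} : ⁅F G a, F G b⁆ ≤ F G (a + b) :=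
  Subgroup.commutator_le.2 fun _ hx _ hy => F_commutator hx hy

theorem F_map {Q : Type*} [Group Q] (f : G →* Q) (hf : Function.Surjective f) (k : ℕ) :
    (F G k).map f = F Q k := by
  unfold F
  rw [Subgroup.map_lowerCentralSeries, Subgroup.map_top_of_surjective f hf]

theorem p_mul_card_le_of_lt {A B : Subgroup G} (hG : IsPGroup p G) (h : A < B) :
    p * Nat.card A ≤ Nat.card B := by
  obtain ⟨a, ha⟩ := (hG.to_subgroup A).exists_card_eq
  obtain ⟨b, hb⟩ := (hG.to_subgroup B).exists_card_eq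
  have hab : a < b := by
    by_contra hh
    refine h.ne (Subgroup.eq_of_le_of_card_ge h.le ?_)
    rw [ha, hb]; exact Nat.pow_le_pow_right hp.out.pos (not_lt.1 hh)
  rw [ha, hb, ← pow_succ']
  exact Nat.pow_le_pow_right hp.out.pos hab

theorem IsMax.F_bot (h : IsMax G p n) {k : ℕ} (hk : n ≤ k) : F G k = ⊥ := by
  refine le_bot_iff.1 ((F_antitone hk).trans ?_)
  unfold F
  rw [lcs_eq_bot h.isPGroup h.card h.two]

theorem IsMax.F_card (h : IsMax G p n) {k : ℕ} (h2 : 2 ≤ k) (hkn : k ≤ n) :
    Nat.card (F G k) = p ^ (n - k) := by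
  haveI := h.isPGroup.isNilpotent
  have key : ∀ d : ℕ, d + 3 ≤ n → p ^ (d + 1) ≤ Nat.card (F G (n - 1 - d)) := by
    intro d hd
    induction d with
    | zero =>
      obtain ⟨a, ha⟩ := (h.isPGroup.to_subgroup (F G (n - 1))).exists_card_eq
      rw [Nat.sub_zero, ha]
      refine Nat.pow_le_pow_right hp.out.pos (Nat.one_le_iff_ne_zero.2 fun h0 => h.ne ?_)
      have : F G (n - 1) = ⊥ := Subgroup.card_eq_one.1 (by rw [ha, h0, pow_zero])
      unfold F at this
      rwa [show n - 1 - 1 = n - 2 by omega] at this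
    | succ d ih =>
      have hlo := ih (by omega)
      obtain ⟨j, hj, hj'⟩ : ∃ j, n - 1 - (d + 1) = j ∧ n - 1 - d = j + 1 :=
        ⟨n - 1 - (d + 1), rfl, by omega⟩
      rw [hj'] at hlo
      rw [hj]
      have hne : F G j ≠ ⊥ := by
        intro hb
        have : F G (j + 1) = ⊥ := le_bot_iff.1 ((F_antitone (Nat.le_succ j)).trans hb.le)
        rw [this, Subgroup.card_bot] at hlo
        exact absurd hlo (not_le.2 (Nat.one_lt_pow (by omega) hp.out.one_lt))
      have hlt := commutator_top_lt (F G j) hne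
      rw [← F_comm_top (by omega)] at hlt
      calc p ^ (d + 1 + 1) = p * p ^ (d + 1) := pow_succ' p (d + 1)
        _ ≤ p * Nat.card (F G (j + 1)) := Nat.mul_le_mul_left p hlo
        _ ≤ _ := p_mul_card_le_of_lt h.isPGroup hlt
  rcases eq_or_lt_of_le hkn with rfl | hlt
  · rw [h.F_bot le_rfl, Subgroup.card_bot, Nat.sub_self, pow_zero]
  refine le_antisymm ?_ ?_
  · have h1 := lcs_card_le h.isPGroup h.card h.two (k - 1) (by omega)
    rw [show k - 1 + 1 = k by omega] at h1
    rcases h1 with h1 | h1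
    · show Nat.card ((⊤ : Subgroup G).lowerCentralSeries (k - 1)) ≤ _
      rw [h1, Subgroup.card_bot]
      exact Nat.one_le_pow _ _ hp.out.pos
    · have e : p ^ n = p ^ (n - k) * p ^ k := by rw [← pow_add]; congr 1; omega
      exact Nat.le_of_mul_le_mul_right (e ▸ h1) (pow_pos hp.out.pos k)
  · rcases (show k ≤ n - 1 by omega).eq_or_lt with rfl | hk1
    · rcases Nat.lt_or_ge n 3 with hn3 | hn3
      · omega
      have := key 0 (by omega)
      simpa [show n - (n - 1) = 1 by omega] using this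
    · have := key (n - 1 - k) (by omega)
      rwa [show n - 1 - (n - 1 - k) = k by omega, show n - 1 - k + 1 = n - k by omega] at this

theorem IsMax.F_lt (h : IsMax G p n) {k : ℕ} (h2 : 2 ≤ k) (hkn : k < n) : F G (k + 1) < F G k := by
  refine lt_of_le_of_ne (F_antitone (Nat.le_succ k)) fun he => ?_
  have := congrArg (fun A : Subgroup G => Nat.card A) he
  simp only [h.F_card h2 hkn.le, h.F_card (show 2 ≤ k + 1 by omega) hkn] at this
  have := Nat.pow_right_injective hp.out.two_le this
  omega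

theorem IsMax.F_two_ne_top (h : IsMax G p n) : F G 2 ≠ ⊤ := fun he => by
  have := congrArg (fun A : Subgroup G => Nat.card A) he
  simp only [h.F_card le_rfl h.two, Subgroup.card_top, h.card] at this
  have := Nat.pow_right_injective hp.out.two_le this
  have := h.two
  omega

theorem IsMax.exists_mem_not_mem (h : IsMax G p n) {k : ℕ} (h1 : 1 ≤ k) (hkn : k < n) :
    ∃ a ∈ F G k, a ∉ F G (k + 1) := by
  rcases eq_or_lt_of_le h1 with rfl | h2
  · by_contra hh
    push Not at hh
    exact h.F_two_ne_top (eq_top_iff.2 fun x _ => hh x (Subgroup.mem_top x))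
  · exact SetLike.exists_of_lt (h.F_lt h2 hkn)

theorem IsMax.F_gen (h : IsMax G p n) {k : ℕ} (h2 : 2 ≤ k) {a : G} (ha : a ∈ F G k)
    (ha' : a ∉ F G (k + 1)) : F G k = Subgroup.zpowers a ⊔ F G (k + 1) := by
  have hkn : k < n := by
    by_contra hh
    exact ha' (by rw [h.F_bot (not_lt.1 hh), Subgroup.mem_bot] at ha; rw [ha]; exact one_mem _)
  have hle : Subgroup.zpowers a ⊔ F G (k + 1) ≤ F G k :=
    sup_le ((Subgroup.zpowers_le).2 ha) (F_antitone (Nat.le_succ k))
  refine (Subgroup.eq_of_le_of_card_ge hle ?_).symm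
  have hlt : F G (k + 1) < Subgroup.zpowers a ⊔ F G (k + 1) :=
    lt_of_le_of_ne le_sup_right fun e => ha' (e.symm ▸ Subgroup.mem_sup_left (Subgroup.mem_zpowers a))
  refine le_trans ?_ (p_mul_card_le_of_lt h.isPGroup hlt)
  rw [h.F_card h2 hkn.le, h.F_card (by omega) hkn, ← pow_succ']
  exact Nat.pow_le_pow_right hp.out.pos (by omega)

theorem IsMax.gen_top (h : IsMax G p n) {x y : G} (hx : x ∉ F G 2)
    (hy : y ∉ Subgroup.zpowers x ⊔ F G 2) :
    Subgroup.zpowers y ⊔ (Subgroup.zpowers x ⊔ F G 2) = ⊤ := by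
  refine Subgroup.eq_top_of_le_card _ ?_
  have h1 : F G 2 < Subgroup.zpowers x ⊔ F G 2 :=
    lt_of_le_of_ne le_sup_right fun e => hx (e.symm ▸ Subgroup.mem_sup_left (Subgroup.mem_zpowers x))
  have h2 : Subgroup.zpowers x ⊔ F G 2 < Subgroup.zpowers y ⊔ (Subgroup.zpowers x ⊔ F G 2) :=
    lt_of_le_of_ne le_sup_right fun e => hy (e.symm ▸ Subgroup.mem_sup_left (Subgroup.mem_zpowers y))
  have h3 := p_mul_card_le_of_lt h.isPGroup h1
  have h4 := p_mul_card_le_of_lt h.isPGroup h2
  rw [h.F_card le_rfl h.two] at h3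
  refine le_trans ?_ ((Nat.mul_le_mul_left p h3).trans h4)
  rw [h.card, ← pow_succ', ← pow_succ']
  exact Nat.pow_le_pow_right hp.out.pos (by omega)

theorem IsMax.zpowers_sup_card (h : IsMax G p n) (h3' : 3 ≤ n) {x : G} (hx : x ∉ F G 2) :
    Nat.card (Subgroup.zpowers x ⊔ F G 2 : Subgroup G) = p ^ (n - 1) := by
  have h1 : F G 2 < Subgroup.zpowers x ⊔ F G 2 :=
    lt_of_le_of_ne le_sup_right fun e => hx (e.symm ▸ Subgroup.mem_sup_left (Subgroup.mem_zpowers x))
  have h3 := p_mul_card_le_of_lt h.isPGroup h1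
  rw [h.F_card le_rfl h.two, ← pow_succ'] at h3
  obtain ⟨a, ha⟩ := (h.isPGroup.to_subgroup (Subgroup.zpowers x ⊔ F G 2)).exists_card_eq
  have hlo : n - 1 ≤ a := by
    rw [ha, Nat.pow_le_pow_iff_right hp.out.one_lt] at h3
    have := h.two
    omega
  have hne : (Subgroup.zpowers x ⊔ F G 2 : Subgroup G) ≠ ⊤ := by
    intro he
    haveI := h.isPGroup.isNilpotent
    have hF : F G 2 ≤ frattini G := by
      rw [show F G 2 = commutator G from rfl]; exact commutator_le_frattini_pgroup h.isPGroup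
    have ht : Subgroup.zpowers x = ⊤ := frattini_nongenerating
      (eq_top_iff.2 (he.symm.trans_le (sup_le_sup_left hF _)))
    have hc : commutator G = ⊥ := by
      rw [commutator_eq_bot_iff_center_eq_top, eq_top_iff, ← ht, Subgroup.zpowers_le]
      refine Subgroup.mem_center_iff.2 fun g => ?_
      obtain ⟨j, rfl⟩ := Subgroup.mem_zpowers_iff.1 (ht.ge (Subgroup.mem_top g))
      exact ((Commute.refl x).zpow_left j).eq
    have h5 := commutator_index_ge_sq h.isPGroup h.card h.two
    rw [hc, Subgroup.index_bot, h.card, Nat.pow_le_pow_iff_right hp.out.one_lt] at h5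
    have h6 := congrArg (fun A : Subgroup G => Nat.card A)
      (show F G 2 = ⊥ from hc)
    simp only [h.F_card le_rfl h.two, Subgroup.card_bot] at h6
    rcases Nat.pow_eq_one.1 h6 with h | h
    · exact absurd h hp.out.ne_one
    · omega
  have hhi : a < n := by
    by_contra hh
    exact hne (Subgroup.eq_top_of_le_card _ (by
      rw [h.card, ha]; exact Nat.pow_le_pow_right hp.out.pos (not_lt.1 hh)))
  rw [ha]; congr 1; omega

end Cfsg.Agent.Solv.MaxC
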