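import Mathlib

/-!
Elements `x` of a Sylow `p`-subgroup `P` with `|C_P(x)| = p ^ 2`: if their centralizer in `G` has a larger
`p`-part, they lie in every normal subgroup meeting `P` in more than `p` elements.
-/

set_option autoImplicit false
set_option linter.style.haveILetI false
set_option linter.unusedSectionVars false

open scoped Pointwise commutatorElement

namespace Cfsg.Agent.Solv.Dichotomy

universe u

variable {G : Type u} [Group G] [Finite G] {p : ℕ} [hp : Fact p.Prime] {n : ℕ}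

theorem exists_central {R : Type*} [Group R] [Finite R] (hR : IsPGroup p R)
    (N : Subgroup R) [N.Normal] (hN : N ≠ ⊥) : ∃ z ∈ N, z ≠ 1 ∧ ∀ g, g * z = z * g := by
  obtain ⟨k, hk⟩ := IsPGroup.iff_card.1 (hR.to_subgroup N)
  have hk0 : k ≠ 0 := fun h0 => hN (Subgroup.eq_bot_of_card_eq _ (by rw [hk, h0, pow_zero]))
  have hR' : IsPGroup p (ConjAct R) := hR.of_equiv ConjAct.toConjAct
  obtain ⟨b, hb, hb1⟩ := hR'.exists_fixed_point_of_prime_dvd_card_of_fixed_point ↥N
    (hk ▸ dvd_pow_self p hk0) (a := 1) (by intro g; exact smul_one g)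
  refine ⟨b, b.2, fun e => hb1 (Subtype.ext e).symm, fun g => ?_⟩
  have := congrArg Subtype.val (hb (ConjAct.toConjAct g))
  rw [ConjAct.Subgroup.val_conj_smul, ConjAct.toConjAct_smul] at this
  exact mul_inv_eq_iff_eq_mul.1 this

theorem le_of_prime {A B : Subgroup G} (hA : Nat.card A = p) {a : G} (ha : a ∈ A) (hb : a ∈ B)
    (h1 : a ≠ 1) : A ≤ B := by
  have hd : Nat.card (A ⊓ B : Subgroup G) ∣ p := hA ▸ Subgroup.card_dvd_of_le inf_le_left
  rcases (Nat.dvd_prime hp.out).1 hd with e | e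
  · refine absurd ?_ h1
    have : a ∈ (A ⊓ B : Subgroup G) := ⟨ha, hb⟩
    rwa [Subgroup.card_eq_one.1 e, Subgroup.mem_bot] at this
  · exact inf_eq_left.1 (Subgroup.eq_of_le_of_card_ge inf_le_left (by rw [hA, e]))

/-- Two subgroups of maximal `p`-power order are conjugate. -/
theorem exists_conj {A B : Subgroup G} {m : ℕ} (hA : Nat.card A = p ^ m) (hB : Nat.card B = p ^ m)
    (hm : ¬ p ^ (m + 1) ∣ Nat.card G) :
    ∃ g : G, ∀ y : G, y ∈ A ↔ g * y * g⁻¹ ∈ B := by
  have hf : (Nat.card G).factorization p = m := by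
    apply le_antisymm
    · by_contra hh
      exact hm ((pow_dvd_pow p (by omega)).trans (Nat.ordProj_dvd _ p))
    · refine (hp.out.pow_dvd_iff_le_factorization Nat.card_pos.ne').1 ?_
      exact hA ▸ A.card_subgroup_dvd_card
  obtain ⟨g, hg⟩ := MulAction.exists_smul_eq G (Sylow.ofCard A (hf ▸ hA)) (Sylow.ofCard B (hf ▸ hB))
  have he : MulAut.conj g • A = B := congrArg Sylow.toSubgroup hg
  refine ⟨g, fun y => ?_⟩
  rw [← he, Subgroup.mem_pointwise_smul_iff_inv_smul_mem]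
  simp [MulAut.smul_def, mul_assoc]

/-- The centre of a subgroup. -/
def zc (P : Subgroup G) : Subgroup G := P ⊓ Subgroup.centralizer (P : Set G)

theorem mem_zc {P : Subgroup G} {z : G} : z ∈ zc P ↔ z ∈ P ∧ ∀ a ∈ P, a * z = z * a := by
  simp [zc, Subgroup.mem_inf, Subgroup.mem_centralizer_iff]

/-- `P` is a Sylow `p`-subgroup of order `p ^ n ≥ p ^ 3`, and `x ∈ P` has centralizer of order `p ^ 2`
in `P`. -/
structure Good (G : Type u) [Group G] (p n : ℕ) (P : Subgroup G) (x : G) : Prop where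
  three : 3 ≤ n
  card : Nat.card P = p ^ n
  top : ¬ p ^ (n + 1) ∣ Nat.card G
  mem : x ∈ P
  cent : Nat.card (P ⊓ Subgroup.centralizer {x} : Subgroup G) = p ^ 2

variable {P : Subgroup G} {x : G}

theorem Good.isP (h : Good G p n P x) : IsPGroup p P := IsPGroup.of_card h.card

theorem Good.not_mem_zc (h : Good G p n P x) : x ∉ zc P := fun hx => by
  have he : P ⊓ Subgroup.centralizer {x} = P := inf_eq_left.2 fun a ha =>
    Subgroup.mem_centralizer_singleton_iff.2 ((mem_zc.1 hx).2 a ha)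
  have := h.cent
  rw [he, h.card] at this
  have := Nat.pow_right_injective hp.out.two_le this
  have := h.three
  omega

theorem Good.zc_le_cent (h : Good G p n P x) : zc P ≤ P ⊓ Subgroup.centralizer {x} := fun z hz =>
  ⟨(mem_zc.1 hz).1, Subgroup.mem_centralizer_singleton_iff.2 ((mem_zc.1 hz).2 x h.mem).symm⟩

theorem Good.zc_card (h : Good G p n P x) : Nat.card (zc P) = p := by
  obtain ⟨k, hk2, hk⟩ := (Nat.dvd_prime_pow hp.out).1 (h.cent ▸ Subgroup.card_dvd_of_le h.zc_le_cent)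
  have hne : k ≠ 2 := fun e => h.not_mem_zc (by
    rw [Subgroup.eq_of_le_of_card_ge h.zc_le_cent (by rw [hk, h.cent, e])]
    exact ⟨h.mem, Subgroup.mem_centralizer_singleton_iff.2 rfl⟩)
  have hk0 : k ≠ 0 := fun e => by
    haveI : Nontrivial P := by
      refine Finite.one_lt_card_iff_nontrivial.1 ?_
      rw [h.card]; exact Nat.one_lt_pow (by have := h.three; omega) hp.out.one_lt
    obtain ⟨z, -, hz1, hz⟩ := exists_central h.isP (⊤ : Subgroup P) top_ne_bot
    have hm : (z : G) ∈ zc P := mem_zc.2 ⟨z.2, fun a ha => congrArg Subtype.val (hz ⟨a, ha⟩)⟩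
    rw [e, pow_zero] at hk
    rw [Subgroup.card_eq_one.1 hk, Subgroup.mem_bot] at hm
    exact hz1 (Subtype.ext hm)
  rw [hk, show k = 1 by omega, pow_one]

theorem Good.zc_le (h : Good G p n P x) {N : Subgroup G} (hN : ∀ a ∈ P, ∀ y ∈ N, a * y * a⁻¹ ∈ N)
    (hne : ∃ y ∈ N, y ∈ P ∧ y ≠ 1) : zc P ≤ N := by
  obtain ⟨y, hyN, hyP, hy1⟩ := hne
  haveI : (N.subgroupOf P).Normal := ⟨fun w hw a => hN a a.2 w hw⟩
  obtain ⟨z, hzN, hz1, hz⟩ := exists_central h.isP (N.subgroupOf P) fun e => hy1 (by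
    have : (⟨y, hyP⟩ : P) ∈ N.subgroupOf P := hyN
    rw [e, Subgroup.mem_bot] at this
    exact congrArg Subtype.val this)
  exact le_of_prime h.zc_card (mem_zc.2 ⟨z.2, fun a ha => congrArg Subtype.val (hz ⟨a, ha⟩)⟩) hzN
    fun e => hz1 (Subtype.ext e)

theorem Good.exists_comm_ne (h : Good G p n P x) : ∃ a ∈ P, ∃ b ∈ P, ⁅a, b⁆ ≠ 1 := by
  by_contra hh
  push Not at hh
  exact h.not_mem_zc (mem_zc.2 ⟨h.mem, fun a ha =>
    commutatorElement_eq_one_iff_mul_comm.1 (hh a ha x h.mem)⟩)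

theorem Good.le_centralizer_zc : P ≤ Subgroup.centralizer (zc P : Set G) := fun a ha =>
  Subgroup.mem_centralizer_iff.2 fun _ hz => ((mem_zc.1 hz).2 a ha).symm

/-- A `p ^ 3` in `C_G(x)` is centralized by `Z(P)` when some normal subgroup contains `Z(P)` but not `x`. -/
theorem Good.exists_R (h : Good G p n P x) {N : Subgroup G} (hN : N.Normal) (hzN : zc P ≤ N)
    (hxN : x ∉ N) (hd : p ^ 3 ∣ Nat.card (Subgroup.centralizer {x} : Subgroup G)) :
    ∃ R : Subgroup G, Nat.card R = p ^ 3 ∧ R ≤ Subgroup.centralizer {x} ∧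
      R ≤ Subgroup.centralizer (zc P : Set G) ∧ x ∈ R ∧ zc P ≤ R := by
  set E := P ⊓ Subgroup.centralizer {x} with hE
  set C := Subgroup.centralizer ({x} : Set G)
  have hEC : E ≤ C := inf_le_right
  obtain ⟨R', hR', hER'⟩ := Sylow.exists_subgroup_card_pow_succ (G := C) (n := 2) hd
    (H := E.subgroupOf C) (by rw [Nat.card_congr (Subgroup.subgroupOfEquivOfLe hEC).toEquiv, h.cent])
  set R := R'.map C.subtype with hRdef
  have hRc : Nat.card R = p ^ 3 := by
    rw [hRdef, Subgroup.card_map_of_injective C.subtype_injective, hR']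
  have hRC : R ≤ C := Subgroup.map_subtype_le _
  have hER : E ≤ R := fun e he => ⟨⟨e, hEC he⟩, hER' he, rfl⟩
  haveI hn1 : (E.subgroupOf R).Normal := by
    refine Subgroup.normal_of_index_eq_minFac_card ?_
    have := (E.subgroupOf R).card_mul_index
    rw [Nat.card_congr (Subgroup.subgroupOfEquivOfLe hER).toEquiv, h.cent, hRc, pow_succ p 2] at this
    rw [Nat.eq_of_mul_eq_mul_left (pow_pos hp.out.pos 2) this, hRc,
      Nat.pow_minFac (by norm_num), hp.out.minFac_eq]
  have hzE : zc P ≤ E := h.zc_le_cent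
  have hEN : E ⊓ N = zc P := by
    refine (Subgroup.eq_of_le_of_card_ge (le_inf hzE hzN) ?_).symm
    obtain ⟨k, hk2, hk⟩ := (Nat.dvd_prime_pow hp.out).1
      (h.cent ▸ Subgroup.card_dvd_of_le (inf_le_left : E ⊓ N ≤ E))
    rw [hk, h.zc_card]
    have : k ≠ 2 := fun e => hxN (by
      have := Subgroup.eq_of_le_of_card_ge (inf_le_left : E ⊓ N ≤ E) (by rw [hk, h.cent, e])
      exact (this.ge ⟨h.mem, Subgroup.mem_centralizer_singleton_iff.2 rfl⟩).2)
    calc p ^ k ≤ p ^ 1 := Nat.pow_le_pow_right hp.out.pos (by omega)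
      _ = p := pow_one p
  haveI : ((zc P).subgroupOf R).Normal := ⟨fun w hw r => by
    have h1 : (w : G) ∈ E ⊓ N := hEN.ge hw
    have h2 := hn1.conj_mem w (show w ∈ E.subgroupOf R from h1.1) r
    exact hEN.le ⟨h2, hN.conj_mem _ h1.2 (r : G)⟩⟩
  obtain ⟨z, hz, hz1, hzc⟩ := exists_central (IsPGroup.of_card hRc) ((zc P).subgroupOf R) fun e => by
    have h1 := Nat.card_congr (Subgroup.subgroupOfEquivOfLe (hzE.trans hER)).toEquiv
    rw [e, Subgroup.card_bot, h.zc_card] at h1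
    exact hp.out.ne_one h1.symm
  refine ⟨R, hRc, hRC, fun r hr => ?_, hER ⟨h.mem, Subgroup.mem_centralizer_singleton_iff.2 rfl⟩,
    hzE.trans hER⟩
  refine Subgroup.mem_centralizer_iff.2 fun y hy => ?_
  have hle : zc P ≤ Subgroup.centralizer {r} := le_of_prime h.zc_card (a := (z : G)) hz
    (Subgroup.mem_centralizer_singleton_iff.2 (congrArg Subtype.val (hzc ⟨r, hr⟩)).symm)
    fun e => hz1 (Subtype.ext e)
  exact Subgroup.mem_centralizer_singleton_iff.1 (hle hy)

/-- For `|P| = p ^ 3` there is no such subgroup. -/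
theorem Good.no_three (h : Good G p 3 P x) {R : Subgroup G} (hR : Nat.card R = p ^ 3)
    (hRx : R ≤ Subgroup.centralizer {x}) (hRz : R ≤ Subgroup.centralizer (zc P : Set G)) (hxR : x ∈ R)
    (hzR : zc P ≤ R) : False := by
  obtain ⟨g, hg⟩ := exists_conj hR h.card h.top
  set E := P ⊓ Subgroup.centralizer {x} with hE
  let c := (MulAut.conj g).toMonoidHom
  have hc : ∀ y : G, c y = g * y * g⁻¹ := fun y => rfl
  have hcen : ∀ y ∈ R, (∀ r ∈ R, r * y = y * r) → c y ∈ zc P := fun y hy hy' => by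
    refine mem_zc.2 ⟨(hg y).1 hy, fun a ha => ?_⟩
    have hr : g⁻¹ * a * g ∈ R := (hg _).2 (by simpa [mul_assoc] using ha)
    have := congrArg c (hy' _ hr)
    rw [map_mul, map_mul] at this
    simpa [hc, mul_assoc] using this
  have hsup : Subgroup.zpowers x ⊔ zc P ≤ (zc P).comap c := sup_le
    ((Subgroup.zpowers_le).2 (hcen x hxR fun r hr => Subgroup.mem_centralizer_singleton_iff.1 (hRx hr)))
    fun z hz => hcen z (hzR hz) fun r hr => ((Subgroup.mem_centralizer_iff.1 (hRz hr)) z hz).symm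
  have hcard : Nat.card ((zc P).comap c) = p := by
    rw [← Subgroup.card_map_of_injective (K := (zc P).comap c) (f := c) (show Function.Injective c from (MulAut.conj g).injective)]
    show Nat.card (((zc P).comap c).map c) = p
    rw [Subgroup.map_comap_eq_self_of_surjective (MulAut.conj g).surjective, h.zc_card]
  have : zc P = (zc P).comap c := Subgroup.eq_of_le_of_card_ge (le_sup_right.trans hsup)
    (by rw [hcard, h.zc_card])
  exact h.not_mem_zc (this ▸ hsup (Subgroup.mem_sup_left (Subgroup.mem_zpowers x)))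

/-! ### The quotient `C_G(Z(P)) / Z(P)` -/

/-- `C_G(Z(P))`. -/
abbrev hc (P : Subgroup G) : Subgroup G := Subgroup.centralizer (zc P : Set G)

instance zh_normal : ((zc P).subgroupOf (hc P)).Normal := ⟨fun w hw g => by
  have : g * w * g⁻¹ = w := by
    rw [mul_inv_eq_iff_eq_mul]
    exact Subtype.ext ((Subgroup.mem_centralizer_iff.1 g.2) _ hw).symm
  rwa [this]⟩

/-- `C_G(Z(P)) / Z(P)`. -/
abbrev Q (P : Subgroup G) := ↥(hc P) ⧸ (zc P).subgroupOf (hc P)

/-- The quotient map. -/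
abbrev q (P : Subgroup G) : ↥(hc P) →* Q P := QuotientGroup.mk' _

/-- The image of `P`. -/
abbrev pq (P : Subgroup G) : Subgroup (Q P) := (P.subgroupOf (hc P)).map (q P)

/-- The image of `x`. -/
abbrev xq (h : Good G p n P x) : Q P := q P ⟨x, Good.le_centralizer_zc h.mem⟩

theorem q_eq_one {w : ↥(hc P)} : q P w = 1 ↔ (w : G) ∈ zc P :=
  QuotientGroup.eq_one_iff w

theorem zc_le_hc (h : Good G p n P x) : zc P ≤ hc P := fun _ hz =>
  Good.le_centralizer_zc (mem_zc.1 hz).1

theorem card_comap_q (h : Good G p n P x) (A : Subgroup (Q P)) :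
    Nat.card (A.comap (q P)) = p * Nat.card A := by
  have h1 := ((zc P).subgroupOf (hc P)).card_mul_index
  have h2 := (A.comap (q P)).card_mul_index
  rw [Nat.card_congr (Subgroup.subgroupOfEquivOfLe (zc_le_hc h)).toEquiv, h.zc_card,
    Subgroup.index_eq_card] at h1
  rw [Subgroup.index_comap_of_surjective A (QuotientGroup.mk'_surjective _), ← h1,
    ← A.card_mul_index, ← Nat.mul_assoc] at h2
  exact Nat.eq_of_mul_eq_mul_right (Nat.pos_of_ne_zero A.index_ne_zero_of_finite) h2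

theorem comap_pq (h : Good G p n P x) : (pq P).comap (q P) = P.subgroupOf (hc P) := by
  rw [pq, Subgroup.comap_map_eq, QuotientGroup.ker_mk', sup_eq_left]
  exact fun w hw => (mem_zc.1 hw).1

theorem pq_card (h : Good G p n P x) : Nat.card (pq P) = p ^ (n - 1) := by
  have := card_comap_q h (pq P)
  rw [comap_pq h, Nat.card_congr (Subgroup.subgroupOfEquivOfLe Good.le_centralizer_zc).toEquiv,
    h.card, show n = n - 1 + 1 by have := h.three; omega, pow_succ'] at this
  exact (Nat.eq_of_mul_eq_mul_left hp.out.pos this).symm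

theorem q_top (h : Good G p n P x) : ¬ p ^ (n - 1 + 1) ∣ Nat.card (Q P) := fun hd => by
  refine h.top (dvd_trans ?_ (hc P).card_subgroup_dvd_card)
  have h1 := ((zc P).subgroupOf (hc P)).card_mul_index
  rw [Nat.card_congr (Subgroup.subgroupOfEquivOfLe (zc_le_hc h)).toEquiv, h.zc_card,
    Subgroup.index_eq_card] at h1
  rw [← h1, pow_succ']
  exact Nat.mul_dvd_mul_left _ (by rwa [show n - 1 + 1 = n by have := h.three; omega] at hd)

theorem Good.quot (h : Good G p n P x) (h4 : 4 ≤ n) : Good (Q P) p (n - 1) (pq P) (xq h) := by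
  set xb := xq h with hxb
  have hxm : xb ∈ pq P := ⟨_, show (⟨x, _⟩ : ↥(hc P)) ∈ P.subgroupOf (hc P) from h.mem, rfl⟩
  set D := pq P ⊓ Subgroup.centralizer {xb} with hD
  have hDP : ∀ w ∈ D.comap (q P), (w : G) ∈ P := fun w hw => (comap_pq h).le hw.1
  have hDc : ∀ w ∈ D.comap (q P), ⁅x, (w : G)⁆ ∈ zc P := fun w hw => by
    refine (q_eq_one (w := ⁅(⟨x, Good.le_centralizer_zc h.mem⟩ : ↥(hc P)), w⁆)).1 ?_
    rw [map_commutatorElement, commutatorElement_eq_one_iff_mul_comm]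
    exact (Subgroup.mem_centralizer_singleton_iff.1 hw.2).symm
  let φ : ↥(D.comap (q P)) →* ↥(zc P) := MonoidHom.mk'
    (fun w => ⟨⁅x, ((w : ↥(hc P)) : G)⁆, hDc w w.2⟩) (fun a b => Subtype.ext (by
      show ⁅x, (((a * b : ↥(D.comap (q P))) : ↥(hc P)) : G)⁆ = ⁅x, _⁆ * ⁅x, _⁆
      simp only [Subgroup.coe_mul]
      set a' := ((a : ↥(hc P)) : G)
      set b' := ((b : ↥(hc P)) : G)
      have hcomm : a' * ⁅x, b'⁆ = ⁅x, b'⁆ * a' :=
        ((Subgroup.mem_centralizer_iff.1 (a : ↥(hc P)).2) _ (hDc b b.2)).symm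
      calc ⁅x, a' * b'⁆ = ⁅x, a'⁆ * (a' * ⁅x, b'⁆) * a'⁻¹ := by
            simp only [commutatorElement_def]; group
        _ = ⁅x, a'⁆ * ⁅x, b'⁆ := by rw [hcomm]; group))
  have hker : Nat.card φ.ker ≤ p ^ 2 := by
    rw [← h.cent]
    refine Nat.card_le_card_of_injective (fun w => ⟨(((w : ↥(D.comap (q P))) : ↥(hc P)) : G),
      hDP _ w.1.2, Subgroup.mem_centralizer_singleton_iff.2
        (commutatorElement_eq_one_iff_mul_comm.1 (congrArg Subtype.val
          (MonoidHom.mem_ker.1 w.2))).symm⟩) fun a b e => ?_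
    have := congrArg Subtype.val e
    exact Subtype.ext (Subtype.ext (Subtype.ext this))
  have hup : Nat.card D ≤ p ^ 2 := by
    have h1 := φ.ker.card_mul_index
    rw [Subgroup.index_ker, card_comap_q h] at h1
    have h2 : Nat.card φ.range ≤ p := h.zc_card ▸ Subgroup.card_le_card_group _
    have : p * Nat.card D ≤ p * p ^ 2 := by
      rw [← h1, Nat.mul_comm p]; exact Nat.mul_le_mul hker h2
    exact Nat.le_of_mul_le_mul_left this hp.out.pos
  obtain ⟨k, hk⟩ := IsPGroup.iff_card.1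
    ((IsPGroup.of_card (pq_card h)).to_le (inf_le_left : D ≤ pq P))
  refine ⟨by omega, pq_card h, q_top h, hxm, ?_⟩
  rw [hk] at hup ⊢
  have hk2 : k ≤ 2 := (Nat.pow_le_pow_iff_right hp.out.one_lt).1 hup
  have hxz : xb ∉ zc (pq P) := fun hz => by
    have he : D = pq P := inf_eq_left.2 fun a ha =>
      Subgroup.mem_centralizer_singleton_iff.2 ((mem_zc.1 hz).2 a ha)
    have hk : Nat.card D = p ^ k := hk
    rw [he, pq_card h] at hk
    have := Nat.pow_right_injective hp.out.two_le hk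
    omega
  have hzD : zc (pq P) ≤ D := fun z hz =>
    ⟨(mem_zc.1 hz).1, Subgroup.mem_centralizer_singleton_iff.2 ((mem_zc.1 hz).2 _ hxm).symm⟩
  haveI : Nontrivial (pq P) := by
    refine Finite.one_lt_card_iff_nontrivial.1 ?_
    rw [pq_card h]; exact Nat.one_lt_pow (by omega) hp.out.one_lt
  obtain ⟨z, -, hz1, hz⟩ := exists_central (IsPGroup.of_card (pq_card h)) (⊤ : Subgroup (pq P))
    top_ne_bot
  have hzm : (z : Q P) ∈ zc (pq P) :=
    mem_zc.2 ⟨z.2, fun a ha => congrArg Subtype.val (hz ⟨a, ha⟩)⟩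
  obtain ⟨j, hjk, hj⟩ := (Nat.dvd_prime_pow hp.out).1 (hk ▸ Subgroup.card_dvd_of_le hzD)
  have hj0 : j ≠ 0 := fun e => hz1 (Subtype.ext (by
    rw [e, pow_zero] at hj
    rwa [Subgroup.card_eq_one.1 hj, Subgroup.mem_bot] at hzm))
  have hjne : j ≠ k := fun e => hxz (by
    rw [Subgroup.eq_of_le_of_card_ge hzD (by rw [hj, hk, e])]
    exact ⟨hxm, Subgroup.mem_centralizer_singleton_iff.2 rfl⟩)
  rw [show k = 2 by omega]

/-- Such a subgroup makes the `p`-part of the centralizer grow in the quotient. -/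
theorem Good.step (h : Good G p n P x) (h4 : 4 ≤ n) {R : Subgroup G} (hR : Nat.card R = p ^ 3)
    (hRx : R ≤ Subgroup.centralizer {x}) (hRz : R ≤ hc P) (hzR : zc P ≤ R) :
    p ^ 3 ∣ Nat.card (Subgroup.centralizer {xq h} : Subgroup (Q P)) := by
  by_contra hno
  set C := Subgroup.centralizer ({xq h} : Set (Q P))
  have hq := h.quot h4
  set D := pq P ⊓ C with hD
  set Rb := (R.subgroupOf (hc P)).map (q P) with hRb
  have hRbC : Rb ≤ C := by
    rintro _ ⟨r, hr, rfl⟩
    refine Subgroup.mem_centralizer_singleton_iff.2 ?_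
    rw [xq, ← map_mul, ← map_mul]
    exact congrArg (q P) (Subtype.ext (Subgroup.mem_centralizer_singleton_iff.1 (hRx hr)))
  have hRbcomap : Rb.comap (q P) = R.subgroupOf (hc P) := by
    rw [hRb, Subgroup.comap_map_eq, QuotientGroup.ker_mk', sup_eq_left]
    exact fun w hw => hzR hw
  have hRbcard : Nat.card Rb = p ^ 2 := by
    have := card_comap_q h Rb
    rw [hRbcomap, Nat.card_congr (Subgroup.subgroupOfEquivOfLe hRz).toEquiv, hR, pow_succ'] at this
    exact (Nat.eq_of_mul_eq_mul_left hp.out.pos this).symm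
  obtain ⟨g, hg⟩ := exists_conj (G := C) (A := Rb.subgroupOf C) (B := D.subgroupOf C) (m := 2)
    (by rw [Nat.card_congr (Subgroup.subgroupOfEquivOfLe hRbC).toEquiv, hRbcard])
    (by rw [Nat.card_congr (Subgroup.subgroupOfEquivOfLe inf_le_right).toEquiv, hq.cent]) hno
  obtain ⟨γ, hγ⟩ := QuotientGroup.mk'_surjective ((zc P).subgroupOf (hc P)) (g : Q P)
  -- the lift moves `x` inside `x Z(P)`
  have hx' : ∃ z ∈ zc P, (γ : G) * x * (γ : G)⁻¹ = z * x := by
    refine ⟨(γ : G) * x * (γ : G)⁻¹ * x⁻¹, ?_, by group⟩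
    refine (q_eq_one (w := γ * ⟨x, Good.le_centralizer_zc h.mem⟩ * γ⁻¹ *
      (⟨x, Good.le_centralizer_zc h.mem⟩ : ↥(hc P))⁻¹)).1 ?_
    rw [map_mul, map_mul, map_mul, map_inv, map_inv, hγ]
    rw [show (g : Q P) * xq h = xq h * g from Subgroup.mem_centralizer_singleton_iff.1 g.2]
    show xq h * (g : Q P) * (g : Q P)⁻¹ * (xq h)⁻¹ = 1
    group
  obtain ⟨z, hz, hxz⟩ := hx'
  have hall : ∀ w ∈ D.comap (q P), (w : G) ∈ P ⊓ Subgroup.centralizer {x} := fun w hw => by
    refine ⟨(comap_pq h).le hw.1, Subgroup.mem_centralizer_singleton_iff.2 ?_⟩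
    have hin : γ⁻¹ * w * γ ∈ R.subgroupOf (hc P) := by
      rw [← hRbcomap, Subgroup.mem_comap, map_mul, map_mul, map_inv, hγ]
      have hmem : (g : Q P)⁻¹ * q P w * g ∈ C := mul_mem (mul_mem (inv_mem g.2) hw.2) g.2
      exact (hg ⟨_, hmem⟩).2 (show (g : Q P) * ((g : Q P)⁻¹ * q P w * g) * (g : Q P)⁻¹ ∈ D by
        simpa [mul_assoc] using hw)
    have h1 : ((γ : G)⁻¹ * w * γ) * x = x * ((γ : G)⁻¹ * w * γ) :=
      Subgroup.mem_centralizer_singleton_iff.1 (hRx hin)
    have h2 : (w : G) * (z * x) = z * x * w := by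
      rw [← hxz]
      calc (w : G) * ((γ : G) * x * (γ : G)⁻¹)
          = γ * (((γ : G)⁻¹ * w * γ) * x) * (γ : G)⁻¹ := by group
        _ = _ := by rw [h1]; group
    rw [← mul_assoc, ← (Subgroup.mem_centralizer_iff.1 w.2) z hz, mul_assoc, mul_assoc] at h2
    exact mul_left_cancel h2
  have hle : Nat.card (D.comap (q P)) ≤ p ^ 2 := by
    rw [← h.cent]
    exact Nat.card_le_card_of_injective (fun w => ⟨((w : ↥(hc P)) : G), hall w w.2⟩)
      fun a b e => Subtype.ext (Subtype.ext (congrArg (fun u : ↥(P ⊓ Subgroup.centralizer {x}) => (u : G)) e))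
  rw [card_comap_q h, hq.cent] at hle
  have := hp.out.two_le
  nlinarith [pow_pos hp.out.pos 2]

theorem xq_not_mem (h : Good G p n P x) {K : Subgroup G} (hK : zc P ≤ K) (hx : x ∉ K) :
    xq h ∉ (K.subgroupOf (hc P)).map (q P) := by
  rintro ⟨k, hk, he⟩
  refine hx ?_
  have h1 : q P (k⁻¹ * ⟨x, Good.le_centralizer_zc h.mem⟩) = 1 := by
    rw [map_mul, map_inv, he]; exact inv_mul_cancel _
  have h2 := hK (q_eq_one.1 h1)
  simpa using mul_mem (show (k : G) ∈ K from hk) h2

/-- The inductive step. -/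
theorem contra_R (hM : 4 ≤ n → ∀ {G' : Type u} [Group G'] [Finite G'] {P' : Subgroup G'} {x' : G'},
      Good G' p (n - 1) P' x' → ∀ N : Subgroup G', N.Normal →
      (∀ a ∈ P', ∀ b ∈ P', ⁅a, b⁆ ∈ N) → x' ∉ N →
      ¬ p ^ 3 ∣ Nat.card (Subgroup.centralizer {x'} : Subgroup G'))
    (h : Good G p n P x) {R : Subgroup G} (hR : Nat.card R = p ^ 3)
    (hRx : R ≤ Subgroup.centralizer {x}) (hRz : R ≤ hc P) (hxR : x ∈ R) (hzR : zc P ≤ R)
    (K : Subgroup G) (hKn : ∀ g ∈ hc P, ∀ y ∈ K, g * y * g⁻¹ ∈ K)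
    (hKc : ∀ a ∈ P, ∀ b ∈ P, ⁅a, b⁆ ∈ K) (hxK : x ∉ K) : False := by
  rcases eq_or_lt_of_le h.three with e | h4
  · subst e; exact h.no_three hR hRx hRz hxR hzR
  obtain ⟨a, ha, b, hb, hab⟩ := h.exists_comm_ne
  have hzK : zc P ≤ K := h.zc_le (fun c hc' => hKn c (Good.le_centralizer_zc hc'))
    ⟨_, hKc a ha b hb, by
      rw [commutatorElement_def]
      exact mul_mem (mul_mem (mul_mem ha hb) (inv_mem ha)) (inv_mem hb), hab⟩
  haveI : (K.subgroupOf (hc P)).Normal := ⟨fun w hw g => hKn g g.2 w hw⟩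
  refine hM (by omega) (h.quot (by omega)) ((K.subgroupOf (hc P)).map (q P))
    (Subgroup.Normal.map inferInstance (q P) (QuotientGroup.mk'_surjective _)) ?_
    (xq_not_mem h hzK hxK) (h.step (by omega) hR hRx hRz hzR)
  rintro _ ⟨a, ha, rfl⟩ _ ⟨b, hb, rfl⟩
  rw [← map_commutatorElement]
  exact ⟨_, hKc a ha b hb, rfl⟩

theorem not_dvd : ∀ (n : ℕ) {G : Type u} [Group G] [Finite G] {P : Subgroup G} {x : G},
    Good G p n P x → ∀ N : Subgroup G, N.Normal → (∀ a ∈ P, ∀ b ∈ P, ⁅a, b⁆ ∈ N) → x ∉ N →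
      ¬ p ^ 3 ∣ Nat.card (Subgroup.centralizer {x} : Subgroup G) := by
  intro n
  induction n using Nat.strong_induction_on with
  | _ n ih =>
    intro G _ _ P x h N hN hNc hxN hd
    obtain ⟨a, ha, b, hb, hab⟩ := h.exists_comm_ne
    have hzN : zc P ≤ N := h.zc_le (fun c _ y hy => hN.conj_mem y hy c)
      ⟨_, hNc a ha b hb, by
        rw [commutatorElement_def]
        exact mul_mem (mul_mem (mul_mem ha hb) (inv_mem ha)) (inv_mem hb), hab⟩
    obtain ⟨R, hR, hRx, hRz, hxR, hzR⟩ := h.exists_R hN hzN hxN hd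
    exact contra_R (fun h4 => ih (n - 1) (by omega)) h hR hRx hRz hxR hzR N
      (fun g _ y hy => hN.conj_mem y hy g) hNc hxN

/-- **Main step.** -/
theorem Good.mem_normal (h : Good G p n P x)
    (hd : p ^ 3 ∣ Nat.card (Subgroup.centralizer {x} : Subgroup G)) (N : Subgroup G) (hN : N.Normal)
    (hbig : ¬ N ⊓ P ≤ zc P) : x ∈ N := by
  by_contra hxN
  obtain ⟨y, ⟨hyN, hyP⟩, hyz⟩ := SetLike.not_le_iff_exists.1 hbig
  have hzN : zc P ≤ N := h.zc_le (fun c _ w hw => hN.conj_mem w hw c)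
    ⟨y, hyN, hyP, fun e => hyz (e ▸ one_mem _)⟩
  obtain ⟨R, hR, hRx, hRz, hxR, hzR⟩ := h.exists_R hN hzN hxN hd
  rcases eq_or_lt_of_le h.three with e | h4
  · subst e; exact h.no_three hR hRx hRz hxR hzR
  have h4' : 4 ≤ n := h4
  have hq := h.quot h4'
  have hd' := h.step h4' hR hRx hRz hzR
  haveI : (N.subgroupOf (hc P)).Normal := hN.subgroupOf _
  have hNb : ((N.subgroupOf (hc P)).map (q P)).Normal :=
    Subgroup.Normal.map inferInstance (q P) (QuotientGroup.mk'_surjective _)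
  have hzNb : zc (pq P) ≤ (N.subgroupOf (hc P)).map (q P) :=
    hq.zc_le (fun c _ w hw => hNb.conj_mem w hw c)
      ⟨q P ⟨y, Good.le_centralizer_zc hyP⟩, ⟨_, hyN, rfl⟩, ⟨_, hyP, rfl⟩, fun e =>
        hyz (q_eq_one.1 e)⟩
  obtain ⟨R', hR', hR'x, hR'z, hxR', hzR'⟩ := hq.exists_R hNb hzNb (xq_not_mem h hzN hxN) hd'
  -- the centralizer of the second centre
  set W := (zc (pq P)).comap (q P) with hW
  set Kh := Subgroup.centralizer (W : Set ↥(hc P)) with hKh
  have hWc : Nat.card W = p ^ 2 := by rw [hW, card_comap_q h, hq.zc_card, sq]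
  have hWcomm : W ≤ Kh := fun a ha => Subgroup.mem_centralizer_iff.2 fun b hb =>
    congrArg Subtype.val (IsPGroup.commutative_of_card_eq_prime_sq hWc ⟨b, hb⟩ ⟨a, ha⟩)
  have hWP : ∀ w ∈ W, (w : G) ∈ P := fun w hw => (comap_pq h).le (mem_zc.1 hw).1
  have hxKh : (⟨x, Good.le_centralizer_zc h.mem⟩ : ↥(hc P)) ∉ Kh := fun hK => by
    have hle : W.map (hc P).subtype ≤ P ⊓ Subgroup.centralizer {x} := by
      rintro _ ⟨w, hw, rfl⟩
      exact ⟨hWP w hw, Subgroup.mem_centralizer_singleton_iff.2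
        (congrArg Subtype.val (Subgroup.mem_centralizer_iff.1 hK w hw))⟩
    have heq := Subgroup.eq_of_le_of_card_ge hle (by
      rw [h.cent, Subgroup.card_map_of_injective (hc P).subtype_injective, hWc])
    obtain ⟨w, hw, hwx⟩ := heq.ge ⟨h.mem, Subgroup.mem_centralizer_singleton_iff.2 rfl⟩
    refine hq.not_mem_zc ?_
    show q P ⟨x, _⟩ ∈ _
    rw [show (⟨x, _⟩ : ↥(hc P)) = w from Subtype.ext hwx.symm]
    exact hw
  have hkerW : ((zc P).subgroupOf (hc P)) ≤ W := fun w hw => by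
    show q P w ∈ zc (pq P)
    rw [q_eq_one.2 hw]; exact one_mem _
  refine contra_R (fun h4 => @not_dvd p hp (n - 1 - 1)) hq hR' hR'x hR'z hxR' hzR' (Kh.map (q P))
    ?_ ?_ ?_
  · intro g hg k hk
    obtain ⟨g', rfl⟩ := QuotientGroup.mk'_surjective _ g
    obtain ⟨k', hk', rfl⟩ := hk
    refine ⟨g' * k' * g'⁻¹, Subgroup.mem_centralizer_iff.2 fun w hw => ?_,
      by rw [map_mul, map_mul, map_inv]⟩
    have hw' : g'⁻¹ * w * g' ∈ W := by
      show q P _ ∈ zc (pq P)
      rw [map_mul, map_mul, map_inv, mul_assoc,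
        (Subgroup.mem_centralizer_iff.1 hg) _ hw, inv_mul_cancel_left]
      exact hw
    have := Subgroup.mem_centralizer_iff.1 hk' _ hw'
    calc w * (g' * k' * g'⁻¹) = g' * ((g'⁻¹ * w * g') * k') * g'⁻¹ := by group
      _ = g' * (k' * (g'⁻¹ * w * g')) * g'⁻¹ := by rw [this]
      _ = g' * k' * g'⁻¹ * w := by group
  · rintro _ ⟨a, ha, rfl⟩ _ ⟨b, hb, rfl⟩
    rw [← map_commutatorElement]
    refine ⟨_, Subgroup.mem_centralizer_iff.2 fun w hw => ?_, rfl⟩
    have hu : ∀ c : ↥(hc P), (c : G) ∈ P → ∀ v ∈ W, c * v * c⁻¹ * v⁻¹ ∈ (zc P).subgroupOf (hc P) :=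
      fun c hc' v hv => by
      refine (q_eq_one (w := c * v * c⁻¹ * v⁻¹)).1 ?_
      rw [map_mul, map_mul, map_mul, map_inv, map_inv,
        (mem_zc.1 (show q P v ∈ zc (pq P) from hv)).2 _ ⟨c, hc', rfl⟩, mul_inv_cancel_right,
        mul_inv_cancel]
    have hzz : ∀ u ∈ (zc P).subgroupOf (hc P), ∀ c : ↥(hc P), c * u = u * c := fun u hu c =>
      Subtype.ext (((Subgroup.mem_centralizer_iff.1 c.2) _ hu).symm)
    have hA : ∀ c d : ↥(hc P), (c : G) ∈ P → (d : G) ∈ P →
        c * d * w * (c * d)⁻¹ = (d * w * d⁻¹ * w⁻¹) * (c * w * c⁻¹ * w⁻¹) * w := fun c d hc' hd => by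
      calc c * d * w * (c * d)⁻¹ = c * (d * w * d⁻¹ * w⁻¹) * w * c⁻¹ := by group
        _ = (d * w * d⁻¹ * w⁻¹) * c * w * c⁻¹ := by rw [hzz _ (hu d hd w hw) c]
        _ = _ := by group
    have heq : a * b * w * (a * b)⁻¹ = b * a * w * (b * a)⁻¹ := by
      rw [hA a b ha hb, hA b a hb ha, hzz _ (hu a ha w hw) (b * w * b⁻¹ * w⁻¹)]
    have hcm : ((b * a)⁻¹ * (a * b)) * w = w * ((b * a)⁻¹ * (a * b)) := by
      calc ((b * a)⁻¹ * (a * b)) * w = (b * a)⁻¹ * (a * b * w * (a * b)⁻¹) * (a * b) := by group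
        _ = _ := by rw [heq]; group
    -- apply the same to the conjugate of `w`
    have hconj : ∀ w ∈ W, (b * a)⁻¹ * w * (b * a) ∈ W := fun w hw => by
      show q P _ ∈ zc (pq P)
      have hba : q P (b * a) ∈ pq P := ⟨_, mul_mem hb ha, rfl⟩
      rw [map_mul, map_mul, map_inv, mul_assoc,
        ← (mem_zc.1 (show q P w ∈ zc (pq P) from hw)).2 _ hba, inv_mul_cancel_left]
      exact hw
    clear hcm heq hA
    have key : ∀ v ∈ W, ((b * a)⁻¹ * (a * b)) * v = v * ((b * a)⁻¹ * (a * b)) := fun v hv => by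
      have hA : ∀ c d : ↥(hc P), (c : G) ∈ P → (d : G) ∈ P →
          c * d * v * (c * d)⁻¹ = (d * v * d⁻¹ * v⁻¹) * (c * v * c⁻¹ * v⁻¹) * v := fun c d hc' hd => by
        calc c * d * v * (c * d)⁻¹ = c * (d * v * d⁻¹ * v⁻¹) * v * c⁻¹ := by group
          _ = (d * v * d⁻¹ * v⁻¹) * c * v * c⁻¹ := by rw [hzz _ (hu d hd v hv) c]
          _ = _ := by group
      have heq : a * b * v * (a * b)⁻¹ = b * a * v * (b * a)⁻¹ := by
        rw [hA a b ha hb, hA b a hb ha, hzz _ (hu a ha v hv) (b * v * b⁻¹ * v⁻¹)]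
      calc ((b * a)⁻¹ * (a * b)) * v = (b * a)⁻¹ * (a * b * v * (a * b)⁻¹) * (a * b) := by group
        _ = _ := by rw [heq]; group
    have hk := key _ (hconj w hw)
    rw [commutatorElement_def]
    calc w * (a * b * a⁻¹ * b⁻¹)
        = (b * a) * (((b * a)⁻¹ * w * (b * a)) * ((b * a)⁻¹ * (a * b))) * (b * a)⁻¹ := by group
      _ = (b * a) * (((b * a)⁻¹ * (a * b)) * ((b * a)⁻¹ * w * (b * a))) * (b * a)⁻¹ := by rw [hk]
      _ = _ := by group
  · rintro ⟨k, hk, he⟩
    refine hxKh ?_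
    have h1 : k⁻¹ * (⟨x, Good.le_centralizer_zc h.mem⟩ : ↥(hc P)) ∈ W := by
      refine hkerW ((q_eq_one (w := k⁻¹ * (⟨x, Good.le_centralizer_zc h.mem⟩ : ↥(hc P)))).1 ?_)
      rw [map_mul, map_inv, he]; exact inv_mul_cancel _
    simpa using mul_mem hk (hWcomm h1)

/-! ### Normal subgroups meeting `P` in its centre -/

theorem eq_zc (h : Good G p n P x)
    (hcore : ∀ K : Subgroup G, K.Normal → ¬ p ∣ Nat.card K → K = ⊥)
    (N : Subgroup G) [N.Normal] (hNP : N ⊓ P = zc P) : N = zc P := by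
  have hzN : zc P ≤ N := hNP ▸ inf_le_left
  have hp2 : ¬ p ^ 2 ∣ Nat.card N := fun hd => by
    have h1 := ((N.subgroupOf P)).card_mul_index
    have hsub : Nat.card (N.subgroupOf P) = p := by
      rw [← Subgroup.card_map_of_injective (K := N.subgroupOf P) P.subtype_injective,
        Subgroup.subgroupOf_map_subtype, hNP, h.zc_card]
    rw [hsub, h.card, ← Subgroup.relIndex, show n = n - 1 + 1 by have := h.three; omega,
      pow_succ'] at h1
    have h2 : p ^ (n - 1) ∣ N.index :=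
      Nat.eq_of_mul_eq_mul_left hp.out.pos h1 ▸ Subgroup.relIndex_dvd_index_of_normal N P
    refine h.top ?_
    rw [← N.card_mul_index, show n + 1 = 2 + (n - 1) by have := h.three; omega, pow_add]
    exact Nat.mul_dvd_mul hd h2
  have hsyl : ∀ M : Subgroup G, M ≤ N → zc P ≤ M →
      ∃ S : Sylow p M, (S : Subgroup M) = (zc P).subgroupOf M := fun M hMN hzM => by
    have hc' : Nat.card ((zc P).subgroupOf M) = p ^ (Nat.card M).factorization p := by
      rw [Nat.card_congr (Subgroup.subgroupOfEquivOfLe hzM).toEquiv, h.zc_card]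
      have h1 : 1 ≤ (Nat.card M).factorization p :=
        (hp.out.dvd_iff_one_le_factorization Nat.card_pos.ne').1
          (h.zc_card ▸ Subgroup.card_dvd_of_le hzM)
      have h2 : (Nat.card M).factorization p < 2 := by
        by_contra hh
        exact hp2 (((pow_dvd_pow p (not_lt.1 hh)).trans (Nat.ordProj_dvd _ p)).trans
          (Subgroup.card_dvd_of_le hMN))
      rw [show (Nat.card M).factorization p = 1 by omega, pow_one]
    exact ⟨Sylow.ofCard _ hc', rfl⟩
  haveI : IsCyclic (zc P) := isCyclic_of_prime_card h.zc_card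
  by_cases hcase : ∀ t ∈ N, (∀ z ∈ zc P, t * z * t⁻¹ ∈ zc P) → ∀ z ∈ zc P, t * z = z * t
  · obtain ⟨S, hS⟩ := hsyl N le_rfl hzN
    have hle : Subgroup.normalizer (S : Set N) ≤ Subgroup.centralizer (S : Set N) := by
      intro t ht
      refine Subgroup.mem_centralizer_iff.2 fun z hz => Subtype.ext ?_
      have hmem : ∀ z : N, z ∈ (S : Subgroup N) ↔ (z : G) ∈ zc P := fun z => by rw [hS]; rfl
      refine (hcase t t.2 (fun w hw => ?_) _ ((hmem z).1 hz)).symm
      exact (hmem (t * ⟨w, hzN hw⟩ * t⁻¹)).1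
        ((Subgroup.mem_normalizer_iff.1 ht ⟨w, hzN hw⟩).1 ((hmem _).2 hw))
    set τ := MonoidHom.transferSylow S hle
    have hnd := MonoidHom.not_dvd_card_ker_transferSylow S hle
    have hKn : (τ.ker.map N.subtype).Normal := by
      refine ⟨?_⟩
      rintro _ ⟨k, hk, rfl⟩ g
      refine ⟨⟨g * k * g⁻¹, Subgroup.Normal.conj_mem inferInstance _ k.2 g⟩, ?_, rfl⟩
      set k' : N := ⟨g * k * g⁻¹, _⟩
      have hord : orderOf k' = orderOf k := by
        rw [← Subgroup.orderOf_coe, ← Subgroup.orderOf_coe]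
        exact ((SemiconjBy.conj_mk g (k : G)).orderOf_eq g).symm
      refine MonoidHom.mem_ker.2 ?_
      obtain ⟨j, hj⟩ := IsPGroup.iff_orderOf.1 S.isPGroup' (τ k')
      have h1 : orderOf (τ k') ∣ Nat.card τ.ker :=
        (orderOf_map_dvd τ k').trans (hord ▸ (Subgroup.orderOf_dvd_natCard _ hk))
      rcases Nat.eq_zero_or_pos j with rfl | hj0
      · exact orderOf_eq_one_iff.1 (by simpa using hj)
      · exact absurd ((dvd_pow_self p hj0.ne').trans (hj ▸ h1)) hnd
    have hbot := hcore _ hKn (by rwa [Subgroup.card_map_of_injective N.subtype_injective])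
    have hker : τ.ker = ⊥ := (Subgroup.map_eq_bot_iff_of_injective _ N.subtype_injective).1 hbot
    have hinj : Function.Injective τ := (MonoidHom.ker_eq_bot_iff τ).1 hker
    refine (Subgroup.eq_of_le_of_card_ge hzN ?_).symm
    refine (Nat.card_le_card_of_injective _ hinj).trans ?_
    rw [hS, Nat.card_congr (Subgroup.subgroupOfEquivOfLe hzN).toEquiv]
  · exfalso
    push Not at hcase
    obtain ⟨t, htN, ht, z₀, hz₀, hne⟩ := hcase
    set M := N ⊓ hc P with hM
    have hzM : zc P ≤ M := le_inf hzN (zc_le_hc h)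
    obtain ⟨S, hS⟩ := hsyl M inf_le_left hzM
    have hmem : ∀ z : M, z ∈ (S : Subgroup M) ↔ (z : G) ∈ zc P := fun z => by rw [hS]; rfl
    have hle : Subgroup.normalizer (S : Set M) ≤ Subgroup.centralizer (S : Set M) := fun m _ =>
      Subgroup.mem_centralizer_iff.2 fun z hz =>
        Subtype.ext ((Subgroup.mem_centralizer_iff.1 m.2.2) _ ((hmem z).1 hz))
    set τ := MonoidHom.transferSylow S hle
    have hnd := MonoidHom.not_dvd_card_ker_transferSylow S hle
    have hconjM : ∀ a ∈ P, ∀ y ∈ M, a * y * a⁻¹ ∈ M := fun a ha y hy =>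
      Subgroup.mem_inf.2 ⟨Subgroup.Normal.conj_mem inferInstance _ hy.1 a,
        mul_mem (mul_mem (Good.le_centralizer_zc (P := P) ha) hy.2)
          (inv_mem (show a ∈ hc P from Good.le_centralizer_zc (P := P) ha))⟩
    have hinv : ∀ (a : G) (ha : a ∈ P) (y : M),
        τ ⟨a * y * a⁻¹, hconjM a ha y y.2⟩ = τ y := fun a ha y => by
      obtain ⟨⟨k, s⟩, hks⟩ := (MonoidHom.ker_transferSylow_isComplement' S hle).2 y
      simp only at hks
      have hs : (s : M) = ⟨a * (s : M) * a⁻¹, hconjM a ha _ (s : M).2⟩ := Subtype.ext (by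
        show ((s : M) : G) = _
        exact eq_mul_inv_of_mul_eq ((mem_zc.1 ((hmem _).1 s.2)).2 a ha).symm)
      have hsplit : (⟨a * y * a⁻¹, hconjM a ha y y.2⟩ : M) =
          ⟨a * (k : M) * a⁻¹, hconjM a ha _ (k : M).2⟩ * (s : M) := by
        rw [hs]
        apply Subtype.ext
        show a * (y : G) * a⁻¹ = a * _ * a⁻¹ * (a * _ * a⁻¹)
        rw [← hks]
        simp only [Subgroup.coe_mul]
        group
      rw [hsplit, map_mul, ← hks, map_mul, MonoidHom.mem_ker.1 k.2]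
      congr 1
      obtain ⟨j, hj⟩ := IsPGroup.iff_orderOf.1 S.isPGroup'
        (τ ⟨a * (k : M) * a⁻¹, hconjM a ha _ (k : M).2⟩)
      have hord : orderOf (⟨a * (k : M) * a⁻¹, hconjM a ha _ (k : M).2⟩ : M) = orderOf (k : M) := by
        rw [← Subgroup.orderOf_coe, ← Subgroup.orderOf_coe]
        exact ((SemiconjBy.conj_mk a ((k : M) : G)).orderOf_eq a).symm
      have h1 : orderOf (τ ⟨a * (k : M) * a⁻¹, hconjM a ha _ (k : M).2⟩) ∣ Nat.card τ.ker :=
        (orderOf_map_dvd τ _).trans (hord ▸ (Subgroup.orderOf_dvd_natCard _ k.2))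
      rcases Nat.eq_zero_or_pos j with rfl | hj0
      · exact orderOf_eq_one_iff.1 (by simpa using hj)
      · exact absurd ((dvd_pow_self p hj0.ne').trans (hj ▸ h1)) hnd
    have hct : ∀ a ∈ P, ⁅a, t⁆ ∈ M := fun a ha => by
      refine Subgroup.mem_inf.2 ⟨?_, ?_⟩
      · rw [commutatorElement_def]
        exact mul_mem (Subgroup.Normal.conj_mem inferInstance _ htN a) (inv_mem htN)
      refine Subgroup.mem_centralizer_iff.2 fun z hz => ?_
      have ht' : t⁻¹ * z * t ∈ zc P := by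
        have hinjf : Function.Injective (fun w : zc P => (⟨t * w * t⁻¹, ht w w.2⟩ : zc P)) :=
          fun u v e => Subtype.ext (by simpa using congrArg Subtype.val e)
        obtain ⟨w, hw⟩ := (Finite.injective_iff_surjective.1 hinjf) ⟨z, hz⟩
        have hw' : t * (w : G) * t⁻¹ = z := congrArg Subtype.val hw
        rw [← hw']; simp [mul_assoc]
      have e1 := (mem_zc.1 ht').2 a ha
      have e2 := (mem_zc.1 hz).2 a ha
      rw [commutatorElement_def]
      calc z * (a * t * a⁻¹ * t⁻¹) = (z * a) * t * a⁻¹ * t⁻¹ := by group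
        _ = a * (z * t) * a⁻¹ * t⁻¹ := by rw [← e2]; group
        _ = a * t * ((t⁻¹ * z * t) * a⁻¹) * t⁻¹ := by group
        _ = a * t * (a⁻¹ * (t⁻¹ * z * t)) * t⁻¹ := by
              congr 2
              rw [eq_inv_mul_iff_mul_eq, ← mul_assoc, e1, mul_inv_cancel_right]
        _ = _ := by group
    let f : P →* (S : Subgroup M) := MonoidHom.mk'
      (fun a => τ ⟨⁅(a : G), t⁆, hct a a.2⟩) (fun a b => by
        haveI : IsMulCommutative (S : Subgroup M) :=
          ⟨⟨fun u v => Subtype.ext (hle (Subgroup.le_normalizer v.2) u u.2)⟩⟩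
        have : (⟨⁅((a * b : P) : G), t⁆, hct _ (a * b).2⟩ : M) =
            ⟨(a : G) * ⁅(b : G), t⁆ * (a : G)⁻¹, hconjM a a.2 _ (hct b b.2)⟩ *
              ⟨⁅(a : G), t⁆, hct a a.2⟩ := Subtype.ext (by
          simp only [Subgroup.coe_mul, commutatorElement_def]; group)
        rw [this, map_mul, hinv a a.2 ⟨⁅(b : G), t⁆, hct b b.2⟩]
        exact IsMulCommutative.is_comm.comm _ _)
    have hcomm : commutator P ≤ f.ker := by
      rw [commutator_def, Subgroup.commutator_le]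
      intro u _ v _
      rw [MonoidHom.mem_ker, map_commutatorElement, commutatorElement_eq_one_iff_mul_comm]
      exact Subtype.ext (hle (Subgroup.le_normalizer (f v).2) (f u) (f u).2)
    obtain ⟨a, ha, b, hb, hab⟩ := h.exists_comm_ne
    obtain ⟨w, hw, hw1, hwc⟩ := exists_central h.isP (commutator P) fun e => hab (by
      have := Subgroup.commutator_mem_commutator (Subgroup.mem_top (⟨a, ha⟩ : P))
        (Subgroup.mem_top (⟨b, hb⟩ : P))
      rw [← commutator_def, e, Subgroup.mem_bot] at this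
      exact congrArg Subtype.val this)
    have hwz : (w : G) ∈ zc P :=
      mem_zc.2 ⟨w.2, fun c hc' => congrArg Subtype.val (hwc ⟨c, hc'⟩)⟩
    have hin : ⁅(w : G), t⁆ ∈ zc P := by
      rw [commutatorElement_def, show (w : G) * t * (w : G)⁻¹ * t⁻¹ = w * (t * (w : G)⁻¹ * t⁻¹) by group]
      exact mul_mem hwz (ht _ (inv_mem hwz))
    have h0 : τ ⟨⁅(w : G), t⁆, hct w w.2⟩ = 1 := MonoidHom.mem_ker.1 (hcomm hw)
    have hdis := MonoidHom.ker_transferSylow_disjoint S hle (S : Subgroup M) S.isPGroup'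
    have h1 : (⟨⁅(w : G), t⁆, hct w w.2⟩ : M) = 1 :=
      Subgroup.disjoint_def.1 hdis (MonoidHom.mem_ker.2 h0) ((hmem _).2 hin)
    have hwt : t * (w : G) = w * t :=
      (commutatorElement_eq_one_iff_mul_comm.1 (congrArg Subtype.val h1)).symm
    refine hne ?_
    have hle' : zc P ≤ Subgroup.centralizer {t} := le_of_prime h.zc_card hwz
      (Subgroup.mem_centralizer_singleton_iff.2 hwt.symm) fun e => hw1 (Subtype.ext e)
    exact (Subgroup.mem_centralizer_singleton_iff.1 (hle' hz₀)).symm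

end Cfsg.Agent.Solv.Dichotomy
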