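import Mathlib

/-!
# Symplectic linear algebra on `ZMod (p^n) × ZMod (p^n)` and valuations of geometric sums

Support for metacyclic `p`-groups of odd order.
-/

set_option autoImplicit false
set_option linter.style.haveILetI false
set_option linter.unusedSectionVars false

namespace Cfsg.Agent.Solv.Metacyc

open Finset

variable {p : ℕ} [hp : Fact p.Prime]

/-- Valuation of a geometric sum with ratio congruent to `1` modulo an odd prime. -/
theorem pow_dvd_geom_iff (hodd : p ≠ 2) (q : ℤ) (hq : (p : ℤ) ∣ q - 1) (j t : ℕ) :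
    (p : ℤ) ^ t ∣ ∑ e ∈ range j, q ^ e ↔ p ^ t ∣ j := by
  have hP : Prime (p : ℤ) := Nat.prime_iff_prime_int.mp hp.out
  by_cases h1 : q = 1
  · subst h1
    simp only [one_pow, sum_const, card_range, nsmul_eq_mul, mul_one]
    exact_mod_cast Iff.rfl
  have hnd : ¬ (p : ℤ) ∣ q := by
    intro h
    have := dvd_sub h hq
    simp only [sub_sub_cancel] at this
    exact hP.not_dvd_one this
  have h := Int.emultiplicity_pow_sub_pow hp.out (hp.out.odd_of_ne_two hodd) (x := q) (y := 1)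
    hq hnd j
  have hmul := emultiplicity_mul hP (a := ∑ e ∈ range j, q ^ e) (b := q - 1)
  rw [geom_sum_mul] at hmul
  rw [one_pow, hmul, add_comm] at h
  have hfin : emultiplicity (p : ℤ) (q - 1) ≠ ⊤ := by
    rw [ne_eq, emultiplicity_eq_top, not_not]
    exact Int.finiteMultiplicity_iff.mpr ⟨by simpa using hp.out.ne_one, sub_ne_zero.mpr h1⟩
  have he := WithTop.add_left_cancel hfin h
  rw [pow_dvd_iff_le_emultiplicity, pow_dvd_iff_le_emultiplicity, he]

theorem geom_range_sub (q : ℤ) {j h : ℕ} (hjh : h ≤ j) :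
    (∑ e ∈ range j, q ^ e) - ∑ e ∈ range h, q ^ e = q ^ h * ∑ e ∈ range (j - h), q ^ e := by
  conv_lhs => rw [← Nat.add_sub_cancel' hjh, sum_range_add]
  rw [add_sub_cancel_left, mul_sum]
  exact sum_congr rfl fun e _ => pow_add q h e

/-- Geometric sums hit every residue modulo `p^n`. -/
theorem exists_geom_eq (hodd : p ≠ 2) (n : ℕ) (q : ℤ) (hq : (p : ℤ) ∣ q - 1)
    (x : ZMod (p ^ n)) : ∃ t : ℕ, t < p ^ n ∧ ((∑ e ∈ range t, q ^ e : ℤ) : ZMod (p ^ n)) = x := by
  haveI : NeZero (p ^ n) := ⟨pow_ne_zero _ hp.out.ne_zero⟩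
  have hP : Prime (p : ℤ) := Nat.prime_iff_prime_int.mp hp.out
  have hnd : ¬ (p : ℤ) ∣ q := by
    intro h
    have := dvd_sub h hq
    simp only [sub_sub_cancel] at this
    exact hP.not_dvd_one this
  let f : Fin (p ^ n) → ZMod (p ^ n) := fun t => ((∑ e ∈ range t.val, q ^ e : ℤ) : ZMod (p ^ n))
  have hinj : Function.Injective f := by
    intro s t hst
    wlog hle : (t : ℕ) ≤ s generalizing s t with H
    · exact (H hst.symm (le_of_not_ge hle)).symm
    simp only [f] at hst
    rw [ZMod.intCast_eq_intCast_iff_dvd_sub] at hst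
    rw [dvd_sub_comm, geom_range_sub q hle] at hst
    push_cast at hst
    have h2 := hP.pow_dvd_of_dvd_mul_left n (fun h => hnd (hP.dvd_of_dvd_pow h)) hst
    have h3 := (pow_dvd_geom_iff hodd q hq _ n).mp h2
    have h4 := Nat.eq_zero_of_dvd_of_lt h3 (by omega)
    ext; omega
  have hbij := (Fintype.bijective_iff_injective_and_card f).mpr ⟨hinj, by simp⟩
  obtain ⟨t, ht⟩ := hbij.2 x
  exact ⟨t, t.isLt, ht⟩

/-- The module `(ZMod p^n)²`. -/
abbrev Mod (p n : ℕ) := ZMod (p ^ n) × ZMod (p ^ n)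

variable {n : ℕ}

/-- The standard alternating form. -/
def omega (x y : Mod p n) : ZMod (p ^ n) := y.1 * x.2 - x.1 * y.2

theorem omega_self (x : Mod p n) : omega x x = 0 := by simp [omega]

theorem omega_swap (x y : Mod p n) : omega y x = - omega x y := by simp [omega, mul_comm]

theorem omega_add_right (x y z : Mod p n) : omega x (y + z) = omega x y + omega x z := by
  simp [omega]; ring

theorem omega_add_left (x y z : Mod p n) : omega (x + y) z = omega x z + omega y z := by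
  simp [omega]; ring

theorem omega_smul_right (k : ZMod (p ^ n)) (x y : Mod p n) :
    omega x (k • y) = k * omega x y := by
  simp [omega]; ring

theorem omega_eq_zero_imp {x : Mod p n} (h : ∀ y, omega x y = 0) : x = 0 := by
  have h1 := h (1, 0)
  have h2 := h (0, 1)
  simp [omega] at h1 h2
  exact Prod.ext h2 h1

/-- `omega x` as an additive map. -/
def omegaHom (x : Mod p n) : Mod p n →+ ZMod (p ^ n) :=
  AddMonoidHom.mk' (omega x) (omega_add_right x)

@[simp] theorem omegaHom_apply (x y : Mod p n) : omegaHom x y = omega x y := rfl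

/-- Orthogonal of an additive subgroup. -/
def orth (W : AddSubgroup (Mod p n)) : AddSubgroup (Mod p n) where
  carrier := {x | ∀ w ∈ W, omega x w = 0}
  add_mem' {x y} hx hy w hw := by rw [omega_add_left, hx w hw, hy w hw, add_zero]
  zero_mem' w _ := by simp [omega]
  neg_mem' {x} hx w hw := by
    have h1 := omega_add_left (-x) x w
    rw [neg_add_cancel, hx w hw, add_zero] at h1
    rw [← h1]; simp [omega]

theorem mem_orth {W : AddSubgroup (Mod p n)} {x : Mod p n} :
    x ∈ orth W ↔ ∀ w ∈ W, omega x w = 0 := Iff.rfl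

theorem card_mod : Nat.card (Mod p n) = p ^ (2 * n) := by
  rw [Nat.card_prod, Nat.card_zmod, two_mul, pow_add]

/-- `|W^⊥| * |W| = p^(2n)`. -/
theorem card_orth (W : AddSubgroup (Mod p n)) :
    Nat.card ↥(orth W) * Nat.card ↥W = p ^ (2 * n) := by
  classical
  haveI : NeZero (p ^ n) := ⟨pow_ne_zero _ hp.out.ne_zero⟩
  haveI : Fintype (Mod p n ⧸ W) := Fintype.ofFinite _
  let ψ : AddChar (ZMod (p ^ n)) ℂ := ZMod.stdAddChar
  have hψ : Function.Injective ψ := ZMod.injective_stdAddChar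
  let F : Mod p n → AddChar (Mod p n) ℂ := fun x => ψ.compAddMonoidHom (omegaHom x)
  have hF : Function.Injective F := by
    intro x x' h
    have h0 : ∀ y, omega (x - x') y = 0 := by
      intro y
      have h1 := hψ (DFunLike.congr_fun h y)
      simp only [omegaHom_apply] at h1
      have h2 := omega_add_left (x - x') x' y
      rw [sub_add_cancel, h1] at h2
      simpa using h2
    exact sub_eq_zero.mp (omega_eq_zero_imp h0)
  have hFb : Function.Bijective F :=
    (Fintype.bijective_iff_injective_and_card F).mpr ⟨hF, (AddChar.card_eq).symm⟩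
  let K : ↥(orth W) → AddChar (Mod p n ⧸ W) ℂ := fun x =>
    ψ.compAddMonoidHom (QuotientAddGroup.lift W (omegaHom x.1) (fun w hw => x.2 w hw))
  have hK : Function.Bijective K := by
    constructor
    · intro x x' h
      apply Subtype.ext
      apply hF
      ext y
      exact DFunLike.congr_fun h (y : Mod p n ⧸ W)
    · intro χ
      obtain ⟨x, hx⟩ := hFb.2 (χ.compAddMonoidHom (QuotientAddGroup.mk' W))
      have hxW : x ∈ orth W := by
        intro w hw
        apply hψ
        have h1 := DFunLike.congr_fun hx w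
        rw [AddChar.map_zero_eq_one]
        refine h1.trans ?_
        show χ ((w : Mod p n ⧸ W)) = 1
        rw [(QuotientAddGroup.eq_zero_iff w).mpr hw, AddChar.map_zero_eq_one]
      refine ⟨⟨x, hxW⟩, ?_⟩
      ext y
      obtain ⟨y, rfl⟩ := QuotientAddGroup.mk_surjective y
      exact DFunLike.congr_fun hx y
  have h1 : Nat.card ↥(orth W) = Nat.card (Mod p n ⧸ W) := by
    rw [Nat.card_congr (Equiv.ofBijective K hK), Nat.card_eq_fintype_card, AddChar.card_eq,
      Nat.card_eq_fintype_card]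
  rw [h1, ← card_mod, AddSubgroup.card_eq_card_quotient_mul_card_addSubgroup W]

theorem le_orth_orth (W : AddSubgroup (Mod p n)) : W ≤ orth (orth W) := by
  intro w hw x hx
  rw [omega_swap, hx w hw, neg_zero]

theorem orth_orth (W : AddSubgroup (Mod p n)) : orth (orth W) = W := by
  haveI : NeZero (p ^ n) := ⟨pow_ne_zero _ hp.out.ne_zero⟩
  symm
  refine AddSubgroup.eq_of_le_of_card_ge (le_orth_orth W) ?_
  have h1 := card_orth W
  have h2 := card_orth (orth W)
  have h3 : 0 < Nat.card ↥(orth W) := Nat.card_pos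
  have : Nat.card ↥(orth (orth W)) = Nat.card ↥W := by
    apply Nat.eq_of_mul_eq_mul_right h3
    rw [h2, ← h1, mul_comm]
  exact this.le

/-- `p^i • x = 0` iff `x` is a multiple of `p^(n-i)`. -/
theorem nsmul_eq_zero_iff {i : ℕ} (hi : i ≤ n) (x : ZMod (p ^ n)) :
    (p ^ i) • x = 0 ↔ ∃ t : ZMod (p ^ n), x = (p : ZMod (p ^ n)) ^ (n - i) * t := by
  haveI : NeZero (p ^ n) := ⟨pow_ne_zero _ hp.out.ne_zero⟩
  have hz : (p : ZMod (p ^ n)) ^ n = 0 := by
    rw [← Nat.cast_pow, ZMod.natCast_self]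
  constructor
  · intro h
    rw [nsmul_eq_mul, ← ZMod.natCast_zmod_val x, ← Nat.cast_mul,
      ZMod.natCast_eq_zero_iff] at h
    have h2 : p ^ i * p ^ (n - i) ∣ p ^ i * x.val := by
      rwa [← pow_add, Nat.add_sub_cancel' hi]
    obtain ⟨t, ht⟩ := Nat.dvd_of_mul_dvd_mul_left (pow_pos hp.out.pos i) h2
    refine ⟨(t : ZMod (p ^ n)), ?_⟩
    rw [← ZMod.natCast_zmod_val x, ht]
    push_cast
    rfl
  · rintro ⟨t, rfl⟩
    rw [nsmul_eq_mul, Nat.cast_pow, ← mul_assoc, ← pow_add, Nat.add_sub_cancel' hi, hz, zero_mul]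

theorem card_torsion_zmod {i : ℕ} (hi : i ≤ n) :
    Nat.card {x : ZMod (p ^ n) // (p ^ i) • x = 0} = p ^ i := by
  haveI : NeZero (p ^ n) := ⟨pow_ne_zero _ hp.out.ne_zero⟩
  have hpn : p ^ n = p ^ (n - i) * p ^ i := by rw [← pow_add, Nat.sub_add_cancel hi]
  let f : Fin (p ^ i) → {x : ZMod (p ^ n) // (p ^ i) • x = 0} := fun t =>
    ⟨((p ^ (n - i) * t.val : ℕ) : ZMod (p ^ n)),
      (nsmul_eq_zero_iff hi _).mpr ⟨(t.val : ZMod (p ^ n)), by push_cast; rfl⟩⟩
  have hf : Function.Bijective f := by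
    constructor
    · intro s t h
      have h1 := congrArg (fun z => z.1.val) h
      simp only [f] at h1
      rw [ZMod.val_natCast, ZMod.val_natCast] at h1
      have hs : p ^ (n - i) * s.val < p ^ n := by
        rw [hpn]; exact mul_lt_mul_of_pos_left s.isLt (pow_pos hp.out.pos _)
      have ht : p ^ (n - i) * t.val < p ^ n := by
        rw [hpn]; exact mul_lt_mul_of_pos_left t.isLt (pow_pos hp.out.pos _)
      rw [Nat.mod_eq_of_lt hs, Nat.mod_eq_of_lt ht] at h1
      exact Fin.ext (Nat.eq_of_mul_eq_mul_left (pow_pos hp.out.pos _) h1)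
    · rintro ⟨x, hx⟩
      have hx' := hx
      rw [nsmul_eq_mul, ← ZMod.natCast_zmod_val x, ← Nat.cast_mul,
        ZMod.natCast_eq_zero_iff] at hx'
      have h2 : p ^ i * p ^ (n - i) ∣ p ^ i * x.val := by
        rwa [← pow_add, Nat.add_sub_cancel' hi]
      obtain ⟨t, ht⟩ := Nat.dvd_of_mul_dvd_mul_left (pow_pos hp.out.pos i) h2
      have htlt : t < p ^ i := by
        have := x.val_lt
        rw [ht, hpn] at this
        exact Nat.lt_of_mul_lt_mul_left this
      refine ⟨⟨t, htlt⟩, Subtype.ext ?_⟩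
      show ((p ^ (n - i) * t : ℕ) : ZMod (p ^ n)) = x
      rw [← ht, ZMod.natCast_zmod_val]
  rw [← Nat.card_congr (Equiv.ofBijective f hf), Nat.card_fin]

theorem card_torsion {i : ℕ} (hi : i ≤ n) :
    Nat.card {x : Mod p n // (p ^ i) • x = 0} = p ^ (2 * i) := by
  have e : {x : Mod p n // (p ^ i) • x = 0} ≃
      {x : ZMod (p ^ n) // (p ^ i) • x = 0} × {x : ZMod (p ^ n) // (p ^ i) • x = 0} :=
    { toFun := fun x => (⟨x.1.1, congrArg Prod.fst x.2⟩, ⟨x.1.2, congrArg Prod.snd x.2⟩)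
      invFun := fun y => ⟨(y.1.1, y.2.1), Prod.ext y.1.2 y.2.2⟩
      left_inv := fun x => rfl
      right_inv := fun y => rfl }
  rw [Nat.card_congr e, Nat.card_prod, card_torsion_zmod hi, two_mul, pow_add]

/-- An additive subgroup of `ZMod (p^n)` consists of the multiples of some `p^α`. -/
theorem zmod_subgroup (H : AddSubgroup (ZMod (p ^ n))) :
    ∃ α ≤ n, Nat.card ↥H = p ^ (n - α) ∧
      ∀ x, x ∈ H ↔ ∃ t : ZMod (p ^ n), x = (p : ZMod (p ^ n)) ^ α * t := by
  haveI : NeZero (p ^ n) := ⟨pow_ne_zero _ hp.out.ne_zero⟩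
  obtain ⟨k, hk, hcard⟩ := (Nat.dvd_prime_pow hp.out).mp
    ((H.card_addSubgroup_dvd_card).trans (dvd_of_eq (Nat.card_zmod _)))
  refine ⟨n - k, by omega, by rw [hcard]; congr 1; omega, fun x => ?_⟩
  rw [← nsmul_eq_zero_iff hk]
  have hsub : ∀ y ∈ H, (p ^ k) • y = 0 := by
    intro y hy
    have h1 : (p ^ k) • (⟨y, hy⟩ : H) = 0 := by
      rw [← hcard]; exact card_nsmul_eq_zero'
    exact congrArg Subtype.val h1
  refine ⟨hsub x, fun hx => ?_⟩
  let f : H → {y : ZMod (p ^ n) // (p ^ k) • y = 0} := fun y => ⟨y.1, hsub _ y.2⟩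
  have hf : Function.Injective f := fun y z h => Subtype.ext (congrArg Subtype.val h :)
  have hb := hf.bijective_of_nat_card_le (by rw [card_torsion_zmod hk, hcard])
  obtain ⟨y, hy⟩ := hb.2 ⟨x, hx⟩
  have : (y : ZMod (p ^ n)) = x := congrArg Subtype.val hy
  exact this ▸ y.2

theorem smul_mem {W : AddSubgroup (Mod p n)} (k : ZMod (p ^ n)) {x : Mod p n} (hx : x ∈ W) :
    k • x ∈ W := by
  haveI : NeZero (p ^ n) := ⟨pow_ne_zero _ hp.out.ne_zero⟩
  rw [← ZMod.natCast_zmod_val k, Nat.cast_smul_eq_nsmul]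
  exact W.nsmul_mem hx _

/-- The determinant of an additive subgroup of `(ZMod p^n)²`. -/
theorem exists_det (W : AddSubgroup (Mod p n)) :
    ∃ d ≤ 2 * n, Nat.card ↥W = p ^ (2 * n - d) ∧
      (∀ x ∈ W, ∀ y ∈ W, ∃ t : ZMod (p ^ n), omega x y = (p : ZMod (p ^ n)) ^ d * t) ∧
      (∀ z : Mod p n, ((p : ZMod (p ^ n)) ^ d) • z ∈ W) := by
  haveI : NeZero (p ^ n) := ⟨pow_ne_zero _ hp.out.ne_zero⟩
  let f : ↥W →+ ZMod (p ^ n) := (AddMonoidHom.snd _ _).comp W.subtype
  let W1 : AddSubgroup (ZMod (p ^ n)) := W.comap (AddMonoidHom.inl _ _)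
  obtain ⟨α, hα, hc1, hm1⟩ := zmod_subgroup W1
  obtain ⟨β, hβ, hc2, hm2⟩ := zmod_subgroup f.range
  refine ⟨α + β, by omega, ?_, ?_, ?_⟩
  · have e : ↥W1 ≃ ↥f.ker :=
      { toFun := fun x => ⟨⟨(x.1, 0), x.2⟩, rfl⟩
        invFun := fun y => ⟨y.1.1.1, by
          show ((y.1.1.1, 0) : Mod p n) ∈ W
          have h2 : y.1.1.2 = 0 := y.2
          have : ((y.1.1.1, 0) : Mod p n) = y.1.1 := Prod.ext rfl h2.symm
          rw [this]; exact y.1.2⟩
        left_inv := fun x => rfl
        right_inv := fun y => by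
          apply Subtype.ext; apply Subtype.ext
          exact Prod.ext rfl (show (0 : ZMod (p ^ n)) = y.1.1.2 from (y.2 :).symm) }
    rw [← f.ker.card_mul_index, ← Nat.card_congr e, AddSubgroup.index_ker, hc1, hc2, ← pow_add]
    congr 1; omega
  · intro x hx y hy
    obtain ⟨k, hk⟩ := (hm2 x.2).mp ⟨⟨x, hx⟩, rfl⟩
    obtain ⟨h, hh⟩ := (hm2 y.2).mp ⟨⟨y, hy⟩, rfl⟩
    have hmem : h • x - k • y ∈ W := W.sub_mem (smul_mem h hx) (smul_mem k hy)
    have h0 : (h • x - k • y).2 = 0 := by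
      simp only [Prod.snd_sub, Prod.smul_snd, smul_eq_mul, hk, hh]; ring
    have h1 : (h • x - k • y).1 ∈ W1 := by
      show ((h • x - k • y).1, (0 : ZMod (p ^ n))) ∈ W
      rw [← h0]; exact hmem
    obtain ⟨t, ht⟩ := (hm1 _).mp h1
    refine ⟨-t, ?_⟩
    simp only [Prod.fst_sub, Prod.smul_fst, smul_eq_mul] at ht
    simp only [omega, hk, hh]
    linear_combination (-(p : ZMod (p ^ n)) ^ β) * ht
  · intro z
    obtain ⟨⟨e, he⟩, hee⟩ := (hm2 ((p : ZMod (p ^ n)) ^ β)).mpr ⟨1, (mul_one _).symm⟩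
    have hee' : e.2 = (p : ZMod (p ^ n)) ^ β := hee
    have h1 : ∀ t : ZMod (p ^ n), (((p : ZMod (p ^ n)) ^ α * t, 0) : Mod p n) ∈ W :=
      fun t => (hm1 _).mpr ⟨t, rfl⟩
    have key : ((p : ZMod (p ^ n)) ^ (α + β)) • z =
        ((p : ZMod (p ^ n)) ^ α * ((p : ZMod (p ^ n)) ^ β * z.1 - e.1 * z.2), 0) +
          ((p : ZMod (p ^ n)) ^ α * z.2) • e := by
      ext
      · simp [pow_add]; ring
      · simp [pow_add, hee']; ring
    rw [key]
    exact W.add_mem (h1 _) (smul_mem _ he)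

/-- Isotropic subgroups are exactly those of order at most `p^n`. -/
theorem isotropic_iff (W : AddSubgroup (Mod p n)) :
    W ≤ orth W ↔ Nat.card ↥W ≤ p ^ n := by
  haveI : NeZero (p ^ n) := ⟨pow_ne_zero _ hp.out.ne_zero⟩
  constructor
  · intro h
    have h1 := Nat.card_le_card_of_injective _ (AddSubgroup.inclusion_injective h)
    have h2 := card_orth W
    have h3 : Nat.card ↥W * Nat.card ↥W ≤ p ^ n * p ^ n := by
      rw [← pow_add, ← two_mul, ← h2]; exact Nat.mul_le_mul_right _ h1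
    exact Nat.mul_self_le_mul_self_iff.mp h3
  · intro h x hx y hy
    obtain ⟨d, hd, hc, hom, -⟩ := exists_det W
    obtain ⟨t, ht⟩ := hom x hx y hy
    rw [hc, Nat.pow_le_pow_iff_right hp.out.one_lt] at h
    have hdn : n ≤ d := by omega
    rw [ht, ← Nat.add_sub_cancel' hdn, pow_add, ← Nat.cast_pow, ZMod.natCast_self, zero_mul,
      zero_mul]

/-- A non-isotropic subgroup contains its orthogonal and `p^(n-1)` times everything. -/
theorem not_isotropic (W : AddSubgroup (Mod p n)) (h : ¬ W ≤ orth W) :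
    orth W ≤ W ∧ ∀ z : Mod p n, ((p : ZMod (p ^ n)) ^ (n - 1)) • z ∈ W := by
  haveI : NeZero (p ^ n) := ⟨pow_ne_zero _ hp.out.ne_zero⟩
  obtain ⟨d, hd, hc, hom, hmem⟩ := exists_det W
  have hdn : d < n := by
    rw [isotropic_iff, hc, Nat.pow_le_pow_iff_right hp.out.one_lt] at h
    omega
  refine ⟨?_, fun z => ?_⟩
  · let f : ↥W →+ Mod p n := (nsmulAddMonoidHom (p ^ (n - d))).comp W.subtype
    have hrange : f.range ≤ orth W := by
      rintro - ⟨⟨x, hx⟩, rfl⟩ y hy
      obtain ⟨t, ht⟩ := hom x hx y hy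
      show omega ((p ^ (n - d)) • x) y = 0
      rw [omega_swap y, ← Nat.cast_smul_eq_nsmul (ZMod (p ^ n)), omega_smul_right, omega_swap x y,
        ht, Nat.cast_pow, mul_neg, neg_neg, ← mul_assoc, ← pow_add, Nat.sub_add_cancel hdn.le,
        ← Nat.cast_pow, ZMod.natCast_self, zero_mul]
    have hrangeW : f.range ≤ W := by
      rintro - ⟨⟨x, hx⟩, rfl⟩
      exact W.nsmul_mem hx _
    have hker : Nat.card ↥f.ker ≤ p ^ (2 * (n - d)) := by
      rw [← card_torsion (p := p) (n := n) (i := n - d) (by omega)]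
      exact Nat.card_le_card_of_injective
        (fun x => ⟨x.1.1, x.2⟩) (fun x y h => Subtype.ext (Subtype.ext (congrArg Subtype.val h :)))
    have horth : Nat.card ↥(orth W) = p ^ d := by
      have := card_orth W
      rw [hc] at this
      apply Nat.eq_of_mul_eq_mul_right (pow_pos hp.out.pos (2 * n - d))
      rw [this, ← pow_add]; congr 1; omega
    have hmul := f.ker.card_mul_index
    rw [AddSubgroup.index_ker, hc] at hmul
    have hge : p ^ d ≤ Nat.card ↥f.range := by
      apply Nat.le_of_mul_le_mul_left _ (pow_pos hp.out.pos (2 * (n - d)))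
      calc p ^ (2 * (n - d)) * p ^ d = p ^ (2 * n - d) := by rw [← pow_add]; congr 1; omega
        _ = Nat.card ↥f.ker * Nat.card ↥f.range := hmul.symm
        _ ≤ _ := Nat.mul_le_mul_right _ hker
    rw [← AddSubgroup.eq_of_le_of_card_ge hrange (horth ▸ hge)]
    exact hrangeW
  · have : (p : ZMod (p ^ n)) ^ (n - 1) = (p : ZMod (p ^ n)) ^ (n - 1 - d) * (p : ZMod (p ^ n)) ^ d := by
      rw [← pow_add]; congr 1; omega
    rw [this, mul_smul]
    exact smul_mem _ (hmem z)

end Cfsg.Agent.Solv.Metacyc
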