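import Cfsg.Prelude.Def_OddOrderLocal
import Cfsg.Agent.Lib.Solv.MetacyclicModule

/-!
# Metacyclic `p`-groups of odd order
-/

set_option autoImplicit false
set_option linter.style.haveILetI false
set_option linter.unusedSectionVars false

open scoped commutatorElement

namespace Cfsg.Agent.Solv.Metacyc

open Finset Subgroup

variable {p : ℕ} [hp : Fact p.Prime] {G : Type*} [Group G]

/-- A presentation of a metacyclic `p`-group. -/
structure Pres (p : ℕ) (G : Type*) [Group G] where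
  a : G
  b : G
  m : ℕ
  l : ℕ
  c : ℕ
  u : ℤ
  odd : p ≠ 2
  hc : 1 ≤ c
  hu : ¬ (p : ℤ) ∣ u
  ha : orderOf a = p ^ m
  hcard : Nat.card G = p ^ (m + l)
  hgen : ∀ g, ∃ i : ℤ, ∃ j : ℕ, a ^ i * b ^ j = g
  hb : ∀ j : ℕ, b ^ j ∈ zpowers a ↔ p ^ l ∣ j
  hconj : b * a * b⁻¹ = a ^ (1 + (p : ℤ) ^ c * u)

theorem exists_pres [Finite G] (hodd : p ≠ 2) (hG : IsPGroup p G) (hmc : Cfsg.IsMetacyclic G) :
    Nonempty (Pres p G) := by
  obtain ⟨N, hN, hcN, hcQ⟩ := hmc
  obtain ⟨a, haN⟩ := Subgroup.isCyclic_iff_exists_zpowers_eq_top N |>.mp hcN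
  obtain ⟨q, hq⟩ := hcQ.exists_generator
  obtain ⟨b, rfl⟩ := QuotientGroup.mk_surjective q
  obtain ⟨m, hm⟩ : ∃ m, orderOf a = p ^ m := IsPGroup.iff_orderOf.mp hG a
  obtain ⟨l, hl⟩ : ∃ l, orderOf (b : G ⧸ N) = p ^ l :=
    IsPGroup.iff_orderOf.mp (hG.to_quotient N) _
  have hb : ∀ j : ℕ, b ^ j ∈ zpowers a ↔ p ^ l ∣ j := by
    intro j
    rw [haN, ← hl, orderOf_dvd_iff_pow_eq_one, ← QuotientGroup.mk_pow, QuotientGroup.eq_one_iff]
  have hcardQ : Nat.card (G ⧸ N) = p ^ l := by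
    rw [← hl, ← Nat.card_zpowers, show zpowers (b : G ⧸ N) = ⊤ from
      (Subgroup.eq_top_iff' _).mpr hq, Subgroup.card_top]
  have hcard : Nat.card G = p ^ (m + l) := by
    rw [Subgroup.card_eq_card_quotient_mul_card_subgroup N, hcardQ, ← haN, Nat.card_zpowers, hm,
      pow_add, mul_comm]
  have hgen : ∀ g, ∃ i : ℤ, ∃ j : ℕ, a ^ i * b ^ j = g := by
    intro g
    obtain ⟨j, hj⟩ := (mem_powers_iff_mem_zpowers).mpr (hq (g : G ⧸ N))
    have h1 : g * (b ^ j)⁻¹ ∈ N := by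
      rw [← QuotientGroup.eq_one_iff, QuotientGroup.mk_mul, QuotientGroup.mk_inv,
        QuotientGroup.mk_pow, ← hj, mul_inv_cancel]
    rw [← haN] at h1
    obtain ⟨i, hi⟩ := h1
    exact ⟨i, j, by rw [show a ^ i = g * (b ^ j)⁻¹ from hi]; group⟩
  have haN' : a ∈ N := haN ▸ mem_zpowers a
  obtain ⟨r, hr⟩ : ∃ r : ℤ, a ^ r = b * a * b⁻¹ := by
    have h1 := hN.conj_mem a haN' b
    rw [← haN] at h1
    exact h1
  have hP : Prime (p : ℤ) := Nat.prime_iff_prime_int.mp hp.out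
  have hrp : (p : ℤ) ^ m ∣ r - 1 ∨ (p : ℤ) ∣ r - 1 := by
    rcases Nat.eq_zero_or_pos m with rfl | hmpos
    · left; simp
    right
    have hk : ∀ k : ℕ, b ^ k * a * (b ^ k)⁻¹ = a ^ (r ^ k) := by
      intro k
      induction k with
      | zero => simp
      | succ k ih =>
        calc b ^ (k + 1) * a * (b ^ (k + 1))⁻¹
            = b * (b ^ k * a * (b ^ k)⁻¹) * b⁻¹ := by rw [pow_succ' b k]; group
          _ = (b * a * b⁻¹) ^ (r ^ k) := by rw [ih, conj_zpow]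
          _ = _ := by rw [← hr, ← zpow_mul, ← pow_succ']
    have h1 := hk (p ^ l)
    obtain ⟨w, hw⟩ := (hb (p ^ l)).mpr dvd_rfl
    rw [← hw, (((Commute.refl a).zpow_left w)).eq, mul_inv_cancel_right] at h1
    have h2 : a ^ (1 : ℤ) = a ^ r ^ p ^ l := by rw [zpow_one]; exact h1
    rw [zpow_eq_zpow_iff_modEq, hm, Int.modEq_iff_dvd] at h2
    have h3 : (p : ℤ) ∣ r ^ p ^ l - 1 :=
      (dvd_pow_self (p : ℤ) hmpos.ne').trans (by exact_mod_cast h2)
    rw [← ZMod.intCast_zmod_eq_zero_iff_dvd] at h3 ⊢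
    push_cast at h3 ⊢
    rwa [ZMod.pow_card_pow] at h3
  by_cases hrm : (p : ℤ) ^ m ∣ r - 1
  · refine ⟨⟨a, b, m, l, m + 1, 1, hodd, by omega, ?_, hm, hcard, hgen, hb, ?_⟩⟩
    · exact fun h => hP.not_dvd_one h
    · rw [← hr, zpow_eq_zpow_iff_modEq, hm, Int.modEq_iff_dvd]
      push_cast
      rw [show 1 + (p : ℤ) ^ (m + 1) * 1 - r = (p : ℤ) ^ m * p - (r - 1) by rw [pow_succ]; ring]
      exact dvd_sub (dvd_mul_right _ _) hrm
  · have hne : r - 1 ≠ 0 := fun h => hrm (h ▸ dvd_zero _)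
    have hfin : FiniteMultiplicity (p : ℤ) (r - 1) :=
      Int.finiteMultiplicity_iff.mpr ⟨by simpa using hp.out.ne_one, hne⟩
    obtain ⟨u, hu, hu'⟩ := hfin.exists_eq_pow_mul_and_not_dvd
    refine ⟨⟨a, b, m, l, multiplicity (p : ℤ) (r - 1), u, hodd, ?_, hu', hm, hcard, hgen, hb, ?_⟩⟩
    · rcases hrp with h | h
      · exact absurd h hrm
      · by_contra h0
        have h0' : multiplicity (p : ℤ) (r - 1) = 0 := by omega
        rw [h0', pow_zero, one_mul] at hu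
        exact hu' (hu ▸ h)
    · rw [← hu, ← hr]; congr 1; ring

theorem prime_p : Prime (p : ℤ) := Nat.prime_iff_prime_int.mp hp.out

namespace Pres

variable (P : Pres p G)
include P

/-- The exponent of the derived subgroup's order. -/
def n : ℕ := P.m - P.c

/-- The ratio. -/
def r : ℤ := 1 + (p : ℤ) ^ P.c * P.u

/-- `(r^j - 1)/p^c`. -/
def D (j : ℕ) : ℤ := P.u * ∑ e ∈ range j, P.r ^ e

theorem dvd_r_sub_one : (p : ℤ) ∣ P.r - 1 := by
  have : P.r - 1 = (p : ℤ) ^ P.c * P.u := by rw [r]; ring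
  rw [this]
  exact dvd_mul_of_dvd_left (dvd_pow_self _ (by have := P.hc; omega)) _

theorem rpow_eq (j : ℕ) : P.r ^ j = 1 + (p : ℤ) ^ P.c * P.D j := by
  have := geom_sum_mul P.r j
  have hr : P.r - 1 = (p : ℤ) ^ P.c * P.u := by rw [r]; ring
  rw [hr] at this
  rw [D]; linear_combination -this

theorem pow_dvd_D (j t : ℕ) : (p : ℤ) ^ t ∣ P.D j ↔ p ^ t ∣ j := by
  rw [← pow_dvd_geom_iff P.odd P.r P.dvd_r_sub_one j t, D]
  exact ⟨fun h => prime_p.pow_dvd_of_dvd_mul_left t P.hu h, fun h => h.mul_left _⟩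

theorem D_add (j h : ℕ) : P.D (j + h) = P.D j + P.r ^ j * P.D h := by
  simp only [D, sum_range_add, pow_add, ← mul_sum]; ring

theorem D_one : P.D 1 = P.u := by simp [D]

theorem D_zero : P.D 0 = 0 := by simp [D]

theorem dvd_pm_iff (x : ℤ) : (p : ℤ) ^ P.m ∣ (p : ℤ) ^ P.c * x ↔ (p : ℤ) ^ P.n ∣ x := by
  rw [n]
  rcases le_total P.c P.m with h | h
  · conv_lhs => rw [← Nat.add_sub_cancel' h, pow_add]
    exact mul_dvd_mul_iff_left (pow_ne_zero _ prime_p.ne_zero)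
  · rw [Nat.sub_eq_zero_of_le h]
    exact ⟨fun _ => by simp, fun _ => dvd_mul_of_dvd_left (pow_dvd_pow _ h) _⟩

theorem zpow_a_eq_iff (x y : ℤ) : P.a ^ x = P.a ^ y ↔ (p : ℤ) ^ P.m ∣ y - x := by
  rw [zpow_eq_zpow_iff_modEq, P.ha, Int.modEq_iff_dvd]; push_cast; rfl

theorem conj_pow_a (j : ℕ) (i : ℤ) : P.b ^ j * P.a ^ i = P.a ^ (P.r ^ j * i) * P.b ^ j := by
  induction j generalizing i with
  | zero => simp
  | succ j ih =>
    have h1 : P.b * P.a ^ i = P.a ^ (P.r * i) * P.b := by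
      have h2 : (P.b * P.a * P.b⁻¹) ^ i = P.b * P.a ^ i * P.b⁻¹ := conj_zpow
      rw [P.hconj, ← zpow_mul] at h2
      rw [show P.r * i = (1 + (p : ℤ) ^ P.c * P.u) * i from rfl, h2]; group
    rw [pow_succ P.b, mul_assoc, h1, ← mul_assoc, ih, mul_assoc, ← mul_assoc (P.r ^ j),
      ← pow_succ P.r]

theorem mul_form (i k : ℤ) (j h : ℕ) :
    P.a ^ i * P.b ^ j * (P.a ^ k * P.b ^ h) = P.a ^ (i + P.r ^ j * k) * P.b ^ (j + h) := by
  rw [zpow_add, pow_add]
  calc P.a ^ i * P.b ^ j * (P.a ^ k * P.b ^ h) = P.a ^ i * (P.b ^ j * P.a ^ k) * P.b ^ h := by group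
    _ = _ := by rw [P.conj_pow_a]; group

theorem commute_iff (i k : ℤ) (j h : ℕ) :
    Commute (P.a ^ i * P.b ^ j) (P.a ^ k * P.b ^ h) ↔
      (p : ℤ) ^ P.n ∣ k * P.D j - i * P.D h := by
  rw [commute_iff_eq, P.mul_form, P.mul_form, add_comm h j, mul_left_inj, P.zpow_a_eq_iff,
    P.rpow_eq, P.rpow_eq, ← P.dvd_pm_iff, ← dvd_neg]
  rw [show -(k + (1 + (p : ℤ) ^ P.c * P.D h) * i - (i + (1 + (p : ℤ) ^ P.c * P.D j) * k)) =
    (p : ℤ) ^ P.c * (k * P.D j - i * P.D h) by ring]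

theorem n_le_l : P.n ≤ P.l := by
  obtain ⟨w, hw⟩ := (P.hb (p ^ P.l)).mpr dvd_rfl
  have h : Commute (P.a ^ (1 : ℤ) * P.b ^ 0) (P.a ^ (0 : ℤ) * P.b ^ (p ^ P.l)) := by
    simp only [zpow_one, pow_zero, mul_one, zpow_zero, one_mul, ← hw]
    exact (Commute.refl P.a).zpow_right w
  rw [P.commute_iff] at h
  simp only [D_zero, mul_zero, one_mul, zero_sub, dvd_neg] at h
  exact (Nat.pow_dvd_pow_iff_le_right hp.out.one_lt).mp ((P.pow_dvd_D _ _).mp h)

theorem dvd_of_rep {i k : ℤ} {j h : ℕ} (e : P.a ^ i * P.b ^ j = P.a ^ k * P.b ^ h) :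
    (p : ℤ) ^ P.n ∣ k - i ∧ (p : ℤ) ^ P.n ∣ P.D h - P.D j := by
  wlog hjh : j ≤ h generalizing i j k h with H
  · obtain ⟨h1, h2⟩ := H e.symm (le_of_not_ge hjh)
    exact ⟨dvd_sub_comm.mp h1, dvd_sub_comm.mp h2⟩
  obtain ⟨d, rfl⟩ := Nat.exists_eq_add_of_le hjh
  rw [add_comm j d, pow_add, ← mul_assoc, mul_left_inj] at e
  have hbd : P.b ^ d = P.a ^ (i - k) := by
    rw [sub_eq_add_neg, add_comm, zpow_add, e]; group
  have hd : p ^ P.l ∣ d := (P.hb d).mp ⟨i - k, hbd.symm⟩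
  have hD : (p : ℤ) ^ P.n ∣ P.D d :=
    (P.pow_dvd_D _ _).mpr ((pow_dvd_pow _ P.n_le_l).trans hd)
  refine ⟨?_, by rw [P.D_add, add_sub_cancel_left]; exact hD.mul_left _⟩
  have hc' : Commute (P.a ^ (i - k) * P.b ^ 0) (P.a ^ (0 : ℤ) * P.b ^ 1) := by
    simp only [pow_zero, mul_one, zpow_zero, one_mul, pow_one, ← hbd]
    exact (Commute.refl P.b).pow_left d
  rw [P.commute_iff] at hc'
  simp only [D_zero, mul_zero, D_one, zero_sub, dvd_neg] at hc'
  rw [dvd_sub_comm]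
  exact prime_p.pow_dvd_of_dvd_mul_right P.n P.hu hc'

/-- The coordinate map modulo the center. -/
noncomputable def phi (g : G) : Mod p P.n :=
  (((P.hgen g).choose : ZMod (p ^ P.n)),
    ((P.D (P.hgen g).choose_spec.choose : ℤ) : ZMod (p ^ P.n)))

theorem phi_mk (i : ℤ) (j : ℕ) :
    P.phi (P.a ^ i * P.b ^ j) = ((i : ZMod (p ^ P.n)), ((P.D j : ℤ) : ZMod (p ^ P.n))) := by
  obtain ⟨h1, h2⟩ := P.dvd_of_rep (P.hgen (P.a ^ i * P.b ^ j)).choose_spec.choose_spec
  refine Prod.ext ?_ ?_ <;> simp only [phi] <;> rw [ZMod.intCast_eq_intCast_iff_dvd_sub] <;>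
    push_cast <;> assumption

theorem commute_iff_phi (g h : G) : Commute g h ↔ omega (P.phi g) (P.phi h) = 0 := by
  obtain ⟨i, j, rfl⟩ := P.hgen g
  obtain ⟨k, e, rfl⟩ := P.hgen h
  rw [P.commute_iff, P.phi_mk, P.phi_mk, omega, ← Int.cast_mul, ← Int.cast_mul, ← Int.cast_sub,
    ZMod.intCast_zmod_eq_zero_iff_dvd]
  push_cast
  rfl

/-- The scalar by which `g` twists. -/
noncomputable def lam (g : G) : ZMod (p ^ P.n) := 1 + (p : ZMod (p ^ P.n)) ^ P.c * (P.phi g).2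

theorem phi_mul (g h : G) : P.phi (g * h) = P.phi g + P.lam g • P.phi h := by
  obtain ⟨i, j, rfl⟩ := P.hgen g
  obtain ⟨k, e, rfl⟩ := P.hgen h
  rw [P.mul_form]
  simp only [lam, P.phi_mk, P.D_add, P.rpow_eq]
  ext <;> simp

theorem phi_one : P.phi 1 = 0 := by
  have := P.phi_mk 0 0
  simp [D_zero] at this
  exact this

theorem isUnit_lam (g : G) : IsUnit (P.lam g) := by
  rw [lam]
  refine IsNilpotent.isUnit_one_add ((Commute.all _ _).isNilpotent_mul_right ?_)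
  refine IsNilpotent.pow_of_pos ⟨P.n, ?_⟩ (by have := P.hc; omega)
  rw [← Nat.cast_pow, ZMod.natCast_self]

theorem phi_inv (g : G) : P.lam g • P.phi g⁻¹ = - P.phi g := by
  have := P.phi_mul g g⁻¹
  rw [mul_inv_cancel, P.phi_one] at this
  exact eq_neg_of_add_eq_zero_right this.symm

theorem lam_val (g : G) : ∃ q : ℤ, (p : ℤ) ∣ q - 1 ∧ (q : ZMod (p ^ P.n)) = P.lam g := by
  obtain ⟨i, j, rfl⟩ := P.hgen g
  refine ⟨P.r ^ j, ?_, ?_⟩
  · rw [P.rpow_eq, add_sub_cancel_left]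
    exact dvd_mul_of_dvd_left (dvd_pow_self _ (by have := P.hc; omega)) _
  · rw [lam, P.phi_mk, P.rpow_eq]; push_cast; rfl

theorem phi_pow (g : G) (t : ℕ) :
    P.phi (g ^ t) = (∑ e ∈ range t, P.lam g ^ e) • P.phi g := by
  induction t with
  | zero => simp [P.phi_one]
  | succ t ih =>
    rw [pow_succ', P.phi_mul, ih, sum_range_succ' _ t, add_smul, smul_smul, mul_sum,
      pow_zero, one_smul, add_comm]
    simp only [pow_succ']

theorem exists_pow_phi (g : G) (k : ZMod (p ^ P.n)) :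
    ∃ t : ℕ, P.phi (g ^ t) = k • P.phi g := by
  obtain ⟨q, hq1, hq2⟩ := P.lam_val g
  obtain ⟨t, -, ht⟩ := exists_geom_eq P.odd P.n q hq1 k
  refine ⟨t, ?_⟩
  rw [P.phi_pow, ← ht]
  push_cast
  rw [hq2]

theorem phi_surjective : Function.Surjective P.phi := by
  rintro ⟨x, y⟩
  haveI : NeZero (p ^ P.n) := ⟨pow_ne_zero _ hp.out.ne_zero⟩
  have hu : IsUnit ((P.u : ℤ) : ZMod (p ^ P.n)) := by
    rw [ZMod.coe_int_isUnit_iff_isCoprime]
    push_cast
    exact ((prime_p.coprime_iff_not_dvd).mpr P.hu).pow_left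
  obtain ⟨v, hv⟩ := hu
  obtain ⟨t, -, ht⟩ := exists_geom_eq P.odd P.n P.r P.dvd_r_sub_one ((↑v⁻¹ : ZMod (p ^ P.n)) * y)
  refine ⟨P.a ^ (x.val : ℤ) * P.b ^ t, ?_⟩
  rw [P.phi_mk]
  refine Prod.ext ?_ ?_
  · simp
  · show ((P.D t : ℤ) : ZMod (p ^ P.n)) = y
    rw [D, Int.cast_mul, ht, ← hv, Units.mul_inv_cancel_left]

theorem mem_center_iff' (g : G) : g ∈ center G ↔ P.phi g = 0 := by
  rw [Subgroup.mem_center_iff]
  constructor
  · intro h
    apply omega_eq_zero_imp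
    intro y
    obtain ⟨x, rfl⟩ := P.phi_surjective y
    exact (P.commute_iff_phi g x).mp (h x).symm
  · intro h x
    exact ((P.commute_iff_phi g x).mpr (by simp [h, omega])).symm

/-- The image of a subgroup. -/
def img (L : Subgroup G) : AddSubgroup (Mod p P.n) where
  carrier := P.phi '' L
  zero_mem' := ⟨1, L.one_mem, P.phi_one⟩
  add_mem' := by
    rintro - - ⟨x, hx, rfl⟩ ⟨y, hy, rfl⟩
    obtain ⟨t, ht⟩ := P.exists_pow_phi y (↑(P.isUnit_lam x).unit⁻¹ : ZMod (p ^ P.n))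
    refine ⟨x * y ^ t, L.mul_mem hx (L.pow_mem hy t), ?_⟩
    rw [P.phi_mul, ht, smul_smul, IsUnit.mul_val_inv, one_smul]
  neg_mem' := by
    rintro - ⟨x, hx, rfl⟩
    obtain ⟨t, ht⟩ := P.exists_pow_phi x (-1)
    exact ⟨x ^ t, L.pow_mem hx t, by rw [ht, neg_one_smul]⟩

theorem mem_img {L : Subgroup G} {x : Mod p P.n} : x ∈ P.img L ↔ ∃ g ∈ L, P.phi g = x := Iff.rfl

/-- The preimage of an additive subgroup. -/
def pre (W : AddSubgroup (Mod p P.n)) : Subgroup G where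
  carrier := P.phi ⁻¹' W
  one_mem' := by simp [P.phi_one, W.zero_mem]
  mul_mem' := by
    intro x y hx hy
    show P.phi (x * y) ∈ W
    rw [P.phi_mul]
    exact W.add_mem hx (smul_mem _ hy)
  inv_mem' := by
    intro x hx
    show P.phi x⁻¹ ∈ W
    have h1 : P.phi x⁻¹ = (↑(P.isUnit_lam x).unit⁻¹ : ZMod (p ^ P.n)) • (- P.phi x) := by
      rw [← P.phi_inv, smul_smul, IsUnit.val_inv_mul, one_smul]
    rw [h1]
    exact smul_mem _ (W.neg_mem hx)

theorem mem_pre {W : AddSubgroup (Mod p P.n)} {g : G} : g ∈ P.pre W ↔ P.phi g ∈ W := Iff.rfl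

theorem center_le_pre (W : AddSubgroup (Mod p P.n)) : center G ≤ P.pre W := fun g hg => by
  rw [mem_pre, (P.mem_center_iff' g).mp hg]; exact W.zero_mem

theorem img_pre (W : AddSubgroup (Mod p P.n)) : P.img (P.pre W) = W := by
  ext x
  constructor
  · rintro ⟨g, hg, rfl⟩; exact hg
  · intro hx
    obtain ⟨g, rfl⟩ := P.phi_surjective x
    exact ⟨g, hx, rfl⟩

theorem phi_eq_iff (x y : G) : P.phi x = P.phi y ↔ x⁻¹ * y ∈ center G := by
  rw [P.mem_center_iff']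
  have h : P.phi y = P.phi x + P.lam x • P.phi (x⁻¹ * y) := by
    rw [← P.phi_mul, mul_inv_cancel_left]
  constructor
  · intro e
    rw [← e, left_eq_add] at h
    exact (P.isUnit_lam x).smul_eq_zero.mp h
  · intro e
    rw [h, e, smul_zero, add_zero]

theorem pre_img {L : Subgroup G} (hL : center G ≤ L) : P.pre (P.img L) = L := by
  ext g
  refine ⟨?_, fun h => ⟨g, h, rfl⟩⟩
  rintro ⟨x, hx, hxg⟩
  have h1 := L.mul_mem hx (hL ((P.phi_eq_iff x g).mp hxg))
  rwa [mul_inv_cancel_left] at h1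

theorem card_eq_img (L : Subgroup G) :
    Nat.card ↥L = Nat.card ↥(center G ⊓ L : Subgroup G) * Nat.card ↥(P.img L) := by
  let f : ↥L ⧸ (center G).subgroupOf L → ↥(P.img L) :=
    Quotient.lift (fun x => (⟨P.phi x.1, x.1, x.2, rfl⟩ : ↥(P.img L)))
      (fun x y hxy => Subtype.ext ((P.phi_eq_iff _ _).mpr
        ((QuotientGroup.leftRel_apply.mp hxy : _))))
  have hf : Function.Bijective f := by
    constructor
    · intro x y h
      obtain ⟨x, rfl⟩ := QuotientGroup.mk_surjective x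
      obtain ⟨y, rfl⟩ := QuotientGroup.mk_surjective y
      exact QuotientGroup.eq.mpr ((P.phi_eq_iff _ _).mp (congrArg Subtype.val h :))
    · rintro ⟨-, x, hx, rfl⟩
      exact ⟨QuotientGroup.mk ⟨x, hx⟩, rfl⟩
  rw [Subgroup.card_eq_card_quotient_mul_card_subgroup ((center G).subgroupOf L),
    Nat.card_congr (Equiv.ofBijective f hf), mul_comm]
  congr 1
  rw [← Subgroup.inf_subgroupOf_right]
  exact Nat.card_congr (Subgroup.subgroupOfEquivOfLe inf_le_right).toEquiv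

theorem card_pre (W : AddSubgroup (Mod p P.n)) :
    Nat.card ↥(P.pre W) = Nat.card ↥(center G) * Nat.card ↥W := by
  rw [P.card_eq_img (P.pre W), P.img_pre, inf_eq_left.mpr (P.center_le_pre W)]

theorem img_top : P.img ⊤ = ⊤ := by
  ext x
  obtain ⟨g, rfl⟩ := P.phi_surjective x
  exact ⟨fun _ => AddSubgroup.mem_top _, fun _ => ⟨g, Subgroup.mem_top _, rfl⟩⟩

theorem card_G : Nat.card G = Nat.card ↥(center G) * p ^ (2 * P.n) := by
  have h := P.card_eq_img ⊤
  rwa [P.img_top, Subgroup.card_top, inf_top_eq, AddSubgroup.card_top, card_mod] at h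

theorem centralizer_eq (L : Subgroup G) :
    centralizer (L : Set G) = P.pre (orth (P.img L)) := by
  ext g
  rw [mem_pre, Subgroup.mem_centralizer_iff, mem_orth]
  constructor
  · rintro h - ⟨x, hx, rfl⟩
    exact (P.commute_iff_phi g x).mp (h x hx).symm
  · intro h x hx
    exact ((P.commute_iff_phi g x).mpr (h _ ⟨x, hx, rfl⟩)).symm

theorem centralizer_singleton_eq (g : G) :
    centralizer ({g} : Set G) = P.pre (orth (AddSubgroup.zmultiples (P.phi g))) := by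
  ext x
  rw [mem_pre, Subgroup.mem_centralizer_singleton_iff, mem_orth]
  constructor
  · intro h w hw
    obtain ⟨k, rfl⟩ := AddSubgroup.mem_zmultiples_iff.mp hw
    rw [← omegaHom_apply, map_zsmul, omegaHom_apply, (P.commute_iff_phi x g).mp (h : Commute x g),
      smul_zero]
  · intro h
    exact ((P.commute_iff_phi x g).mpr (h _ (AddSubgroup.mem_zmultiples _))).eq

theorem class_size [Finite G] (g : G) :
    (centralizer ({g} : Set G)).index = addOrderOf (P.phi g) := by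
  have h1 := (centralizer ({g} : Set G)).card_mul_index
  have h2 := card_orth (AddSubgroup.zmultiples (P.phi g))
  have h3 : 0 < Nat.card ↥(centralizer ({g} : Set G)) := Nat.card_pos
  apply Nat.eq_of_mul_eq_mul_left h3
  rw [h1, P.card_G, P.centralizer_singleton_eq, P.card_pre, mul_assoc, ← h2,
    Nat.card_zmultiples]

theorem abelian_iff_img (L : Subgroup G) :
    IsMulCommutative ↥L ↔ P.img L ≤ orth (P.img L) := by
  constructor
  · rintro hL - ⟨x, hx, rfl⟩ - ⟨y, hy, rfl⟩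
    exact (P.commute_iff_phi x y).mp
      (congrArg Subtype.val (mul_comm' (⟨x, hx⟩ : L) ⟨y, hy⟩) :)
  · intro h
    refine ⟨⟨fun x y => Subtype.ext ?_⟩⟩
    exact ((P.commute_iff_phi x.1 y.1).mpr (h ⟨x.1, x.2, rfl⟩ _ ⟨y.1, y.2, rfl⟩)).eq

theorem center_mem_form {g : G} (s : ℕ) (hs : s ≤ P.n)
    (h : ∃ z : Mod p P.n, P.phi g = ((p : ZMod (p ^ P.n)) ^ s) • z) :
    ∃ i : ℤ, ∃ j : ℕ, g = (P.a ^ (p ^ s)) ^ i * (P.b ^ (p ^ s)) ^ j := by
  obtain ⟨i, j, rfl⟩ := P.hgen g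
  obtain ⟨⟨z1, z2⟩, hz⟩ := h
  rw [P.phi_mk] at hz
  have hdiv : ∀ (x : ℤ) (z : ZMod (p ^ P.n)),
      (x : ZMod (p ^ P.n)) = (p : ZMod (p ^ P.n)) ^ s * z → (p : ℤ) ^ s ∣ x := by
    intro x z hx
    haveI : NeZero (p ^ P.n) := ⟨pow_ne_zero _ hp.out.ne_zero⟩
    obtain ⟨z', rfl⟩ := ZMod.intCast_surjective z
    rw [show (p : ZMod (p ^ P.n)) ^ s * (z' : ZMod (p ^ P.n)) = (((p : ℤ) ^ s * z' : ℤ) : ZMod _)
      by push_cast; rfl, ZMod.intCast_eq_intCast_iff_dvd_sub] at hx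
    push_cast at hx
    have := ((pow_dvd_pow (p : ℤ) hs).trans hx)
    rw [dvd_sub_right (dvd_mul_right _ _)] at this
    exact this
  obtain ⟨i', rfl⟩ := hdiv i z1 (congrArg Prod.fst hz)
  obtain ⟨j', rfl⟩ := (P.pow_dvd_D j s).mp (hdiv _ z2 (congrArg Prod.snd hz))
  refine ⟨i', j', ?_⟩
  rw [pow_mul, ← zpow_natCast P.a, ← zpow_mul]
  push_cast
  rfl

theorem phi_pow_mem (g : G) (s : ℕ) :
    ∃ z : Mod p P.n, P.phi (g ^ p ^ s) = ((p : ZMod (p ^ P.n)) ^ s) • z := by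
  obtain ⟨q, hq1, hq2⟩ := P.lam_val g
  obtain ⟨t, ht⟩ := (pow_dvd_geom_iff P.odd q hq1 (p ^ s) s).mpr dvd_rfl
  refine ⟨(t : ZMod (p ^ P.n)) • P.phi g, ?_⟩
  rw [P.phi_pow, smul_smul, ← hq2]
  congr 1
  exact_mod_cast congrArg (Int.cast : ℤ → ZMod (p ^ P.n)) ht

/-- Non-abelian subgroups contain the center. -/
theorem center_le_of_nonabelian [Finite G] (L : Subgroup G) (hL : ¬ IsMulCommutative ↥L) :
    center G ≤ L := by
  haveI : NeZero (p ^ P.n) := ⟨pow_ne_zero _ hp.out.ne_zero⟩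
  rw [P.abelian_iff_img] at hL
  have hn : 1 ≤ P.n := by
    by_contra h
    apply hL
    rw [isotropic_iff]
    refine le_trans (Nat.card_le_card_of_injective _ Subtype.val_injective) ?_
    rw [card_mod]
    exact (by simp [show P.n = 0 by omega])
  obtain ⟨-, hmem⟩ := not_isotropic _ hL
  have hgenL : ∀ x : G, (∃ z : Mod p P.n, P.phi x = ((p : ZMod (p ^ P.n)) ^ (P.n - 1)) • z) →
      ∃ ζ ∈ center G, x ^ p * ζ ^ p ∈ L := by
    rintro x ⟨z, hz⟩
    obtain ⟨g, hg, hgz⟩ := hmem z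
    have hc := (P.phi_eq_iff x g).mp (hz.trans hgz.symm)
    refine ⟨x⁻¹ * g, hc, ?_⟩
    have hcm : Commute x (x⁻¹ * g) := Subgroup.mem_center_iff.mp hc x
    rw [← hcm.mul_pow,
      mul_inv_cancel_left]
    exact L.pow_mem hg p
  obtain ⟨ζa, hζa, hza⟩ := hgenL (P.a ^ p ^ (P.n - 1)) (P.phi_pow_mem P.a _)
  obtain ⟨ζb, hζb, hzb⟩ := hgenL (P.b ^ p ^ (P.n - 1)) (P.phi_pow_mem P.b _)
  rw [← pow_mul, ← pow_succ, Nat.sub_add_cancel hn] at hza hzb
  have hzero : ∀ z : Mod p P.n, ((p : ZMod (p ^ P.n)) ^ P.n) • z = 0 := fun z => by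
    rw [← Nat.cast_pow, ZMod.natCast_self, zero_smul]
  have hcen : ∀ x : G, x ^ p ^ P.n ∈ center G := fun x => by
    obtain ⟨z, hz⟩ := P.phi_pow_mem x P.n
    rw [P.mem_center_iff', hz, hzero]
  have hmain : ∀ ζ ∈ center G, ∃ η ∈ center G, ζ * η ^ p ∈ L := by
    intro ζ hζ
    obtain ⟨i, j, rfl⟩ := P.center_mem_form P.n le_rfl
      ⟨0, by rw [(P.mem_center_iff' ζ).mp hζ, smul_zero]⟩
    refine ⟨ζa ^ i * ζb ^ j,
      (center G).mul_mem ((center G).zpow_mem hζa i) ((center G).pow_mem hζb j), ?_⟩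
    set A := P.a ^ p ^ P.n
    set B := P.b ^ p ^ P.n
    have hA : A ∈ center G := hcen _
    have hcomm : ∀ y ∈ center G, ∀ w : G, Commute y w := fun y hy w =>
      (Subgroup.mem_center_iff.mp hy w).symm
    have he : A ^ i * B ^ j * (ζa ^ i * ζb ^ j) ^ p = (A * ζa ^ p) ^ i * (B * ζb ^ p) ^ j := by
      rw [(hcomm _ ((center G).zpow_mem hζa i) _).mul_pow, (hcomm A hA _).mul_zpow,
        ((hcomm _ ((center G).pow_mem hζb p) B).symm).mul_pow,
        ← pow_mul ζb, ← pow_mul ζb, mul_comm j p,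
        ← zpow_natCast (ζa ^ i) p, ← zpow_natCast ζa p, ← zpow_mul, ← zpow_mul,
        mul_comm i (p : ℤ)]
      simp only [mul_assoc]
      congr 1
      rw [← mul_assoc, ← mul_assoc,
        (hcomm _ ((center G).zpow_mem hζa ((p : ℤ) * i)) (B ^ j)).eq]
    rw [he]
    exact L.mul_mem (L.zpow_mem hza i) (L.pow_mem hzb j)
  have hit : ∀ k : ℕ, ∀ ζ ∈ center G, ∃ η ∈ center G, ζ * η ^ p ^ k ∈ L := by
    intro k
    induction k with
    | zero => intro ζ hζ; exact ⟨ζ⁻¹, (center G).inv_mem hζ, by simp⟩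
    | succ k ih =>
      intro ζ hζ
      obtain ⟨η, hη, h1⟩ := ih ζ hζ
      obtain ⟨θ, hθ, h2⟩ := hmain η hη
      refine ⟨θ⁻¹, (center G).inv_mem hθ, ?_⟩
      have h3 := L.mul_mem h1 (L.inv_mem (L.pow_mem h2 (p ^ k)))
      have h4 : Commute η (θ ^ p) := (Subgroup.mem_center_iff.mp hη _).symm
      rw [h4.mul_pow, mul_inv_rev, ← pow_mul, ← pow_succ'] at h3
      rw [inv_pow]
      convert h3 using 1
      have h6 : Commute (θ ^ p ^ (k + 1)) η := Subgroup.mem_center_iff.mp hη _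
      have h5 : Commute ((θ ^ p ^ (k + 1))⁻¹) ((η ^ p ^ k)⁻¹) := (h6.pow_right _).inv_inv
      rw [h5.eq]
      group
  intro ζ hζ
  obtain ⟨η, -, hη⟩ := hit (P.m + P.l) ζ hζ
  rwa [← P.hcard, pow_card_eq_one', mul_one] at hη

theorem commutator_eq [Finite G] : commutator G = zpowers (P.a ^ ((p : ℤ) ^ P.c)) := by
  apply le_antisymm
  · rw [commutator_def, Subgroup.commutator_le]
    intro g _ h _
    obtain ⟨i, j, rfl⟩ := P.hgen g
    obtain ⟨k, e, rfl⟩ := P.hgen h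
    rw [commutatorElement_def,
      show ∀ x y : G, x * y * x⁻¹ * y⁻¹ = x * y * (y * x)⁻¹ by intro x y; group, P.mul_form,
      P.mul_form, add_comm e j, mul_inv_rev,
      show ∀ x y z : G, x * y * (y⁻¹ * z) = x * z by intro x y z; group, ← zpow_neg, ← zpow_add,
      P.rpow_eq, P.rpow_eq,
      show i + (1 + (p : ℤ) ^ P.c * P.D j) * k + -(k + (1 + (p : ℤ) ^ P.c * P.D e) * i) =
        (p : ℤ) ^ P.c * (k * P.D j - i * P.D e) by ring, zpow_mul]
    exact zpow_mem (mem_zpowers _) _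
  · rw [zpowers_le]
    have h1 : P.a ^ ((p : ℤ) ^ P.c * P.u) ∈ commutator G := by
      have h2 : ⁅P.b, P.a⁆ ∈ commutator G :=
        Subgroup.commutator_mem_commutator (Subgroup.mem_top _) (Subgroup.mem_top _)
      rw [commutatorElement_def, P.hconj, ← zpow_neg_one, ← zpow_add] at h2
      convert h2 using 2; ring
    obtain ⟨x, y, hxy⟩ := ((prime_p.coprime_iff_not_dvd).mpr P.hu).pow_left (m := P.m)
    have h3 : P.a ^ ((p : ℤ) ^ P.c) = (P.a ^ ((p : ℤ) ^ P.c * P.u)) ^ y := by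
      rw [← zpow_mul, P.zpow_a_eq_iff]
      exact ⟨-((p : ℤ) ^ P.c) * x, by linear_combination (p : ℤ) ^ P.c * hxy⟩
    rw [h3]
    exact zpow_mem h1 y

theorem card_commutator [Finite G] : Nat.card ↥(commutator G) = p ^ P.n := by
  rw [P.commutator_eq, Nat.card_zpowers]
  have h1 : P.a ^ ((p : ℤ) ^ P.c) = P.a ^ (p ^ P.c) := by
    rw [← Nat.cast_pow, zpow_natCast]
  rw [h1, orderOf_pow, P.ha, n]
  rcases le_total P.c P.m with h | h
  · rw [Nat.gcd_eq_right (pow_dvd_pow p h), Nat.pow_div h hp.out.pos]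
  · rw [Nat.gcd_eq_left (pow_dvd_pow p h), Nat.div_self (pow_pos hp.out.pos _),
      Nat.sub_eq_zero_of_le h, pow_zero]

theorem index_commutator [Finite G] :
    (commutator G).index = Nat.card ↥(center G) * p ^ P.n := by
  apply Nat.eq_of_mul_eq_mul_left (pow_pos hp.out.pos P.n)
  conv_lhs => rw [← P.card_commutator, Subgroup.card_mul_index, P.card_G]
  rw [two_mul, pow_add]; ring

theorem card_mul_card_centralizer (L : Subgroup G) :
    Nat.card ↥L * Nat.card ↥(centralizer (L : Set G)) =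
      Nat.card ↥(center G ⊓ L : Subgroup G) * Nat.card ↥(center G) * p ^ (2 * P.n) := by
  rw [P.centralizer_eq, P.card_pre, P.card_eq_img L, ← card_orth (P.img L)]; ring

theorem centralizer_le_of_nonabelian [Finite G] (L : Subgroup G) (hL : ¬ IsMulCommutative ↥L) :
    centralizer (L : Set G) ≤ L := by
  have hc := P.center_le_of_nonabelian L hL
  rw [P.abelian_iff_img] at hL
  rw [P.centralizer_eq]
  conv_rhs => rw [← P.pre_img hc]
  intro g hg
  exact (not_isotropic _ hL).1 hg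

theorem centralizer_centralizer [Finite G] {L : Subgroup G} (hL : center G ≤ L) :
    centralizer (centralizer (L : Set G) : Set G) = L := by
  rw [P.centralizer_eq (centralizer (L : Set G)), P.centralizer_eq L, P.img_pre, orth_orth,
    P.pre_img hL]

theorem abelian_iff [Finite G] (L : Subgroup G) :
    IsMulCommutative ↥L ↔ Nat.card ↥L ≤ (commutator G).index := by
  rw [P.index_commutator]
  constructor
  · intro h
    rw [P.card_eq_img L]
    exact Nat.mul_le_mul (Nat.card_le_card_of_injective _ (Subgroup.inclusion_injective inf_le_left))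
      ((isotropic_iff _).mp ((P.abelian_iff_img L).mp h))
  · intro h
    by_contra hn
    have hc := P.center_le_of_nonabelian L hn
    rw [P.abelian_iff_img, isotropic_iff] at hn
    rw [P.card_eq_img L, inf_eq_left.mpr hc] at h
    exact hn (Nat.le_of_mul_le_mul_left h Nat.card_pos)

theorem maximal_abelian_iff [Finite G] (L : Subgroup G) :
    Maximal (fun K : Subgroup G => IsMulCommutative ↥K) L ↔
      Nat.card ↥L = (commutator G).index := by
  constructor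
  · rintro ⟨hL, hmax⟩
    have hW := (P.abelian_iff_img L).mp hL
    have hC : centralizer (L : Set G) ≤ L := by
      intro g hg
      rw [P.centralizer_eq, mem_pre, mem_orth] at hg
      let K := P.pre (P.img L ⊔ AddSubgroup.zmultiples (P.phi g))
      have hK : IsMulCommutative ↥K := by
        rw [P.abelian_iff_img, P.img_pre]
        refine sup_le (fun x hx w hw => ?_) ?_
        · obtain ⟨y, hy, z, hz, rfl⟩ := AddSubgroup.mem_sup.mp hw
          obtain ⟨k, rfl⟩ := AddSubgroup.mem_zmultiples_iff.mp hz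
          rw [omega_add_right, hW hx y hy, ← omegaHom_apply x (k • P.phi g), map_zsmul,
            omegaHom_apply, omega_swap, hg x hx, neg_zero, smul_zero, add_zero]
        · rw [AddSubgroup.zmultiples_le]
          intro w hw
          obtain ⟨y, hy, z, hz, rfl⟩ := AddSubgroup.mem_sup.mp hw
          obtain ⟨k, rfl⟩ := AddSubgroup.mem_zmultiples_iff.mp hz
          rw [omega_add_right, hg y hy, ← omegaHom_apply (P.phi g) (k • P.phi g), map_zsmul,
            omegaHom_apply, omega_self, smul_zero, add_zero]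
      have hle : L ≤ K := fun x hx => AddSubgroup.mem_sup_left ⟨x, hx, rfl⟩
      exact hmax hK hle (AddSubgroup.mem_sup_right (AddSubgroup.mem_zmultiples _))
    have hcen : center G ≤ L := (Subgroup.center_le_centralizer _).trans hC
    have he : orth (P.img L) = P.img L := by
      refine le_antisymm (fun x hx => ?_) hW
      obtain ⟨g, rfl⟩ := P.phi_surjective x
      exact ⟨g, hC (by rw [P.centralizer_eq]; exact hx), rfl⟩
    have h1 := card_orth (P.img L)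
    rw [he, two_mul, pow_add] at h1
    have h2 := Nat.mul_self_inj.mp h1
    rw [P.index_commutator, P.card_eq_img L, inf_eq_left.mpr hcen, h2]
  · intro h
    refine ⟨(P.abelian_iff L).mpr h.le, fun K hK hle => ?_⟩
    exact (Subgroup.eq_of_le_of_card_ge hle (((P.abelian_iff K).mp hK).trans h.ge)).ge

theorem pre_pow_eq [Finite G] {s : ℕ} (hs : s ≤ P.n) (g : G) :
    g ∈ closure {x : G | ∃ y : G, y ^ p ^ s = x} ↔
      ∃ z : Mod p P.n, P.phi g = ((p : ZMod (p ^ P.n)) ^ s) • z := by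
  constructor
  · intro hg
    let W : AddSubgroup (Mod p P.n) :=
      (DistribSMul.toAddMonoidHom (Mod p P.n) ((p : ZMod (p ^ P.n)) ^ s)).range
    have h1 : closure {x : G | ∃ y : G, y ^ p ^ s = x} ≤ P.pre W := by
      rw [closure_le]
      rintro - ⟨y, rfl⟩
      obtain ⟨z, hz⟩ := P.phi_pow_mem y s
      exact ⟨z, hz.symm⟩
    obtain ⟨z, hz⟩ := h1 hg
    exact ⟨z, hz.symm⟩
  · intro h
    obtain ⟨i, j, rfl⟩ := P.center_mem_form s hs h
    have ha' : P.a ^ p ^ s ∈ closure {x : G | ∃ y : G, y ^ p ^ s = x} :=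
      subset_closure ⟨P.a, rfl⟩
    have hb' : P.b ^ p ^ s ∈ closure {x : G | ∃ y : G, y ^ p ^ s = x} :=
      subset_closure ⟨P.b, rfl⟩
    exact mul_mem (zpow_mem ha' i) (pow_mem hb' j)

theorem class_le_iff [Finite G] {s : ℕ} (hs : s ≤ P.n) (g : G) :
    (centralizer ({g} : Set G)).index ≤ p ^ (P.n - s) ↔
      ∃ z : Mod p P.n, P.phi g = ((p : ZMod (p ^ P.n)) ^ s) • z := by
  rw [P.class_size]
  have hord : addOrderOf (P.phi g) ∣ p ^ P.n := by
    apply addOrderOf_dvd_of_nsmul_eq_zero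
    refine Prod.ext ?_ ?_ <;>
      simp only [Prod.smul_fst, Prod.smul_snd, Prod.fst_zero, Prod.snd_zero] <;>
      rw [nsmul_eq_mul, ZMod.natCast_self, zero_mul]
  obtain ⟨k, hk, hke⟩ := (Nat.dvd_prime_pow hp.out).mp hord
  have h1 : addOrderOf (P.phi g) ≤ p ^ (P.n - s) ↔ (p ^ (P.n - s)) • P.phi g = 0 := by
    rw [← addOrderOf_dvd_iff_nsmul_eq_zero, hke, Nat.pow_dvd_pow_iff_le_right hp.out.one_lt,
      Nat.pow_le_pow_iff_right hp.out.one_lt]
  rw [h1, Prod.ext_iff]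
  simp only [Prod.smul_fst, Prod.smul_snd, Prod.fst_zero, Prod.snd_zero]
  rw [nsmul_eq_zero_iff (by omega), nsmul_eq_zero_iff (by omega),
    show P.n - (P.n - s) = s by omega]
  constructor
  · rintro ⟨⟨t1, h1⟩, ⟨t2, h2⟩⟩
    exact ⟨(t1, t2), Prod.ext h1 h2⟩
  · rintro ⟨z, hz⟩
    exact ⟨⟨z.1, congrArg Prod.fst hz⟩, ⟨z.2, congrArg Prod.snd hz⟩⟩

theorem class_size_count [Finite G] (i : ℕ) (hi : 1 ≤ i) (hin : i ≤ P.n) :
    Nat.card {g : G // (centralizer ({g} : Set G)).index = p ^ i} =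
      Nat.card ↥(center G) * (p ^ (2 * i) - p ^ (2 * i - 2)) := by
  haveI : NeZero (p ^ P.n) := ⟨pow_ne_zero _ hp.out.ne_zero⟩
  let W : ℕ → AddSubgroup (Mod p P.n) := fun k => (nsmulAddMonoidHom (p ^ k)).ker
  have hW : ∀ k ≤ P.n, Nat.card ↥(W k) = p ^ (2 * k) := fun k hk => card_torsion hk
  have hU : ∀ k, Nat.card ↥(P.pre (W k)) = Nat.card ↥(center G) * Nat.card ↥(W k) :=
    fun k => P.card_pre _
  have hiff : ∀ g : G, (centralizer ({g} : Set G)).index = p ^ i ↔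
      g ∈ (P.pre (W i) : Set G) \ (P.pre (W (i - 1)) : Set G) := by
    intro g
    rw [P.class_size, Set.mem_sdiff, SetLike.mem_coe, SetLike.mem_coe, mem_pre, mem_pre]
    show _ ↔ (p ^ i) • P.phi g = 0 ∧ ¬ (p ^ (i - 1)) • P.phi g = 0
    rw [← addOrderOf_dvd_iff_nsmul_eq_zero, ← addOrderOf_dvd_iff_nsmul_eq_zero]
    constructor
    · intro h
      rw [h]
      refine ⟨dvd_rfl, fun h2 => ?_⟩
      rw [Nat.pow_dvd_pow_iff_le_right hp.out.one_lt] at h2
      omega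
    · rintro ⟨h1, h2⟩
      obtain ⟨k, hk, hke⟩ := (Nat.dvd_prime_pow hp.out).mp h1
      rw [hke, Nat.pow_dvd_pow_iff_le_right hp.out.one_lt] at h2
      rw [hke]; congr 1; omega
  have hsub : (P.pre (W (i - 1)) : Set G) ⊆ (P.pre (W i) : Set G) := by
    intro g hg
    show (p ^ i) • P.phi g = 0
    have hg' : (p ^ (i - 1)) • P.phi g = 0 := hg
    rw [show i = i - 1 + 1 by omega, pow_succ', mul_smul, hg', smul_zero]
  rw [Nat.card_congr (Equiv.subtypeEquivRight hiff)]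
  show Nat.card ↥((P.pre (W i) : Set G) \ (P.pre (W (i - 1)) : Set G)) = _
  rw [Nat.card_coe_set_eq, Set.ncard_sdiff hsub, ← Nat.card_coe_set_eq,
    ← Nat.card_coe_set_eq]
  show Nat.card ↥(P.pre (W i)) - Nat.card ↥(P.pre (W (i - 1))) = _
  rw [hU, hU, hW i hin, hW (i - 1) (by omega), ← Nat.mul_sub]
  congr 3; omega

theorem factorize [Finite G] :
    ∃ A B : Subgroup G, IsCyclic ↥A ∧ IsCyclic ↥B ∧ A ⊓ B = ⊥ ∧
      Nat.card ↥A * Nat.card ↥B = Nat.card G := by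
  obtain ⟨w, hw⟩ := (P.hb (p ^ P.l)).mpr dvd_rfl
  have hgeo : ∀ (q : ℤ), (p : ℤ) ∣ q - 1 → ∀ s : ℕ,
      ∃ T : ℤ, ∑ e ∈ range (p ^ s), q ^ e = (p : ℤ) ^ s * T ∧ ¬ (p : ℤ) ∣ T := by
    intro q hq s
    obtain ⟨T, hT⟩ := (pow_dvd_geom_iff P.odd q hq (p ^ s) s).mpr dvd_rfl
    refine ⟨T, hT, fun hT' => ?_⟩
    have h1 : (p : ℤ) ^ (s + 1) ∣ ∑ e ∈ range (p ^ s), q ^ e := by
      rw [hT, pow_succ]; exact mul_dvd_mul_left _ hT'
    rw [pow_dvd_geom_iff P.odd q hq, Nat.pow_dvd_pow_iff_le_right hp.out.one_lt] at h1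
    omega
  have hrj : ∀ j : ℕ, (p : ℤ) ∣ P.r ^ j - 1 := fun j =>
    P.dvd_r_sub_one.trans (sub_one_dvd_pow_sub_one _ _)
  have hpow : ∀ (x : ℤ) (j k : ℕ),
      (P.a ^ x * P.b ^ j) ^ k = P.a ^ (x * ∑ e ∈ range k, (P.r ^ j) ^ e) * P.b ^ (j * k) := by
    intro x j k
    induction k with
    | zero => simp
    | succ k ih =>
      rw [pow_succ', ih, P.mul_form, sum_range_succ' _ k, Nat.mul_succ, add_comm j (j * k)]
      congr 2
      simp only [pow_zero, pow_succ', ← mul_sum]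
      ring
  have hfin : ∀ g : G, (∀ k : ℕ, g ^ k ∈ zpowers P.a ↔ p ^ P.l ∣ k) → g ^ (p ^ P.l) = 1 →
      zpowers P.a ⊓ zpowers g = ⊥ ∧ orderOf g = p ^ P.l := by
    intro g hg hg1
    constructor
    · rw [Subgroup.eq_bot_iff_forall]
      rintro x ⟨hxa, hxg⟩
      obtain ⟨k, rfl⟩ := (mem_powers_iff_mem_zpowers).mpr hxg
      obtain ⟨d, rfl⟩ := (hg k).mp hxa
      show g ^ (p ^ P.l * d) = 1
      rw [pow_mul, hg1, one_pow]
    · refine Nat.dvd_antisymm (orderOf_dvd_of_pow_eq_one hg1) ((hg _).mp ?_)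
      rw [pow_orderOf_eq_one]; exact one_mem _
  by_cases hcase : (p : ℤ) ^ min P.l P.m ∣ w
  · -- complement to `⟨a⟩`
    obtain ⟨T, hT, hT'⟩ := hgeo (P.r ^ 1) (hrj 1) P.l
    obtain ⟨x, hx⟩ : ∃ x : ℤ, (p : ℤ) ^ P.m ∣ x * ((p : ℤ) ^ P.l * T) + w := by
      rcases le_total P.m P.l with h | h
      · rw [min_eq_right h] at hcase
        exact ⟨0, by simpa using hcase⟩
      · rw [min_eq_left h] at hcase
        obtain ⟨w', rfl⟩ := hcase
        obtain ⟨α, β, hαβ⟩ := ((prime_p.coprime_iff_not_dvd).mpr hT').pow_left (m := P.m)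
        exact ⟨-(β * w'), (p : ℤ) ^ P.l * α * w',
          by linear_combination (-((p : ℤ) ^ P.l * w')) * hαβ⟩
    set g := P.a ^ x * P.b ^ 1 with hg
    have hga : ∀ k : ℕ, g ^ k ∈ zpowers P.a ↔ p ^ P.l ∣ k := by
      intro k
      rw [hg, hpow, one_mul, (zpowers P.a).mul_mem_cancel_left (zpow_mem (mem_zpowers _) _), P.hb]
    have hg1 : g ^ (p ^ P.l) = 1 := by
      have hw' : P.a ^ w = P.b ^ (p ^ P.l) := hw
      rw [hg, hpow, one_mul, ← hw', hT, ← zpow_add, ← zpow_zero P.a, P.zpow_a_eq_iff, zero_sub,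
        dvd_neg]
      exact hx
    obtain ⟨h1, h2⟩ := hfin g hga hg1
    exact ⟨zpowers P.a, zpowers g, inferInstance, inferInstance, h1,
      by rw [Nat.card_zpowers, Nat.card_zpowers, P.ha, h2, P.hcard, pow_add]⟩
  · -- complement to `⟨b⟩`
    have hw0 : w ≠ 0 := fun h => hcase (h ▸ dvd_zero _)
    have hfm : FiniteMultiplicity (p : ℤ) w :=
      Int.finiteMultiplicity_iff.mpr ⟨by simpa using hp.out.ne_one, hw0⟩
    obtain ⟨w', hw', hw''⟩ := hfm.exists_eq_pow_mul_and_not_dvd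
    set e := multiplicity (p : ℤ) w
    have he : e < P.l ∧ e < P.m := by
      by_contra h
      exact hcase (hw' ▸ dvd_mul_of_dvd_left (pow_dvd_pow _ (by omega)) _)
    have hab : ∀ i : ℤ, P.a ^ i ∈ zpowers P.b → (p : ℤ) ^ e ∣ i := by
      intro i hi
      obtain ⟨t, ht⟩ := (mem_powers_iff_mem_zpowers).mpr hi
      have ht' : P.b ^ t = P.a ^ i := ht
      obtain ⟨d, rfl⟩ := (P.hb t).mp ⟨i, ht'.symm⟩
      have hwb : P.a ^ w = P.b ^ (p ^ P.l) := hw
      rw [pow_mul, ← hwb, ← zpow_natCast, ← zpow_mul, P.zpow_a_eq_iff] at ht'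
      have h1 := (pow_dvd_pow (p : ℤ) he.2.le).trans ht'
      rwa [dvd_sub_left (dvd_mul_of_dvd_left (hw' ▸ dvd_mul_right _ _) _)] at h1
    have hbord : orderOf P.b = p ^ P.l * p ^ (P.m - e) := by
      have hwb : P.a ^ w = P.b ^ (p ^ P.l) := hw
      have h1 : orderOf (P.b ^ (p ^ P.l)) = p ^ (P.m - e) := by
        rw [orderOf_eq_iff (pow_pos hp.out.pos _)]
        constructor
        · rw [← hwb, ← zpow_natCast, ← zpow_mul, ← zpow_zero P.a, P.zpow_a_eq_iff, zero_sub,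
            dvd_neg, hw']
          push_cast
          rw [mul_right_comm, ← pow_add, Nat.add_sub_cancel' he.2.le]
          exact dvd_mul_right _ _
        · intro k hk hk0 hk1
          rw [← hwb, ← zpow_natCast, ← zpow_mul, ← zpow_zero P.a, P.zpow_a_eq_iff, zero_sub,
            dvd_neg, hw', mul_assoc, ← Nat.add_sub_cancel' he.2.le, pow_add] at hk1
          have h2 := (mul_dvd_mul_iff_left (pow_ne_zero _ prime_p.ne_zero)).mp hk1
          have h3 := prime_p.pow_dvd_of_dvd_mul_left _ hw'' h2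
          have h4 : p ^ (P.m - e) ∣ k := by exact_mod_cast h3
          exact absurd (Nat.le_of_dvd hk0 h4) (by omega)
      have hdvd : p ^ P.l ∣ orderOf P.b := (P.hb _).mp (by rw [pow_orderOf_eq_one]; exact one_mem _)
      rw [orderOf_pow_of_dvd (pow_ne_zero _ hp.out.ne_zero) hdvd] at h1
      rw [← h1, Nat.mul_div_cancel' hdvd]
    set j := p ^ (P.l - e) with hj
    obtain ⟨T, hT, hT'⟩ := hgeo (P.r ^ j) (hrj j) e
    obtain ⟨α, β, hαβ⟩ := ((prime_p.coprime_iff_not_dvd).mpr hT').pow_left (m := P.m)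
    set x := -(β * w') with hx
    have hxp : ¬ (p : ℤ) ∣ x := by
      rw [hx, dvd_neg]
      intro h
      rcases prime_p.dvd_or_dvd h with hβ | h
      · refine (prime_p (p := p)).not_dvd_one ?_
        rw [← hαβ]
        exact dvd_add (dvd_mul_of_dvd_right (dvd_pow_self _ (by omega)) _)
          (dvd_mul_of_dvd_left hβ _)
      · exact hw'' h
    set g := P.a ^ x * P.b ^ j with hg
    have hgb : ∀ k : ℕ, g ^ k ∈ zpowers P.b → p ^ e ∣ k := by
      intro k hk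
      rw [hg, hpow, Subgroup.mul_mem_cancel_right _ (pow_mem (mem_zpowers _) _)] at hk
      rw [← pow_dvd_geom_iff P.odd _ (hrj j)]
      exact prime_p.pow_dvd_of_dvd_mul_left e hxp (hab _ hk)
    have hg1 : g ^ (p ^ e) = 1 := by
      have hwb : P.a ^ w = P.b ^ (p ^ P.l) := hw
      rw [hg, hpow, hT, hj, ← pow_add, Nat.sub_add_cancel he.1.le, ← hwb, ← zpow_add,
        ← zpow_zero P.a, P.zpow_a_eq_iff, zero_sub, dvd_neg, hw', hx]
      exact ⟨(p : ℤ) ^ e * α * w', by linear_combination (-((p : ℤ) ^ e * w')) * hαβ⟩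
    have hgo : orderOf g = p ^ e := Nat.dvd_antisymm (orderOf_dvd_of_pow_eq_one hg1)
      (hgb _ (by rw [pow_orderOf_eq_one]; exact one_mem _))
    refine ⟨zpowers P.b, zpowers g, inferInstance, inferInstance, ?_, ?_⟩
    · rw [Subgroup.eq_bot_iff_forall]
      rintro y ⟨hyb, hyg⟩
      obtain ⟨k, rfl⟩ := (mem_powers_iff_mem_zpowers).mpr hyg
      obtain ⟨d, rfl⟩ := hgb k hyb
      show g ^ (p ^ e * d) = 1
      rw [pow_mul, hg1, one_pow]
    · rw [Nat.card_zpowers, Nat.card_zpowers, hbord, hgo, P.hcard, ← pow_add, ← pow_add]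
      congr 1; omega

end Pres

end Cfsg.Agent.Solv.Metacyc
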