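import Cfsg.Agent.Lib.Solv.MixedPrimeKlein
import Cfsg.Agent.Lib.Solv.Coprime

/-! Groups in which a large prime divides all mixed proper subgroups. -/

set_option autoImplicit false
set_option linter.style.haveILetI false

open scoped Pointwise

universe u

namespace Cfsg.Agent.Solv.Mixed

variable {G : Type u} [Group G] [Finite G] {p q : ℕ}

/-- the hypothesis on mixed proper subgroups -/
def MixHyp (G : Type u) [Group G] (p q : ℕ) : Prop :=
  ∀ H : Subgroup G, H ≠ ⊤ → ¬ IsPGroup q H → q ∣ Nat.card H → p ∣ Nat.card H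

/-- a subgroup of order prime to `p` and divisible by `q` is a `q`-group -/
theorem MixHyp.only (h : MixHyp G p q) (hq : q.Prime) (hpG : p ∣ Nat.card G) {H : Subgroup G}
    (hp' : ¬ p ∣ Nat.card H) (hqH : q ∣ Nat.card H) {r : ℕ} (hr : r.Prime) (hrd : r ∣ Nat.card H) : r = q := by
  haveI : Fact q.Prime := ⟨hq⟩
  by_contra hne
  refine hp' (h H (fun e => hp' (by rw [e, Subgroup.card_top]; exact hpG)) (fun hH => hne ?_) hqH)
  obtain ⟨k, hk⟩ := IsPGroup.iff_card.1 hH
  rw [hk] at hrd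
  exact (Nat.prime_dvd_prime_iff_eq hr hq).1 (hr.dvd_of_dvd_pow hrd)

/-- a `q`-subgroup and an `r`-subgroup one of which normalises the other -/
theorem MixHyp.no_pair (h : MixHyp G p q) (hp : p.Prime) (hq : q.Prime) (hpG : p ∣ Nat.card G) {A B : Subgroup G}
    (hBA : B ≤ Subgroup.normalizer (A : Set G)) (hA : ¬ p ∣ Nat.card A) (hB : ¬ p ∣ Nat.card B)
    (hqd : q ∣ Nat.card A ∨ q ∣ Nat.card B) {r : ℕ} (hr : r.Prime) (hrd : r ∣ Nat.card A ∨ r ∣ Nat.card B) : r = q := by
  have hH : ¬ p ∣ Nat.card (A ⊔ B : Subgroup G) := fun hd => by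
    have h2 : p ∣ Nat.card A * Nat.card B := hd.trans (Dvd.intro _ (Solv.card_sup_mul_card_inf' A B hBA))
    exact (hp.dvd_mul.1 h2).elim hA hB
  refine h.only hq hpG hH ?_ hr ?_
  · exact hqd.elim (fun h => h.trans (Subgroup.card_dvd_of_le le_sup_left))
      (fun h => h.trans (Subgroup.card_dvd_of_le le_sup_right))
  · exact hrd.elim (fun h => h.trans (Subgroup.card_dvd_of_le le_sup_left))
      (fun h => h.trans (Subgroup.card_dvd_of_le le_sup_right))

theorem prime_of_pgroup {r s : ℕ} (hr : r.Prime) (hs : s.Prime) {H : Subgroup G} (hH : IsPGroup r H)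
    (hd : s ∣ Nat.card H) : s = r := by
  haveI : Fact r.Prime := ⟨hr⟩
  obtain ⟨k, hk⟩ := IsPGroup.iff_card.1 hH
  rw [hk] at hd
  exact (Nat.prime_dvd_prime_iff_eq hs hr).1 (hs.dvd_of_dvd_pow hd)

/-- no prime-power element for a third prime normalises a nontrivial `q`-subgroup -/
theorem MixHyp.eq_one (h : MixHyp G p q) (hp : p.Prime) (hq : q.Prime) (hpq : p ≠ q) (hpG : p ∣ Nat.card G)
    {Q0 : Subgroup G} (hQ0 : IsPGroup q Q0) (hne : Q0 ≠ ⊥) {s : G} {r k : ℕ} (hr : r.Prime) (hrp : r ≠ p) (hrq : r ≠ q)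
    (hs : orderOf s = r ^ k) (hn : s ∈ Subgroup.normalizer (Q0 : Set G)) : s = 1 := by
  haveI : Fact q.Prime := ⟨hq⟩
  by_contra hs1
  have hk : k ≠ 0 := fun e => hs1 (orderOf_eq_one_iff.1 (by rw [hs, e, pow_zero]))
  refine hrq (h.no_pair hp hq hpG (Subgroup.zpowers_le.2 hn) (fun hd => hpq (prime_of_pgroup hq hp hQ0 hd))
    (fun hd => hrp ?_) (Or.inl ?_) hr (Or.inr ?_))
  · rw [Nat.card_zpowers, hs] at hd
    exact ((Nat.prime_dvd_prime_iff_eq hp hr).1 (hp.dvd_of_dvd_pow hd)).symm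
  · obtain ⟨j, hj⟩ := IsPGroup.iff_card.1 hQ0
    rw [hj]
    exact dvd_pow_self q fun e => hne (Subgroup.eq_bot_of_card_eq _ (by rw [hj, e, pow_zero]))
  · rw [Nat.card_zpowers, hs]; exact dvd_pow_self r hk

/-- the case in which no automising element occurs -/
theorem two_primes_of_central (h : MixHyp G p q) (hp : p.Prime) (hq : q.Prime) (hpq : p ≠ q)
    (hpG : p ∣ Nat.card G) (hqG : q ∣ Nat.card G)
    (hcent : ∀ Q0 : Subgroup G, IsPGroup q Q0 → ∀ g : G, (∃ k, g ^ p ^ k = 1) →
      g ∈ Subgroup.normalizer (Q0 : Set G) → ∀ v ∈ Q0, g * v = v * g)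
    {r : ℕ} (hr : r.Prime) (hrd : r ∣ Nat.card G) : r = p ∨ r = q := by
  haveI : Fact q.Prime := ⟨hq⟩
  haveI : Fact r.Prime := ⟨hr⟩
  by_contra hne
  push Not at hne
  obtain ⟨hrp, hrq⟩ := hne
  obtain ⟨S, hS⟩ := (show ∃ S : Sylow q G, True from ⟨default, trivial⟩)
  have hnp : Cfsg.HasNormalPComplement q G := by
    refine Fusion.hnpc_of_centralize (Fusion.sylIn_top S) fun Q0 hQ0S g hg hgq => ?_
    refine mem_of_prime_parts _ _ g rfl ?_
    rintro x hx ⟨s, e, hs, hsd, ho⟩
    have hxn : x ∈ Subgroup.normalizer (Q0 : Set G) := Subgroup.zpowers_le.2 hg hx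
    have hsq : s ≠ q := fun e' => hq.one_lt.ne' (Nat.eq_one_of_dvd_one
      ((show (orderOf g).gcd q = 1 from hgq) ▸ Nat.dvd_gcd (e' ▸ hsd) dvd_rfl))
    have hQ0 : IsPGroup q Q0 := S.isPGroup'.to_le hQ0S
    by_cases hsp : s = p
    · subst hsp
      exact Subgroup.mem_centralizer_iff.2 fun v hv =>
        (hcent Q0 hQ0 x ⟨e, by rw [← ho, pow_orderOf_eq_one]⟩ hxn v hv).symm
    · by_cases hbot : Q0 = ⊥
      · exact Subgroup.mem_centralizer_iff.2 fun v hv => by
          rw [hbot] at hv; rw [Subgroup.mem_bot.1 hv, one_mul, mul_one]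
      · rw [h.eq_one hp hq hpq hpG hQ0 hbot hs hsp hsq ho hxn]
        exact one_mem _
  obtain ⟨K, hKn, hKc⟩ := Fusion.hnpc_exists_complement hnp S
  have hco : (Nat.card (S : Subgroup G)).Coprime (Nat.card K) := by
    obtain ⟨j, hj⟩ := IsPGroup.iff_card.1 S.isPGroup'
    rw [hj]
    exact ((Fusion.coprime_card_of_isComplement' hKc).symm).pow_left j
  haveI : Group.IsNilpotent (S : Subgroup G) := S.isPGroup'.isNilpotent
  obtain ⟨R, hR, hSR⟩ := Solv.exists_invariant_sylow (K := K) (A := (S : Subgroup G))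
    (by rw [Subgroup.normalizer_eq_top_iff.2 hKn]; exact le_top) hco (Or.inl inferInstance) r
  have hrK : r ∣ Nat.card K := by
    have h1 := hKc.card_mul
    rw [← h1] at hrd
    exact ((Nat.Prime.dvd_mul hr).1 hrd).resolve_right fun hd => hrq (prime_of_pgroup hq hr S.isPGroup' hd)
  have hrR : r ∣ Nat.card R := by
    rw [hR.2]
    exact dvd_pow_self r (Nat.pos_iff_ne_zero.1 (hr.factorization_pos_of_dvd Nat.card_pos.ne' hrK))
  refine hrq (h.no_pair hp hq hpG hSR (fun hd => hrp (prime_of_pgroup hr hp (IsPGroup.of_card hR.2) hd).symm)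
    (fun hd => hpq (prime_of_pgroup hq hp S.isPGroup' hd)) (Or.inr (S.dvd_card_of_dvd_card hqG)) hr (Or.inl hrR))

theorem two_primes : ∀ (n : ℕ) (G : Type u) [Group G] [Finite G], Nat.card G = n → ∀ (p q : ℕ), p.Prime → q.Prime →
    p ≠ q → p ≠ 2 → p ∣ Nat.card G → q ∣ Nat.card G → MixHyp G p q →
    (q ^ (Nat.card G).factorization q - 1 < p ∨
      (p = q ^ (Nat.card G).factorization q - 1 ∧ ∀ P : Subgroup G, IsPGroup p P → ∀ a ∈ P, ∀ b ∈ P, a * b = b * a)) →
    ∀ r : ℕ, r.Prime → r ∣ Nat.card G → r = p ∨ r = q := by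
  intro n
  induction n using Nat.strong_induction_on with
  | _ n IH =>
  intro G _ _ hn p q hp hq hpq hp2 hpG hqG hmix hlarge r hr hrd
  by_cases hcent : ∀ Q0 : Subgroup G, IsPGroup q Q0 → ∀ g : G, (∃ k, g ^ p ^ k = 1) →
      g ∈ Subgroup.normalizer (Q0 : Set G) → ∀ v ∈ Q0, g * v = v * g
  · exact two_primes_of_central hmix hp hq hpq hpG hqG hcent hr hrd
  push Not at hcent
  obtain ⟨Q, hQp, g, ⟨k, hgk⟩, hgn, v, hvQ, hgv⟩ := hcent
  haveI : Fact p.Prime := ⟨hp⟩
  haveI : Fact q.Prime := ⟨hq⟩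
  set a := (Nat.card G).factorization q with ha
  obtain ⟨j, hj⟩ := IsPGroup.iff_card.1 hQp
  have hja : j ≤ a := (hq.pow_dvd_iff_le_factorization Nat.card_pos.ne').1 (hj ▸ Subgroup.card_subgroup_dvd_card Q)
  have hqja : q ^ j ≤ q ^ a := Nat.pow_le_pow_right hq.pos hja
  -- the orbit of `v`
  have hinj := orbit_inj hp hgk hgv
  let f : Option (Fin p) → Q := fun o => o.elim ⟨1, one_mem _⟩ fun i =>
    ⟨g ^ (i : ℕ) * v * (g ^ (i : ℕ))⁻¹, (Subgroup.mem_normalizer_iff.1 (pow_mem hgn _) v).1 hvQ⟩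
  have hv1 : v ≠ 1 := fun e => hgv (by rw [e, one_mul, mul_one])
  have hf : Function.Injective f := by
    intro o o' h
    have h' := congrArg Subtype.val h
    rcases o with _ | i <;> rcases o' with _ | i'
    · rfl
    · exact absurd (conj_eq_one_iff.1 (show (1 : G) = _ from h').symm) hv1
    · exact absurd (conj_eq_one_iff.1 (show _ = (1 : G) from h')) hv1
    · exact congrArg some (hinj (show _ = _ from h'))
  have hpQ : p + 1 ≤ Nat.card Q := by
    have := Nat.card_le_card_of_injective f hf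
    rwa [Finite.card_option, Nat.card_fin] at this
  have hpQ' : p + 1 ≤ q ^ j := hj ▸ hpQ
  obtain ⟨hpa, hab⟩ := hlarge.resolve_left fun hh => by omega
  have hjeq : q ^ j = q ^ a := by omega
  have hpa' : p + 1 = q ^ a := by have := hp.pos; omega
  have hq2 : q = 2 := by
    obtain ⟨l, hl⟩ := hp.odd_of_ne_two hp2
    exact ((Nat.prime_dvd_prime_iff_eq Nat.prime_two hq).1
      (Nat.prime_two.dvd_of_dvd_pow (⟨l + 1, by omega⟩ : 2 ∣ q ^ a))).symm
  subst hq2
  have ha2 : 2 ≤ a := by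
    by_contra hlt
    have : 2 ^ a ≤ 2 ^ 1 := Nat.pow_le_pow_right two_pos (by omega)
    have := hp.two_le
    omega
  have hcardQ : Nat.card Q = 2 ^ a := by rw [hj, hjeq]
  have hsylQ : ¬ 2 ∣ Q.index := by
    rintro ⟨m, hm⟩
    have h1 : 2 ^ (a + 1) ∣ Nat.card G := ⟨m, by rw [← Q.card_mul_index, hcardQ, hm, pow_succ]; ring⟩
    have := (hq.pow_dvd_iff_le_factorization Nat.card_pos.ne').1 h1
    omega
  have hbij : Function.Surjective f := by
    have hc : Nat.card (Option (Fin p)) = Nat.card Q := by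
      rw [Finite.card_option, Nat.card_fin, hcardQ, hpa']
    exact (hf.bijective_of_nat_card_le hc.ge).2
  have hgN : ∀ i : ℕ, g ^ ((p ^ k - 1) * i) = (g ^ i)⁻¹ := fun i => by
    refine eq_inv_of_mul_eq_one_left ?_
    rw [← pow_add, show (p ^ k - 1) * i + i = p ^ k * i by
      obtain ⟨m, hm⟩ : ∃ m, p ^ k = m + 1 := ⟨p ^ k - 1, by have := pow_pos hp.pos k; omega⟩
      rw [hm, Nat.add_sub_cancel]; ring, pow_mul, hgk, one_pow]
  have htrans : ∀ u ∈ Q, u ≠ 1 → ∀ w ∈ Q, w ≠ 1 → ∃ i : ℕ, g ^ i * u * (g ^ i)⁻¹ = w := by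
    intro u hu hu1 w hw hw1
    obtain ⟨o, ho⟩ := hbij ⟨u, hu⟩
    obtain ⟨o', ho'⟩ := hbij ⟨w, hw⟩
    rcases o with _ | i
    · exact absurd (congrArg Subtype.val ho).symm hu1
    rcases o' with _ | i'
    · exact absurd (congrArg Subtype.val ho').symm hw1
    refine ⟨(i' : ℕ) + (p ^ k - 1) * i, ?_⟩
    have e1 : g ^ (i : ℕ) * v * (g ^ (i : ℕ))⁻¹ = u := congrArg Subtype.val ho
    have e2 : g ^ (i' : ℕ) * v * (g ^ (i' : ℕ))⁻¹ = w := congrArg Subtype.val ho'
    rw [pow_add, hgN, ← e1, ← e2]; group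
  have helem : ∀ x ∈ Q, x * x = 1 := by
    intro x hx
    by_cases hx1 : x = 1
    · rw [hx1, mul_one]
    obtain ⟨t, ht⟩ := exists_prime_orderOf_dvd_card' (G := Q) 2 (hcardQ ▸ dvd_pow_self 2 (by omega))
    have hto : orderOf (t : G) = 2 := by rw [Subgroup.orderOf_coe, ht]
    obtain ⟨i, hi⟩ := htrans t t.2 (fun e => by rw [e, orderOf_one] at hto; omega) x hx hx1
    rw [← hi, ← MulAut.conj_apply, ← map_mul, (inv_mul_self_of_two hto).1, map_one]
  -- proper even subgroups
  have hmixed : ∀ H : Subgroup G, H ≠ ⊤ → 2 ∣ Nat.card H → ∀ s : ℕ, s.Prime → s ∣ Nat.card H → s = 2 ∨ s = p := by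
    intro H hH h2H s hs hsd
    by_cases hpH : p ∣ Nat.card H
    · refine (IH (Nat.card H) (hn ▸ Solv.card_lt_of_ne_top hH) H rfl p 2 hp hq hpq hp2 hpH h2H ?_ ?_ s hs hsd).symm
      · intro K hK hK2 h2K
        rw [← Solv.card_map_subtype] at h2K ⊢
        refine hmix _ (fun e => hH (top_le_iff.1 (e ▸ Subgroup.map_subtype_le K))) (fun hp' => hK2 ?_) h2K
        exact hp'.of_equiv (K.equivMapOfInjective _ H.subtype_injective).symm
      · have hle : (Nat.card H).factorization 2 ≤ a :=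
          (Nat.factorization_le_iff_dvd Nat.card_pos.ne' Nat.card_pos.ne').2 (Subgroup.card_subgroup_dvd_card H) 2
        rcases hle.lt_or_eq with hlt | heq
        · left
          have : 2 ^ (Nat.card H).factorization 2 < 2 ^ a := Nat.pow_lt_pow_right (by norm_num) hlt
          have := Nat.one_le_two_pow (n := (Nat.card H).factorization 2)
          omega
        · right
          refine ⟨by rw [heq]; exact hpa, fun P hP x hx y hy => Subtype.ext ?_⟩
          exact hab _ (hP.map H.subtype) (x : G) ⟨x, hx, rfl⟩ (y : G) ⟨y, hy, rfl⟩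
    · exact Or.inl (MixHyp.only hmix hq hpG hpH h2H hs hsd)
  by_contra hne
  push Not at hne
  obtain ⟨hrp, hr2⟩ := hne
  haveI : Fact r.Prime := ⟨hr⟩
  have hQne : Q ≠ ⊥ := fun e => by
    rw [e, Subgroup.card_bot] at hcardQ
    have := Nat.one_lt_two_pow_iff.2 (show a ≠ 0 by omega)
    omega
  -- simplicity
  have hsimple : ∀ N : Subgroup G, N.Normal → N = ⊥ ∨ N = ⊤ := by
    intro N hN
    by_contra hne'
    push Not at hne'
    obtain ⟨hN0, hN1⟩ := hne'
    by_cases h2N : 2 ∣ Nat.card N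
    · obtain ⟨t, ht⟩ := exists_prime_orderOf_dvd_card' (G := N) 2 h2N
      have hto : orderOf (t : G) = 2 := by rw [Subgroup.orderOf_coe, ht]
      obtain ⟨T, hT⟩ := (zpowers_pgroup (p := 2) (k := 1) (x := (t : G))
        (by rw [pow_one, ← hto]; exact pow_orderOf_eq_one _)).exists_le_sylow
      obtain ⟨c, hc⟩ := MulAction.exists_smul_eq G (hQp.toSylow hsylQ) T
      have htT := hT (Subgroup.mem_zpowers (t : G))
      rw [← hc] at htT
      obtain ⟨u, hu, hut⟩ := htT
      have hut' : c * u * c⁻¹ = (t : G) := hut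
      have huN : u ∈ N := by
        have := hN.conj_mem _ t.2 c⁻¹
        rwa [← hut', inv_inv, show c⁻¹ * (c * u * c⁻¹) * c = u by group] at this
      have hu1 : u ≠ 1 := fun e => by rw [e, mul_one, mul_inv_cancel] at hut'; rw [← hut', orderOf_one] at hto; omega
      have hQN : Q ≤ N := fun w hw => by
        by_cases hw1 : w = 1
        · rw [hw1]; exact one_mem _
        obtain ⟨i, hi⟩ := htrans u hu hu1 w hw hw1
        rw [← hi]; exact hN.conj_mem _ huN _
      have hfr : Subgroup.normalizer (Q : Set G) ⊔ N = ⊤ :=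
        Sylow.normalizer_sup_eq_top' (hQp.toSylow hsylQ) hQN
      have hNQ : Subgroup.normalizer (Q : Set G) ≠ ⊤ := fun e => by
        obtain ⟨s, hs⟩ := exists_prime_orderOf_dvd_card' (G := G) r hrd
        have := MixHyp.eq_one hmix hp hq hpq hpG hQp hQne (k := 1) hr hrp hr2 (by rw [hs, pow_one])
          (e.ge (Subgroup.mem_top s))
        rw [this, orderOf_one] at hs
        exact hr.ne_one hs.symm
      have h1 := Solv.card_sup_mul_card_inf' N (Subgroup.normalizer (Q : Set G))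
        (by rw [Subgroup.normalizer_eq_top_iff.2 hN]; exact le_top)
      rw [sup_comm, hfr, Subgroup.card_top] at h1
      have h2Q : 2 ∣ Nat.card (Subgroup.normalizer (Q : Set G)) :=
        (hcardQ ▸ dvd_pow_self 2 (by omega) : 2 ∣ Nat.card Q).trans (Subgroup.card_dvd_of_le Subgroup.le_normalizer)
      rcases hr.dvd_mul.1 (hrd.trans (Dvd.intro _ h1)) with hd | hd
      · exact (hmixed N hN1 h2N r hr hd).elim hr2 hrp
      · exact (hmixed _ hNQ h2Q r hr hd).elim hr2 hrp
    · have hQNn : Q ≤ Subgroup.normalizer (N : Set G) := by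
        rw [Subgroup.normalizer_eq_top_iff.2 hN]; exact le_top
      have hcoQN : (Nat.card Q).Coprime (Nat.card N) := by
        rw [hcardQ]; exact (Nat.prime_two.coprime_iff_not_dvd.2 h2N).pow_left a
      haveI : Group.IsNilpotent Q := hQp.isNilpotent
      have hNp : IsPGroup p N := isPGroup_of_primes N fun s hs hsd => by
        by_contra hsp
        haveI : Fact s.Prime := ⟨hs⟩
        obtain ⟨S, hS, hQS⟩ := Solv.exists_invariant_sylow hQNn hcoQN (Or.inl inferInstance) s
        have hsS : s ∣ Nat.card S := by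
          rw [hS.2]
          exact dvd_pow_self s (Nat.pos_iff_ne_zero.1 (hs.factorization_pos_of_dvd Nat.card_pos.ne' hsd))
        refine h2N ((MixHyp.no_pair hmix hp hq hpG hQS (fun hd => hsp (prime_of_pgroup hs hp (IsPGroup.of_card hS.2) hd).symm)
          (fun hd => hp2 (prime_of_pgroup hq hp hQp hd)) (Or.inr (hcardQ ▸ dvd_pow_self 2 (by omega))) hs (Or.inl hsS)) ▸ hsd)
      obtain ⟨e, he⟩ := IsPGroup.iff_card.1 hNp
      have hidx := N.card_mul_index
      have hrI : r ∣ N.index := ((Nat.Prime.dvd_mul hr).1 (hidx ▸ hrd)).resolve_left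
        fun hd => hrp (prime_of_pgroup hp hr hNp hd)
      have h2I : 2 ∣ N.index := ((Nat.Prime.dvd_mul hq).1 (hidx ▸ hqG)).resolve_left h2N
      by_cases hpI : p ∣ N.index
      · have hcI : Nat.card (G ⧸ N) = N.index := rfl
        have hlt : Nat.card (G ⧸ N) < n := hn ▸ Solv.card_quotient_lt N hN0
        have hmixI : MixHyp (G ⧸ N) p 2 := by
          intro H hH hH2 h2H
          by_contra hpH
          refine hH2 (isPGroup_of_primes H fun s hs hsd => ?_)
          set H' := H.comap (QuotientGroup.mk' N) with hH'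
          have hNH : N ≤ H' := fun x hx => by
            show (QuotientGroup.mk' N) x ∈ H
            rw [QuotientGroup.mk'_apply, (QuotientGroup.eq_one_iff x).2 hx]; exact one_mem _
          have hc : Nat.card H' = Nat.card N * Nat.card H := (Solv.card_comap_mk' N H).trans (mul_comm _ _)
          have hiN : (N.subgroupOf H').index = Nat.card H := by
            have h := (N.subgroupOf H').card_mul_index
            rw [Solv.card_subgroupOf hNH, hc] at h
            exact Nat.eq_of_mul_eq_mul_left Nat.card_pos h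
          obtain ⟨C, hC⟩ := Subgroup.exists_right_complement'_of_coprime (N := N.subgroupOf H')
            (by rw [Solv.card_subgroupOf hNH, hiN, he]; exact (hp.coprime_iff_not_dvd.2 hpH).pow_left e)
          have hcC : Nat.card (C.map H'.subtype) = Nat.card H := by
            rw [Solv.card_map_subtype, ← hiN, ← hC.symm.index_eq_card]
          exact MixHyp.only hmix hq hpG (hcC ▸ hpH) (hcC ▸ h2H) hs (hcC ▸ hsd)
        have hfac : N.index.factorization 2 = a := by
          rw [ha, ← hidx, Nat.factorization_mul Nat.card_pos.ne' (Subgroup.index_ne_zero_of_finite), Finsupp.add_apply,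
            Nat.factorization_eq_zero_of_not_dvd h2N, zero_add]
        exact (IH _ hlt (G ⧸ N) rfl p 2 hp hq hpq hp2 hpI h2I hmixI (Or.inr ⟨by rw [hcI, hfac]; exact hpa,
          fun P hP x hx y hy => by
            obtain ⟨x', rfl⟩ := QuotientGroup.mk'_surjective N x
            obtain ⟨y', rfl⟩ := QuotientGroup.mk'_surjective N y
            rw [← map_mul, ← map_mul, hab _ (hP.comap_of_ker_isPGroup (QuotientGroup.mk' N)
              (by rw [QuotientGroup.ker_mk']; exact hNp)) x' hx y' hy]⟩) r hr hrI).elim hrp hr2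
      · obtain ⟨C, hC⟩ := Subgroup.exists_right_complement'_of_coprime (N := N)
          (by rw [he]; exact (hp.coprime_iff_not_dvd.2 hpI).pow_left e)
        have hcC : Nat.card C = N.index := hC.symm.index_eq_card.symm
        exact hr2 (MixHyp.only hmix hq hpG (hcC ▸ hpI) (hcC ▸ h2I) hr (hcC ▸ hrI))
  exact Exc.false (G := G) (p := p) (a := a) (Q := Q)
    ⟨hp, hp2, ha2, hpa', hcardQ, hsylQ, helem, ⟨g, ⟨k, hgk⟩, hgn, htrans⟩, hab, hmixed, hsimple,
      ⟨r, hr, hrd, hr2, hrp⟩, hpG⟩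

end Cfsg.Agent.Solv.Mixed
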