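import Cfsg.Agent.Lib.Solv.Basic
import Cfsg.Agent.Lib.Solv.Cores
import Cfsg.Agent.Lib.Solv.Generation
import Cfsg.Agent.Lib.Char.Burnside
import Cfsg.Agent.Lib.Fusion.NPC
import Cfsg.Agent.Lib.Fusion.Cores

/-! Elementary facts for groups whose even proper subgroups involve only two primes. -/

set_option autoImplicit false
set_option linter.style.haveILetI false

open scoped Pointwise

universe u

namespace Cfsg.Agent.Solv.Mixed

variable {G : Type u} [Group G] [Finite G]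

theorem mem_of_prime_parts (H : Subgroup G) : ∀ (n : ℕ) (g : G), orderOf g = n →
    (∀ h ∈ Subgroup.zpowers g, (∃ r e : ℕ, r.Prime ∧ r ∣ n ∧ orderOf h = r ^ e) → h ∈ H) → g ∈ H := by
  intro n
  induction n using Nat.strong_induction_on with
  | _ n IH =>
  intro g hg hyp
  by_cases hn : n = 1
  · rw [orderOf_eq_one_iff.1 (hg.trans hn)]; exact one_mem _
  have hn0 : n ≠ 0 := hg ▸ (orderOf_pos g).ne'
  obtain ⟨r, hr, hrn⟩ := Nat.exists_prime_and_dvd hn
  obtain ⟨e, m, hm, hem⟩ := Nat.exists_eq_pow_mul_and_not_dvd hn0 r hr.ne_one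
  have he : e ≠ 0 := fun h => hm (by rw [h, pow_zero, one_mul] at hem; exact hem ▸ hrn)
  have hm0 : m ≠ 0 := fun h => hn0 (by rw [hem, h, mul_zero])
  obtain ⟨u, v, huv⟩ : IsCoprime (m : ℤ) ((r ^ e : ℕ) : ℤ) :=
    Nat.isCoprime_iff_coprime.2 ((hr.coprime_iff_not_dvd.2 hm).pow_left e).symm
  have h1 : g ^ m ∈ H := by
    refine hyp _ (pow_mem (Subgroup.mem_zpowers g) m) ⟨r, e, hr, hrn, ?_⟩
    rw [orderOf_pow' g hm0, hg, hem, Nat.gcd_eq_right (dvd_mul_left m _),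
      Nat.mul_div_cancel _ (Nat.pos_of_ne_zero hm0)]
  have h2 : g ^ r ^ e ∈ H := by
    have hlt : m < n := by
      rw [hem]; exact (Nat.lt_mul_iff_one_lt_left (Nat.pos_of_ne_zero hm0)).2 (Nat.one_lt_pow he hr.one_lt)
    refine IH m hlt _ ?_ ?_
    · rw [orderOf_pow' g (pow_ne_zero _ hr.ne_zero), hg, hem, Nat.gcd_eq_right (dvd_mul_right _ m),
        Nat.mul_div_cancel_left _ (pow_pos hr.pos e)]
    · rintro h hh ⟨r', e', hr', hr'm, ho⟩
      exact hyp h (Subgroup.zpowers_le.2 (pow_mem (Subgroup.mem_zpowers g) _) hh)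
        ⟨r', e', hr', hr'm.trans (hem ▸ dvd_mul_left m _), ho⟩
  rw [← zpow_one g, ← huv, zpow_add, mul_comm u, mul_comm v, zpow_mul, zpow_mul, zpow_natCast, zpow_natCast]
  exact mul_mem (zpow_mem h1 u) (zpow_mem h2 v)

/-- A `p`-element normalising but not centralising moves some element in an orbit of length at least `p`. -/
theorem orbit_inj {p k : ℕ} (hp : p.Prime) {g v : G} (hg : g ^ p ^ k = 1) (hv : g * v ≠ v * g) :
    Function.Injective (fun i : Fin p => g ^ (i : ℕ) * v * (g ^ (i : ℕ))⁻¹) := by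
  intro i j hij
  wlog h : (i : ℕ) ≤ j generalizing i j
  · exact (this hij.symm (le_of_not_ge h)).symm
  obtain ⟨d, hd⟩ := Nat.exists_eq_add_of_le h
  simp only at hij
  rw [hd, pow_add] at hij
  have hc : Commute (g ^ d) v := by
    refine mul_inv_eq_iff_eq_mul.1 ?_
    have h1 := congrArg (fun x => (g ^ (i : ℕ))⁻¹ * x * g ^ (i : ℕ)) hij
    calc g ^ d * v * (g ^ d)⁻¹ = (g ^ (i : ℕ))⁻¹ * (g ^ (i : ℕ) * g ^ d * v * (g ^ (i : ℕ) * g ^ d)⁻¹) * g ^ (i : ℕ) := by group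
      _ = (g ^ (i : ℕ))⁻¹ * (g ^ (i : ℕ) * v * (g ^ (i : ℕ))⁻¹) * g ^ (i : ℕ) := h1.symm
      _ = v := by group
  apply Fin.ext
  by_contra hne
  have hd0 : d ≠ 0 := by omega
  have hdp : ¬ p ∣ d := fun hh => by
    have := Nat.le_of_dvd (Nat.pos_of_ne_zero hd0) hh
    have := j.2
    omega
  obtain ⟨u, w, huw⟩ : IsCoprime (d : ℤ) ((p ^ k : ℕ) : ℤ) :=
    Nat.isCoprime_iff_coprime.2 (Nat.Coprime.pow_right k ((Nat.coprime_comm).1 (hp.coprime_iff_not_dvd.2 hdp)))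
  apply hv
  have : Commute g v := by
    rw [← zpow_one g, ← huw, zpow_add, mul_comm u, mul_comm w, zpow_mul, zpow_mul, zpow_natCast, zpow_natCast, hg,
      one_zpow, mul_one]
    exact hc.zpow_left u
  exact this.eq

theorem isPGroup_of_primes {p : ℕ} (H : Subgroup G) (h : ∀ r : ℕ, r.Prime → r ∣ Nat.card H → r = p) :
    IsPGroup p H :=
  IsPGroup.of_card (Nat.eq_prime_pow_of_unique_prime_dvd Nat.card_pos.ne' (fun {r} hr hrd => h r hr hrd))

theorem pow_mem_of_orderOf {p : ℕ} (hp : p.Prime) {x : G} {H : Subgroup G} (hH : IsPGroup p H) (hx : x ∈ H) :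
    ∃ k, x ^ p ^ k = 1 := by
  obtain ⟨k, hk⟩ := hH ⟨x, hx⟩
  exact ⟨k, congrArg Subtype.val hk⟩

theorem zpowers_pgroup {p k : ℕ} {x : G} (hx : x ^ p ^ k = 1) : IsPGroup p (Subgroup.zpowers x) := by
  rintro ⟨y, hy⟩
  obtain ⟨i, rfl⟩ := Subgroup.mem_zpowers_iff.1 hy
  refine ⟨k, Subtype.ext ?_⟩
  show (x ^ i) ^ p ^ k = 1
  rw [← zpow_natCast, ← zpow_mul, mul_comm, zpow_mul, zpow_natCast, hx, one_zpow]

/-- the setting of the exceptional case -/
structure Exc (G : Type u) [Group G] [Finite G] (p a : ℕ) (Q : Subgroup G) : Prop where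
  pp : p.Prime
  p2 : p ≠ 2
  ha : 2 ≤ a
  hpa : p + 1 = 2 ^ a
  cardQ : Nat.card Q = 2 ^ a
  syl : ¬ 2 ∣ Q.index
  elem : ∀ x ∈ Q, x * x = 1
  trans : ∃ y : G, (∃ k, y ^ p ^ k = 1) ∧ y ∈ Subgroup.normalizer (Q : Set G) ∧
    ∀ u ∈ Q, u ≠ 1 → ∀ v ∈ Q, v ≠ 1 → ∃ i : ℕ, y ^ i * u * (y ^ i)⁻¹ = v
  ab : ∀ P : Subgroup G, IsPGroup p P → ∀ a ∈ P, ∀ b ∈ P, a * b = b * a
  mixed : ∀ H : Subgroup G, H ≠ ⊤ → 2 ∣ Nat.card H → ∀ r : ℕ, r.Prime → r ∣ Nat.card H → r = 2 ∨ r = p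
  simple : ∀ N : Subgroup G, N.Normal → N = ⊥ ∨ N = ⊤
  third : ∃ r : ℕ, r.Prime ∧ r ∣ Nat.card G ∧ r ≠ 2 ∧ r ≠ p
  pdvd : p ∣ Nat.card G

variable {p a : ℕ} {Q : Subgroup G}

theorem Exc.conj (E : Exc G p a Q) (g : G) : Exc G p a (Q.map (MulAut.conj g).toMonoidHom) := by
  have hc : Nat.card (Q.map (MulAut.conj g).toMonoidHom) = Nat.card Q :=
    (Nat.card_congr (Q.equivMapOfInjective _ (MulAut.conj g).injective).toEquiv).symm
  refine { E with cardQ := hc.trans E.cardQ, syl := ?_, elem := ?_, trans := ?_ }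
  · have h1 := Q.card_mul_index
    have h2 := (Q.map (MulAut.conj g).toMonoidHom).card_mul_index
    rw [hc, ← h1] at h2
    rw [Nat.eq_of_mul_eq_mul_left Nat.card_pos h2]
    exact E.syl
  · rintro _ ⟨x, hx, rfl⟩
    rw [← map_mul, E.elem x hx, map_one]
  · obtain ⟨y, ⟨k, hy⟩, hyn, htr⟩ := E.trans
    refine ⟨g * y * g⁻¹, ⟨k, by rw [conj_pow, hy, mul_one, mul_inv_cancel]⟩, ?_, ?_⟩
    · rw [Subgroup.mem_normalizer_iff]
      intro x
      have h := Subgroup.mem_normalizer_iff.1 hyn (g⁻¹ * x * g)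
      have e : g * y * g⁻¹ * x * (g * y * g⁻¹)⁻¹ = g * (y * (g⁻¹ * x * g) * y⁻¹) * g⁻¹ := by group
      rw [e]
      constructor
      · rintro ⟨x', hx', rfl⟩
        refine ⟨y * x' * y⁻¹, (Subgroup.mem_normalizer_iff.1 hyn x').1 hx', ?_⟩
        simp [mul_assoc]
      · rintro ⟨x', hx', hxx⟩
        have hx'' : x' = y * (g⁻¹ * x * g) * y⁻¹ := by
          have hxx' : g * x' * g⁻¹ = g * (y * (g⁻¹ * x * g) * y⁻¹) * g⁻¹ := hxx
          exact mul_left_cancel (mul_right_cancel hxx')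
        refine ⟨g⁻¹ * x * g, h.2 (hx'' ▸ hx'), ?_⟩
        simp [mul_assoc]
    · rintro _ ⟨u, hu, rfl⟩ hu1 _ ⟨v, hv, rfl⟩ hv1
      obtain ⟨i, hi⟩ := htr u hu (fun h => hu1 (by rw [h, map_one])) v hv (fun h => hv1 (by rw [h, map_one]))
      refine ⟨i, ?_⟩
      show (g * y * g⁻¹) ^ i * (g * u * g⁻¹) * ((g * y * g⁻¹) ^ i)⁻¹ = g * v * g⁻¹
      rw [conj_pow, ← hi]
      group

theorem Exc.not_pgroup (E : Exc G p a Q) (q : ℕ) (hq : q = 2 ∨ q = p) : ∃ r : ℕ, r.Prime ∧ r ∣ Nat.card G ∧ r ≠ q := by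
  obtain ⟨r, hr, hrd, h2, hp⟩ := E.third
  exact ⟨r, hr, hrd, by rcases hq with rfl | rfl <;> assumption⟩

theorem Exc.one_lt (E : Exc G p a Q) : 4 ≤ Nat.card Q := by
  rw [E.cardQ]
  calc 4 = 2 ^ 2 := by norm_num
    _ ≤ _ := Nat.pow_le_pow_right (by norm_num) E.ha

theorem Exc.Q_ne_bot (E : Exc G p a Q) : Q ≠ ⊥ := fun h => by
  have := E.one_lt
  rw [h, Subgroup.card_bot] at this
  omega

theorem Exc.Q_ne_top (E : Exc G p a Q) : Q ≠ ⊤ := fun h => by
  obtain ⟨r, hr, hrd, h2⟩ := E.not_pgroup 2 (Or.inl rfl)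
  rw [← Subgroup.card_top, ← h, E.cardQ] at hrd
  exact h2 ((Nat.prime_dvd_prime_iff_eq hr Nat.prime_two).1 (hr.dvd_of_dvd_pow hrd))

theorem Exc.Q_pgroup (E : Exc G p a Q) : IsPGroup 2 Q := IsPGroup.of_card E.cardQ

theorem Exc.exists_conj_mem (E : Exc G p a Q) {S : Subgroup G} (hS : IsPGroup 2 S) :
    ∃ g : G, S ≤ Q.map (MulAut.conj g).toMonoidHom := by
  haveI : Fact (Nat.Prime 2) := ⟨Nat.prime_two⟩
  obtain ⟨T, hT⟩ := hS.exists_le_sylow
  obtain ⟨g, hg⟩ := MulAction.exists_smul_eq G (E.Q_pgroup.toSylow E.syl) T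
  refine ⟨g, hT.trans ?_⟩
  rw [← hg]
  intro x hx
  exact hx

theorem Exc.ord_two (E : Exc G p a Q) {u : G} (hu : u ∈ Q) (h1 : u ≠ 1) : orderOf u = 2 :=
  haveI : Fact (Nat.Prime 2) := ⟨Nat.prime_two⟩
  orderOf_eq_prime (by rw [pow_two]; exact E.elem u hu) h1

theorem Exc.commQ (E : Exc G p a Q) {u v : G} (hu : u ∈ Q) (hv : v ∈ Q) : u * v = v * u := by
  have huv := E.elem _ (mul_mem hu hv)
  have h1 : u⁻¹ = u := inv_eq_of_mul_eq_one_left (E.elem u hu)
  have h2 : v⁻¹ = v := inv_eq_of_mul_eq_one_left (E.elem v hv)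
  rw [← inv_eq_of_mul_eq_one_left huv, mul_inv_rev, h1, h2]

theorem inv_mul_self_of_two {u : G} (h : orderOf u = 2) : u * u = 1 ∧ u⁻¹ = u := by
  have h1 : u * u = 1 := by rw [← pow_two, ← h, pow_orderOf_eq_one]
  exact ⟨h1, inv_eq_of_mul_eq_one_left h1⟩

theorem Exc.one_class (E : Exc G p a Q) {t : G} (ht : t ∈ Q) (ht1 : t ≠ 1) {u : G} (hu : orderOf u = 2) :
    ∃ g : G, g * t * g⁻¹ = u := by
  obtain ⟨g, hg⟩ := E.exists_conj_mem (zpowers_pgroup (p := 2) (k := 1) (x := u) (by rw [pow_one, ← hu]; exact pow_orderOf_eq_one u))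
  obtain ⟨v, hv, hvu⟩ := hg (Subgroup.mem_zpowers u)
  have hv1 : v ≠ 1 := fun h => by rw [h, map_one] at hvu; rw [← hvu, orderOf_one] at hu; omega
  obtain ⟨y, -, -, htr⟩ := E.trans
  obtain ⟨i, hi⟩ := htr t ht ht1 v hv hv1
  refine ⟨g * y ^ i, ?_⟩
  have hvu' : g * v * g⁻¹ = u := hvu
  rw [← hvu', ← hi]; group

theorem Exc.centralizer_ne_top (E : Exc G p a Q) {x : G} (hx : x ≠ 1) :
    Subgroup.centralizer ({x} : Set G) ≠ ⊤ := by
  intro h
  have hxc : x ∈ Subgroup.center G := Subgroup.mem_center_iff.2 fun g =>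
    Subgroup.mem_centralizer_singleton_iff.1 (h.ge (Subgroup.mem_top g))
  rcases E.simple _ (inferInstance : (Subgroup.center G).Normal) with hz | hz
  · rw [hz, Subgroup.mem_bot] at hxc; exact hx hxc
  · rcases E.simple Q ⟨fun q hq g => by
        rw [Subgroup.mem_center_iff.1 (hz.ge (Subgroup.mem_top q)) g, mul_inv_cancel_right]; exact hq⟩ with h | h
    · exact E.Q_ne_bot h
    · exact E.Q_ne_top h

theorem Exc.odd_norm (E : Exc G p a Q) {t : G} (ht : orderOf t = 2) {D : Subgroup G} (hodd : ¬ 2 ∣ Nat.card D)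
    (hnorm : t ∈ Subgroup.normalizer (D : Set G)) : IsPGroup p D := by
  refine isPGroup_of_primes D fun r hr hrd => ?_
  have hH : D ⊔ Subgroup.zpowers t ≠ ⊤ := by
    intro htop
    have hn : D.Normal := Subgroup.normalizer_eq_top_iff.1 (top_le_iff.1 (htop.ge.trans
      (sup_le Subgroup.le_normalizer (Subgroup.zpowers_le.2 hnorm))))
    rcases E.simple D hn with h | h
    · rw [h, Subgroup.card_bot] at hrd; exact hr.ne_one (Nat.dvd_one.1 hrd)
    · rw [h, Subgroup.card_top] at hodd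
      exact hodd (ht ▸ orderOf_dvd_natCard t)
  have h2 : 2 ∣ Nat.card (D ⊔ Subgroup.zpowers t : Subgroup G) := by
    refine dvd_trans ?_ (Subgroup.card_dvd_of_le (le_sup_right : Subgroup.zpowers t ≤ D ⊔ Subgroup.zpowers t))
    rw [Nat.card_zpowers, ht]
  exact (E.mixed _ hH h2 r hr (hrd.trans (Subgroup.card_dvd_of_le le_sup_left))).resolve_left
    fun h => hodd (h ▸ hrd)

theorem Exc.fix_centralizes (E : Exc G p a Q) {t : G} (ht : t ∈ Q) (ht1 : t ≠ 1) {g : G} {k : ℕ} (hg : g ^ p ^ k = 1)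
    (hn : g ∈ Subgroup.normalizer (Q : Set G)) (hgt : g * t = t * g) : ∀ v ∈ Q, g * v = v * g := by
  intro v hv
  by_contra hne
  have hinj := orbit_inj E.pp hg hne
  let f : Option (Option (Fin p)) → Q := fun o => o.elim ⟨1, one_mem _⟩ fun o => o.elim ⟨t, ht⟩ fun i =>
    ⟨g ^ (i : ℕ) * v * (g ^ (i : ℕ))⁻¹, (Subgroup.mem_normalizer_iff.1 (pow_mem hn _) v).1 hv⟩
  have hfix : ∀ (i : ℕ) (w : G), g * w = w * g → g ^ i * v * (g ^ i)⁻¹ = w → False := by
    intro i w hw h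
    apply hne
    have hv' : v = w := by
      calc v = (g ^ i)⁻¹ * (g ^ i * v * (g ^ i)⁻¹) * g ^ i := by group
        _ = (g ^ i)⁻¹ * w * g ^ i := by rw [h]
        _ = w := by rw [mul_assoc, ← ((show Commute g w from hw).pow_left i).eq, inv_mul_cancel_left]
    rw [hv']; exact hw
  have hf : Function.Injective f := by
    intro o o' h
    have h' := congrArg Subtype.val h
    rcases o with _ | _ | i <;> rcases o' with _ | _ | j
    · rfl
    · exact absurd (show (1 : G) = t from h') (Ne.symm ht1)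
    · exact (hfix j 1 (by simp) (show (1 : G) = _ from h').symm).elim
    · exact absurd (show t = 1 from h') ht1
    · rfl
    · exact (hfix j t hgt (show t = _ from h').symm).elim
    · exact (hfix i 1 (by simp) (show _ = (1 : G) from h')).elim
    · exact (hfix i t hgt (show _ = t from h')).elim
    · exact congrArg (fun x => some (some x)) (hinj (show _ = _ from h'))
  have := Nat.card_le_card_of_injective f hf
  rw [Finite.card_option, Finite.card_option, Nat.card_fin, E.cardQ, ← E.hpa] at this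
  omega

theorem Exc.centralizer_data (E : Exc G p a Q) {t : G} (ht : t ∈ Q) (ht1 : t ≠ 1) :
    ∃ K : Subgroup G, K ≤ Subgroup.centralizer ({t} : Set G) ∧ IsPGroup p K ∧ ¬ 2 ∣ Nat.card K ∧
      (∀ g ∈ Subgroup.centralizer ({t} : Set G), ¬ 2 ∣ orderOf g → g ∈ K) ∧
      Nat.card (Subgroup.centralizer ({t} : Set G)) = 2 ^ a * Nat.card K := by
  classical
  haveI : Fact (Nat.Prime 2) := ⟨Nat.prime_two⟩
  haveI : Fact p.Prime := ⟨E.pp⟩
  set C := Subgroup.centralizer ({t} : Set G) with hC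
  have hQC : Q ≤ C := fun q hq => Subgroup.mem_centralizer_singleton_iff.2 (E.commQ hq ht)
  let P : Sylow 2 C := (E.Q_pgroup.toSylow E.syl).subtype hQC
  have hP : (P : Subgroup C) = Q.subgroupOf C := rfl
  have h2C : 2 ∣ Nat.card C := by
    have : orderOf t ∣ Nat.card C := Subgroup.orderOf_mk t (hQC ht) ▸ orderOf_dvd_natCard (⟨t, hQC ht⟩ : C)
    rwa [E.ord_two ht ht1] at this
  have hnp : Cfsg.HasNormalPComplement 2 C := by
    refine Fusion.hnpc_of_normalizer_le_centralizer P fun g hg => ?_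
    refine mem_of_prime_parts _ _ g rfl ?_
    rintro h hh ⟨r, e, hr, hrd, ho⟩
    have hhn : h ∈ Subgroup.normalizer (P : Set C) := Subgroup.zpowers_le.2 hg hh
    rcases E.mixed C (E.centralizer_ne_top ht1) h2C r hr (hrd.trans (orderOf_dvd_natCard g)) with rfl | rfl
    · have hp2 : IsPGroup 2 (Subgroup.zpowers h) := zpowers_pgroup (k := e) (by rw [← ho]; exact pow_orderOf_eq_one h)
      have hle : Subgroup.zpowers h ⊔ (P : Subgroup C) = (P : Subgroup C) :=
        P.is_maximal' (hp2.to_sup_of_normal_right' P.isPGroup' (Subgroup.zpowers_le.2 hhn)) le_sup_right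
      have hhP : h ∈ (P : Subgroup C) := hle ▸ Subgroup.mem_sup_left (Subgroup.mem_zpowers h)
      exact Subgroup.mem_centralizer_iff.2 fun q hq => Subtype.ext (E.commQ hq hhP)
    · have hkey : ∀ v ∈ Q, (h : G) * v = v * h := by
        refine E.fix_centralizes ht ht1 (k := e) ?_ ?_ (Subgroup.mem_centralizer_singleton_iff.1 h.2)
        · rw [← Subgroup.coe_pow, ← ho, pow_orderOf_eq_one]; rfl
        · rw [Subgroup.mem_normalizer_iff]
          intro x
          by_cases hx : x ∈ C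
          · have := Subgroup.mem_normalizer_iff.1 hhn ⟨x, hx⟩
            simpa [hP, Subgroup.mem_subgroupOf] using this
          · refine iff_of_false (fun h' => hx (hQC h')) fun h' => hx ?_
            have := mul_mem (mul_mem (inv_mem h.2) (hQC h')) h.2
            rwa [show (h : G)⁻¹ * ((h : G) * x * (h : G)⁻¹) * h = x by group] at this
      exact Subgroup.mem_centralizer_iff.2 fun q hq => Subtype.ext (hkey q hq).symm
  obtain ⟨N, hNn, hNc⟩ := Fusion.hnpc_exists_complement hnp P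
  have hodd : ¬ 2 ∣ Nat.card N := by
    rw [← Fusion.coprime_card_iff_not_dvd]; exact Fusion.coprime_card_of_isComplement' hNc
  have hcN : Nat.card (N.map C.subtype) = Nat.card N :=
    (Nat.card_congr (N.equivMapOfInjective _ C.subtype_injective).toEquiv).symm
  refine ⟨N.map C.subtype, Subgroup.map_subtype_le N, ?_, by rwa [hcN], fun g hg hgo => ?_, ?_⟩
  · refine E.odd_norm (E.ord_two ht ht1) (by rwa [hcN]) ?_
    refine Subgroup.centralizer_le_normalizer _ (Subgroup.mem_centralizer_iff.2 ?_)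
    rintro _ ⟨x, -, rfl⟩
    exact Subgroup.mem_centralizer_singleton_iff.1 x.2
  · refine ⟨⟨g, hg⟩, ?_, rfl⟩
    show (⟨g, hg⟩ : C) ∈ N
    rw [Fusion.eq_pResidual_of_isComplement' hNc, Fusion.hnpc_mem_iff hnp, Subgroup.orderOf_mk]
    exact (Nat.coprime_comm).1 (Nat.prime_two.coprime_iff_not_dvd.2 hgo)
  · rw [hcN, ← hNc.card_mul, mul_comm]
    congr 1
    rw [hP, Solv.card_subgroupOf hQC, E.cardQ]

theorem Exc.conj_rep (E : Exc G p a Q) {h : G} (hh : orderOf h = 2) :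
    ∃ g : G, h ∈ Q.map (MulAut.conj g).toMonoidHom := by
  obtain ⟨g, hg⟩ := E.exists_conj_mem (zpowers_pgroup (p := 2) (k := 1) (x := h)
    (by rw [pow_one, ← hh]; exact pow_orderOf_eq_one h))
  exact ⟨g, hg (Subgroup.mem_zpowers h)⟩

theorem odd_of_dvd {n m : ℕ} (h : n ∣ m) (hm : ¬ 2 ∣ m) : ¬ 2 ∣ n := fun h2 => hm (h2.trans h)

theorem orderOf_dvd_card {H : Subgroup G} {x : G} (hx : x ∈ H) : orderOf x ∣ Nat.card H :=
  Subgroup.orderOf_mk x hx ▸ orderOf_dvd_natCard (⟨x, hx⟩ : H)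

theorem eq_one_of_sq {x : G} (h : x * x = 1) (hodd : ¬ 2 ∣ orderOf x) : x = 1 := by
  have h1 : orderOf x ∣ 2 := orderOf_dvd_of_pow_eq_one (by rw [pow_two, h])
  rcases (Nat.dvd_prime Nat.prime_two).1 h1 with h2 | h2
  · exact orderOf_eq_one_iff.1 h2
  · exact absurd (h2.symm ▸ dvd_refl 2) hodd

theorem odd_of_ppow {p k : ℕ} (hp : p.Prime) (hp2 : p ≠ 2) {x : G} (hx : x ^ p ^ k = 1) : ¬ 2 ∣ orderOf x :=
  fun h => hp2 ((Nat.prime_dvd_prime_iff_eq Nat.prime_two hp).1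
    (Nat.prime_two.dvd_of_dvd_pow (h.trans (orderOf_dvd_of_pow_eq_one hx)))).symm

theorem Exc.pgroup_odd (E : Exc G p a Q) {D : Subgroup G} (hD : IsPGroup p D) : ¬ 2 ∣ Nat.card D := by
  haveI : Fact p.Prime := ⟨E.pp⟩
  obtain ⟨k, hk⟩ := IsPGroup.iff_card.1 hD
  rw [hk]
  exact fun h => E.p2 ((Nat.prime_dvd_prime_iff_eq Nat.prime_two E.pp).1 (Nat.prime_two.dvd_of_dvd_pow h)).symm

/-- either two involutions have a common commuting involution, or their product has a nontrivial inverted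
`p`-part -/
theorem Exc.product_cases (E : Exc G p a Q) {t u : G} (ht : orderOf t = 2) (hu : orderOf u = 2) :
    (∃ s : G, orderOf s = 2 ∧ s * t = t * s ∧ s * u = u * s) ∨
    (∃ x : G, x = t * u ∧ x ≠ 1 ∧ (∃ k, x ^ p ^ k = 1) ∧ t * x * t = x⁻¹) := by
  obtain ⟨htt, hti⟩ := inv_mul_self_of_two ht
  obtain ⟨huu, hui⟩ := inv_mul_self_of_two hu
  have hinv : t * (t * u) * t = (t * u)⁻¹ := by rw [mul_inv_rev, hti, hui, ← mul_assoc, htt, one_mul]
  by_cases h1 : t * u = 1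
  · have htu : t = u := by rw [eq_inv_of_mul_eq_one_left h1, hui]
    exact Or.inl ⟨t, ht, rfl, by rw [← htu]⟩
  by_cases h2 : 2 ∣ orderOf (t * u)
  · left
    obtain ⟨m, hm⟩ := h2
    have hm0 : m ≠ 0 := fun h => (orderOf_pos (t * u)).ne' (by rw [hm, h, mul_zero])
    have hs : orderOf ((t * u) ^ m) = 2 := by
      rw [orderOf_pow' _ hm0, hm, Nat.gcd_eq_right (dvd_mul_left m 2), Nat.mul_div_cancel _ (Nat.pos_of_ne_zero hm0)]
    obtain ⟨hss, hsi⟩ := inv_mul_self_of_two hs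
    refine ⟨_, hs, ?_, ?_⟩
    · have h3 : t * (t * u) ^ m * t⁻¹ = (t * u) ^ m := by
        rw [← conj_pow, hti, hinv, inv_pow, hsi]
      exact (mul_inv_eq_iff_eq_mul.1 h3).symm
    · have h3 : t * (t * u) ^ m * t⁻¹ = (t * u) ^ m := by
        rw [← conj_pow, hti, hinv, inv_pow, hsi]
      have c1 : Commute ((t * u) ^ m) t := (mul_inv_eq_iff_eq_mul.1 h3).symm
      have c2 : Commute ((t * u) ^ m) (t * u) := (Commute.refl _).pow_left m
      have := c1.mul_right c2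
      rwa [← mul_assoc, htt, one_mul] at this
  · right
    refine ⟨_, rfl, h1, ?_, hinv⟩
    have hnorm : t ∈ Subgroup.normalizer (Subgroup.zpowers (t * u) : Set G) := by
      have hsub : ∀ z ∈ Subgroup.zpowers (t * u), t * z * t⁻¹ ∈ Subgroup.zpowers (t * u) := by
        intro z hz
        obtain ⟨i, rfl⟩ := Subgroup.mem_zpowers_iff.1 hz
        rw [← conj_zpow, hti, hinv]
        exact zpow_mem (inv_mem (Subgroup.mem_zpowers _)) i
      rw [Subgroup.mem_normalizer_iff]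
      refine fun z => ⟨hsub z, fun hz => ?_⟩
      have := hsub _ hz
      rwa [hti, ← mul_assoc, ← mul_assoc, htt, one_mul, mul_assoc, htt, mul_one] at this
    have hD := E.odd_norm ht (by rw [Nat.card_zpowers]; exact h2) hnorm
    exact pow_mem_of_orderOf E.pp hD (Subgroup.mem_zpowers _)

/-- the core of a proper subgroup containing `Q` -/
theorem Exc.core_data (E : Exc G p a Q) {X : Subgroup G} (hX : X ≠ ⊤) (hQX : Q ≤ X) :
    ∃ W : Subgroup G, W ≤ X ∧ IsPGroup p W ∧ X ≤ Subgroup.normalizer (W : Set G) ∧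
      (∀ D : Subgroup G, D ≤ X → X ≤ Subgroup.normalizer (D : Set G) → IsPGroup p D → D ≤ W) ∧
      (∀ x ∈ X, ∀ q ∈ Q, ∃ w ∈ W, ∃ q' ∈ Q, x * q * x⁻¹ = w * q') := by
  classical
  haveI : Fact (Nat.Prime 2) := ⟨Nat.prime_two⟩
  haveI : Fact p.Prime := ⟨E.pp⟩
  have h2X : 2 ∣ Nat.card X := by
    refine dvd_trans ?_ (Subgroup.card_dvd_of_le hQX)
    rw [E.cardQ]; exact dvd_pow_self 2 (by have := E.ha; omega)
  set O := Cfsg.pCore p X with hO
  haveI : O.Normal := Solv.pCore_normal p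
  set W := O.map X.subtype with hW
  have hWX : W ≤ X := Subgroup.map_subtype_le O
  refine ⟨W, hWX, (Fusion.isPGroup_pCore p X).map _, ?_, ?_, ?_⟩
  · have hle := Subgroup.le_normalizer_map (H := O) X.subtype
    rwa [Subgroup.normalizer_eq_top_iff.2 inferInstance, ← MonoidHom.range_eq_map, Subgroup.range_subtype] at hle
  · intro D hD hDn hDp
    haveI : (D.subgroupOf X).Normal := ⟨fun d hd x =>
      (Subgroup.mem_normalizer_iff.1 (hDn x.2) (d : G)).1 hd⟩
    have hle : D.subgroupOf X ≤ O := Fusion.le_pCore (hDp.comap_subtype)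
    exact fun d hd => ⟨⟨d, hD hd⟩, hle hd, rfl⟩
  · set π := QuotientGroup.mk' O
    have hprimes : ∀ r : ℕ, r.Prime → r ∣ Nat.card (X ⧸ O) → r = 2 ∨ r = p := fun r hr hrd =>
      E.mixed X hX h2X r hr (hrd.trans (Subgroup.card_quotient_dvd_card O))
    have hsolv : Group.IsSolvable (X ⧸ O) := Char.isSolvable_of_two_primes Nat.prime_two E.pp _ rfl hprimes
    have hcore : ∀ r : Nat.Primes, (r : ℕ) ≠ 2 → Cfsg.pCore (r : ℕ) (X ⧸ O) = ⊥ := by
      intro r hr
      haveI : Fact (r : ℕ).Prime := ⟨r.2⟩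
      by_cases hrp : (r : ℕ) = p
      · rw [hrp]; exact Fusion.pCore_quotient_eq_bot
      · obtain ⟨k, hk⟩ := IsPGroup.iff_card.1 (Fusion.isPGroup_pCore (r : ℕ) (X ⧸ O))
        by_cases hk0 : k = 0
        · rw [hk0, pow_zero] at hk; exact Subgroup.eq_bot_of_card_eq _ hk
        · have hd : (r : ℕ) ∣ Nat.card (X ⧸ O) :=
            ((dvd_pow_self _ hk0).trans hk.symm.dvd).trans (Subgroup.card_subgroup_dvd_card _)
          rcases hprimes _ r.2 hd with h | h
          · exact absurd h hr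
          · exact absurd h hrp
    let PX : Sylow 2 X := (E.Q_pgroup.toSylow E.syl).subtype hQX
    let PB : Sylow 2 (X ⧸ O) := PX.mapSurjective (QuotientGroup.mk'_surjective O)
    have hF : Cfsg.fittingSubgroup (X ⧸ O) ≤ (PB : Subgroup (X ⧸ O)) := by
      rw [Solv.fitting_eq_iSup_pCore]
      refine iSup_le fun r => ?_
      by_cases hr : (r : ℕ) = 2
      · rw [hr]; exact Fusion.pCore_le_sylow PB
      · rw [hcore r hr]; exact bot_le
    have hPB : (PB : Subgroup (X ⧸ O)) = (Q.subgroupOf X).map π := rfl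
    have hle : (PB : Subgroup (X ⧸ O)) ≤ Cfsg.fittingSubgroup (X ⧸ O) := by
      refine le_trans ?_ (Solv.centralizer_fitting_le hsolv)
      intro b hb
      refine Subgroup.mem_centralizer_iff.2 fun f hf => ?_
      have hf' := hF hf
      rw [hPB] at hb hf'
      obtain ⟨b', hb', rfl⟩ := hb
      obtain ⟨f', hf', rfl⟩ := hf'
      rw [← map_mul, ← map_mul, show f' * b' = b' * f' from Subtype.ext (E.commQ hf' hb')]
    have hN : (PB : Subgroup (X ⧸ O)).Normal := by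
      rw [le_antisymm hle hF]; exact Solv.fittingSubgroup_normal
    intro x hx q hq
    have h := hN.conj_mem (π ⟨q, hQX hq⟩) (hPB ▸ ⟨⟨q, hQX hq⟩, hq, rfl⟩) (π ⟨x, hx⟩)
    rw [hPB] at h
    obtain ⟨q', hq', hqq⟩ := h
    rw [← map_inv, ← map_mul, ← map_mul] at hqq
    have hw : (⟨x, hx⟩ : X) * ⟨q, hQX hq⟩ * (⟨x, hx⟩ : X)⁻¹ * q'⁻¹ ∈ O := by
      rw [← QuotientGroup.eq_one_iff]
      show π _ = 1
      rw [map_mul, ← hqq, map_inv, mul_inv_cancel]
    exact ⟨_, ⟨_, hw, rfl⟩, (q' : G), hq', by simp⟩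

theorem Exc.index_facts (E : Exc G p a Q) {B : Subgroup G} (hB : B ≤ Q) {c : G} (hc : c ∈ Q)
    (h : B ⊔ Subgroup.zpowers c = Q) : Nat.card Q ≤ Nat.card B * 2 := by
  have hn : Subgroup.zpowers c ≤ Subgroup.normalizer (B : Set G) := fun g hg =>
    Subgroup.centralizer_le_normalizer _ (Subgroup.mem_centralizer_iff.2 fun b hb =>
      E.commQ (hB hb) (Subgroup.zpowers_le.2 hc hg))
  have hc2 : Nat.card (Subgroup.zpowers c) ≤ 2 := by
    rw [Nat.card_zpowers]; exact orderOf_le_of_pow_eq_one (by norm_num) (by rw [pow_two]; exact E.elem c hc)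
  calc Nat.card Q = Set.ncard ((B : Set G) * (Subgroup.zpowers c : Set G)) := by
        rw [← Subgroup.coe_mul_of_right_le_normalizer_left B (Subgroup.zpowers c) hn, h, ← Nat.card_coe_set_eq]
        rfl
    _ ≤ Set.ncard (B : Set G) * Set.ncard (Subgroup.zpowers c : Set G) := by
        rw [← Nat.card_coe_set_eq, ← Nat.card_coe_set_eq, ← Nat.card_coe_set_eq]
        exact Set.natCard_mul_le
    _ ≤ Nat.card B * 2 := by
        rw [← Nat.card_coe_set_eq, ← Nat.card_coe_set_eq]; exact Nat.mul_le_mul_left _ hc2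

theorem Exc.cycQuot_ne_bot (E : Exc G p a Q) {B : Subgroup G} (hB : B ∈ Solv.CycQuot Q) : B ≠ ⊥ := by
  obtain ⟨hle, c, hc, h⟩ := hB
  intro hb
  have h1 := E.index_facts hle hc h
  rw [hb, Subgroup.card_bot] at h1
  have := E.one_lt
  omega

/-- a `p`-subgroup normalised by `Q` is generated by its centralizers of index two subgroups -/
theorem Exc.gen (E : Exc G p a Q) {D : Subgroup G} (hD : IsPGroup p D)
    (hQD : Q ≤ Subgroup.normalizer (D : Set G)) (J : Subgroup G)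
    (h : ∀ B ∈ Solv.CycQuot Q, ∀ x ∈ D, (∀ b ∈ B, b * x = x * b) → x ∈ J) : D ≤ J := by
  have hco : (Nat.card Q).Coprime (Nat.card D) := by
    rw [E.cardQ]; exact (Nat.prime_two.coprime_iff_not_dvd.2 (E.pgroup_odd hD)).pow_left a
  rw [← Solv.gen_eq Q D ⟨⟨fun x y => Subtype.ext (E.commQ x.2 y.2)⟩⟩ hQD hco]
  exact iSup₂_le fun B hB x hx => h B hB x hx.1 fun b hb => Subgroup.mem_centralizer_iff.1 hx.2 b hb

end Cfsg.Agent.Solv.Mixed
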