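import Cfsg.Agent.Lib.Solv.MixedPrimeBase
import Cfsg.Agent.Lib.Char.Central

/-! The case of central odd parts in involution centralisers is impossible. -/

set_option autoImplicit false
set_option linter.style.haveILetI false

universe u

namespace Cfsg.Agent.Solv.Mixed

variable {G : Type u} [Group G] [Finite G] {p a : ℕ} {Q : Subgroup G}

/-- odd elements in involution centralisers centralise the Sylow subgroup -/
def OddCentral (Q : Subgroup G) : Prop :=
  ∀ t ∈ Q, t ≠ 1 → ∀ x : G, x * t = t * x → ¬ 2 ∣ orderOf x → ∀ v ∈ Q, x * v = v * x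

theorem OddCentral.conj (h : OddCentral Q) (g : G) : OddCentral (Q.map (MulAut.conj g).toMonoidHom) := by
  rintro _ ⟨t, ht, rfl⟩ ht1 x hxt hx _ ⟨v, hv, rfl⟩
  have hxt' : x * (g * t * g⁻¹) = g * t * g⁻¹ * x := hxt
  have ho : ¬ 2 ∣ orderOf (g⁻¹ * x * g) := by
    rwa [show g⁻¹ * x * g = MulAut.conj g⁻¹ x by simp, MulEquiv.orderOf_eq]
  have hc := h t ht (fun e => ht1 (by rw [e, map_one])) (g⁻¹ * x * g)
    (by calc g⁻¹ * x * g * t = g⁻¹ * (x * (g * t * g⁻¹)) * g := by group
          _ = _ := by rw [hxt']; group) ho v hv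
  show x * (g * v * g⁻¹) = g * v * g⁻¹ * x
  calc x * (g * v * g⁻¹) = g * (g⁻¹ * x * g * v) * g⁻¹ := by group
    _ = _ := by rw [hc]; group

theorem Exc.invol_centralizer (E : Exc G p a Q) (hO : OddCentral Q) {t : G} (ht : t ∈ Q) (ht1 : t ≠ 1)
    {s : G} (hs : orderOf s = 2) (hst : s * t = t * s) : s ∈ Q := by
  haveI : Fact (Nat.Prime 2) := ⟨Nat.prime_two⟩
  suffices hp2 : IsPGroup 2 (Subgroup.zpowers s ⊔ Q : Subgroup G) by
    have hle : Subgroup.zpowers s ⊔ Q = Q :=
      (E.Q_pgroup.toSylow E.syl).is_maximal' hp2 (le_sup_right : Q ≤ Subgroup.zpowers s ⊔ Q)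
    have hs' : s ∈ Subgroup.zpowers s ⊔ Q := Subgroup.mem_sup_left (Subgroup.mem_zpowers s)
    rwa [hle] at hs'
  refine IsPGroup.to_sup_of_normal_right' (zpowers_pgroup (p := 2) (k := 1) (x := s) ?_) E.Q_pgroup ?_
  · rw [pow_one, ← hs]; exact pow_orderOf_eq_one s
  rw [Subgroup.zpowers_le]
  -- the whole centraliser normalises `Q`
  obtain ⟨K, hKC, hKp, hKodd, hK, hcard⟩ := E.centralizer_data ht ht1
  have hKn : K ≤ Subgroup.centralizer (Q : Set G) := fun x hx => Subgroup.mem_centralizer_iff.2 fun v hv =>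
    (hO t ht ht1 x (Subgroup.mem_centralizer_singleton_iff.1 (hKC hx)) (odd_of_dvd (orderOf_dvd_card hx) hKodd) v hv).symm
  have hle : K ⊔ Q ≤ Subgroup.centralizer ({t} : Set G) :=
    sup_le hKC fun q hq => Subgroup.mem_centralizer_singleton_iff.2 (E.commQ hq ht)
  have heq : K ⊔ Q = Subgroup.centralizer ({t} : Set G) := by
    refine Subgroup.eq_of_le_of_card_ge hle ?_
    rw [hcard]
    refine Nat.le_of_dvd Nat.card_pos ?_
    refine Nat.Coprime.mul_dvd_of_dvd_of_dvd ((Nat.prime_two.coprime_iff_not_dvd.2 hKodd).pow_left a) ?_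
      (Subgroup.card_dvd_of_le le_sup_left)
    rw [← E.cardQ]; exact Subgroup.card_dvd_of_le le_sup_right
  exact (sup_le (hKn.trans (Subgroup.centralizer_le_normalizer _)) Subgroup.le_normalizer)
    (heq.ge (Subgroup.mem_centralizer_singleton_iff.2 hst))

theorem Exc.no_real (E : Exc G p a Q) (hO : OddCentral Q) {x t : G} (hx1 : x ≠ 1) (hodd : ¬ 2 ∣ orderOf x)
    (ht : orderOf t = 2) (hinv : t * x * t = x⁻¹) {h : G} (hh : orderOf h = 2) (hhx : h * x = x * h) : False := by
  obtain ⟨htt, hti⟩ := inv_mul_self_of_two ht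
  obtain ⟨g, hg⟩ := E.conj_rep hh
  set Q' := Q.map (MulAut.conj g).toMonoidHom with hQ'
  have E' := E.conj g
  have hh1 : h ≠ 1 := fun e => by rw [e, orderOf_one] at hh; omega
  have hQC : Q' ≤ Subgroup.centralizer ({x} : Set G) := fun v hv => Subgroup.mem_centralizer_singleton_iff.2
    ((hO.conj g) h hg hh1 x hhx.symm hodd v hv).symm
  set C := Subgroup.centralizer ({x} : Set G) with hC
  have hCi : ¬ 2 ∣ C.index := odd_of_dvd (Subgroup.index_dvd_of_le hQC) E'.syl
  set N := Subgroup.normalizer (Subgroup.zpowers x : Set G) with hN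
  have hCN : C ≤ N := by
    refine le_trans ?_ (Subgroup.centralizer_le_normalizer _)
    intro c hc
    refine Subgroup.mem_centralizer_iff.2 fun y hy => ?_
    obtain ⟨i, rfl⟩ := Subgroup.mem_zpowers_iff.1 hy
    exact (Commute.zpow_left (show Commute x c from (Subgroup.mem_centralizer_singleton_iff.1 hc).symm) i).eq
  have htN : t ∈ N := by
    have hsub : ∀ z ∈ Subgroup.zpowers x, t * z * t⁻¹ ∈ Subgroup.zpowers x := by
      intro z hz
      obtain ⟨i, rfl⟩ := Subgroup.mem_zpowers_iff.1 hz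
      rw [← conj_zpow, hti, hinv]
      exact zpow_mem (inv_mem (Subgroup.mem_zpowers _)) i
    rw [hN, Subgroup.mem_normalizer_iff]
    refine fun z => ⟨hsub z, fun hz => ?_⟩
    have := hsub _ hz
    rwa [hti, ← mul_assoc, ← mul_assoc, htt, one_mul, mul_assoc, htt, mul_one] at this
  haveI : (C.subgroupOf N).Normal := ⟨fun c hc n => by
    rw [Subgroup.mem_subgroupOf] at hc ⊢
    rw [Subgroup.mem_centralizer_singleton_iff] at hc ⊢
    obtain ⟨i, hi⟩ := Subgroup.mem_zpowers_iff.1 ((Subgroup.mem_normalizer_iff.1 (inv_mem n.2) x).1 (Subgroup.mem_zpowers x))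
    have hci : Commute (c : G) (x ^ i) := (show Commute (c : G) x from hc).zpow_right i
    rw [hi, inv_inv] at hci
    push_cast
    calc (n : G) * c * (n : G)⁻¹ * x = (n : G) * ((c : G) * ((n : G)⁻¹ * x * n)) * (n : G)⁻¹ := by group
      _ = _ := by rw [hci.eq]; group⟩
  have hrel : ¬ 2 ∣ C.relIndex N := odd_of_dvd (Subgroup.relIndex_dvd_index_of_le hCN) hCi
  have hmem : (⟨t, htN⟩ : N) ^ (C.subgroupOf N).index ∈ C.subgroupOf N := Subgroup.pow_index_mem _ _
  rw [Subgroup.mem_subgroupOf, Subgroup.coe_pow] at hmem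
  obtain ⟨l, hl⟩ : ∃ l, (C.subgroupOf N).index = 2 * l + 1 := ⟨(C.subgroupOf N).index / 2, by
    have : ¬ 2 ∣ (C.subgroupOf N).index := hrel
    omega⟩
  rw [hl, pow_succ, pow_mul, pow_two, htt, one_pow, one_mul, Subgroup.mem_centralizer_singleton_iff] at hmem
  have hxx : x * x = 1 := by
    rw [hmem, mul_assoc, htt, mul_one] at hinv
    exact mul_eq_one_iff_eq_inv.2 hinv
  exact hx1 (eq_one_of_sq hxx hodd)

theorem Exc.central_false (E : Exc G p a Q) (hO : OddCentral Q) : False := by
  classical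
  haveI : Fact (Nat.Prime 2) := ⟨Nat.prime_two⟩
  haveI : Fact p.Prime := ⟨E.pp⟩
  have h4 := E.one_lt
  obtain ⟨t, ht, ht1⟩ := (Subgroup.bot_or_exists_ne_one Q).resolve_left E.Q_ne_bot
  have hto := E.ord_two ht ht1
  obtain ⟨htt, hti⟩ := inv_mul_self_of_two hto
  -- a real p-element
  have hdich : ∀ u : G, orderOf u = 2 → u ∈ Q ∨
      (∃ x : G, x = t * u ∧ x ≠ 1 ∧ (∃ k, x ^ p ^ k = 1) ∧ t * x * t = x⁻¹) := by
    intro u hu
    rcases E.product_cases hto hu with ⟨s, hs, hst, hsu⟩ | h
    · left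
      have hsQ := E.invol_centralizer hO ht ht1 hs hst
      exact E.invol_centralizer hO hsQ (fun e => by rw [e, orderOf_one] at hs; omega) hu hsu.symm
    · exact Or.inr h
  obtain ⟨x, hx1, ⟨k, hxk⟩, hxinv⟩ : ∃ x : G, x ≠ 1 ∧ (∃ k, x ^ p ^ k = 1) ∧ t * x * t = x⁻¹ := by
    by_contra hno
    have hall : ∀ u : G, orderOf u = 2 → u ∈ Q := fun u hu =>
      (hdich u hu).resolve_right fun ⟨x, _, h⟩ => hno ⟨x, h⟩
    rcases E.simple Q ⟨fun q hq g => by
        by_cases hq1 : q = 1
        · rw [hq1, mul_one, mul_inv_cancel]; exact one_mem _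
        · refine hall _ ?_
          rw [← MulAut.conj_apply, MulEquiv.orderOf_eq]; exact E.ord_two hq hq1⟩ with h | h
    · exact E.Q_ne_bot h
    · exact E.Q_ne_top h
  have hxodd : ¬ 2 ∣ orderOf x := odd_of_ppow E.pp E.p2 hxk
  -- its centraliser is a Sylow p-subgroup
  set P := Subgroup.centralizer ({x} : Set G) with hP
  have hPodd : ¬ 2 ∣ Nat.card P := by
    intro h2
    obtain ⟨⟨h, hhP⟩, hh⟩ := exists_prime_orderOf_dvd_card' 2 h2
    rw [Subgroup.orderOf_mk] at hh
    exact E.no_real hO hx1 hxodd hto hxinv hh (Subgroup.mem_centralizer_singleton_iff.1 hhP)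
  have htP : t ∈ Subgroup.normalizer (P : Set G) := by
    have hsub : ∀ z ∈ P, t * z * t⁻¹ ∈ P := by
      intro z hz
      rw [hP, Subgroup.mem_centralizer_singleton_iff] at hz ⊢
      have hc : Commute z x⁻¹ := (show Commute z x from hz).inv_right
      rw [← hxinv] at hc
      rw [hti]
      calc t * z * t * x = t * (z * (t * x * t)) * t := by
            simp only [mul_assoc, htt, mul_one]
        _ = _ := by rw [hc.eq]; simp only [← mul_assoc, htt, one_mul]
    rw [Subgroup.mem_normalizer_iff]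
    refine fun z => ⟨hsub z, fun hz => ?_⟩
    have := hsub _ hz
    rwa [hti, ← mul_assoc, ← mul_assoc, htt, one_mul, mul_assoc, htt, mul_one] at this
  have hPp : IsPGroup p P := E.odd_norm hto hPodd htP
  have hxP : x ∈ P := Subgroup.mem_centralizer_singleton_iff.2 rfl
  obtain ⟨S, hS⟩ := hPp.exists_le_sylow
  have hSP : (S : Subgroup G) = P := le_antisymm
    (fun y hy => Subgroup.mem_centralizer_singleton_iff.2 (E.ab _ S.isPGroup' y hy x (hS hxP))) hS
  have hmoved : ∀ c ∈ P, c * t = t * c → c = 1 := by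
    intro c hc hct
    by_contra hc1
    have hcodd : ¬ 2 ∣ orderOf c := odd_of_dvd (orderOf_dvd_card hc) hPodd
    set X := Subgroup.centralizer ({c} : Set G) with hX
    have hcQ := hO t ht ht1 c hct hcodd
    have hQX : Q ≤ X := fun v hv => Subgroup.mem_centralizer_singleton_iff.2 (hcQ v hv).symm
    obtain ⟨W, hWX, hWp, hWn, -, hWQ⟩ := E.core_data (E.centralizer_ne_top hc1) hQX
    have hWc : W ≤ Subgroup.centralizer (Q : Set G) := by
      refine E.gen hWp (hQX.trans hWn) _ fun B hB w hw hwB => ?_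
      obtain ⟨b, hb, hb1⟩ := (Subgroup.bot_or_exists_ne_one B).resolve_left (E.cycQuot_ne_bot hB)
      exact Subgroup.mem_centralizer_iff.2 fun v hv =>
        (hO b (hB.1 hb) hb1 w (hwB b hb).symm (odd_of_dvd (orderOf_dvd_card hw) (E.pgroup_odd hWp)) v hv).symm
    have hxX : x ∈ X := Subgroup.mem_centralizer_singleton_iff.2 (E.ab _ hPp x hxP c hc)
    obtain ⟨w, hw, q, hq, hwq⟩ := hWQ x hxX t ht
    have hwodd := odd_of_dvd (orderOf_dvd_card hw) (E.pgroup_odd hWp)
    have hwqc : q * w = w * q := Subgroup.mem_centralizer_iff.1 (hWc hw) q hq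
    have hw1 : w = 1 := by
      refine eq_one_of_sq ?_ hwodd
      have h1 : x * t * x⁻¹ * (x * t * x⁻¹) = 1 := by
        calc x * t * x⁻¹ * (x * t * x⁻¹) = x * (t * t) * x⁻¹ := by group
          _ = 1 := by rw [htt, mul_one, mul_inv_cancel]
      rw [hwq] at h1
      calc w * w = w * w * (q * q) := by rw [E.elem q hq, mul_one]
        _ = w * q * (w * q) := by rw [mul_assoc w q, ← mul_assoc q w, hwqc]; group
        _ = 1 := h1
    rw [hw1, one_mul] at hwq
    have hx2 : x * x ∈ Q := by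
      have h1 : x * t * x⁻¹ = x * x * t := by
        rw [← hxinv]
        calc x * t * (t * x * t) = x * (t * t) * x * t := by group
          _ = _ := by rw [htt, mul_one]
      have h2 : x * x = x * t * x⁻¹ * t := by rw [h1, mul_assoc (x * x), htt, mul_one]
      rw [h2, hwq]; exact mul_mem hq ht
    have h4 : x * x * (x * x) = 1 := E.elem _ hx2
    have h5 : x * x = 1 := eq_one_of_sq h4 (odd_of_dvd (orderOf_dvd_card (mul_mem hxP hxP)) hPodd)
    exact hx1 (eq_one_of_sq h5 hxodd)
  have hinvP : ∀ z ∈ P, t * z * t = z⁻¹ := by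
    intro z hz
    have htz : t * z * t ∈ P := by
      have := (Subgroup.mem_normalizer_iff.1 htP z).1 hz
      rwa [hti] at this
    have hfix : z * (t * z * t) * t = t * (z * (t * z * t)) := by
      have hc := E.ab _ hPp z hz _ htz
      calc z * (t * z * t) * t = t * z * t * z * t := by rw [hc]
        _ = t * (z * (t * z * t)) := by group
    have h1 := hmoved _ (mul_mem hz htz) hfix
    rw [eq_inv_of_mul_eq_one_right h1]
  -- involution centralisers are `Q`
  have hCQ : ∀ c : G, c * t = t * c → ¬ 2 ∣ orderOf c → c = 1 := by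
    intro c hct hcodd
    by_contra hc1
    obtain ⟨K, hKC, hKp, hKodd, hK, hcard⟩ := E.centralizer_data ht ht1
    obtain ⟨S', hS'⟩ := hKp.exists_le_sylow
    obtain ⟨g, hg⟩ := MulAction.exists_smul_eq G S' S
    have hmem : g * c * g⁻¹ ∈ P := by
      rw [← hSP, ← hg]
      exact ⟨c, hS' (hK c (Subgroup.mem_centralizer_singleton_iff.2 hct) hcodd), rfl⟩
    refine E.no_real hO (x := g * c * g⁻¹) (h := g * t * g⁻¹) ?_ (odd_of_dvd (orderOf_dvd_card hmem) hPodd) hto
      (hinvP _ hmem) ?_ ?_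
    · simpa using hc1
    · rw [← MulAut.conj_apply, MulEquiv.orderOf_eq]; exact hto
    · calc g * t * g⁻¹ * (g * c * g⁻¹) = g * (t * c) * g⁻¹ := by group
        _ = _ := by rw [← hct]; group
  have hCcard : Nat.card (Subgroup.centralizer ({t} : Set G)) = 2 ^ a := by
    obtain ⟨K, hKC, hKp, hKodd, hK, hcard⟩ := E.centralizer_data ht ht1
    rw [hcard, show K = ⊥ from (Subgroup.eq_bot_iff_forall K).2 fun c hc =>
      hCQ c (Subgroup.mem_centralizer_singleton_iff.1 (hKC hc)) (odd_of_dvd (orderOf_dvd_card hc) hKodd),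
      Subgroup.card_bot, mul_one]
  -- every Sylow subgroup is inverted by the involutions normalising it
  have hsylinv : ∀ (R : Sylow p G) (v : G), orderOf v = 2 → v ∈ Subgroup.normalizer ((R : Subgroup G) : Set G) →
      ∀ z ∈ (R : Subgroup G), v * z * v = z⁻¹ := by
    intro R v hv hvR z hz
    obtain ⟨hvv, hvi⟩ := inv_mul_self_of_two hv
    obtain ⟨g, hg⟩ := E.one_class ht ht1 hv
    have hvz : v * z * v ∈ (R : Subgroup G) := by
      have := (Subgroup.mem_normalizer_iff.1 hvR z).1 hz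
      rwa [hvi] at this
    have hc := E.ab _ R.isPGroup' z hz _ hvz
    have hfix : z * (v * z * v) * v = v * (z * (v * z * v)) := by
      calc z * (v * z * v) * v = v * z * v * z * v := by rw [hc]
        _ = v * (z * (v * z * v)) := by group
    have hodd : ¬ 2 ∣ orderOf (z * (v * z * v)) :=
      odd_of_dvd (orderOf_dvd_card (mul_mem hz hvz)) (E.pgroup_odd R.isPGroup')
    have h1 : g⁻¹ * (z * (v * z * v)) * g = 1 := by
      refine hCQ _ ?_ ?_
      · have ht' : t = g⁻¹ * v * g := by rw [← hg]; group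
        rw [ht']
        calc g⁻¹ * (z * (v * z * v)) * g * (g⁻¹ * v * g) = g⁻¹ * (z * (v * z * v) * v) * g := by group
          _ = _ := by rw [hfix]; group
      · rwa [show g⁻¹ * (z * (v * z * v)) * g = MulAut.conj g⁻¹ (z * (v * z * v)) by simp, MulEquiv.orderOf_eq]
    have h2 : z * (v * z * v) = 1 := by
      calc z * (v * z * v) = g * (g⁻¹ * (z * (v * z * v)) * g) * g⁻¹ := by group
        _ = 1 := by rw [h1, mul_one, mul_inv_cancel]
    rw [eq_inv_of_mul_eq_one_right h2]
  let T := {v : G // orderOf v = 2}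
  let nrm : Sylow p G → G → Prop := fun R v => v ∈ Subgroup.normalizer ((R : Subgroup G) : Set G)
  have hconjn : ∀ (g : G) (R : Sylow p G) (v : G), nrm R v → nrm (g • R) (g * v * g⁻¹) := by
    intro g R v hv
    show g * v * g⁻¹ ∈ Subgroup.normalizer (((g • R : Sylow p G) : Subgroup G) : Set G)
    rw [Subgroup.mem_normalizer_iff]
    intro y
    have h := Subgroup.mem_normalizer_iff.1 hv (g⁻¹ * y * g)
    have hm : ∀ y : G, y ∈ ((g • R : Sylow p G) : Subgroup G) ↔ g⁻¹ * y * g ∈ (R : Subgroup G) := fun y => by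
      rw [Sylow.coe_subgroup_smul, Solv.mem_conj_smul]
    rw [hm, hm, show g⁻¹ * (g * v * g⁻¹ * y * (g * v * g⁻¹)⁻¹) * g = v * (g⁻¹ * y * g) * v⁻¹ by group]
    exact h
  -- involutions normalising a given Sylow subgroup
  have hfib : ∀ R : Sylow p G, Nat.card {v : T // nrm R v.1} = Nat.card P := by
    intro R
    obtain ⟨g, hg⟩ := MulAction.exists_smul_eq G S R
    have hR : (R : Subgroup G) = P.map (MulAut.conj g).toMonoidHom := by rw [← hg, ← hSP]; rfl
    have hPR : Nat.card P = Nat.card (R : Subgroup G) := by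
      rw [hR]; exact Nat.card_congr (P.equivMapOfInjective _ (MulAut.conj g).injective).toEquiv
    rw [hPR]
    set t0 := g * t * g⁻¹ with ht0
    have ht0o : orderOf t0 = 2 := by rw [ht0, ← MulAut.conj_apply, MulEquiv.orderOf_eq]; exact hto
    obtain ⟨ht0t, ht0i⟩ := inv_mul_self_of_two ht0o
    have ht0n : nrm R t0 := hg ▸ hconjn g S t (by show t ∈ Subgroup.normalizer ((S : Subgroup G) : Set G); rw [hSP]; exact htP)
    have hxR : g * x * g⁻¹ ∈ (R : Subgroup G) := by rw [hR]; exact ⟨x, hxP, rfl⟩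
    have hcent : ∀ y : G, y * (g * x * g⁻¹) = g * x * g⁻¹ * y → y ∈ (R : Subgroup G) := fun y hy => by
      rw [hR]
      refine ⟨g⁻¹ * y * g, Subgroup.mem_centralizer_singleton_iff.2 ?_, by simp [mul_assoc]⟩
      calc g⁻¹ * y * g * x = g⁻¹ * (y * (g * x * g⁻¹)) * g := by group
        _ = _ := by rw [hy]; group
    have hTinv : ∀ r ∈ (R : Subgroup G), orderOf (t0 * r) = 2 := fun r hr => by
      refine orderOf_eq_prime ?_ fun e => ?_
      · rw [pow_two, show t0 * r * (t0 * r) = t0 * r * t0 * r by group, hsylinv R t0 ht0o ht0n r hr, inv_mul_cancel]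
      · have h1 : t0 ∈ (R : Subgroup G) := by
          rw [eq_inv_of_mul_eq_one_left e]; exact inv_mem hr
        exact E.pgroup_odd R.isPGroup' (ht0o ▸ orderOf_dvd_card h1)
    have hTn : ∀ r ∈ (R : Subgroup G), nrm R (t0 * r) := fun r hr => mul_mem ht0n (Subgroup.le_normalizer hr)
    refine (Nat.card_congr (Equiv.ofBijective
      (fun r : (R : Subgroup G) => (⟨⟨t0 * (r : G), hTinv r r.2⟩, hTn r r.2⟩ : {v : T // nrm R v.1})) ⟨?_, ?_⟩)).symm
    · intro r r' h
      exact Subtype.ext (mul_left_cancel (congrArg (fun v : {v : T // nrm R v.1} => v.1.1) h))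
    · rintro ⟨⟨v, hv⟩, hvn⟩
      refine ⟨⟨t0 * v, hcent _ ?_⟩, Subtype.ext (Subtype.ext (by show t0 * (t0 * v) = v; rw [← mul_assoc, ht0t, one_mul]))⟩
      obtain ⟨hvv, hvi⟩ := inv_mul_self_of_two hv
      have h1 := hsylinv R v hv hvn _ hxR
      have h2 := hsylinv R t0 ht0o ht0n _ (inv_mem hxR)
      have hvx : v * (g * x * g⁻¹) = (g * x * g⁻¹)⁻¹ * v := by rw [← h1]; simp only [mul_assoc, hvv, mul_one]
      have h3 : t0 * (g * x * g⁻¹)⁻¹ = g * x * g⁻¹ * t0 := by
        rw [inv_inv] at h2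
        calc t0 * (g * x * g⁻¹)⁻¹ = t0 * (g * x * g⁻¹)⁻¹ * t0 * t0 := by simp only [mul_assoc, ht0t, mul_one]
          _ = _ := by rw [h2]
      rw [mul_assoc, hvx, ← mul_assoc, h3, mul_assoc]
  -- number of normalised Sylow subgroups
  set m := Nat.card {R : Sylow p G // nrm R t} with hm
  have hconst : ∀ v : T, Nat.card {R : Sylow p G // nrm R v.1} = m := by
    intro v
    obtain ⟨g, hg⟩ := E.one_class ht ht1 v.2
    refine (Nat.card_congr ((MulAction.toPerm g).subtypeEquiv fun R => ⟨fun h => hg ▸ hconjn g R t h, fun h => ?_⟩)).symm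
    have h' := hconjn g⁻¹ _ _ h
    rw [MulAction.toPerm_apply, inv_smul_smul, ← hg, inv_inv,
      show g⁻¹ * (g * t * g⁻¹) * g = t by group] at h'
    exact h'
  have hTm : Nat.card T * m = Nat.card (Sylow p G) * Nat.card P := by
    have := Fintype.ofFinite T
    have := Fintype.ofFinite (Sylow p G)
    have e : ((v : T) × {R : Sylow p G // nrm R v.1}) ≃ ((R : Sylow p G) × {v : T // nrm R v.1}) :=
      { toFun := fun w => ⟨w.2.1, w.1, w.2.2⟩
        invFun := fun w => ⟨w.2.1, w.1, w.2.2⟩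
        left_inv := fun _ => rfl
        right_inv := fun _ => rfl }
    have h1 := Nat.card_congr e
    rw [Nat.card_sigma, Nat.card_sigma, Finset.sum_congr rfl (fun v _ => hconst v),
      Finset.sum_congr rfl (fun R _ => hfib R), Finset.sum_const, Finset.sum_const, Finset.card_univ,
      Finset.card_univ, smul_eq_mul, smul_eq_mul, ← Nat.card_eq_fintype_card, ← Nat.card_eq_fintype_card] at h1
    exact h1
  have hTG : Nat.card T * 2 ^ a = Nat.card G := by
    rw [← hCcard]
    have h1 := Subgroup.index_mul_card (Subgroup.centralizer ({t} : Set G))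
    rw [← h1]
    congr 1
    rw [← Char.card_conjClass_eq_index]
    refine Nat.card_congr (Equiv.subtypeEquiv (Equiv.refl G) fun v => ⟨fun hv => ?_, fun hv => ?_⟩)
    · obtain ⟨g, hg⟩ := E.one_class ht ht1 hv
      exact isConj_iff.2 ⟨g, hg⟩
    · obtain ⟨g, hg⟩ := isConj_iff.1 hv
      have hg' : g * t * g⁻¹ = v := hg
      rw [← hg', ← MulAut.conj_apply, MulEquiv.orderOf_eq]; exact hto
  have hmdvd : m ∣ 2 ^ a := by
    obtain ⟨f, hf⟩ : Nat.card P ∣ Nat.card (Subgroup.normalizer ((S : Subgroup G) : Set G)) := by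
      rw [← hSP]; exact Subgroup.card_dvd_of_le Subgroup.le_normalizer
    have h1 : Nat.card (Sylow p G) * Nat.card (Subgroup.normalizer ((S : Subgroup G) : Set G)) = Nat.card G := by
      rw [S.card_eq_index_normalizer]
      exact Subgroup.index_mul_card (Subgroup.normalizer ((S : Subgroup G) : Set G))
    rw [← hTG, hf, ← mul_assoc, ← hTm, mul_assoc] at h1
    exact ⟨f, (Nat.eq_of_mul_eq_mul_left (by
      haveI : Nonempty T := ⟨⟨t, hto⟩⟩; exact Nat.card_pos) h1).symm⟩
  -- counting involutions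
  have hpT : p ∣ Nat.card T := by
    have h1 := E.pdvd
    rw [← hTG] at h1
    exact (Nat.Coprime.dvd_of_dvd_mul_right (((Nat.coprime_primes E.pp Nat.prime_two).2 E.p2).pow_right a)) h1
  have hsplit : Nat.card T = Nat.card {v : T // v.1 ∈ Q} + Nat.card {v : T // v.1 ∉ Q} := by
    rw [← Nat.card_sum, Nat.card_congr (Equiv.sumCompl fun v : T => v.1 ∈ Q)]
  have hQT : Nat.card {v : T // v.1 ∈ Q} + 1 = Nat.card Q := by
    rw [← Finite.card_option]
    refine Nat.card_congr (Equiv.ofBijective (fun o => o.elim (1 : Q) fun v => ⟨v.1.1, v.2⟩) ⟨?_, ?_⟩)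
    · intro o o' h
      have h' := congrArg Subtype.val h
      rcases o with _ | v <;> rcases o' with _ | v'
      · rfl
      · have := v'.1.2; rw [← show (1 : G) = v'.1.1 from h', orderOf_one] at this; omega
      · have := v.1.2; rw [show v.1.1 = (1 : G) from h', orderOf_one] at this; omega
      · exact congrArg some (Subtype.ext (Subtype.ext h'))
    · intro q
      by_cases hq : (q : G) = 1
      · exact ⟨none, Subtype.ext hq.symm⟩
      · exact ⟨some ⟨⟨q, E.ord_two q.2 hq⟩, q.2⟩, rfl⟩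
  let Z := (R : {R : Sylow p G // nrm R t}) × {z : (R.1 : Subgroup G) // z ≠ 1}
  have hZ : Nat.card Z + m = m * Nat.card P := by
    have := Fintype.ofFinite {R : Sylow p G // nrm R t}
    have hR : ∀ R : {R : Sylow p G // nrm R t}, Nat.card {z : (R.1 : Subgroup G) // z ≠ 1} = Nat.card P - 1 := by
      intro R
      have := Fintype.ofFinite (R.1 : Subgroup G)
      rw [Nat.card_eq_fintype_card, Fintype.card_subtype_compl, Fintype.card_subtype_eq, ← Nat.card_eq_fintype_card]
      congr 1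
      obtain ⟨g, hg⟩ := MulAction.exists_smul_eq G S R.1
      rw [← hg, ← hSP]
      exact (Nat.card_congr ((S : Subgroup G).equivMapOfInjective _ (MulAut.conj g).injective).toEquiv).symm
    rw [Nat.card_sigma, Finset.sum_congr rfl (fun R _ => hR R), Finset.sum_const, Finset.card_univ, smul_eq_mul,
      ← Nat.card_eq_fintype_card, ← hm]
    obtain ⟨r, hr⟩ : ∃ r, Nat.card P = r + 1 := ⟨Nat.card P - 1, by have := Nat.card_pos (α := P); omega⟩
    rw [hr, Nat.add_sub_cancel]; ring
  have hbij : Nat.card Z = Nat.card {v : T // v.1 ∉ Q} := by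
    have hone : ∀ (R : Sylow p G) (z : G), nrm R t → z ∈ (R : Subgroup G) → z ≠ 1 → orderOf (t * z) = 2 ∧ t * z ∉ Q := by
      intro R z hR hz hz1
      refine ⟨orderOf_eq_prime ?_ fun e => ?_, fun hq => ?_⟩
      · rw [pow_two, show t * z * (t * z) = t * z * t * z by group, hsylinv R t hto hR z hz, inv_mul_cancel]
      · refine E.pgroup_odd R.isPGroup' (hto ▸ orderOf_dvd_card ?_)
        rw [eq_inv_of_mul_eq_one_left e]; exact inv_mem hz
      · have hzQ : z ∈ Q := by simpa using mul_mem (inv_mem ht) hq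
        have := E.ord_two hzQ hz1
        exact E.pgroup_odd R.isPGroup' (this ▸ orderOf_dvd_card hz)
    refine Nat.card_congr (Equiv.ofBijective (fun w : Z =>
      (⟨⟨t * (w.2.1 : G), (hone _ _ w.1.2 w.2.1.2 (fun e => w.2.2 (Subtype.ext e))).1⟩,
        (hone _ _ w.1.2 w.2.1.2 (fun e => w.2.2 (Subtype.ext e))).2⟩ : {v : T // v.1 ∉ Q})) ⟨?_, ?_⟩)
    · rintro ⟨⟨R, hR⟩, ⟨z, hz⟩, hz1⟩ ⟨⟨R', hR'⟩, ⟨z', hz'⟩, hz1'⟩ e
      have e' : z = z' := mul_left_cancel (congrArg (fun v : {v : T // v.1 ∉ Q} => v.1.1) e)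
      subst e'
      have hzz : z ≠ 1 := fun e => hz1 (Subtype.ext e)
      have hzo : ¬ 2 ∣ orderOf z := odd_of_dvd (orderOf_dvd_card hz) (E.pgroup_odd R.isPGroup')
      have hCodd : ¬ 2 ∣ Nat.card (Subgroup.centralizer ({z} : Set G)) := by
        intro h2
        obtain ⟨⟨h, hh'⟩, hh⟩ := exists_prime_orderOf_dvd_card' 2 h2
        rw [Subgroup.orderOf_mk] at hh
        exact E.no_real hO hzz hzo hto (hsylinv R t hto hR z hz) hh (Subgroup.mem_centralizer_singleton_iff.1 hh')
      have hCp : IsPGroup p (Subgroup.centralizer ({z} : Set G)) := by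
        refine E.odd_norm hto hCodd ?_
        have hsub : ∀ w ∈ Subgroup.centralizer ({z} : Set G), t * w * t⁻¹ ∈ Subgroup.centralizer ({z} : Set G) := by
          intro w hw
          rw [Subgroup.mem_centralizer_singleton_iff] at hw ⊢
          have hc : Commute w z⁻¹ := (show Commute w z from hw).inv_right
          rw [← hsylinv R t hto hR z hz] at hc
          rw [hti]
          calc t * w * t * z = t * (w * (t * z * t)) * t := by simp only [mul_assoc, htt, mul_one]
            _ = _ := by rw [hc.eq]; simp only [← mul_assoc, htt, one_mul]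
        rw [Subgroup.mem_normalizer_iff]
        refine fun w => ⟨hsub w, fun hw => ?_⟩
        have := hsub _ hw
        rwa [hti, ← mul_assoc, ← mul_assoc, htt, one_mul, mul_assoc, htt, mul_one] at this
      have hRR : ∀ R₀ : Sylow p G, z ∈ (R₀ : Subgroup G) →
          Subgroup.centralizer ({z} : Set G) = (R₀ : Subgroup G) := fun R₀ hz₀ =>
        R₀.is_maximal' hCp (fun y hy => Subgroup.mem_centralizer_singleton_iff.2 (E.ab _ R₀.isPGroup' y hy z hz₀))
      obtain rfl : R = R' := Sylow.ext ((hRR R hz).symm.trans (hRR R' hz'))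
      rfl
    · rintro ⟨⟨v, hv⟩, hvQ⟩
      obtain ⟨w, rfl, hw1, ⟨l, hwk⟩, hwinv⟩ := (hdich v hv).resolve_left hvQ
      have hwodd := odd_of_ppow E.pp E.p2 hwk
      set Cw := Subgroup.centralizer ({t * v} : Set G) with hCw
      have hCodd : ¬ 2 ∣ Nat.card Cw := by
        intro h2
        obtain ⟨⟨h, hh'⟩, hh⟩ := exists_prime_orderOf_dvd_card' 2 h2
        rw [Subgroup.orderOf_mk] at hh
        exact E.no_real hO hw1 hwodd hto hwinv hh (Subgroup.mem_centralizer_singleton_iff.1 hh')
      have hCn : t ∈ Subgroup.normalizer (Cw : Set G) := by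
        have hsub : ∀ z ∈ Cw, t * z * t⁻¹ ∈ Cw := by
          intro z hz
          rw [hCw, Subgroup.mem_centralizer_singleton_iff] at hz ⊢
          have hc : Commute z (t * v)⁻¹ := (show Commute z (t * v) from hz).inv_right
          rw [← hwinv] at hc
          rw [hti]
          calc t * z * t * (t * v) = t * (z * (t * (t * v) * t)) * t := by simp only [mul_assoc, htt, mul_one]
            _ = _ := by rw [hc.eq]; simp only [← mul_assoc, htt, one_mul]
        rw [Subgroup.mem_normalizer_iff]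
        refine fun z => ⟨hsub z, fun hz => ?_⟩
        have := hsub _ hz
        rwa [hti, ← mul_assoc, ← mul_assoc, htt, one_mul, mul_assoc, htt, mul_one] at this
      have hCp : IsPGroup p Cw := E.odd_norm hto hCodd hCn
      have hwC : t * v ∈ Cw := Subgroup.mem_centralizer_singleton_iff.2 rfl
      obtain ⟨R, hR⟩ := hCp.exists_le_sylow
      have hRC : (R : Subgroup G) = Cw := le_antisymm
        (fun y hy => Subgroup.mem_centralizer_singleton_iff.2 (E.ab _ R.isPGroup' y hy _ (hR hwC))) hR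
      have hRn : nrm R t := by show t ∈ Subgroup.normalizer ((R : Subgroup G) : Set G); rw [hRC]; exact hCn
      refine ⟨⟨⟨R, hRn⟩, ⟨t * v, hR hwC⟩, fun e => hw1 (congrArg Subtype.val e)⟩, ?_⟩
      apply Subtype.ext; apply Subtype.ext
      show t * (t * v) = v
      rw [← mul_assoc, htt, one_mul]
  have hPp' : p ∣ Nat.card P := by
    obtain ⟨e, he⟩ := IsPGroup.iff_card.1 hPp
    rw [he]
    refine dvd_pow_self _ fun h => hx1 ?_
    rw [h, pow_zero] at he
    rw [Subgroup.eq_bot_of_card_eq _ he, Subgroup.mem_bot] at hxP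
    exact hxP
  have hfin : p ∣ m := by
    have e : Nat.card T + m + 1 = Nat.card Q + m * Nat.card P := by omega
    have hQp : Nat.card Q = p + 1 := by rw [E.cardQ, E.hpa]
    have e2 : Nat.card T + m = p + m * Nat.card P := by omega
    have h1 : p ∣ Nat.card T + m := e2 ▸ dvd_add (dvd_refl p) (hPp'.mul_left m)
    exact (Nat.dvd_add_right hpT).1 h1
  exact E.p2 ((Nat.prime_dvd_prime_iff_eq E.pp Nat.prime_two).1 (E.pp.dvd_of_dvd_pow (hfin.trans hmdvd)))

end Cfsg.Agent.Solv.Mixed
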