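import Cfsg.Agent.Lib.Solv.MixedPrimeCentral
import Cfsg.Agent.Lib.Char.FourOrder
import Cfsg.Agent.Lib.Fusion.DihedralFours

/-! The case of an inverted odd part in the centraliser of an involution. -/

set_option autoImplicit false
set_option linter.style.haveILetI false

open scoped Pointwise commutatorElement

universe u

namespace Cfsg.Agent.Solv.Mixed

variable {G : Type u} [Group G] [Finite G] {p a : ℕ} {Q : Subgroup G}

theorem Exc.y_fix (E : Exc G p a Q) {y : G} {k : ℕ} (hy : y ^ p ^ k = 1) {D : Subgroup G} (hD : IsPGroup p D)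
    (hyD : y ∈ Subgroup.normalizer (D : Set G)) : ∀ x ∈ D, y * x = x * y := fun x hx => by
  haveI : Fact p.Prime := ⟨E.pp⟩
  exact E.ab _ ((zpowers_pgroup hy).to_sup_of_normal_right' hD (Subgroup.zpowers_le.2 hyD)) y
    (Subgroup.mem_sup_left (Subgroup.mem_zpowers y)) x (Subgroup.mem_sup_right hx)

theorem spread {y : G} (htr : ∀ u ∈ Q, u ≠ 1 → ∀ v ∈ Q, v ≠ 1 → ∃ i : ℕ, y ^ i * u * (y ^ i)⁻¹ = v) {x t : G}
    (ht : t ∈ Q) (ht1 : t ≠ 1) (hxy : y * x = x * y) (hxt : x * t = t * x) : ∀ v ∈ Q, x * v = v * x := by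
  intro v hv
  by_cases hv1 : v = 1
  · rw [hv1, mul_one, one_mul]
  obtain ⟨i, hi⟩ := htr t ht ht1 v hv hv1
  have hc : Commute x (y ^ i) := (show Commute x y from hxy.symm).pow_right i
  rw [← hi]
  exact ((hc.mul_right (show Commute x t from hxt)).mul_right hc.inv_right).eq

theorem Exc.oddCentral_big (E : Exc G p a Q) (ha : 3 ≤ a) : OddCentral Q := by
  classical
  haveI : Fact p.Prime := ⟨E.pp⟩
  obtain ⟨y, ⟨k, hy⟩, hyn, htr⟩ := E.trans
  set S := {x : G | ¬ 2 ∣ orderOf x ∧ ∃ B ∈ Solv.CycQuot Q, ∀ b ∈ B, b * x = x * b} with hS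
  have h8 : 8 ≤ Nat.card Q := by
    rw [E.cardQ]
    calc 8 = 2 ^ 3 := by norm_num
      _ ≤ _ := Nat.pow_le_pow_right (by norm_num) ha
  have hrel : ∀ B ∈ Solv.CycQuot Q, B.relIndex Q ≤ 2 := by
    rintro B ⟨hB, c, hc, hBc⟩
    have h1 := E.index_facts hB hc hBc
    have h2 : B.relIndex Q * Nat.card B = Nat.card Q := by
      rw [mul_comm, ← Subgroup.relIndex_bot_left, ← Subgroup.relIndex_bot_left,
        Subgroup.relIndex_mul_relIndex _ _ _ bot_le hB]
    exact Nat.le_of_mul_le_mul_right (by linarith) (Nat.card_pos (α := B))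
  have hshare : ∀ B ∈ Solv.CycQuot Q, ∀ B' ∈ Solv.CycQuot Q, ∃ b ∈ B ⊓ B', b ≠ 1 := by
    intro B hB B' hB'
    refine (Subgroup.bot_or_exists_ne_one _).resolve_left fun h => ?_
    have h1 := Subgroup.relIndex_inf_le (H := B) (K := B') (L := Q)
    rw [h, Subgroup.relIndex_bot_left] at h1
    have := Nat.mul_le_mul (hrel B hB) (hrel B' hB')
    omega
  have hpel : ∀ x ∈ S, ∀ B ∈ Solv.CycQuot Q, (∀ b ∈ B, b * x = x * b) → ∀ b ∈ B, b ≠ 1 → ∀ K : Subgroup G,
      (∀ g ∈ Subgroup.centralizer ({b} : Set G), ¬ 2 ∣ orderOf g → g ∈ K) → x ∈ K := fun x hx B _ hxB b hb _ K hK =>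
    hK x (Subgroup.mem_centralizer_singleton_iff.2 (hxB b hb).symm) hx.1
  have hScomm : ∀ x ∈ S, ∀ x' ∈ S, x * x' = x' * x := by
    intro x hx x' hx'
    obtain ⟨B, hB, hxB⟩ := hx.2
    obtain ⟨B', hB', hxB'⟩ := hx'.2
    obtain ⟨b, hb, hb1⟩ := hshare B hB B' hB'
    obtain ⟨K, -, hKp, -, hK, -⟩ := E.centralizer_data (hB.1 hb.1) hb1
    exact E.ab K hKp x (hpel x hx B hB hxB b hb.1 hb1 K hK) x' (hpel x' hx' B' hB' hxB' b hb.2 hb1 K hK)
  have hSp : ∀ x ∈ S, ∃ l, x ^ p ^ l = 1 := by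
    intro x hx
    obtain ⟨B, hB, hxB⟩ := hx.2
    obtain ⟨b, hb, hb1⟩ := (Subgroup.bot_or_exists_ne_one B).resolve_left (E.cycQuot_ne_bot hB)
    obtain ⟨K, -, hKp, -, hK, -⟩ := E.centralizer_data (hB.1 hb) hb1
    exact pow_mem_of_orderOf E.pp hKp (hpel x hx B hB hxB b hb hb1 K hK)
  set W := Subgroup.closure S with hW
  have hWc : W ≤ Subgroup.centralizer (W : Set G) := by
    rw [hW, Subgroup.centralizer_closure]
    exact (Subgroup.closure_le _).2 fun x hx => Subgroup.mem_centralizer_iff.2 fun x' hx' => hScomm x' hx' x hx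
  have hWp : IsPGroup p W := by
    rintro ⟨w, hw⟩
    suffices ∃ l, w ^ p ^ l = 1 by
      obtain ⟨l, hl⟩ := this; exact ⟨l, Subtype.ext hl⟩
    induction hw using Subgroup.closure_induction with
    | mem w h => exact hSp w h
    | one => exact ⟨0, one_pow _⟩
    | mul w w' hw hw' h h' =>
      obtain ⟨l, hl⟩ := h
      obtain ⟨l', hl'⟩ := h'
      refine ⟨l + l', ?_⟩
      rw [Commute.mul_pow (Subgroup.mem_centralizer_iff.1 (hWc hw') w hw), pow_add, pow_mul, hl, one_pow, one_mul,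
        mul_comm, pow_mul, hl', one_pow]
    | inv w _ h => exact h.imp fun l hl => by rw [inv_pow, hl, inv_one]
  have hyQ : ∀ n : G, n ∈ Subgroup.normalizer (Q : Set G) → ∀ s ∈ S, n * s * n⁻¹ ∈ S := by
    rintro n hn s ⟨hso, B, ⟨hB, c, hc, hBc⟩, hsB⟩
    refine ⟨by rwa [← MulAut.conj_apply, MulEquiv.orderOf_eq], B.map (MulAut.conj n).toMonoidHom,
      ⟨?_, n * c * n⁻¹, (Subgroup.mem_normalizer_iff.1 hn c).1 hc, ?_⟩, ?_⟩
    · rintro _ ⟨b, hb, rfl⟩
      exact (Subgroup.mem_normalizer_iff.1 hn b).1 (hB hb)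
    · rw [show n * c * n⁻¹ = (MulAut.conj n).toMonoidHom c from rfl, ← MonoidHom.map_zpowers, ← Subgroup.map_sup, hBc]
      refine Subgroup.eq_of_le_of_card_ge ?_ (Nat.card_congr
        (Q.equivMapOfInjective (MulAut.conj n).toMonoidHom (MulAut.conj n).injective).toEquiv).le
      rintro _ ⟨b, hb, rfl⟩
      exact (Subgroup.mem_normalizer_iff.1 hn b).1 hb
    · rintro _ ⟨b, hb, rfl⟩
      show n * b * n⁻¹ * (n * s * n⁻¹) = n * s * n⁻¹ * (n * b * n⁻¹)
      calc n * b * n⁻¹ * (n * s * n⁻¹) = n * (b * s) * n⁻¹ := by group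
        _ = _ := by rw [hsB b hb]; group
  have hyW : y ∈ Subgroup.normalizer (W : Set G) := by
    have hsub : ∀ n : G, n ∈ Subgroup.normalizer (Q : Set G) → ∀ w ∈ W, n * w * n⁻¹ ∈ W := by
      intro n hn w hw
      have hle : W ≤ W.comap (MulAut.conj n).toMonoidHom :=
        (Subgroup.closure_le _).2 fun s hs => Subgroup.subset_closure (hyQ n hn s hs)
      exact hle hw
    rw [Subgroup.mem_normalizer_iff]
    refine fun w => ⟨hsub y hyn w, fun hw => ?_⟩
    have := hsub y⁻¹ (inv_mem hyn) _ hw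
    simpa [mul_assoc] using this
  intro t ht ht1 x hxt hxo v hv
  obtain ⟨K, hKC, hKp, hKodd, hK, -⟩ := E.centralizer_data ht ht1
  have hQK : Q ≤ Subgroup.normalizer (K : Set G) := by
    intro q hq
    have hsub : ∀ q ∈ Q, ∀ z ∈ K, q * z * q⁻¹ ∈ K := by
      intro q hq z hz
      refine hK _ (Subgroup.mem_centralizer_singleton_iff.2 ?_)
        (by rw [← MulAut.conj_apply, MulEquiv.orderOf_eq]; exact odd_of_dvd (orderOf_dvd_card hz) hKodd)
      have h1 : Commute q t := E.commQ hq ht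
      exact ((h1.mul_left (show Commute z t from Subgroup.mem_centralizer_singleton_iff.1 (hKC hz))).mul_left h1.inv_left).eq
    rw [Subgroup.mem_normalizer_iff]
    refine fun z => ⟨hsub q hq z, fun hz => ?_⟩
    have := hsub q⁻¹ (inv_mem hq) _ hz
    simpa [mul_assoc] using this
  have hKcent : K ≤ Subgroup.centralizer (Q : Set G) := E.gen hKp hQK _ fun B hB z hz hzB => by
    obtain ⟨b, hb, hb1⟩ := (Subgroup.bot_or_exists_ne_one B).resolve_left (E.cycQuot_ne_bot hB)
    have hzS : z ∈ S := ⟨odd_of_dvd (orderOf_dvd_card hz) hKodd, B, hB, hzB⟩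
    exact Subgroup.mem_centralizer_iff.2 fun w hw => (spread htr (hB.1 hb) hb1
      (E.y_fix hy hWp hyW z (Subgroup.subset_closure hzS)) (hzB b hb).symm w hw).symm
  exact (Subgroup.mem_centralizer_iff.1 (hKcent (hK x (Subgroup.mem_centralizer_singleton_iff.2 hxt) hxo)) v hv).symm

theorem four_elems (h4 : Nat.card Q = 4) {t q : G} (ht : t ∈ Q) (hq : q ∈ Q) (ht1 : t ≠ 1) (hq1 : q ≠ 1) (htq : t ≠ q)
    (htq2 : t * q ≠ 1) {v : G} (hv : v ∈ Q) : v = 1 ∨ v = t ∨ v = q ∨ v = t * q := by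
  classical
  by_contra hne
  push Not at hne
  obtain ⟨h1, h2, h3, h5⟩ := hne
  have hsub : ∀ x ∈ ({1, t, q, t * q, v} : Finset G), x ∈ Q := by
    intro x hx
    simp only [Finset.mem_insert, Finset.mem_singleton] at hx
    rcases hx with rfl | rfl | rfl | rfl | rfl <;> first | exact one_mem _ | exact mul_mem ht hq | assumption
  have hcard : ({1, t, q, t * q, v} : Finset G).card = 5 := by
    rw [Finset.card_insert_of_notMem (by simp [Ne.symm ht1, Ne.symm hq1, Ne.symm htq2, Ne.symm h1]),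
      Finset.card_insert_of_notMem (by simp [htq, Ne.symm h2, hq1]),
      Finset.card_insert_of_notMem (by simp [Ne.symm h3, ht1]),
      Finset.card_pair (Ne.symm h5)]
  have hle := Nat.card_le_card_of_injective
    (fun x : ({1, t, q, t * q, v} : Finset G) => (⟨x.1, hsub x.1 x.2⟩ : Q))
    (fun x y e => Subtype.ext (Subtype.mk.inj e))
  rw [Nat.card_eq_finsetCard, hcard, h4] at hle
  omega

theorem eq_one_of_two_sup {H : Subgroup G} (E : Exc G p a Q) (hH : IsPGroup p H) {c : G} (hc : c ∈ H) (hcQ : c ∈ Q) :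
    c = 1 :=
  eq_one_of_sq (E.elem c hcQ) (odd_of_dvd (orderOf_dvd_card hc) (E.pgroup_odd hH))

/-- the odd part of `C(Q)` is nontrivial: everything is central -/
theorem Exc.oddCentral_of_fixed (E : Exc G p a Q) (ha : a = 2) {o : G} (ho1 : o ≠ 1) (hoo : ¬ 2 ∣ orderOf o)
    (hoQ : ∀ v ∈ Q, o * v = v * o) : OddCentral Q := by
  classical
  haveI : Fact p.Prime := ⟨E.pp⟩
  have h4 : Nat.card Q = 4 := by rw [E.cardQ, ha]; norm_num
  obtain ⟨y, ⟨k, hy⟩, hyn, htr⟩ := E.trans
  obtain ⟨t0, ht0, ht01⟩ := (Subgroup.bot_or_exists_ne_one Q).resolve_left E.Q_ne_bot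
  obtain ⟨K0, hK0C, hK0p, hK0odd, hK0, -⟩ := E.centralizer_data ht0 ht01
  set O := K0 ⊓ Subgroup.centralizer (Q : Set G) with hOdef
  have hOmem : ∀ x : G, ¬ 2 ∣ orderOf x → (∀ v ∈ Q, x * v = v * x) → x ∈ O := fun x hx hxQ =>
    ⟨hK0 x (Subgroup.mem_centralizer_singleton_iff.2 (hxQ t0 ht0)) hx, Subgroup.mem_centralizer_iff.2 fun v hv => (hxQ v hv).symm⟩
  have hOp : IsPGroup p O := hK0p.to_le inf_le_left
  have hOodd : ∀ x ∈ O, ¬ 2 ∣ orderOf x := fun x hx => odd_of_dvd (orderOf_dvd_card (show x ∈ K0 from hx.1)) hK0odd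
  have hyO : y ∈ Subgroup.normalizer (O : Set G) := by
    have hsub : ∀ n ∈ Subgroup.normalizer (Q : Set G), ∀ x ∈ O, n * x * n⁻¹ ∈ O := by
      intro n hn x hx
      refine hOmem _ (by rw [← MulAut.conj_apply, MulEquiv.orderOf_eq]; exact hOodd x hx) fun v hv => ?_
      have hv' : n⁻¹ * v * n ∈ Q := by
        have := (Subgroup.mem_normalizer_iff.1 (inv_mem hn) v).1 hv
        rwa [inv_inv] at this
      have h := Subgroup.mem_centralizer_iff.1 hx.2 _ hv'
      calc n * x * n⁻¹ * v = n * (x * (n⁻¹ * v * n)) * n⁻¹ := by group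
        _ = _ := by rw [← h]; group
    rw [Subgroup.mem_normalizer_iff]
    refine fun x => ⟨hsub y hyn x, fun hx => ?_⟩
    have := hsub y⁻¹ (inv_mem hyn) _ hx
    simpa [mul_assoc] using this
  set M := Subgroup.normalizer (O : Set G) with hM
  have hMtop : M ≠ ⊤ := fun h => by
    rcases E.simple O (Subgroup.normalizer_eq_top_iff.1 h) with h' | h'
    · exact ho1 (Subgroup.mem_bot.1 (h' ▸ hOmem o hoo hoQ))
    · exact E.centralizer_ne_top ht01 (top_le_iff.1 (h'.ge.trans fun x hx => hK0C hx.1))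
  have hQM : Q ≤ M := by
    refine le_trans ?_ (Subgroup.centralizer_le_normalizer _)
    intro v hv
    exact Subgroup.mem_centralizer_iff.2 fun x hx => (Subgroup.mem_centralizer_iff.1 (show x ∈ O from hx).2 v hv).symm
  obtain ⟨W, hWM, hWp, hWn, hWmax, hWQ⟩ := E.core_data hMtop hQM
  have hOW : O ≤ W := hWmax O Subgroup.le_normalizer le_rfl hOp
  intro t ht ht1 x hxt hxo
  obtain ⟨K, hKC, hKp, hKodd, hK, -⟩ := E.centralizer_data ht ht1
  have hxK : x ∈ K := hK x (Subgroup.mem_centralizer_singleton_iff.2 hxt) hxo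
  have hOK : O ≤ K := fun z hz => hK z (Subgroup.mem_centralizer_singleton_iff.2
    (Subgroup.mem_centralizer_iff.1 hz.2 t ht).symm) (hOodd z hz)
  have hKM : K ≤ M := le_trans (fun z hz => Subgroup.mem_centralizer_iff.2 fun w hw => E.ab K hKp w (hOK hw) z hz)
    (Subgroup.centralizer_le_normalizer _)
  have hWK : IsPGroup p (K ⊔ W : Subgroup G) := hKp.to_sup_of_normal_right' hWp (hKM.trans hWn)
  obtain ⟨q, hq, hq1, hqt⟩ : ∃ q ∈ Q, q ≠ 1 ∧ t ≠ q := by
    by_contra hno
    push Not at hno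
    have hle : Q ≤ Subgroup.zpowers t := fun v hv => by
      by_cases hv1 : v = 1
      · rw [hv1]; exact one_mem _
      · rw [← hno v hv hv1]; exact Subgroup.mem_zpowers t
    have := Nat.le_of_dvd Nat.card_pos (Subgroup.card_dvd_of_le hle)
    rw [Nat.card_zpowers, E.ord_two ht ht1, h4] at this
    omega
  have hqq := E.elem q hq
  have hqi : q⁻¹ = q := inv_eq_of_mul_eq_one_left hqq
  have htq : t * q ≠ 1 := fun h => hqt (by rw [eq_inv_of_mul_eq_one_left h, hqi])
  have hxW : x ∈ W := by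
    obtain ⟨w, hw, q', hq', hwq⟩ := hWQ x (hKM hxK) q hq
    have hqxq : q * x * q ∈ K := by
      refine hK _ (Subgroup.mem_centralizer_singleton_iff.2 ?_) ?_
      · exact (((show Commute q t from E.commQ hq ht).mul_left (show Commute x t from hxt)).mul_left
          (show Commute q t from E.commQ hq ht)).eq
      · rw [show q * x * q = MulAut.conj q x by simp [hqi], MulEquiv.orderOf_eq]; exact hxo
    have hc : x * (q * x⁻¹ * q) ∈ W := by
      have e : x * (q * x⁻¹ * q) = w * (q' * q) := by rw [← mul_assoc w, ← hwq]; group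
      have h1 : q' * q = 1 := by
        refine eq_one_of_two_sup (H := K ⊔ W) E hWK ?_ (mul_mem hq' hq)
        rw [show q' * q = w⁻¹ * (x * (q * x⁻¹ * q)) by rw [e]; group]
        refine mul_mem (Subgroup.mem_sup_right (inv_mem hw)) (mul_mem (Subgroup.mem_sup_left hxK) ?_)
        have : (q * x * q)⁻¹ = q * x⁻¹ * q := by rw [mul_inv_rev, mul_inv_rev, hqi]; group
        exact Subgroup.mem_sup_left (this ▸ inv_mem hqxq)
      rw [e, h1, mul_one]; exact hw
    have hfix : x * (q * x * q) ∈ O := by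
      refine hOmem _ (odd_of_dvd (orderOf_dvd_card (mul_mem hxK hqxq)) hKodd) ?_
      have hcq : x * (q * x * q) * q = q * (x * (q * x * q)) := by
        calc x * (q * x * q) * q = q * x * q * x * q := by rw [E.ab K hKp x hxK _ hqxq]
          _ = q * (x * (q * x * q)) := by group
      have hct : x * (q * x * q) * t = t * (x * (q * x * q)) :=
        ((show Commute x t from hxt).mul_left (((show Commute q t from E.commQ hq ht).mul_left
          (show Commute x t from hxt)).mul_left (show Commute q t from E.commQ hq ht))).eq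
      intro v hv
      rcases four_elems h4 ht hq ht1 hq1 hqt htq hv with rfl | rfl | rfl | rfl
      · rw [mul_one, one_mul]
      · exact hct
      · exact hcq
      · exact ((show Commute _ t from hct).mul_right (show Commute _ q from hcq)).eq
    have h2 : x ^ 2 ∈ W := by
      have e : x ^ 2 = x * (q * x⁻¹ * q) * (x * (q * x * q)) := by
        have hxi : q * x⁻¹ * q ∈ K := by
          have : (q * x * q)⁻¹ = q * x⁻¹ * q := by rw [mul_inv_rev, mul_inv_rev, hqi]; group
          exact this ▸ inv_mem hqxq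
        calc x ^ 2 = x * x * ((q * x⁻¹ * q) * (q * x * q)) := by
              rw [show (q * x⁻¹ * q) * (q * x * q) = q * x⁻¹ * (q * q) * x * q by group, hqq, mul_one,
                inv_mul_cancel_right, hqq, mul_one, pow_two]
          _ = x * (x * (q * x⁻¹ * q)) * (q * x * q) := by group
          _ = x * (q * x⁻¹ * q * x) * (q * x * q) := by rw [E.ab K hKp x hxK _ hxi]
          _ = _ := by group
      rw [e]; exact mul_mem hc (hOW hfix)
    obtain ⟨l, hl⟩ : ∃ l, orderOf x = 2 * l + 1 := ⟨orderOf x / 2, by omega⟩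
    have e : x = (x ^ 2) ^ (l + 1) := by
      rw [← pow_mul, show 2 * (l + 1) = orderOf x + 1 by omega, pow_succ, pow_orderOf_eq_one, one_mul]
    rw [e]; exact pow_mem h2 _
  exact spread htr ht ht1 (E.y_fix hy hWp (hWn hyO) x hxW) hxt

theorem conj_mem_norm {t z : G} {H : Subgroup G} (hsub : ∀ w ∈ H, t * w * t ∈ H) (htt : t * t = 1) :
    t ∈ Subgroup.normalizer (H : Set G) := by
  have hti : t⁻¹ = t := inv_eq_of_mul_eq_one_left htt
  rw [Subgroup.mem_normalizer_iff]
  refine fun w => ⟨fun hw => by rw [hti]; exact hsub w hw, fun hw => ?_⟩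
  have := hsub _ hw
  rwa [hti, ← mul_assoc, ← mul_assoc, htt, one_mul, mul_assoc, htt, mul_one] at this

/-- the odd part of `C(Q)` is trivial -/
def OTriv (Q : Subgroup G) : Prop := ∀ x : G, ¬ 2 ∣ orderOf x → (∀ v ∈ Q, x * v = v * x) → x = 1

theorem OTriv.conj (h : OTriv Q) (g : G) : OTriv (Q.map (MulAut.conj g).toMonoidHom) := by
  intro x hx hxQ
  have h1 : g⁻¹ * x * g = 1 := by
    refine h _ (by rwa [show g⁻¹ * x * g = MulAut.conj g⁻¹ x by simp, MulEquiv.orderOf_eq]) fun v hv => ?_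
    have hc : x * (g * v * g⁻¹) = g * v * g⁻¹ * x := hxQ _ ⟨v, hv, rfl⟩
    calc g⁻¹ * x * g * v = g⁻¹ * (x * (g * v * g⁻¹)) * g := by group
      _ = _ := by rw [hc]; group
  calc x = g * (g⁻¹ * x * g) * g⁻¹ := by group
    _ = 1 := by rw [h1, mul_one, mul_inv_cancel]

theorem Exc.exists_other (E : Exc G p a Q) {t : G} (ht : t ∈ Q) (ht1 : t ≠ 1) :
    ∃ q ∈ Q, q ≠ 1 ∧ t ≠ q ∧ t * q ≠ 1 := by
  obtain ⟨q, hq, hq1, hqt⟩ : ∃ q ∈ Q, q ≠ 1 ∧ t ≠ q := by
    by_contra hno
    push Not at hno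
    have hle : Q ≤ Subgroup.zpowers t := fun v hv => by
      by_cases hv1 : v = 1
      · rw [hv1]; exact one_mem _
      · rw [← hno v hv hv1]; exact Subgroup.mem_zpowers t
    have := Nat.le_of_dvd Nat.card_pos (Subgroup.card_dvd_of_le hle)
    rw [Nat.card_zpowers, E.ord_two ht ht1] at this
    have := E.one_lt
    omega
  exact ⟨q, hq, hq1, hqt, fun h => hqt (by rw [eq_inv_of_mul_eq_one_left h, inv_eq_of_mul_eq_one_left (E.elem q hq)])⟩

/-- centraliser of a nontrivial odd element commuting with an involution -/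
theorem Exc.single (E : Exc G p a Q) (h4 : Nat.card Q = 4) (hO : OTriv Q) {h x : G} (hh : orderOf h = 2)
    (hx1 : x ≠ 1) (hxo : ¬ 2 ∣ orderOf x) (hhx : h * x = x * h) :
    ∃ R : Subgroup G, R ≤ Subgroup.centralizer ({x} : Set G) ∧ IsPGroup p R ∧
      (∀ g ∈ Subgroup.centralizer ({x} : Set G), ¬ 2 ∣ orderOf g → g ∈ R) ∧
      Nat.card (Subgroup.centralizer ({x} : Set G)) = Nat.card R * 2 ∧
      (∀ P : Subgroup G, IsPGroup p P → R ≤ P → P ≤ R) := by
  classical
  haveI : Fact (Nat.Prime 2) := ⟨Nat.prime_two⟩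
  obtain ⟨hhh, hhi⟩ := inv_mul_self_of_two hh
  set C := Subgroup.centralizer ({x} : Set G) with hC
  have hhC : h ∈ C := Subgroup.mem_centralizer_singleton_iff.2 hhx
  obtain ⟨S, hS⟩ := (zpowers_pgroup (p := 2) (k := 1) (x := (⟨h, hhC⟩ : C)) (Subtype.ext (by
    show h ^ 2 ^ 1 = 1
    rw [pow_one, pow_two, hhh]))).exists_le_sylow
  obtain ⟨g, hg⟩ := E.exists_conj_mem (S.isPGroup'.map C.subtype)
  have E' := E.conj g
  have hSmem : ∀ s ∈ (S : Subgroup C), (s : G) ∈ Q.map (MulAut.conj g).toMonoidHom := fun s hs => hg ⟨s, hs, rfl⟩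
  have hhS : (⟨h, hhC⟩ : C) ∈ (S : Subgroup C) := hS (Subgroup.mem_zpowers _)
  have h4' : Nat.card (Q.map (MulAut.conj g).toMonoidHom) = 4 := by rw [E'.cardQ, ← E.cardQ, h4]
  have hh1 : h ≠ 1 := fun e => by rw [e, orderOf_one] at hh; omega
  have hcyc : IsCyclic (S : Subgroup C) := by
    refine ⟨⟨⟨⟨h, hhC⟩, hhS⟩, fun s => ?_⟩⟩
    by_cases hs1 : (s.1 : G) = 1
    · exact Subgroup.mem_zpowers_iff.2 ⟨0, Subtype.ext (Subtype.ext (by simp [hs1]))⟩
    by_cases hsh : h = (s.1 : G)
    · exact Subgroup.mem_zpowers_iff.2 ⟨1, Subtype.ext (Subtype.ext (by simpa using hsh))⟩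
    exfalso
    have hhs1 : h * (s.1 : G) ≠ 1 := fun e => hsh (by
      rw [eq_inv_of_mul_eq_one_left e, inv_eq_of_mul_eq_one_left (E'.elem _ (hSmem _ s.2))])
    refine hx1 ((hO.conj g) x hxo fun v hv => ?_)
    have c1 : Commute x h := hhx.symm
    have c2 : Commute x (s.1 : G) := (Subgroup.mem_centralizer_singleton_iff.1 s.1.2).symm
    rcases four_elems h4' (hSmem _ hhS) (hSmem _ s.2) hh1 hs1 hsh hhs1 hv with rfl | rfl | rfl | rfl
    · rw [mul_one, one_mul]
    · exact c1.eq
    · exact c2.eq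
    · exact (c1.mul_right c2).eq
  have hScard : Nat.card (S : Subgroup C) = 2 := by
    obtain ⟨s, hs⟩ := hcyc.exists_generator
    have hle : orderOf s ≤ 2 := orderOf_le_of_pow_eq_one (by norm_num) (Subtype.ext (Subtype.ext (by
      show ((s.1 : G)) ^ 2 = 1
      rw [pow_two]; exact E'.elem _ (hSmem _ s.2))))
    rw [orderOf_eq_card_of_forall_mem_zpowers hs] at hle
    have h2 := orderOf_dvd_card hhS
    rw [← Subgroup.orderOf_coe, hh] at h2
    have := Nat.le_of_dvd Nat.card_pos h2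
    omega
  have hnp : Cfsg.HasNormalPComplement 2 C := Fusion.DihedralFours.hnpc_two_cyclic S hcyc
  obtain ⟨N, hNn, hNc⟩ := Fusion.hnpc_exists_complement hnp S
  have hodd : ¬ 2 ∣ Nat.card N := by
    rw [← Fusion.coprime_card_iff_not_dvd]; exact Fusion.coprime_card_of_isComplement' hNc
  have hcN : Nat.card (N.map C.subtype) = Nat.card N :=
    (Nat.card_congr (N.equivMapOfInjective _ C.subtype_injective).toEquiv).symm
  have hRall : ∀ g ∈ C, ¬ 2 ∣ orderOf g → g ∈ N.map C.subtype := fun g hg hgo => by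
    refine ⟨⟨g, hg⟩, ?_, rfl⟩
    show (⟨g, hg⟩ : C) ∈ N
    rw [Fusion.eq_pResidual_of_isComplement' hNc, Fusion.hnpc_mem_iff hnp, Subgroup.orderOf_mk]
    exact (Nat.coprime_comm).1 (Nat.prime_two.coprime_iff_not_dvd.2 hgo)
  refine ⟨N.map C.subtype, Subgroup.map_subtype_le N, ?_, hRall, ?_, fun P hP hRP y hy => ?_⟩
  · refine E.odd_norm hh (by rwa [hcN]) (conj_mem_norm (z := h) ?_ hhh)
    rintro _ ⟨w, hw, rfl⟩
    refine ⟨(⟨h, hhC⟩ : C) * w * (⟨h, hhC⟩ : C)⁻¹, hNn.conj_mem w hw _, ?_⟩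
    simp [hhi]
  · rw [hcN, ← hScard, hNc.card_mul]
  · refine hRall y (Subgroup.mem_centralizer_singleton_iff.2 (E.ab P hP y hy x (hRP ?_)))
      (odd_of_dvd (orderOf_dvd_card hy) (E.pgroup_odd hP))
    exact hRall x (Subgroup.mem_centralizer_singleton_iff.2 rfl) hxo

theorem Exc.inverted (E : Exc G p a Q) (h4 : Nat.card Q = 4) (hO : OTriv Q) {t q : G} (ht : t ∈ Q) (hq : q ∈ Q)
    (ht1 : t ≠ 1) (hq1 : q ≠ 1) (htq : t ≠ q) (htq2 : t * q ≠ 1) {x : G} (hxt : x * t = t * x)
    (hxo : ¬ 2 ∣ orderOf x) : q * x * q = x⁻¹ := by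
  obtain ⟨K, hKC, hKp, hKodd, hK, -⟩ := E.centralizer_data ht ht1
  have hqq := E.elem q hq
  have hqi : q⁻¹ = q := inv_eq_of_mul_eq_one_left hqq
  have hxK := hK x (Subgroup.mem_centralizer_singleton_iff.2 hxt) hxo
  have c1 : Commute q t := E.commQ hq ht
  have hqxq : q * x * q ∈ K := by
    refine hK _ (Subgroup.mem_centralizer_singleton_iff.2 ((c1.mul_left (show Commute x t from hxt)).mul_left c1).eq) ?_
    rwa [show q * x * q = MulAut.conj q x by simp [hqi], MulEquiv.orderOf_eq]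
  have hct : Commute (x * (q * x * q)) t := (show Commute x t from hxt).mul_left ((c1.mul_left hxt).mul_left c1)
  have hcq : Commute (x * (q * x * q)) q := by
    show x * (q * x * q) * q = q * (x * (q * x * q))
    calc x * (q * x * q) * q = q * x * q * x * q := by rw [E.ab K hKp x hxK _ hqxq]
      _ = q * (x * (q * x * q)) := by group
  have h1 : x * (q * x * q) = 1 := hO _ (odd_of_dvd (orderOf_dvd_card (mul_mem hxK hqxq)) hKodd) fun v hv => by
    rcases four_elems h4 ht hq ht1 hq1 htq htq2 hv with rfl | rfl | rfl | rfl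
    · rw [mul_one, one_mul]
    · exact hct.eq
    · exact hcq.eq
    · exact (hct.mul_right hcq).eq
  rw [eq_inv_of_mul_eq_one_right h1]

/-- an inverted odd part is a Sylow subgroup -/
theorem Exc.centralized_R (E : Exc G p a Q) (h4 : Nat.card Q = 4) (hO : OTriv Q) {t x : G} (ht : t ∈ Q) (ht1 : t ≠ 1)
    (hx1 : x ≠ 1) (hxo : ¬ 2 ∣ orderOf x) (hxt : x * t = t * x) {z : G} (hzx : z * x = x * z)
    (hzo : ¬ 2 ∣ orderOf z) : z * t = t * z := by
  classical
  haveI : Fact p.Prime := ⟨E.pp⟩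
  by_contra hzt
  have hto := E.ord_two ht ht1
  obtain ⟨htt, hti⟩ := inv_mul_self_of_two hto
  obtain ⟨q, hq, hq1, htq, htq2⟩ := E.exists_other ht ht1
  have hqq := E.elem q hq
  have hqi : q⁻¹ = q := inv_eq_of_mul_eq_one_left hqq
  obtain ⟨R, hRC, hRp, hR, -, hRmax⟩ := E.single h4 hO hto hx1 hxo hxt.symm
  have hRodd := E.pgroup_odd hRp
  have hzR : z ∈ R := hR z (Subgroup.mem_centralizer_singleton_iff.2 hzx) hzo
  have hR2 : ∀ w ∈ R, ∀ v : G, v * v = 1 → (v * x = x * v ∨ v * x * v = x⁻¹) → v * w * v ∈ R := by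
    intro w hw v hvv hvx
    have hvi : v⁻¹ = v := inv_eq_of_mul_eq_one_left hvv
    refine hR _ (Subgroup.mem_centralizer_singleton_iff.2 ?_) ?_
    · have hwx : Commute w x := Subgroup.mem_centralizer_singleton_iff.1 (hRC hw)
      rcases hvx with h | h
      · exact (((show Commute v x from h).mul_left hwx).mul_left (show Commute v x from h)).eq
      · have hc := hwx.inv_right
        rw [← h] at hc
        calc v * w * v * x = v * (w * (v * x * v)) * v := by simp only [mul_assoc, hvv, mul_one]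
          _ = _ := by rw [hc.eq]; simp only [← mul_assoc, hvv, one_mul]
    · rw [show v * w * v = MulAut.conj v w by simp [hvi], MulEquiv.orderOf_eq]
      exact odd_of_dvd (orderOf_dvd_card hw) hRodd
  set z2 := z * (t * z * t)⁻¹ with hz2
  have htzR : t * z * t ∈ R := hR2 z hzR t htt (Or.inl hxt.symm)
  have hz2R : z2 ∈ R := mul_mem hzR (inv_mem htzR)
  have hz2inv : t * z2 * t = z2⁻¹ := by
    have e : (t * z * t)⁻¹ = t * z⁻¹ * t := by rw [mul_inv_rev, mul_inv_rev, hti]; group
    rw [hz2, e]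
    calc t * (z * (t * z⁻¹ * t)) * t = t * z * t * z⁻¹ * (t * t) := by group
      _ = t⁻¹ * z * t⁻¹ * z⁻¹ := by rw [htt, mul_one, hti]
      _ = _ := by group
  have hz21 : z2 ≠ 1 := fun h => hzt (by
    rw [hz2, mul_inv_eq_one] at h
    nth_rewrite 1 [h]
    rw [mul_assoc, htt, mul_one])
  obtain ⟨a', q', haR, ha1, hq'Q, hq'1, htq', haq'⟩ :
      ∃ a' q' : G, a' ∈ R ∧ a' ≠ 1 ∧ q' ∈ Q ∧ q' ≠ 1 ∧ t ≠ q' ∧ a' * q' = q' * a' := by
    have hqz : q * z2 * q ∈ R := hR2 z2 hz2R q hqq (Or.inr (E.inverted h4 hO ht hq ht1 hq1 htq htq2 hxt hxo))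
    by_cases he : z2 * (q * z2 * q) = 1
    · refine ⟨z2, t * q, hz2R, hz21, mul_mem ht hq, htq2, fun h => hq1 (mul_eq_left.1 h.symm), ?_⟩
      have h2 : q * z2 * q = z2⁻¹ := eq_inv_of_mul_eq_one_right he
      have hq2 : z2 * q = q * z2⁻¹ := by rw [← h2, ← mul_assoc, ← mul_assoc, hqq, one_mul]
      have ht2 : z2⁻¹ * t = t * z2 := by rw [← hz2inv, mul_assoc, htt, mul_one]
      rw [E.commQ ht hq, ← mul_assoc, hq2, mul_assoc, ht2, ← mul_assoc]
    · refine ⟨_, q, mul_mem hz2R hqz, he, hq, hq1, htq, ?_⟩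
      calc z2 * (q * z2 * q) * q = q * z2 * q * z2 * q := by rw [E.ab R hRp z2 hz2R _ hqz]
        _ = q * (z2 * (q * z2 * q)) := by group
  have hq'o := E.ord_two hq'Q hq'1
  have hao : ¬ 2 ∣ orderOf a' := odd_of_dvd (orderOf_dvd_card haR) hRodd
  obtain ⟨R', hR'C, hR'p, hR', -, -⟩ := E.single h4 hO hq'o ha1 hao haq'.symm
  have hRR' : R' = R := by
    have hle : R ≤ R' := fun w hw => hR' w
      (Subgroup.mem_centralizer_singleton_iff.2 (E.ab R hRp w hw a' haR)) (odd_of_dvd (orderOf_dvd_card hw) hRodd)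
    exact le_antisymm (hRmax R' hR'p hle) hle
  obtain ⟨y, ⟨k, hy⟩, hyn, htr⟩ := E.trans
  obtain ⟨i, hi⟩ := htr t ht ht1 q' hq'Q hq'1
  set g := y ^ i with hg
  have hgk : g ^ p ^ k = 1 := by rw [hg, ← pow_mul, mul_comm, pow_mul, hy, one_pow]
  set x' := g * x * g⁻¹ with hx'
  have hx'o : ¬ 2 ∣ orderOf x' := by rwa [hx', ← MulAut.conj_apply, MulEquiv.orderOf_eq]
  have hx'q : x' * q' = q' * x' := by
    rw [hx', ← hi]
    calc g * x * g⁻¹ * (g * t * g⁻¹) = g * (x * t) * g⁻¹ := by group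
      _ = _ := by rw [hxt]; group
  obtain ⟨K', hK'C, hK'p, hK'odd, hK', -⟩ := E.centralizer_data hq'Q hq'1
  have hx'R : x' ∈ R := hRR' ▸ hR' x' (Subgroup.mem_centralizer_singleton_iff.2
    (E.ab K' hK'p x' (hK' x' (Subgroup.mem_centralizer_singleton_iff.2 hx'q) hx'o) a'
      (hK' a' (Subgroup.mem_centralizer_singleton_iff.2 haq') hao))) hx'o
  have hsub : ∀ w ∈ R, g⁻¹ * w * g ∈ R := fun w hw => by
    refine hR _ (Subgroup.mem_centralizer_singleton_iff.2 ?_) ?_
    · have hc : w * x' = x' * w := E.ab R hRp w hw x' hx'R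
      calc g⁻¹ * w * g * x = g⁻¹ * (w * x') * g := by rw [hx']; group
        _ = _ := by rw [hc, hx']; group
    · rw [show g⁻¹ * w * g = MulAut.conj g⁻¹ w by simp, MulEquiv.orderOf_eq]
      exact odd_of_dvd (orderOf_dvd_card hw) hRodd
  have hmapR : R.map (MulAut.conj g⁻¹).toMonoidHom = R := Subgroup.eq_of_le_of_card_ge
    (by rintro _ ⟨w, hw, rfl⟩; simpa using hsub w hw)
    (Nat.card_congr (R.equivMapOfInjective _ (MulAut.conj g⁻¹).injective).toEquiv).le
  have hgnorm : g ∈ Subgroup.normalizer (R : Set G) := by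
    rw [Subgroup.mem_normalizer_iff]
    intro w
    constructor
    · intro hw
      obtain ⟨v, hv, hvw⟩ := hmapR.ge hw
      have hvw' : g⁻¹ * v * g = w := by simpa using hvw
      rw [← hvw']
      simpa [mul_assoc] using hv
    · intro hw
      have := hsub _ hw
      simpa [mul_assoc] using this
  have hgR : g ∈ R := hRmax _ ((zpowers_pgroup hgk).to_sup_of_normal_right' hRp (Subgroup.zpowers_le.2 hgnorm))
    le_sup_right (Subgroup.mem_sup_left (Subgroup.mem_zpowers g))
  have hxx : x' = x := by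
    rw [hx', E.ab R hRp g hgR x (hR x (Subgroup.mem_centralizer_singleton_iff.2 rfl) hxo), mul_inv_cancel_right]
  rw [hxx] at hx'q
  refine hx1 (hO x hxo fun v hv => ?_)
  have htq'2 : t * q' ≠ 1 := fun h => htq' (by rw [eq_inv_of_mul_eq_one_left h, inv_eq_of_mul_eq_one_left (E.elem q' hq'Q)])
  rcases four_elems h4 ht hq'Q ht1 hq'1 htq' htq'2 hv with rfl | rfl | rfl | rfl
  · rw [mul_one, one_mul]
  · exact hxt
  · exact hx'q
  · exact ((show Commute x t from hxt).mul_right (show Commute x q' from hx'q)).eq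

theorem Exc.invol_count (E : Exc G p a Q) {t : G} (ht : t ∈ Q) (ht1 : t ≠ 1) :
    Nat.card {v : G // orderOf v = 2} * Nat.card (Subgroup.centralizer ({t} : Set G)) = Nat.card G := by
  rw [← Subgroup.index_mul_card (Subgroup.centralizer ({t} : Set G)), ← Char.card_conjClass_eq_index]
  congr 1
  refine Nat.card_congr (Equiv.subtypeEquiv (Equiv.refl G) fun v => ⟨fun hv => ?_, fun hv => ?_⟩)
  · obtain ⟨g, hg⟩ := E.one_class ht ht1 hv
    exact isConj_iff.2 ⟨g, hg⟩
  · obtain ⟨g, hg⟩ := isConj_iff.1 hv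
    have hg' : g * t * g⁻¹ = v := hg
    rw [← hg', ← MulAut.conj_apply, MulEquiv.orderOf_eq]; exact E.ord_two ht ht1

theorem Exc.invol_bound (E : Exc G p a Q) (h4 : Nat.card Q = 4) {t : G} (ht : t ∈ Q) (ht1 : t ≠ 1) {k : ℕ}
    (hk : Nat.card (Subgroup.centralizer ({t} : Set G)) = 4 * k) :
    Nat.card {v : G // orderOf v = 2 ∧ v * t = t * v} ≤ 2 * k + 1 := by
  classical
  obtain ⟨K, hKC, hKp, hKodd, hK, hcard⟩ := E.centralizer_data ht ht1
  have ha4 : 2 ^ a = 4 := by rw [← E.cardQ, h4]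
  rw [ha4, hk] at hcard
  have hkK : k = Nat.card K := by omega
  set C := Subgroup.centralizer ({t} : Set G) with hC
  have htC : t ∈ C := Subgroup.mem_centralizer_singleton_iff.2 rfl
  have hto := E.ord_two ht ht1
  let f : {v : G // orderOf v = 2 ∧ v * t = t * v} ⊕ (K ⊕ {z : K // z ≠ 1}) → C := Sum.elim
    (fun v => ⟨v.1, Subgroup.mem_centralizer_singleton_iff.2 v.2.2⟩)
    (Sum.elim (fun z => ⟨z.1, hKC z.2⟩) (fun z => ⟨t * z.1.1, mul_mem htC (hKC z.1.2)⟩))
  have hzodd : ∀ z : K, ¬ 2 ∣ orderOf (z : G) := fun z => odd_of_dvd (orderOf_dvd_card z.2) hKodd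
  have hne1 : ∀ (v : {v : G // orderOf v = 2 ∧ v * t = t * v}) (z : K), v.1 ≠ (z : G) := fun v z e => hzodd z (by
    rw [← e, v.2.1])
  have hne2 : ∀ (v : {v : G // orderOf v = 2 ∧ v * t = t * v}) (z : {z : K // z ≠ 1}), v.1 ≠ t * z.1.1 := fun v z e => by
    refine z.2 (Subtype.ext ?_)
    have htz : Commute t (z.1 : G) := (Subgroup.mem_centralizer_singleton_iff.1 (hKC z.1.2)).symm
    have h1 : (t * (z.1 : G)) ^ 2 = 1 := by
      have h0 := pow_orderOf_eq_one v.1
      rw [v.2.1] at h0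
      rwa [e] at h0
    rw [htz.mul_pow, ← hto, pow_orderOf_eq_one, one_mul, hto, pow_two] at h1
    exact eq_one_of_sq h1 (hzodd z.1)
  have hne3 : ∀ (z : K) (z' : {z : K // z ≠ 1}), (z : G) ≠ t * z'.1.1 := fun z z' e => by
    have h1 : t ∈ K := by
      have := mul_mem z.2 (inv_mem z'.1.2)
      rwa [e, mul_inv_cancel_right] at this
    exact hKodd (hto ▸ orderOf_dvd_card h1)
  have hf : Function.Injective f := by
    intro u v h
    have h' := congrArg Subtype.val h
    rcases u with u | u | u <;> rcases v with v | v | v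
    · exact congrArg _ (Subtype.ext h')
    · exact absurd h' (hne1 u v)
    · exact absurd h' (hne2 u v)
    · exact absurd h'.symm (hne1 v u)
    · exact congrArg (fun z => Sum.inr (Sum.inl z)) (Subtype.ext h')
    · exact absurd h' (hne3 u v)
    · exact absurd h'.symm (hne2 v u)
    · exact absurd h'.symm (hne3 v u)
    · exact congrArg (fun z => Sum.inr (Sum.inr z)) (Subtype.ext (Subtype.ext (mul_left_cancel h')))
  have h1 := Nat.card_le_card_of_injective f hf
  rw [Nat.card_sum, Nat.card_sum, hk] at h1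
  have h2 : Nat.card {z : K // z ≠ 1} + 1 = Nat.card K := by
    have := Fintype.ofFinite K
    rw [Nat.card_eq_fintype_card, Fintype.card_subtype_compl, Fintype.card_subtype_eq, ← Nat.card_eq_fintype_card]
    have := Nat.card_pos (α := K)
    omega
  omega

theorem Exc.klein_false (E : Exc G p a Q) (ha : a = 2) (hO : OTriv Q) {t x : G} (ht : t ∈ Q) (ht1 : t ≠ 1)
    (hxt : x * t = t * x) (hxo : ¬ 2 ∣ orderOf x) (hx1 : x ≠ 1) : False := by
  classical
  haveI : Fact (Nat.Prime 2) := ⟨Nat.prime_two⟩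
  haveI : Fact p.Prime := ⟨E.pp⟩
  have h4 : Nat.card Q = 4 := by rw [E.cardQ, ha]; norm_num
  have hto := E.ord_two ht ht1
  obtain ⟨htt, hti⟩ := inv_mul_self_of_two hto
  obtain ⟨K, hKC, hKp, hKodd, hK, hcard⟩ := E.centralizer_data ht ht1
  have hxK := hK x (Subgroup.mem_centralizer_singleton_iff.2 hxt) hxo
  set k := Nat.card K with hk
  have hcC : Nat.card (Subgroup.centralizer ({t} : Set G)) = 4 * k := by rw [hcard, ← E.cardQ, h4]
  have hk3 : 3 ≤ k := by
    obtain ⟨e, he⟩ := IsPGroup.iff_card.1 hKp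
    have he0 : e ≠ 0 := fun h => hx1 (by
      rw [h, pow_zero] at he; rw [Subgroup.eq_bot_of_card_eq _ he, Subgroup.mem_bot] at hxK; exact hxK)
    rw [hk, he]
    have := Nat.le_self_pow he0 p
    have := E.pp.two_le
    have := E.p2
    omega
  -- `K` is a Sylow subgroup
  obtain ⟨S, hS⟩ := hKp.exists_le_sylow
  have hSK : ∀ w ∈ (S : Subgroup G), w ∈ K := fun w hw => by
    have hwo := odd_of_dvd (orderOf_dvd_card hw) (E.pgroup_odd S.isPGroup')
    refine hK w (Subgroup.mem_centralizer_singleton_iff.2 ?_) hwo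
    exact E.centralized_R h4 hO ht ht1 hx1 hxo hxt (E.ab _ S.isPGroup' w hw x (hS hxK)) hwo
  have hcase : ∀ u : G, orderOf u = 2 → ∃ s : G, orderOf s = 2 ∧ s * t = t * s ∧ s * u = u * s := by
    intro u hu
    rcases E.product_cases hto hu with h | ⟨w, hwdef, hw1, ⟨l, hl⟩, hwinv⟩
    · exact h
    obtain ⟨S', hS'⟩ := (zpowers_pgroup hl).exists_le_sylow
    obtain ⟨g, hg⟩ := MulAction.exists_smul_eq G S' S
    have hmem : g * w * g⁻¹ ∈ K := hSK _ (by
      rw [← hg]; exact ⟨w, hS' (Subgroup.mem_zpowers w), rfl⟩)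
    set h := g⁻¹ * t * g with hh
    have hho : orderOf h = 2 := by
      rw [hh, show g⁻¹ * t * g = MulAut.conj g⁻¹ t by simp, MulEquiv.orderOf_eq]; exact hto
    obtain ⟨hhh, hhi⟩ := inv_mul_self_of_two hho
    have hhw : h * w = w * h := by
      have hc : g * w * g⁻¹ * t = t * (g * w * g⁻¹) := Subgroup.mem_centralizer_singleton_iff.1 (hKC hmem)
      calc h * w = g⁻¹ * (t * (g * w * g⁻¹)) * g := by rw [hh]; group
        _ = _ := by rw [← hc, hh]; group
    have hwo := odd_of_ppow E.pp E.p2 hl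
    obtain ⟨R, hRC, hRp, hR, hRcard, -⟩ := E.single h4 hO hho hw1 hwo hhw
    set C := Subgroup.centralizer ({w} : Set G) with hC
    have hRh : ∀ r ∈ R, r * h = h * r := by
      intro r hr
      have hc : g * r * g⁻¹ * t = t * (g * r * g⁻¹) := by
        refine E.centralized_R h4 hO ht ht1 (x := g * w * g⁻¹) (fun e => hw1 (by simpa using e)) ?_
          (Subgroup.mem_centralizer_singleton_iff.1 (hKC hmem)) ?_ ?_
        · rw [← MulAut.conj_apply, MulEquiv.orderOf_eq]; exact hwo
        · have := Subgroup.mem_centralizer_singleton_iff.1 (hRC hr)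
          calc g * r * g⁻¹ * (g * w * g⁻¹) = g * (r * w) * g⁻¹ := by group
            _ = _ := by rw [this]; group
        · rw [← MulAut.conj_apply, MulEquiv.orderOf_eq]; exact odd_of_dvd (orderOf_dvd_card hr) (E.pgroup_odd hRp)
      calc r * h = g⁻¹ * (g * r * g⁻¹ * t) * g := by rw [hh]; group
        _ = _ := by rw [hc, hh]; group
    have hhC : h ∈ C := Subgroup.mem_centralizer_singleton_iff.2 hhw
    have hRodd := E.pgroup_odd hRp
    have hgen : C = R ⊔ Subgroup.zpowers h := by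
      refine (Subgroup.eq_of_le_of_card_ge (sup_le hRC (Subgroup.zpowers_le.2 hhC)) ?_).symm
      rw [hRcard]
      refine Nat.le_of_dvd Nat.card_pos (Nat.Coprime.mul_dvd_of_dvd_of_dvd ?_
        (Subgroup.card_dvd_of_le le_sup_left) ?_)
      · exact (Nat.coprime_comm).1 (Nat.prime_two.coprime_iff_not_dvd.2 hRodd)
      · exact dvd_trans (by rw [Nat.card_zpowers, hho]) (Subgroup.card_dvd_of_le (le_sup_right : Subgroup.zpowers h ≤ R ⊔ Subgroup.zpowers h))
    have huniq : ∀ v ∈ C, orderOf v = 2 → v = h := by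
      intro v hv hvo
      obtain ⟨hvv, hvi⟩ := inv_mul_self_of_two hvo
      rw [hgen] at hv
      have hle : R ⊔ Subgroup.zpowers h ≤ Subgroup.centralizer ({h} : Set G) :=
        sup_le (fun r hr => Subgroup.mem_centralizer_singleton_iff.2 (hRh r hr))
          (Subgroup.zpowers_le.2 (Subgroup.mem_centralizer_singleton_iff.2 rfl))
      have hvh : Commute v h := Subgroup.mem_centralizer_singleton_iff.1 (hle hv)
      have hn : Subgroup.zpowers h ≤ Subgroup.normalizer (R : Set G) := by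
        refine le_trans ?_ (Subgroup.centralizer_le_normalizer _)
        exact Subgroup.zpowers_le.2 (Subgroup.mem_centralizer_iff.2 fun r hr => hRh r hr)
      have hv' : v ∈ (R : Set G) * (Subgroup.zpowers h : Set G) := by
        rw [← Subgroup.coe_mul_of_right_le_normalizer_left R (Subgroup.zpowers h) hn]; exact hv
      obtain ⟨r, hr, e, he, rfl⟩ := hv'
      simp only at hvo hvv ⊢
      have he2 : e = 1 ∨ e = h := by
        obtain ⟨i, rfl⟩ := Subgroup.mem_zpowers_iff.1 he
        rcases Int.even_or_odd' i with ⟨j, rfl | rfl⟩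
        · left; rw [zpow_mul, show h ^ (2 : ℤ) = 1 by rw [zpow_two, hhh], one_zpow]
        · right; rw [zpow_add, zpow_mul, show h ^ (2 : ℤ) = 1 by rw [zpow_two, hhh], one_zpow, one_mul, zpow_one]
      rcases he2 with rfl | rfl
      · rw [mul_one] at hvo
        exact absurd (hvo ▸ orderOf_dvd_card hr) hRodd
      · have hrr : r * r = 1 := by
          calc r * r = r * r * (h * h) := by rw [hhh, mul_one]
            _ = r * h * (r * h) := by
              rw [mul_assoc r h, ← mul_assoc h r, ← hRh r hr]; group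
            _ = 1 := hvv
        rw [eq_one_of_sq hrr (odd_of_dvd (orderOf_dvd_card hr) hRodd), one_mul]
    have hnorm : ∀ v : G, orderOf v = 2 → v * w * v = w⁻¹ → h * v = v * h := by
      intro v hv hvw
      obtain ⟨hvv, hvi⟩ := inv_mul_self_of_two hv
      have h1 : v * h * v = h := by
        refine huniq _ (Subgroup.mem_centralizer_singleton_iff.2 ?_) ?_
        · have hc : Commute h w⁻¹ := (show Commute h w from hhw).inv_right
          rw [← hvw] at hc
          calc v * h * v * w = v * (h * (v * w * v)) * v := by simp only [mul_assoc, hvv, mul_one]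
            _ = _ := by rw [hc.eq]; simp only [← mul_assoc, hvv, one_mul]
        · rw [show v * h * v = MulAut.conj v h by simp [hvi], MulEquiv.orderOf_eq]; exact hho
      calc h * v = v * h * v * v := by rw [h1]
        _ = v * h := by rw [mul_assoc, hvv, mul_one]
    refine ⟨h, hho, hnorm t hto hwinv, hnorm u hu ?_⟩
    obtain ⟨huu, hui⟩ := inv_mul_self_of_two hu
    rw [hwdef, mul_inv_rev, hti, hui]
    calc u * (t * u) * u = u * t * (u * u) := by group
      _ = u * t := by rw [huu, mul_one]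
  -- bound on the number of involutions
  let _ : Fintype G := Fintype.ofFinite G
  set A := Finset.univ.filter (fun v : G => orderOf v = 2 ∧ v * t = t * v) with hA
  set B : G → Finset G := fun s => Finset.univ.filter (fun v : G => orderOf v = 2 ∧ v * s = s * v ∧ ¬ v * t = t * v)
  have hTsub : Finset.univ.filter (fun v : G => orderOf v = 2) ⊆ A ∪ (A.erase t).biUnion B := by
    intro u hu
    rw [Finset.mem_filter] at hu
    by_cases hut : u * t = t * u
    · exact Finset.mem_union_left _ (Finset.mem_filter.2 ⟨Finset.mem_univ _, hu.2, hut⟩)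
    obtain ⟨s, hs, hst, hsu⟩ := hcase u hu.2
    refine Finset.mem_union_right _ (Finset.mem_biUnion.2 ⟨s, Finset.mem_erase.2 ⟨fun e => hut (by rw [← e]; exact hsu.symm),
      Finset.mem_filter.2 ⟨Finset.mem_univ _, hs, hst⟩⟩, Finset.mem_filter.2 ⟨Finset.mem_univ _, hu.2, hsu.symm, hut⟩⟩)
  have hAc : A.card ≤ 2 * k + 1 := by
    have h := E.invol_bound h4 ht ht1 hcC
    rwa [Nat.card_eq_fintype_card, Fintype.card_subtype] at h
  have hBc : ∀ s ∈ A.erase t, (B s).card ≤ 2 * k - 2 := by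
    intro s hs
    rw [Finset.mem_erase, Finset.mem_filter] at hs
    obtain ⟨hst1, -, hso, hst⟩ := hs
    obtain ⟨g, hg⟩ := E.conj_rep hso
    have E' := E.conj g
    have hs1 : s ≠ 1 := fun e => by rw [e, orderOf_one] at hso; omega
    have hcs : Nat.card (Subgroup.centralizer ({s} : Set G)) = 4 * k := by
      have e1 := E.invol_count ht ht1
      have e2 := E'.invol_count hg hs1
      rw [hcC] at e1
      rw [← e1] at e2
      haveI : Nonempty {v : G // orderOf v = 2} := ⟨⟨t, hto⟩⟩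
      exact Nat.eq_of_mul_eq_mul_left Nat.card_pos e2
    have h := E'.invol_bound (by rw [E'.cardQ, ← E.cardQ, h4]) hg hs1 hcs
    rw [Nat.card_eq_fintype_card, Fintype.card_subtype] at h
    obtain ⟨hss, hsi⟩ := inv_mul_self_of_two hso
    have hsto : orderOf (s * t) = 2 := orderOf_eq_prime
      (by rw [(show Commute s t from hst).mul_pow, pow_two, pow_two, hss, htt, mul_one])
      (fun e => hst1 (by rw [eq_inv_of_mul_eq_one_left e, hti]))
    have hdisj : Disjoint (B s) {t, s, s * t} := by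
      rw [Finset.disjoint_left]
      intro v hv hv'
      have hvt := (Finset.mem_filter.1 hv).2.2.2
      simp only [Finset.mem_insert, Finset.mem_singleton] at hv'
      rcases hv' with rfl | rfl | rfl
      · exact hvt rfl
      · exact hvt hst
      · exact hvt ((show Commute s t from hst).mul_left (Commute.refl t)).eq
    have hsub : B s ∪ {t, s, s * t} ⊆ Finset.univ.filter (fun v : G => orderOf v = 2 ∧ v * s = s * v) := by
      intro v hv
      rw [Finset.mem_filter]
      refine ⟨Finset.mem_univ _, ?_⟩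
      rcases Finset.mem_union.1 hv with hv | hv
      · exact ⟨(Finset.mem_filter.1 hv).2.1, (Finset.mem_filter.1 hv).2.2.1⟩
      · simp only [Finset.mem_insert, Finset.mem_singleton] at hv
        rcases hv with rfl | rfl | rfl
        · exact ⟨hto, hst.symm⟩
        · exact ⟨hso, rfl⟩
        · exact ⟨hsto, ((Commute.refl s).mul_left (show Commute t s from hst.symm)).eq⟩
    have hc3 : ({t, s, s * t} : Finset G).card = 3 := by
      rw [Finset.card_insert_of_notMem, Finset.card_pair]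
      · intro e; exact ht1 (mul_eq_left.1 e.symm)
      · simp only [Finset.mem_insert, Finset.mem_singleton, not_or]
        exact ⟨Ne.symm hst1, fun e => hs1 (mul_eq_right.1 e.symm)⟩
    have := Finset.card_le_card hsub
    rw [Finset.card_union_of_disjoint hdisj, hc3] at this
    omega
  have hn : Nat.card {v : G // orderOf v = 2} ≤ 2 * k + 1 + 2 * k * (2 * k - 2) := by
    rw [Nat.card_eq_fintype_card, Fintype.card_subtype]
    refine (Finset.card_le_card hTsub).trans ((Finset.card_union_le _ _).trans (add_le_add hAc ?_))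
    refine (Finset.card_biUnion_le_card_mul _ _ _ hBc).trans (Nat.mul_le_mul_right _ ?_)
    rw [Finset.card_erase_of_mem (show t ∈ A from Finset.mem_filter.2 ⟨Finset.mem_univ _, hto, rfl⟩)]
    omega
  -- centraliser of the four group
  have hCQ : Nat.card (Subgroup.centralizer (Q : Set G)) = 4 := by
    have hle : Subgroup.centralizer (Q : Set G) ≤ Q := by
      intro c hc
      refine mem_of_prime_parts Q _ c rfl ?_
      rintro h hh ⟨r, e, hr, -, ho⟩
      have hhc : h ∈ Subgroup.centralizer (Q : Set G) := Subgroup.zpowers_le.2 hc hh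
      by_cases hr2 : r = 2
      · subst hr2
        have hp2 : IsPGroup 2 (Subgroup.zpowers h) := zpowers_pgroup (k := e) (by rw [← ho]; exact pow_orderOf_eq_one h)
        have hle : Subgroup.zpowers h ⊔ Q = Q := (E.Q_pgroup.toSylow E.syl).is_maximal'
          (hp2.to_sup_of_normal_right' E.Q_pgroup (Subgroup.zpowers_le.2 (Subgroup.centralizer_le_normalizer _ hhc)))
          (le_sup_right : Q ≤ Subgroup.zpowers h ⊔ Q)
        have hm : h ∈ Subgroup.zpowers h ⊔ Q := Subgroup.mem_sup_left (Subgroup.mem_zpowers h)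
        rwa [hle] at hm
      · rw [hO h (by rw [ho]; exact fun h2 => hr2 ((Nat.prime_dvd_prime_iff_eq Nat.prime_two hr).1
          (Nat.prime_two.dvd_of_dvd_pow h2)).symm) fun v hv => (Subgroup.mem_centralizer_iff.1 hhc v hv).symm]
        exact one_mem _
    rw [le_antisymm hle (fun v hv => Subgroup.mem_centralizer_iff.2 fun w hw => E.commQ hw hv), h4]
  -- characters
  obtain ⟨M, hM⟩ := Char.exists_pModular Nat.prime_two
  let P2 : Sylow 2 G := E.Q_pgroup.toSylow E.syl
  have hexp : ∀ v : P2, v * v = 1 := fun v => Subtype.ext (E.elem v.1 v.2)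
  have hone : ∀ s u : G, orderOf s = 2 → orderOf u = 2 → IsConj s u := by
    intro s u hs hu
    obtain ⟨g, hg⟩ := E.one_class ht ht1 hs
    obtain ⟨g', hg'⟩ := E.one_class ht ht1 hu
    exact (isConj_iff.2 ⟨g, hg⟩).symm.trans (isConj_iff.2 ⟨g', hg'⟩)
  obtain ⟨zf, hB4, hz, hz1⟩ := Char.four_signs hM P2 h4 hexp hone (t := t) ht ht1
  have hcnt := Char.four_count hM P2 h4 hexp hone (J := t) ht ht1
  rw [show Nat.card (Subgroup.centralizer ((P2 : Subgroup G) : Set G)) = 4 from hCQ, hcC] at hcnt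
  have hnG := E.invol_count ht ht1
  rw [hcC] at hnG
  set n := Nat.card {v : G // orderOf v = 2} with hn'
  rw [← hnG] at hcnt
  set Bs := Finset.univ.filter (fun χ : Cfsg.IrrCharacter G => χ ∈ Cfsg.principalBlock M G) with hBs
  have hBcard : Bs.card = 4 := by rw [← hB4, Nat.card_eq_fintype_card, Fintype.card_subtype]
  let d : Cfsg.IrrCharacter G → ℕ := fun χ => Char.deg (χ : G → ℂ)
  set Sr : ℝ := ∑ χ ∈ Bs, (zf χ : ℝ) ^ 3 / (d χ : ℝ) with hSr
  have hSc : (∑ χ ∈ Bs, (χ : G → ℂ) t ^ 3 / (χ : G → ℂ) 1) = (Sr : ℂ) := by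
    rw [hSr, Complex.ofReal_sum]
    refine Finset.sum_congr rfl fun χ _ => ?_
    rw [hz χ, Char.char_one_eq_deg (Char.irr_isCharacter χ.2)]
    push_cast
    rfl
  have heq : Sr * (((n * (4 * k) : ℕ) : ℝ) * 16) = 8 * ((4 * k : ℕ) : ℝ) ^ 3 := by
    apply Complex.ofReal_injective
    push_cast at hcnt hSc ⊢
    rw [← hSc]
    linear_combination hcnt
  have hbound : Sr ≤ 2 := by
    have hstep : ∀ χ ∈ Bs, (zf χ : ℝ) ^ 3 / (d χ : ℝ) ≤ (1 : ℝ) / 3 + (if (χ : G → ℂ) 1 = 1 then 2 / 3 else 0) := by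
      intro χ hχ
      have hzz : zf χ = 1 ∨ zf χ = -1 := sq_eq_one_iff.1 (hz1 χ (Finset.mem_filter.1 hχ).2)
      have hdpos : 0 < d χ := Char.deg_pos χ.2
      have hd1 : (χ : G → ℂ) 1 = (d χ : ℂ) := Char.char_one_eq_deg (Char.irr_isCharacter χ.2)
      have hd1' : (1 : ℝ) ≤ (d χ : ℝ) := by exact_mod_cast hdpos
      have hle : (zf χ : ℝ) ^ 3 / (d χ : ℝ) ≤ 1 / (d χ : ℝ) := by
        refine div_le_div_of_nonneg_right ?_ (by positivity)
        rcases hzz with h | h <;> rw [h] <;> norm_num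
      refine hle.trans ?_
      by_cases h1 : (χ : G → ℂ) 1 = 1
      · rw [if_pos h1, div_le_iff₀ (by positivity)]
        linarith
      · rw [if_neg h1, add_zero]
        have hd3 : 3 ≤ d χ := by
          by_contra hlt
          have hd2 : d χ = 2 := by
            have : d χ ≠ 1 := fun e => h1 (by rw [hd1, e, Nat.cast_one])
            omega
          obtain ⟨m, hm⟩ := Char.classInner_natCast
            (Char.isCharacter_comp (Q.subtype) (Char.irr_isCharacter χ.2)) (Char.isCharacter_one (G := Q))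
          simp only [Cfsg.classInner, Function.comp_apply, Subgroup.coe_subtype, map_one, mul_one] at hm
          have hval : ∀ v : Q, v ≠ 1 → (χ : G → ℂ) (v : G) = (zf χ : ℂ) := fun v hv => by
            obtain ⟨g, hg⟩ := E.one_class ht ht1 (E.ord_two v.2 fun e => hv (Subtype.ext e))
            rw [← hg, Char.isClassFunction_character (Char.irr_isCharacter χ.2) t g, hz χ]
          rw [← Finset.add_sum_erase _ _ (Finset.mem_univ (1 : Q)),
            Finset.sum_congr rfl (fun v hv => hval v (Finset.ne_of_mem_erase hv)), Finset.sum_const,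
            Finset.card_erase_of_mem (Finset.mem_univ _), Finset.card_univ, ← Nat.card_eq_fintype_card, h4,
            OneMemClass.coe_one, hd1, hd2] at hm
          have hmC : (2 : ℂ) + 3 * (zf χ : ℂ) = 4 * (m : ℂ) := by
            rw [← hm]; push_cast; ring
          have hmZ : (2 : ℤ) + 3 * zf χ = 4 * (m : ℤ) := by exact_mod_cast hmC
          omega
        refine div_le_div_of_nonneg_left (by norm_num) (by norm_num) ?_
        exact_mod_cast hd3
    have hlin : (Bs.filter (fun χ : Cfsg.IrrCharacter G => (χ : G → ℂ) 1 = 1)).card ≤ 1 := by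
      have hcom : commutator G = ⊤ := by
        rcases E.simple (commutator G) inferInstance with h | h
        · exfalso
          refine E.centralizer_ne_top ht1 (eq_top_iff.2 fun g _ => Subgroup.mem_centralizer_singleton_iff.2 ?_)
          have : ⁅g, t⁆ ∈ commutator G := Subgroup.commutator_mem_commutator (Subgroup.mem_top _) (Subgroup.mem_top _)
          rw [h, Subgroup.mem_bot, commutatorElement_eq_one_iff_mul_comm] at this
          exact this
        · exact h
      have h := Char.card_linear (G := G)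
      rw [hcom, Subgroup.index_top, Nat.card_eq_fintype_card, Fintype.card_subtype] at h
      refine (Finset.card_le_card ?_).trans h.le
      intro χ hχ
      exact Finset.mem_filter.2 ⟨Finset.mem_univ _, (Finset.mem_filter.1 hχ).2⟩
    calc Sr ≤ ∑ χ ∈ Bs, ((1 : ℝ) / 3 + (if (χ : G → ℂ) 1 = 1 then 2 / 3 else 0)) := Finset.sum_le_sum hstep
      _ = 4 / 3 + ((Bs.filter (fun χ : Cfsg.IrrCharacter G => (χ : G → ℂ) 1 = 1)).card : ℝ) * (2 / 3) := by
          rw [Finset.sum_add_distrib, ← Finset.sum_filter, Finset.sum_const, Finset.sum_const, hBcard, nsmul_eq_mul,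
            nsmul_eq_mul]
          norm_num
      _ ≤ 2 := by
          have : ((Bs.filter (fun χ : Cfsg.IrrCharacter G => (χ : G → ℂ) 1 = 1)).card : ℝ) ≤ 1 := by exact_mod_cast hlin
          linarith
  have hnb : (n : ℝ) ≤ 4 * (k : ℝ) ^ 2 - 2 * k + 1 := by
    obtain ⟨j, hj⟩ : ∃ j, k = j + 1 := ⟨k - 1, by omega⟩
    rw [hj] at hn ⊢
    rw [show 2 * (j + 1) - 2 = 2 * j by omega] at hn
    have : (n : ℝ) ≤ ((2 * (j + 1) + 1 + 2 * (j + 1) * (2 * j) : ℕ) : ℝ) := by exact_mod_cast hn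
    push_cast at this ⊢
    nlinarith
  have hk' : (3 : ℝ) ≤ k := by exact_mod_cast hk3
  push_cast at heq
  have hkey : Sr * n = 8 * (k : ℝ) ^ 2 :=
    mul_left_cancel₀ (by positivity : (64 : ℝ) * k ≠ 0) (by linear_combination heq)
  have hn0 : (0 : ℝ) ≤ n := Nat.cast_nonneg n
  have : Sr * n ≤ 2 * n := mul_le_mul_of_nonneg_right hbound hn0
  nlinarith

theorem Exc.false (E : Exc G p a Q) : False := by
  refine E.central_false ?_
  by_cases ha : 3 ≤ a
  · exact E.oddCentral_big ha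
  have ha2 : a = 2 := by have := E.ha; omega
  by_cases hO : OTriv Q
  · intro t ht ht1 x hxt hxo v _
    by_cases hx1 : x = 1
    · rw [hx1, one_mul, mul_one]
    · exact (E.klein_false ha2 hO ht ht1 hxt hxo hx1).elim
  · simp only [OTriv, not_forall] at hO
    obtain ⟨o, hoo, hoQ, ho1⟩ := hO
    exact E.oddCentral_of_fixed ha2 ho1 hoo hoQ

end Cfsg.Agent.Solv.Mixed
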