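import Cfsg.Agent.Lib.Solv.Coprime
import Cfsg.Agent.Lib.Fusion.NPC
import Cfsg.Prelude.Def_Transfer

/-! Nilpotent maximal subgroups. -/

set_option autoImplicit false
set_option linter.style.haveILetI false
open scoped Pointwise

namespace Cfsg.Agent.Solv

universe u
variable {G : Type u} [Group G]

theorem normalizer_eq_coatom {M W : Subgroup G} (hmax : IsCoatom M) (hcore : M.normalCore = ⊥)
    (hWM : W ≤ M) (hW : W ≠ ⊥) (hn : M ≤ Subgroup.normalizer (W : Set G)) :
    Subgroup.normalizer (W : Set G) = M := by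
  refine (hmax.le_iff.1 hn).resolve_left fun h => hW ?_
  haveI : W.Normal := Subgroup.normalizer_eq_top_iff.1 h
  rw [eq_bot_iff, ← hcore]
  exact Subgroup.normal_le_normalCore.2 hWM

theorem sylow_le_coatom [Finite G] {M : Subgroup G} (hmax : IsCoatom M) (hcore : M.normalCore = ⊥)
    (hnil : Group.IsNilpotent M) {p : ℕ} [hp : Fact p.Prime] (hpM : p ∣ Nat.card M) :
    ¬ p ∣ M.index ∧ ∃ P : Sylow p G, (P : Subgroup G) ≤ M ∧ (P : Subgroup G) ≠ ⊥ ∧
      M ≤ Subgroup.normalizer ((P : Subgroup G) : Set G) := by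
  obtain ⟨Q⟩ : Nonempty (Sylow p M) := inferInstance
  set P' := (Q : Subgroup M).map M.subtype with hP'
  have hQn : (Q : Subgroup M).Normal :=
    ((Group.isNilpotent_of_finite_tfae (G := M)).out 0 3
      (a := Group.IsNilpotent M)
      (b := ∀ (q : ℕ) (_ : Fact q.Prime) (R : Sylow q M), (R : Subgroup M).Normal)).1 hnil p hp Q
  have hPM : P' ≤ M := Subgroup.map_subtype_le _
  have hMN : M ≤ Subgroup.normalizer (P' : Set G) := fun m hm =>
    Subgroup.le_normalizer_map M.subtype ⟨⟨m, hm⟩, (Subgroup.normalizer_eq_top_iff.2 hQn).ge (Subgroup.mem_top _), rfl⟩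
  have hPne : P' ≠ ⊥ := by
    rw [hP', Ne, Subgroup.map_eq_bot_iff_of_injective _ M.subtype_injective,
      ← Subgroup.card_eq_one, Q.card_eq_multiplicity]
    exact (Nat.one_lt_pow (hp.out.factorization_pos_of_dvd Nat.card_pos.ne' hpM).ne' hp.out.one_lt).ne'
  have hN : Subgroup.normalizer (P' : Set G) = M := normalizer_eq_coatom hmax hcore hPM hPne hMN
  have hPp : IsPGroup p P' := Q.isPGroup'.map _
  obtain ⟨S, hS⟩ := hPp.exists_le_sylow
  have hSeq : (S : Subgroup G) = P' := by
    refine le_antisymm ?_ hS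
    by_contra hlt
    obtain ⟨x, hxS, hx, hxn⟩ : ∃ x, x ∈ (S : Subgroup G) ∧ x ∈ Subgroup.normalizer (P' : Set G) ∧ x ∉ P' := by
      haveI : Group.IsNilpotent (S : Subgroup G) := S.isPGroup'.isNilpotent
      have hne : P'.subgroupOf (S : Subgroup G) < ⊤ := by
        rw [lt_top_iff_ne_top, Ne, Subgroup.subgroupOf_eq_top]; exact hlt
      obtain ⟨s, hs1, hs2⟩ := SetLike.exists_of_lt
        (normalizerCondition_of_isNilpotent _ hne)
      refine ⟨s, s.2, Subgroup.mem_normalizer_iff.2 fun y => ?_, hs2⟩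
      rw [Subgroup.mem_normalizer_iff] at hs1
      refine ⟨fun hy => (hs1 ⟨y, hS hy⟩).1 hy, fun hy => ?_⟩
      have hyS : y ∈ (S : Subgroup G) := by
        have h := mul_mem (mul_mem ((S : Subgroup G).inv_mem s.2) (hS hy)) s.2
        simpa [mul_assoc] using h
      exact (hs1 ⟨y, hyS⟩).2 hy
    rw [hN] at hx
    have hR : IsPGroup p ((S : Subgroup G).subgroupOf M) :=
      S.isPGroup'.comap_of_injective _ M.subtype_injective
    have hQle : (Q : Subgroup M) ≤ (S : Subgroup G).subgroupOf M := fun q hq => hS ⟨q, hq, rfl⟩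
    have heq := Q.is_maximal' hR hQle
    have hxQ : (⟨x, hx⟩ : M) ∈ (Q : Subgroup M) := heq.le hxS
    exact hxn ⟨_, hxQ, rfl⟩
  refine ⟨fun hd => S.not_dvd_index ?_, S, hSeq ▸ hPM, hSeq ▸ hPne, hSeq ▸ hMN⟩
  rw [hSeq]
  exact dvd_trans hd (Subgroup.index_dvd_of_le hPM)

theorem solvable_of_forall_hnpc [Finite G] {M : Subgroup G} (hmax : IsCoatom M)
    (hnil : Group.IsNilpotent M)
    (hHall : ∀ p : ℕ, p.Prime → p ∣ Nat.card M → ¬ p ∣ M.index)
    (hnpc : ∀ p : ℕ, p.Prime → p ∣ Nat.card M → Cfsg.HasNormalPComplement p G) :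
    Group.IsSolvable G := by
  have hind : M.index ≠ 1 := fun h => hmax.1 (Subgroup.index_eq_one.1 h)
  obtain ⟨q, hq, hqi⟩ := Nat.exists_prime_and_dvd hind
  haveI := Fact.mk hq
  have hqM : ¬ q ∣ Nat.card M := fun h => hHall q hq h hqi
  set K : Subgroup G := ⨅ p : {p : ℕ // p.Prime ∧ p ∣ Nat.card M}, Cfsg.pResidual p.1 G with hK
  haveI hKn : K.Normal := Subgroup.normal_iInf_normal fun p => by
    haveI := Fact.mk p.2.1
    obtain ⟨P, N, hN, hC⟩ := hnpc _ p.2.1 p.2.2
    rw [← Fusion.eq_pResidual_of_isComplement' hC]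
    exact hN
  have hco : (Nat.card M).Coprime (Nat.card K) := by
    refine Nat.coprime_of_dvd fun p hp hpM hpK => ?_
    haveI := Fact.mk hp
    have h : K ≤ Cfsg.pResidual p G :=
      iInf_le (fun r : {p : ℕ // p.Prime ∧ p ∣ Nat.card M} => Cfsg.pResidual r.1 G) ⟨p, hp, hpM⟩
    exact hp.ne_one (Nat.eq_one_of_dvd_coprimes (Fusion.hnpc_iff.1 (hnpc p hp hpM))
      (hpK.trans (Subgroup.card_dvd_of_le h)) dvd_rfl)
  have hqK : q ∣ Nat.card K := by
    obtain ⟨x, hx⟩ := exists_prime_orderOf_dvd_card' q (hqi.trans M.index_dvd_card)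
    have hxK : x ∈ K := by
      rw [hK, Subgroup.mem_iInf]
      intro p
      refine Subgroup.subset_closure ?_
      show (orderOf x).Coprime p.1
      rw [hx]
      exact (Nat.coprime_primes hq p.2.1).2 fun h => hqM (h ▸ p.2.2)
    rw [← hx]
    exact Subgroup.orderOf_dvd_natCard _ hxK
  obtain ⟨Q, hQ, hMQ⟩ := exists_invariant_sylow (A := M) (K := K)
    (le_top.trans (Subgroup.normalizer_eq_top_iff.2 hKn).ge) hco
    (Or.inl (by haveI := hnil; exact IsNilpotent.to_isSolvable)) q
  obtain ⟨P, hP⟩ := hQ.exists_sylow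
  have hQp := hQ.isPGroup
  have hQM : ¬ Q ≤ M := fun h => by
    have h1 : Q ≠ ⊥ := by
      rw [← hP, Ne, Subgroup.map_eq_bot_iff_of_injective _ K.subtype_injective,
        ← Subgroup.card_eq_one, P.card_eq_multiplicity]
      exact (Nat.one_lt_pow (hq.factorization_pos_of_dvd Nat.card_pos.ne' hqK).ne' hq.one_lt).ne'
    obtain ⟨k, hk⟩ := IsPGroup.iff_card.1 hQp
    have h2 : Nat.card Q ∣ Nat.card M := Subgroup.card_dvd_of_le h
    rw [hk] at h2
    cases k with
    | zero => exact h1 (Subgroup.card_eq_one.1 (by rw [hk, pow_zero]))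
    | succ k => exact hqM ((dvd_pow_self q k.succ_ne_zero).trans h2)
  have htop : Q ⊔ M = ⊤ := hmax.2 _ (lt_of_le_of_ne le_sup_right fun h => hQM (le_sup_left.trans h.ge))
  haveI hQn : Q.Normal := by
    refine Subgroup.normalizer_eq_top_iff.1 (top_le_iff.1 ?_)
    rw [← htop]
    exact sup_le Subgroup.le_normalizer hMQ
  haveI : Group.IsSolvable M := by haveI := hnil; exact IsNilpotent.to_isSolvable
  haveI : Group.IsSolvable (G ⧸ Q) := by
    refine Group.isSolvable_of_surjective (f := (QuotientGroup.mk' Q).comp M.subtype) fun x => ?_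
    obtain ⟨g, rfl⟩ := QuotientGroup.mk'_surjective Q x
    have hg : g ∈ Q ⊔ M := htop.ge trivial
    rw [Subgroup.mem_sup_of_normal_left] at hg
    obtain ⟨a, ha, m, hm, rfl⟩ := hg
    exact ⟨⟨m, hm⟩, by simp [(QuotientGroup.eq_one_iff a).2 ha]⟩
  haveI : Group.IsSolvable Q := by
    haveI := hQp.isNilpotent
    exact IsNilpotent.to_isSolvable
  exact Group.isSolvable_of_ker_le_range Q.subtype (QuotientGroup.mk' Q)
    (by rw [QuotientGroup.ker_mk', Subgroup.range_subtype])

/-- Induction over the core of a nilpotent maximal subgroup. -/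
theorem solvable_of_nil_coatom (P : ∀ (H : Type u) [Group H], Prop)
    (hP : ∀ (H K : Type u) [Group H] [Group K] (f : H →* K), Function.Surjective f → P H → P K)
    (hstep : ∀ (G : Type u) [Group G] [Finite G] (M : Subgroup G), IsCoatom M → Group.IsNilpotent M →
      P M → M.normalCore = ⊥ → M ≠ ⊥ → Group.IsSolvable G)
    [Finite G] (M : Subgroup G) (hmax : IsCoatom M) (hnil : Group.IsNilpotent M) (hPM : P M) :
    Group.IsSolvable G := by
  by_cases hM : M = ⊥
  · subst hM
    have : Nontrivial G := by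
      by_contra h
      rw [not_nontrivial_iff_subsingleton] at h
      exact hmax.1 (Subsingleton.elim _ _)
    obtain ⟨g, hg⟩ := exists_ne (1 : G)
    have htop : Subgroup.zpowers g = ⊤ :=
      hmax.2 _ (bot_lt_iff_ne_bot.2 fun h => hg (Subgroup.zpowers_eq_bot.1 h))
    haveI : IsCyclic G := ⟨⟨g, fun x => htop.ge (Subgroup.mem_top x)⟩⟩
    letI : CommGroup G := IsCyclic.commGroup
    infer_instance
  set N := M.normalCore with hN
  haveI : N.Normal := M.normalCore_normal
  have hNM : N ≤ M := M.normalCore_le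
  set f := QuotientGroup.mk' N with hf
  have hker : f.ker ≤ M := by rw [hf, QuotientGroup.ker_mk']; exact hNM
  have hcm : (M.map f).comap f = M := Subgroup.comap_map_eq_self hker
  have hsurj : Function.Surjective f := QuotientGroup.mk'_surjective N
  haveI : Group.IsSolvable N := isSolvable_of_le hNM (by haveI := hnil; exact IsNilpotent.to_isSolvable)
  haveI : Group.IsSolvable (G ⧸ N) := by
    by_cases hMb : M.map f = ⊥
    · have hMN : M ≤ N := by
        rw [← QuotientGroup.ker_mk' N]
        exact (Subgroup.map_eq_bot_iff M).1 hMb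
      have : Nontrivial (G ⧸ N) := by
        by_contra h
        rw [not_nontrivial_iff_subsingleton] at h
        exact hmax.1 (top_le_iff.1 fun g _ =>
          hNM ((QuotientGroup.eq_one_iff g).1 (Subsingleton.elim ((g : G) : G ⧸ N) 1)))
      obtain ⟨g, hg⟩ := exists_ne (1 : G ⧸ N)
      have htop : Subgroup.zpowers g = ⊤ := by
        refine Subgroup.comap_injective hsurj ?_
        rw [Subgroup.comap_top]
        refine hmax.2 _ (lt_of_le_of_ne ?_ ?_)
        · intro m hm
          have h1 : f m = 1 := Subgroup.mem_bot.1 (hMb.le ⟨m, hm, rfl⟩)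
          show f m ∈ Subgroup.zpowers g
          rw [h1]; exact one_mem _
        · intro h
          obtain ⟨a, rfl⟩ := hsurj g
          refine hg (Subgroup.mem_bot.1 (hMb.le ⟨a, ?_, rfl⟩))
          exact h.ge (Subgroup.mem_zpowers (f a))
      haveI : IsCyclic (G ⧸ N) := ⟨⟨g, fun x => htop.ge (Subgroup.mem_top x)⟩⟩
      letI : CommGroup (G ⧸ N) := IsCyclic.commGroup
      infer_instance
    refine hstep (G ⧸ N) (M.map f) ⟨?_, ?_⟩ ?_ (hP _ _ (f.subgroupMap M) (f.subgroupMap_surjective M) hPM) ?_ hMb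
    · intro h
      apply hmax.1
      rw [← hcm, h, Subgroup.comap_top]
    · intro H hH
      refine Subgroup.comap_injective hsurj ?_
      rw [Subgroup.comap_top]
      refine hmax.2 _ ?_
      rw [← hcm]
      exact (Subgroup.comap_lt_comap_of_surjective hsurj).2 hH
    · haveI := hnil
      exact Group.nilpotent_of_surjective (f.subgroupMap M) (f.subgroupMap_surjective M)
    · rw [eq_bot_iff]
      intro x hx
      obtain ⟨g, rfl⟩ := hsurj x
      have h2 : g ∈ N := by
        haveI : ((M.map f).normalCore.comap f).Normal := Subgroup.Normal.comap inferInstance f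
        have hle : (M.map f).normalCore.comap f ≤ M := by
          conv_rhs => rw [← hcm]
          exact Subgroup.comap_mono (M.map f).normalCore_le
        exact (Subgroup.normal_le_normalCore.2 hle) hx
      exact Subgroup.mem_bot.2 ((QuotientGroup.eq_one_iff g).2 h2)
  exact Group.isSolvable_of_ker_le_range N.subtype (QuotientGroup.mk' N)
    (by rw [QuotientGroup.ker_mk', Subgroup.range_subtype])

end Cfsg.Agent.Solv
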