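import Mathlib
import Cfsg.Prelude.Def_Transfer
import Cfsg.Agent.Lib.Solv.EPPO
import Cfsg.Agent.Lib.Solv.FrobeniusGK
import Cfsg.Agent.Lib.Solv.Cores

/-! Nilpotent minimal covers and abelian non-normal Sylow subgroups. -/

set_option autoImplicit false
set_option linter.style.haveILetI false

open scoped Pointwise

namespace Cfsg.Agent.Solv.NilpotentCover

variable {G : Type*} [Group G]

/-- the three properties of a nilpotent minimal cover -/
def IsCover (𝓐 : Finset (Subgroup G)) : Prop :=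
  ((∀ A ∈ 𝓐, A ≠ ⊤) ∧ (∀ g : G, ∃ A ∈ 𝓐, g ∈ A)) ∧
    (∀ 𝓑 : Finset (Subgroup G), (∀ A ∈ 𝓑, A ≠ ⊤) ∧ (∀ g : G, ∃ A ∈ 𝓑, g ∈ A) → 𝓐.card ≤ 𝓑.card) ∧
    (∀ A ∈ 𝓐, Group.IsNilpotent ↥A)

theorem merge {𝓐 : Finset (Subgroup G)} (h : IsCover 𝓐) {M : Subgroup G} (hM : M ≠ ⊤) {A B : Subgroup G}
    (hA : A ∈ 𝓐) (hB : B ∈ 𝓐) (hAM : A ≤ M) (hBM : B ≤ M) : A = B := by
  classical
  by_contra hne
  have h1 := h.2.1 (insert M ((𝓐.erase A).erase B)) ⟨fun C hC => by
      rcases Finset.mem_insert.1 hC with rfl | hC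
      · exact hM
      · exact h.1.1 C (Finset.mem_of_mem_erase (Finset.mem_of_mem_erase hC)),
    fun g => by
      obtain ⟨C, hC, hg⟩ := h.1.2 g
      by_cases e1 : C = A
      · exact ⟨M, Finset.mem_insert_self _ _, hAM (e1 ▸ hg)⟩
      by_cases e2 : C = B
      · exact ⟨M, Finset.mem_insert_self _ _, hBM (e2 ▸ hg)⟩
      exact ⟨C, Finset.mem_insert_of_mem (Finset.mem_erase.2 ⟨e2, Finset.mem_erase.2 ⟨e1, hC⟩⟩), hg⟩⟩
  have h2 := Finset.card_insert_le M ((𝓐.erase A).erase B)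
  have h3 : B ∈ 𝓐.erase A := Finset.mem_erase.2 ⟨Ne.symm hne, hB⟩
  rw [Finset.card_erase_of_mem h3, Finset.card_erase_of_mem hA] at h2
  have h4 : 2 ≤ 𝓐.card := by
    have := Finset.one_lt_card.2 ⟨A, hA, B, hB, hne⟩
    omega
  omega

theorem centralizer_ne_top (hZ : Subgroup.center G = ⊥) {w : G} (hw : w ≠ 1) :
    Subgroup.centralizer ({w} : Set G) ≠ ⊤ := by
  intro e
  refine hw (Subgroup.mem_bot.1 ?_)
  rw [← hZ, Subgroup.mem_center_iff]
  intro g
  exact (Subgroup.mem_centralizer_iff.1 (e.ge (Subgroup.mem_top g)) w rfl).symm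

variable [Finite G] {p : ℕ} [Fact p.Prime]

theorem commute_of_mem {A : Subgroup G} (hA : Group.IsNilpotent A) (P : Sylow p G)
    (hab : IsMulCommutative (P : Subgroup G)) {w : G} (hw : w ∈ A) (hwp : ∃ k : ℕ, orderOf w = p ^ k)
    {a : G} (ha : a ∈ A) : Commute a w := by
  obtain ⟨S⟩ : Nonempty (Sylow p A) := inferInstance
  haveI hSn : (S : Subgroup A).Normal :=
    ((Group.isNilpotent_of_finite_tfae (G := A)).out 0 3 (a := Group.IsNilpotent A)
      (b := ∀ (q : ℕ) (_ : Fact q.Prime) (R : Sylow q A), (R : Subgroup A).Normal)).1 hA p ‹_› S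
  obtain ⟨k, hk⟩ := hwp
  have hwS : (⟨w, hw⟩ : A) ∈ (S : Subgroup A) :=
    EPPO.pElem_mem S.not_dvd_index (k := k) (by rw [← hk, ← Subgroup.orderOf_coe])
  obtain ⟨Q, hQ⟩ := (S.isPGroup'.map A.subtype).exists_le_sylow
  obtain ⟨g, hg⟩ := MulAction.exists_smul_eq G P Q
  have hQab : ∀ x ∈ (Q : Subgroup G), ∀ y ∈ (Q : Subgroup G), Commute x y := by
    intro x hx y hy
    rw [← hg, Sylow.coe_subgroup_smul, mem_conj_smul] at hx hy
    have h1 : Commute (g⁻¹ * x * g) (g⁻¹ * y * g) :=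
      congrArg Subtype.val (hab.is_comm.comm (⟨_, hx⟩ : (P : Subgroup G)) ⟨_, hy⟩)
    have h2 := h1.map (MulAut.conj g)
    simp only [MulAut.conj_apply] at h2
    have ex : g * (g⁻¹ * x * g) * g⁻¹ = x := by group
    have ey : g * (g⁻¹ * y * g) * g⁻¹ = y := by group
    rwa [ex, ey] at h2
  have hall : (Subgroup.centralizer ({⟨w, hw⟩} : Set A)) = ⊤ := by
    refine eq_top_of_forall_sylow_le _ fun q hq => ?_
    obtain ⟨R⟩ : Nonempty (Sylow q A) := inferInstance
    refine ⟨R, fun x hx => ?_⟩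
    rw [Subgroup.mem_centralizer_iff]
    intro y hy
    rw [Set.mem_singleton_iff.1 hy]
    by_cases hqp : q = p
    · subst hqp
      have hRS : (R : Subgroup A) = S := by
        obtain ⟨c, hc⟩ := MulAction.exists_smul_eq A S R
        rw [← hc, Sylow.coe_subgroup_smul]
        exact conj_smul_of_mem_normalizer ((Subgroup.normalizer_eq_top_iff.2 hSn).ge (Subgroup.mem_top c))
      apply Subtype.ext
      exact (hQab w (hQ ⟨_, hwS, rfl⟩) x (hQ ⟨_, hRS ▸ hx, rfl⟩)).eq
    · exact (Subgroup.mem_centralizer_iff.1 (Perm.commute_of_le_nilpotent (H := (⊤ : Subgroup A))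
        (haveI := hA; inferInstance) (Ne.symm hqp) S.isPGroup' R.isPGroup' le_top le_top hwS) x hx).symm
  have h := Subgroup.mem_centralizer_iff.1 (hall.ge (Subgroup.mem_top (⟨a, ha⟩ : A))) ⟨w, hw⟩ rfl
  exact (congrArg Subtype.val h).symm

theorem unique_member {𝓐 : Finset (Subgroup G)} (h : IsCover 𝓐) (hZ : Subgroup.center G = ⊥) (P : Sylow p G)
    (hab : IsMulCommutative (P : Subgroup G)) {w : G} (hw : w ≠ 1) (hwp : ∃ k : ℕ, orderOf w = p ^ k)
    {A B : Subgroup G} (hA : A ∈ 𝓐) (hB : B ∈ 𝓐) (hwA : w ∈ A) (hwB : w ∈ B) : A = B := by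
  have key : ∀ C ∈ 𝓐, w ∈ C → C ≤ Subgroup.centralizer ({w} : Set G) := fun C hC hwC c hc => by
    rw [Subgroup.mem_centralizer_iff]
    intro x hx
    rw [Set.mem_singleton_iff.1 hx]
    exact (commute_of_mem (h.2.2 C hC) P hab hwC hwp hc).eq.symm
  exact merge h (centralizer_ne_top hZ hw) hA hB (key A hA hwA) (key B hB hwB)

theorem exists_member {𝓐 : Finset (Subgroup G)} (h : IsCover 𝓐) (hZ : Subgroup.center G = ⊥) (P : Sylow p G)
    (hab : IsMulCommutative (P : Subgroup G)) (hPb : (P : Subgroup G) ≠ ⊥)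
    (hkind : IsCyclic (P : Subgroup G) ∨ ∃ x ∈ (P : Subgroup G), x ^ p ≠ 1) :
    ∃ A ∈ 𝓐, Subgroup.centralizer ((P : Subgroup G) : Set G) = A ∧ (P : Subgroup G) ≤ A := by
  have hp : p.Prime := Fact.out
  have hpel : ∀ u ∈ (P : Subgroup G), ∃ k : ℕ, orderOf u = p ^ k := fun u hu => by
    obtain ⟨k, hk⟩ := IsPGroup.iff_orderOf.1 P.isPGroup' ⟨u, hu⟩
    exact ⟨k, by rw [← hk, ← Subgroup.orderOf_coe]⟩
  have hPcomm : ∀ a ∈ (P : Subgroup G), ∀ b ∈ (P : Subgroup G), Commute a b := fun a ha b hb =>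
    congrArg Subtype.val (hab.is_comm.comm (⟨a, ha⟩ : (P : Subgroup G)) ⟨b, hb⟩)
  obtain ⟨A, hA, w, hw1, hwP, hwA, hPA⟩ : ∃ A ∈ 𝓐, ∃ w : G, w ≠ 1 ∧ w ∈ (P : Subgroup G) ∧ w ∈ A ∧
      (P : Subgroup G) ≤ A := by
    rcases hkind with hc | ⟨x, hx, hxp⟩
    · obtain ⟨⟨g, hg⟩, hgen⟩ := hc.exists_generator
      obtain ⟨A, hA, hgA⟩ := h.1.2 g
      refine ⟨A, hA, g, ?_, hg, hgA, fun u hu => ?_⟩
      · intro e
        apply hPb
        rw [eq_bot_iff]
        intro u hu
        obtain ⟨j, hj⟩ := Subgroup.mem_zpowers_iff.1 (hgen ⟨u, hu⟩)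
        have : g ^ j = u := congrArg Subtype.val hj
        rw [← this, e, one_zpow]; exact one_mem _
      · obtain ⟨j, hj⟩ := Subgroup.mem_zpowers_iff.1 (hgen ⟨u, hu⟩)
        have : g ^ j = u := congrArg Subtype.val hj
        rw [← this]; exact zpow_mem hgA j
    · obtain ⟨A, hA, hxA⟩ := h.1.2 x
      have hom : ∀ u ∈ (P : Subgroup G), u ^ p = 1 → ∀ y ∈ (P : Subgroup G), y ^ p ≠ 1 → ∀ B ∈ 𝓐, y ∈ B → u ∈ B := by
        intro u hu hup y hy hyp B hB hyB
        obtain ⟨B', hB', huy⟩ := h.1.2 (u * y)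
        have e : (u * y) ^ p = y ^ p := by rw [(hPcomm u hu y hy).mul_pow, hup, one_mul]
        have hBB : B' = B := unique_member h hZ P hab hyp (hpel _ (pow_mem hy p)) hB' hB
          (e ▸ pow_mem huy p) (pow_mem hyB p)
        subst hBB
        exact (mul_mem_cancel_right hyB).1 huy
      refine ⟨A, hA, x ^ p, hxp, pow_mem hx p, pow_mem hxA p, fun u hu => ?_⟩
      by_cases hup : u ^ p = 1
      · exact hom u hu hup x hx hxp A hA hxA
      obtain ⟨B, hB, huB⟩ := h.1.2 u
      obtain ⟨k, hk⟩ := hpel x hx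
      rcases k with _ | k
      · rw [pow_zero, orderOf_eq_one_iff] at hk
        exact absurd (by rw [hk, one_pow]) hxp
      set t := x ^ p ^ k with ht
      have htp : t ^ p = 1 := by rw [ht, ← pow_mul, ← pow_succ, ← hk, pow_orderOf_eq_one]
      have ht1 : t ≠ 1 := by
        intro e
        have hd := orderOf_dvd_of_pow_eq_one (ht ▸ e)
        rw [hk] at hd
        exact absurd ((Nat.pow_dvd_pow_iff_le_right hp.one_lt).1 hd) (by omega)
      have htA : t ∈ A := pow_mem hxA _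
      have htB : t ∈ B := hom t (pow_mem hx _) htp u hu hup B hB huB
      rw [unique_member h hZ P hab ht1 (hpel _ (pow_mem hx _)) hA hB htA htB]
      exact huB
  refine ⟨A, hA, le_antisymm ?_ ?_, hPA⟩
  · intro c hc
    have hdec : ∀ z : G, z ∈ Subgroup.centralizer ((P : Subgroup G) : Set G) → (orderOf z).Coprime p → z ∈ A := by
      intro z hz hzp
      obtain ⟨B, hB, hwz⟩ := h.1.2 (w * z)
      have hc' : Commute w z := Subgroup.mem_centralizer_iff.1 hz w hwP
      obtain ⟨k, hk⟩ := hpel w hwP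
      have hco : (orderOf z).Coprime (orderOf w) := hk ▸ hzp.pow_right k
      obtain ⟨m, hm⟩ := exists_pow_eq_self_of_coprime (x := w) hco
      have hwB : w ∈ B := by
        have : ((w * z) ^ orderOf z) ^ m = w := by rw [hc'.mul_pow, pow_orderOf_eq_one z, mul_one, hm]
        rw [← this]; exact pow_mem (pow_mem hwz _) _
      have hBA : B = A := unique_member h hZ P hab hw1 (hpel w hwP) hB hA hwB hwA
      subst hBA
      exact (mul_mem_cancel_left hwB).1 hwz
    set C := Subgroup.centralizer ((P : Subgroup G) : Set G)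
    have htop : A.subgroupOf C = ⊤ := eq_top_of_forall_sylow_le _ fun q hq => by
      by_cases hqp : q = p
      · subst hqp
        have hle : (P : Subgroup G) ≤ C := fun a ha => Subgroup.mem_centralizer_iff.2 fun b hb => (hPcomm b hb a ha).eq
        exact ⟨P.subtype hle, fun a ha => hPA ha⟩
      · obtain ⟨R⟩ : Nonempty (Sylow q C) := inferInstance
        refine ⟨R, fun z hz => hdec z z.2 ?_⟩
        obtain ⟨k, hk⟩ := IsPGroup.iff_orderOf.1 R.isPGroup' ⟨z, hz⟩
        rw [← Subgroup.orderOf_coe, ← Subgroup.orderOf_coe] at hk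
        rw [hk]
        exact ((Nat.coprime_primes hq.out hp).2 hqp).pow_left k
    exact Subgroup.subgroupOf_eq_top.1 htop hc
  · intro a ha
    rw [Subgroup.mem_centralizer_iff]
    intro u hu
    exact (commute_of_mem (h.2.2 A hA) P hab (hPA hu) (hpel u hu) ha).eq.symm

/-- the structure at a non-normal abelian Sylow subgroup -/
theorem main {𝓐 : Finset (Subgroup G)} (h : IsCover 𝓐) (hZ : Subgroup.center G = ⊥) (P : Sylow p G)
    (hab : IsMulCommutative (P : Subgroup G)) (hnn : ¬ (P : Subgroup G).Normal)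
    (hkind : IsCyclic (P : Subgroup G) ∨ ∃ x ∈ (P : Subgroup G), x ^ p ≠ 1) :
    ∃ A ∈ 𝓐, Subgroup.centralizer ((P : Subgroup G) : Set G) = A ∧ (P : Subgroup G) ≤ A ∧
      IsCoatom (Subgroup.normalizer ((P : Subgroup G) : Set G)) ∧
      (∀ M : Subgroup G, IsCoatom M → A ≤ M → M = Subgroup.normalizer ((P : Subgroup G) : Set G)) ∧
      (∀ g : G, g ∉ Subgroup.normalizer ((P : Subgroup G) : Set G) →
        ∀ t : G, orderOf t = p → t ∈ Subgroup.normalizer ((P : Subgroup G) : Set G) →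
          g⁻¹ * t * g ∈ Subgroup.normalizer ((P : Subgroup G) : Set G) → False) := by
  have hPb : (P : Subgroup G) ≠ ⊥ := fun e => hnn (e ▸ inferInstance)
  obtain ⟨A, hA, hCA, hPA⟩ := exists_member h hZ P hab hPb hkind
  set N := Subgroup.normalizer ((P : Subgroup G) : Set G) with hN
  have hNt : N ≠ ⊤ := fun e => hnn (Subgroup.normalizer_eq_top_iff.1 e)
  have hAN : A ≤ N := hCA ▸ Subgroup.centralizer_le_normalizer _
  have hconj : ∀ g : G, MulAut.conj g • A ∈ 𝓐 ∧ (MulAut.conj g • A = A → g ∈ N) := by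
    intro g
    have hab' : IsMulCommutative ((g • P : Sylow p G) : Subgroup G) := ⟨⟨fun a b => Subtype.ext (by
      have ha := a.2
      have hb := b.2
      simp only [Sylow.coe_subgroup_smul, mem_conj_smul] at ha hb
      have h1 : g⁻¹ * a * g * (g⁻¹ * b * g) = g⁻¹ * b * g * (g⁻¹ * a * g) :=
        congrArg Subtype.val (hab.is_comm.comm (⟨_, ha⟩ : (P : Subgroup G)) ⟨_, hb⟩)
      calc (a : G) * b = g * (g⁻¹ * a * g * (g⁻¹ * b * g)) * g⁻¹ := by group
        _ = b * a := by rw [h1]; group)⟩⟩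
    have hkind' : IsCyclic ((g • P : Sylow p G) : Subgroup G) ∨ ∃ x ∈ ((g • P : Sylow p G) : Subgroup G), x ^ p ≠ 1 := by
      rcases hkind with hc | ⟨x, hx, hxp⟩
      · left
        exact isCyclic_of_surjective (Sylow.equiv P (g • P)) (Sylow.equiv P (g • P)).surjective
      · right
        refine ⟨g * x * g⁻¹, ?_, fun e => hxp ?_⟩
        · rw [Sylow.coe_subgroup_smul, mem_conj_smul]; simpa [mul_assoc] using hx
        · rw [conj_pow] at e; exact conj_eq_one_iff.1 e
    have hPb' : ((g • P : Sylow p G) : Subgroup G) ≠ ⊥ := by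
      intro e
      apply hPb
      rw [eq_bot_iff]
      intro x hx
      have : g * x * g⁻¹ ∈ ((g • P : Sylow p G) : Subgroup G) := by
        rw [Sylow.coe_subgroup_smul, mem_conj_smul]; simpa [mul_assoc] using hx
      rw [e, Subgroup.mem_bot, conj_eq_one_iff] at this
      exact Subgroup.mem_bot.2 this
    obtain ⟨B, hB, hCB, -⟩ := exists_member h hZ (g • P) hab' hPb' hkind'
    have hAB : MulAut.conj g • A = B := by
      rw [← hCA, ← hCB, Sylow.coe_subgroup_smul]
      ext y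
      simp only [mem_conj_smul, Subgroup.mem_centralizer_iff, SetLike.mem_coe]
      constructor
      · intro h1 x hx
        have := h1 _ hx
        calc x * y = g * (g⁻¹ * x * g * (g⁻¹ * y * g)) * g⁻¹ := by group
          _ = y * x := by rw [this]; group
      · intro h1 x hx
        have := h1 (g * x * g⁻¹) (by simpa [mul_assoc] using hx)
        calc x * (g⁻¹ * y * g) = g⁻¹ * (g * x * g⁻¹ * y) * g := by group
          _ = g⁻¹ * y * g * x := by rw [this]; group
    refine ⟨hAB ▸ hB, fun e => ?_⟩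
    refine mem_normalizer_of_conj_smul (Subgroup.eq_of_le_of_card_ge ?_ (by rw [card_conj_smul]))
    intro y hy
    have hyA : y ∈ A := by
      rw [← e, mem_conj_smul]
      exact hPA (mem_conj_smul.1 hy)
    -- `y` is a `p`-element of the nilpotent group `A`
    obtain ⟨k, hk⟩ := IsPGroup.iff_orderOf.1 P.isPGroup' ⟨_, mem_conj_smul.1 hy⟩
    haveI : ((P : Subgroup G).subgroupOf A).Normal :=
      Subgroup.normal_subgroupOf_of_le_normalizer hAN
    have hidx : ¬ p ∣ ((P : Subgroup G).subgroupOf A).index := by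
      intro hd
      exact P.not_dvd_index (hd.trans (Subgroup.relIndex_dvd_index_of_le hPA |> fun h => h))
    have hyo : orderOf (⟨y, hyA⟩ : A) = p ^ k := by
      rw [← hk, ← Subgroup.orderOf_coe, ← Subgroup.orderOf_coe]
      have e := MulEquiv.orderOf_eq (MulAut.conj g⁻¹) y
      rw [MulAut.conj_apply, inv_inv] at e
      exact e.symm
    exact Subgroup.mem_subgroupOf.1 (EPPO.pElem_mem hidx hyo)
  have huniq : ∀ M : Subgroup G, IsCoatom M → A ≤ M → M = N := by
    intro M hM hAM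
    have hMN : M ≤ N := fun g hg => (hconj g).2 (merge h hM.1 (hconj g).1 hA (fun y hy => by
      have h1 := hAM (mem_conj_smul.1 hy)
      have e : y = g * (g⁻¹ * y * g) * g⁻¹ := by group
      rw [e]; exact mul_mem (mul_mem hg h1) (inv_mem hg)) hAM)
    exact ((hM.le_iff.1 hMN).resolve_left hNt).symm
  refine ⟨A, hA, hCA, hPA, ?_, huniq, ?_⟩
  · obtain ⟨M, hM, hNM⟩ := (eq_top_or_exists_le_coatom N).resolve_left hNt
    rwa [huniq M hM (hAN.trans hNM)] at hM
  · intro g hg t ht htN htg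
    haveI : ((P : Subgroup G).subgroupOf N).Normal := Subgroup.normal_in_normalizer
    have hidx : ¬ p ∣ ((P : Subgroup G).subgroupOf N).index := fun hd =>
      P.not_dvd_index (hd.trans (Subgroup.relIndex_dvd_index_of_le Subgroup.le_normalizer))
    have hmem : ∀ u ∈ N, orderOf u = p → u ∈ (P : Subgroup G) := fun u hu huo =>
      Subgroup.mem_subgroupOf.1 (EPPO.pElem_mem (y := (⟨u, hu⟩ : N)) hidx (k := 1)
        (by rw [pow_one, ← huo, ← Subgroup.orderOf_coe]))
    have ht1 : t ≠ 1 := fun e => by rw [e, orderOf_one] at ht; exact (Fact.out : p.Prime).ne_one ht.symm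
    have htA : t ∈ A := hPA (hmem t htN ht)
    have e := MulEquiv.orderOf_eq (MulAut.conj g⁻¹) t
    rw [MulAut.conj_apply, inv_inv] at e
    have htgA : t ∈ MulAut.conj g • A := mem_conj_smul.2 (hPA (hmem _ htg (e.trans ht)))
    exact hg ((hconj g).2 (unique_member h hZ P hab ht1 ⟨1, by rw [ht, pow_one]⟩ (hconj g).1 hA htgA htA))

end Cfsg.Agent.Solv.NilpotentCover
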