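import Mathlib
import Cfsg.Agent.Lib.Solv.NilpotentPermExtremal

/-!
Sylow 2-subgroups of symmetric and alternating groups as extremal nilpotent groups.
-/

set_option autoImplicit false

namespace Cfsg.Agent.Solv.NilPerm

open Subgroup

theorem card_perm_sylow {β : Type} [Fintype β] [DecidableEq β] (P : Sylow 2 (Equiv.Perm β)) :
    Nat.card ↥(P : Subgroup (Equiv.Perm β)) = 2 ^ V (Nat.card β) := by
  haveI : Fact (Nat.Prime 2) := ⟨Nat.prime_two⟩
  rw [Sylow.card_eq_multiplicity, Nat.card_perm, Nat.factorization_def _ Nat.prime_two]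
  rfl

theorem card_alt_sylow {β : Type} [Fintype β] [DecidableEq β] (hb : 2 ≤ Nat.card β)
    (P : Sylow 2 ↥(alternatingGroup β)) :
    2 * Nat.card ↥(P : Subgroup ↥(alternatingGroup β)) = 2 ^ V (Nat.card β) := by
  haveI : Fact (Nat.Prime 2) := ⟨Nat.prime_two⟩
  haveI : Nontrivial β := Finite.one_lt_card_iff_nontrivial.1 (by omega)
  have h : 2 * Nat.card ↥(alternatingGroup β) = (Nat.card β).factorial := by
    rw [Nat.card_eq_fintype_card, two_mul_card_alternatingGroup, ← Nat.card_eq_fintype_card, Nat.card_perm]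
  rw [Sylow.card_eq_multiplicity, ← pow_succ', V, ← h, ← Nat.factorization_def _ Nat.prime_two,
    Nat.factorization_mul (by norm_num) Nat.card_pos.ne', Finsupp.add_apply, Nat.Prime.factorization_self Nat.prime_two,
    add_comm]

theorem sym_sylow_conj {β : Type} [Fintype β] [DecidableEq β] (R R' : Subgroup (Equiv.Perm β))
    (hR : Nat.card ↥R = 2 ^ V (Nat.card β)) (hR' : Nat.card ↥R' = 2 ^ V (Nat.card β)) :
    ∃ c : Equiv.Perm β, R.map (MulAut.conj c).toMonoidHom = R' := by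
  haveI : Fact (Nat.Prime 2) := ⟨Nat.prime_two⟩
  have hh : ∀ Q : Subgroup (Equiv.Perm β), Nat.card ↥Q = 2 ^ V (Nat.card β) →
      Nat.card ↥Q = 2 ^ (Nat.card (Equiv.Perm β)).factorization 2 := fun Q hQ => by
    rw [hQ, Nat.card_perm, Nat.factorization_def _ Nat.prime_two]
    rfl
  obtain ⟨c, hc⟩ := MulAction.exists_smul_eq (Equiv.Perm β) (Sylow.ofCard R (hh R hR)) (Sylow.ofCard R' (hh R' hR'))
  exact ⟨c, congrArg (fun Q : Sylow 2 (Equiv.Perm β) => (Q : Subgroup (Equiv.Perm β))) hc⟩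

theorem alt_sylow_conj {β : Type} [Fintype β] [DecidableEq β] (hb : 2 ≤ Nat.card β) (R R' : Subgroup (Equiv.Perm β))
    (hRs : ∀ g ∈ R, Equiv.Perm.sign g = 1) (hRs' : ∀ g ∈ R', Equiv.Perm.sign g = 1)
    (hR : 2 * Nat.card ↥R = 2 ^ V (Nat.card β)) (hR' : 2 * Nat.card ↥R' = 2 ^ V (Nat.card β)) :
    ∃ c : Equiv.Perm β, R.map (MulAut.conj c).toMonoidHom = R' := by
  haveI : Fact (Nat.Prime 2) := ⟨Nat.prime_two⟩
  have hh : ∀ Q : Subgroup (Equiv.Perm β), (∀ g ∈ Q, Equiv.Perm.sign g = 1) → 2 * Nat.card ↥Q = 2 ^ V (Nat.card β) →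
      Nat.card ↥(Q.subgroupOf (alternatingGroup β)) = 2 ^ (Nat.card ↥(alternatingGroup β)).factorization 2 := by
    intro Q hQs hQ
    rw [Solv.card_subgroupOf (fun g hg => Equiv.Perm.mem_alternatingGroup.2 (hQs g hg)),
      ← Sylow.card_eq_multiplicity (default : Sylow 2 ↥(alternatingGroup β))]
    exact Nat.eq_of_mul_eq_mul_left two_pos (hQ.trans (card_alt_sylow hb _).symm)
  obtain ⟨c, hc⟩ := MulAction.exists_smul_eq ↥(alternatingGroup β) (Sylow.ofCard _ (hh R hRs hR))
    (Sylow.ofCard _ (hh R' hRs' hR'))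
  refine ⟨c, ?_⟩
  have h := congrArg (fun Q : Sylow 2 ↥(alternatingGroup β) =>
    (Q : Subgroup ↥(alternatingGroup β)).map (alternatingGroup β).subtype) hc
  rw [show ((Sylow.ofCard _ (hh R' hRs' hR') : Sylow 2 ↥(alternatingGroup β)) :
      Subgroup ↥(alternatingGroup β)) = R'.subgroupOf (alternatingGroup β) from rfl,
    Subgroup.subgroupOf_map_subtype, inf_eq_left.2 (fun g hg => Equiv.Perm.mem_alternatingGroup.2 (hRs' g hg))] at h
  rw [← h]
  show _ = ((R.subgroupOf (alternatingGroup β)).map (MulAut.conj c).toMonoidHom).map (alternatingGroup β).subtype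
  rw [Subgroup.map_map]
  have e : R = (R.subgroupOf (alternatingGroup β)).map (alternatingGroup β).subtype :=
    ((Subgroup.subgroupOf_map_subtype R _).trans
      (inf_eq_left.2 fun g hg => Equiv.Perm.mem_alternatingGroup.2 (hRs g hg))).symm
  conv_lhs => rw [e, Subgroup.map_map]
  congr 1

/-- The last `m` points. -/
def tail (m : ℕ) : Fin m ≃ {x : Fin (m + 3) // ¬ (x : ℕ) < 3} where
  toFun k := ⟨⟨k + 3, by omega⟩, by simp⟩
  invFun x := ⟨(x.1 : ℕ) - 3, by have := x.2; have := x.1.2; omega⟩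
  left_inv k := by ext; simp
  right_inv x := by
    apply Subtype.ext; ext
    have := x.2
    show (x.1 : ℕ) - 3 + 3 = x.1
    omega

theorem card_head (m : ℕ) : Nat.card {x : Fin (m + 3) // (x : ℕ) < 3} = 3 := by
  have h := card_compl (fun x : Fin (m + 3) => (x : ℕ) < 3)
  rw [← Nat.card_congr (tail m), Nat.card_fin, Nat.card_fin] at h
  omega

end Cfsg.Agent.Solv.NilPerm
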