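import Cfsg.Agent.Lib.Char.KerPPrime
import Cfsg.Agent.Lib.Char.Codegree
import Cfsg.Agent.Lib.LocalEven.ResidualOf

/-!
# The squares of the degrees prime to `p` and the Sylow normalizer
-/

set_option autoImplicit false

open scoped commutatorElement

namespace Cfsg.Agent.Solv.OddSquares

open Cfsg Cfsg.Agent.Char
open scoped ComplexConjugate

universe u

variable {G : Type u} [Group G] [Fintype G] {p : ℕ} [Fact p.Prime]

theorem deg_cast (χ : IrrCharacter G) : (χ : G → ℂ) 1 = (charDegree (χ : G → ℂ) : ℂ) := by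
  rw [charDegree_eq_deg]; exact char_one_eq_deg (irr_isCharacter χ.2)

/-- A normal subgroup is cut out by the characters that are trivial on it. -/
theorem mem_of_forall (V : Subgroup G) [V.Normal] {x : G}
    (h : ∀ χ : IrrCharacter G, (∀ n ∈ V, (χ : G → ℂ) n = (χ : G → ℂ) 1) → (χ : G → ℂ) x = (χ : G → ℂ) 1) :
    x ∈ V := by
  classical
  haveI := Fintype.ofFinite (G ⧸ V)
  by_contra hx
  have hne : (QuotientGroup.mk x : G ⧸ V) ≠ 1 := fun h' => hx ((QuotientGroup.eq_one_iff x).1 h')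
  have e1 := regular_sum (G := G ⧸ V) (QuotientGroup.mk x)
  rw [if_neg hne] at e1
  have e2 : ∑ χ : IrrCharacter (G ⧸ V), (χ : G ⧸ V → ℂ) 1 * (χ : G ⧸ V → ℂ) (QuotientGroup.mk x) =
      ∑ χ : IrrCharacter (G ⧸ V), (χ : G ⧸ V → ℂ) 1 ^ 2 := by
    refine Finset.sum_congr rfl fun χ _ => ?_
    have := h (inflateEquiv V χ).1 (inflateEquiv V χ).2
    rw [inflateEquiv_apply, inflateEquiv_apply, QuotientGroup.mk_one] at this
    rw [this, pow_two]
  rw [e1, sum_sq_deg] at e2
  exact Nat.card_pos.ne' (Nat.cast_eq_zero.1 e2.symm)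

/-- The subgroup on which a character takes the value of the degree. -/
def kerSub (χ : IrrCharacter G) : Subgroup G where
  carrier := {g | (χ : G → ℂ) g = (χ : G → ℂ) 1}
  mul_mem' := fun {a b} ha hb => by
    show (χ : G → ℂ) (a * b) = _
    rw [char_mul_of_ker (irr_isCharacter χ.2) ha]
    exact hb
  one_mem' := rfl
  inv_mem' := fun {a} ha => by
    show (χ : G → ℂ) a⁻¹ = _
    rw [char_inv (irr_isCharacter χ.2), ha, conj_char_one (irr_isCharacter χ.2)]

theorem kerSub_normal (χ : IrrCharacter G) : (kerSub χ).Normal :=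
  ⟨fun n hn g => (isClassFunction_character (irr_isCharacter χ.2) n g).trans hn⟩

variable (P : Sylow p G)

theorem le_norm : (P : Subgroup G) ≤ Subgroup.normalizer ((P : Subgroup G) : Set G) :=
  Subgroup.le_normalizer

theorem norm_index : ¬ p ∣ (Subgroup.normalizer ((P : Subgroup G) : Set G)).index := fun h =>
  P.not_dvd_index (h.trans (Subgroup.index_dvd_of_le (le_norm P)))

theorem derived_le : ⁅(P : Subgroup G), (P : Subgroup G)⁆ ≤ Subgroup.normalizer ((P : Subgroup G) : Set G) :=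
  (Subgroup.commutator_le_self _).trans (le_norm P)

theorem derived_eq : ⁅(P : Subgroup G), (P : Subgroup G)⁆ = (commutator P).map (P : Subgroup G).subtype := by
  rw [commutator_def, Subgroup.map_commutator, ← MonoidHom.range_eq_map, Subgroup.range_subtype]

variable {N : Subgroup G}

theorem p_normal (hN : N = Subgroup.normalizer ((P : Subgroup G) : Set G)) :
    ((P : Subgroup G).subgroupOf N).Normal := by
  subst hN; infer_instance

theorem d_normal (hN : N = Subgroup.normalizer ((P : Subgroup G) : Set G)) :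
    (⁅(P : Subgroup G), (P : Subgroup G)⁆.subgroupOf N).Normal := by
  haveI := p_normal P hN
  have : ⁅(P : Subgroup G).subgroupOf N, (P : Subgroup G).subgroupOf N⁆ =
      ⁅(P : Subgroup G), (P : Subgroup G)⁆.subgroupOf N := by
    refine Subgroup.map_injective N.subtype_injective ?_
    rw [Subgroup.map_commutator, Subgroup.map_subgroupOf_eq_of_le (hN ▸ le_norm P),
      Subgroup.map_subgroupOf_eq_of_le (hN ▸ derived_le P)]
  rw [← this]
  infer_instance

/-- Degree prime to `p` on the normalizer means trivial on the derived subgroup of `P`. -/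
theorem pPrime_iff (hN : N = Subgroup.normalizer ((P : Subgroup G) : Set G)) [Fintype N] (ψ : IrrCharacter N) :
    ¬ p ∣ charDegree (ψ : N → ℂ) ↔
      ∀ n ∈ ⁅(P : Subgroup G), (P : Subgroup G)⁆.subgroupOf N, (ψ : N → ℂ) n = (ψ : N → ℂ) 1 := by
  classical
  haveI := p_normal P hN
  haveI := d_normal P hN
  set P₁ := (P : Subgroup G).subgroupOf N with hP₁
  set D := ⁅(P : Subgroup G), (P : Subgroup G)⁆.subgroupOf N with hD
  have hP₁p : IsPGroup p P₁ :=
    P.isPGroup'.of_equiv (Subgroup.subgroupOfEquivOfLe (hN ▸ le_norm P : (P : Subgroup G) ≤ N)).symm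
  constructor
  · intro hd n hn
    haveI := Fintype.ofFinite P₁
    obtain ⟨l, hl⟩ := exists_linear_constituent P₁ hP₁p hd
    let θ : IrrCharacter P₁ := ⟨fun u => (l u : ℂ), isIrrCharacter_linear l⟩
    have hcl := clifford_restrict (N := P₁) ψ θ hl
    have hlin : ∀ η ∈ cliffOrbit P₁ θ, ∀ u : P₁, u ∈ commutator P₁ → (η : P₁ → ℂ) u = 1 := by
      intro η hη u hu
      obtain ⟨g, rfl⟩ := mem_cliffOrbit.mp hη
      show (l (MulAut.conjNormal g u) : ℂ) = 1
      have h0 : (l.comp (MulAut.conjNormal g : MulAut P₁).toMonoidHom) u = 1 :=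
        Abelianization.commutator_subset_ker _ hu
      rw [show l (MulAut.conjNormal g u) = 1 from h0, Units.val_one]
    have hnP : n ∈ P₁ := by
      rw [hP₁, Subgroup.mem_subgroupOf]
      exact Subgroup.commutator_le_self _ hn
    have hnc : (⟨n, hnP⟩ : P₁) ∈ commutator P₁ := by
      have e : D = (commutator P₁).map P₁.subtype := by
        rw [commutator_def, Subgroup.map_commutator, ← MonoidHom.range_eq_map, Subgroup.range_subtype]
        refine Subgroup.map_injective N.subtype_injective ?_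
        rw [Subgroup.map_commutator, hD, hP₁, Subgroup.map_subgroupOf_eq_of_le (hN ▸ derived_le P),
          Subgroup.map_subgroupOf_eq_of_le (hN ▸ le_norm P)]
      rw [e] at hn
      obtain ⟨u, hu, hun⟩ := hn
      rwa [show (⟨n, hnP⟩ : P₁) = u from Subtype.ext hun.symm]
    have e1 := congrFun hcl ⟨n, hnP⟩
    have e2 := congrFun hcl 1
    simp only [Pi.smul_apply, Finset.sum_apply, smul_eq_mul] at e1 e2
    rw [Finset.sum_congr rfl fun η hη => hlin η hη _ hnc] at e1
    rw [Finset.sum_congr rfl fun η hη => hlin η hη _ (one_mem _)] at e2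
    exact e1.trans e2.symm
  · intro htriv hd
    haveI := Fintype.ofFinite (N ⧸ D)
    obtain ⟨ψ', hψ'⟩ := exists_deflate D ψ.2 htriv
    set A := P₁.map (QuotientGroup.mk' D) with hA
    haveI : A.Normal := Subgroup.Normal.map inferInstance _ (QuotientGroup.mk'_surjective D)
    have hab : ∀ a b : A, a * b = b * a := by
      rintro ⟨_, x, hx, rfl⟩ ⟨_, y, hy, rfl⟩
      refine Subtype.ext ?_
      show (QuotientGroup.mk x : N ⧸ D) * QuotientGroup.mk y = QuotientGroup.mk y * QuotientGroup.mk x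
      rw [← QuotientGroup.mk_mul, ← QuotientGroup.mk_mul, QuotientGroup.eq,
        show (x * y)⁻¹ * (y * x) = ⁅y⁻¹, x⁻¹⁆ by simp [commutatorElement_def, mul_assoc]]
      rw [hD, Subgroup.mem_subgroupOf]
      exact Subgroup.commutator_mem_commutator (inv_mem hy : ((y : G))⁻¹ ∈ (P : Subgroup G))
        (inv_mem hx : ((x : G))⁻¹ ∈ (P : Subgroup G))
    have h1 : deg (ψ' : N ⧸ D → ℂ) ∣ A.index := deg_dvd_index_abelian_normal ψ'.2 A hab
    have h2 : deg (ψ' : N ⧸ D → ℂ) = charDegree (ψ : N → ℂ) := by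
      have h3 := hψ' 1
      rw [QuotientGroup.mk_one, deg_cast, deg_cast, charDegree_eq_deg] at h3
      rw [charDegree_eq_deg]
      exact_mod_cast h3
    have hDP : D ≤ P₁ := fun x hx => Subgroup.commutator_le_self (P : Subgroup G) (Subgroup.mem_subgroupOf.1 hx)
    rw [h2, hA, Subgroup.index_map_eq _ (QuotientGroup.mk'_surjective D) (by rwa [QuotientGroup.ker_mk'])] at h1
    refine P.not_dvd_index ((hd.trans h1).trans ?_)
    exact Dvd.intro _ (Subgroup.relIndex_mul_index (hN ▸ le_norm P : (P : Subgroup G) ≤ N))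

/-- One character of `G` against the characters of a subgroup. -/
theorem one_char (N : Subgroup G) [Fintype N] (χ : IrrCharacter G) (T : Finset (IrrCharacter N))
    (hT : ∀ ψ ∈ T, classInner (fun n : N => (χ : G → ℂ) n) (ψ : N → ℂ) ≠ 0) :
    ∑ ψ ∈ T, charDegree (ψ : N → ℂ) ^ 2 ≤ charDegree (χ : G → ℂ) ^ 2 ∧
      (∑ ψ ∈ T, charDegree (ψ : N → ℂ) ^ 2 = charDegree (χ : G → ℂ) ^ 2 →
        ∃ ψ ∈ T, ∀ n : N, (χ : G → ℂ) n = (ψ : N → ℂ) n) := by
  classical
  obtain ⟨m, hm⟩ := exists_decomposition (isCharacter_comp N.subtype (irr_isCharacter χ.2))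
  have hm1 : ∀ ψ ∈ T, 1 ≤ m ψ := fun ψ hψ => by
    have h := hT ψ hψ
    rw [show (fun n : N => (χ : G → ℂ) n) = (χ : G → ℂ) ∘ N.subtype from rfl, decomposition_coeff m hm ψ,
      Nat.cast_ne_zero] at h
    omega
  have hdeg : charDegree (χ : G → ℂ) = ∑ ψ : IrrCharacter N, m ψ * charDegree (ψ : N → ℂ) := by
    have h : (χ : G → ℂ) 1 = ∑ ψ : IrrCharacter N, (m ψ : ℂ) * (ψ : N → ℂ) 1 := by
      simpa using congrFun hm 1
    simp only [deg_cast] at h
    exact_mod_cast h
  have hpos : ∀ ψ : IrrCharacter N, 0 < charDegree (ψ : N → ℂ) := fun ψ => by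
    rw [charDegree_eq_deg]; exact deg_pos ψ.2
  have hle : ∑ ψ ∈ T, charDegree (ψ : N → ℂ) ≤ charDegree (χ : G → ℂ) := by
    rw [hdeg]
    exact (Finset.sum_le_sum fun ψ hψ => Nat.le_mul_of_pos_left _ (hm1 ψ hψ)).trans
      (Finset.sum_le_sum_of_subset (Finset.subset_univ T))
  have hsq : ∑ ψ ∈ T, charDegree (ψ : N → ℂ) ^ 2 ≤ (∑ ψ ∈ T, charDegree (ψ : N → ℂ)) ^ 2 :=
    Finset.sum_sq_le_sq_sum_of_nonneg fun _ _ => Nat.zero_le _
  refine ⟨hsq.trans (Nat.pow_le_pow_left hle 2), fun heq => ?_⟩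
  obtain ⟨ψ₀, hψ₀⟩ : T.Nonempty := by
    rw [Finset.nonempty_iff_ne_empty]; rintro rfl
    have hpχ : 0 < charDegree (χ : G → ℂ) := by rw [charDegree_eq_deg]; exact deg_pos χ.2
    rw [Finset.sum_empty] at heq
    exact absurd heq.symm (pow_ne_zero 2 hpχ.ne')
  refine ⟨ψ₀, hψ₀, ?_⟩
  have hd0 : charDegree (χ : G → ℂ) ≤ charDegree (ψ₀ : N → ℂ) := by
    by_contra hlt
    push Not at hlt
    have h1 : ∀ ψ ∈ T, charDegree (ψ : N → ℂ) ^ 2 ≤ charDegree (ψ : N → ℂ) * charDegree (χ : G → ℂ) := by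
      intro ψ hψ
      rw [pow_two]
      exact Nat.mul_le_mul_left _ ((Finset.single_le_sum (fun _ _ => Nat.zero_le _) hψ).trans hle)
    have h2 : ∑ ψ ∈ T, charDegree (ψ : N → ℂ) ^ 2 < ∑ ψ ∈ T, charDegree (ψ : N → ℂ) * charDegree (χ : G → ℂ) :=
      Finset.sum_lt_sum h1 ⟨ψ₀, hψ₀, by rw [pow_two]; exact Nat.mul_lt_mul_of_pos_left hlt (hpos ψ₀)⟩
    rw [← Finset.sum_mul, heq, pow_two] at h2
    exact absurd (Nat.mul_le_mul_right _ hle) (not_le.mpr h2)
  have hsum : ∑ ψ ∈ Finset.univ.erase ψ₀, m ψ * charDegree (ψ : N → ℂ) = 0 ∧ m ψ₀ = 1 := by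
    rw [hdeg, ← Finset.add_sum_erase _ _ (Finset.mem_univ ψ₀)] at hd0
    have := hm1 ψ₀ hψ₀
    have := hpos ψ₀
    constructor
    · have : charDegree (ψ₀ : N → ℂ) ≤ m ψ₀ * charDegree (ψ₀ : N → ℂ) := Nat.le_mul_of_pos_left _ (hm1 ψ₀ hψ₀)
      omega
    · by_contra hne
      have : 2 * charDegree (ψ₀ : N → ℂ) ≤ m ψ₀ * charDegree (ψ₀ : N → ℂ) := Nat.mul_le_mul_right _ (by omega)
      omega
  intro n
  have h : (χ : G → ℂ) n = ∑ ψ : IrrCharacter N, (m ψ : ℂ) * (ψ : N → ℂ) n := by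
    simpa using congrFun hm n
  rw [h, Finset.sum_eq_single ψ₀ ?_ (by simp), hsum.2, Nat.cast_one, one_mul]
  intro ψ _ hne
  have h0 := Finset.sum_eq_zero_iff.mp hsum.1 ψ (Finset.mem_erase.2 ⟨hne, Finset.mem_univ _⟩)
  rcases mul_eq_zero.mp h0 with h0 | h0
  · simp [h0]
  · exact absurd h0 (hpos ψ).ne'

/-- The sum of the squares of the degrees prime to `p`. -/
noncomputable def sq (p : ℕ) (G : Type u) [Group G] [Fintype G] : ℕ := by
  classical
  exact ∑ χ ∈ Finset.univ.filter (fun χ : IrrCharacter G => ¬ p ∣ charDegree (χ : G → ℂ)),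
    charDegree (χ : G → ℂ) ^ 2

theorem sq_norm (hN : N = Subgroup.normalizer ((P : Subgroup G) : Set G)) [Fintype N] :
    Nat.card N = Nat.card (commutator P) * sq p N := by
  classical
  haveI := d_normal P hN
  have h := sum_sq_quotient (⁅(P : Subgroup G), (P : Subgroup G)⁆.subgroupOf N)
    (Finset.univ.filter fun ψ : IrrCharacter N => ¬ p ∣ charDegree (ψ : N → ℂ))
    (fun ψ => by rw [Finset.mem_filter]; simpa using pPrime_iff P hN ψ)
  rw [sq]
  rw [show Nat.card (commutator P) = Nat.card (⁅(P : Subgroup G), (P : Subgroup G)⁆.subgroupOf N) by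
    rw [Nat.card_congr (Subgroup.subgroupOfEquivOfLe (hN ▸ derived_le P)).toEquiv, derived_eq,
      Subgroup.card_map_of_injective (P : Subgroup G).subtype_injective]]
  rw [← Subgroup.card_mul_index (⁅(P : Subgroup G), (P : Subgroup G)⁆.subgroupOf N), ← h]

theorem sq_le (hN : N = Subgroup.normalizer ((P : Subgroup G) : Set G)) [Fintype N] :
    sq p N ≤ sq p G ∧ (sq p N = sq p G →
      (∀ χ : IrrCharacter G, ¬ p ∣ charDegree (χ : G → ℂ) → ∃ ψ : IrrCharacter N,
          ¬ p ∣ charDegree (ψ : N → ℂ) ∧ ∀ n : N, (χ : G → ℂ) n = (ψ : N → ℂ) n) ∧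
      ∀ ψ : IrrCharacter N, ¬ p ∣ charDegree (ψ : N → ℂ) → ∃ χ : IrrCharacter G,
          ¬ p ∣ charDegree (χ : G → ℂ) ∧ ∀ n : N, (χ : G → ℂ) n = (ψ : N → ℂ) n) := by
  classical
  have hidx : ¬ p ∣ N.index := hN ▸ norm_index P
  set A := Finset.univ.filter (fun χ : IrrCharacter G => ¬ p ∣ charDegree (χ : G → ℂ)) with hA
  set S := Finset.univ.filter (fun ψ : IrrCharacter N => ¬ p ∣ charDegree (ψ : N → ℂ)) with hS
  let R : IrrCharacter G → IrrCharacter N → Prop := fun χ ψ =>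
    classInner (fun n : N => (χ : G → ℂ) n) (ψ : N → ℂ) ≠ 0
  have e : ∑ χ ∈ A, ∑ ψ ∈ S.filter (R χ), charDegree (ψ : N → ℂ) ^ 2 =
      ∑ ψ ∈ S, (A.filter (fun χ => R χ ψ)).card * charDegree (ψ : N → ℂ) ^ 2 := by
    rw [Finset.sum_comm' (t' := S) (s' := fun ψ => A.filter (fun χ => R χ ψ))
      (fun χ ψ => by simp only [Finset.mem_filter]; tauto)]
    exact Finset.sum_congr rfl fun ψ _ => by rw [Finset.sum_const, smul_eq_mul]
  have h1 : ∑ ψ ∈ S, charDegree (ψ : N → ℂ) ^ 2 ≤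
      ∑ χ ∈ A, ∑ ψ ∈ S.filter (R χ), charDegree (ψ : N → ℂ) ^ 2 := by
    rw [e]
    refine Finset.sum_le_sum fun ψ hψ => Nat.le_mul_of_pos_left _ (Finset.card_pos.2 ?_)
    obtain ⟨χ, hχ, hc⟩ := exists_pPrime_over Fact.out N ψ hidx (Finset.mem_filter.1 hψ).2
    exact ⟨χ, Finset.mem_filter.2 ⟨Finset.mem_filter.2 ⟨Finset.mem_univ _, hχ⟩, hc⟩⟩
  have h2 : ∀ χ ∈ A, _ := fun χ _ => one_char N χ (S.filter (R χ)) (fun ψ hψ => (Finset.mem_filter.1 hψ).2)
  refine ⟨h1.trans (Finset.sum_le_sum fun χ hχ => (h2 χ hχ).1), fun heq => ?_⟩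
  have h3 : ∀ χ ∈ A, ∑ ψ ∈ S.filter (R χ), charDegree (ψ : N → ℂ) ^ 2 = charDegree (χ : G → ℂ) ^ 2 := by
    refine (Finset.sum_eq_sum_iff_of_le fun χ hχ => (h2 χ hχ).1).1 ?_
    exact le_antisymm (Finset.sum_le_sum fun χ hχ => (h2 χ hχ).1) ((show ∑ χ ∈ A, charDegree (χ : G → ℂ) ^ 2 = ∑ ψ ∈ S, charDegree (ψ : N → ℂ) ^ 2 by
      simp only [sq] at heq; rw [hA, hS]; convert heq.symm) ▸ h1)
  have hres : ∀ χ : IrrCharacter G, ¬ p ∣ charDegree (χ : G → ℂ) → ∃ ψ ∈ S.filter (R χ),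
      ∀ n : N, (χ : G → ℂ) n = (ψ : N → ℂ) n := fun χ hχ =>
    (h2 χ (Finset.mem_filter.2 ⟨Finset.mem_univ _, hχ⟩)).2 (h3 χ (Finset.mem_filter.2 ⟨Finset.mem_univ _, hχ⟩))
  refine ⟨fun χ hχ => ?_, fun ψ hψ => ?_⟩
  · obtain ⟨ψ, hψ, h⟩ := hres χ hχ
    exact ⟨ψ, (Finset.mem_filter.1 (Finset.mem_filter.1 hψ).1).2, h⟩
  · obtain ⟨χ, hχ, hc⟩ := exists_pPrime_over Fact.out N ψ hidx hψ
    obtain ⟨ψ', hψ', h⟩ := hres χ hχ
    refine ⟨χ, hχ, fun n => ?_⟩
    rw [show (fun n : N => (χ : G → ℂ) n) = (ψ' : N → ℂ) from funext h, irrC_orth] at hc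
    split_ifs at hc with he
    · rw [h n, he]
    · exact absurd rfl hc

/-- Equality gives a normal complement. -/
theorem complement_of_eq (hN : N = Subgroup.normalizer ((P : Subgroup G) : Set G)) [Fintype N]
    (heq : sq p N = sq p G) : ∃ X : Subgroup G, X.Normal ∧ X ⊓ N = ⊥ ∧ X ⊔ N = ⊤ := by
  classical
  have hp : p.Prime := Fact.out
  obtain ⟨hres, hext⟩ := (sq_le P hN).2 heq
  haveI hD := d_normal P hN
  haveI hP1 := p_normal P hN
  set K := kerPPrime p G with hK
  haveI : K.Normal := kerPPrime_normal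
  have hPN : (P : Subgroup G) ≤ N := hN ▸ le_norm P
  have hKN : K ⊓ N ≤ ⁅(P : Subgroup G), (P : Subgroup G)⁆ := by
    rintro x ⟨hxK, hxN⟩
    refine mem_of_forall (⁅(P : Subgroup G), (P : Subgroup G)⁆.subgroupOf N) (x := ⟨x, hxN⟩) fun ψ hψ => ?_
    obtain ⟨χ, hχ, h⟩ := hext ψ ((pPrime_iff P hN ψ).2 hψ)
    rw [← h ⟨x, hxN⟩, ← h 1]
    exact hxK χ hχ
  set W : Subgroup G := Subgroup.normalClosure ((P : Subgroup G) : Set G) ⊔ K with hW
  have hWN : W ⊓ N ≤ (P : Subgroup G) := by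
    rintro x ⟨hxW, hxN⟩
    refine mem_of_forall ((P : Subgroup G).subgroupOf N) (x := ⟨x, hxN⟩) fun ψ hψ => ?_
    obtain ⟨χ, hχ, h⟩ := hext ψ ((pPrime_iff P hN ψ).2 fun n hn => hψ n (Subgroup.commutator_le_self (P : Subgroup G) (Subgroup.mem_subgroupOf.1 hn)))
    rw [← h ⟨x, hxN⟩, ← h 1]
    haveI := kerSub_normal χ
    have : W ≤ kerSub χ := by
      refine sup_le (Subgroup.normalClosure_le_normal fun y hy => ?_) fun y hy => hy χ hχ
      have := hψ ⟨y, hPN hy⟩ hy
      rw [← h ⟨y, hPN hy⟩, ← h 1] at this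
      exact this
    exact this hxW
  have hPW : (P : Subgroup G) ≤ W := le_sup_of_le_left Subgroup.le_normalClosure
  haveI : W.Normal := inferInstance
  haveI := Fintype.ofFinite W
  -- the quotient by the kernel
  set K' := K.subgroupOf W with hK'
  let π := QuotientGroup.mk' K'
  let Q := (P.subtype hPW).mapSurjective (QuotientGroup.mk'_surjective K')
  have hQ : (Q : Subgroup (W ⧸ K')) = ((P : Subgroup G).subgroupOf W).map π := rfl
  have hab : ∀ a ∈ (Q : Subgroup (W ⧸ K')), ∀ b ∈ (Q : Subgroup (W ⧸ K')), a * b = b * a := by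
    rw [hQ]
    rintro _ ⟨x, hx, rfl⟩ _ ⟨y, hy, rfl⟩
    rw [← map_mul, ← map_mul]
    refine (QuotientGroup.eq).2 ?_
    rw [show (x * y)⁻¹ * (y * x) = ⁅y⁻¹, x⁻¹⁆ by simp [commutatorElement_def, mul_assoc], hK',
      Subgroup.mem_subgroupOf]
    intro χ hχ
    obtain ⟨ψ, hψd, hψ⟩ := hres χ hχ
    have hm : ((⁅y⁻¹, x⁻¹⁆ : W) : G) ∈ ⁅(P : Subgroup G), (P : Subgroup G)⁆ :=
      Subgroup.commutator_mem_commutator (inv_mem hy : ((y : G))⁻¹ ∈ (P : Subgroup G))
        (inv_mem hx : ((x : G))⁻¹ ∈ (P : Subgroup G))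
    rw [hψ ⟨_, derived_le P hm |> fun h => hN ▸ h⟩, show (χ : G → ℂ) 1 = (ψ : N → ℂ) 1 from hψ 1]
    exact (pPrime_iff P hN ψ).1 hψd _ hm
  have hQn : Subgroup.normalizer ((Q : Subgroup (W ⧸ K')) : Set (W ⧸ K')) ≤ (Q : Subgroup (W ⧸ K')) := by
    intro z hz
    obtain ⟨y, rfl⟩ := QuotientGroup.mk'_surjective K' z
    set U : Subgroup W := ((P : Subgroup G).subgroupOf W) ⊔ K' with hU
    have hUc : ((Q : Subgroup (W ⧸ K'))).comap π = U := by
      rw [hQ, Subgroup.comap_map_eq, QuotientGroup.ker_mk']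
    have hyU : ∀ w, w ∈ U → y * w * y⁻¹ ∈ U := fun w hw => by
      rw [← hUc, Subgroup.mem_comap] at hw
      rw [← hUc, Subgroup.mem_comap, map_mul, map_mul, map_inv]
      exact (Subgroup.mem_normalizer_iff.1 hz _).1 hw
    have hPU : ((P.subtype hPW) : Subgroup W) ≤ U := le_sup_left
    have hPyU : ((y • P.subtype hPW : Sylow p W) : Subgroup W) ≤ U := by
      rintro w ⟨v, hv, rfl⟩
      exact hyU v (hPU hv)
    obtain ⟨k, hk⟩ := MulAction.exists_smul_eq U ((P.subtype hPW).subtype hPU)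
      ((y • P.subtype hPW).subtype hPyU)
    have hk' : (k : W) • P.subtype hPW = y • P.subtype hPW := by
      refine Sylow.subtype_injective (N := U) (hP := ?_) (hQ := ?_) ?_
      · rintro w ⟨v, hv, rfl⟩
        exact U.mul_mem (U.mul_mem k.2 (hPU hv)) (U.inv_mem k.2)
      · exact hPyU
      · exact (Sylow.smul_subtype hPU k).symm.trans hk
    have hmem : (k : W)⁻¹ * y ∈ Subgroup.normalizer (((P.subtype hPW) : Subgroup W) : Set W) := by
      exact Sylow.smul_eq_iff_mem_normalizer.1 (by rw [mul_smul, ← hk', inv_smul_smul])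
    have hmP : (k : W)⁻¹ * y ∈ (P : Subgroup G).subgroupOf W := by
      refine Subgroup.mem_subgroupOf.2 (hWN ⟨((k : W)⁻¹ * y).2, ?_⟩)
      show (((k : W)⁻¹ * y : W) : G) ∈ N
      rw [hN, Subgroup.mem_normalizer_iff]
      intro g
      constructor
      · intro hg
        exact Subgroup.mem_subgroupOf.1 ((Subgroup.mem_normalizer_iff.1 hmem ⟨g, hPW hg⟩).1 hg)
      · intro hg
        have hgW : g ∈ W := by
          have := W.mul_mem (W.mul_mem (W.inv_mem ((k : W)⁻¹ * y).2) (hPW hg)) ((k : W)⁻¹ * y).2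
          simpa [mul_assoc] using this
        exact (Subgroup.mem_normalizer_iff.1 hmem ⟨g, hgW⟩).2 hg
    have hyU' : y ∈ U := by simpa using U.mul_mem k.2 (hPU hmP)
    rw [← hUc, Subgroup.mem_comap] at hyU'
    exact hyU'
  have hQc : Subgroup.normalizer ((Q : Subgroup (W ⧸ K')) : Set (W ⧸ K')) ≤
      Subgroup.centralizer ((Q : Subgroup (W ⧸ K')) : Set (W ⧸ K')) := fun z hz =>
    Subgroup.mem_centralizer_iff.2 fun w hw => hab w hw z (hQn hz)
  have hcompl := MonoidHom.ker_transferSylow_isComplement' Q hQc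
  have hnpc : HasNormalPComplement p (W ⧸ K') := ⟨Q, _, inferInstance, hcompl⟩
  have hco := Fusion.hnpc_iff.1 hnpc
  -- the residual of `W`
  set X : Subgroup G := (pResidual p W).map W.subtype with hX
  haveI : X.Normal := ConjAct.normal_of_characteristic_of_normal
  haveI := Fintype.ofFinite X
  have hXP : X ⊓ (P : Subgroup G) ≤ (frattini P).map (P : Subgroup G).subtype := by
    refine le_trans ?_ ((derived_eq P).le.trans (Subgroup.map_mono (Solv.commutator_le_frattini_pgroup P.isPGroup')))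
    rintro _ ⟨⟨x, hx, rfl⟩, hxP⟩
    refine hKN ⟨?_, hPN hxP⟩
    have h1 : π x ∈ pResidual p (W ⧸ K') := by
      have : (pResidual p W).map π ≤ pResidual p (W ⧸ K') := by
        rw [pResidual, MonoidHom.map_closure, Subgroup.closure_le]
        rintro _ ⟨g, hg, rfl⟩
        exact Subgroup.subset_closure (Nat.Coprime.coprime_dvd_left (orderOf_map_dvd π g) hg)
      exact this ⟨x, hx, rfl⟩
    have h2 : π x ∈ (Q : Subgroup (W ⧸ K')) := by rw [hQ]; exact ⟨x, hxP, rfl⟩
    obtain ⟨k, hk⟩ := IsPGroup.iff_orderOf.1 Q.isPGroup' ⟨π x, h2⟩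
    rw [Subgroup.orderOf_mk] at hk
    have h3 : orderOf (π x) = 1 := Nat.eq_one_of_dvd_coprimes (hco.pow_right k)
      (Subgroup.orderOf_dvd_natCard _ h1) (by rw [hk])
    rw [orderOf_eq_one_iff] at h3
    exact Subgroup.mem_subgroupOf.1 ((QuotientGroup.eq_one_iff x).1 h3)
  have hXn : HasNormalPComplement p X := Fusion.hnpc_normal_of_frattini X P hXP
  have hXco : (Nat.card X).Coprime p := by
    have h := Fusion.hnpc_iff.1 hXn
    have hid : (pResidual p X).map X.subtype = X := LocalEven.Res.idem W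
    rw [← Subgroup.card_map_of_injective X.subtype_injective, hid] at h
    exact h
  have hXPbot : ∀ x ∈ X, x ∈ (P : Subgroup G) → x = 1 := by
    intro x hx hxP
    obtain ⟨k, hk⟩ := IsPGroup.iff_orderOf.1 P.isPGroup' ⟨x, hxP⟩
    rw [Subgroup.orderOf_mk] at hk
    exact orderOf_eq_one_iff.1 (Nat.eq_one_of_dvd_coprimes (hXco.pow_right k)
      (Subgroup.orderOf_dvd_natCard _ hx) (by rw [hk]))
  refine ⟨X, inferInstance, (Subgroup.eq_bot_iff_forall _).2 fun x hx => ?_, eq_top_iff.2 ?_⟩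
  · exact hXPbot x hx.1 (hWN ⟨Subgroup.map_subtype_le _ hx.1, hx.2⟩)
  · have hWle : W ≤ X ⊔ N := by
      have h := congrArg (Subgroup.map W.subtype) (Fusion.pResidual_sup_sylow (p := p) (P.subtype hPW))
      rw [Subgroup.map_sup, ← MonoidHom.range_eq_map, Subgroup.range_subtype, Sylow.coe_subtype,
        Subgroup.map_subgroupOf_eq_of_le hPW] at h
      rw [← h]
      exact sup_le_sup le_rfl hPN
    have hF := Sylow.normalizer_sup_eq_top (P.subtype hPW)
    rw [Sylow.coe_subtype, Subgroup.map_subgroupOf_eq_of_le hPW] at hF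
    rw [← hF]
    exact sup_le (hN ▸ le_sup_right) hWle

/-- A normal complement gives equality. -/
theorem eq_of_complement (hN : N = Subgroup.normalizer ((P : Subgroup G) : Set G)) [Fintype N]
    (X : Subgroup G) [X.Normal] (hbot : X ⊓ N = ⊥) (htop : X ⊔ N = ⊤) : sq p N = sq p G := by
  classical
  haveI := Fintype.ofFinite X
  haveI := Fintype.ofFinite (G ⧸ X)
  have hbij : Function.Bijective ((QuotientGroup.mk' X).comp N.subtype) := by
    constructor
    · rw [injective_iff_map_eq_one]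
      intro n hn
      have h : (n : G) ∈ X ⊓ N := ⟨(QuotientGroup.eq_one_iff _).1 hn, n.2⟩
      rw [hbot, Subgroup.mem_bot] at h
      exact Subtype.ext h
    · intro q
      obtain ⟨g, rfl⟩ := QuotientGroup.mk'_surjective X q
      have hg : g ∈ ((X ⊔ N : Subgroup G) : Set G) := by rw [htop]; trivial
      rw [Subgroup.normal_mul] at hg
      obtain ⟨x, hx, n, hn, rfl⟩ := hg
      refine ⟨⟨n, hn⟩, ?_⟩
      show QuotientGroup.mk' X n = QuotientGroup.mk' X (x * n)
      rw [map_mul, show QuotientGroup.mk' X x = 1 from (QuotientGroup.eq_one_iff x).2 hx, one_mul]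
  let e : N ≃* G ⧸ X := MulEquiv.ofBijective _ hbij
  have he : ∀ n : N, e n = QuotientGroup.mk (n : G) := fun n => rfl
  have hXp : ¬ p ∣ Nat.card X := by
    have h1 : Nat.card N * Nat.card X = Nat.card G := by
      rw [Nat.card_congr e.toEquiv, ← Subgroup.card_eq_card_quotient_mul_card_subgroup]
    have h2 : Nat.card X = N.index :=
      Nat.eq_of_mul_eq_mul_left Nat.card_pos (h1.trans (Subgroup.card_mul_index N).symm)
    rw [h2]
    exact hN ▸ norm_index P
  have hCX : X ⊓ Subgroup.centralizer ((P : Subgroup G) : Set G) = ⊥ :=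
    le_bot_iff.1 (hbot ▸ inf_le_inf_left X (hN ▸ Subgroup.centralizer_le_normalizer _))
  have htriv : ∀ χ : IrrCharacter G, ¬ p ∣ charDegree (χ : G → ℂ) → ∀ n ∈ X, (χ : G → ℂ) n = (χ : G → ℂ) 1 := by
    intro χ hχ
    obtain ⟨m, hm⟩ := exists_decomposition (isCharacter_comp X.subtype (irr_isCharacter χ.2))
    letI act : MulAction (P : Subgroup G) (IrrCharacter X) := irrConjAct X (P : Subgroup G)
    have hinv : ∀ (a : (P : Subgroup G)) (θ : IrrCharacter X),
        m (a • θ) * charDegree ((a • θ : IrrCharacter X) : X → ℂ) = m θ * charDegree (θ : X → ℂ) := by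
      intro a θ
      have e1 : m (a • θ) = m θ := by
        have h := classInner_restrict_conj (N := X)
          (isClassFunction_character (irr_isCharacter χ.2)) (θ : X → ℂ) (a : G)⁻¹
        have h' : (m (a • θ) : ℂ) = m θ :=
          (decomposition_coeff m hm (a • θ)).symm.trans (h.trans (decomposition_coeff m hm θ))
        exact_mod_cast h'
      have e2 : charDegree ((a • θ : IrrCharacter X) : X → ℂ) = charDegree (θ : X → ℂ) := by
        show charDegree (irrComp (MulAut.conjNormal (a : G)⁻¹) θ : X → ℂ) = _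
        simp only [charDegree, irrComp_apply, map_one]
      rw [e1, e2]
    obtain ⟨θ, hθfix, hθm⟩ : ∃ θ : IrrCharacter X,
        θ ∈ MulAction.fixedPoints (P : Subgroup G) (IrrCharacter X) ∧ m θ ≠ 0 := by
      by_contra hne
      push Not at hne
      refine hχ ((CharP.cast_eq_zero_iff (ZMod p) p _).mp ?_)
      have h := sum_eq_sum_fixed P.isPGroup' (fun θ : IrrCharacter X => m θ * charDegree (θ : X → ℂ)) hinv
      have hdeg : charDegree (χ : G → ℂ) = ∑ θ : IrrCharacter X, m θ * charDegree (θ : X → ℂ) := by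
        have h : (χ : G → ℂ) 1 = ∑ θ : IrrCharacter X, (m θ : ℂ) * (θ : X → ℂ) 1 := by
          simpa using congrFun hm 1
        simp only [deg_cast] at h
        exact_mod_cast h
      rw [hdeg, h, Finset.sum_eq_zero fun θ hθ => by rw [hne θ (Finset.mem_filter.mp hθ).2, zero_mul],
        Nat.cast_zero]
    have hθ1 : ∀ n : X, (θ : X → ℂ) n = 1 := by
      refine (invariant_irr_iff X hXp (P : Subgroup G) P.isPGroup').mp hCX θ fun a n => ?_
      have h1 := congrFun (congrArg Subtype.val (hθfix a⁻¹)) n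
      change (θ : X → ℂ) (MulAut.conjNormal ((a⁻¹ : (P : Subgroup G)) : G)⁻¹ n) = _ at h1
      rwa [Subgroup.coe_inv, inv_inv] at h1
    intro n hn
    refine trivial_on_of_constituent X χ ?_ ⟨n, hn⟩
    rw [← show θ = ⟨fun _ => 1, isIrrCharacter_one⟩ from Subtype.ext (funext hθ1),
      show (fun n : X => (χ : G → ℂ) n) = (χ : G → ℂ) ∘ X.subtype from rfl, decomposition_coeff m hm θ]
    exact Nat.cast_ne_zero.mpr hθm
  -- inflation
  let F : IrrCharacter N → IrrCharacter G := fun ψ =>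
    ⟨fun g => (ψ : N → ℂ) (e.symm (QuotientGroup.mk g)), isIrr_inflate X (isIrrCharacter_comp_equiv e.symm ψ.2)⟩
  have hFN : ∀ (ψ : IrrCharacter N) (n : N), (F ψ : G → ℂ) n = (ψ : N → ℂ) n := fun ψ n => by
    show (ψ : N → ℂ) (e.symm (QuotientGroup.mk (n : G))) = _
    rw [← he, e.symm_apply_apply]
  have hFd : ∀ ψ : IrrCharacter N, charDegree (F ψ : G → ℂ) = charDegree (ψ : N → ℂ) := fun ψ => by
    have h := hFN ψ 1
    rw [OneMemClass.coe_one, deg_cast, deg_cast] at h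
    exact_mod_cast h
  unfold sq
  refine Finset.sum_nbij F (fun ψ hψ => ?_) (fun a _ b _ hab => ?_) (fun χ hχ => ?_) (fun ψ _ => ?_)
  · simp only [Finset.coe_filter, Finset.mem_univ, true_and, Set.mem_ofPred_eq, Finset.mem_filter] at hψ ⊢
    rwa [hFd]
  · exact Subtype.ext (funext fun n => by rw [← hFN a n, ← hFN b n, hab])
  · simp only [Finset.coe_filter, Finset.mem_univ, true_and, Set.mem_ofPred_eq] at hχ
    obtain ⟨χ', hχ'⟩ := exists_deflate X χ.2 (htriv χ hχ)
    let ψ : IrrCharacter N := ⟨fun n => (χ' : G ⧸ X → ℂ) (e n), isIrrCharacter_comp_equiv e χ'.2⟩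
    have hF : F ψ = χ := Subtype.ext (funext fun g => by
      show (χ' : G ⧸ X → ℂ) (e (e.symm (QuotientGroup.mk g))) = _
      rw [e.apply_symm_apply, hχ'])
    refine ⟨ψ, ?_, hF⟩
    simp only [Finset.coe_filter, Finset.mem_univ, true_and, Set.mem_ofPred_eq]
    rw [← hFd, hF]
    exact hχ
  · rw [hFd]

end Cfsg.Agent.Solv.OddSquares
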