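import Cfsg.Agent.Lib.Solv.OffenderLimit

/-!
# Quadratic offenders normalized by their conjugates
-/

set_option autoImplicit false
set_option linter.style.haveILetI false

namespace Cfsg.Agent.Solv.OffLim

variable {R : Type*} [Ring R] {p : ℕ} {G : Type*} [Group G]

/-- Conjugation by `ρ g`. -/
def cjR (ρ : G →* R) (g : G) : R →+ R where
  toFun x := ρ g * x * ρ g⁻¹
  map_zero' := by simp
  map_add' x y := by simp [mul_add, add_mul]

theorem cjR_apply (ρ : G →* R) (g : G) (x : R) : cjR ρ g x = ρ g * x * ρ g⁻¹ := rfl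

theorem cjR_mul (ρ : G →* R) (g h : G) (x : R) : cjR ρ (g * h) x = cjR ρ g (cjR ρ h x) := by
  simp [cjR_apply, mul_assoc]

theorem rho_inv_mul (ρ : G →* R) (g : G) : ρ g⁻¹ * ρ g = 1 := by
  rw [← map_mul, inv_mul_cancel, map_one]

theorem rho_mul_inv (ρ : G →* R) (g : G) : ρ g * ρ g⁻¹ = 1 := by
  rw [← map_mul, mul_inv_cancel, map_one]

theorem cjR_one_add (ρ : G →* R) (g a : G) {x : R} (ha : ρ a = 1 + x) :
    ρ (g * a * g⁻¹) = 1 + cjR ρ g x := by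
  rw [map_mul, map_mul, ha, cjR_apply, mul_add, mul_one, add_mul, rho_mul_inv]

theorem rho_inv_eq (ρ : G →* R) {g : G} {β : R} (hg : ρ g = 1 + β) (hβ : β * β = 0) :
    ρ g⁻¹ = 1 - β := by
  have h : (1 + β) * (1 - β) = 1 := by simp [add_mul, mul_sub, hβ]
  calc ρ g⁻¹ = ρ g⁻¹ * ((1 + β) * (1 - β)) := by rw [h, mul_one]
    _ = 1 - β := by rw [← mul_assoc, ← hg, rho_inv_mul, one_mul]

theorem cjR_eq_quad (ρ : G →* R) {g : G} {β : R} (hg : ρ g = 1 + β) (hβ : β * β = 0) (x : R) :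
    cjR ρ g x = x + (β * x - x * β) - β * x * β ∧
      cjR ρ g⁻¹ x = x - (β * x - x * β) - β * x * β := by
  simp only [cjR_apply, inv_inv, hg, rho_inv_eq ρ hg hβ]
  constructor <;> (simp only [add_mul, mul_sub, sub_mul, mul_add, mul_one, one_mul]; abel)

theorem half_mem [Fact p.Prime] (hp : p ≠ 2) (hR : ∀ x : R, p • x = 0) (M : AddSubgroup R) {x : R}
    (h : x + x ∈ M) : x ∈ M := by
  obtain ⟨k, hk⟩ := (Fact.out : p.Prime).odd_of_ne_two hp
  have e : (k + 1) • (x + x) = x := by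
    rw [← two_nsmul, ← mul_nsmul', show (k + 1) * 2 = p + 1 by omega, add_nsmul, hR, zero_add,
      one_nsmul]
  exact e ▸ M.nsmul_mem h _

section Flag

variable (ρ : G →* R)

/-- The ascending series of fixed points modulo the previous term. -/
def flag : ℕ → AddSubgroup R
  | 0 => ⊥
  | k + 1 =>
    { carrier := {x | ∀ g, cjR ρ g x - x ∈ flag k}
      zero_mem' := fun g => by simp
      add_mem' := fun {a b} ha hb g => by
        rw [map_add, add_sub_add_comm]; exact (flag k).add_mem (ha g) (hb g)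
      neg_mem' := fun {a} ha g => by
        rw [show cjR ρ g (-a) - -a = -(cjR ρ g a - a) by rw [map_neg]; abel]
        exact (flag k).neg_mem (ha g) }

theorem mem_flag_succ {k : ℕ} {x : R} :
    x ∈ flag ρ (k + 1) ↔ ∀ g, cjR ρ g x - x ∈ flag ρ k := Iff.rfl

theorem flag_le_succ (k : ℕ) : flag ρ k ≤ flag ρ (k + 1) := by
  induction k with
  | zero => exact bot_le
  | succ k ih => exact fun x hx g => ih (hx g)

theorem flag_mono : Monotone (flag ρ) := monotone_nat_of_le_succ (flag_le_succ ρ)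

theorem flag_conj {k : ℕ} {x : R} (hx : x ∈ flag ρ k) (g : G) : cjR ρ g x ∈ flag ρ k := by
  have := (flag ρ k).add_mem (flag_le_succ ρ k hx g) hx
  simpa using this

theorem exists_flag_top [Finite R] [hp : Fact p.Prime] (hG : IsPGroup p G)
    (hR : ∀ x : R, p • x = 0) : ∃ K, flag ρ K = ⊤ := by
  classical
  obtain ⟨U, ⟨K, rfl⟩, hmax⟩ := Set.exists_max_image (Set.range (flag ρ))
    (fun U : AddSubgroup R => Nat.card U) (Set.toFinite _) ⟨_, 0, rfl⟩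
  refine ⟨K, by_contra fun hne => ?_⟩
  have hstep : flag ρ (K + 1) = flag ρ K := (AddSubgroup.eq_of_le_of_card_ge (flag_le_succ ρ K)
    (hmax _ ⟨_, rfl⟩)).symm
  let U := flag ρ K
  letI : MulAction G (R ⧸ U) :=
    { smul := fun g => QuotientAddGroup.map U U (cjR ρ g) fun x hx => flag_conj ρ hx g
      one_smul := fun q => by
        induction q using QuotientAddGroup.induction_on with
        | _ x =>
          exact congrArg (QuotientAddGroup.mk (s := U))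
            (show cjR ρ 1 x = x by simp [cjR_apply])
      mul_smul := fun g h q => by
        induction q using QuotientAddGroup.induction_on with
        | _ x => exact congrArg (QuotientAddGroup.mk (s := U)) (cjR_mul ρ g h x) }
  obtain ⟨y, hy⟩ : ∃ y, y ∉ U := by
    by_contra hall
    push Not at hall
    exact hne (top_le_iff.1 fun x _ => hall x)
  have hdvd : p ∣ Nat.card (R ⧸ U) := by
    have h1 : addOrderOf (QuotientAddGroup.mk y : R ⧸ U) = p := addOrderOf_eq_prime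
      (by rw [← QuotientAddGroup.mk_nsmul, hR, QuotientAddGroup.mk_zero])
      fun h => hy ((QuotientAddGroup.eq_zero_iff y).1 h)
    exact h1 ▸ addOrderOf_dvd_natCard _
  have h0 : (0 : R ⧸ U) ∈ MulAction.fixedPoints G (R ⧸ U) := fun g => map_zero (QuotientAddGroup.map U U
    (cjR ρ g) fun x hx => flag_conj ρ hx g)
  obtain ⟨q, hq, hq0⟩ := hG.exists_fixed_point_of_prime_dvd_card_of_fixed_point (R ⧸ U) hdvd h0
  obtain ⟨x, rfl⟩ := QuotientAddGroup.mk_surjective q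
  refine hq0 (Eq.symm ((QuotientAddGroup.eq_zero_iff x).2 (hstep.le fun g => ?_)))
  exact QuotientAddGroup.eq_iff_sub_mem.1 (hq g)

end Flag

/-- A square-zero offender. -/
structure Off (ρ : G →* R) (n : ℕ) (L : AddSubgroup R) : Prop where
  sq : ∀ x ∈ L, ∀ y ∈ L, x * y = 0
  exp : ∀ x ∈ L, ∃ g, ρ g = 1 + x
  card : Nat.card R ≤ Nat.card L ^ n * Nat.card (ann L)
  ne : L ≠ ⊥

/-- The subgroup `1 + L`. -/
def expGrp (ρ : G →* R) (L : AddSubgroup R) (hsq : ∀ x ∈ L, ∀ y ∈ L, x * y = 0) : Subgroup G where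
  carrier := {g | ∃ x ∈ L, ρ g = 1 + x}
  one_mem' := ⟨0, L.zero_mem, by simp⟩
  mul_mem' := fun ⟨x, hx, ha⟩ ⟨y, hy, hb⟩ => ⟨x + y, L.add_mem hx hy, by
    rw [map_mul, ha, hb, mul_add, add_mul, add_mul, hsq x hx y hy]; simp [add_assoc]⟩
  inv_mem' := fun ⟨x, hx, ha⟩ => ⟨-x, L.neg_mem hx, by
    rw [rho_inv_eq ρ ha (hsq x hx x hx), sub_eq_add_neg]⟩

theorem conj_mem_of_normalizer {ρ : G →* R} {L : AddSubgroup R}
    {hsq : ∀ x ∈ L, ∀ y ∈ L, x * y = 0} (hexp : ∀ x ∈ L, ∃ g, ρ g = 1 + x) {g : G}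
    (hg : g ∈ Subgroup.normalizer (expGrp ρ L hsq : Set G)) {x : R} (hx : x ∈ L) : cjR ρ g x ∈ L := by
  obtain ⟨a, ha⟩ := hexp x hx
  obtain ⟨y, hy, he⟩ := (Subgroup.mem_normalizer_iff.1 hg a).1 ⟨x, hx, ha⟩
  rw [cjR_one_add ρ g a ha] at he
  rwa [add_left_cancel he]

theorem mem_normalizer_of_conj_mem [Finite G] {ρ : G →* R} {L : AddSubgroup R}
    {hsq : ∀ x ∈ L, ∀ y ∈ L, x * y = 0} {g : G} (h : ∀ x ∈ L, cjR ρ g x ∈ L) :
    g ∈ Subgroup.normalizer (expGrp ρ L hsq : Set G) :=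
  Subgroup.mem_normalizer_fintype (fun a ⟨x, hx, ha⟩ => ⟨_, h x hx, cjR_one_add ρ g a ha⟩)

/-- Three square-zero subgroups with brackets in the intersections. -/
theorem exp_of_sq_zero {ρ : G →* R} {L₁ L₂ L₃ : AddSubgroup R}
    (hhalf : ∀ M : AddSubgroup R, ∀ x, x + x ∈ M → x ∈ M)
    (hdiv : ∀ x : R, ∃ y, y + y = x)
    (h1 : ∀ x ∈ L₁, ∀ y ∈ L₁, x * y = 0) (h2 : ∀ x ∈ L₂, ∀ y ∈ L₂, x * y = 0)
    (h3 : ∀ x ∈ L₃, ∀ y ∈ L₃, x * y = 0)
    (e1 : ∀ x ∈ L₁, ∃ g, ρ g = 1 + x) (e2 : ∀ x ∈ L₂, ∃ g, ρ g = 1 + x)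
    (e3 : ∀ x ∈ L₃, ∃ g, ρ g = 1 + x)
    (b12 : ∀ x ∈ L₁, ∀ y ∈ L₂, x * y - y * x ∈ L₁ ⊓ L₂)
    (b13 : ∀ x ∈ L₁, ∀ w ∈ L₃, x * w - w * x ∈ L₁ ⊓ L₃)
    (b23 : ∀ y ∈ L₂, ∀ w ∈ L₃, y * w - w * y ∈ L₂ ⊓ L₃)
    {z : R} (hz : z ∈ L₁ ⊔ L₂ ⊔ L₃) (hzz : z * z = 0) : ∃ g, ρ g = 1 + z := by
  obtain ⟨u, hu, w, hw, rfl⟩ := AddSubgroup.mem_sup.1 hz
  obtain ⟨x, hx, y, hy, rfl⟩ := AddSubgroup.mem_sup.1 hu
  have hxx := h1 x hx x hx
  have hyy := h2 y hy y hy
  have hww := h3 w hw w hw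
  -- sandwiches vanish
  have key : ∀ (K : AddSubgroup R), (∀ a ∈ K, ∀ b ∈ K, a * b = 0) → ∀ a b, a ∈ K →
      a * b - b * a ∈ K → a * b * a = 0 := fun K hK a b ha hab => by
    have := hK a ha _ hab
    rw [mul_sub, ← mul_assoc, hK a ha a ha, zero_mul, zero_sub, neg_eq_zero, ← mul_assoc] at this
    exact this
  have hsw : ∀ {A B : AddSubgroup R}, (∀ a ∈ A, ∀ b ∈ B, a * b - b * a ∈ A ⊓ B) →
      ∀ a ∈ A, ∀ b ∈ B, a * b - b * a ∈ A ∧ b * a - a * b ∈ B := fun h a ha b hb =>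
    ⟨(h a ha b hb).1, by simpa using AddSubgroup.neg_mem _ (h a ha b hb).2⟩
  have hxyx := key L₁ h1 x y hx (hsw b12 x hx y hy).1
  have hyxy := key L₂ h2 y x hy (hsw b12 x hx y hy).2
  have hwxw := key L₃ h3 w x hw (hsw b13 x hx w hw).2
  have hwyw := key L₃ h3 w y hw (hsw b23 y hy w hw).2
  -- halves
  obtain ⟨c, hc⟩ := hdiv (x * y - y * x)
  have hcL : c ∈ L₁ ⊓ L₂ := hhalf _ c (hc.symm ▸ b12 x hx y hy)
  obtain ⟨d, hd⟩ := hdiv ((x + y) * w - w * (x + y))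
  have hdL : d ∈ L₃ := hhalf _ d (by
    rw [hd, add_mul, mul_add, add_sub_add_comm]
    exact L₃.add_mem (b13 x hx w hw).2 (b23 y hy w hw).2)
  obtain ⟨g1, hg1⟩ := e1 x hx
  obtain ⟨g2, hg2⟩ := e2 y hy
  obtain ⟨g3, hg3⟩ := e1 (-c) (L₁.neg_mem hcL.1)
  obtain ⟨g4, hg4⟩ := e3 (w - d) (L₃.sub_mem hw hdL)
  refine ⟨g1 * g2 * g3 * g4, ?_⟩
  rw [map_mul, map_mul, map_mul, hg1, hg2, hg3, hg4]
  set u := x + y with hu'
  have hu2 : u * u = x * y + y * x := by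
    simp only [hu', add_mul, mul_add, hxx, hyy]; abel
  have hxc : x * c = 0 := h1 x hx c hcL.1
  have hyc : y * c = 0 := h2 y hy c hcL.2
  have hA : (1 + x) * (1 + y) * (1 + -c) = 1 + u + (x * y - c) := by
    simp only [hu', mul_add, add_mul, mul_neg, mul_one, one_mul, hxc, hyc, mul_assoc x y c]
    simp
    abel
  rw [hA]
  set s := x * y - c with hs
  have hss : s + s = u * u := by
    rw [hu2, hs]
    calc x * y - c + (x * y - c) = x * y + x * y - (c + c) := by abel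
      _ = _ := by rw [hc]; abel
  have hwuw : w * u * w = 0 := by rw [hu', mul_add, add_mul, hwxw, hwyw, add_zero]
  have hzz' : u * u = -(u * w + w * u) := by
    rw [eq_neg_iff_add_eq_zero]
    calc u * u + (u * w + w * u) = (u + w) * (u + w) - w * w := by
          simp only [add_mul, mul_add]; abel
      _ = 0 := by rw [hzz, hww, sub_zero]
  have huuw : u * u * w = 0 := by
    rw [hzz', neg_mul, add_mul, mul_assoc u w w, hww, mul_zero, hwuw, add_zero, neg_zero]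
  have hwd : u * u * u = 0 := by
    rw [hu2, hu']
    simp only [add_mul, mul_add, mul_assoc x y y, mul_assoc y x x, hxx, hyy, mul_zero, hxyx, hyxy,
      add_zero]
  have hr : ∀ r : R, r + r = 0 → r = 0 := fun r h =>
    (AddSubgroup.mem_bot).1 (hhalf ⊥ r (AddSubgroup.mem_bot.2 h))
  have hud : u * d + u * d = u * u * w - u * w * u := by
    rw [← mul_add, hd, mul_sub, ← mul_assoc, ← mul_assoc]
  have huwu : u * w * u = -(u * u * u) := by
    have h5 : u * (u * u) = u * -(u * w + w * u) := by rw [← hzz']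
    simp only [mul_neg, mul_add, ← mul_assoc, huuw, zero_add] at h5
    rw [h5, neg_neg]
  have hud0 : u * d = 0 := hr _ (by rw [hud, huuw, huwu, hwd, neg_zero, sub_zero])
  have hsw0 : s * (w - d) = 0 := hr _ (by
    rw [← add_mul, hss, mul_sub, huuw, zero_sub, mul_assoc, hud0, mul_zero, neg_zero])
  have hmain : s + u * w - d = 0 := hr _ (by
    calc s + u * w - d + (s + u * w - d) = (s + s) + (u * w + u * w) - (d + d) := by abel
      _ = 0 := by rw [hss, hd, hzz']; abel)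
  calc (1 + u + s) * (1 + (w - d))
      = 1 + (u + w) + (s + u * w - d) - u * d + s * (w - d) := by
        simp only [add_mul, mul_add, mul_sub, one_mul, mul_one]; abel
    _ = 1 + (u + w) := by rw [hmain, hud0, hsw0]; abel

/-- An element of a generating invariant set normalizes the group generated by a part of it. -/
theorem exists_mem_normalizer [Finite G] {p : ℕ} [Fact p.Prime] (hG : IsPGroup p G) :
    ∀ (T : Subgroup G) (Q : Set G), Subgroup.closure Q = T → (∀ t ∈ T, ∀ q ∈ Q, t * q * t⁻¹ ∈ Q) →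
      ∀ Y : Subgroup G, Y < T → Subgroup.closure (Q ∩ Y) = Y →
      ∃ q ∈ Q, q ∉ Y ∧ q ∈ Subgroup.normalizer (Y : Set G) := by
  classical
  intro T
  induction hn : Nat.card T using Nat.strong_induction_on generalizing T with
  | _ n ih =>
  intro Q hQ hinv Y hYT hYQ
  have hQT : ∀ q ∈ Q, q ∈ T := fun q hq => hQ ▸ Subgroup.subset_closure hq
  obtain ⟨M, hM, hmax⟩ := Set.exists_max_image {H : Subgroup G | Y ≤ H ∧ H < T}
    (fun H => Nat.card H) (Set.toFinite _) ⟨Y, le_rfl, hYT⟩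
  have hMn : ∀ t ∈ T, ∀ m ∈ M, t * m * t⁻¹ ∈ M := by
    haveI : Group.IsNilpotent T := (hG.to_subgroup T).isNilpotent
    have hlt : M.subgroupOf T ≠ ⊤ := fun h => hM.2.ne (le_antisymm hM.2.le (Subgroup.subgroupOf_eq_top.1 h))
    have h2 := Group.normalizerCondition_of_isNilpotent (G := T) (M.subgroupOf T) hlt.lt_top
    set N := Subgroup.normalizer (M.subgroupOf T : Set T)
    have hNtop : N = ⊤ := by
      by_contra hne
      have h3 : (N.map T.subtype) < T := lt_of_le_of_ne (Subgroup.map_subtype_le _) fun h =>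
        hne (Subgroup.map_injective T.subtype_injective
          (h.trans ((MonoidHom.range_eq_map _).symm.trans (Subgroup.range_subtype T)).symm))
      have h4 : M < N.map T.subtype := by
        have := (Subgroup.map_lt_map_iff_of_injective T.subtype_injective).2 h2
        rwa [Subgroup.map_subgroupOf_eq_of_le hM.2.le] at this
      have h5 := hmax _ ⟨hM.1.trans h4.le, h3⟩
      exact h4.ne (Subgroup.eq_of_le_of_card_ge h4.le h5)
    haveI := Subgroup.normalizer_eq_top_iff.1 hNtop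
    intro t ht m hm
    exact ‹(M.subgroupOf T).Normal›.conj_mem ⟨m, hM.2.le hm⟩ hm ⟨t, ht⟩
  set T₁ := Subgroup.closure (Q ∩ M) with hT₁
  have hT₁M : T₁ ≤ M := (Subgroup.closure_le _).2 Set.inter_subset_right
  have hT₁n : ∀ t ∈ T, t ∈ Subgroup.normalizer (T₁ : Set G) := fun t ht =>
    Subgroup.mem_normalizer_fintype (fun a ha => by
      have hmap : T₁.map (MulAut.conj t).toMonoidHom ≤ T₁ := by
        rw [hT₁, MonoidHom.map_closure]
        refine Subgroup.closure_mono ?_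
        rintro _ ⟨q, hq, rfl⟩
        exact ⟨hinv t ht q hq.1, hMn t ht q hq.2⟩
      exact hmap ⟨a, ha, rfl⟩)
  have hYT₁ : Y ≤ T₁ := hYQ ▸ Subgroup.closure_mono fun q hq => ⟨hq.1, hM.1 hq.2⟩
  rcases hYT₁.eq_or_lt with he | hlt
  · obtain ⟨q, hq, hqY⟩ : ∃ q ∈ Q, q ∉ Y := by
      by_contra hall
      push Not at hall
      exact hYT.not_ge (hQ ▸ (Subgroup.closure_le _).2 hall)
    exact ⟨q, hq, hqY, he ▸ hT₁n q (hQT q hq)⟩
  · have hc : Nat.card T₁ < n := by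
      rw [← hn]
      by_contra hcon
      exact (hT₁M.trans_lt hM.2).ne (Subgroup.eq_of_le_of_card_ge (hT₁M.trans hM.2.le) (not_lt.1 hcon))
    obtain ⟨q, hq, h1, h2⟩ := ih _ hc T₁ rfl (Q ∩ M) rfl (fun t ht q hq =>
        ⟨hinv t (hM.2.le (hT₁M ht)) q hq.1, hMn t (hM.2.le (hT₁M ht)) q hq.2⟩) Y hlt
        (by rw [Set.inter_assoc, Set.inter_eq_self_of_subset_right (fun y hy => hM.1 hy :
          (Y : Set G) ⊆ M)]; exact hYQ)
    exact ⟨q, hq.1, h1, h2⟩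

/-- Square-zero offenders include one normalized by all conjugates of its elements. -/
theorem exists_off_normal [Finite R] [Finite G] [hp : Fact p.Prime] (hp2 : p ≠ 2)
    (hR : ∀ x : R, p • x = 0) (hG : IsPGroup p G) (ρ : G →* R) {n : ℕ} {L₀ : AddSubgroup R}
    (h₀ : Off ρ n L₀) :
    ∃ (L : AddSubgroup R) (hL : Off ρ n L),
      Subgroup.closure {x : G | ∃ h, ∃ a ∈ expGrp ρ L hL.sq, x = h * a * h⁻¹} ≤
        Subgroup.normalizer (expGrp ρ L hL.sq : Set G) := by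
  classical
  obtain ⟨K, hK⟩ := exists_flag_top ρ hG hR
  obtain ⟨L, hL, hmax⟩ := Set.exists_max_image {L : AddSubgroup R | Off ρ n L}
    (fun L => ∑ k ∈ Finset.range (K + 1), Nat.card ↥(L ⊓ flag ρ k)) (Set.toFinite _) ⟨L₀, h₀⟩
  refine ⟨L, hL, ?_⟩
  set A := expGrp ρ L hL.sq with hA
  set Q := {x : G | ∃ h, ∃ a ∈ A, x = h * a * h⁻¹} with hQ
  set N := Subgroup.normalizer (A : Set G)
  by_contra hne
  set Y := Subgroup.closure (Q ∩ N) with hY
  have hYN : Y ≤ N := (Subgroup.closure_le _).2 Set.inter_subset_right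
  have hQinv : ∀ t : G, ∀ q ∈ Q, t * q * t⁻¹ ∈ Q := by
    rintro t _ ⟨h, a, ha, rfl⟩
    exact ⟨t * h, a, ha, by group⟩
  have hYT : Y < Subgroup.closure Q := lt_of_le_of_ne (Subgroup.closure_mono Set.inter_subset_left)
    fun h => hne (h ▸ hYN)
  obtain ⟨b, hbQ, hbY, hbN⟩ := exists_mem_normalizer hG _ Q rfl (fun t _ => hQinv t) Y hYT
    (le_antisymm ((Subgroup.closure_le _).2 Set.inter_subset_right)
      (Subgroup.closure_mono fun q hq => ⟨hq.1, Subgroup.subset_closure hq⟩))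
  have hAY : A ≤ Y := fun a ha => Subgroup.subset_closure
    ⟨⟨1, a, ha, by simp⟩, Subgroup.le_normalizer ha⟩
  have hbnot : b ∉ N := fun h => hbY (Subgroup.subset_closure ⟨hbQ, h⟩)
  obtain ⟨h, a, ⟨α, hα, haα⟩, rfl⟩ := hbQ
  set b := h * a * h⁻¹
  set β := cjR ρ h α with hβdef
  have hb : ρ b = 1 + β := cjR_one_add ρ h a haα
  have hβ : β * β = 0 := by
    rw [hβdef, cjR_apply, show ρ h * α * ρ h⁻¹ * (ρ h * α * ρ h⁻¹) =
      ρ h * (α * (ρ h⁻¹ * ρ h) * α) * ρ h⁻¹ by simp only [mul_assoc], rho_inv_mul, mul_one,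
      hL.sq α hα α hα, mul_zero, zero_mul]
  have hhalf : ∀ M : AddSubgroup R, ∀ x, x + x ∈ M → x ∈ M := fun M x => half_mem hp2 hR M
  have hdiv : ∀ x : R, ∃ y, y + y = x := fun x => by
    obtain ⟨k, hk⟩ := hp.out.odd_of_ne_two hp2
    exact ⟨(k + 1) • x, by rw [← add_nsmul, show k + 1 + (k + 1) = p + 1 by omega, add_nsmul, hR,
      zero_add, one_nsmul]⟩
  -- the conjugates of `L` by powers of `b` normalize one another
  have hcjY : ∀ c ∈ Subgroup.normalizer (Y : Set G), ∀ x ∈ L, ∃ g ∈ Y, ρ g = 1 + cjR ρ c x := by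
    intro c hc x hx
    obtain ⟨g, hg⟩ := hL.exp x hx
    exact ⟨c * g * c⁻¹, (Subgroup.mem_normalizer_iff.1 hc g).1 (hAY ⟨x, hx, hg⟩),
      cjR_one_add ρ c g hg⟩
  have hbr : ∀ c₁ ∈ Subgroup.normalizer (Y : Set G), ∀ c₂ ∈ Subgroup.normalizer (Y : Set G),
      ∀ x ∈ L.map (cjR ρ c₁), ∀ y ∈ L.map (cjR ρ c₂), x * y - y * x ∈ L.map (cjR ρ c₁) := by
    rintro c₁ hc₁ c₂ hc₂ _ ⟨x, hx, rfl⟩ _ ⟨y, hy, rfl⟩
    set d := c₁⁻¹ * c₂ with hd
    set η := cjR ρ d y with hη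
    obtain ⟨g, hgY, hg⟩ := hcjY d (mul_mem (inv_mem hc₁) hc₂) y hy
    have hη2 : η * η = 0 := by
      rw [hη, cjR_apply, show ρ d * y * ρ d⁻¹ * (ρ d * y * ρ d⁻¹) =
        ρ d * (y * (ρ d⁻¹ * ρ d) * y) * ρ d⁻¹ by simp only [mul_assoc], rho_inv_mul, mul_one,
        hL.sq y hy y hy, mul_zero, zero_mul]
    obtain ⟨e1, e2⟩ := cjR_eq_quad ρ hg hη2 x
    have m1 := conj_mem_of_normalizer hL.exp (hYN hgY) hx
    have m2 := conj_mem_of_normalizer hL.exp (hYN (inv_mem hgY)) hx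
    have hm : x * η - η * x ∈ L := hhalf L _ (by
      have := L.sub_mem m2 m1
      rw [e1, e2] at this
      convert this using 1
      abel)
    refine ⟨_, hm, ?_⟩
    have hy2 : cjR ρ c₁ η = cjR ρ c₂ y := by rw [hη, ← cjR_mul, hd, mul_inv_cancel_left]
    rw [map_sub, ← hy2]
    simp only [cjR_apply, mul_assoc]
    rw [← mul_assoc (ρ c₁⁻¹) (ρ c₁), rho_inv_mul, one_mul, ← mul_assoc (ρ c₁⁻¹) (ρ c₁), rho_inv_mul,
      one_mul]
  have hbr2 : ∀ c₁ ∈ Subgroup.normalizer (Y : Set G), ∀ c₂ ∈ Subgroup.normalizer (Y : Set G),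
      ∀ x ∈ L.map (cjR ρ c₁), ∀ y ∈ L.map (cjR ρ c₂),
        x * y - y * x ∈ L.map (cjR ρ c₁) ⊓ L.map (cjR ρ c₂) := fun c₁ h1 c₂ h2 x hx y hy =>
    ⟨hbr c₁ h1 c₂ h2 x hx y hy, by
      simpa using AddSubgroup.neg_mem _ (hbr c₂ h2 c₁ h1 y hy x hx)⟩
  have hsqc : ∀ c, ∀ x ∈ L.map (cjR ρ c), ∀ y ∈ L.map (cjR ρ c), x * y = 0 := by
    rintro c _ ⟨x, hx, rfl⟩ _ ⟨y, hy, rfl⟩
    rw [cjR_apply, cjR_apply, show ρ c * x * ρ c⁻¹ * (ρ c * y * ρ c⁻¹) =
      ρ c * (x * (ρ c⁻¹ * ρ c) * y) * ρ c⁻¹ by simp only [mul_assoc], rho_inv_mul, mul_one,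
      hL.sq x hx y hy, mul_zero, zero_mul]
  have hexpc : ∀ c, ∀ x ∈ L.map (cjR ρ c), ∃ g, ρ g = 1 + x := by
    rintro c _ ⟨x, hx, rfl⟩
    obtain ⟨g, hg⟩ := hL.exp x hx
    exact ⟨_, cjR_one_add ρ c g hg⟩
  set 𝔐 := L.map (cjR ρ 1) ⊔ L.map (cjR ρ b) ⊔ L.map (cjR ρ b⁻¹) with h𝔐
  have hb1 : ∀ x ∈ L, x ∈ 𝔐 ∧ β * x - x * β ∈ 𝔐 ∧ β * x * β ∈ 𝔐 := by
    intro x hx
    have h0 : x ∈ 𝔐 := AddSubgroup.mem_sup_left (AddSubgroup.mem_sup_left ⟨x, hx, by simp [cjR_apply]⟩)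
    have h1 : cjR ρ b x ∈ 𝔐 := AddSubgroup.mem_sup_left (AddSubgroup.mem_sup_right ⟨x, hx, rfl⟩)
    have h2 : cjR ρ b⁻¹ x ∈ 𝔐 := AddSubgroup.mem_sup_right ⟨x, hx, rfl⟩
    obtain ⟨e1, e2⟩ := cjR_eq_quad ρ hb hβ x
    refine ⟨h0, hhalf _ _ ?_, hhalf _ _ ?_⟩
    · convert 𝔐.sub_mem h1 h2 using 1
      rw [e1, e2]; abel
    · convert 𝔐.sub_mem (𝔐.add_mem h0 h0) (𝔐.add_mem h1 h2) using 1
      rw [e1, e2]; abel
  have hlim : Off ρ n (lim β L) := by
    refine ⟨lim_mul_lim hβ hL.sq, fun z hz => ?_, hL.card.trans (Nat.mul_le_mul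
      (Nat.pow_le_pow_left (card_le_lim hβ L) n) (card_ann_le hβ L)), fun h0 => hL.ne ?_⟩
    · have hb' : b⁻¹ ∈ Subgroup.normalizer (Y : Set G) := inv_mem hbN
      exact exp_of_sq_zero hhalf hdiv (hsqc 1) (hsqc b) (hsqc b⁻¹) (hexpc 1) (hexpc b) (hexpc b⁻¹)
        (hbr2 1 (one_mem _) b hbN) (hbr2 1 (one_mem _) b⁻¹ hb') (hbr2 b hbN b⁻¹ hb')
        (lim_le hb1 hz) (lim_mul_lim hβ hL.sq z hz z hz)
    · have := card_le_lim hβ L
      rw [h0, AddSubgroup.card_bot] at this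
      exact AddSubgroup.eq_bot_of_card_le L this
  have hflag : ∀ k, ∀ x ∈ flag ρ (k + 1), β * x - x * β ∈ flag ρ k ∧ β * x * β ∈ flag ρ k := by
    intro k x hx
    obtain ⟨e1, e2⟩ := cjR_eq_quad ρ hb hβ x
    refine ⟨hhalf _ _ ?_, hhalf _ _ ?_⟩
    · convert (flag ρ k).sub_mem (hx b) (hx b⁻¹) using 1
      rw [e1, e2]; abel
    · convert (flag ρ k).neg_mem ((flag ρ k).add_mem (hx b) (hx b⁻¹)) using 1
      rw [e1, e2]; abel
  have hle : ∀ k, Nat.card ↥(L ⊓ flag ρ k) ≤ Nat.card ↥(lim β L ⊓ flag ρ k) := fun k => by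
    refine (card_le_lim hβ _).trans (AddSubgroup.card_le_of_le (le_inf (lim_mono inf_le_left) ?_))
    refine lim_le fun x hx => ?_
    obtain ⟨h1, h2⟩ := hflag k x (flag_le_succ ρ k hx.2)
    exact ⟨hx.2, h1, h2⟩
  -- `β` does not act on `L`
  have hbad : ∃ k, ∃ x ∈ L ⊓ flag ρ k, β * x - x * β ∉ L := by
    by_contra hall
    push Not at hall
    have hst := stable_lim hβ (fun x hx => hall K x ⟨hx, hK ▸ trivial⟩) hhalf
    refine hbnot (mem_normalizer_of_conj_mem fun x hx => ?_)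
    rw [(cjR_eq_quad ρ hb hβ x).1]
    exact L.sub_mem (L.add_mem hx (hst x hx).1) (hst x hx).2
  obtain ⟨j, hj⟩ : ∃ j, Nat.find hbad = j + 1 := Nat.exists_eq_succ_of_ne_zero fun h0 => by
    obtain ⟨x, ⟨-, hx⟩, hxL⟩ := Nat.find_spec hbad
    rw [h0] at hx
    rw [(AddSubgroup.mem_bot).1 hx] at hxL
    exact hxL (by simp)
  have hjK : j < K + 1 := by
    by_contra hcon
    obtain ⟨x, hx, hxL⟩ := Nat.find_spec hbad
    exact Nat.find_min hbad (show K < Nat.find hbad by omega) ⟨x, ⟨hx.1, hK ▸ trivial⟩, hxL⟩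
  obtain ⟨x, hx, hxL⟩ := Nat.find_spec hbad
  rw [hj] at hx
  set L' := L ⊓ flag ρ j with hL'
  have hst : ∀ y ∈ L', β * y - y * β ∈ L' ∧ β * y * β ∈ L' := stable_lim hβ (fun y hy => by
    refine ⟨by_contra fun h' => Nat.find_min hbad (show j < Nat.find hbad by omega) ⟨y, hy, h'⟩, ?_⟩
    exact (hflag j y (flag_le_succ ρ j hy.2)).1) hhalf
  have hsub : L' ≤ lim β L ⊓ flag ρ j :=
    le_inf ((le_lim_of_stable hβ hst).trans (lim_mono inf_le_left)) inf_le_right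
  obtain ⟨q1, q2⟩ := quad_mem_lim hβ (inf_le_left : L' ≤ L) hx.1
  obtain ⟨f1, f2⟩ := hflag j x hx.2
  have hlt : L' < lim β L ⊓ flag ρ j := by
    refine lt_of_le_of_ne hsub fun he => ?_
    by_cases hH : β * x * β ∈ L'
    · exact hxL ((he.ge (⟨q2 hH, f1⟩ : β * x - x * β ∈ lim β L ⊓ flag ρ j)).1)
    · exact hH (he.ge ⟨q1, f2⟩)
  have hcard : Nat.card L' < Nat.card ↥(lim β L ⊓ flag ρ j) := by
    by_contra hcon
    exact hlt.ne (AddSubgroup.eq_of_le_of_card_ge hlt.le (not_lt.1 hcon))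
  exact absurd (hmax _ hlim) (not_le.2 (Finset.sum_lt_sum (fun k _ => hle k)
    ⟨j, Finset.mem_range.2 hjK, hcard⟩))

end Cfsg.Agent.Solv.OffLim
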