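import Mathlib

/-!
# Limits of square-zero offenders

`G` is a `p`-group inside the units of a finite ring `R` of odd prime characteristic `p`. A square-zero
subgroup `L` of `R` with `1 + L ⊆ G` moves to the space of leading coefficients of
`(1 + tβ) L (1 - tβ)`; the limit is again of this kind, is at least as large, has at least as large an
annihilator, and lies deeper in a filtration stable under `G`. A deepest one is normalized by all
the conjugates of the elements of `1 + L`.
-/

set_option autoImplicit false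
set_option linter.style.haveILetI false

open Polynomial

namespace Cfsg.Agent.Solv.OffLim

variable {R : Type*} [Ring R]

/-- Twisting a polynomial by `1 + tβ`. -/
noncomputable def tw (β : R) : R[X] →+ R[X] where
  toFun P := (1 + C β * X) * P * (1 - C β * X)
  map_zero' := by simp
  map_add' P Q := by simp [mul_add, add_mul]

/-- Multiplying a polynomial by `1 + tβ`. -/
noncomputable def twL (β : R) : R[X] →+ R[X] where
  toFun P := (1 + C β * X) * P
  map_zero' := by simp
  map_add' P Q := by simp [mul_add]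

theorem tw_apply (β : R) (P : R[X]) : tw β P = (1 + C β * X) * P * (1 - C β * X) := rfl

theorem twL_apply (β : R) (P : R[X]) : twL β P = (1 + C β * X) * P := rfl

theorem inv_mul_twist {β : R} (hβ : β * β = 0) :
    (1 - C β * X) * (1 + C β * X) = (1 : R[X]) ∧ (1 + C β * X) * (1 - C β * X) = (1 : R[X]) := by
  have h : (C β * X) * (C β * X) = (0 : R[X]) := by
    rw [mul_assoc, ← mul_assoc X, X_mul, mul_assoc (C β), ← mul_assoc, ← C_mul, hβ, map_zero, zero_mul]
  constructor <;> simp [mul_add, add_mul, mul_sub, sub_mul, h]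

theorem twL_injective {β : R} (hβ : β * β = 0) : Function.Injective (twL β) := fun P Q h => by
  have := congrArg ((1 - C β * X) * ·) h
  simpa [twL_apply, ← mul_assoc, (inv_mul_twist hβ).1] using this

theorem tw_injective {β : R} (hβ : β * β = 0) : Function.Injective (tw β) := fun P Q h => by
  have := congrArg (fun u => (1 - C β * X) * u * (1 + C β * X)) h
  simp only [tw_apply] at this
  simpa [mul_assoc, (inv_mul_twist hβ).1, ← mul_assoc (1 - C β * X) (1 + C β * X)] using this

theorem tw_expand (β : R) (P : R[X]) :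
    tw β P = P + (C β * P - P * C β) * X - (C β * P * C β) * X ^ 2 := by
  have h1 : (C β * X) * P = C β * P * X := by rw [mul_assoc, X_mul, ← mul_assoc]
  have h2 : P * (C β * X) = P * C β * X := by rw [mul_assoc]
  have h3 : C β * P * X * (C β * X) = C β * P * C β * X ^ 2 := by
    rw [mul_assoc (C β * P) X, ← mul_assoc X, X_mul, sq]; simp [mul_assoc]
  rw [tw_apply, add_mul, one_mul, mul_sub, mul_one, add_mul, h1, h2, h3]
  simp only [sub_mul]
  abel

theorem tw_coeff_zero (β : R) (P : R[X]) : (tw β P).coeff 0 = P.coeff 0 := by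
  simp [tw_expand, coeff_mul_X_pow']

theorem tw_coeff_succ (β : R) (P : R[X]) (k : ℕ) :
    (tw β P).coeff (k + 1) = P.coeff (k + 1) + (β * P.coeff k - P.coeff k * β) -
      (if 1 ≤ k then β * P.coeff (k - 1) * β else 0) := by
  rw [tw_expand, coeff_sub, coeff_add, coeff_mul_X, coeff_sub, coeff_C_mul, coeff_mul_C,
    coeff_mul_X_pow']
  by_cases h : 1 ≤ k
  · rw [if_pos (by omega), if_pos h, coeff_mul_C, coeff_C_mul, show k + 1 - 2 = k - 1 by omega]
  · rw [if_neg (by omega), if_neg h]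

theorem twL_coeff_succ (β : R) (P : R[X]) (k : ℕ) :
    (twL β P).coeff (k + 1) = P.coeff (k + 1) + β * P.coeff k := by
  rw [twL_apply, add_mul, one_mul, coeff_add, mul_assoc, X_mul, ← mul_assoc, coeff_mul_X, coeff_C_mul]

/-- The leading coefficients of the images of the polynomials with coefficients in `L`. -/
def lead (f : R[X] →+ R[X]) (hf : ∀ (P : R[X]) (k : ℕ), f (P * X ^ k) = f P * X ^ k)
    (L : AddSubgroup R) : AddSubgroup R where
  carrier := {l | ∃ (n : ℕ) (P : R[X]), (∀ k, P.coeff k ∈ L) ∧ (∀ k, n < k → (f P).coeff k = 0) ∧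
    (f P).coeff n = l}
  zero_mem' := ⟨0, 0, fun k => by simp, fun k _ => by simp, by simp⟩
  neg_mem' := by
    rintro l ⟨n, P, h1, h2, h3⟩
    exact ⟨n, -P, fun k => by simpa using L.neg_mem (h1 k), fun k hk => by simp [h2 k hk],
      by simp [h3]⟩
  add_mem' := by
    rintro a b ⟨n, P, h1, h2, h3⟩ ⟨m, Q, g1, g2, g3⟩
    refine ⟨n + m, P * X ^ m + Q * X ^ n, fun k => ?_, fun k hk => ?_, ?_⟩
    · rw [coeff_add, coeff_mul_X_pow', coeff_mul_X_pow']
      refine L.add_mem ?_ ?_
      · split_ifs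
        exacts [h1 _, L.zero_mem]
      · split_ifs
        exacts [g1 _, L.zero_mem]
    · rw [map_add, hf, hf, coeff_add, coeff_mul_X_pow', coeff_mul_X_pow', if_pos (by omega),
        if_pos (by omega), h2 _ (by omega), g2 _ (by omega), add_zero]
    · rw [map_add, hf, hf, coeff_add, coeff_mul_X_pow', coeff_mul_X_pow', if_pos (by omega),
        if_pos (by omega), Nat.add_sub_cancel, Nat.add_sub_cancel_left, h3, g3]

theorem tw_mul_pow (β : R) (P : R[X]) (k : ℕ) : tw β (P * X ^ k) = tw β P * X ^ k := by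
  simp only [tw_apply, mul_assoc]
  rw [(commute_X_pow (1 - C β * X) k).eq]

theorem twL_mul_pow (β : R) (P : R[X]) (k : ℕ) : twL β (P * X ^ k) = twL β P * X ^ k := by
  simp [twL_apply, mul_assoc]

/-- The limit of `L` under conjugation by `1 + tβ`. -/
noncomputable def lim (β : R) (L : AddSubgroup R) : AddSubgroup R := lead (tw β) (tw_mul_pow β) L

/-- The limit of `W` under left multiplication by `1 + tβ`. -/
noncomputable def limL (β : R) (W : AddSubgroup R) : AddSubgroup R :=
  lead (twL β) (twL_mul_pow β) W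

theorem mem_lim {β : R} {L : AddSubgroup R} {n : ℕ} {P : R[X]} {l : R} (h1 : ∀ k, P.coeff k ∈ L)
    (h2 : ∀ k, n < k → (tw β P).coeff k = 0) (h3 : (tw β P).coeff n = l) : l ∈ lim β L :=
  ⟨n, P, h1, h2, h3⟩

theorem lim_mono {β : R} {L M : AddSubgroup R} (h : L ≤ M) : lim β L ≤ lim β M :=
  fun _ ⟨n, P, h1, h2, h3⟩ => ⟨n, P, fun k => h (h1 k), h2, h3⟩

theorem pow_lt_pow_of_lt {m l : ℕ} (hm : 0 < m) (h : m < l) :
    m ^ (m ^ 3 + 2) < l ^ (m ^ 3) := by
  obtain ⟨N, hN⟩ : ∃ N, m ^ 3 = N + 1 := Nat.exists_eq_succ_of_ne_zero (pow_pos hm 3).ne'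
  have h1 : ∀ k : ℕ, m ^ k * (m + (k + 1)) ≤ (m + 1) ^ (k + 1) := fun k => by
    induction k with
    | zero => simp
    | succ k ih =>
      calc m ^ (k + 1) * (m + (k + 1 + 1)) ≤ m ^ k * (m + (k + 1)) * (m + 1) := by
            rw [pow_succ, mul_assoc, mul_assoc]; exact Nat.mul_le_mul_left _ (by nlinarith)
        _ ≤ (m + 1) ^ (k + 1) * (m + 1) := Nat.mul_le_mul_right _ ih
        _ = _ := (pow_succ _ _).symm
  calc m ^ (m ^ 3 + 2) = m ^ N * m ^ 3 := by rw [← pow_add, hN]
    _ < m ^ N * (m + (N + 1)) := by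
        rw [← hN]; exact Nat.mul_lt_mul_of_pos_left (by omega) (pow_pos hm N)
    _ ≤ (m + 1) ^ (N + 1) := h1 N
    _ ≤ l ^ (m ^ 3) := by rw [hN]; exact Nat.pow_le_pow_left h _

/-- The space of leading coefficients is at least as large. -/
theorem card_le_lead [Finite R] (f : R[X] →+ R[X])
    (hf : ∀ (P : R[X]) (k : ℕ), f (P * X ^ k) = f P * X ^ k) (hinj : Function.Injective f)
    (hdeg : ∀ (P : R[X]) (d : ℕ), (∀ k, d < k → P.coeff k = 0) → ∀ k, d + 2 < k → (f P).coeff k = 0)
    (L : AddSubgroup R) : Nat.card L ≤ Nat.card (lead f hf L) := by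
  classical
  by_contra hlt
  set Lead := lead f hf L with hLead
  let M : ℕ → AddSubgroup R[X] := fun j =>
    { carrier := {u | (∃ P, (∀ k, P.coeff k ∈ L) ∧ f P = u) ∧ ∀ k, j ≤ k → u.coeff k = 0}
      zero_mem' := ⟨⟨0, fun k => by simp, map_zero f⟩, fun k _ => by simp⟩
      neg_mem' := by
        rintro u ⟨⟨P, h1, rfl⟩, h2⟩
        exact ⟨⟨-P, fun k => by simpa using L.neg_mem (h1 k), map_neg f P⟩,
          fun k hk => by simp [h2 k hk]⟩
      add_mem' := by
        rintro u v ⟨⟨P, h1, rfl⟩, h2⟩ ⟨⟨Q, g1, rfl⟩, g2⟩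
        exact ⟨⟨P + Q, fun k => by simpa using L.add_mem (h1 k) (g1 k), map_add f P Q⟩,
          fun k hk => by simp [h2 k hk, g2 k hk]⟩ }
  have hfin : ∀ j, Finite (M j) := fun j => Finite.of_injective
    (fun (u : M j) (i : Fin j) => (u : R[X]).coeff i) fun u v h => Subtype.ext <| Polynomial.ext fun k => by
      by_cases hk : k < j
      · exact congrFun h ⟨k, hk⟩
      · rw [u.2.2 k (by omega), v.2.2 k (by omega)]
  have hstep : ∀ j, Nat.card (M j) ≤ Nat.card Lead ^ j := fun j => by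
    induction j with
    | zero =>
      haveI : Subsingleton (M 0) := ⟨fun u v => Subtype.ext <| Polynomial.ext fun k => by
        rw [u.2.2 k k.zero_le, v.2.2 k k.zero_le]⟩
      simp
    | succ j ih =>
      haveI := hfin j
      haveI := hfin (j + 1)
      have hmem : ∀ u : M (j + 1), (u : R[X]).coeff j ∈ Lead := fun u => by
        obtain ⟨P, h1, h2⟩ := u.2.1
        exact ⟨j, P, h1, fun k hk => by rw [h2]; exact u.2.2 k hk, by rw [h2]⟩
      let φ : M (j + 1) → Lead := fun u => ⟨_, hmem u⟩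
      choose g hg using fun l : Set.range φ => l.2
      let ψ : M (j + 1) → Lead × M j := fun u => (φ u, ⟨(u : R[X]) - g ⟨φ u, u, rfl⟩,
        ((M (j + 1)).sub_mem u.2 (g ⟨φ u, u, rfl⟩).2).1, fun k hk => by
          rcases hk.eq_or_lt with rfl | hk
          · rw [coeff_sub, sub_eq_zero]
            exact (congrArg Subtype.val (hg ⟨φ u, u, rfl⟩)).symm
          · exact ((M (j + 1)).sub_mem u.2 (g ⟨φ u, u, rfl⟩).2).2 k hk⟩)
      have hψ : Function.Injective ψ := fun u v h => by
        obtain ⟨h1, h2⟩ := Prod.ext_iff.1 h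
        have h3 : g ⟨φ u, u, rfl⟩ = g ⟨φ v, v, rfl⟩ := congrArg g (Subtype.ext h1)
        have h4 := congrArg Subtype.val h2
        simp only [ψ, h3, sub_left_inj] at h4
        exact Subtype.ext h4
      calc Nat.card (M (j + 1)) ≤ Nat.card (Lead × M j) := Nat.card_le_card_of_injective ψ hψ
        _ ≤ Nat.card Lead ^ (j + 1) := by
          rw [Nat.card_prod, pow_succ']; exact Nat.mul_le_mul_left _ ih
  have hm : 0 < Nat.card Lead := Nat.card_pos
  obtain ⟨d, hd⟩ : ∃ d, Nat.card Lead ^ 3 = d + 1 :=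
    Nat.exists_eq_succ_of_ne_zero (pow_pos hm 3).ne'
  haveI := hfin (d + 3)
  have hlow : Nat.card L ^ (d + 1) ≤ Nat.card (M (d + 3)) := by
    let P : (Fin (d + 1) → L) → R[X] := fun a => ∑ i, C (a i : R) * X ^ (i : ℕ)
    have hP : ∀ a k, (P a).coeff k = if h : k < d + 1 then ((a ⟨k, h⟩ : L) : R) else 0 := fun a k => by
      simp only [P, finsetSum_coeff, coeff_C_mul_X_pow]
      split_ifs with h
      · rw [Finset.sum_eq_single ⟨k, h⟩ (fun i _ hi => if_neg fun hk => hi (Fin.ext hk.symm))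
          (fun hn => absurd (Finset.mem_univ _) hn), if_pos rfl]
      · exact Finset.sum_eq_zero fun i _ => if_neg fun hk => h (by omega)
    have hPL : ∀ a k, (P a).coeff k ∈ L := fun a k => by
      rw [hP]; split_ifs
      exacts [SetLike.coe_mem _, L.zero_mem]
    rw [show Nat.card L ^ (d + 1) = Nat.card (Fin (d + 1) → L) by rw [Nat.card_fun, Nat.card_fin]]
    refine Nat.card_le_card_of_injective (fun a => (⟨f (P a), ⟨P a, hPL a, rfl⟩, fun k hk =>
      hdeg (P a) d (fun i hi => by rw [hP, dif_neg (by omega)]) k (by omega)⟩ : M (d + 3))) fun a b h => ?_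
    funext i
    have := congrArg (fun q => q.coeff (i : ℕ)) (hinj (congrArg Subtype.val h))
    simp only [hP, dif_pos i.2] at this
    exact Subtype.ext this
  have h := pow_lt_pow_of_lt hm (not_le.1 hlt)
  rw [hd] at h
  exact absurd (hlow.trans (hstep _)) (not_le.2 h)

theorem card_le_lim [Finite R] {β : R} (hβ : β * β = 0) (L : AddSubgroup R) :
    Nat.card L ≤ Nat.card (lim β L) := by
  refine card_le_lead _ _ (tw_injective hβ) (fun P d h k hk => ?_) L
  obtain ⟨k, rfl⟩ := Nat.exists_eq_succ_of_ne_zero (by omega : k ≠ 0)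
  rw [tw_coeff_succ, h _ (by omega), h _ (by omega), if_pos (by omega), h _ (by omega)]
  simp

theorem card_le_limL [Finite R] {β : R} (hβ : β * β = 0) (W : AddSubgroup R) :
    Nat.card W ≤ Nat.card (limL β W) := by
  refine card_le_lead _ _ (twL_injective hβ) (fun P d h k hk => ?_) W
  obtain ⟨k, rfl⟩ := Nat.exists_eq_succ_of_ne_zero (by omega : k ≠ 0)
  rw [twL_coeff_succ, h _ (by omega), h _ (by omega)]
  simp

theorem coeff_mul_top {u v : R[X]} {n m : ℕ} (hu : ∀ k, n < k → u.coeff k = 0)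
    (hv : ∀ k, m < k → v.coeff k = 0) : (u * v).coeff (n + m) = u.coeff n * v.coeff m := by
  rw [coeff_mul, Finset.sum_eq_single (n, m)]
  · intro b hb hne
    rw [Finset.HasAntidiagonal.mem_antidiagonal] at hb
    by_cases h : n < b.1
    · rw [hu _ h, zero_mul]
    · rw [hv b.2 (by
        rcases (not_lt.1 h).eq_or_lt with h1 | h1
        · exact absurd (Prod.ext h1 (by omega)) hne
        · omega), mul_zero]
  · simp

theorem lim_mul_lim {β : R} (hβ : β * β = 0) {L : AddSubgroup R}
    (hL : ∀ x ∈ L, ∀ y ∈ L, x * y = 0) : ∀ x ∈ lim β L, ∀ y ∈ lim β L, x * y = 0 := by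
  rintro _ ⟨n, P, hP, hn, rfl⟩ _ ⟨m, Q, hQ, hm, rfl⟩
  have hPQ : P * Q = 0 := Polynomial.ext fun k => by
    rw [coeff_mul, coeff_zero]; exact Finset.sum_eq_zero fun i _ => hL _ (hP _) _ (hQ _)
  have : tw β P * tw β Q = 0 := by
    calc tw β P * tw β Q = (1 + C β * X) * P * ((1 - C β * X) * (1 + C β * X)) * Q * (1 - C β * X) := by
          simp only [tw_apply, mul_assoc]
      _ = (1 + C β * X) * (P * Q) * (1 - C β * X) := by
          rw [(inv_mul_twist hβ).1, mul_one]; simp only [mul_assoc]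
      _ = 0 := by rw [hPQ]; simp
  rw [← coeff_mul_top hn hm, this, coeff_zero]

theorem lim_mul_limL {β : R} (hβ : β * β = 0) {L W : AddSubgroup R}
    (hL : ∀ x ∈ L, ∀ y ∈ W, x * y = 0) : ∀ x ∈ lim β L, ∀ y ∈ limL β W, x * y = 0 := by
  rintro _ ⟨n, P, hP, hn, rfl⟩ _ ⟨m, Q, hQ, hm, rfl⟩
  have hPQ : P * Q = 0 := Polynomial.ext fun k => by
    rw [coeff_mul, coeff_zero]; exact Finset.sum_eq_zero fun i _ => hL _ (hP _) _ (hQ _)
  have : tw β P * twL β Q = 0 := by
    calc tw β P * twL β Q = (1 + C β * X) * P * ((1 - C β * X) * (1 + C β * X)) * Q := by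
          simp only [tw_apply, twL_apply, mul_assoc]
      _ = 0 := by rw [(inv_mul_twist hβ).1, mul_one, mul_assoc, hPQ, mul_zero]
  rw [← coeff_mul_top hn hm, this, coeff_zero]

/-- The right annihilator. -/
def ann (L : AddSubgroup R) : AddSubgroup R where
  carrier := {w | ∀ x ∈ L, x * w = 0}
  zero_mem' := fun x _ => mul_zero x
  add_mem' := fun ha hb x hx => by rw [mul_add, ha x hx, hb x hx, add_zero]
  neg_mem' := fun ha x hx => by rw [mul_neg, ha x hx, neg_zero]

theorem card_ann_le [Finite R] {β : R} (hβ : β * β = 0) (L : AddSubgroup R) :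
    Nat.card (ann L) ≤ Nat.card (ann (lim β L)) :=
  (card_le_limL hβ _).trans (AddSubgroup.card_le_of_le fun y hy x hx =>
    lim_mul_limL hβ (L := L) (W := ann L) (fun a ha b hb => hb a ha) x hx y hy)

/-- The limit stays in a subgroup containing the coefficients of the twist. -/
theorem lim_le {β : R} {L M : AddSubgroup R}
    (h : ∀ x ∈ L, x ∈ M ∧ β * x - x * β ∈ M ∧ β * x * β ∈ M) : lim β L ≤ M := by
  rintro _ ⟨n, P, hP, -, rfl⟩
  rcases n with _ | k
  · rw [tw_coeff_zero]; exact (h _ (hP 0)).1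
  rw [tw_coeff_succ]
  refine M.sub_mem (M.add_mem (h _ (hP _)).1 (h _ (hP _)).2.1) ?_
  split_ifs
  exacts [(h _ (hP _)).2.2, M.zero_mem]

theorem le_lim_of_stable {β : R} (hβ : β * β = 0) {L : AddSubgroup R}
    (h : ∀ x ∈ L, β * x - x * β ∈ L ∧ β * x * β ∈ L) : L ≤ lim β L := by
  intro x hx
  have he : tw β (tw (-β) (C x)) = C x := by
    simp only [tw_apply, map_neg, neg_mul, ← sub_eq_add_neg, sub_neg_eq_add]
    calc _ = ((1 + C β * X) * (1 - C β * X)) * C x * ((1 + C β * X) * (1 - C β * X)) := by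
          simp only [mul_assoc]
      _ = _ := by rw [(inv_mul_twist hβ).2, one_mul, mul_one]
  refine mem_lim (n := 0) (P := tw (-β) (C x)) (fun k => ?_) (fun k hk => ?_) ?_
  · have hc : ∀ i, (C x).coeff i ∈ L := fun i => by
      rw [coeff_C]; split_ifs
      exacts [hx, L.zero_mem]
    rcases k with _ | k
    · rw [tw_coeff_zero]; exact hc 0
    rw [tw_coeff_succ]
    refine L.sub_mem (L.add_mem (hc _) ?_) ?_
    · simpa [neg_mul, mul_neg, sub_eq_add_neg, add_comm] using L.neg_mem (h _ (hc k)).1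
    · split_ifs
      · simpa using (h _ (hc (k - 1))).2
      · exact L.zero_mem
  · rw [he, coeff_C, if_neg (by omega)]
  · rw [he, coeff_C, if_pos rfl]

theorem quad_mem_lim {β : R} (hβ : β * β = 0) {L L' : AddSubgroup R} (hle : L' ≤ L) {x : R} (hx : x ∈ L) :
    β * x * β ∈ lim β L ∧ (β * x * β ∈ L' → β * x - x * β ∈ lim β L) := by
  refine ⟨?_, fun hH => ?_⟩
  · rw [← neg_mem_iff]
    refine mem_lim (n := 2) (P := C x) (fun k => ?_) (fun k hk => ?_) ?_
    · rw [coeff_C]; split_ifs
      exacts [hx, L.zero_mem]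
    · obtain ⟨k, rfl⟩ := Nat.exists_eq_succ_of_ne_zero (by omega : k ≠ 0)
      rw [tw_coeff_succ, coeff_C, coeff_C, if_neg (by omega), if_neg (by omega), if_pos (by omega),
        coeff_C, if_neg (by omega)]
      simp
    · rw [show (2 : ℕ) = 1 + 1 from rfl, tw_coeff_succ]; simp [coeff_C]
  · set y := β * x * β with hy
    have hy' : β * y - y * β = 0 ∧ β * y * β = 0 := by
      simp [hy, mul_assoc, hβ, ← mul_assoc β β]
    refine mem_lim (n := 1) (P := C x + C y * X ^ 2) (fun k => ?_) (fun k hk => ?_) ?_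
    · rw [coeff_add, coeff_C, coeff_C_mul_X_pow]
      refine L.add_mem ?_ ?_
      · split_ifs
        exacts [hx, L.zero_mem]
      · split_ifs
        exacts [hle hH, L.zero_mem]
    · obtain ⟨k, rfl⟩ := Nat.exists_eq_succ_of_ne_zero (by omega : k ≠ 0)
      rw [tw_coeff_succ]
      simp only [coeff_add, coeff_C, coeff_C_mul_X_pow, if_pos (show 1 ≤ k by omega)]
      rcases (show k = 1 ∨ k = 2 ∨ k = 3 ∨ 4 ≤ k by omega) with rfl | rfl | rfl | h4
      · simp [hy]
      · simp [hy'.1]
      · simp [hy'.2]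
      · simp [show k + 1 ≠ 0 by omega, show k ≠ 0 by omega, show k - 1 ≠ 0 by omega,
          show k + 1 ≠ 2 by omega, show k ≠ 2 by omega, show k - 1 ≠ 2 by omega]
    · rw [show (1 : ℕ) = 0 + 1 from rfl, tw_coeff_succ]
      simp [coeff_add, coeff_C, coeff_C_mul_X_pow]

theorem stable_lim {β : R} (hβ : β * β = 0) {L : AddSubgroup R} (h : ∀ x ∈ L, β * x - x * β ∈ L)
    (hhalf : ∀ M : AddSubgroup R, ∀ x, x + x ∈ M → x ∈ M) :
    ∀ x ∈ L, β * x - x * β ∈ L ∧ β * x * β ∈ L := fun x hx => ⟨h x hx, hhalf L _ (by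
  have := h _ (h x hx)
  have e : β * (β * x - x * β) - (β * x - x * β) * β = -(β * x * β + β * x * β) := by
    simp only [mul_sub, sub_mul, ← mul_assoc, hβ, zero_mul]
    simp only [mul_assoc, hβ, mul_zero]
    abel
  rwa [e, neg_mem_iff] at this)⟩

end Cfsg.Agent.Solv.OffLim
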