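import Cfsg.Prelude
import Cfsg.Agent.S3736
import Cfsg.Agent.S0001
import Cfsg.Agent.Lib.Solv.HallHigman
import Cfsg.Agent.Lib.Solv.PLength
import Cfsg.Agent.Lib.Solv.PSolvHall

/-!
Groups whose automorphisms permute the subgroups of order `p` transitively: the elements of order `p`
are central in `O_p`, and a complement of `O_p` in `O_{p,p'}` is centralized by all or none of them.
-/

set_option autoImplicit false
set_option linter.style.haveILetI false
open Cfsg

open scoped Pointwise commutatorElement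

namespace Cfsg.Agent.Solv.OmegaSplit

/-- `O_{p,p'}`. -/
def pp' (p : ℕ) (G : Type*) [Group G] [Finite G] [Fact p.Prime] : Subgroup G :=
  haveI := pCore_normal (G := G) p
  (pPrimeCore p (G ⧸ pCore p G)).comap (QuotientGroup.mk' (pCore p G))

variable {G : Type*} [Group G] [Finite G] {p : ℕ} [Fact p.Prime]

theorem map_pp' (a : MulAut G) : (pp' p G).map a.toMonoidHom = pp' p G := by
  haveI := pCore_normal (G := G) p
  have hmap : (pCore p G).map (a : G →* G) = pCore p G := Fusion.map_pCore_equiv a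
  set β := QuotientGroup.congr (pCore p G) (pCore p G) a hmap with hβ
  have h1 : (pPrimeCore p (G ⧸ pCore p G)).map β.toMonoidHom = pPrimeCore p (G ⧸ pCore p G) :=
    Fusion.map_pPrimeCore_equiv β
  have key : ∀ x : G, x ∈ pp' p G → a x ∈ pp' p G := by
    intro x hx
    show QuotientGroup.mk (a x) ∈ pPrimeCore p (G ⧸ pCore p G)
    rw [← h1]
    exact ⟨QuotientGroup.mk x, hx, QuotientGroup.congr_mk (pCore p G) (pCore p G) a hmap x⟩
  refine Subgroup.eq_of_le_of_card_ge ?_ ?_
  · rintro _ ⟨x, hx, rfl⟩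
    exact key x hx
  · exact (Nat.card_congr ((pp' p G).equivMapOfInjective a.toMonoidHom a.injective).toEquiv).le

theorem pCore_le_pp' : pCore p G ≤ pp' p G := by
  haveI := pCore_normal (G := G) p
  intro x hx
  show QuotientGroup.mk x ∈ pPrimeCore p (G ⧸ pCore p G)
  rw [(QuotientGroup.eq_one_iff x).2 hx]
  exact one_mem _

theorem pp'_normal : (pp' p G).Normal := by
  haveI := pCore_normal (G := G) p
  haveI := pPrimeCore_normal (G := G ⧸ pCore p G) p
  exact Subgroup.Normal.comap inferInstance _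

/-- Elements of order `p`, each moved into the cyclic group of any other by an automorphism. -/
def Trans (p : ℕ) (G : Type*) [Group G] : Prop :=
  ∀ x y : G, orderOf x = p → orderOf y = p → ∃ a : MulAut G, a y ∈ Subgroup.zpowers x

/-- A subgroup invariant under automorphisms containing one element of order `p` contains all. -/
theorem mem_of_invariant (htr : Trans p G) (T : Subgroup G)
    (hT : ∀ a : MulAut G, ∀ x ∈ T, a x ∈ T) {z : G} (hz : z ∈ T) (hzo : orderOf z = p)
    {x : G} (hx : orderOf x = p) : x ∈ T := by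
  obtain ⟨a, ha⟩ := htr x z hx hzo
  have h1 : a z ≠ 1 := fun h => by
    have h2 : z = 1 := a.injective (h.trans (map_one a).symm)
    rw [h2, orderOf_one] at hzo
    exact (Fact.out : p.Prime).one_lt.ne hzo
  have h2 : Subgroup.zpowers x ≤ T := by
    have h3 : Subgroup.zpowers (a z) = Subgroup.zpowers x := by
      refine Subgroup.eq_of_le_of_card_ge (Subgroup.zpowers_le.2 ha) ?_
      rw [Nat.card_zpowers, Nat.card_zpowers, hx, MulEquiv.orderOf_eq, hzo]
    rw [← h3]
    exact Subgroup.zpowers_le.2 (hT a z hz)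
  exact h2 (Subgroup.mem_zpowers x)

/-- All elements of order `p` are central in `O_p`. -/
theorem order_p_central (hsolv : Cfsg.IsPSolvable p G) (hbot : pPrimeCore p G = ⊥) (htr : Trans p G)
    {x : G} (hx : orderOf x = p) : x ∈ pCore p G ⊓ Subgroup.centralizer (pCore p G : Set G) := by
  have hp : p.Prime := Fact.out
  set P1 := pCore p G with hP1
  have hPG : IsPGroup p P1 := pCore_isPGroup p
  haveI := pCore_normal (G := G) p
  have hne : P1 ≠ ⊥ := by
    intro h
    have h1 := centralizer_pPrimeCore_le hsolv h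
    rw [hbot] at h1
    have h2 : x ∈ (⊥ : Subgroup G) := h1 (Subgroup.mem_centralizer_iff.2 fun y hy => by
      rw [show y = 1 from Subgroup.mem_bot.1 hy, one_mul, mul_one])
    rw [Subgroup.mem_bot.1 h2, orderOf_one] at hx
    exact hp.one_lt.ne hx
  haveI : Nontrivial P1 := (Subgroup.nontrivial_iff_ne_bot P1).2 hne
  haveI := hPG.center_nontrivial
  obtain ⟨k, hk⟩ := IsPGroup.iff_card.1 (hPG.to_subgroup (Subgroup.center P1))
  have hk0 : k ≠ 0 := by
    intro h
    rw [h, pow_zero] at hk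
    exact absurd hk (Finite.one_lt_card (α := Subgroup.center P1)).ne'
  obtain ⟨z, hz⟩ := exists_prime_orderOf_dvd_card' (G := Subgroup.center P1) p (hk ▸ dvd_pow_self p hk0)
  refine mem_of_invariant htr _ ?_ (z := ((z : P1) : G)) ?_ ?_ hx
  · intro a y hy
    obtain ⟨hy1, hy2⟩ := Subgroup.mem_inf.1 hy
    have hmap : (pCore p G).map a.toMonoidHom = pCore p G := Fusion.map_pCore_equiv a
    refine Subgroup.mem_inf.2 ⟨hmap.le ⟨y, hy1, rfl⟩, Subgroup.mem_centralizer_iff.2 fun w hw => ?_⟩
    obtain ⟨v, hv, rfl⟩ := hmap.ge hw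
    show a v * a y = a y * a v
    rw [← map_mul, Subgroup.mem_centralizer_iff.1 hy2 v hv, map_mul]
  · exact Subgroup.mem_inf.2 ⟨(z : P1).2, Subgroup.mem_centralizer_iff.2 fun w hw =>
      congrArg Subtype.val (Subgroup.mem_center_iff.1 z.2 ⟨w, hw⟩)⟩
  · rw [← hz, Subgroup.orderOf_coe, Subgroup.orderOf_coe]

/-- A complement `H` of `O_p` in `O_{p,p'}` with its Frattini factorisation. -/
theorem exists_complement (hsolv : Cfsg.IsPSolvable p G) (hbot : pPrimeCore p G = ⊥)
    (hidx : ¬ (pCore p G).index.Coprime p) :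
    ∃ H : Subgroup G, (Nat.card H).Coprime p ∧ H ≠ ⊥ ∧ H ≤ pp' p G ∧
      (∀ m ∈ pp' p G, ∃ u ∈ pCore p G, ∃ h ∈ H, m = u * h) ∧
      (∀ g : G, ∃ u ∈ pCore p G, ∃ n ∈ Subgroup.normalizer (H : Set G), g = u * n) ∧
      (pCore p G ⊓ Subgroup.normalizer (H : Set G) ≤ Subgroup.centralizer (H : Set G)) ∧
      ∀ n ∈ Subgroup.normalizer (H : Set G), n ∈ pp' p G → ∃ u ∈ pCore p G ⊓ Subgroup.normalizer (H : Set G),
        ∃ h ∈ H, n = u * h := by
  have hp : p.Prime := Fact.out
  haveI := pCore_normal (G := G) p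
  haveI hMn := pp'_normal (G := G) (p := p)
  set P1 := pCore p G with hP1
  set M := pp' p G with hM
  have hPM : P1 ≤ M := pCore_le_pp'
  set K := pPrimeCore p (G ⧸ P1) with hK
  have hidxK : (P1.subgroupOf M).index = Nat.card K := by
    show P1.relIndex M = _
    have h1 := PLen.comap_relIndex_eq (N := P1) ⊥ K
    rw [MonoidHom.comap_bot, QuotientGroup.ker_mk', Subgroup.relIndex_bot_left] at h1
    exact h1
  obtain ⟨k, hk⟩ := IsPGroup.iff_card.1 (pCore_isPGroup (G := G) p)
  have hcop : (Nat.card (P1.subgroupOf M)).Coprime (P1.subgroupOf M).index := by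
    rw [hidxK, card_subgroupOf hPM, hk]
    exact Nat.Coprime.pow_left k (pPrimeCore_coprime (G := G ⧸ P1) p).symm
  obtain ⟨H0, hH0⟩ := Subgroup.exists_right_complement'_of_coprime hcop
  set H := H0.map M.subtype with hH
  have hHM : H ≤ M := Subgroup.map_subtype_le H0
  have hHcard : Nat.card H = Nat.card K := by
    rw [hH, Subgroup.card_map_of_injective M.subtype_injective, ← hidxK,
      hH0.symm.index_eq_card]
  have hdec : ∀ m ∈ M, ∃ u ∈ P1, ∃ h ∈ H, m = u * h := by
    intro m hm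
    obtain ⟨⟨u, h⟩, huh⟩ := hH0.2 (⟨m, hm⟩ : M)
    exact ⟨_, Subgroup.mem_subgroupOf.1 u.2, _, ⟨h, h.2, rfl⟩, (congrArg Subtype.val huh).symm⟩
  have hdisj : ∀ u ∈ P1, u ∈ H → u = 1 := by
    intro u hu hu'
    obtain ⟨v, hv, rfl⟩ := hu'
    have : v ∈ P1.subgroupOf M ⊓ H0 := Subgroup.mem_inf.2 ⟨Subgroup.mem_subgroupOf.2 hu, hv⟩
    rw [hH0.disjoint.eq_bot, Subgroup.mem_bot] at this
    rw [this, map_one]
  have hnorm : ∀ g : G, ∃ u ∈ P1, ∃ n ∈ Subgroup.normalizer (H : Set G), g = u * n := by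
    intro g
    have hgH : MulAut.conj g • H ≤ M := by
      intro x hx
      rw [mem_conj_smul] at hx
      simpa [mul_assoc] using hMn.conj_mem _ (hHM hx) g
    have hK0 : Subgroup.IsComplement' (P1.subgroupOf M) ((MulAut.conj g • H).subgroupOf M) := by
      refine Subgroup.isComplement'_of_coprime ?_ ?_
      · rw [card_subgroupOf hgH, card_conj_smul, hHcard, ← hidxK, Subgroup.card_mul_index]
      · rw [card_subgroupOf hgH, card_conj_smul, hHcard, ← hidxK]
        exact hcop
    haveI : Group.IsNilpotent (P1.subgroupOf M) :=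
      ((pCore_isPGroup (G := G) p).of_equiv (Subgroup.subgroupOfEquivOfLe hPM).symm).isNilpotent
    obtain ⟨m, hm⟩ := S0001.result (P1.subgroupOf M) hcop (Or.inl inferInstance) H0 _ hH0 hK0
    have h1 : MulAut.conj (m : G) • H = MulAut.conj g • H := by
      have h2 := congrArg (Subgroup.map M.subtype) hm
      rwa [map_conj_smul, Subgroup.map_subgroupOf_eq_of_le hgH] at h2
    obtain ⟨u, hu, h, hh, hmuh⟩ := hdec m m.2
    refine ⟨u, hu, u⁻¹ * g, mem_normalizer_of_conj_smul ?_, by group⟩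
    rw [← conj_smul_conj, ← h1, conj_smul_conj, hmuh, inv_mul_cancel_left]
    exact conj_smul_of_mem_normalizer (Subgroup.le_normalizer hh)
  refine ⟨H, hHcard ▸ pPrimeCore_coprime p, ?_, hHM, hdec, hnorm, ?_, ?_⟩
  · intro h
    have hK0 : pPrimeCore p (G ⧸ P1) = ⊥ := Subgroup.eq_bot_of_card_eq _ (by rw [← hK, ← hHcard, h, Subgroup.card_bot])
    have hps : Cfsg.IsPSolvable p (G ⧸ P1) :=
      isPSolvable_map hp hsolv (QuotientGroup.mk' P1) (QuotientGroup.mk'_surjective P1)
    have h1 := centralizer_pPrimeCore_le hps Fusion.pCore_quotient_eq_bot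
    rw [hK0] at h1
    have h2 : (⊤ : Subgroup (G ⧸ P1)) ≤ ⊥ := fun y _ => h1 (Subgroup.mem_centralizer_iff.2 fun v hv => by
      rw [show v = 1 from Subgroup.mem_bot.1 hv, one_mul, mul_one])
    apply hidx
    rw [Subgroup.index_eq_card, ← Subgroup.card_top, eq_bot_iff.2 h2, Subgroup.card_bot]
    exact Nat.coprime_one_left p
  · intro u hu
    obtain ⟨hu1, hu2⟩ := Subgroup.mem_inf.1 hu
    refine Subgroup.mem_centralizer_iff.2 fun h hh => ?_
    have h1 : u * h * u⁻¹ * h⁻¹ = 1 := by
      refine hdisj _ ?_ (H.mul_mem ((Subgroup.mem_normalizer_iff.1 hu2 h).1 hh) (H.inv_mem hh))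
      have := P1.mul_mem hu1 ((pCore_normal (G := G) p).conj_mem _ (P1.inv_mem hu1) h)
      simpa [mul_assoc] using this
    rw [mul_inv_eq_one, mul_inv_eq_iff_eq_mul] at h1
    exact h1.symm
  · intro n hn hnM
    obtain ⟨u, hu, h, hh, rfl⟩ := hdec n hnM
    refine ⟨u, Subgroup.mem_inf.2 ⟨hu, ?_⟩, h, hh, rfl⟩
    have := Subgroup.mul_mem _ hn (Subgroup.inv_mem _ (Subgroup.le_normalizer hh))
    simpa using this

/-- If no element of order `p` centralizes `H`, the element of order `p` outside `O_p` gives a contradiction. -/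
theorem exists_centralizing (hsolv : Cfsg.IsPSolvable p G) (hbot : pPrimeCore p G = ⊥) (htr : Trans p G)
    {H : Subgroup G} (hidx : ¬ (pCore p G).index.Coprime p) (hHM : H ≤ pp' p G)
    (hdec : ∀ m ∈ pp' p G, ∃ u ∈ pCore p G, ∃ h ∈ H, m = u * h)
    (hnorm : ∀ g : G, ∃ u ∈ pCore p G, ∃ n ∈ Subgroup.normalizer (H : Set G), g = u * n)
    (hcent : pCore p G ⊓ Subgroup.normalizer (H : Set G) ≤ Subgroup.centralizer (H : Set G))
    {x : G} (hx : orderOf x = p) : x ∈ Subgroup.centralizer (H : Set G) := by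
  have hp : p.Prime := Fact.out
  haveI := pCore_normal (G := G) p
  set N := Subgroup.normalizer (H : Set G) with hN
  have hmap : N.map (QuotientGroup.mk' (pCore p G)) = ⊤ := by
    refine eq_top_iff.2 fun y _ => ?_
    obtain ⟨g, rfl⟩ := QuotientGroup.mk_surjective y
    obtain ⟨u, hu, n, hn, rfl⟩ := hnorm g
    refine ⟨n, hn, ?_⟩
    show (n : G ⧸ pCore p G) = ((u * n : G) : G ⧸ pCore p G)
    rw [QuotientGroup.mk_mul, (QuotientGroup.eq_one_iff u).2 hu, one_mul]
  have hdvd : p ∣ Nat.card N := by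
    have h1 := card_map_mk'_dvd (pCore p G) N
    rw [hmap, Subgroup.card_top, ← Subgroup.index_eq_card] at h1
    exact (not_not.1 fun h => hidx ((hp.coprime_iff_not_dvd.2 h).symm)).trans h1
  obtain ⟨z, hz⟩ := exists_prime_orderOf_dvd_card' (G := N) p hdvd
  have hzo : orderOf (z : G) = p := by rw [Subgroup.orderOf_coe]; exact hz
  have hzP := (Subgroup.mem_inf.1 (order_p_central hsolv hbot htr hzo)).1
  have hzH : (z : G) ∈ Subgroup.centralizer (H : Set G) := hcent (Subgroup.mem_inf.2 ⟨hzP, z.2⟩)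
  have hzM : (z : G) ∈ Subgroup.centralizer (pp' p G : Set G) := by
    refine Subgroup.mem_centralizer_iff.2 fun m hm => ?_
    obtain ⟨u, hu, h, hh, rfl⟩ := hdec m hm
    have h1 := Subgroup.mem_centralizer_iff.1 (Subgroup.mem_inf.1 (order_p_central hsolv hbot htr hzo)).2 u hu
    rw [mul_assoc, Subgroup.mem_centralizer_iff.1 hzH h hh, ← mul_assoc, h1, mul_assoc]
  have hxM := mem_of_invariant htr (Subgroup.centralizer (pp' p G : Set G)) (fun a y hy => by
    refine Subgroup.mem_centralizer_iff.2 fun w hw => ?_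
    obtain ⟨v, hv, rfl⟩ := (map_pp' (G := G) (p := p) a).ge hw
    show a v * a y = a y * a v
    rw [← map_mul, Subgroup.mem_centralizer_iff.1 hy v hv, map_mul]) hzM hzo hx
  exact Subgroup.mem_centralizer_iff.2 fun h hh => Subgroup.mem_centralizer_iff.1 hxM h (hHM hh)

omit [Finite G] in
theorem orderOf_eq_of_pow {x : G} (hx : x ^ p = 1) (hx1 : x ≠ 1) : orderOf x = p :=
  orderOf_eq_prime hx hx1

/-- For odd `p`, a group of order prime to `p` centralizing the elements of order `p` centralizes the `p`-group. -/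
theorem centralizes_of_omega (hp2 : p ≠ 2) (A : Subgroup G) (hA : (Nat.card A).Coprime p) :
    ∀ (n : ℕ) (U : Subgroup G), Nat.card U = n → IsPGroup p U → A ≤ Subgroup.normalizer (U : Set G) →
      (∀ x ∈ U, x ^ p = 1 → x ∈ Subgroup.centralizer (A : Set G)) → ⁅U, A⁆ = ⊥ := by
  intro n
  induction n using Nat.strong_induction_on with
  | _ n ih =>
  intro U hn hU hAU hfix
  by_contra hne
  have hmin : ∀ V : Subgroup G, V < U → A ≤ Subgroup.normalizer (V : Set G) → ⁅V, A⁆ = ⊥ := fun V hV hAV =>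
    ih _ (hn ▸ card_lt_of_lt hV) V rfl (hU.to_le hV.le) hAV fun x hx h => hfix x (hV.le hx) h
  obtain ⟨-, -, -, h4⟩ := S3736.result A A U hU hAU le_rfl Subgroup.le_normalizer hA hne hmin
  exact hne (Subgroup.commutator_eq_bot_iff_le_centralizer.2 fun x hx => hfix x hx (h4 hp2 x hx))

end Cfsg.Agent.Solv.OmegaSplit
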