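import Cfsg.Agent.Lib.Solv.CaminaClassTwo
import Cfsg.Agent.Lib.Solv.FpfFourSolvable
import Cfsg.Agent.Lib.Solv.ThompsonFPF
import Cfsg.Agent.Lib.Char.Central
import Cfsg.Agent.Lib.Fusion.TransferSplit

/-!
# The group theory of an element on which a single nonlinear irreducible character is nonzero

If `N ≤ G'` is normal, `G' \ N` is one conjugacy class, and every element of `G/N` outside `G'/N`
has centralizer order `[G : G']`, then `G` is solvable.
-/

set_option autoImplicit false
set_option linter.unusedSectionVars false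
set_option linter.style.haveILetI false

open scoped commutatorElement

namespace Cfsg.Agent.Solv.OneClass

universe u

variable {G : Type u} [Group G] [Finite G]

/-- The hypotheses. -/
structure Data (N : Subgroup G) [N.Normal] (g : G) : Prop where
  le : N ≤ commutator G
  mem : g ∈ commutator G
  nmem : g ∉ N
  union : ∀ x ∈ commutator G, x ∈ N ∨ IsConj g x
  cent : ∀ x ∉ commutator G,
    Nat.card (Subgroup.centralizer ({(x : G ⧸ N)} : Set (G ⧸ N))) = (commutator G).index

variable {N : Subgroup G} [N.Normal] {g : G}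

namespace Data

variable (d : Data N g)
include d

theorem mem_of_conj {x : G} (h : IsConj g x) : x ∈ commutator G ∧ x ∉ N := by
  obtain ⟨y, rfl⟩ := isConj_iff.1 h
  refine ⟨(inferInstance : (commutator G).Normal).conj_mem _ d.mem y, fun hy => d.nmem ?_⟩
  have := (inferInstance : N.Normal).conj_mem _ hy y⁻¹
  simpa [mul_assoc] using this

/-- The class of `g` fills `G' \ N`. -/
theorem card_class :
    Nat.card {x : G // IsConj g x} + Nat.card N = Nat.card (commutator G) := by
  classical
  let e : {x : G // IsConj g x} ⊕ N ≃ commutator G := Equiv.ofBijective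
    (Sum.elim (fun x => ⟨x, (d.mem_of_conj x.2).1⟩) (fun x => ⟨x, d.le x.2⟩)) ⟨?_, ?_⟩
  · rw [← Nat.card_sum]
    exact Nat.card_congr e
  · rintro (⟨a, ha⟩ | ⟨a, ha⟩) (⟨b, hb⟩ | ⟨b, hb⟩) h <;>
      simp only [Sum.elim_inl, Sum.elim_inr, Subtype.mk.injEq] at h <;> subst h
    · rfl
    · exact absurd hb (d.mem_of_conj ha).2
    · exact absurd ha (d.mem_of_conj hb).2
    · rfl
  · rintro ⟨x, hx⟩
    rcases d.union x hx with h | h
    · exact ⟨Sum.inr ⟨x, h⟩, rfl⟩
    · exact ⟨Sum.inl ⟨x, h⟩, rfl⟩

theorem m_ge_two : 2 ≤ N.relIndex (commutator G) := by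
  rcases Nat.lt_or_ge (N.relIndex (commutator G)) 2 with h | h
  · interval_cases hm : N.relIndex (commutator G)
    · exact absurd hm Subgroup.index_ne_zero_of_finite
    · exact absurd (Subgroup.relIndex_eq_one.1 hm d.mem) d.nmem
  · exact h

/-- The centraliser order of `g`. -/
theorem card_cent : Nat.card (Subgroup.centralizer ({g} : Set G)) * (N.relIndex (commutator G) - 1) =
    (commutator G).index * N.relIndex (commutator G) := by
  have h1 := d.card_class
  have h2 := Cfsg.Agent.Char.card_conjClass_mul_centralizer g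
  have h3 := (commutator G).card_mul_index
  have h4 : Nat.card (commutator G) = Nat.card N * N.relIndex (commutator G) := by
    rw [← (N.subgroupOf (commutator G)).card_mul_index,
      Nat.card_congr (Subgroup.subgroupOfEquivOfLe d.le).toEquiv]
    rfl
  obtain ⟨m, hm⟩ : ∃ m, N.relIndex (commutator G) = m + 1 := ⟨_, (Nat.succ_pred_eq_of_pos (by
    have := d.m_ge_two; omega)).symm⟩
  rw [hm] at h4 ⊢
  rw [Nat.add_sub_cancel]
  have hcl : Nat.card {x : G // IsConj g x} = Nat.card N * m := by
    rw [h4, Nat.mul_succ] at h1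
    omega
  refine Nat.eq_of_mul_eq_mul_left (Nat.card_pos (α := N)) ?_
  rw [← h3, h4, hcl] at h2
  linarith

/-- The prime. -/
theorem exists_prime : ∃ p : ℕ, p.Prime ∧ ∀ a ∈ commutator G, a ^ p ∈ N := by
  set π := QuotientGroup.mk' N
  have hg1 : orderOf (π g) ≠ 1 := fun h => d.nmem ((QuotientGroup.eq_one_iff g).1 (orderOf_eq_one_iff.1 h))
  obtain ⟨p, hp, hpd⟩ := Nat.exists_prime_and_dvd hg1
  refine ⟨p, hp, fun a ha => ?_⟩
  obtain ⟨k, hk⟩ := hpd
  have hkey : IsConj g (g ^ k) := by
    refine (d.union _ ((commutator G).pow_mem d.mem k)).resolve_left fun h => ?_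
    have h1 : (π g) ^ k = 1 := by rw [← map_pow]; exact (QuotientGroup.eq_one_iff _).2 h
    have hk0 : 0 < k := Nat.pos_of_ne_zero fun h0 => (orderOf_pos (π g)).ne' (by rw [hk, h0, mul_zero])
    have := Nat.le_of_dvd hk0 (orderOf_dvd_of_pow_eq_one h1)
    rw [hk] at this
    nlinarith [hp.two_le]
  obtain ⟨y, hy⟩ := isConj_iff.1 hkey
  have hord : orderOf (π g) = p := by
    refine orderOf_eq_prime (hp := ⟨hp⟩) ?_ fun h => d.nmem ((QuotientGroup.eq_one_iff g).1 h)
    have h1 : (π (g ^ k)) ^ p = 1 := by rw [map_pow, ← pow_mul, mul_comm, ← hk, pow_orderOf_eq_one]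
    rw [← hy, map_mul, map_mul, map_inv, conj_pow, mul_inv_eq_one, mul_eq_left] at h1
    exact h1
  rw [← QuotientGroup.eq_one_iff, ← QuotientGroup.mk'_apply, map_pow]
  rcases d.union a ha with h | h
  · rw [show π a = 1 from (QuotientGroup.eq_one_iff a).2 h, one_pow]
  · obtain ⟨z, rfl⟩ := isConj_iff.1 h
    rw [map_mul, map_mul, map_inv, conj_pow, ← hord, pow_orderOf_eq_one, mul_one, mul_inv_cancel]

omit [Finite G] in
/-- The image of a commutator. -/
theorem mk_mem_iff (x : G) :
    (x : G ⧸ N) ∈ (commutator G).map (QuotientGroup.mk' N) ↔ x ∈ commutator G := by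
  refine ⟨fun ⟨y, hy, h⟩ => ?_, fun h => ⟨x, h, rfl⟩⟩
  rw [QuotientGroup.mk'_apply, QuotientGroup.eq] at h
  simpa [mul_assoc] using (commutator G).mul_mem hy (d.le h)

/-- `G'/N` is abelian. -/
theorem comm_le {a b : G} (ha : a ∈ commutator G) (hb : b ∈ commutator G) : ⁅a, b⁆ ∈ N := by
  obtain ⟨p, hp, hexp⟩ := d.exists_prime
  haveI : Fact p.Prime := ⟨hp⟩
  set π := QuotientGroup.mk' N
  set V := (commutator G).map π with hV
  by_contra hne
  have hVp : IsPGroup p V := by
    rintro ⟨v, a, ha, rfl⟩
    refine ⟨1, Subtype.ext ?_⟩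
    rw [pow_one, Subgroup.coe_pow, Subgroup.coe_one, ← map_pow]
    exact (QuotientGroup.eq_one_iff _).2 (hexp a ha)
  haveI := hVp.isNilpotent
  haveI : Nontrivial V := ⟨⟨⟨π g, g, d.mem, rfl⟩, 1, fun h =>
    d.nmem ((QuotientGroup.eq_one_iff g).1 (congrArg Subtype.val h))⟩⟩
  set W := ⁅commutator G, commutator G⁆ ⊔ N with hW
  haveI : W.Normal := inferInstance
  have hab : ⁅a, b⁆ ∈ W := (le_sup_left : ⁅commutator G, commutator G⁆ ≤ W) (Subgroup.commutator_mem_commutator ha hb)
  have hconj : IsConj g ⁅a, b⁆ :=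
    (d.union _ (Subgroup.commutator_mem_commutator (Subgroup.mem_top a) (Subgroup.mem_top b))).resolve_left hne
  have hall : commutator G ≤ W := by
    intro x hx
    rcases d.union x hx with h | h
    · exact (le_sup_right : N ≤ W) h
    · obtain ⟨y, hy⟩ := isConj_iff.1 (hconj.symm.trans h)
      rw [← hy]
      exact (inferInstance : W.Normal).conj_mem _ hab y
  refine (Group.IsSolvable.commutator_lt_top_of_nontrivial V).ne ?_
  refine Subgroup.map_injective V.subtype_injective ?_
  rw [commutator_def V, Subgroup.map_commutator, ← MonoidHom.range_eq_map, Subgroup.range_subtype]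
  refine le_antisymm (Subgroup.commutator_le_self V) ?_
  rw [hV, ← Subgroup.map_commutator]
  refine (Subgroup.map_mono hall).trans ?_
  rw [hW, Subgroup.map_sup, QuotientGroup.map_mk'_self, sup_bot_eq]

/-- If `[G' : N] = 2`, then `G'/N` is central. -/
theorem central_two (hm : N.relIndex (commutator G) = 2) {a : G} (ha : a ∈ commutator G) (s : G) :
    ⁅s, a⁆ ∈ N := by
  by_cases haN : a ∈ N
  · have := N.mul_mem ((inferInstance : N.Normal).conj_mem _ haN s) (N.inv_mem haN)
    simpa [commutatorElement_def] using this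
  · have h1 : s * a * s⁻¹ ∉ N := fun h => haN (by
      simpa [mul_assoc] using (inferInstance : N.Normal).conj_mem _ h s⁻¹)
    have h2 := (Subgroup.mul_mem_iff_of_index_two (H := N.subgroupOf (commutator G)) hm
      (a := ⟨s * a * s⁻¹, (inferInstance : (commutator G).Normal).conj_mem _ ha s⟩) (b := ⟨a, ha⟩⁻¹)).2
      (iff_of_false h1 fun h => haN (by
        rw [Subgroup.mem_subgroupOf, Subgroup.coe_inv] at h
        exact inv_mem_iff.1 h))
    rw [Subgroup.mem_subgroupOf] at h2
    simpa [commutatorElement_def] using h2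

/-- No element outside `G'` is central modulo `N`. -/
theorem exists_noncomm {x : G} (hx : x ∉ commutator G) : ∃ y : G, ⁅y, x⁆ ∉ N := by
  by_contra h
  push Not at h
  have h2 : Subgroup.centralizer ({(x : G ⧸ N)} : Set (G ⧸ N)) = ⊤ := by
    rw [eq_top_iff]
    intro z _
    induction z using QuotientGroup.induction_on with | H z =>
    rw [Subgroup.mem_centralizer_singleton_iff, ← QuotientGroup.mk_mul, ← QuotientGroup.mk_mul, eq_comm,
      QuotientGroup.eq]
    have h3 := (inferInstance : N.Normal).conj_mem _ (h z) (z⁻¹ * x⁻¹)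
    have h4 : (x * z)⁻¹ * (z * x) = (z⁻¹ * x⁻¹) * ⁅z, x⁆ * (z⁻¹ * x⁻¹)⁻¹ := by
      simp only [commutatorElement_def]; group
    rw [h4]
    exact h3
  have h5 := d.cent x hx
  rw [h2, Subgroup.card_top] at h5
  have h6 : Nat.card (G ⧸ N) = N.relIndex (commutator G) * (commutator G).index := by
    rw [Subgroup.relIndex_mul_index d.le, Subgroup.index_eq_card]
  rw [h5] at h6
  have := d.m_ge_two
  have := Nat.pos_of_ne_zero (Subgroup.index_ne_zero_of_finite (H := commutator G))
  nlinarith

/-- If `[G' : N] > 2`, then `[G : G'] = [G' : N] - 1`. -/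
theorem index_eq (hm : 2 < N.relIndex (commutator G)) :
    (commutator G).index = N.relIndex (commutator G) - 1 := by
  classical
  set c := (commutator G).index with hc
  set m := N.relIndex (commutator G) with hmdef
  set π := QuotientGroup.mk' N with hπ
  have hπs : Function.Surjective π := QuotientGroup.mk'_surjective N
  set V := (commutator G).map π with hV
  have hVcard : Nat.card V = m := by
    have h1 := (Subgroup.card_mul_index V)
    rw [hV, Subgroup.index_map_eq _ hπs (by rw [QuotientGroup.ker_mk']; exact d.le)] at h1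
    rw [← hV, ← hc] at h1
    have h6 : Nat.card (G ⧸ N) = m * c := by rw [Subgroup.relIndex_mul_index d.le, Subgroup.index_eq_card]
    rw [h6] at h1
    exact Nat.eq_of_mul_eq_mul_right (Nat.pos_of_ne_zero Subgroup.index_ne_zero_of_finite) h1
  have hcC := d.card_cent
  rw [← hc, ← hmdef] at hcC
  obtain ⟨k, hk⟩ : m - 1 ∣ c := by
    have h1 : m - 1 ∣ c * m := ⟨_, by rw [← hcC, mul_comm]⟩
    refine Nat.Coprime.dvd_of_dvd_mul_right ?_ h1
    rw [show m = m - 1 + 1 by omega]
    simp
  -- the centraliser in `T` of the image of `g`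
  set v : G ⧸ N := π g with hv
  have hvV : v ∈ V := ⟨g, d.mem, rfl⟩
  set C1 := Subgroup.centralizer ({v} : Set (G ⧸ N)) with hC1
  have hVab : ∀ a ∈ V, ∀ b ∈ V, a * b = b * a := by
    rintro _ ⟨a, ha, rfl⟩ _ ⟨b, hb, rfl⟩
    rw [← commutatorElement_eq_one_iff_mul_comm, ← map_commutatorElement]
    exact (QuotientGroup.eq_one_iff _).2 (d.comm_le ha hb)
  have hVC1 : V ≤ C1 := fun a ha => Subgroup.mem_centralizer_singleton_iff.2 (hVab a ha v hvV)
  have hcommT : ∀ a b : G ⧸ N, ⁅a, b⁆ ∈ V := by
    intro a b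
    obtain ⟨a, rfl⟩ := hπs a
    obtain ⟨b, rfl⟩ := hπs b
    rw [← map_commutatorElement]
    exact ⟨_, Subgroup.commutator_mem_commutator (Subgroup.mem_top a) (Subgroup.mem_top b), rfl⟩
  haveI : C1.Normal := ⟨fun a ha t => by
    have : t * a * t⁻¹ = ⁅t, a⁆ * a := by simp only [commutatorElement_def]; group
    rw [this]
    exact C1.mul_mem (hVC1 (hcommT t a)) ha⟩
  have hC1V : ∀ a ∈ C1, ∀ w ∈ V, a * w = w * a := by
    rintro a ha _ ⟨w, hw, rfl⟩
    rcases d.union w hw with h | h
    · rw [show π w = 1 from (QuotientGroup.eq_one_iff w).2 h, mul_one, one_mul]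
    obtain ⟨t, rfl⟩ := isConj_iff.1 h
    have ha' := Subgroup.mem_centralizer_singleton_iff.1
      ((inferInstance : C1.Normal).conj_mem a ha (π t)⁻¹)
    rw [inv_inv] at ha'
    rw [map_mul, map_mul, map_inv, ← hv]
    calc a * (π t * v * (π t)⁻¹) = π t * (((π t)⁻¹ * a * π t) * v) * (π t)⁻¹ := by group
      _ = π t * (v * ((π t)⁻¹ * a * π t)) * (π t)⁻¹ := by rw [ha']
      _ = π t * v * (π t)⁻¹ * a := by group
  -- a fixed point of `T` in `V` is trivial
  have hfix : ∀ w ∈ V, (∀ t, t * w = w * t) → w = 1 := by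
    intro w hw hwc
    by_contra hne
    have hall : ∀ u ∈ V, u = 1 ∨ u = w := by
      obtain ⟨w, hwD, rfl⟩ := hw
      rintro _ ⟨u, hu, rfl⟩
      rcases d.union u hu with h | h
      · exact Or.inl ((QuotientGroup.eq_one_iff u).2 h)
      right
      have hwconj : IsConj g w :=
        (d.union w hwD).resolve_left fun h => hne ((QuotientGroup.eq_one_iff w).2 h)
      obtain ⟨t, rfl⟩ := isConj_iff.1 (hwconj.symm.trans h)
      rw [map_mul, map_mul, map_inv, hwc, mul_inv_cancel_right]
    have : Nat.card V ≤ 2 := by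
      let f : V → Bool := fun u => decide ((u : G ⧸ N) = 1)
      have hinj : Function.Injective f := by
        intro a b hab
        have hiff : ((a : G ⧸ N) = 1) ↔ ((b : G ⧸ N) = 1) := decide_eq_decide.1 hab
        rcases hall a a.2 with ha | ha <;> rcases hall b b.2 with hb | hb
        · exact Subtype.ext (ha.trans hb.symm)
        · exact absurd (hiff.1 ha) (by rw [hb]; exact hne)
        · exact absurd (hiff.2 hb) (by rw [ha]; exact hne)
        · exact Subtype.ext (ha.trans hb.symm)
      have := Nat.card_le_card_of_injective f hinj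
      simpa using this
    omega
  have hC1ab : ∀ a ∈ C1, ∀ b ∈ C1, a * b = b * a := by
    intro a ha b hb
    rw [← commutatorElement_eq_one_iff_mul_comm]
    refine hfix _ (hcommT a b) fun t => ?_
    have h1 : t * a * t⁻¹ = ⁅t, a⁆ * a := by simp only [commutatorElement_def]; group
    have h2 : t * b * t⁻¹ = ⁅t, b⁆ * b := by simp only [commutatorElement_def]; group
    have h3 : t * ⁅a, b⁆ * t⁻¹ = ⁅a, b⁆ := by
      calc t * ⁅a, b⁆ * t⁻¹ = ⁅t * a * t⁻¹, t * b * t⁻¹⁆ := by simp only [commutatorElement_def]; group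
        _ = ⁅⁅t, a⁆ * a, ⁅t, b⁆ * b⁆ := by rw [h1, h2]
        _ = ⁅a, b⁆ := by
          set z := ⁅t, a⁆ with hz
          set z' := ⁅t, b⁆ with hz'
          have c1 : Commute z b := (hC1V b hb z (hcommT t a)).symm
          have c2 : Commute z' a := (hC1V a ha z' (hcommT t b)).symm
          have c3 : Commute z z' := hVab _ (hcommT t a) _ (hcommT t b)
          have c4 : Commute z a := (hC1V a ha z (hcommT t a)).symm
          have c5 : Commute z' b := (hC1V b hb z' (hcommT t b)).symm
          have e1 : z * a * (z' * b) = a * b * (z * z') := by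
            calc z * a * (z' * b) = z * (a * z') * b := by group
              _ = z * (z' * a) * b := by rw [c2.eq]
              _ = (z * z') * (a * b) := by group
              _ = _ := ((c4.mul_right c1).mul_left (c2.mul_right c5)).eq
          have e2 : z' * b * (z * a) = b * a * (z * z') := by
            calc z' * b * (z * a) = z' * (b * z) * a := by group
              _ = z' * (z * b) * a := by rw [c1.eq]
              _ = (z' * z) * (b * a) := by group
              _ = (z * z') * (b * a) := by rw [c3.eq]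
              _ = _ := ((c1.mul_right c4).mul_left (c5.mul_right c2)).eq
          calc ⁅z * a, z' * b⁆ = (z * a * (z' * b)) * (z' * b * (z * a))⁻¹ := by
                simp only [commutatorElement_def]; group
            _ = (a * b * (z * z')) * (b * a * (z * z'))⁻¹ := by rw [e1, e2]
            _ = ⁅a, b⁆ := by simp only [commutatorElement_def]; group
    calc t * ⁅a, b⁆ = t * ⁅a, b⁆ * t⁻¹ * t := by group
      _ = ⁅a, b⁆ * t := by rw [h3]
  by_contra hne
  -- the class of `v` has size `m - 1`
  have hclass : C1.index = m - 1 := by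
    rw [hC1, ← Cfsg.Agent.Char.card_conjClass_eq_index, hv]
    have hcongr : {x : G ⧸ N // IsConj (π g) x} ≃ {x : V // x ≠ 1} :=
      { toFun := fun x => ⟨⟨x.1, by
          obtain ⟨t, ht⟩ := isConj_iff.1 x.2
          obtain ⟨t, rfl⟩ := hπs t
          exact ⟨t * g * t⁻¹, (inferInstance : (commutator G).Normal).conj_mem _ d.mem t, by
            rw [← ht, map_mul, map_mul, map_inv]⟩⟩,
          fun h => by
            obtain ⟨t, ht⟩ := isConj_iff.1 x.2
            have h' : x.1 = 1 := congrArg Subtype.val h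
            rw [h', conj_eq_one_iff] at ht
            exact d.nmem ((QuotientGroup.eq_one_iff g).1 ht)⟩
        invFun := fun x => ⟨x.1.1, by
          obtain ⟨w, hw, hwe⟩ := x.1.2
          have hwN : w ∉ N := fun h => x.2 (Subtype.ext (by
            rw [← hwe, Subgroup.coe_one]; exact (QuotientGroup.eq_one_iff w).2 h))
          rw [← hwe]
          exact π.map_isConj ((d.union w hw).resolve_left hwN)⟩
        left_inv := fun x => rfl
        right_inv := fun x => rfl }
    rw [Nat.card_congr hcongr]
    haveI := Fintype.ofFinite V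
    rw [Nat.card_eq_fintype_card, Fintype.card_subtype_compl, Fintype.card_subtype_eq, ← hVcard,
      Nat.card_eq_fintype_card]
  have h6 : Nat.card (G ⧸ N) = m * c := by rw [Subgroup.relIndex_mul_index d.le, Subgroup.index_eq_card]
  have hC1card : Nat.card C1 = m * k := by
    have h7 := C1.card_mul_index
    rw [hclass, h6, hk] at h7
    refine Nat.eq_of_mul_eq_mul_right (show 0 < m - 1 by omega) ?_
    rw [h7]; ring
  have hk2 : 2 ≤ k := by
    rcases k with _ | _ | k
    · rw [mul_zero] at hk; exact absurd hk Subgroup.index_ne_zero_of_finite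
    · rw [zero_add, mul_one] at hk; exact absurd hk hne
    · omega
  have hlt : V < C1 := lt_of_le_of_ne hVC1 fun h => by
    have := hVcard
    rw [h, hC1card] at this
    nlinarith
  obtain ⟨x, hx, hxV⟩ := SetLike.exists_of_lt hlt
  obtain ⟨x, rfl⟩ := hπs x
  have h8 := d.cent x fun h => hxV ⟨x, h, rfl⟩
  have h9 : C1 ≤ Subgroup.centralizer ({(x : G ⧸ N)} : Set (G ⧸ N)) := fun a ha =>
    Subgroup.mem_centralizer_singleton_iff.2 (hC1ab a ha _ hx)
  have h10 := Subgroup.card_le_of_le h9
  rw [hC1card, h8, ← hc, hk] at h10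
  have : (m - 1) * k < m * k := (Nat.mul_lt_mul_right (by omega)).2 (by omega)
  omega

/-- In the case `[G' : N] = 2`, the quotient is a `2`-group. -/
theorem two_group (hm : N.relIndex (commutator G) = 2) : IsPGroup 2 (G ⧸ N) := by
  haveI : Fact (Nat.Prime 2) := ⟨Nat.prime_two⟩
  intro y
  obtain ⟨k, o, ho, hko⟩ := Nat.exists_eq_pow_mul_and_not_dvd (orderOf_pos y).ne' 2 (by norm_num)
  refine ⟨k, ?_⟩
  induction y using QuotientGroup.induction_on with | H y =>
  set z := y ^ 2 ^ k with hz
  rw [← QuotientGroup.mk_pow, ← hz, QuotientGroup.eq_one_iff]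
  have hzo : z ^ o ∈ N := by
    rw [← QuotientGroup.eq_one_iff, hz, ← pow_mul, ← hko, QuotientGroup.mk_pow, pow_orderOf_eq_one]
  by_contra hzN
  by_cases hzD : z ∈ commutator G
  · -- an element of `G'` of odd order modulo `N`
    obtain ⟨j, hj⟩ : Odd o := Nat.odd_iff.2 (by omega)
    have hsq : z ^ 2 ∈ N := by
      rw [pow_two]
      exact (Subgroup.mul_mem_iff_of_index_two (H := N.subgroupOf (commutator G)) hm
        (a := ⟨z, hzD⟩) (b := ⟨z, hzD⟩)).2 Iff.rfl
    have h2 := N.pow_mem hsq j
    rw [hj, pow_succ, pow_mul] at hzo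
    exact hzN ((N.mul_mem_cancel_left h2).1 hzo)
  · obtain ⟨w, hw⟩ := d.exists_noncomm hzD
    apply hw
    -- commutation with `z` is a homomorphism from powers into the central group of order two
    set π := QuotientGroup.mk' N
    set e := ⁅π w, π z⁆ with he
    have hcen : ∀ t, Commute e t := by
      intro t
      induction t using QuotientGroup.induction_on with | H t =>
      show e * π t = π t * e
      rw [← commutatorElement_eq_one_iff_mul_comm, he, ← map_commutatorElement, ← map_commutatorElement,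
        ← commutatorElement_inv, map_inv, inv_eq_one]
      exact (QuotientGroup.eq_one_iff _).2 (d.central_two hm
        (Subgroup.commutator_mem_commutator (Subgroup.mem_top w) (Subgroup.mem_top z)) t)
    have h2 : e ^ 2 = 1 := by
      rw [he, ← map_commutatorElement, ← map_pow]
      refine (QuotientGroup.eq_one_iff _).2 ?_
      rw [pow_two]
      exact (Subgroup.mul_mem_iff_of_index_two (H := N.subgroupOf (commutator G)) hm
        (a := ⟨⁅w, z⁆, Subgroup.commutator_mem_commutator (Subgroup.mem_top w) (Subgroup.mem_top z)⟩)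
        (b := ⟨⁅w, z⁆, Subgroup.commutator_mem_commutator (Subgroup.mem_top w) (Subgroup.mem_top z)⟩)).2 Iff.rfl
    have hpow : ∀ n : ℕ, π w * (π z) ^ n * (π w)⁻¹ = e ^ n * (π z) ^ n := by
      intro n
      rw [← conj_pow, show π w * π z * (π w)⁻¹ = e * π z by rw [he, commutatorElement_def]; group,
        (hcen (π z)).mul_pow]
    have h1 := hpow o
    rw [← map_pow, show π (z ^ o) = 1 from (QuotientGroup.eq_one_iff _).2 hzo, mul_one, mul_one,
      mul_inv_cancel] at h1
    obtain ⟨j, hj⟩ : Odd o := Nat.odd_iff.2 (by omega)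
    rw [hj, pow_succ, pow_mul, h2, one_pow, one_mul] at h1
    exact (QuotientGroup.eq_one_iff _).1 (show π ⁅w, z⁆ = 1 by rw [map_commutatorElement]; exact h1.symm)

end Data

end Cfsg.Agent.Solv.OneClass
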