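import Cfsg.Agent.Lib.Solv.PLengthExponent

/-!
The `p`-length is bounded by the derived length of the Sylow `p`-subgroups (`p` odd).
-/

set_option autoImplicit false
set_option linter.style.haveILetI false
set_option maxHeartbeats 1000000

namespace Cfsg.Agent.Solv.PLD

open Cfsg.Agent.Solv
open scoped commutatorElement Pointwise

universe u

section RingLemma

variable {R : Type*} [Ring R]

/-- If `T` kills `(Y - 1) ^ 2`, and `Y` moves commuting involutions `C → C₁ → C₂ → C₃` with `C₃` equal to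
`C` under `T`, then `T` does not distinguish `C` and `C₁`. -/
theorem shift_eq (h3 : (3 : R) = 0) {T Y C C₁ C₂ C₃ : R} (hT : T * (Y - 1) ^ 2 = 0)
    (hC : C * C = 1) (hC₁ : C₁ * C₁ = 1) (c01 : Commute C C₁) (c12 : Commute C₁ C₂) (c20 : Commute C C₂)
    (t0 : Commute T C) (t1 : Commute T C₁) (t2 : Commute T C₂)
    (y0 : Y * C = C₁ * Y) (y1 : Y * C₁ = C₂ * Y) (y2 : Y * C₂ = C₃ * Y)
    (hTC : T * C₃ = T * C) : T * C = T * C₁ := by
  have key : ∀ s : R, s * s = 1 → (∀ x : R, Commute s x) → T * ((1 + s * C) * (1 - s * C₁)) = 0 := by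
    intro s hs hsc
    obtain ⟨e, he⟩ : ∃ e, e = (1 + s * C) * (1 - s * C₁) := ⟨_, rfl⟩
    rw [← he]
    have ey : ∀ (x x' : R), Y * x = x' * Y → Y * (s * x) = s * x' * Y := fun x x' h => by
      rw [← mul_assoc, ← (hsc Y).eq, mul_assoc, h, mul_assoc]
    have hYe : Y * e = (1 + s * C₁) * (1 - s * C₂) * Y := by
      have a : Y * (1 + s * C) = (1 + s * C₁) * Y := by rw [mul_add, mul_one, ey _ _ y0, add_mul, one_mul]
      have b : Y * (1 - s * C₁) = (1 - s * C₂) * Y := by rw [mul_sub, mul_one, ey _ _ y1, sub_mul, one_mul]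
      rw [he, ← mul_assoc, a, mul_assoc, b, ← mul_assoc]
    have hYYe : Y * Y * e = (1 + s * C₂) * (1 - s * C₃) * (Y * Y) := by
      have a : Y * (1 + s * C₁) = (1 + s * C₂) * Y := by rw [mul_add, mul_one, ey _ _ y1, add_mul, one_mul]
      have b : Y * (1 - s * C₂) = (1 - s * C₃) * Y := by rw [mul_sub, mul_one, ey _ _ y2, sub_mul, one_mul]
      rw [mul_assoc, hYe, ← mul_assoc, ← mul_assoc Y, a, mul_assoc (1 + s * C₂), b, ← mul_assoc,
        mul_assoc ((1 + s * C₂) * (1 - s * C₃))]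
    have hsT : ∀ x : R, Commute T x → Commute T (s * x) := fun x hx => ((hsc T).symm).mul_right hx
    have hTp : ∀ x : R, Commute T x → Commute T (1 + s * x) := fun x hx =>
      (Commute.one_right T).add_right (hsT x hx)
    have hTm : ∀ x : R, Commute T x → Commute T (1 - s * x) := fun x hx =>
      (Commute.one_right T).sub_right (hsT x hx)
    have hTe : Commute T e := he ▸ (hTp _ t0).mul_right (hTm _ t1)
    have hm : ∀ x x' : R, Commute x x' → Commute (s * x) (s * x') := fun x x' h =>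
      ((hsc (s * x')).mul_left ((hsc x).symm.mul_right h))
    have hsq : ∀ x : R, x * x = 1 → (s * x) * (s * x) = 1 := fun x hx => by
      rw [mul_assoc, ← mul_assoc x, ← (hsc x).eq, mul_assoc s x, hx, mul_one, hs]
    have hpm : ∀ x : R, x * x = 1 → (1 - s * x) * (1 + s * x) = 0 := fun x hx => by
      rw [sub_mul, one_mul, mul_add, mul_one, hsq x hx]; abel
    have cA : Commute (1 + s * C) (1 - s * C₁) :=
      ((Commute.one_left _).add_left ((Commute.one_right _).sub_right (hm _ _ c01)))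
    have he1 : e * ((1 + s * C₁) * (1 - s * C₂)) = 0 := by
      rw [he, mul_assoc, ← mul_assoc (1 - s * C₁), hpm _ hC₁, zero_mul, mul_zero]
    have cB : Commute (1 + s * C) (1 + s * C₂) :=
      ((Commute.one_left _).add_left ((Commute.one_right _).add_right (hm _ _ c20)))
    have cC : Commute (1 - s * C₁) (1 + s * C₂) :=
      ((Commute.one_left _).sub_left ((Commute.one_right _).add_right (hm _ _ c12)))
    have cD : Commute (1 + s * C) (1 - s * C) :=
      ((Commute.one_left _).add_left ((Commute.one_right _).sub_right (Commute.refl _)))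
    have he2 : e * ((1 + s * C₂) * (1 - s * C)) = 0 := by
      rw [he, cA.eq, mul_assoc (1 - s * C₁), ← mul_assoc (1 + s * C) (1 + s * C₂), cB.eq,
        mul_assoc (1 + s * C₂), cD.eq, hpm _ hC, mul_zero, mul_zero]
    have hee : e * e = 4 * e := by
      have s1 : (1 + s * C) * (1 + s * C) = 2 * (1 + s * C) := by
        rw [mul_add, mul_one, add_mul, one_mul, hsq _ hC, two_mul]; abel
      have s2 : (1 - s * C₁) * (1 - s * C₁) = 2 * (1 - s * C₁) := by
        rw [mul_sub, mul_one, sub_mul, one_mul, hsq _ hC₁, two_mul]; abel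
      rw [he, mul_assoc, ← mul_assoc (1 - s * C₁), ← cA.eq, mul_assoc (1 + s * C), ← mul_assoc, s1, s2]
      noncomm_ring
    have hexp : T * Y * Y - 2 * (T * Y) + T = 0 := by
      rw [← hT, pow_two, two_mul]
      noncomm_ring
    have h1 : e * (T * Y * e) = 0 := by
      rw [mul_assoc T, hYe, ← mul_assoc, ← mul_assoc, ← hTe.eq, mul_assoc T, he1, mul_zero, zero_mul]
    have h2 : e * (T * Y * Y * e) = 0 := by
      have k : T * ((1 + s * C₂) * (1 - s * C₃)) = T * ((1 + s * C₂) * (1 - s * C)) := by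
        rw [← mul_assoc, ← mul_assoc, (hTp _ t2).eq, mul_assoc, mul_assoc]
        congr 1
        rw [mul_sub, mul_sub, ← mul_assoc T s, ← mul_assoc T s, ← (hsc T).eq, mul_assoc, mul_assoc, hTC]
      rw [mul_assoc T Y, mul_assoc T, hYYe, ← mul_assoc T, k, ← mul_assoc e, ← mul_assoc e T, ← hTe.eq,
        mul_assoc T, he2, mul_zero, zero_mul]
    have h := congrArg (fun z => e * (z * e)) hexp
    simp only [add_mul, sub_mul, mul_add, mul_sub, zero_mul, mul_zero] at h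
    rw [h2, mul_assoc 2, ← mul_assoc e 2, (Commute.ofNat_right e 2).eq, mul_assoc 2, h1, mul_zero, sub_zero,
      zero_add, ← mul_assoc, ← hTe.eq, mul_assoc, hee, show (4 : R) = 1 by
        rw [show (4 : R) = 3 + 1 by norm_num, h3, zero_add], one_mul] at h
    exact h
  have ha := key 1 (one_mul 1) (fun x => Commute.one_left x)
  have hb := key (-1) (by simp) (fun x => (Commute.one_left x).neg_left)
  have h : T * ((C - C₁) * 2) = 0 := by
    have e : (C - C₁) * 2 = (1 + 1 * C) * (1 - 1 * C₁) - (1 + -1 * C) * (1 - -1 * C₁) := by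
      noncomm_ring
    rw [e, mul_sub, ha, hb, sub_zero]
  rw [← sub_eq_zero, ← mul_sub]
  calc T * (C - C₁) = T * (C - C₁) * 3 - T * ((C - C₁) * 2) := by noncomm_ring
    _ = 0 := by rw [h3, h, mul_zero, sub_zero]

end RingLemma

/-- Commutators in a group of class two. -/
theorem comm_mul_left {G : Type*} [Group G] (hcl : ∀ a b : G, ⁅a, b⁆ ∈ Subgroup.center G) (a b c : G) :
    ⁅a * b, c⁆ = ⁅a, c⁆ * ⁅b, c⁆ := by
  have h1 : a * ⁅b, c⁆ * a⁻¹ = ⁅b, c⁆ := by
    rw [Subgroup.mem_center_iff.1 (hcl b c) a, mul_inv_cancel_right]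
  calc ⁅a * b, c⁆ = (a * ⁅b, c⁆ * a⁻¹) * ⁅a, c⁆ := by simp only [commutatorElement_def]; group
    _ = _ := by rw [h1, Subgroup.mem_center_iff.1 (hcl a c)]

theorem comm_mul_right {G : Type*} [Group G] (hcl : ∀ a b : G, ⁅a, b⁆ ∈ Subgroup.center G) (a b c : G) :
    ⁅a, b * c⁆ = ⁅a, b⁆ * ⁅a, c⁆ :=
  CommFix.comm_mul_right_of_central fun z => (Subgroup.mem_center_iff.1 (hcl a c) z).symm

variable {p : ℕ} [hp : Fact p.Prime]

theorem three_zmod : (3 : ZMod 3) = 0 := by decide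

theorem half_zmod : ∀ t : ZMod 3, t + t = 0 → t = 0 := by decide

theorem pow_p_eq_one (hp2 : p ≠ 2) {K : Type u} [Group K] {k : ℕ}
    (σ : K →* Module.End (ZMod p) (Fin k → ZMod p)) (hσ : Function.Injective σ) {a : K}
    (ha : (σ a - 1) ^ 2 = 0) : a ^ p = 1 := by
  refine hσ ?_
  have h := ThmB.sum_pow_eq (p := p) (σ a) 1
  have hge := hp.out.two_le
  obtain ⟨m, hm⟩ : ∃ m, p ^ 1 - 1 = 2 + m := ⟨p ^ 1 - 1 - 2, by rw [pow_one]; omega⟩
  rw [hm, pow_add, ha, zero_mul, pow_one] at h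
  have h2 := geom_sum_mul (σ a) p
  rw [h, zero_mul] at h2
  rw [map_pow, map_one]
  exact sub_eq_zero.1 h2.symm

/-- A group of order prime to `3` has unit order in `ZMod 3`. -/
theorem half_vec {k : ℕ} (v : Fin k → ZMod 3) (hv : v + v = 0) : v = 0 := by
  funext i
  exact half_zmod _ (congrFun hv i)

/-- The restriction of a representation to an invariant subspace, in coordinates. -/
theorem exists_restrict {K : Type u} [Group K] {k : ℕ} {F : Type} [Field F]
    (σ : K →* Module.End F (Fin k → F)) (W : Submodule F (Fin k → F)) (St : Subgroup K)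
    (h : ∀ g ∈ St, ∀ w ∈ W, σ g w ∈ W) :
    ∃ (n : ℕ) (e : W ≃ₗ[F] (Fin n → F)) (τ : St →* Module.End F (Fin n → F)),
      ∀ (g : St) (w : W), (e.symm (τ g (e w)) : Fin k → F) = σ g w := by
  let e := (Module.finBasis F W).equivFun
  let r : St →* Module.End F W :=
    { toFun := fun g => (σ (g : K)).restrict (h g g.2)
      map_one' := LinearMap.ext fun w => Subtype.ext (by simp)
      map_mul' := fun g g' => LinearMap.ext fun w => Subtype.ext (by simp) }
  refine ⟨_, e, (e.conjRingEquiv.toRingHom.toMonoidHom).comp r, fun g w => ?_⟩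
  simp [r, LinearEquiv.conj_apply]

/-- A subgroup of commutators, closed under the invariance, detecting the fixed points of `a` modulo the centre. -/
theorem exists_hyperplane {K : Type u} [Group K] [Finite K] {k : ℕ}
    (σ : K →* Module.End (ZMod 3) (Fin k → ZMod 3)) (hσ : Function.Injective σ)
    (L Q : Subgroup K) (hQq : IsPGroup 2 Q)
    (ψ : L →* MulAut Q) (hψ : ∀ (x : L) (u : Q), ((ψ x u : Q) : K) = x * u * (x : K)⁻¹)
    (hirr : ∀ U : Subgroup Q, Subgroup.center Q ≤ U → (∀ x : L, ∀ u ∈ U, ψ x u ∈ U) → U = Subgroup.center Q ∨ U = ⊤)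
    (hZinv : ∀ x : L, ∀ u ∈ Subgroup.center Q, ψ x u ∈ Subgroup.center Q)
    (Cm : Subgroup Q) (hCmZ : Cm ≤ Subgroup.center Q) (hCm2 : ∀ c ∈ Cm, c * c = 1)
    (hCminv : ∀ x : L, ∀ c ∈ Cm, ψ x c ∈ Cm)
    {a : K} (haL : a ∈ L) (hap : a ^ 3 = 1) (hquad : (σ a - 1) ^ 2 = 0)
    (hshift : ∀ x : L, ∀ c ∈ Cm, (σ a - 1) * σ (ψ x c : K) = (σ a - 1) * σ (c : K))
    (hZA : ∀ z ∈ Subgroup.center Q, Commute a (z : K))
    (hmin : ∀ U : Subgroup Q, U ≠ ⊤ → (∀ x : L, ∀ u ∈ U, ψ x u ∈ U) → ∀ u ∈ U, Commute a (u : K))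
    (hmove : ∃ u : Q, ¬ Commute a (u : K)) :
    ∃ H : Subgroup Q, (∀ c ∈ Cm, ∀ d ∈ Cm, c ∉ H → d ∉ H → c * d ∈ H) ∧
      ∀ u : Q, ⁅u, ψ ⟨a, haL⟩ u⁆ ∈ H → u⁻¹ * ψ ⟨a, haL⟩ u ∈ Subgroup.center Q := by
  classical
  haveI : Fact (Nat.Prime 3) := ⟨Nat.prime_three⟩
  have hhalf := @half_vec k
  have hRco : (Nat.card Q).Coprime 3 := by
    obtain ⟨j, hj⟩ := hQq.exists_card_eq
    rw [hj]; exact ((Nat.coprime_primes Nat.prime_two Nat.prime_three).2 (by norm_num)).pow_left j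
  obtain ⟨S, hS⟩ : ∃ S : Q →* Module.End (ZMod 3) (Fin k → ZMod 3), ∀ u : Q, S u = σ u :=
    ⟨σ.comp Q.subtype, fun _ => rfl⟩
  simp only [← hS] at hshift
  have hSsq : ∀ c ∈ Cm, S c * S c = 1 := fun c hc => by rw [← map_mul, hCm2 c hc, map_one]
  have hScomm : ∀ c ∈ Cm, ∀ u : Q, Commute (S c) (S u) := fun c hc u =>
    (show Commute c u from (Subgroup.mem_center_iff.1 (hCmZ hc) u).symm).map S
  have hconjS : ∀ (x : L) (u : Q), σ x * S u = S (ψ x u) * σ x := fun x u => by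
    rw [hS, hS, ← map_mul, ← map_mul, hψ, inv_mul_cancel_right]

  -- the augmentation
  haveI : Fintype Q := Fintype.ofFinite Q
  obtain ⟨ε, hε⟩ : ∃ ε, ε = ∑ u : Q, S u := ⟨_, rfl⟩
  have hεu : ∀ u : Q, S u * ε = ε := fun u => by
    rw [hε, Finset.mul_sum]
    refine Fintype.sum_equiv (Equiv.mulLeft u) _ _ fun w => ?_
    rw [← map_mul]; rfl
  have huε : ∀ u : Q, ε * S u = ε := fun u => by
    rw [hε, Finset.sum_mul]
    refine Fintype.sum_equiv (Equiv.mulRight u) _ _ fun w => ?_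
    rw [← map_mul]; rfl
  have hxε : ∀ x : L, σ x * ε = ε * σ x := fun x => by
    rw [hε, Finset.mul_sum, Finset.sum_mul]
    exact Fintype.sum_equiv (ψ x).toEquiv _ _ fun w => hconjS x w
  obtain ⟨N, hN⟩ : ∃ N : ZMod 3, N = (Fintype.card Q : ZMod 3) := ⟨_, rfl⟩
  have hN0 : N ≠ 0 := fun h => by
    rw [hN, ZMod.natCast_eq_zero_iff] at h
    rw [Nat.card_eq_fintype_card] at hRco
    exact absurd ((Nat.prime_three.coprime_iff_not_dvd.1 hRco.symm) h) id
  have hεε : ε * ε = N • ε := by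
    conv_lhs => arg 1; rw [hε]
    rw [Finset.sum_mul, Finset.sum_congr rfl (fun u _ => hεu u), Finset.sum_const, hN, Nat.cast_smul_eq_nsmul, Finset.card_univ]
  obtain ⟨T, hT⟩ : ∃ T, T = σ a - 1 := ⟨_, rfl⟩
  have hTε : T * ε = ε * T := by
    rw [hT, sub_mul, mul_sub, hxε ⟨a, haL⟩, one_mul, mul_one]
  have hTc : ∀ c ∈ Cm, Commute T (S c) := fun c hc => hT ▸
    ((hS c ▸ (hZA c (hCmZ hc)).map σ : Commute (σ a) (S c))).sub_left (Commute.one_left _)
  obtain ⟨v₀, hv₀ε, hv₀T⟩ : ∃ v, ε v = 0 ∧ T v ≠ 0 := by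
    by_contra hc
    push Not at hc
    obtain ⟨u, hu⟩ := hmove
    have h1 : N • T = T * ε := by
      refine LinearMap.ext fun v => sub_eq_zero.1 ?_
      have h := hc (N • v - ε v) (by rw [map_sub, map_smul, ← Module.End.mul_apply, hεε, LinearMap.smul_apply, sub_self])
      rw [map_sub, map_smul] at h
      simpa using h
    have e1 : T * S u = T := by
      refine smul_right_injective _ hN0 ?_
      show N • (T * S u) = N • T
      rw [← smul_mul_assoc, h1, mul_assoc, huε]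
    have e2 : S u * T = T := by
      refine smul_right_injective _ hN0 ?_
      show N • (S u * T) = N • T
      rw [← mul_smul_comm, h1, hTε, ← mul_assoc, hεu]
    refine hu (hσ ?_)
    rw [map_mul, map_mul]
    rw [hT, sub_mul, one_mul, hS] at e1
    rw [hT, mul_sub, mul_one, hS] at e2
    calc σ a * σ (u : K) = (σ a * σ (u : K) - σ (u : K)) + σ (u : K) := (sub_add_cancel _ _).symm
      _ = (σ (u : K) * σ a - σ (u : K)) + σ (u : K) := by rw [e1, e2]
      _ = _ := sub_add_cancel _ _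
  obtain ⟨H, ⟨hHC, v, hvε, hvH, hvT⟩, hHmax⟩ := Set.exists_max_image
    {H : Subgroup Q | H ≤ Cm ∧ ∃ v, ε v = 0 ∧ (∀ h ∈ H, S h v = v) ∧ T v ≠ 0}
    (fun H : Subgroup Q => Nat.card H) (Set.toFinite _)
    ⟨⊥, bot_le, v₀, hv₀ε, fun h hh => by rw [Subgroup.mem_bot.1 hh, map_one]; rfl, hv₀T⟩
  have hcomp : ∀ c ∈ Cm, ∀ w, ε w = 0 → (∀ h ∈ H, S h w = w) → T (w + S c w) ≠ 0 → c ∈ H := by
    intro c hc w hwε hwH hwT
    by_contra hcH
    have hlt : Nat.card H < Nat.card (H ⊔ Subgroup.zpowers c : Subgroup Q) :=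
      (Subgroup.card_le_of_le le_sup_left).lt_of_ne fun e => hcH
        ((Subgroup.eq_of_le_of_card_ge (le_sup_left : H ≤ H ⊔ Subgroup.zpowers c) e.ge).symm ▸
          Subgroup.mem_sup_right (Subgroup.mem_zpowers c))
    refine absurd (hHmax _ ⟨sup_le hHC ((Subgroup.zpowers_le).2 hc), w + S c w, ?_, ?_, hwT⟩) (not_le.2 hlt)
    · rw [map_add, hwε, ← Module.End.mul_apply, huε, hwε, add_zero]
    · intro h hh
      have hst : H ⊔ Subgroup.zpowers c ≤
          { carrier := {h : Q | S h (w + S c w) = w + S c w}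
            one_mem' := by simp
            mul_mem' := fun {x y} hx hy => by
              show S (x * y) (w + S c w) = w + S c w
              rw [map_mul, Module.End.mul_apply, hy, hx]
            inv_mem' := fun {x} hx => by
              show S x⁻¹ (w + S c w) = w + S c w
              conv_lhs => rw [← (hx : S x (w + S c w) = w + S c w)]
              rw [← Module.End.mul_apply, ← map_mul, inv_mul_cancel, map_one, Module.End.one_apply] } := by
        refine sup_le (fun x hx => ?_) ((Subgroup.zpowers_le).2 ?_)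
        · show S x (w + S c w) = w + S c w
          rw [map_add, hwH x hx, ← Module.End.mul_apply, ← (hScomm c hc x).eq, Module.End.mul_apply, hwH x hx]
        · show S c (w + S c w) = w + S c w
          rw [map_add, ← Module.End.mul_apply, hSsq c hc, Module.End.one_apply, add_comm]
      exact hst hh
  -- `H` is invariant
  have hD : ∀ x : L, ∀ c ∈ Cm, ψ x c * c ∈ H := by
    intro x c hc
    refine hcomp _ (mul_mem (hCminv x c hc) hc) v hvε hvH ?_
    have e : T * S (ψ x c * c) = T := by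
      rw [map_mul, ← mul_assoc, hT, hshift x c hc, mul_assoc, hSsq c hc, mul_one]
    rw [map_add, ← Module.End.mul_apply, e]
    exact fun h => hvT (hhalf _ h)
  have hHinv : ∀ x : L, ∀ h ∈ H, ψ x h ∈ H := fun x h hh => by
    simpa using mul_mem (hD x h (hHC hh)) (inv_mem hh)
  let W : Submodule (ZMod 3) (Fin k → ZMod 3) :=
    { carrier := {w | ε w = 0 ∧ ∀ h ∈ H, S h w = w}
      add_mem' := fun {x y} hx hy => ⟨by rw [map_add, hx.1, hy.1, add_zero],
        fun h hh => by rw [map_add, hx.2 h hh, hy.2 h hh]⟩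
      zero_mem' := ⟨map_zero _, fun h _ => map_zero _⟩
      smul_mem' := fun r x hx => ⟨by rw [map_smul, hx.1, smul_zero],
        fun h hh => by rw [map_smul, hx.2 h hh]⟩ }
  have hQW : ∀ u : Q, ∀ w ∈ W, S u w ∈ W := fun u w hw => ⟨by rw [← Module.End.mul_apply, huε, hw.1],
    fun h hh => by rw [← Module.End.mul_apply, (hScomm h (hHC hh) u).eq, Module.End.mul_apply, hw.2 h hh]⟩
  have hLW : ∀ x : L, ∀ w ∈ W, σ x w ∈ W := fun x w hw => ⟨by
      rw [← Module.End.mul_apply, ← hxε, Module.End.mul_apply, hw.1, map_zero],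
    fun h hh => by
      have e : ψ x (ψ x⁻¹ h) = h := by rw [← MulAut.mul_apply, ← map_mul, mul_inv_cancel, map_one]; rfl
      rw [← Module.End.mul_apply, ← e, ← hconjS, Module.End.mul_apply, hw.2 _ (hHinv _ h hh)]⟩
  refine ⟨H, fun c hc d hd hcH hdH => ?_, ?_⟩
  · have hneg : ∀ c ∈ Cm, c ∉ H → ∀ w ∈ W, T (S c w) = - T w := fun c hc hcH w hw => by
      refine eq_neg_of_add_eq_zero_right ?_
      rw [← map_add]
      exact by_contra fun h => hcH (hcomp c hc w hw.1 hw.2 h)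
    refine hcomp _ (mul_mem hc hd) v hvε hvH ?_
    rw [map_add, map_mul, Module.End.mul_apply, hneg c hc hcH _ (hQW d v ⟨hvε, hvH⟩), hneg d hd hdH v ⟨hvε, hvH⟩, neg_neg]
    exact fun h => hvT (hhalf _ h)
  intro u hu
  -- the action on `W`
  obtain ⟨St, hSt⟩ := ThmB.exists_stab σ W
  have hQSt : ∀ g : Q, (g : K) ∈ St := fun g => (hSt _).2 fun w hw => hS g ▸ hQW g w hw
  have haSt : a ∈ St := (hSt _).2 fun w hw => hLW ⟨a, haL⟩ w hw
  obtain ⟨n', e, τ, hτeq⟩ := exists_restrict σ W St fun g hg => (hSt g).1 hg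
  let σ' : τ.toHomUnits.range →* Module.End (ZMod 3) (Fin n' → ZMod 3) :=
    (Units.coeHom _).comp τ.toHomUnits.range.subtype
  have hσ' : Function.Injective σ' := fun x y h => Subtype.ext (Units.ext h)
  obtain ⟨u₁, hu₁⟩ : ∃ u₁, u₁ = ψ ⟨a, haL⟩ u := ⟨_, rfl⟩
  obtain ⟨u₂, hu₂⟩ : ∃ u₂, u₂ = ψ ⟨a, haL⟩ u₁ := ⟨_, rfl⟩
  rw [← hu₁] at hu ⊢
  have hu₃ : ψ ⟨a, haL⟩ u₂ = u := by
    rw [hu₂, hu₁, ← MulAut.mul_apply, ← MulAut.mul_apply, ← map_mul, ← map_mul,
      show (⟨a, haL⟩ : L) * ⟨a, haL⟩ * ⟨a, haL⟩ = 1 from Subtype.ext (by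
        have := hap
        rwa [pow_succ, pow_two] at this), map_one]
    rfl
  let gen : Set St := {⟨u, hQSt u⟩, ⟨u₁, hQSt u₁⟩, ⟨u₂, hQSt u₂⟩}
  have hkill : ∀ h ∈ H, τ ⟨_, hQSt h⟩ = 1 := fun h hh => LinearMap.ext fun z => by
    obtain ⟨w, rfl⟩ := e.surjective z
    refine e.symm.injective (Subtype.ext ?_)
    rw [hτeq, Module.End.one_apply, e.symm_apply_apply, ← hS]
    exact w.2.2 h hh
  have hcommH : ∀ v w : Q, ⁅v, w⁆ ∈ H → Commute (τ.toHomUnits.rangeRestrict ⟨v, hQSt v⟩) (τ.toHomUnits.rangeRestrict ⟨w, hQSt w⟩) := by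
    intro v w hvw
    rw [← commutatorElement_eq_one_iff_commute, ← map_commutatorElement]
    refine hσ' ?_
    rw [map_one]
    exact hkill _ hvw
  have h12 : ⁅u₁, u₂⁆ ∈ H := by
    rw [hu₂]; conv => arg 2; arg 1; rw [hu₁]
    rw [← map_commutatorElement]; exact hHinv _ _ hu
  have h20 : ⁅u₂, u⁆ ∈ H := by
    conv => arg 2; arg 2; rw [← hu₃]
    conv => arg 2; arg 1; rw [hu₂]
    rw [← map_commutatorElement]; exact hHinv _ _ h12
  let Ab := Subgroup.closure (τ.toHomUnits.rangeRestrict '' gen)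
  have hAbc : IsMulCommutative Ab := by
    refine Subgroup.isMulCommutative_closure ?_
    have hsw : ∀ v w : Q, ⁅v, w⁆ ∈ H → ⁅w, v⁆ ∈ H := fun v w h => commutatorElement_inv v w ▸ inv_mem h
    rintro _ ⟨x, hx, rfl⟩ _ ⟨y, hy, rfl⟩
    rcases hx with rfl | rfl | rfl <;> rcases hy with rfl | rfl | rfl
    · rfl
    · exact (hcommH _ _ hu).eq
    · exact (hcommH _ _ (hsw _ _ h20)).eq
    · exact (hcommH _ _ (hsw _ _ hu)).eq
    · rfl
    · exact (hcommH _ _ h12).eq
    · exact (hcommH _ _ h20).eq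
    · exact (hcommH _ _ (hsw _ _ h12)).eq
    · rfl
  haveI : Finite τ.toHomUnits.range :=
    Finite.of_surjective τ.toHomUnits.rangeRestrict τ.toHomUnits.rangeRestrict_surjective
  have hAb2 : IsPGroup 2 Ab := by
    have hle : Ab ≤ (Subgroup.subgroupOf Q St).map τ.toHomUnits.rangeRestrict := by
      rw [Subgroup.closure_le]
      rintro _ ⟨x, hx, rfl⟩
      refine ⟨x, ?_, rfl⟩
      rcases hx with rfl | rfl | rfl <;> exact Subtype.prop _
    exact (hQq.comap_subtype.map _).to_le hle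
  have hnorm : τ.toHomUnits.rangeRestrict ⟨a, haSt⟩ ∈ Subgroup.normalizer (Ab : Set τ.toHomUnits.range) := by
    refine Fusion.mem_normalizer_of_cj_le ?_
    show Ab.map _ ≤ Ab
    rw [MonoidHom.map_closure, Subgroup.closure_le]
    rintro _ ⟨_, ⟨x, hx, rfl⟩, rfl⟩
    show τ.toHomUnits.rangeRestrict ⟨a, haSt⟩ * τ.toHomUnits.rangeRestrict x * (τ.toHomUnits.rangeRestrict ⟨a, haSt⟩)⁻¹ ∈ Ab
    rw [← map_inv, ← map_mul, ← map_mul]
    refine Subgroup.subset_closure ⟨_, ?_, rfl⟩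
    rcases hx with rfl | rfl | rfl
    · exact Or.inr (Or.inl (Subtype.ext (by rw [hu₁, hψ]; rfl)))
    · exact Or.inr (Or.inr (Subtype.ext (by rw [hu₂, hψ]; rfl)))
    · exact Or.inl (Subtype.ext (((congrArg Subtype.val hu₃).symm.trans (hψ _ _)).symm))
  have hfa := PLE.fixes_abelian (p := 3) σ' hσ' (q := 2) (by norm_num) Ab hAb2 hAbc
    (τ.toHomUnits.rangeRestrict ⟨a, haSt⟩) 1 le_rfl hnorm
    (by rw [pow_one, ← map_pow, show (⟨a, haSt⟩ : St) ^ 3 = 1 from Subtype.ext (hap), map_one])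
    (by
      show (τ ⟨a, haSt⟩ - 1) ^ 2 = 0
      refine LinearMap.ext fun z => ?_
      obtain ⟨w, rfl⟩ := e.surjective z
      refine e.symm.injective (Subtype.ext ?_)
      have h1 : ∀ w : W, (e.symm ((τ ⟨a, haSt⟩ - 1) (e w)) : Fin k → ZMod 3) = T w := fun w => by
        rw [LinearMap.sub_apply, map_sub, Submodule.coe_sub, hτeq, Module.End.one_apply, e.symm_apply_apply, hT]
        rfl
      obtain ⟨w', hw'⟩ : ∃ w' : W, (τ ⟨a, haSt⟩ - 1) (e w) = e w' := ⟨_, (e.apply_symm_apply _).symm⟩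
      rw [pow_two, Module.End.mul_apply, hw', h1]
      have h2 := h1 w
      rw [hw', e.symm_apply_apply] at h2
      rw [h2, ← Module.End.mul_apply, ← pow_two, hT, hquad]
      simp)
    (τ.toHomUnits.rangeRestrict ⟨u, hQSt u⟩) (Subgroup.subset_closure ⟨_, Or.inl rfl, rfl⟩)
  rw [Nat.sub_self, pow_zero, pow_one] at hfa
  -- the kernel of the action on `W`
  let Ker : Subgroup Q :=
    { carrier := {g | ∀ w ∈ W, S g w = w}
      one_mem' := fun w _ => by rw [map_one, Module.End.one_apply]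
      mul_mem' := fun {x y} hx hy w hw => by rw [map_mul, Module.End.mul_apply, hy w hw, hx w hw]
      inv_mem' := fun {x} hx w hw => by
        conv_lhs => rw [← hx w hw]
        rw [← Module.End.mul_apply, ← map_mul, inv_mul_cancel, map_one, Module.End.one_apply] }
  have hKinv : ∀ x : L, ∀ g ∈ Ker, ψ x g ∈ Ker := by
    intro x g hg w hw
    obtain ⟨w', hw', rfl⟩ : ∃ w' ∈ W, w = σ x w' := ⟨σ (x⁻¹ : L) w, hLW _ w hw, by
      rw [← Module.End.mul_apply, ← map_mul, InvMemClass.coe_inv, mul_inv_cancel, map_one, Module.End.one_apply]⟩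
    rw [← Module.End.mul_apply, ← hconjS, Module.End.mul_apply, hg w' hw']
  have hKtop : Ker ≠ ⊤ := fun h => by
    have hfix : ∀ g : Q, S g v = v := fun g => (h ▸ Subgroup.mem_top g : g ∈ Ker) v ⟨hvε, hvH⟩
    have hεv : ε v = N • v := by
      rw [hε, LinearMap.sum_apply, Finset.sum_congr rfl (fun g _ => hfix g), Finset.sum_const, Finset.card_univ,
        hN, Nat.cast_smul_eq_nsmul]
    rw [hvε] at hεv
    rw [(smul_eq_zero.1 hεv.symm).resolve_left hN0, map_zero] at hvT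
    exact hvT rfl
  haveI : (Subgroup.center Q).Normal := inferInstance
  have hKle : Ker ≤ Subgroup.center Q := by
    rcases hirr (Subgroup.center Q ⊔ Ker) le_sup_left (fun x g hg => by
        obtain ⟨z, hz, g', hg', rfl⟩ := Subgroup.mem_sup_of_normal_left.1 hg
        rw [map_mul]
        exact mul_mem (Subgroup.mem_sup_left (hZinv x z hz)) (Subgroup.mem_sup_right (hKinv x g' hg'))) with h | h
    · exact h ▸ le_sup_right
    · exfalso
      obtain ⟨g, hg⟩ := hmove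
      obtain ⟨z, hz, g', hg', rfl⟩ := Subgroup.mem_sup_of_normal_left.1 (h ▸ Subgroup.mem_top g)
      exact hg ((hZA z hz).mul_right (hmin Ker hKtop hKinv g' hg'))
  refine hKle ?_
  intro w hw
  have heq : τ ⟨u₁, hQSt u₁⟩ = τ ⟨u, hQSt u⟩ := by
    have e1 : (⟨u₁, hQSt u₁⟩ : St) = ⟨a, haSt⟩ * ⟨u, hQSt u⟩ * (⟨a, haSt⟩ : St)⁻¹ :=
      Subtype.ext (by rw [hu₁, hψ]; rfl)
    have h := congrArg σ' (show τ.toHomUnits.rangeRestrict ⟨u₁, hQSt u₁⟩ = τ.toHomUnits.rangeRestrict ⟨u, hQSt u⟩ by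
      rw [e1, map_mul, map_mul, map_inv, hfa.eq, mul_inv_cancel_right])
    exact h
  have h1 : S u₁ w = S u w := by
    have h := hτeq ⟨u₁, hQSt u₁⟩ ⟨w, hw⟩
    rw [heq, hτeq] at h
    rw [hS, hS]; exact h.symm
  rw [map_mul, Module.End.mul_apply, h1, ← Module.End.mul_apply, ← map_mul, inv_mul_cancel, map_one, Module.End.one_apply]

/-- With such subgroups for all elements of `⁅L, L⁆`, these all centralize `Q`. -/
theorem no_moved {K : Type u} [Group K] [Finite K] (L Q : Subgroup K) (hL : IsPGroup 3 L) (hQq : IsPGroup 2 Q)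
    (ψ : L →* MulAut Q) (hψ : ∀ (x : L) (u : Q), ((ψ x u : Q) : K) = x * u * (x : K)⁻¹)
    (hcl : ∀ u v : Q, ⁅u, v⁆ ∈ Subgroup.center Q)
    (hirr : ∀ U : Subgroup Q, Subgroup.center Q ≤ U → (∀ x : L, ∀ u ∈ U, ψ x u ∈ U) → U = Subgroup.center Q ∨ U = ⊤)
    (hsq : ∀ u : Q, u * u ∈ Subgroup.center Q)
    (Cm : Subgroup Q) (hCm : Cm = commutator Q)
    (hap : ∀ a ∈ ⁅L, L⁆, a ^ 3 = 1) (hAc : ∀ a ∈ ⁅L, L⁆, ∀ b ∈ ⁅L, L⁆, Commute a b)
    (hAL : ⁅L, L⁆ ≤ L)
    (hZA : ∀ a ∈ ⁅L, L⁆, ∀ z ∈ Subgroup.center Q, Commute a (z : K))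
    (hsub : ∀ a, ∀ ha : a ∈ ⁅L, L⁆, (∃ u : Q, ¬ Commute a (u : K)) →
      ∃ H : Subgroup Q, (∀ c ∈ Cm, ∀ d ∈ Cm, c ∉ H → d ∉ H → c * d ∈ H) ∧
        ∀ u : Q, ⁅u, ψ ⟨a, hAL ha⟩ u⁆ ∈ H → u⁻¹ * ψ ⟨a, hAL ha⟩ u ∈ Subgroup.center Q)
    {a₀ : K} (ha₀ : a₀ ∈ ⁅L, L⁆) {g₀ : K} (hg₀ : g₀ ∈ Q) (hag₀ : ¬ Commute a₀ g₀) : False := by
  classical

  -- pass to `Q` modulo its centre
  obtain ⟨φ, hφ⟩ : ∃ φ : L →* MulAut (Q ⧸ Subgroup.center Q), ∀ (x : L) (u : Q),
      φ x (QuotientGroup.mk u) = QuotientGroup.mk (ψ x u) := by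
    refine ⟨MonoidHom.mk' (fun x => QuotientGroup.congr (Subgroup.center Q) (Subgroup.center Q) (ψ x)
      (Subgroup.characteristic_iff_map_eq.1 (inferInstance : (Subgroup.center Q).Characteristic) (ψ x))) ?_,
      fun x u => rfl⟩
    intro x y
    refine MulEquiv.ext fun z => ?_
    obtain ⟨z, rfl⟩ := QuotientGroup.mk_surjective z
    show (QuotientGroup.mk (ψ (x * y) z) : Q ⧸ Subgroup.center Q) = QuotientGroup.mk (ψ x (ψ y z))
    rw [map_mul]; rfl
  obtain ⟨M, hMdef⟩ : ∃ M, M = (Q ⧸ Subgroup.center Q) := ⟨_, rfl⟩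
  have hMsq : ∀ m : Q ⧸ Subgroup.center Q, m * m = 1 := fun m => by
    obtain ⟨u, rfl⟩ := QuotientGroup.mk_surjective m
    rw [← QuotientGroup.mk_mul, QuotientGroup.eq_one_iff]
    exact hsq u
  have hMc : ∀ m m' : Q ⧸ Subgroup.center Q, m * m' = m' * m := fun m m' => by
    obtain ⟨u, rfl⟩ := QuotientGroup.mk_surjective m
    obtain ⟨u', rfl⟩ := QuotientGroup.mk_surjective m'
    rw [← commutatorElement_eq_one_iff_mul_comm]
    exact (map_commutatorElement (QuotientGroup.mk' (Subgroup.center Q)) u u').symm.trans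
      ((QuotientGroup.eq_one_iff _).2 (hcl u u'))
  have hMi : ∀ m : Q ⧸ Subgroup.center Q, m⁻¹ = m := fun m => inv_eq_of_mul_eq_one_right (hMsq m)
  -- the commutator map of an element
  obtain ⟨f, hf⟩ : ∃ f : L → (Q ⧸ Subgroup.center Q →* Q ⧸ Subgroup.center Q), ∀ x m, f x m = m * φ x m :=
    ⟨fun x => MonoidHom.mk' (fun m => m * φ x m) fun m m' => by
      rw [map_mul, mul_assoc, ← mul_assoc m', hMc m' (φ x m), mul_assoc (φ x m), ← mul_assoc], fun _ _ => rfl⟩
  have hA3 : ∀ a : L, (a : K) ∈ ⁅L, L⁆ → ∀ m, φ a (φ a (φ a m)) = m := fun a ha m => by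
    have e : a * a * a = 1 := Subtype.ext (by
      have := hap a ha
      rwa [pow_succ, pow_two] at this)
    rw [← MulAut.mul_apply, ← MulAut.mul_apply, ← map_mul, ← map_mul, e, map_one]; rfl
  have hAB : ∀ a b : L, (a : K) ∈ ⁅L, L⁆ → (b : K) ∈ ⁅L, L⁆ → ∀ m, φ a (φ b m) = φ b (φ a m) := fun a b ha hb m => by
    rw [← MulAut.mul_apply, ← MulAut.mul_apply, ← map_mul, ← map_mul,
      show a * b = b * a from Subtype.ext (hAc a ha b hb).eq]
  have hfix : ∀ a : L, (a : K) ∈ ⁅L, L⁆ → ∀ m, φ a (f a m) = f a m → f a m = 1 := by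
    intro a ha m hm
    rw [hf, map_mul] at hm
    have h1 : φ a (φ a m) = m := by
      refine mul_left_cancel (a := φ a m) ?_
      rw [hm, hMc]
    have h2 := hA3 a ha m
    rw [h1] at h2
    rw [hf, h2, hMsq]
  have hfour : ∀ a : L, (a : K) ∈ ⁅L, L⁆ → Nat.card (f a).range ≤ 4 := by
    intro a ha
    by_cases htriv : ∀ u : Q, Commute (a : K) (u : K)
    · have e : (f a).range = ⊥ := le_bot_iff.1 (by
        rintro _ ⟨m, rfl⟩
        obtain ⟨u, rfl⟩ := QuotientGroup.mk_surjective m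
        rw [Subgroup.mem_bot, hf, hφ, show ψ a u = u from Subtype.ext (by rw [hψ, (htriv u).eq, mul_inv_cancel_right]), hMsq])
      rw [e, Subgroup.card_bot]; norm_num
    push Not at htriv
    obtain ⟨H, hindex, hH⟩ := hsub a ha htriv
    have hmove : ∀ r ∈ (f a).range, r ≠ 1 → ∀ u : Q, QuotientGroup.mk u = r → ⁅u, ψ a u⁆ ∉ H := by
      rintro r ⟨m, rfl⟩ hr u hu hin
      refine hr (hfix a ha m ?_)
      rw [← hu, hφ, eq_comm, QuotientGroup.eq]
      exact hH u hin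
    obtain ⟨β, hβ⟩ : ∃ β : Q → Q → Q, ∀ u v, β u v = ⁅u, ψ a v⁆ * ⁅v, ψ a u⁆ := ⟨_, fun _ _ => rfl⟩
    have hcC : ∀ u v : Q, ⁅u, v⁆ ∈ Cm := fun u v => hCm ▸ Subgroup.commutator_mem_commutator trivial trivial
    have hmove' : ∀ u v : Q, ∀ z : Q, ⁅u, v⁆ * z = z * ⁅u, v⁆ := fun u v z => (Subgroup.mem_center_iff.1 (hcl u v) z).symm
    have hq : ∀ u v, ⁅u * v, ψ a (u * v)⁆ = ⁅u, ψ a u⁆ * ⁅v, ψ a v⁆ * β u v := fun u v => by
      rw [map_mul, comm_mul_right hcl, comm_mul_left hcl, comm_mul_left hcl, hβ]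
      calc ⁅u, ψ a u⁆ * ⁅v, ψ a u⁆ * (⁅u, ψ a v⁆ * ⁅v, ψ a v⁆)
          = ⁅u, ψ a u⁆ * (⁅v, ψ a u⁆ * (⁅u, ψ a v⁆ * ⁅v, ψ a v⁆)) := by group
        _ = ⁅u, ψ a u⁆ * ((⁅u, ψ a v⁆ * ⁅v, ψ a v⁆) * ⁅v, ψ a u⁆) := by rw [hmove' v (ψ a u)]
        _ = ⁅u, ψ a u⁆ * ((⁅v, ψ a v⁆ * ⁅u, ψ a v⁆) * ⁅v, ψ a u⁆) := by rw [hmove' u (ψ a v) ⁅v, ψ a v⁆]
        _ = ⁅u, ψ a u⁆ * ⁅v, ψ a v⁆ * (⁅u, ψ a v⁆ * ⁅v, ψ a u⁆) := by group
    have hβmul : ∀ u v w, β u (v * w) = β u v * β u w := fun u v w => by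
      rw [hβ, hβ, hβ, map_mul, comm_mul_right hcl, comm_mul_left hcl, mul_assoc, mul_assoc]
      congr 1
      rw [← mul_assoc, ← mul_assoc, hmove' u (ψ a w) ⁅v, ψ a u⁆]
    have hout : ∀ u v : Q, (QuotientGroup.mk u : Q ⧸ Subgroup.center Q) ∈ (f a).range →
        (QuotientGroup.mk v : Q ⧸ Subgroup.center Q) ∈ (f a).range → (QuotientGroup.mk u : Q ⧸ Subgroup.center Q) ≠ 1 →
        (QuotientGroup.mk v : Q ⧸ Subgroup.center Q) ≠ 1 → (QuotientGroup.mk u : Q ⧸ Subgroup.center Q) ≠ QuotientGroup.mk v →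
        β u v ∉ H := by
      intro u v hu hv hu1 hv1 huv hin
      refine hmove _ (mul_mem hu hv) (fun e => huv ?_) (u * v) (QuotientGroup.mk_mul _ u v) ?_
      · rw [← hMi (QuotientGroup.mk v)]; exact eq_inv_of_mul_eq_one_left e
      rw [hq]
      exact mul_mem (hindex _ (hcC _ _) _ (hcC _ _) (hmove _ hu hu1 u rfl) (hmove _ hv hv1 v rfl)) hin
    by_contra hgt
    push Not at hgt
    obtain ⟨r, hr, hr1⟩ : ∃ r ∈ (f a).range, r ≠ 1 := by
      by_contra hc
      push Not at hc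
      have e : (f a).range = ⊥ := eq_bot_iff.2 fun x hx => Subgroup.mem_bot.2 (hc x hx)
      rw [e, Subgroup.card_bot] at hgt
      omega
    obtain ⟨s, hs, hs'⟩ : ∃ s ∈ (f a).range, s ∉ ({1, r} : Set _) := by
      by_contra hc
      push Not at hc
      have := (Set.ncard_le_ncard (show ((f a).range : Set _) ⊆ {1, r} from hc)).trans (Set.ncard_insert_le _ _)
      rw [Set.ncard_singleton, ← Nat.card_coe_set_eq, SetLike.coe_sort_coe] at this
      omega
    obtain ⟨t, ht, ht'⟩ : ∃ t ∈ (f a).range, t ∉ ({1, r, s, r * s} : Set _) := by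
      by_contra hc
      push Not at hc
      have h4 := Set.ncard_le_ncard (show ((f a).range : Set _) ⊆ {1, r, s, r * s} from hc)
      have i1 := Set.ncard_insert_le 1 ({r, s, r * s} : Set (Q ⧸ Subgroup.center Q))
      have i2 := Set.ncard_insert_le r ({s, r * s} : Set (Q ⧸ Subgroup.center Q))
      have i3 := Set.ncard_insert_le s ({r * s} : Set (Q ⧸ Subgroup.center Q))
      rw [Set.ncard_singleton] at i3
      rw [← Nat.card_coe_set_eq, SetLike.coe_sort_coe] at h4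
      omega
    simp only [Set.mem_insert_iff, Set.mem_singleton_iff, not_or] at hs' ht'
    obtain ⟨u, rfl⟩ := QuotientGroup.mk_surjective r
    obtain ⟨v, rfl⟩ := QuotientGroup.mk_surjective s
    obtain ⟨w, rfl⟩ := QuotientGroup.mk_surjective t
    have n1 := hout u v hr hs hr1 hs'.1 (Ne.symm hs'.2)
    have n2 := hout u w hr ht hr1 ht'.1 (Ne.symm ht'.2.1)
    have n3 := hout u (v * w) hr (by rw [QuotientGroup.mk_mul]; exact mul_mem hs ht) hr1
      (fun e => ht'.2.2.1 (by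
        rw [QuotientGroup.mk_mul] at e
        rw [← hMi (QuotientGroup.mk v)]; exact eq_inv_of_mul_eq_one_right e))
      (fun e => ht'.2.2.2 (by
        rw [QuotientGroup.mk_mul] at e
        rw [e, hMc (QuotientGroup.mk v * _), ← mul_assoc, hMsq, one_mul]))
    refine n3 ?_
    rw [hβmul]
    exact hindex _ (mul_mem (hcC _ _) (hcC _ _) |> (hβ u v ▸ ·)) _ (mul_mem (hcC _ _) (hcC _ _) |> (hβ u w ▸ ·)) n1 n2
  -- all non-trivial elements of `A` have the same fixed points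
  have hsame : ∀ a b : L, (a : K) ∈ ⁅L, L⁆ → (b : K) ∈ ⁅L, L⁆ → (∃ m, φ a m ≠ m) →
      ∀ c, φ a c = c → φ b c = c := by
    intro a b ha hb hamove c hc
    by_contra hbc
    obtain ⟨m₀, hm₀⟩ := hamove
    obtain ⟨r, hr⟩ : ∃ r, r = f a m₀ := ⟨_, rfl⟩
    have hr1 : r ≠ 1 := fun e => hm₀ (by
      rw [hr, hf] at e
      exact (eq_inv_of_mul_eq_one_right e).trans (hMi m₀))
    -- an element moving both
    obtain ⟨b', hb', hb'c, r', hr', hb'r⟩ : ∃ b' : L, (b' : K) ∈ ⁅L, L⁆ ∧ φ b' c ≠ c ∧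
        ∃ r' ∈ (f a).range, φ b' r' ≠ r' := by
      by_cases hbr : ∃ r' ∈ (f a).range, φ b r' ≠ r'
      · exact ⟨b, hb, hbc, hbr⟩
      push Not at hbr
      refine ⟨b * a, mul_mem hb ha, ?_, r, ⟨m₀, hr.symm⟩, ?_⟩
      · rw [map_mul, MulAut.mul_apply, hc]; exact hbc
      · rw [map_mul, MulAut.mul_apply, hbr _ ⟨φ a m₀, by rw [hf, hr, hf, map_mul]⟩]
        exact fun e => hr1 (hr ▸ hfix a ha m₀ (hr ▸ e))
    have hRinv : ∀ r'' ∈ (f a).range, φ b' r'' ∈ (f a).range := by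
      rintro _ ⟨m, rfl⟩
      exact ⟨φ b' m, by rw [hf, hf, map_mul, hAB a b' ha hb']⟩
    obtain ⟨s, hs⟩ : ∃ s, s = f b' r' := ⟨_, rfl⟩
    obtain ⟨w, hw⟩ : ∃ w, w = f b' c := ⟨_, rfl⟩
    have hs1 : s ≠ 1 := fun e => hb'r (by
      rw [hs, hf] at e; exact (eq_inv_of_mul_eq_one_right e).trans (hMi r'))
    have hw1 : w ≠ 1 := fun e => hb'c (by
      rw [hw, hf] at e; exact (eq_inv_of_mul_eq_one_right e).trans (hMi c))
    have hsR : s ∈ (f a).range := by rw [hs, hf]; exact mul_mem hr' (hRinv _ hr')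
    have hwC : φ a w = w := by rw [hw, hf, map_mul, hc, hAB a b' ha hb', hc]
    have hs2 : φ b' s ≠ s := fun e => hs1 (hs ▸ hfix b' hb' r' (hs ▸ e))
    have hw2 : φ b' w ≠ w := fun e => hw1 (hw ▸ hfix b' hb' c (hw ▸ e))
    have hwC' : φ a (φ b' w) = φ b' w := by rw [hAB a b' ha hb', hwC]
    have hsR' : φ b' s ∈ (f a).range := hRinv _ hsR
    have hrange : ∀ z : Q ⧸ Subgroup.center Q, z ∈ (f b').range → φ b' z ∈ (f b').range := by
      rintro _ ⟨m, rfl⟩; exact ⟨φ b' m, by rw [hf, hf, map_mul]⟩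
    have hsb : s ∈ (f b').range := ⟨r', hs.symm⟩
    have hwb : w ∈ (f b').range := ⟨c, hw.symm⟩
    have hdisj : ∀ x y x' y', x ∈ (f a).range → x' ∈ (f a).range → φ a y = y → φ a y' = y' →
        x * y = x' * y' → x = x' ∧ y = y' := by
      intro x y x' y' hx hx' hy hy' e
      have hxx : x * x' = 1 := by
        obtain ⟨m, hm⟩ := mul_mem hx hx'
        rw [← hm]
        refine hfix a ha m ?_
        have e2 : x * x' = y * y' := by
          rw [← hMi y]
          have : y⁻¹ * y' = x'⁻¹ * x := by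
            calc y⁻¹ * y' = y⁻¹ * (x'⁻¹ * (x' * y')) := by group
              _ = y⁻¹ * (x'⁻¹ * (x * y)) := by rw [e]
              _ = x'⁻¹ * x := by rw [← mul_assoc x'⁻¹, hMc (x'⁻¹ * x), inv_mul_cancel_left]
          rw [this, hMi, hMc]
        rw [hm, e2, map_mul, hy, hy']
      have hx' : x = x' := (eq_inv_of_mul_eq_one_left hxx).trans (hMi x')
      exact ⟨hx', by rw [hx'] at e; exact mul_left_cancel e⟩
    have hbig := hfour b' hb'
    have h9 : 9 ≤ Nat.card (f b').range := by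
      let g : Fin 3 × Fin 3 → (f b').range := fun ij =>
        ⟨![1, s, φ b' s] ij.1 * ![1, w, φ b' w] ij.2, mul_mem
          (by rcases ij with ⟨i, j⟩; fin_cases i <;> simp [hsb, hrange s hsb, one_mem])
          (by rcases ij with ⟨i, j⟩; fin_cases j <;> simp [hwb, hrange w hwb, one_mem])⟩
      have hg : Function.Injective g := by
        rintro ⟨i, j⟩ ⟨i', j'⟩ e
        have := congrArg Subtype.val e
        obtain ⟨e1, e2⟩ := hdisj _ _ _ _ (by fin_cases i <;> simp [hsR, hsR', one_mem])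
          (by fin_cases i' <;> simp [hsR, hsR', one_mem]) (by fin_cases j <;> simp [hwC, hwC'])
          (by fin_cases j' <;> simp [hwC, hwC']) this
        have hs3 : φ b' s ≠ 1 := fun e => hs1 (by simpa using e)
        have hw3 : φ b' w ≠ 1 := fun e => hw1 (by simpa using e)
        have hi : i = i' := by
          have t1 : (1 : Q ⧸ Subgroup.center Q) ≠ s := fun e => hs1 e.symm
          have t2 : s ≠ φ b' s := fun e => hs2 e.symm
          have t3 : (1 : Q ⧸ Subgroup.center Q) ≠ φ b' s := fun e => hs3 e.symm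
          fin_cases i <;> fin_cases i' <;> first | rfl | (exfalso; simp at e1; first
            | exact t1 e1 | exact hs1 e1 | exact t2 e1 | exact hs2 e1 | exact t3 e1 | exact hs3 e1)
        have hj : j = j' := by
          have t1 : (1 : Q ⧸ Subgroup.center Q) ≠ w := fun e => hw1 e.symm
          have t2 : w ≠ φ b' w := fun e => hw2 e.symm
          have t3 : (1 : Q ⧸ Subgroup.center Q) ≠ φ b' w := fun e => hw3 e.symm
          fin_cases j <;> fin_cases j' <;> first | rfl | (exfalso; simp at e2; first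
            | exact t1 e2 | exact hw1 e2 | exact t2 e2 | exact hw2 e2 | exact t3 e2 | exact hw3 e2)
        rw [hi, hj]
      simpa using Nat.card_le_card_of_injective g hg
    omega
  -- some commutator moves `Q` modulo its centre
  obtain ⟨a, ha, m₀, hm₀⟩ : ∃ a : L, (a : K) ∈ ⁅L, L⁆ ∧ ∃ m, φ a m ≠ m := by
    by_contra hc
    push Not at hc
    refine hag₀ ?_
    obtain ⟨z, hz⟩ : ∃ z, z = (⟨g₀, hg₀⟩ : Q)⁻¹ * ψ ⟨a₀, hAL ha₀⟩ ⟨g₀, hg₀⟩ := ⟨_, rfl⟩
    have h0 := hc ⟨a₀, hAL ha₀⟩ ha₀ (QuotientGroup.mk ⟨g₀, hg₀⟩)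
    rw [hφ, eq_comm, QuotientGroup.eq, ← hz] at h0
    have hzfix : ψ ⟨a₀, hAL ha₀⟩ z = z := Subtype.ext (by
      rw [hψ, (hZA a₀ ha₀ z h0).eq, mul_inv_cancel_right])
    have hg : ∀ i : ℕ, ψ (⟨a₀, hAL ha₀⟩ ^ i) ⟨g₀, hg₀⟩ = ⟨g₀, hg₀⟩ * z ^ i := by
      intro i
      induction i with
      | zero => simp
      | succ i ihi =>
        rw [pow_succ', map_mul, MulAut.mul_apply, ihi, map_mul, map_pow, hzfix,
          show ψ ⟨a₀, hAL ha₀⟩ ⟨g₀, hg₀⟩ = ⟨g₀, hg₀⟩ * z by rw [hz, mul_inv_cancel_left], mul_assoc, ← pow_succ']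
    have h3' := hg 3
    rw [show (⟨a₀, hAL ha₀⟩ : L) ^ 3 = 1 from Subtype.ext (hap a₀ ha₀), map_one, MulAut.one_apply, left_eq_mul] at h3'
    obtain ⟨i, hi⟩ := hQq z
    have hz1 : z = 1 := orderOf_eq_one_iff.1 (Nat.eq_one_of_dvd_coprimes
      ((Nat.coprime_primes Nat.prime_three Nat.prime_two).2 (by norm_num) |>.pow_right i)
      (orderOf_dvd_of_pow_eq_one h3') (orderOf_dvd_of_pow_eq_one hi))
    rw [hz, inv_mul_eq_one] at hz1
    have h4 := congrArg Subtype.val hz1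
    rw [hψ, eq_mul_inv_iff_mul_eq] at h4
    exact h4.symm
  -- the fixed points are trivial
  have hC1 : ∀ c, φ a c = c → c = 1 := by
    let U : Subgroup Q :=
      { carrier := {u | φ a (QuotientGroup.mk u) = QuotientGroup.mk u}
        one_mem' := by simp
        mul_mem' := fun {x y} hx hy => by
          show φ a (QuotientGroup.mk (x * y)) = _
          rw [QuotientGroup.mk_mul, map_mul, hx, hy]
        inv_mem' := fun {x} hx => by
          show φ a (QuotientGroup.mk x⁻¹) = _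
          rw [QuotientGroup.mk_inv, map_inv, hx] }
    rcases hirr U (fun z hz => by
        show φ a (QuotientGroup.mk z) = _
        rw [(QuotientGroup.eq_one_iff z).2 hz, map_one]) (fun x u hu => by
        show φ a (QuotientGroup.mk (ψ x u)) = QuotientGroup.mk (ψ x u)
        have hxa : ((x⁻¹ * a * x : L) : K) ∈ ⁅L, L⁆ := by
          have h := (Subgroup.mem_normalizer_iff.1 ((Subgroup.normalizer_commutator_ge_left L L) (x⁻¹ : L).2) (a : K)).1 ha
          simpa using h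
        have h := hsame a (x⁻¹ * a * x) ha hxa ⟨m₀, hm₀⟩ _ hu
        rw [map_mul, map_mul, map_inv, MulAut.mul_apply, MulAut.mul_apply, hφ] at h
        have h' := congrArg (φ x) h
        rw [MulAut.apply_inv_self] at h'
        rw [h', hφ]) with h | h
    · intro c hc
      obtain ⟨u, rfl⟩ := QuotientGroup.mk_surjective c
      exact (QuotientGroup.eq_one_iff u).2 (h ▸ hc : u ∈ Subgroup.center Q)
    · exfalso
      obtain ⟨u, rfl⟩ := QuotientGroup.mk_surjective m₀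
      exact hm₀ (h ▸ Subgroup.mem_top u : u ∈ U)
  have hinj : Function.Injective (f a) := by
    rw [injective_iff_map_eq_one]
    intro m hm
    rw [hf] at hm
    exact hC1 m ((eq_inv_of_mul_eq_one_right hm).trans (hMi m))
  have hM4 : Nat.card (Q ⧸ Subgroup.center Q) ≤ 4 := by
    have := hfour a ha
    rwa [← Nat.card_congr (MonoidHom.ofInjective hinj).toEquiv] at this
  -- every element acts as a power of `a`
  have hm₁ : m₀ ≠ 1 := fun e => hm₀ (by rw [e, map_one])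
  have hall : ∀ m, m = 1 ∨ ∃ i : ℕ, m = φ (a ^ i) m₀ := by
    have e1 : φ a m₀ ≠ 1 := fun e => hm₁ (by simpa using e)
    have e2 : φ a (φ a m₀) ≠ φ a m₀ := fun e => hm₀ ((φ a).injective e)
    have e3 : φ a (φ a m₀) ≠ m₀ := fun e => by
      have := hA3 a ha m₀
      rw [e] at this
      exact hm₀ this
    have e4 : φ a (φ a m₀) ≠ 1 := fun e => e1 (by simpa using e)
    have hcard : ({1, m₀, φ a m₀, φ a (φ a m₀)} : Set (Q ⧸ Subgroup.center Q)).ncard = 4 := by
      rw [Set.ncard_insert_of_notMem (by simp [hm₁.symm, e1.symm, e4.symm]),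
        Set.ncard_insert_of_notMem (by simp [Ne.symm hm₀, Ne.symm e3]), Set.ncard_pair (Ne.symm e2)]
    intro m
    have huniv : ({1, m₀, φ a m₀, φ a (φ a m₀)} : Set (Q ⧸ Subgroup.center Q)) = Set.univ :=
      Set.eq_of_subset_of_ncard_le (Set.subset_univ _) (by rw [Set.ncard_univ, hcard]; exact hM4)
    have hm : m ∈ ({1, m₀, φ a m₀, φ a (φ a m₀)} : Set (Q ⧸ Subgroup.center Q)) := huniv ▸ Set.mem_univ m
    rcases hm with e | e | e | e
    · exact Or.inl e
    · exact Or.inr ⟨0, by simpa using e⟩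
    · exact Or.inr ⟨1, by simpa using e⟩
    · exact Or.inr ⟨2, by rw [e, pow_two, map_mul]; rfl⟩
  have hpow : ∀ x : L, ∃ i : ℕ, φ x = φ (a ^ i) := by
    intro x
    rcases hall (φ x m₀) with e | ⟨i, hi⟩
    · exact absurd (by simpa using e) hm₁
    refine ⟨i, ?_⟩
    obtain ⟨y, hy⟩ : ∃ y, y = φ ((a ^ i)⁻¹ * x) := ⟨_, rfl⟩
    suffices h : y = 1 by
      rw [hy, map_mul, map_inv, inv_mul_eq_one] at h
      exact h.symm
    have hy0 : y m₀ = m₀ := by rw [hy, map_mul, MulAut.mul_apply, hi, ← MulAut.mul_apply, ← map_mul, inv_mul_cancel, map_one]; rfl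
    obtain ⟨j, hj⟩ := hL ((a ^ i)⁻¹ * x)
    have hyj : y ^ 3 ^ j = 1 := by rw [hy, ← map_pow, hj, map_one]
    -- `y` permutes the two other points and has odd order
    have hswap : ∀ m, y (y m) = m := by
      intro m
      rcases eq_or_ne m 1 with rfl | hm1
      · simp
      rcases eq_or_ne m m₀ with rfl | hm0
      · rw [hy0, hy0]
      by_contra hne
      have hym : y m ≠ m := fun e => hne (by rw [e, e])
      have hyy : y (y m) ≠ y m := fun e => hym (y.injective e)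
      have hsub : ({1, m₀, m, y m, y (y m)} : Set (Q ⧸ Subgroup.center Q)).ncard = 5 := by
        have a1 : y m ≠ 1 := fun e => hm1 (by simpa using e)
        have a2 : y m ≠ m₀ := fun e => hm0 (y.injective (e.trans hy0.symm))
        have a3 : y (y m) ≠ 1 := fun e => a1 (by simpa using e)
        have a4 : y (y m) ≠ m₀ := fun e => a2 (y.injective (e.trans hy0.symm))
        rw [Set.ncard_insert_of_notMem (by simp [hm₁.symm, hm1.symm, a1.symm, a3.symm]),
          Set.ncard_insert_of_notMem (by simp [hm0.symm, a2.symm, a4.symm]),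
          Set.ncard_insert_of_notMem (by simp [Ne.symm hym, Ne.symm hne]), Set.ncard_pair (Ne.symm hyy)]
      have := Set.ncard_le_ncard (Set.subset_univ ({1, m₀, m, y m, y (y m)} : Set (Q ⧸ Subgroup.center Q)))
      rw [hsub, Set.ncard_univ] at this
      omega
    have hy2 : y ^ 2 = 1 := MulEquiv.ext fun m => by rw [pow_two, MulAut.mul_apply, hswap]; rfl
    exact orderOf_eq_one_iff.1 (Nat.eq_one_of_dvd_coprimes
      (((Nat.coprime_primes Nat.prime_two Nat.prime_three).2 (by norm_num)).pow_right j)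
      (orderOf_dvd_of_pow_eq_one hy2) (orderOf_dvd_of_pow_eq_one hyj))
  -- so all commutators act trivially
  have hker : ⁅L, L⁆ ≤ φ.ker.map L.subtype := by
    rw [Subgroup.commutator_le]
    intro x hx y hy
    refine ⟨⁅(⟨x, hx⟩ : L), (⟨y, hy⟩ : L)⁆, ?_, by simp [commutatorElement_def]⟩
    obtain ⟨i, hi⟩ := hpow ⟨x, hx⟩
    obtain ⟨j, hj⟩ := hpow ⟨y, hy⟩
    rw [SetLike.mem_coe, MonoidHom.mem_ker, map_commutatorElement, hi, hj, map_pow, map_pow,
      commutatorElement_eq_one_iff_commute]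
    exact Commute.pow_pow_self (φ a) i j
  obtain ⟨a', ha', e⟩ := hker ha
  rw [Subtype.ext e] at ha'
  rw [SetLike.mem_coe, MonoidHom.mem_ker] at ha'
  exact hm₀ (by rw [ha']; rfl)

/-- The elements of the derived subgroup of the operator group centralize an invariant `q`-group. -/
theorem centralizes {K : Type u} [Group K] [Finite K] {k : ℕ}
    (σ : K →* Module.End (ZMod p) (Fin k → ZMod p)) (hσ : Function.Injective σ) (hp2 : p ≠ 2)
    (L : Subgroup K) (hL : IsPGroup p L) (hAc : ∀ a ∈ ⁅L, L⁆, ∀ b ∈ ⁅L, L⁆, Commute a b)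
    (hquad : ∀ a ∈ ⁅L, L⁆, (σ a - 1) ^ 2 = 0)
    (hmix : ∀ a ∈ ⁅L, L⁆, ∀ x ∈ L, (σ a - 1) * (σ x - 1) ^ 2 = 0)
    {q : ℕ} [Fact q.Prime] (hqp : q ≠ p) :
    ∀ (n : ℕ) (Q : Subgroup K), Nat.card Q = n → IsPGroup q Q → L ≤ Subgroup.normalizer (Q : Set K) →
      ∀ a ∈ ⁅L, L⁆, ∀ g ∈ Q, Commute a g := by
  intro n
  induction n using Nat.strong_induction_on with
  | _ n ih =>
  intro Q hQn hQq hLQ
  classical
  have hAL : ⁅L, L⁆ ≤ L := Subgroup.commutator_le_self L
  by_contra hcon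
  push Not at hcon
  obtain ⟨a₀, ha₀, g₀, hg₀, hag₀⟩ := hcon
  have hnconj : ∀ x ∈ L, ∀ g ∈ Q, x * g * x⁻¹ ∈ Q := fun x hx g hg =>
    (Subgroup.mem_normalizer_iff.1 (hLQ hx) g).1 hg
  have hap : ∀ a ∈ ⁅L, L⁆, a ^ p = 1 := fun a ha => pow_p_eq_one hp2 σ hσ (hquad a ha)
  have hRco : (Nat.card Q).Coprime p := by
    obtain ⟨j, hj⟩ := hQq.exists_card_eq
    rw [hj]; exact ((Nat.coprime_primes (Fact.out : q.Prime) hp.out).2 hqp).pow_left j
  -- the primes are three and two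
  obtain ⟨rfl, rfl⟩ : p = 3 ∧ q = 2 := by
    obtain ⟨q', hq', Q', hq'p, hQ'Q, hQ'1, hQ'q, hxQ', hcl, hC, hQY⟩ := ThmB.exists_min_moved Q a₀
      (hLQ (hAL ha₀)) hRco 1 (by rw [pow_one, hap a₀ ha₀]) ⟨g₀, hg₀, by simpa using hag₀⟩
    obtain ⟨z, hz, hz1⟩ := (Subgroup.bot_or_exists_ne_one Q').resolve_left hQ'1
    have hqq : q' = q := by
      obtain ⟨i, hi⟩ := hQ'q ⟨z, hz⟩
      obtain ⟨j, hj⟩ := hQq ⟨z, hQ'Q hz⟩
      by_contra hne
      exact hz1 (orderOf_eq_one_iff.1 (Nat.eq_one_of_dvd_coprimes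
        (((Nat.coprime_primes hq'.out (Fact.out : q.Prime)).2 hne).pow i j)
        (orderOf_dvd_of_pow_eq_one (congrArg Subtype.val hi)) (orderOf_dvd_of_pow_eq_one (congrArg Subtype.val hj))))
    subst hqq
    have hge := hp.out.two_le
    rcases ThmB.rep_bound hqp Q' hQ'q a₀ hxQ' hcl 1 (by rw [pow_one, hap a₀ ha₀]) hC hQY σ
      ⟨z, hz, fun h => hz1 (hσ (h.trans (map_one σ).symm))⟩ 2 (hquad a₀ ha₀) with h | ⟨n₀, b, h1, h2, h3, h4, -, h6⟩
    · rw [pow_one] at h; omega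
    obtain rfl : n₀ = 1 := by omega
    rw [Nat.sub_self, pow_zero, one_mul, pow_one] at h6
    rw [pow_one] at h4
    obtain rfl : p = 3 := by omega
    refine ⟨rfl, (Nat.prime_dvd_prime_iff_eq (Fact.out : q'.Prime) Nat.prime_two).1 ?_⟩
    rw [show 2 = q' ^ b from h4]
    exact dvd_pow_self q' (by omega)
  have h3 : (3 : Module.End (ZMod 3) (Fin k → ZMod 3)) = 0 := by
    rw [← map_ofNat (algebraMap (ZMod 3) (Module.End (ZMod 3) (Fin k → ZMod 3))) 3,
      three_zmod, map_zero]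
  have hhalf : ∀ v : Fin k → ZMod 3, v + v = 0 → v = 0 := fun v hv => by
    funext i
    have h := congrFun hv i
    simp only [Pi.add_apply, Pi.zero_apply] at h ⊢
    exact half_zmod _ h
  -- the action on `Q`
  obtain ⟨ψ, hψ⟩ : ∃ ψ : L →* MulAut Q, ∀ (x : L) (u : Q), ((ψ x u : Q) : K) = x * u * (x : K)⁻¹ :=
    ⟨(Subgroup.normalizerMonoidHom Q).comp (Subgroup.inclusion hLQ), fun _ _ => rfl⟩
  have hmin : ∀ U : Subgroup Q, U ≠ ⊤ → (∀ x : L, ∀ u ∈ U, ψ x u ∈ U) →
      ∀ a ∈ ⁅L, L⁆, ∀ u ∈ U, Commute a (u : K) := by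
    intro U hU hinv a ha u hu
    refine ih (Nat.card (U.map Q.subtype)) ?_ _ rfl (hQq.to_le (Subgroup.map_subtype_le _)) ?_ a ha u
      ⟨u, hu, rfl⟩
    · rw [← hQn, Subgroup.card_map_of_injective Q.subtype_injective]
      exact (Subgroup.card_le_card_group U).lt_of_ne fun e => hU (Subgroup.eq_top_of_card_eq U e)
    · intro x hx
      refine Subgroup.mem_normalizer_fintype fun w hw => ?_
      obtain ⟨w, hw', rfl⟩ := hw
      exact ⟨_, hinv ⟨x, hx⟩ w hw', hψ _ w⟩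
  have hna : ¬ IsMulCommutative Q := fun hc => by
    refine hag₀ ?_
    have h := PLE.fixes_abelian σ hσ hqp Q hQq hc a₀ 1 le_rfl (hLQ (hAL ha₀))
      (by rw [pow_one, hap a₀ ha₀]) (by simpa using hquad a₀ ha₀) g₀ hg₀
    simpa using h
  obtain ⟨hcl, hirr⟩ : (∀ u v : Q, ⁅u, v⁆ ∈ Subgroup.center Q) ∧ ∀ U : Subgroup Q, Subgroup.center Q ≤ U →
      (∀ x : L, ∀ u ∈ U, ψ x u ∈ U) → U = Subgroup.center Q ∨ U = ⊤ := by
    haveI hAn : ((⁅L, L⁆).subgroupOf L).Normal := by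
      refine (Subgroup.normal_subgroupOf_iff_le_normalizer hAL).2 ?_
      exact Subgroup.normalizer_commutator_ge_left L L
    haveI : (((⁅L, L⁆).subgroupOf L).map ψ.rangeRestrict).Normal := hAn.map _ ψ.rangeRestrict_surjective
    obtain ⟨h1, h2⟩ := CommFix.shape (p := 3) (q := 2) (by norm_num) hQq hna ψ.range
      (hL.of_surjective ψ.rangeRestrict ψ.rangeRestrict_surjective)
      (((⁅L, L⁆).subgroupOf L).map ψ.rangeRestrict)
      ⟨_, ⟨⟨a₀, hAL ha₀⟩, ha₀, rfl⟩, ⟨g₀, hg₀⟩, fun h => hag₀ (by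
        have h' : (ψ ⟨a₀, hAL ha₀⟩ ⟨g₀, hg₀⟩ : K) = g₀ := congrArg Subtype.val h
        rw [hψ] at h'
        exact mul_inv_eq_iff_eq_mul.1 h')⟩
      (fun U hU hinv n' hn' u hu => by
        obtain ⟨a, ha, rfl⟩ := hn'
        refine Subtype.ext ?_
        show (ψ a u : K) = (u : K)
        rw [hψ, (hmin U hU (fun x => hinv _ ⟨x, rfl⟩) (a : K) ha u hu).eq, mul_inv_cancel_right])
    exact ⟨h1, fun U h3 h4 => h2 U h3 fun g hg u hu => by obtain ⟨x, rfl⟩ := hg; exact h4 x u hu⟩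
  have hZne : Subgroup.center Q ≠ ⊤ := fun h => hna ⟨⟨fun u v => (Subgroup.mem_center_iff.1 (h ▸ Subgroup.mem_top u) v).symm⟩⟩
  have hZinv : ∀ x : L, ∀ u ∈ Subgroup.center Q, ψ x u ∈ Subgroup.center Q := fun x u hu =>
    Subgroup.characteristic_iff_map_eq.1 (inferInstance : (Subgroup.center Q).Characteristic) (ψ x) ▸
      Subgroup.mem_map_of_mem _ hu
  have hZA := hmin _ hZne hZinv
  -- squares are central, commutators are involutions
  have hsq : ∀ u : Q, u * u ∈ Subgroup.center Q := by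
    intro u
    haveI : Fact (Nat.Prime 2) := ⟨Nat.prime_two⟩
    have hinvU : ∀ x : L, ∀ w ∈ Subgroup.center Q ⊔ frattini Q, ψ x w ∈ Subgroup.center Q ⊔ frattini Q := fun x w hw =>
      Subgroup.characteristic_iff_map_eq.1 (inferInstance : (frattini Q).Characteristic) (ψ x) ▸
      Subgroup.characteristic_iff_map_eq.1 (inferInstance : (Subgroup.center Q).Characteristic) (ψ x) ▸
      Subgroup.map_sup (Subgroup.center Q) (frattini Q) (ψ x).toMonoidHom ▸ Subgroup.mem_map_of_mem _ hw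
    rcases hirr _ le_sup_left hinvU with h | h
    · exact h ▸ Subgroup.mem_sup_right (pow_two u ▸ pow_mem_frattini hQq u)
    · exact absurd (frattini_nongenerating h) hZne
  have hinvol : ∀ u v : Q, ⁅u, v⁆ * ⁅u, v⁆ = 1 := fun u v => by
    rw [← comm_mul_left hcl, commutatorElement_eq_one_iff_mul_comm]
    exact (Subgroup.mem_center_iff.1 (hsq u) v).symm
  obtain ⟨Cm, hCm⟩ : ∃ Cm, Cm = commutator Q := ⟨_, rfl⟩
  have hCmZ : Cm ≤ Subgroup.center Q := by
    rw [hCm, commutator_def, Subgroup.commutator_le]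
    exact fun u _ v _ => hcl u v
  have hCm2 : ∀ c ∈ Cm, c * c = 1 := by
    intro c hc
    rw [hCm, commutator_eq_closure] at hc
    induction hc using Subgroup.closure_induction with
    | mem c hc => obtain ⟨u, v, rfl⟩ := hc; exact hinvol u v
    | one => exact one_mul 1
    | mul c d hc' _ ihc ihd =>
      have hcd : d * c = c * d :=
        Subgroup.mem_center_iff.1 (hCmZ (hCm ▸ (commutator_eq_closure Q).symm ▸ hc')) d
      calc c * d * (c * d) = c * (d * c) * d := by group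
        _ = (c * c) * (d * d) := by rw [hcd]; group
        _ = 1 := by rw [ihc, ihd, one_mul]
    | inv c _ ihc => rw [← mul_inv_rev, ihc, inv_one]
  have hCminv : ∀ x : L, ∀ c ∈ Cm, ψ x c ∈ Cm := fun x c hc =>
    hCm ▸ Subgroup.characteristic_iff_map_eq.1 (inferInstance : (commutator Q).Characteristic) (ψ x) ▸
      Subgroup.mem_map_of_mem _ (hCm ▸ hc)
  obtain ⟨S, hS⟩ : ∃ S : Q →* Module.End (ZMod 3) (Fin k → ZMod 3), ∀ u : Q, S u = σ u :=
    ⟨σ.comp Q.subtype, fun _ => rfl⟩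
  have hSsq : ∀ c ∈ Cm, S c * S c = 1 := fun c hc => by rw [← map_mul, hCm2 c hc, map_one]
  have hScomm : ∀ c ∈ Cm, ∀ u : Q, Commute (S c) (S u) := fun c hc u =>
    (show Commute c u from (Subgroup.mem_center_iff.1 (hCmZ hc) u).symm).map S
  have hconjS : ∀ (x : L) (u : Q), σ x * S u = S (ψ x u) * σ x := fun x u => by
    rw [hS, hS, ← map_mul, ← map_mul, hψ, inv_mul_cancel_right]
  -- `A` does not distinguish conjugate commutators
  have hshift : ∀ a ∈ ⁅L, L⁆, ∀ x : L, ∀ c ∈ Cm, (σ a - 1) * S (ψ x c) = (σ a - 1) * S c := by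
    intro a ha
    have hTc : ∀ c ∈ Cm, Commute (σ a - 1) (S c) := fun c hc =>
      ((hS c ▸ (hZA a ha c (hCmZ hc)).map σ : Commute (σ a) (S c))).sub_left (Commute.one_left _)
    have key : ∀ (m : ℕ) (y : L), y ^ 3 ^ m = 1 → ∀ c ∈ Cm, (σ a - 1) * S (ψ y c) = (σ a - 1) * S c := by
      intro m
      induction m with
      | zero => intro y hy c _; rw [pow_zero, pow_one] at hy; rw [hy, map_one]; rfl
      | succ m ihm =>
        intro y hy c hc
        have h3' := ihm (y ^ 3) (by rw [← pow_mul, ← pow_succ', hy]) c hc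
        have c1 := hCminv y c hc
        have c2 := hCminv y _ c1
        have e3 : ψ y (ψ y (ψ y c)) = ψ (y ^ 3) c := by
          rw [map_pow, pow_succ', pow_two, MulAut.mul_apply, MulAut.mul_apply]
        exact (shift_eq h3 (hmix a ha y y.2) (hSsq c hc) (hSsq _ c1) (hScomm c hc _) (hScomm _ c1 _)
          (hScomm c hc _) (hTc c hc) (hTc _ c1) (hTc _ c2) (hconjS y c) (hconjS y _) (hconjS y _)
          (e3 ▸ h3')).symm
    intro x c hc
    obtain ⟨m, hm⟩ := hL x
    exact key m x hm c hc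
  refine no_moved L Q hL hQq ψ hψ hcl hirr hsq Cm hCm hap hAc hAL hZA ?_ ha₀ hg₀ hag₀
  intro a ha hmove
  exact exists_hyperplane σ hσ L Q hQq ψ hψ hirr hZinv Cm hCmZ hCm2 hCminv (hAL ha) (hap a ha) (hquad a ha)
    (fun x c hc => by simpa only [hS] using hshift a ha x c hc) (hZA a ha)
    (fun U hU hinv => hmin U hU hinv a ha) hmove


/-- The structural consequence: quadratic commutators of operators are trivial. -/
theorem commutator_eq_bot {K : Type u} [Group K] [Finite K] (hK : Cfsg.IsPSolvable p K)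
    (hcore : Cfsg.pCore p K = ⊥) (hp2 : p ≠ 2) {k : ℕ}
    (σ : K →* Module.End (ZMod p) (Fin k → ZMod p)) (hσ : Function.Injective σ)
    (L : Subgroup K) (hL : IsPGroup p L) (hAc : ∀ a ∈ ⁅L, L⁆, ∀ b ∈ ⁅L, L⁆, Commute a b)
    (hquad : ∀ a ∈ ⁅L, L⁆, (σ a - 1) ^ 2 = 0)
    (hmix : ∀ a ∈ ⁅L, L⁆, ∀ x ∈ L, (σ a - 1) * (σ x - 1) ^ 2 = 0) : ⁅L, L⁆ = ⊥ := by
  classical
  obtain ⟨R, hR⟩ : ∃ R, R = Cfsg.pPrimeCore p K := ⟨_, rfl⟩
  haveI : R.Normal := hR ▸ pPrimeCore_normal p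
  have hRco : (Nat.card R).Coprime p := hR ▸ pPrimeCore_coprime p
  have hLR : L ≤ Subgroup.normalizer (R : Set K) := by rw [Subgroup.normalizer_eq_top]; exact le_top
  obtain ⟨i, hi⟩ := hL.exists_card_eq
  have hco : (Nat.card L).Coprime (Nat.card R) := hi ▸ (hRco.pow_right i).symm
  haveI : Group.IsNilpotent L := hL.isNilpotent
  rw [eq_bot_iff]
  intro c hc
  have hcR : (Subgroup.centralizer ({c} : Set K)).subgroupOf R = ⊤ := by
    refine eq_top_of_forall_sylow_le _ fun q hq => ?_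
    obtain ⟨S, hS, hLS⟩ := exists_invariant_sylow hLR hco (Or.inl inferInstance) q
    obtain ⟨S₀, hS₀⟩ := hS.exists_sylow
    refine ⟨S₀, fun s hs => ?_⟩
    rw [Subgroup.mem_subgroupOf]
    have hsS : (s : K) ∈ S := hS₀ ▸ Subgroup.mem_map_of_mem _ hs
    rcases eq_or_ne S ⊥ with hS1 | hS1
    · rw [hS1, Subgroup.mem_bot] at hsS
      rw [hsS]; exact one_mem _
    have hqp : q ≠ p := by
      rintro rfl
      obtain ⟨l, hl⟩ := hS.isPGroup.exists_card_eq
      have h1 : (Nat.card S).Coprime q := hRco.coprime_dvd_left (Subgroup.card_dvd_of_le hS.1)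
      rw [hl] at h1
      rcases Nat.eq_zero_or_pos l with rfl | hl0
      · rw [pow_zero, Subgroup.card_eq_one] at hl
        exact hS1 hl
      · rw [Nat.coprime_pow_left_iff hl0, Nat.coprime_self] at h1
        exact hp.out.ne_one h1
    exact Subgroup.mem_centralizer_singleton_iff.2
      (centralizes σ hσ hp2 L hL hAc hquad hmix hqp _ S rfl hS.isPGroup hLS c hc s hsS).eq.symm
  have hcC : c ∈ Subgroup.centralizer (R : Set K) := Subgroup.mem_centralizer_iff.2 fun r hr => by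
    have h1 : (⟨r, hr⟩ : R) ∈ (Subgroup.centralizer ({c} : Set K)).subgroupOf R := hcR ▸ Subgroup.mem_top _
    exact Subgroup.mem_centralizer_singleton_iff.1 h1
  have hcR' : c ∈ R := hR ▸ centralizer_pPrimeCore_le hK hcore (hR ▸ hcC)
  exact Subgroup.mem_bot.2 (orderOf_eq_one_iff.1 (Nat.eq_one_of_dvd_coprimes hRco
    (Subgroup.orderOf_dvd_natCard R hcR') (orderOf_dvd_of_pow_eq_one (pow_p_eq_one hp2 σ hσ (hquad c hc)))))

/-- All Sylow `p`-subgroups have derived length at most `d`. -/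
def DL (p d : ℕ) (G : Type u) [Group G] : Prop :=
  ∀ P : Sylow p G, derivedSeries (P : Subgroup G) d = ⊥

/-- The derived series of a Sylow subgroup, in the ambient group. -/
abbrev dser {G : Type u} [Group G] (P : Subgroup G) (i : ℕ) : Subgroup G := (derivedSeries P i).map P.subtype

theorem DL.quotient {G : Type u} [Group G] [Finite G] {d : ℕ} (h : DL p d G) (N : Subgroup G) [N.Normal] :
    DL p d (G ⧸ N) := by
  intro S
  obtain ⟨P, rfl⟩ := Sylow.mapSurjective_surjective (QuotientGroup.mk'_surjective N) p S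
  let θ := (QuotientGroup.mk' N).subgroupMap (P : Subgroup G)
  have hθ : Function.Surjective θ := MonoidHom.subgroupMap_surjective _ _
  show derivedSeries ((P : Subgroup G).map (QuotientGroup.mk' N)) d = ⊥
  rw [← map_derivedSeries_eq hθ d, h P, Subgroup.map_bot]

theorem drop {G : Type u} [Group G] [Finite G] (hp2 : p ≠ 2) (hG : Cfsg.IsPSolvable p G)
    (hbot : Cfsg.pPrimeCore p G = ⊥) {d : ℕ} (hd : DL p (d + 1) G) [(Cfsg.pCore p G).Normal] :
    DL p d (G ⧸ Cfsg.pCore p G) := by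
  classical
  intro S
  obtain ⟨P, rfl⟩ := Sylow.mapSurjective_surjective (QuotientGroup.mk'_surjective (Cfsg.pCore p G)) p S
  obtain ⟨π₀, hπ₀⟩ : ∃ π₀, π₀ = QuotientGroup.mk' (Cfsg.pCore p G) := ⟨_, rfl⟩
  suffices h : dser (P : Subgroup G) d ≤ Cfsg.pCore p G by
    let θ := (QuotientGroup.mk' (Cfsg.pCore p G)).subgroupMap (P : Subgroup G)
    have hθ : Function.Surjective θ := MonoidHom.subgroupMap_surjective _ _
    show derivedSeries ((P : Subgroup G).map (QuotientGroup.mk' (Cfsg.pCore p G))) d = ⊥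
    rw [← map_derivedSeries_eq hθ d, eq_bot_iff]
    rintro _ ⟨u, hu, rfl⟩
    exact Subgroup.mem_bot.2 (Subtype.ext ((QuotientGroup.eq_one_iff _).2 (h ⟨u, hu, rfl⟩)))
  obtain ⟨Φ, hΦn, V, hVn, -, hV, hVmem, hCV, -⟩ := ThmB.exists_frattini_section hG hbot
  obtain ⟨k, ε, ρ, hεinj, hmem, hadd, hact⟩ := ThmB.exists_module V hV
  obtain ⟨π, hπ⟩ : ∃ π, π = QuotientGroup.mk' Φ := ⟨_, rfl⟩
  rw [← hπ] at hVmem
  have hπs : Function.Surjective π := hπ ▸ QuotientGroup.mk'_surjective Φ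
  have hε0 : ε 0 = 1 := mul_eq_left.1 (by rw [← hadd, add_zero] : ε 0 * ε 0 = ε 0)
  have hεneg : ∀ a, ε (-a) = (ε a)⁻¹ := fun a => eq_inv_of_mul_eq_one_left (by rw [← hadd, neg_add_cancel, hε0])
  have hstep : ∀ g : G, ∀ a, ∀ v : G, π v = ε a → π ⁅g, v⁆ = ε ((ρ (π g) - 1) a) := fun g a v hv => by
    rw [map_commutatorElement, hv, LinearMap.sub_apply, Module.End.one_apply, sub_eq_add_neg, hadd, hεneg, hact,
      commutatorElement_def]
  have hker : ∀ g, ρ (π g) = 1 ↔ g ∈ Cfsg.pCore p G := fun g => by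
    rw [← hVmem]
    refine ⟨fun h => hCV (Subgroup.mem_centralizer_iff.2 fun v hv => ?_), fun h =>
      LinearMap.ext fun a => hεinj ?_⟩
    · obtain ⟨a, rfl⟩ := (hmem v).1 hv
      have h1 := hact (π g) a
      rw [h, Module.End.one_apply, eq_mul_inv_iff_mul_eq] at h1
      exact h1
    · rw [hact, Module.End.one_apply,
        show π g * ε a = ε a * π g from congrArg Subtype.val (hV.1.is_comm.comm ⟨_, h⟩ ⟨_, (hmem _).2 ⟨a, rfl⟩⟩),
        mul_inv_cancel_right]
  obtain ⟨σ, hσdef⟩ : ∃ σ : G ⧸ Cfsg.pCore p G →* Module.End (ZMod p) (Fin k → ZMod p),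
      ∀ g, σ (π₀ g) = ρ (π g) :=
    ⟨QuotientGroup.lift (Cfsg.pCore p G) (ρ.comp π) fun g hg => MonoidHom.mem_ker.2 ((hker g).2 hg),
      fun g => by rw [hπ₀]; rfl⟩
  have hσ : Function.Injective σ := by
    rw [injective_iff_map_eq_one]
    intro z hz1
    obtain ⟨z, rfl⟩ : ∃ g, π₀ g = z := by rw [hπ₀]; exact QuotientGroup.mk'_surjective _ z
    rw [hσdef, hker] at hz1
    rw [hπ₀]
    exact (QuotientGroup.eq_one_iff z).2 hz1
  have hlift : ∀ a, ∃ v ∈ Cfsg.pCore p G, π v = ε a := fun a => by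
    obtain ⟨v, hv⟩ := hπs (ε a)
    exact ⟨v, (hVmem v).1 (hv ▸ (hmem _).2 ⟨a, rfl⟩), hv⟩
  have hFP : Cfsg.pCore p G ≤ P := Fusion.pCore_le_sylow P
  have hn : ∀ i, ∀ g ∈ (P : Subgroup G), ∀ v ∈ dser (P : Subgroup G) i, g * v * g⁻¹ ∈ dser (P : Subgroup G) i := by
    rintro i g hg _ ⟨v, hv, rfl⟩
    exact ⟨_, (derivedSeries_normal P i).conj_mem v hv ⟨g, hg⟩, rfl⟩
  have hsucc : ∀ i, dser (P : Subgroup G) (i + 1) = ⁅dser (P : Subgroup G) i, dser (P : Subgroup G) i⁆ := fun i => by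
    rw [dser, derivedSeries_succ, Subgroup.map_commutator]
  have hAA : ∀ a ∈ dser (P : Subgroup G) d, ∀ b ∈ dser (P : Subgroup G) d, ⁅a, b⁆ = 1 := fun a ha b hb => by
    have h : ⁅a, b⁆ ∈ dser (P : Subgroup G) (d + 1) := by
      rw [hsucc]; exact Subgroup.commutator_mem_commutator ha hb
    rw [dser, hd P, Subgroup.map_bot, Subgroup.mem_bot] at h
    exact h
  cases d with
  | zero =>
    intro g hg
    rw [← hker]
    refine LinearMap.ext fun a => hεinj ?_
    obtain ⟨v, hvO, hv⟩ := hlift a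
    have hvP : v ∈ dser (P : Subgroup G) 0 := ⟨⟨v, hFP hvO⟩, by rw [derivedSeries_zero]; trivial, rfl⟩
    have h := hstep g a v hv
    rw [hAA g hg v hvP, map_one, LinearMap.sub_apply, Module.End.one_apply, sub_eq_add_neg, hadd, hεneg,
      eq_comm, mul_inv_eq_one] at h
    rw [Module.End.one_apply]; exact h
  | succ d =>
    obtain ⟨L, hLdef⟩ : ∃ L, L = (dser (P : Subgroup G) d).map π₀ := ⟨_, rfl⟩
    have hLcomm : ⁅L, L⁆ = (dser (P : Subgroup G) (d + 1)).map π₀ := by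
      rw [hLdef, ← Subgroup.map_commutator, ← hsucc]
    haveI := hG
    have hcomm_in : ∀ i, ∀ g ∈ dser (P : Subgroup G) i, ∀ v ∈ (P : Subgroup G), ⁅g, v⁆ ∈ dser (P : Subgroup G) i := by
      intro i g hg v hv
      rw [commutatorElement_def, mul_assoc g, mul_assoc g]
      exact mul_mem hg (hn i v hv _ (inv_mem hg))
    have hDP : ∀ i, dser (P : Subgroup G) i ≤ P := fun i => Subgroup.map_subtype_le _
    have hres : ⁅L, L⁆ = ⊥ := by
      refine commutator_eq_bot (p := p) (isPSolvable_map Fact.out hG _ (QuotientGroup.mk'_surjective _))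
        Fusion.pCore_quotient_eq_bot hp2 σ hσ L (hLdef ▸ (P.isPGroup'.to_le (hDP d)).map _) ?_ ?_ ?_
      · rw [hLcomm]
        rintro _ ⟨a, ha, rfl⟩ _ ⟨b, hb, rfl⟩
        exact commutatorElement_eq_one_iff_commute.1 (by rw [← map_commutatorElement, hAA a ha b hb, map_one])
      · rw [hLcomm]
        rintro _ ⟨g, hg, rfl⟩
        rw [hσdef]
        refine LinearMap.ext fun a => hεinj ?_
        obtain ⟨v, hvO, hv⟩ := hlift a
        have h1 := hstep g a v hv
        have h2 := hstep g _ _ h1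
        rw [hAA g hg _ (hcomm_in _ g hg v (hFP hvO)), map_one] at h2
        rw [pow_two, Module.End.mul_apply, ← h2, LinearMap.zero_apply, hε0]
      · rw [hLcomm]
        rintro _ ⟨g, hg, rfl⟩ z hz
        rw [hLdef] at hz
        obtain ⟨x, hx, rfl⟩ := hz
        rw [hσdef, hσdef]
        refine LinearMap.ext fun a => hεinj ?_
        obtain ⟨v, hvO, hv⟩ := hlift a
        have h1 := hstep x a v hv
        have h2 := hstep x _ _ h1
        have h3 := hstep g _ _ h2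
        have hw : ⁅x, ⁅x, v⁆⁆ ∈ dser (P : Subgroup G) (d + 1) := by
          rw [hsucc]
          exact Subgroup.commutator_mem_commutator hx (hcomm_in d x hx v (hFP hvO))
        rw [hAA g hg _ hw, map_one] at h3
        rw [pow_two, Module.End.mul_apply, Module.End.mul_apply, ← h3, LinearMap.zero_apply, hε0]
    intro g hg
    have h : π₀ g ∈ ⁅L, L⁆ := hLcomm ▸ Subgroup.mem_map_of_mem π₀ hg
    rw [hres, Subgroup.mem_bot, hπ₀] at h
    exact (QuotientGroup.eq_one_iff g).1 h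

theorem main (hp2 : p ≠ 2) : ∀ (d : ℕ) (G : Type u) [Group G] [Finite G], Cfsg.IsPSolvable p G →
    DL p d G → PLen.HasPSeries p d G := by
  intro d
  induction d with
  | zero =>
    intro G _ _ _ h
    refine PLen.hasPSeries_of_coprime 0 ?_
    obtain ⟨P⟩ : Nonempty (Sylow p G) := inferInstance
    rw [Nat.coprime_comm, hp.out.coprime_iff_not_dvd]
    intro hdvd
    refine P.ne_bot_of_dvd_card hdvd ?_
    have h0 : (⊤ : Subgroup (P : Subgroup G)) = ⊥ := by rw [← derivedSeries_zero]; exact h P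
    rw [eq_bot_iff]
    intro x hx
    have h1 : (⟨x, hx⟩ : (P : Subgroup G)) ∈ (⊥ : Subgroup (P : Subgroup G)) := h0 ▸ Subgroup.mem_top _
    rw [Subgroup.mem_bot] at h1 ⊢
    exact congrArg Subtype.val h1
  | succ d ih =>
    intro G _ _ hG hd
    haveI := Cfsg.pPrimeCore_normal p G
    refine PLen.HasPSeries.lift_pPrime (Cfsg.pPrimeCore p G) (pPrimeCore_coprime p) ?_
    have hG' : Cfsg.IsPSolvable p (G ⧸ Cfsg.pPrimeCore p G) :=
      isPSolvable_map Fact.out hG _ (QuotientGroup.mk'_surjective _)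
    haveI := Cfsg.pCore_normal p (G ⧸ Cfsg.pPrimeCore p G)
    exact PLen.HasPSeries.lift_p _ (pCore_isPGroup p) (ih _
      (isPSolvable_map Fact.out hG' _ (QuotientGroup.mk'_surjective _))
      (drop hp2 hG' Fusion.pPrimeCore_quotient_eq_bot (hd.quotient _)))

end Cfsg.Agent.Solv.PLD
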