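import Cfsg.Prelude.Def_Transfer
import Cfsg.Agent.Lib.Solv.Parts
import Mathlib.GroupTheory.Transfer
import Mathlib.GroupTheory.GroupAction.Quotient
import Mathlib.GroupTheory.GroupAction.ConjAct

/-!
Counting conjugacy classes of `π`-elements.
-/

set_option autoImplicit false
set_option linter.style.haveILetI false

namespace Cfsg.Agent.Solv.PiCl

universe u

variable {G : Type u} [Group G] [Finite G]

/-- The number of classes of `π`-elements. -/
noncomputable def num (π : Finset ℕ) (G : Type u) [Group G] : ℕ :=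
  Nat.card {c : ConjClasses G // ∀ x ∈ c.carrier, ∀ r : ℕ, r.Prime → r ∣ orderOf x → r ∈ π}

instance finite_conjClasses {H : Type u} [Group H] [Finite H] : Finite (ConjClasses H) :=
  Finite.of_surjective _ ConjClasses.mk_surjective

/-- Orbits of a group of automorphisms on a `p`-group. -/
theorem orbit_bound {p : ℕ} [Fact p.Prime] {P : Type u} [Group P] [Finite P] (hP : IsPGroup p P)
    (A : Subgroup (MulAut P)) (a : ℕ) (ha : a ≤ Nat.card A) :
    p * Nat.card (MulAction.orbitRel.Quotient A P) * Nat.card A + Nat.card P * a ≤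
      Nat.card P * (p + Nat.card A - 1) + Nat.card P * a := by
  classical
  haveI : Finite (MulAut P) := Finite.of_injective _ DFunLike.coe_injective
  haveI := Fintype.ofFinite A
  haveI := Fintype.ofFinite P
  haveI : Fintype (MulAction.orbitRel.Quotient A P) := Fintype.ofFinite _
  have h1 := MulAction.sum_card_fixedBy_eq_card_orbits_mul_card_group A P
  have hb : ∀ g : A, p * Fintype.card (MulAction.fixedBy P g) ≤ if g = 1 then p * Nat.card P else Nat.card P := by
    intro g
    split_ifs with hg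
    · refine Nat.mul_le_mul_left _ ?_
      rw [Nat.card_eq_fintype_card]
      exact Fintype.card_subtype_le _
    · let F : Subgroup P := (g : MulAut P).toMonoidHom.eqLocus (MonoidHom.id P)
      have hF : F ≠ ⊤ := fun h => hg (Subtype.ext (MulEquiv.ext fun x => (h.symm ▸ Subgroup.mem_top x : x ∈ F)))
      have hcard : Fintype.card (MulAction.fixedBy P g) = Nat.card F := by
        rw [← Nat.card_eq_fintype_card]
        exact Nat.card_congr (Equiv.subtypeEquivRight fun x => Iff.rfl)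
      obtain ⟨k, hk⟩ := hP.index F
      have h2 := F.card_mul_index
      have hk0 : k ≠ 0 := fun h0 => hF (Subgroup.index_eq_one.1 (by rw [hk, h0, pow_zero]))
      have h3 : p ≤ F.index := hk ▸ Nat.le_self_pow hk0 p
      rw [hcard, ← h2, mul_comm]
      exact Nat.mul_le_mul_left _ h3
  have h2 := Finset.sum_le_sum (s := Finset.univ) (fun g _ => hb g)
  rw [← Finset.mul_sum, h1, Finset.sum_ite, Finset.sum_const, Finset.sum_const, Finset.filter_eq',
    if_pos (Finset.mem_univ _), Finset.card_singleton, one_smul,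
    Finset.filter_ne', Finset.card_erase_of_mem (Finset.mem_univ _), Finset.card_univ, smul_eq_mul,
    ← Nat.card_eq_fintype_card (α := A), ← Nat.card_eq_fintype_card, ← mul_assoc] at h2
  refine Nat.add_le_add_right (h2.trans (le_of_eq ?_)) _
  obtain ⟨t, ht⟩ : ∃ t, Nat.card A = t + 1 := ⟨Nat.card A - 1, by have := Nat.card_pos (α := A); omega⟩
  rw [ht, Nat.add_sub_cancel, show p + (t + 1) - 1 = p + t by omega]
  ring

/-- The `p`-element classes are at most the orbits of the automiser of a Sylow subgroup. -/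
theorem num_le_orbits {p : ℕ} [hp : Fact p.Prime] (P : Sylow p G) :
    num {p} G ≤ Nat.card (MulAction.orbitRel.Quotient
      (Subgroup.normalizerMonoidHom (P : Subgroup G)).range (P : Subgroup G)) := by
  classical
  let f : MulAction.orbitRel.Quotient (Subgroup.normalizerMonoidHom (P : Subgroup G)).range (P : Subgroup G) →
      ConjClasses G := Quotient.lift (fun x : (P : Subgroup G) => ConjClasses.mk (x : G)) (by
    rintro a b ⟨⟨g, n, rfl⟩, rfl⟩
    refine ConjClasses.mk_eq_mk_iff_isConj.2 (isConj_iff.2 ⟨(n : G)⁻¹, ?_⟩)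
    show (n : G)⁻¹ * ((Subgroup.normalizerMonoidHom (P : Subgroup G) n b : (P : Subgroup G)) : G) * (n : G)⁻¹⁻¹ = b
    show (n : G)⁻¹ * ((n : G) * b * (n : G)⁻¹) * (n : G)⁻¹⁻¹ = b
    group)
  have hprop : ∀ z, ∀ x ∈ (f z).carrier, ∀ r : ℕ, r.Prime → r ∣ orderOf x → r ∈ ({p} : Finset ℕ) := by
    intro z x hx r hr hrx
    obtain ⟨a, rfl⟩ := Quotient.exists_rep z
    have h1 : IsConj (a : G) x := ConjClasses.mk_eq_mk_iff_isConj.1 (ConjClasses.mem_carrier_iff_mk_eq.1 hx).symm
    obtain ⟨c, hc⟩ := isConj_iff.1 h1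
    have h2 : orderOf x = orderOf a := by
      rw [← hc, show c * (a : G) * c⁻¹ = MulAut.conj c (a : G) from rfl, MulEquiv.orderOf_eq,
        Subgroup.orderOf_coe]
    obtain ⟨k, hk⟩ := IsPGroup.iff_orderOf.1 P.2 a
    rw [h2, hk] at hrx
    exact Finset.mem_singleton.2 ((Nat.prime_dvd_prime_iff_eq hr hp.out).1 (hr.dvd_of_dvd_pow hrx))
  refine Nat.card_le_card_of_surjective (fun z => ⟨f z, hprop z⟩) fun ⟨c, hc⟩ => ?_
  obtain ⟨x, rfl⟩ := ConjClasses.exists_rep c
  have hxp : IsPGroup p (Subgroup.zpowers x) := by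
    have hx := hc x ConjClasses.mem_carrier_mk
    refine IsPGroup.of_card (n := (orderOf x).primeFactorsList.length) ?_
    rw [Nat.card_zpowers]
    exact Nat.eq_prime_pow_of_unique_prime_dvd (orderOf_pos x).ne' fun {d} hd hdx => Finset.mem_singleton.1 (hx d hd hdx)
  obtain ⟨Q, hQ⟩ := hxp.exists_le_sylow
  obtain ⟨g, hg⟩ := MulAction.exists_smul_eq G Q P
  have hgx : g * x * g⁻¹ ∈ (P : Subgroup G) := by
    rw [← hg, Sylow.coe_subgroup_smul]
    exact ⟨x, hQ (Subgroup.mem_zpowers x), rfl⟩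
  refine ⟨Quotient.mk'' ⟨g * x * g⁻¹, hgx⟩, Subtype.ext ?_⟩
  exact ConjClasses.mk_eq_mk_iff_isConj.2 (isConj_iff.2 ⟨g⁻¹, by group⟩)

/-- More than `(p + 1) / (2 p)` of the Sylow order: the normaliser of a Sylow subgroup centralises it. -/
theorem normalizer_le_centralizer {p : ℕ} [hp : Fact p.Prime] (P : Sylow p G)
    (h : (p + 1) * Nat.card (P : Subgroup G) < 2 * p * num {p} G) :
    Subgroup.normalizer ((P : Subgroup G) : Set G) ≤ Subgroup.centralizer ((P : Subgroup G) : Set G) := by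
  set A := (Subgroup.normalizerMonoidHom (P : Subgroup G)).range
  by_contra hne
  have hA : A ≠ ⊥ := by
    intro h0
    refine hne fun g hg => ?_
    have h1 : (Subgroup.normalizerMonoidHom (P : Subgroup G)) ⟨g, hg⟩ = 1 :=
      Subgroup.mem_bot.1 (h0 ▸ ⟨⟨g, hg⟩, rfl⟩ : _ ∈ (⊥ : Subgroup (MulAut (P : Subgroup G))))
    rw [Subgroup.mem_centralizer_iff]
    intro y hy
    have h2 := congrArg Subtype.val (DFunLike.congr_fun h1 ⟨y, hy⟩)
    change g * y * g⁻¹ = y at h2
    exact (mul_inv_eq_iff_eq_mul.1 h2).symm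
  haveI : Finite (MulAut (P : Subgroup G)) := Finite.of_injective _ DFunLike.coe_injective
  have ha : 2 ≤ Nat.card A := (Subgroup.one_lt_card_iff_ne_bot A).2 hA
  have h1 := orbit_bound P.2 A 2 ha
  have h2 := num_le_orbits P
  have h3 : 2 * (p + Nat.card A - 1) ≤ (p + 1) * Nat.card A := by
    obtain ⟨t, ht⟩ : ∃ t, Nat.card A = t + 2 := ⟨Nat.card A - 2, by omega⟩
    obtain ⟨s, hs⟩ : ∃ s, p = s + 2 := ⟨p - 2, by have := hp.out.two_le; omega⟩
    rw [ht, hs, show s + 2 + (t + 2) - 1 = s + t + 3 by omega]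
    nlinarith
  have h4 := Nat.add_le_add_iff_right.1 h1
  have h5 : (p + 1) * Nat.card (P : Subgroup G) * Nat.card A < 2 * p * num {p} G * Nat.card A :=
    Nat.mul_lt_mul_of_pos_right h Nat.card_pos
  have h6 := Nat.mul_le_mul_left (Nat.card (P : Subgroup G)) h3
  have h7 := Nat.mul_le_mul_left (2 * p) h2
  have h8 := Nat.mul_le_mul_right (Nat.card A) h7
  nlinarith

/-- The same bound gives an abelian Sylow subgroup and a normal `p`-complement. -/
theorem complement_and_abelian {p : ℕ} [hp : Fact p.Prime] (P : Sylow p G)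
    (h : (p + 1) * Nat.card (P : Subgroup G) < 2 * p * num {p} G) :
    (∃ N : Subgroup G, N.Normal ∧ N.IsComplement' (P : Subgroup G)) ∧
      ∀ a ∈ (P : Subgroup G), ∀ b ∈ (P : Subgroup G), a * b = b * a := by
  have hle := normalizer_le_centralizer P h
  exact ⟨⟨_, inferInstance, MonoidHom.ker_transferSylow_isComplement' P hle⟩,
    fun a ha b hb => (Subgroup.mem_centralizer_iff.1 (hle (Subgroup.le_normalizer ha)) b hb).symm⟩

/-- Classes of `π`-elements with the prime `q` split off. -/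
theorem num_insert_le_sum {q : ℕ} [hq : Fact q.Prime] (π : Finset ℕ) (hqπ : q ∉ π)
    [Fintype {c : ConjClasses G // ∀ x ∈ c.carrier, ∀ r : ℕ, r.Prime → r ∣ orderOf x → r ∈ ({q} : Finset ℕ)}]
    (u : {c : ConjClasses G // ∀ x ∈ c.carrier, ∀ r : ℕ, r.Prime → r ∣ orderOf x → r ∈ ({q} : Finset ℕ)} → G)
    (hu : ∀ c, ConjClasses.mk (u c) = c.1) :
    num (insert q π) G ≤ ∑ c, num π ↥(Subgroup.centralizer ({u c} : Set G)) := by
  classical
  let I := {c : ConjClasses G // ∀ x ∈ c.carrier, ∀ r : ℕ, r.Prime → r ∣ orderOf x → r ∈ ({q} : Finset ℕ)}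
  let T := Σ c : I, {d : ConjClasses ↥(Subgroup.centralizer ({u c} : Set G)) //
      ∀ x ∈ d.carrier, ∀ r : ℕ, r.Prime → r ∣ orderOf x → r ∈ π}
  let F : T → ConjClasses G := fun z => Quotient.lift
    (fun v : ↥(Subgroup.centralizer ({u z.1} : Set G)) => ConjClasses.mk (u z.1 * (v : G))) (by
      intro v w hvw
      obtain ⟨c, hc⟩ := isConj_iff.1 hvw
      refine ConjClasses.mk_eq_mk_iff_isConj.2 (isConj_iff.2 ⟨(c : G), ?_⟩)
      have h1 : (c : G) * u z.1 = u z.1 * c := Subgroup.mem_centralizer_singleton_iff.1 c.2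
      rw [← hc]
      show (c : G) * (u z.1 * (v : G)) * (c : G)⁻¹ = u z.1 * ((c : G) * v * (c : G)⁻¹)
      rw [← mul_assoc (c : G), h1]; group) z.2.1
  have hsur : ∀ c : {c : ConjClasses G // ∀ x ∈ c.carrier, ∀ r : ℕ, r.Prime → r ∣ orderOf x → r ∈ insert q π},
      ∃ z : T, F z = c.1 := by
    rintro ⟨c, hc⟩
    obtain ⟨x, rfl⟩ := ConjClasses.exists_rep c
    obtain ⟨a, b, haz, hbz, hab, ⟨k, hk⟩, hbq⟩ := exists_ppart q x
    have hcl : ∀ y ∈ (ConjClasses.mk a).carrier, ∀ r : ℕ, r.Prime → r ∣ orderOf y → r ∈ ({q} : Finset ℕ) := by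
      intro y hy r hr hry
      obtain ⟨g, hg⟩ := isConj_iff.1 (ConjClasses.mk_eq_mk_iff_isConj.1 (ConjClasses.mem_carrier_iff_mk_eq.1 hy).symm)
      rw [← hg, show g * a * g⁻¹ = MulAut.conj g a from rfl, MulEquiv.orderOf_eq, hk] at hry
      exact Finset.mem_singleton.2 ((Nat.prime_dvd_prime_iff_eq hr hq.out).1 (hr.dvd_of_dvd_pow hry))
    obtain ⟨g, hg⟩ := isConj_iff.1 (ConjClasses.mk_eq_mk_iff_isConj.1 (hu ⟨ConjClasses.mk a, hcl⟩).symm)
    have hcomm : a * b = b * a := by
      obtain ⟨i, rfl⟩ := haz; obtain ⟨j, rfl⟩ := hbz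
      exact ((Commute.refl x).zpow_zpow i j).eq
    have hmem : g * b * g⁻¹ ∈ Subgroup.centralizer ({u ⟨ConjClasses.mk a, hcl⟩} : Set G) := by
      rw [Subgroup.mem_centralizer_singleton_iff, ← hg]
      calc g * b * g⁻¹ * (g * a * g⁻¹) = g * (b * a) * g⁻¹ := by group
        _ = g * (a * b) * g⁻¹ := by rw [hcomm]
        _ = g * a * g⁻¹ * (g * b * g⁻¹) := by group
    refine ⟨⟨⟨ConjClasses.mk a, hcl⟩, ⟨ConjClasses.mk ⟨g * b * g⁻¹, hmem⟩, ?_⟩⟩, ?_⟩
    · intro y hy r hr hry
      obtain ⟨g', hg'⟩ := isConj_iff.1 (ConjClasses.mk_eq_mk_iff_isConj.1 (ConjClasses.mem_carrier_iff_mk_eq.1 hy).symm)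
      have h1 : orderOf y = orderOf b := by
        rw [← hg', show g' * (⟨g * b * g⁻¹, hmem⟩ : ↥(Subgroup.centralizer _)) * g'⁻¹ =
          MulAut.conj g' ⟨g * b * g⁻¹, hmem⟩ from rfl, MulEquiv.orderOf_eq, Subgroup.orderOf_mk,
          show g * b * g⁻¹ = MulAut.conj g b from rfl, MulEquiv.orderOf_eq]
      rw [h1] at hry
      obtain ⟨j, rfl⟩ := hbz
      have h2 := hc x ConjClasses.mem_carrier_mk r hr
        (hry.trans (orderOf_dvd_of_pow_eq_one (by
          rw [← zpow_natCast, ← zpow_mul, mul_comm, zpow_mul, zpow_natCast, pow_orderOf_eq_one, one_zpow])))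
      rcases Finset.mem_insert.1 h2 with h2 | h2
      · exfalso
        rw [h2] at hry
        exact hq.out.one_lt.ne' (Nat.eq_one_of_dvd_coprimes hbq hry dvd_rfl)
      · exact h2
    · refine ConjClasses.mk_eq_mk_iff_isConj.2 (isConj_iff.2 ⟨g⁻¹, ?_⟩)
      show g⁻¹ * (u ⟨ConjClasses.mk a, hcl⟩ * (g * b * g⁻¹)) * g⁻¹⁻¹ = x
      rw [← hg]
      calc g⁻¹ * (g * a * g⁻¹ * (g * b * g⁻¹)) * g⁻¹⁻¹ = a * b := by group
        _ = x := hab
  choose Z hZ using hsur
  have hinj : Function.Injective Z := fun c d h => Subtype.ext (by rw [← hZ c, ← hZ d, h])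
  refine (Nat.card_le_card_of_injective Z hinj).trans ?_
  show Nat.card T ≤ _
  rw [Nat.card_sigma]
  exact le_of_eq (Finset.sum_congr rfl fun c _ => rfl)

theorem num_insert_le {q : ℕ} [hq : Fact q.Prime] (π : Finset ℕ) (hqπ : q ∉ π)
    (B : ℕ) (hB : ∀ u : G, num π ↥(Subgroup.centralizer ({u} : Set G)) ≤ B) :
    num (insert q π) G ≤ num {q} G * B := by
  classical
  haveI := Fintype.ofFinite
    {c : ConjClasses G // ∀ x ∈ c.carrier, ∀ r : ℕ, r.Prime → r ∣ orderOf x → r ∈ ({q} : Finset ℕ)}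
  have hrep : ∀ c : {c : ConjClasses G // ∀ x ∈ c.carrier, ∀ r : ℕ, r.Prime → r ∣ orderOf x → r ∈ ({q} : Finset ℕ)},
      ∃ u : G, ConjClasses.mk u = c.1 := fun c => ConjClasses.exists_rep _
  choose u hu using hrep
  refine (num_insert_le_sum π hqπ u hu).trans
    ((Finset.sum_le_card_nsmul _ _ B fun c _ => hB (u c)).trans (le_of_eq ?_))
  rw [Finset.card_univ, smul_eq_mul, ← Nat.card_eq_fintype_card]
  rfl

theorem num_singleton_le {p : ℕ} [hp : Fact p.Prime] (G : Type u) [Group G] [Finite G] :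
    num {p} G ≤ p ^ (Nat.card G).factorization p := by
  obtain ⟨P⟩ : Nonempty (Sylow p G) := inferInstance
  rw [← P.card_eq_multiplicity]
  refine (num_le_orbits P).trans ?_
  exact Nat.card_le_card_of_surjective _ Quotient.mk''_surjective

theorem prod_le_of_dvd (π : Finset ℕ) (hπ : ∀ r ∈ π, r.Prime) {a b : ℕ} (hb : b ≠ 0) (hab : a ∣ b) :
    π.prod (fun r => r ^ a.factorization r) ≤ π.prod (fun r => r ^ b.factorization r) :=
  Finset.prod_le_prod (fun _ _ => Nat.zero_le _) fun r hr =>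
    Nat.pow_le_pow_right (hπ r hr).pos
      ((Nat.factorization_le_iff_dvd (fun h => hb (by rw [h] at hab; exact Nat.eq_zero_of_zero_dvd hab)) hb).2 hab r)

theorem num_le : ∀ (π : Finset ℕ), (∀ r ∈ π, r.Prime) → ∀ (G : Type u) [Group G] [Finite G],
    num π G ≤ π.prod (fun r => r ^ (Nat.card G).factorization r) := by
  classical
  intro π
  induction π using Finset.induction with
  | empty =>
    intro _ G _ _
    rw [Finset.prod_empty]
    unfold num
    haveI : Subsingleton {c : ConjClasses G // ∀ x ∈ c.carrier, ∀ r : ℕ, r.Prime → r ∣ orderOf x → r ∈ (∅ : Finset ℕ)} := by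
      refine ⟨fun c d => Subtype.ext ?_⟩
      have h1 : ∀ c : {c : ConjClasses G // ∀ x ∈ c.carrier, ∀ r : ℕ, r.Prime → r ∣ orderOf x → r ∈ (∅ : Finset ℕ)},
          c.1 = ConjClasses.mk 1 := by
        rintro ⟨c, hc⟩
        obtain ⟨x, rfl⟩ := ConjClasses.exists_rep c
        have : orderOf x = 1 := by
          by_contra h
          exact Finset.notMem_empty _ (hc x ConjClasses.mem_carrier_mk _ (Nat.minFac_prime h) (Nat.minFac_dvd _))
        rw [orderOf_eq_one_iff] at this
        exact congrArg ConjClasses.mk this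
      rw [h1 c, h1 d]
    exact Finite.card_le_one_iff_subsingleton.2 this
  | insert q π hq ih =>
    intro hπ G _ _
    haveI : Fact q.Prime := ⟨hπ q (Finset.mem_insert_self _ _)⟩
    have hπ' : ∀ r ∈ π, r.Prime := fun r hr => hπ r (Finset.mem_insert_of_mem hr)
    refine (num_insert_le π hq (π.prod fun r => r ^ (Nat.card G).factorization r) fun u =>
      (ih hπ' _).trans (prod_le_of_dvd π hπ' Nat.card_pos.ne' (Subgroup.card_subgroup_dvd_card _))).trans ?_
    rw [Finset.prod_insert hq]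
    exact Nat.mul_le_mul_right _ (num_singleton_le G)

/-- A large number of `π`-classes forces a large number of `q`-classes for every `q ∈ π`. -/
theorem num_singleton_large (π : Finset ℕ) (hπ : ∀ r ∈ π, r.Prime) {q : ℕ} (hq : q ∈ π) {a b : ℕ}
    (h : a * π.prod (fun r => r ^ (Nat.card G).factorization r) < b * num π G) :
    a * q ^ (Nat.card G).factorization q < b * num {q} G := by
  classical
  haveI : Fact q.Prime := ⟨hπ q hq⟩
  have hπ' : ∀ r ∈ π.erase q, r.Prime := fun r hr => hπ r (Finset.mem_of_mem_erase hr)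
  have h1 := num_insert_le (G := G) (π.erase q) (Finset.notMem_erase q π)
    ((π.erase q).prod fun r => r ^ (Nat.card G).factorization r)
    fun u => (num_le _ hπ' _).trans (prod_le_of_dvd _ hπ' Nat.card_pos.ne' (Subgroup.card_subgroup_dvd_card _))
  rw [Finset.insert_erase hq] at h1
  rw [← Finset.mul_prod_erase π _ hq, ← mul_assoc] at h
  refine Nat.lt_of_mul_lt_mul_right (a := (π.erase q).prod fun r => r ^ (Nat.card G).factorization r) ?_
  rw [mul_assoc b]
  exact h.trans_le (Nat.mul_le_mul_left b h1)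

end Cfsg.Agent.Solv.PiCl
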