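import Cfsg.Agent.Lib.Solv.PiClassCount
import Cfsg.Agent.Lib.Solv.Basic
import Mathlib.GroupTheory.Nilpotent

/-!
Classes of `{2, q}`-elements when a Sylow `q`-subgroup is inverted or partly inverted by its normaliser.
-/

set_option autoImplicit false
set_option linter.style.haveILetI false

namespace Cfsg.Agent.Solv.PiCl

universe u

variable {G : Type u} [Group G] [Finite G]

theorem normalizerMonoidHom_eq_one_iff (H : Subgroup G) (x : Subgroup.normalizer (H : Set G)) :
    Subgroup.normalizerMonoidHom H x = 1 ↔ (x : G) ∈ Subgroup.centralizer (H : Set G) := by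
  rw [← MonoidHom.mem_ker, Subgroup.normalizerMonoidHom_ker, Subgroup.mem_subgroupOf]

/-- More than half: the Sylow subgroup is abelian and its automiser has order at most two. -/
theorem abelian_and_small {q : ℕ} [hq : Fact q.Prime] (hq2 : q ≠ 2) (Q : Sylow q G)
    (h : Nat.card (Q : Subgroup G) < 2 * num {q} G) :
    (∀ a ∈ (Q : Subgroup G), ∀ b ∈ (Q : Subgroup G), a * b = b * a) ∧
      Nat.card (Subgroup.normalizerMonoidHom (Q : Subgroup G)).range ≤ 2 := by
  classical
  obtain ⟨A, hA⟩ : ∃ A, A = (Subgroup.normalizerMonoidHom (Q : Subgroup G)).range := ⟨_, rfl⟩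
  rw [← hA]
  have hq3 : 3 ≤ q := lt_of_le_of_ne hq.out.two_le (Ne.symm hq2)
  haveI : Finite (MulAut (Q : Subgroup G)) := Finite.of_injective _ DFunLike.coe_injective
  have key : 2 * (q + Nat.card A - 1) ≤ q * Nat.card A → False := by
    intro hle
    have h1 := Nat.add_le_add_iff_right.1 (orbit_bound Q.2 A 0 (Nat.zero_le _))
    have h2 := num_le_orbits Q
    rw [← hA] at h2
    have h5 : Nat.card (Q : Subgroup G) * (q * Nat.card A) < 2 * num {q} G * (q * Nat.card A) :=
      Nat.mul_lt_mul_of_pos_right h (Nat.mul_pos hq.out.pos Nat.card_pos)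
    have h6 := Nat.mul_le_mul_left (Nat.card (Q : Subgroup G)) hle
    have h7 := Nat.mul_le_mul_left (2 * q * Nat.card A) h2
    nlinarith
  have hinn : ∀ a : (Q : Subgroup G), MulAut.conj a ∈ A := by
    intro a
    refine hA ▸ ⟨⟨a, Subgroup.le_normalizer a.2⟩, MulEquiv.ext fun x => Subtype.ext ?_⟩
    rfl
  have hab : ∀ a ∈ (Q : Subgroup G), ∀ b ∈ (Q : Subgroup G), a * b = b * a := by
    by_contra hne
    let f : (Q : Subgroup G) →* A := (MulAut.conj : (Q : Subgroup G) →* MulAut (Q : Subgroup G)).codRestrict A hinn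
    have hker : f.ker ≤ Subgroup.center (Q : Subgroup G) := by
      intro x hx
      rw [Subgroup.mem_center_iff]
      intro y
      have e : MulAut.conj x y = y := by
        have := congrArg Subtype.val (MonoidHom.mem_ker.1 hx)
        exact DFunLike.congr_fun this y
      rw [MulAut.conj_apply] at e
      exact (mul_inv_eq_iff_eq_mul.1 e).symm
    obtain ⟨i, hi⟩ := Q.2.index f.ker
    have hi2 : 2 ≤ i := by
      by_contra hlt
      push Not at hlt
      apply hne
      have hcyc : IsCyclic ((Q : Subgroup G) ⧸ f.ker) := by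
        rcases Nat.lt_succ_iff.1 hlt |>.lt_or_eq with h0 | h0
        · haveI : Subsingleton ((Q : Subgroup G) ⧸ f.ker) := by
            rw [← Finite.card_le_one_iff_subsingleton, ← Subgroup.index_eq_card, hi, show i = 0 by omega, pow_zero]
          exact isCyclic_of_subsingleton
        · exact isCyclic_of_prime_card (p := q) (by rw [← Subgroup.index_eq_card, hi, h0, pow_one])
      intro a ha b hb
      exact congrArg Subtype.val (commutative_of_cyclic_center_quotient (QuotientGroup.mk' f.ker)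
        (by rwa [QuotientGroup.ker_mk']) ⟨a, ha⟩ ⟨b, hb⟩)
    have h1 : q ^ i ≤ Nat.card A := by
      rw [← hi, Subgroup.index_ker]
      exact Nat.le_of_dvd Nat.card_pos (Subgroup.card_subgroup_dvd_card _)
    have h2 : q ^ 2 ≤ q ^ i := Nat.pow_le_pow_right hq.out.pos hi2
    refine key ?_
    have h3 : 9 ≤ Nat.card A := le_trans (le_trans (by nlinarith) h2) h1
    obtain ⟨t, ht⟩ : ∃ t, Nat.card A = t + 4 := ⟨Nat.card A - 4, by omega⟩
    rw [ht, show q + (t + 4) - 1 = q + t + 3 by omega]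
    nlinarith
  refine ⟨hab, ?_⟩
  by_contra hgt
  push Not at hgt
  refine key ?_
  by_cases h3 : Nat.card A = 3 ∧ q = 3
  · exfalso
    obtain ⟨h3a, h3q⟩ := h3
    have hle : ((Q : Subgroup G).subgroupOf (Subgroup.normalizer ((Q : Subgroup G) : Set G))) ≤
        (Subgroup.normalizerMonoidHom (Q : Subgroup G)).ker := fun x hx => by
      rw [MonoidHom.mem_ker, normalizerMonoidHom_eq_one_iff, Subgroup.mem_centralizer_iff]
      exact fun y hy => hab y hy x hx
    have h4 := Subgroup.index_dvd_of_le hle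
    rw [Subgroup.index_ker, ← hA, h3a, ← Subgroup.relIndex] at h4
    have h5 : q ∣ (Q : Subgroup G).index :=
      (dvd_of_eq h3q).trans (h4.trans (Subgroup.relIndex_dvd_index_of_le Subgroup.le_normalizer))
    exact Q.not_dvd_index h5
  · obtain ⟨t, ht⟩ : ∃ t, Nat.card A = t + 3 := ⟨Nat.card A - 3, by omega⟩
    rw [ht, show q + (t + 3) - 1 = q + t + 2 by omega]
    rw [ht] at h3
    rcases Nat.eq_zero_or_pos t with rfl | h
    · have : 4 ≤ q := by omega
      omega
    · nlinarith

/-- The pair count. -/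
theorem exists_reps_bound [Fact (Nat.Prime 2)] {q : ℕ} [hq : Fact q.Prime] (hq2 : q ≠ 2) (Q : Sylow q G)
    (hab : ∀ a ∈ (Q : Subgroup G), ∀ b ∈ (Q : Subgroup G), a * b = b * a)
    (hA2 : Nat.card (Subgroup.normalizerMonoidHom (Q : Subgroup G)).range = 2)
    [Fintype {c : ConjClasses G // ∀ x ∈ c.carrier, ∀ r : ℕ, r.Prime → r ∣ orderOf x → r ∈ ({2} : Finset ℕ)}] :
    ∃ u : {c : ConjClasses G // ∀ x ∈ c.carrier, ∀ r : ℕ, r.Prime → r ∣ orderOf x → r ∈ ({2} : Finset ℕ)} → G,
      (∀ c, ConjClasses.mk (u c) = c.1) ∧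
      2 * ∑ c, num {q} ↥(Subgroup.centralizer ({u c} : Set G))
        ≤ 2 ^ (Nat.card G).factorization 2 * q ^ (Nat.card G).factorization q := by
  classical
  let I := {c : ConjClasses G // ∀ x ∈ c.carrier, ∀ r : ℕ, r.Prime → r ∣ orderOf x → r ∈ ({2} : Finset ℕ)}
  set N := Subgroup.normalizer ((Q : Subgroup G) : Set G) with hN
  set D := Subgroup.centralizer ((Q : Subgroup G) : Set G) with hD
  have hDN : D ≤ N := Subgroup.centralizer_le_normalizer _
  have hidx : D.relIndex N = 2 := by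
    rw [Subgroup.relIndex, hD, hN, ← Subgroup.normalizerMonoidHom_ker, Subgroup.index_ker, hA2]
  have hQD : (Q : Subgroup G) ≤ D := fun x hx => Subgroup.mem_centralizer_iff.2 fun y hy => hab y hy x hx
  obtain ⟨t, htN, htD⟩ : ∃ t ∈ N, t ∉ D := by
    by_contra hcon
    push Not at hcon
    have : D.relIndex N = 1 := Subgroup.relIndex_eq_one.2 hcon
    omega
  -- representatives
  let inD : I → Prop := fun c => ∃ u ∈ D, ConjClasses.mk u = c.1
  have hrep : ∀ c : I, ∃ u : G, ConjClasses.mk u = c.1 ∧ (inD c → u ∈ D) := by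
    intro c
    by_cases h : inD c
    · obtain ⟨u, hu, hc⟩ := h
      exact ⟨u, hc, fun _ => hu⟩
    · obtain ⟨u, hu⟩ := ConjClasses.exists_rep c.1
      exact ⟨u, hu, fun h' => absurd h' h⟩
  choose u hu huD using hrep
  refine ⟨u, hu, ?_⟩
  obtain ⟨e, he⟩ : ∃ e, e = q ^ (Nat.card G).factorization q := ⟨_, rfl⟩
  have heQ : Nat.card (Q : Subgroup G) = e := he ▸ Q.card_eq_multiplicity
  let ext : I → Prop := fun c => ∃ n ∈ N, n ∉ D ∧ n * u c = u c * n
  -- the three kinds of classes
  have hAb : ∀ c : I, ¬ inD c → q * num {q} ↥(Subgroup.centralizer ({u c} : Set G)) ≤ e := by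
    intro c hc
    obtain ⟨k, hk⟩ : ∃ k, k = (Nat.card ↥(Subgroup.centralizer ({u c} : Set G))).factorization q := ⟨_, rfl⟩
    refine le_trans (Nat.mul_le_mul_left _ (num_singleton_le _)) ?_
    rw [← hk, ← pow_succ', he]
    refine Nat.pow_le_pow_right hq.out.pos ?_
    by_contra hlt
    push Not at hlt
    obtain ⟨P⟩ : Nonempty (Sylow q ↥(Subgroup.centralizer ({u c} : Set G))) := inferInstance
    have hP : IsPGroup q ↥((P : Subgroup ↥(Subgroup.centralizer ({u c} : Set G))).map
        (Subgroup.centralizer ({u c} : Set G)).subtype) := P.2.map _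
    obtain ⟨R, hR⟩ := hP.exists_le_sylow
    have hcard : Nat.card (R : Subgroup G) ≤ Nat.card ↥((P : Subgroup ↥(Subgroup.centralizer ({u c} : Set G))).map
        (Subgroup.centralizer ({u c} : Set G)).subtype) := by
      rw [Subgroup.card_map_of_injective (Subgroup.subtype_injective _), P.card_eq_multiplicity, ← hk,
        R.card_eq_multiplicity]
      exact Nat.pow_le_pow_right hq.out.pos (by omega)
    have hRC := Subgroup.eq_of_le_of_card_ge hR hcard
    obtain ⟨g, hg⟩ := MulAction.exists_smul_eq G R Q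
    apply hc
    refine ⟨g * u c * g⁻¹, Subgroup.mem_centralizer_iff.2 fun y hy => ?_, ?_⟩
    · rw [← hg, Sylow.coe_subgroup_smul] at hy
      obtain ⟨r, hr, rfl⟩ := hy
      rw [SetLike.mem_coe, ← hRC] at hr
      obtain ⟨r', -, rfl⟩ := hr
      have h1 : (r' : G) * u c = u c * r' := Subgroup.mem_centralizer_singleton_iff.1 r'.2
      show g * (r' : G) * g⁻¹ * (g * u c * g⁻¹) = g * u c * g⁻¹ * (g * (r' : G) * g⁻¹)
      calc g * (r' : G) * g⁻¹ * (g * u c * g⁻¹) = g * ((r' : G) * u c) * g⁻¹ := by group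
        _ = g * (u c * r') * g⁻¹ := by rw [h1]
        _ = _ := by group
    · rw [← hu c]
      exact (ConjClasses.mk_eq_mk_iff_isConj.2 (isConj_iff.2 ⟨g, rfl⟩)).symm
  have hsyl : ∀ c : I, inD c → ∃ P : Sylow q ↥(Subgroup.centralizer ({u c} : Set G)),
      ∀ x : ↥(Subgroup.centralizer ({u c} : Set G)), x ∈ (P : Subgroup _) ↔ (x : G) ∈ (Q : Subgroup G) := by
    intro c hc
    have hle : (Q : Subgroup G) ≤ Subgroup.centralizer ({u c} : Set G) := fun y hy =>
      Subgroup.mem_centralizer_singleton_iff.2 (Subgroup.mem_centralizer_iff.1 (huD c hc) y hy)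
    exact ⟨Q.subtype hle, fun x => Iff.rfl⟩
  have hcardP : ∀ c : I, ∀ P : Sylow q ↥(Subgroup.centralizer ({u c} : Set G)),
      (∀ x : ↥(Subgroup.centralizer ({u c} : Set G)), x ∈ (P : Subgroup _) ↔ (x : G) ∈ (Q : Subgroup G)) →
      inD c → Nat.card (P : Subgroup ↥(Subgroup.centralizer ({u c} : Set G))) = e := by
    intro c P hP hc
    rw [← heQ]
    refine Nat.card_congr
      { toFun := fun x => ⟨((x : ↥(Subgroup.centralizer ({u c} : Set G))) : G), (hP x).1 x.2⟩
        invFun := fun y => ⟨⟨y, Subgroup.mem_centralizer_singleton_iff.2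
          (Subgroup.mem_centralizer_iff.1 (huD c hc) y y.2)⟩, (hP _).2 y.2⟩
        left_inv := fun x => rfl
        right_inv := fun x => rfl }
  have hB : ∀ c : I, inD c → num {q} ↥(Subgroup.centralizer ({u c} : Set G)) ≤ e := by
    intro c hc
    obtain ⟨P, hP⟩ := hsyl c hc
    exact (num_singleton_le _).trans_eq (by rw [← P.card_eq_multiplicity, hcardP c P hP hc])
  have hB1 : ∀ c : I, inD c → ext c → 2 * q * num {q} ↥(Subgroup.centralizer ({u c} : Set G)) ≤ (q + 1) * e := by
    intro c hc ⟨n, hnN, hnD, hn⟩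
    obtain ⟨P, hP⟩ := hsyl c hc
    by_contra hlt
    push Not at hlt
    rw [← hcardP c P hP hc] at hlt
    have hle := normalizer_le_centralizer P hlt
    have hnC : n ∈ Subgroup.centralizer ({u c} : Set G) := Subgroup.mem_centralizer_singleton_iff.2 hn
    have hnP : (⟨n, hnC⟩ : ↥(Subgroup.centralizer ({u c} : Set G))) ∈ Subgroup.normalizer ((P : Subgroup ↥(Subgroup.centralizer ({u c} : Set G))) : Set ↥(Subgroup.centralizer ({u c} : Set G))) :=
      Subgroup.mem_normalizer_iff.2 fun x => by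
        rw [hP, hP]
        exact Subgroup.mem_normalizer_iff.1 hnN (x : G)
    refine hnD (Subgroup.mem_centralizer_iff.2 fun y hy => ?_)
    have hyC : y ∈ Subgroup.centralizer ({u c} : Set G) :=
      Subgroup.mem_centralizer_singleton_iff.2 (Subgroup.mem_centralizer_iff.1 (huD c hc) y hy)
    exact congrArg Subtype.val (Subgroup.mem_centralizer_iff.1 (hle hnP) ⟨y, hyC⟩ ((hP _).2 hy))
  -- the counts
  have hcardI : Nat.card I ≤ 2 ^ (Nat.card G).factorization 2 := num_singleton_le (p := 2) G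
  let X := {d : ConjClasses D // ∀ x ∈ d.carrier, ∀ r : ℕ, r.Prime → r ∣ orderOf x → r ∈ ({2} : Finset ℕ)}
  haveI : Finite X := Subtype.finite
  have hX : 2 * Nat.card X ≤ 2 ^ (Nat.card G).factorization 2 := by
    refine le_trans (Nat.mul_le_mul_left 2 (num_singleton_le (p := 2) D)) ?_
    rw [← pow_succ']
    refine Nat.pow_le_pow_right (by norm_num) ?_
    have h1 : 2 * Nat.card D ∣ Nat.card G := by
      have h2 : Nat.card N = Nat.card D * 2 := by
        have := Subgroup.card_mul_index (D.subgroupOf N)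
        rw [Cfsg.Agent.Solv.card_subgroupOf hDN, ← Subgroup.relIndex, hidx] at this
        exact this.symm
      rw [mul_comm, ← h2]
      exact Subgroup.card_subgroup_dvd_card N
    have h3 := (Nat.factorization_le_iff_dvd (mul_ne_zero two_ne_zero Nat.card_pos.ne') Nat.card_pos.ne').2 h1 2
    rw [Nat.factorization_mul two_ne_zero Nat.card_pos.ne', Finsupp.add_apply, Nat.prime_two.factorization_self] at h3
    omega
  have htwo : ∀ (c : I) (x : G), ConjClasses.mk x = c.1 → ∀ hx : x ∈ D,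
      ∀ y ∈ (ConjClasses.mk (⟨x, hx⟩ : D)).carrier, ∀ r : ℕ, r.Prime → r ∣ orderOf y → r ∈ ({2} : Finset ℕ) := by
    intro c x hxc hx y hy r hr hry
    obtain ⟨g, hg⟩ := isConj_iff.1 (ConjClasses.mk_eq_mk_iff_isConj.1 (ConjClasses.mem_carrier_iff_mk_eq.1 hy).symm)
    refine c.2 x (ConjClasses.mem_carrier_iff_mk_eq.2 hxc) r hr ?_
    rwa [← hg, show g * (⟨x, hx⟩ : D) * g⁻¹ = MulAut.conj g ⟨x, hx⟩ from rfl, MulEquiv.orderOf_eq,
      Subgroup.orderOf_mk] at hry
  have htu : ∀ c : I, inD c → t * u c * t⁻¹ ∈ D := by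
    intro c hc
    refine Subgroup.mem_centralizer_iff.2 fun y hy => ?_
    have hy' : t⁻¹ * y * t ∈ (Q : Subgroup G) := by
      have := Subgroup.mem_normalizer_iff.1 htN (t⁻¹ * y * t)
      exact this.2 (by group; exact hy)
    have h2 := Subgroup.mem_centralizer_iff.1 (huD c hc) _ hy'
    calc y * (t * u c * t⁻¹) = t * ((t⁻¹ * y * t) * u c) * t⁻¹ := by group
      _ = t * (u c * (t⁻¹ * y * t)) * t⁻¹ := by rw [h2]
      _ = _ := by group
  have hcount : 2 * (Finset.univ.filter fun c : I => inD c ∧ ¬ ext c).card +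
      (Finset.univ.filter fun c : I => inD c ∧ ext c).card ≤ Nat.card X := by
    haveI := Fintype.ofFinite X
    let S0 := Finset.univ.filter fun c : I => inD c ∧ ¬ ext c
    let S1 := Finset.univ.filter fun c : I => inD c ∧ ext c
    have hS0 : ∀ c ∈ S0, inD c ∧ ¬ ext c := fun c hc => (Finset.mem_filter.1 hc).2
    have hS1 : ∀ c ∈ S1, inD c ∧ ext c := fun c hc => (Finset.mem_filter.1 hc).2
    let f : S0 ⊕ (S0 ⊕ S1) → X := fun z => match z with
      | Sum.inl c => ⟨ConjClasses.mk ⟨u c.1, huD _ (hS0 _ c.2).1⟩, htwo c.1 _ (hu c.1) _⟩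
      | Sum.inr (Sum.inl c) => ⟨ConjClasses.mk ⟨t * u c.1 * t⁻¹, htu _ (hS0 _ c.2).1⟩, htwo c.1 _
          ((ConjClasses.mk_eq_mk_iff_isConj.2 (isConj_iff.2 ⟨t⁻¹, by group⟩)).trans (hu c.1)) _⟩
      | Sum.inr (Sum.inr c) => ⟨ConjClasses.mk ⟨u c.1, huD _ (hS1 _ c.2).1⟩, htwo c.1 _ (hu c.1) _⟩
    let ψ : X → ConjClasses G := fun d => Quotient.lift (fun v : D => ConjClasses.mk (v : G)) (fun a b hab => by
      obtain ⟨g, hg⟩ := isConj_iff.1 hab
      exact ConjClasses.mk_eq_mk_iff_isConj.2 (isConj_iff.2 ⟨g, congrArg Subtype.val hg⟩)) d.1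
    have hψ : ∀ z, ψ (f z) = (Sum.elim (fun c : S0 => c.1) (Sum.elim (fun c : S0 => c.1) (fun c : S1 => c.1)) z).1 := by
      rintro (c | c | c)
      · exact hu c.1
      · exact ((ConjClasses.mk_eq_mk_iff_isConj.2 (isConj_iff.2 ⟨t⁻¹, by group⟩)).trans (hu c.1))
      · exact hu c.1
    have hsame : ∀ (c : S0), f (Sum.inl c) ≠ f (Sum.inr (Sum.inl c)) := by
      intro c e
      obtain ⟨g, hg⟩ := isConj_iff.1 (ConjClasses.mk_eq_mk_iff_isConj.1 (congrArg Subtype.val e))
      apply (hS0 _ c.2).2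
      refine ⟨t⁻¹ * (g : G), N.mul_mem (N.inv_mem htN) (hDN g.2), fun hmem => htD ?_, ?_⟩
      · have := D.mul_mem g.2 (D.inv_mem hmem)
        rwa [mul_inv_rev, inv_inv, mul_inv_cancel_left] at this
      · have hg' : (g : G) * u c.1 * (g : G)⁻¹ = t * u c.1 * t⁻¹ := congrArg Subtype.val hg
        calc t⁻¹ * (g : G) * u c.1 = t⁻¹ * ((g : G) * u c.1 * (g : G)⁻¹) * g := by group
          _ = t⁻¹ * (t * u c.1 * t⁻¹) * g := by rw [hg']
          _ = u c.1 * (t⁻¹ * (g : G)) := by group
    have hinj : Function.Injective f := by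
      intro z w e
      have h1 := Subtype.ext ((hψ z).symm.trans ((congrArg ψ e).trans (hψ w)))
      rcases z with c | c | c <;> rcases w with d | d | d <;> simp only [Sum.elim_inl, Sum.elim_inr] at h1
      · exact congrArg Sum.inl (Subtype.ext h1)
      · exact absurd (Subtype.ext h1 : c = d) (fun h => hsame c (by subst h; exact e))
      · exact absurd (hS1 _ d.2).2 (h1 ▸ (hS0 _ c.2).2)
      · exact absurd (Subtype.ext h1 : c = d) (fun h => hsame c (by subst h; exact e.symm))
      · exact congrArg (Sum.inr ∘ Sum.inl) (Subtype.ext h1)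
      · exact absurd (hS1 _ d.2).2 (h1 ▸ (hS0 _ c.2).2)
      · exact absurd (hS1 _ c.2).2 (h1.symm ▸ (hS0 _ d.2).2)
      · exact absurd (hS1 _ c.2).2 (h1.symm ▸ (hS0 _ d.2).2)
      · exact congrArg (Sum.inr ∘ Sum.inr) (Subtype.ext h1)
    have h2 := Fintype.card_le_of_injective f hinj
    rw [Fintype.card_sum, Fintype.card_sum, Fintype.card_coe, Fintype.card_coe, ← Nat.card_eq_fintype_card] at h2
    show 2 * S0.card + S1.card ≤ _
    omega
  have hq3 : 3 ≤ q := lt_of_le_of_ne hq.out.two_le (Ne.symm hq2)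
  have hbound : ∀ c : I, 6 * num {q} ↥(Subgroup.centralizer ({u c} : Set G)) ≤
      2 * e + 4 * e * (if inD c ∧ ¬ ext c then 1 else 0) + 2 * e * (if inD c ∧ ext c then 1 else 0) := by
    intro c
    by_cases hc : inD c
    · by_cases hx : ext c
      · rw [if_neg (fun h => h.2 hx), if_pos ⟨hc, hx⟩]
        have h1 := hB1 c hc hx
        nlinarith
      · rw [if_pos ⟨hc, hx⟩, if_neg (fun h => hx h.2)]
        have h1 := hB c hc
        omega
    · rw [if_neg (fun h => hc h.1), if_neg (fun h => hc h.1)]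
      have h1 := hAb c hc
      nlinarith
  have h1 := Finset.sum_le_sum (s := Finset.univ) (fun (c : I) _ => hbound c)
  rw [← Finset.mul_sum, Finset.sum_add_distrib, Finset.sum_add_distrib] at h1
  simp only [← Finset.mul_sum, Finset.sum_boole, Finset.sum_const, smul_eq_mul, Finset.card_univ,
    ← Nat.card_eq_fintype_card, Nat.cast_id] at h1
  rw [← he]
  generalize 2 ^ (Nat.card G).factorization 2 = s at *
  generalize (Finset.univ.filter fun c : I => inD c ∧ ¬ ext c).card = a at *
  generalize (Finset.univ.filter fun c : I => inD c ∧ ext c).card = b at *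
  generalize Nat.card X = x at *
  generalize Nat.card I = k at *
  nlinarith [Nat.mul_le_mul_left e hcount, Nat.mul_le_mul_left e hX, Nat.mul_le_mul_left e hcardI]

end Cfsg.Agent.Solv.PiCl
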