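import Cfsg.Agent.Lib.Solv.PiClassCount
import Cfsg.Agent.Lib.Fusion.NPC
import Cfsg.Agent.Lib.Solv.Basic

/-!
More than half as many classes of `π`-elements as the `π`-part of the order, for `2 ∈ π`.
-/

set_option autoImplicit false
set_option linter.style.haveILetI false

open scoped commutatorElement

namespace Cfsg.Agent.Solv.PiCl

universe u

variable {G : Type u} [Group G] [Finite G]

theorem eq_one_of_pow_pow {H : Type*} [Monoid H] {x : H} {p m k : ℕ} (hm : m.Coprime p) (h1 : x ^ m = 1)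
    (h2 : x ^ p ^ k = 1) : x = 1 := by
  rw [← orderOf_eq_one_iff]
  exact Nat.eq_one_of_dvd_coprimes (hm.pow_right k) (orderOf_dvd_of_pow_eq_one h1) (orderOf_dvd_of_pow_eq_one h2)

/-- An element of order prime to `p` acting nontrivially on a `p`-subgroup acts so on one containing the
center of a Sylow subgroup that contains it. -/
theorem exists_big_action {p : ℕ} [hp : Fact p.Prime] (U : Subgroup G) (hU : IsPGroup p U) (g : G)
    (hg : g ∈ Subgroup.normalizer (U : Set G)) (hgo : (orderOf g).Coprime p)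
    (hgc : g ∉ Subgroup.centralizer (U : Set G)) :
    ∃ (V : Subgroup G) (h : G) (S : Sylow p G), h ∈ Subgroup.normalizer (V : Set G) ∧ (orderOf h).Coprime p ∧
      h ∉ Subgroup.centralizer (V : Set G) ∧ V ≤ (S : Subgroup G) ∧
      ∀ z ∈ (S : Subgroup G), (∀ s ∈ (S : Subgroup G), s * z = z * s) → z ∈ V := by
  classical
  set C := Subgroup.centralizer (U : Set G) with hC
  have hCn : ∀ n ∈ Subgroup.normalizer (U : Set G), ∀ c ∈ C, n * c * n⁻¹ ∈ C := by
    intro n hn c hc
    rw [hC, Subgroup.mem_centralizer_iff] at hc ⊢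
    intro x hx
    have hx' : n⁻¹ * x * n ∈ U := by
      have h1 := (Subgroup.mem_normalizer_iff.1 hn (n⁻¹ * x * n)).2 (by group; exact hx)
      exact h1
    have h2 := hc _ hx'
    calc x * (n * c * n⁻¹) = n * ((n⁻¹ * x * n) * c) * n⁻¹ := by group
      _ = n * (c * (n⁻¹ * x * n)) * n⁻¹ := by rw [h2]
      _ = n * c * n⁻¹ * x := by group
  obtain ⟨T, hT, -⟩ := Fusion.exists_sylIn_ge (p := p) (H := C) (IsPGroup.of_bot) bot_le
  have hTg : Fusion.cj T g ≤ C := by
    intro x hx
    have h1 := hCn g hg _ (hT.le (Fusion.mem_cj.1 hx))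
    rwa [show g * (g⁻¹ * x * g) * g⁻¹ = x by group] at h1
  obtain ⟨c, hc, hcT⟩ := hT.conj_le (Fusion.isPGroup_cj hT.isPGroup g) hTg
  rw [Fusion.cj_cj] at hcT
  obtain ⟨h0, hh0⟩ : ∃ h0, h0 = c * g := ⟨_, rfl⟩
  rw [← hh0] at hcT
  have hCN : C ≤ Subgroup.normalizer (U : Set G) :=
    (Subgroup.centralizer_le_normalizer _)
  have hh0N : h0 ∈ Subgroup.normalizer (U : Set G) := hh0 ▸ Subgroup.mul_mem _ (hCN hc) hg
  have hh0T : h0 ∈ Subgroup.normalizer (T : Set G) :=
    Fusion.mem_normalizer_iff_cj.2 (Fusion.cj_eq_of_cj_le hcT)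
  obtain ⟨a, v, haz, hvz, hav, ⟨k, hk⟩, hvo⟩ := exists_ppart p h0
  have hvN : v ∈ Subgroup.normalizer (U : Set G) := (Subgroup.zpowers_le.2 hh0N) hvz
  have hvT : v ∈ Subgroup.normalizer (T : Set G) := (Subgroup.zpowers_le.2 hh0T) hvz
  have haN : a ∈ Subgroup.normalizer (U : Set G) := (Subgroup.zpowers_le.2 hh0N) haz
  have hker : ∀ x : Subgroup.normalizer (U : Set G), (x : G) ∈ C ↔ Subgroup.normalizerMonoidHom U x = 1 := by
    intro x
    rw [← MonoidHom.mem_ker, Subgroup.normalizerMonoidHom_ker, Subgroup.mem_subgroupOf]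
  have hvC : v ∉ C := by
    intro hv
    apply hgc
    set φ := Subgroup.normalizerMonoidHom U
    have e1 : φ ⟨h0, hh0N⟩ = φ ⟨g, hg⟩ := by
      rw [show (⟨h0, hh0N⟩ : Subgroup.normalizer (U : Set G)) = ⟨c, hCN hc⟩ * ⟨g, hg⟩ from Subtype.ext hh0,
        map_mul, (hker ⟨c, hCN hc⟩).1 hc, one_mul]
    have e2 : φ ⟨h0, hh0N⟩ = φ ⟨a, haN⟩ := by
      rw [show (⟨h0, hh0N⟩ : Subgroup.normalizer (U : Set G)) = ⟨a, haN⟩ * ⟨v, hvN⟩ from Subtype.ext hav.symm,
        map_mul, (hker ⟨v, hvN⟩).1 hv, mul_one]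
    refine (hker ⟨g, hg⟩).2 (eq_one_of_pow_pow hgo ?_ (k := k) ?_)
    · rw [← map_pow, show (⟨g, hg⟩ : Subgroup.normalizer (U : Set G)) ^ orderOf g = 1 from
        Subtype.ext (pow_orderOf_eq_one g), map_one]
    · rw [← e1, e2, ← map_pow, show (⟨a, haN⟩ : Subgroup.normalizer (U : Set G)) ^ p ^ k = 1 from
        Subtype.ext (hk ▸ pow_orderOf_eq_one a), map_one]
  have hV : IsPGroup p ↥(U ⊔ T) :=
    hU.to_sup_of_normal_left' hT.isPGroup (hT.le.trans hCN)
  obtain ⟨S, hS⟩ := hV.exists_le_sylow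
  refine ⟨U ⊔ T, v, S, ?_, hvo, fun hv => hvC (Subgroup.centralizer_le (SetLike.coe_subset_coe.2 (le_sup_left : U ≤ U ⊔ T)) hv), hS, fun z hzS hz => ?_⟩
  · rw [Fusion.mem_normalizer_iff_cj, Fusion.cj_sup, Fusion.mem_normalizer_iff_cj.1 hvN,
      Fusion.mem_normalizer_iff_cj.1 hvT]
  · have e1 : IsPGroup p ↥(Subgroup.zpowers z ⊔ T) :=
      IsPGroup.to_le S.2 (sup_le (Subgroup.zpowers_le.2 hzS) (le_sup_right.trans hS))
    have e2 : Subgroup.zpowers z ⊔ T ≤ C :=
      sup_le (Subgroup.zpowers_le.2 (Subgroup.mem_centralizer_iff.2 fun x hx => hz x (hS (Subgroup.mem_sup_left hx)))) hT.le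
    obtain ⟨T', hT', hle⟩ := Fusion.exists_sylIn_ge (p := p) e1 e2
    have hTT : T = T' := Subgroup.eq_of_le_of_card_ge (le_sup_right.trans hle) (by
        obtain ⟨d, hd, hdT⟩ := hT.conj_le hT'.isPGroup hT'.le
        rw [← Fusion.card_cj T' d]
        exact Nat.le_of_dvd Nat.card_pos (Subgroup.card_dvd_of_le hdT))
    exact Subgroup.mem_sup_right (hTT.symm ▸ hle (Subgroup.mem_sup_left (Subgroup.mem_zpowers z)))

/-- More than half: `G` has a normal `2`-complement. -/
theorem hnpc_two [Fact (Nat.Prime 2)] (hk : 2 ^ (Nat.card G).factorization 2 < 2 * num {2} G) :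
    Cfsg.HasNormalPComplement 2 G := by
  classical
  by_contra hnc
  obtain ⟨S0⟩ : Nonempty (Sylow 2 G) := inferInstance
  have hex : ∃ U : Subgroup G, U ≤ (S0 : Subgroup G) ∧ ∃ g ∈ Subgroup.normalizer (U : Set G),
      (orderOf g).Coprime 2 ∧ g ∉ Subgroup.centralizer (U : Set G) := by
    by_contra h
    push Not at h
    exact hnc (Fusion.hnpc_of_centralize (Fusion.sylIn_top S0) fun Q hQ g hg hgo => h Q hQ g hg hgo)
  obtain ⟨U, hUS, g, hg, hgo, hgc⟩ := hex
  obtain ⟨V, h, S, hhN, hho, hhC, hVS, hZ⟩ := exists_big_action U (S0.2.to_le hUS) g hg hgo hgc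
  haveI := Fintype.ofFinite (S : Subgroup G)
  let fx : G → Prop := fun x => h * x = x * h
  let cen : G → Prop := fun x => ∀ s ∈ (S : Subgroup G), s * x = x * s
  let w : ↥(S : Subgroup G) → ℕ := fun x =>
    if (x : G) ∈ V ∧ ¬ fx x then 2 else if cen x then 6 else 3
  -- the number of moved elements
  obtain ⟨F, hFdef⟩ : ∃ F, F = V ⊓ Subgroup.centralizer ({h} : Set G) := ⟨_, rfl⟩
  have hFmem : ∀ x, x ∈ F ↔ x ∈ V ∧ fx x := fun x => by
    rw [hFdef, Subgroup.mem_inf, Subgroup.mem_centralizer_singleton_iff]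
    exact ⟨fun ⟨a, b⟩ => ⟨a, b.symm⟩, fun ⟨a, b⟩ => ⟨a, b.symm⟩⟩
  have hFV : F ≤ V := hFdef ▸ inf_le_left
  have hF4 : 4 * Nat.card F ≤ Nat.card V := by
    have h1 := Subgroup.card_mul_index (F.subgroupOf V)
    rw [Cfsg.Agent.Solv.card_subgroupOf hFV] at h1
    obtain ⟨i, hi⟩ := (S.2.to_le hVS).index (F.subgroupOf V)
    rw [hi] at h1
    suffices 2 ≤ i by
      rw [← h1, mul_comm]
      exact Nat.mul_le_mul_left _ (le_trans (by norm_num : 4 ≤ 2 ^ 2) (Nat.pow_le_pow_right (show 0 < 2 by norm_num) this))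
    by_contra hlt
    push Not at hlt
    apply hhC
    rw [Subgroup.mem_centralizer_iff]
    intro x hx
    by_contra hxne
    have hxF : x ∉ F := fun hxF => hxne ((hFmem x).1 hxF).2.symm
    have hhx : h * x * h⁻¹ ∈ V := (Subgroup.mem_normalizer_iff.1 hhN x).1 hx
    have hi1 : (F.subgroupOf V).index = 2 := by
      rw [hi]
      rcases Nat.lt_succ_iff.1 hlt |>.lt_or_eq with h0 | h0
      · exfalso
        have : (F.subgroupOf V).index = 1 := by rw [hi, show i = 0 by omega, pow_zero]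
        exact hxF (Subgroup.mem_subgroupOf.1
          (Subgroup.index_eq_one.1 this ▸ Subgroup.mem_top (⟨x, hx⟩ : V) : (⟨x, hx⟩ : V) ∈ F.subgroupOf V))
      · rw [h0, pow_one]
    have hnin : h * x * h⁻¹ ∉ F := fun hF' => by
      have e1 := ((hFmem _).1 hF').2
      apply hxne
      have e3 : h * x = x * h := by
        have e5 : h * (h * x * h⁻¹) = h * x := by rw [e1]; group
        exact mul_inv_eq_iff_eq_mul.1 (mul_left_cancel e5)
      exact e3.symm
    have hquot : x⁻¹ * (h * x * h⁻¹) ∈ F := by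
      have e1 := (Subgroup.mul_mem_iff_of_index_two hi1 (a := (⟨x, hx⟩ : V)⁻¹) (b := ⟨h * x * h⁻¹, hhx⟩)).2
        ⟨fun e => absurd (Subgroup.mem_subgroupOf.1 ((F.subgroupOf V).inv_mem_iff.1 e)) hxF,
          fun e => absurd (Subgroup.mem_subgroupOf.1 e) hnin⟩
      exact Subgroup.mem_subgroupOf.1 e1
    obtain ⟨f, hf⟩ : ∃ f, f = x⁻¹ * (h * x * h⁻¹) := ⟨_, rfl⟩
    rw [← hf] at hquot
    have hiter : ∀ n : ℕ, h ^ n * x * (h ^ n)⁻¹ = x * f ^ n := by
      intro n
      induction n with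
      | zero => simp
      | succ n ih =>
        have hfh : Commute h (f ^ n) := (show Commute h f from ((hFmem f).1 hquot).2).pow_right n
        calc h ^ (n + 1) * x * (h ^ (n + 1))⁻¹ = h * (h ^ n * x * (h ^ n)⁻¹) * h⁻¹ := by rw [pow_succ']; group
          _ = h * x * f ^ n * h⁻¹ := by rw [ih]; group
          _ = h * x * (f ^ n * h⁻¹) := by rw [mul_assoc]
          _ = h * x * (h⁻¹ * f ^ n) := by rw [hfh.inv_left.eq]
          _ = x * f ^ (n + 1) := by
            rw [pow_succ', ← mul_assoc x, show x * f = h * x * h⁻¹ by rw [hf]; group]; group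
    have e1 := hiter (orderOf h)
    rw [pow_orderOf_eq_one, one_mul, inv_one, mul_one, eq_comm, mul_eq_left] at e1
    obtain ⟨j, hj⟩ := (S.2.to_le (hFV.trans hVS)) ⟨f, hquot⟩
    have e2 : f = 1 := eq_one_of_pow_pow hho e1 (congrArg Subtype.val hj)
    rw [hf, inv_mul_eq_one] at e2
    exact hxne (by rw [eq_comm, ← mul_inv_eq_iff_eq_mul]; exact e2.symm)
  -- every class has weight at least six
  let cl : ↥(S : Subgroup G) → ConjClasses G := fun x => ConjClasses.mk (x : G)
  let I := {c : ConjClasses G // ∀ x ∈ c.carrier, ∀ r : ℕ, r.Prime → r ∣ orderOf x → r ∈ ({2} : Finset ℕ)}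
  haveI := Fintype.ofFinite I
  have hmove : ∀ x : G, ¬ fx x → h * (h * x * h⁻¹) * h⁻¹ ≠ x := by
    intro x hx e
    apply hx
    have e1 : Commute (h ^ 2) x := by
      show h ^ 2 * x = x * h ^ 2
      have e' := eq_mul_inv_iff_mul_eq.1 e.symm
      calc h ^ 2 * x = h * (h * x * h⁻¹) * h⁻¹ * h ^ 2 := by rw [pow_two]; group
        _ = x * h ^ 2 := by rw [e]
    obtain ⟨j, hj⟩ := Nat.coprime_two_right.1 hho
    have e2 : h = (h ^ 2) ^ (j + 1) := by
      rw [← pow_mul, show 2 * (j + 1) = orderOf h + 1 by omega, pow_succ, pow_orderOf_eq_one, one_mul]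
    rw [show fx x ↔ h * x = x * h from Iff.rfl, e2]
    exact (e1.pow_left _).eq
  have hcls : ∀ c : I, 6 ≤ ∑ x ∈ (Finset.univ.filter fun x => cl x = c.1), w x := by
    rintro ⟨c, hc⟩
    obtain ⟨y, rfl⟩ := ConjClasses.exists_rep c
    have hyp : IsPGroup 2 (Subgroup.zpowers y) := by
      refine IsPGroup.of_card (n := (orderOf y).primeFactorsList.length) ?_
      rw [Nat.card_zpowers]
      exact Nat.eq_prime_pow_of_unique_prime_dvd (orderOf_pos y).ne' fun {d} hd hdx =>
        Finset.mem_singleton.1 (hc y ConjClasses.mem_carrier_mk d hd hdx)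
    obtain ⟨Q, hQ⟩ := hyp.exists_le_sylow
    obtain ⟨a, ha⟩ := MulAction.exists_smul_eq G Q S
    have hay : a * y * a⁻¹ ∈ (S : Subgroup G) := by
      rw [← ha, Sylow.coe_subgroup_smul]
      exact ⟨y, hQ (Subgroup.mem_zpowers y), rfl⟩
    have hconj : ∀ (x : (S : Subgroup G)) (b : G) (hb : b * x * b⁻¹ ∈ (S : Subgroup G)),
        cl x = ConjClasses.mk y → cl ⟨b * x * b⁻¹, hb⟩ = ConjClasses.mk y := fun x b hb hx => by
      rw [← hx]
      exact (ConjClasses.mk_eq_mk_iff_isConj.2 (isConj_iff.2 ⟨b, rfl⟩)).symm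
    obtain ⟨x, hx⟩ : ∃ x, cl x = ConjClasses.mk y := ⟨⟨a * y * a⁻¹, hay⟩,
      (ConjClasses.mk_eq_mk_iff_isConj.2 (isConj_iff.2 ⟨a, rfl⟩)).symm⟩
    by_cases hm : ∃ x, cl x = ConjClasses.mk y ∧ (x : G) ∈ V ∧ ¬ fx x
    · obtain ⟨x, hx, hxV, hxm⟩ := hm
      have h1V := (Subgroup.mem_normalizer_iff.1 hhN _).1 hxV
      have h2V := (Subgroup.mem_normalizer_iff.1 hhN _).1 h1V
      obtain ⟨x1, hx1⟩ : ∃ x1 : (S : Subgroup G), x1 = ⟨h * x * h⁻¹, hVS h1V⟩ := ⟨_, rfl⟩
      obtain ⟨x2, hx2⟩ : ∃ x2 : (S : Subgroup G), x2 = ⟨h * (h * x * h⁻¹) * h⁻¹, hVS h2V⟩ := ⟨_, rfl⟩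
      have hm1 : ¬ fx (h * (x : G) * h⁻¹) := fun e => hxm (by
        have e' : h * (h * (x : G) * h⁻¹) = h * x * h⁻¹ * h := e
        rw [inv_mul_cancel_right] at e'
        exact (mul_inv_eq_iff_eq_mul.1 (mul_left_cancel e')))
      have hm2 : ¬ fx (h * (h * (x : G) * h⁻¹) * h⁻¹) := fun e => hm1 (by
        have e' : h * (h * (h * (x : G) * h⁻¹) * h⁻¹) = h * (h * x * h⁻¹) * h⁻¹ * h := e
        rw [inv_mul_cancel_right] at e'
        exact (mul_inv_eq_iff_eq_mul.1 (mul_left_cancel e')))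
      have hd1 : x ≠ x1 := fun e => hxm (by
        have e' : (x : G) = h * x * h⁻¹ := by conv_lhs => rw [e, hx1]
        exact (mul_inv_eq_iff_eq_mul.1 e'.symm))
      have hd2 : x ≠ x2 := fun e => hmove x hxm (by
        have e' : (x : G) = h * (h * x * h⁻¹) * h⁻¹ := by conv_lhs => rw [e, hx2]
        exact e'.symm)
      have hd3 : x1 ≠ x2 := fun e => hm1 (by
        rw [hx1, hx2] at e
        exact (mul_inv_eq_iff_eq_mul.1 (congrArg Subtype.val e).symm))
      have hc1 : cl x1 = ConjClasses.mk y := hx1 ▸ hconj x h _ hx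
      have hc2 : cl x2 = ConjClasses.mk y := by
        rw [hx2]
        exact hconj ⟨h * x * h⁻¹, hVS h1V⟩ h _ (hx1 ▸ hc1)
      refine le_trans ?_ (Finset.sum_le_sum_of_subset (f := w) (s := {x, x1, x2}) ?_)
      · rw [Finset.sum_insert (by simp [hd1, hd2]), Finset.sum_insert (by simp [hd3]), Finset.sum_singleton]
        simp only [w]
        rw [if_pos ⟨hxV, hxm⟩, if_pos ⟨by rw [hx1]; exact h1V, by rw [hx1]; exact hm1⟩,
          if_pos ⟨by rw [hx2]; exact h2V, by rw [hx2]; exact hm2⟩]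
        all_goals norm_num
      · intro z hz
        simp only [Finset.mem_insert, Finset.mem_singleton] at hz
        rcases hz with rfl | rfl | rfl <;> simp [hx, hc1, hc2]
    · push Not at hm
      have hw3 : ∀ z, cl z = ConjClasses.mk y → 3 ≤ w z := fun z hz => by
        simp only [w]
        rw [if_neg fun e => e.2 (hm z hz e.1)]
        split_ifs <;> norm_num
      by_cases hcx : cen (x : G)
      · refine le_trans ?_ (Finset.single_le_sum (f := w) (fun z _ => Nat.zero_le _) (Finset.mem_filter.2 ⟨Finset.mem_univ x, hx⟩))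
        simp only [w]
        rw [if_neg fun e => e.2 (hm x hx e.1), if_pos hcx]
      · obtain ⟨s, hs, hsx⟩ : ∃ s ∈ (S : Subgroup G), s * (x : G) ≠ x * s := by
          by_contra e; push Not at e; exact hcx e
        have hsS : s * (x : G) * s⁻¹ ∈ (S : Subgroup G) :=
          (S : Subgroup G).mul_mem ((S : Subgroup G).mul_mem hs x.2) ((S : Subgroup G).inv_mem hs)
        have hd : x ≠ ⟨s * x * s⁻¹, hsS⟩ := fun e =>
          hsx (mul_inv_eq_iff_eq_mul.1 (congrArg Subtype.val e).symm)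
        refine le_trans ?_ (Finset.sum_le_sum_of_subset (f := w) (s := {x, ⟨s * x * s⁻¹, hsS⟩}) ?_)
        · rw [Finset.sum_insert (by simp only [Finset.mem_singleton]; exact hd), Finset.sum_singleton]
          have := hw3 x hx
          have := hw3 _ (hconj x s hsS hx)
          omega
        · intro z hz
          simp only [Finset.mem_insert, Finset.mem_singleton] at hz
          rcases hz with e | e <;> simp [e, hx, hconj x s hsS hx]
  -- the total weight
  have htot : ∑ x, w x ≤ 3 * Nat.card (S : Subgroup G) := by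
    let A := Finset.univ.filter fun x : (S : Subgroup G) => (x : G) ∈ V ∧ ¬ fx x
    let B := Finset.univ.filter fun x : (S : Subgroup G) => (x : G) ∈ F
    have hle : ∀ x, w x + (if x ∈ A then 1 else 0) ≤ 3 + 3 * (if x ∈ B then 1 else 0) := by
      intro x
      by_cases hxA : (x : G) ∈ V ∧ ¬ fx x
      · simp only [w, if_pos hxA, A, Finset.mem_filter, Finset.mem_univ, true_and]
        omega
      · simp only [w, if_neg hxA, A, Finset.mem_filter, Finset.mem_univ, true_and, B, if_false]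
        by_cases hcx : cen x
        · have hxV := hZ _ x.2 hcx
          have hxF : (x : G) ∈ F := (hFmem _).2 ⟨hxV, not_not.1 fun e => hxA ⟨hxV, e⟩⟩
          rw [if_pos hcx, if_pos hxF]
        · rw [if_neg hcx]; omega
    have h1 := Finset.sum_le_sum (s := Finset.univ) (fun x _ => hle x)
    rw [Finset.sum_add_distrib, Finset.sum_add_distrib, ← Finset.mul_sum, Finset.sum_boole, Finset.sum_boole,
      Finset.sum_const, smul_eq_mul] at h1
    simp only [Nat.cast_id, Finset.filter_mem_eq_inter, Finset.univ_inter] at h1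
    have hB : B.card = Nat.card F := by
      rw [← Nat.card_eq_finsetCard]
      exact Nat.card_congr
        { toFun := fun x => ⟨(x.1 : G), (Finset.mem_filter.1 x.2).2⟩
          invFun := fun x => ⟨⟨x.1, hVS (hFV x.2)⟩, Finset.mem_filter.2 ⟨Finset.mem_univ _, x.2⟩⟩
          left_inv := fun x => rfl
          right_inv := fun x => rfl }
    have hAB : A.card + B.card = Nat.card V := by
      rw [← Finset.card_union_of_disjoint (Finset.disjoint_left.2 fun x h1 h2 =>
        (Finset.mem_filter.1 h1).2.2 ((hFmem _).1 (Finset.mem_filter.1 h2).2).2), ← Nat.card_eq_finsetCard]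
      refine Nat.card_congr
        { toFun := fun x => ⟨(x.1 : G), ?_⟩
          invFun := fun x => ⟨⟨x.1, hVS x.2⟩, ?_⟩
          left_inv := fun x => rfl
          right_inv := fun x => rfl }
      · rcases Finset.mem_union.1 x.2 with e | e
        · exact (Finset.mem_filter.1 e).2.1
        · exact hFV (Finset.mem_filter.1 e).2
      · rw [Finset.mem_union]
        by_cases e : fx x.1
        · exact Or.inr (Finset.mem_filter.2 ⟨Finset.mem_univ _, (hFmem _).2 ⟨x.2, e⟩⟩)
        · exact Or.inl (Finset.mem_filter.2 ⟨Finset.mem_univ _, x.2, e⟩)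
    rw [Finset.card_univ, ← Nat.card_eq_fintype_card] at h1
    omega
  have hnum : 6 * num {2} G ≤ ∑ x, w x := by
    calc 6 * num {2} G = ∑ _c : I, 6 := by
          rw [Finset.sum_const, Finset.card_univ, ← Nat.card_eq_fintype_card, smul_eq_mul, mul_comm]; rfl
      _ ≤ ∑ c : I, ∑ x ∈ (Finset.univ.filter fun x => cl x = c.1), w x := Finset.sum_le_sum fun c _ => hcls c
      _ ≤ ∑ x, w x := by
          rw [← Finset.sum_biUnion]
          · exact Finset.sum_le_sum_of_subset (Finset.subset_univ _)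
          · exact fun c _ d _ hcd => Finset.disjoint_left.2 fun x h1 h2 => hcd (Subtype.ext
              ((Finset.mem_filter.1 h1).2.symm.trans (Finset.mem_filter.1 h2).2))
  rw [← S.card_eq_multiplicity] at hk
  omega

end Cfsg.Agent.Solv.PiCl
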