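import Cfsg.Agent.Lib.Solv.Coprime
import Cfsg.Agent.Lib.Solv.Cores

/-!
Groups in which the `π`-elements form a subgroup, and the extension criterion through
automisers of `π'`-subgroups.
-/

set_option autoImplicit false
set_option linter.style.haveILetI false

open scoped Pointwise

namespace Cfsg.Agent.Solv

universe u

variable {G : Type u} [Group G]

/-- All prime divisors of the order of `x` lie in `π`. -/
def IsPiElt (π : Set ℕ) (x : G) : Prop := ∀ p : ℕ, p.Prime → p ∣ orderOf x → p ∈ π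

/-- Automisers of nontrivial `π'`-subgroups are `π'`-groups. -/
def PiAutomisers (π : Set ℕ) (G : Type u) [Group G] : Prop :=
  ∀ H : Subgroup G, H ≠ ⊥ → (∀ p : ℕ, p.Prime → p ∣ Nat.card ↥H → p ∉ π) →
    ∀ p : ℕ, p.Prime →
      p ∣ (Subgroup.centralizer (H : Set G)).relIndex (Subgroup.normalizer (H : Set G)) → p ∉ π

theorem isPiElt_one (π : Set ℕ) : IsPiElt π (1 : G) := fun p hp h => by
  rw [orderOf_one] at h
  exact absurd h hp.not_dvd_one

theorem isPiElt_mul_of_commute {π : Set ℕ} {a b : G} (hab : Commute a b) (ha : IsPiElt π a)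
    (hb : IsPiElt π b) : IsPiElt π (a * b) := fun p hp h =>
  ((Nat.Prime.dvd_mul hp).1 (h.trans hab.orderOf_mul_dvd_mul_orderOf)).elim (ha p hp) (hb p hp)

theorem isPiElt_inv {π : Set ℕ} {a : G} (ha : IsPiElt π a) : IsPiElt π a⁻¹ := fun p hp h =>
  ha p hp (orderOf_inv a ▸ h)

/-- In a group where `π`-elements lie in a `π`-subgroup, a `π'`-element of that kind is trivial. -/
theorem eq_one_of_pi_of_card {π : Set ℕ} {H : Subgroup G} [Finite H]
    (hH : ∀ p : ℕ, p.Prime → p ∣ Nat.card H → p ∉ π) {x : G} (hx : x ∈ H) (hπ : IsPiElt π x) :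
    x = 1 := by
  rw [← orderOf_eq_one_iff]
  by_contra h
  obtain ⟨p, hp, hpd⟩ := Nat.exists_prime_and_dvd h
  exact hH p hp (hpd.trans (Subgroup.orderOf_mk x hx ▸ orderOf_dvd_natCard _)) (hπ p hp hpd)

theorem pi_centralizes [Finite G] {π : Set ℕ} (hom : PiAutomisers π G) (L : Subgroup G) [L.Normal]
    (hL : ∀ q : ℕ, q.Prime → q ∣ Nat.card L → q ∈ π) (K : Subgroup (G ⧸ L)) [K.Normal]
    (hK : ∀ q : ℕ, q.Prime → q ∣ Nat.card K → q ∉ π) {p : ℕ} [Fact p.Prime] (hpπ : p ∈ π)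
    {a : G ⧸ L} {f : ℕ} (ha : orderOf a = p ^ f) : K ≤ Subgroup.centralizer {a} := by
  obtain ⟨A, hA⟩ : ∃ A, A = Subgroup.zpowers a := ⟨_, rfl⟩
  have hAK : A ≤ Subgroup.normalizer (K : Set (G ⧸ L)) := fun x _ => by
    rw [Subgroup.normalizer_eq_top_iff.2 inferInstance]; trivial
  have hco : (Nat.card A).Coprime (Nat.card K) := by
    rw [hA, Nat.card_zpowers, ha]
    refine Nat.Coprime.pow_left f (((Fact.out : p.Prime).coprime_iff_not_dvd).2 fun h => ?_)
    exact hK p Fact.out h hpπ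
  have hsol : Group.IsSolvable A ∨ Group.IsSolvable K := Or.inl (by
    haveI : IsMulCommutative A := hA ▸ inferInstance
    exact Group.isSolvable_of_comm fun x y => IsMulCommutative.is_comm.comm x y)
  rw [← Subgroup.subgroupOf_eq_top]
  refine eq_top_of_forall_sylow_le _ fun q hq => ?_
  obtain ⟨P, hP, hPA⟩ := exists_invariant_sylow hAK hco hsol q
  obtain ⟨S, hS⟩ := hP.exists_sylow
  refine ⟨S, fun s hs => ?_⟩
  rw [Subgroup.mem_subgroupOf]
  have hsP : (s : G ⧸ L) ∈ P := hS ▸ ⟨s, hs, rfl⟩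
  by_cases hqK : q ∣ Nat.card K
  swap
  · have h0 : Nat.card P = 1 := by
      rw [hP.2, Nat.factorization_eq_zero_of_not_dvd hqK, pow_zero]
    rw [Subgroup.eq_bot_of_card_eq P h0, Subgroup.mem_bot] at hsP
    rw [hsP]
    exact one_mem _
  have hqπ := hK q (Fact.out) hqK
  obtain ⟨T, hT⟩ : ∃ T, T = P.comap (QuotientGroup.mk' L) := ⟨_, rfl⟩
  obtain ⟨Q, hQ⟩ := exists_isSylIn q T
  have hQc : Nat.card Q = Nat.card P := by
    have hTc : Nat.card T = Nat.card P * Nat.card L := by rw [hT, card_comap_mk']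
    have hL0 : (Nat.card L).factorization q = 0 :=
      Nat.factorization_eq_zero_of_not_dvd fun h => hqπ (hL q Fact.out h)
    rw [hQ.2, hTc, Nat.factorization_mul Nat.card_pos.ne' Nat.card_pos.ne', Finsupp.add_apply,
      hL0, Nat.add_zero, hP.2]
    congr 1
    rw [(Fact.out : q.Prime).factorization_pow, Finsupp.single_eq_same]
  have hQL : L ⊓ Q = ⊥ := coprime_inf (by
    rw [hQ.2]
    refine Nat.Coprime.pow_right _ (Nat.Coprime.symm ?_)
    exact ((Fact.out : q.Prime).coprime_iff_not_dvd).2 fun h => hqπ (hL q Fact.out h))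
  have hQP : Q.map (QuotientGroup.mk' L) = P := by
    refine Subgroup.eq_of_le_of_card_ge ?_ ?_
    · rw [Subgroup.map_le_iff_le_comap, ← hT]; exact hQ.1
    · have h := card_map_mk'_mul_card_inf L Q
      rw [hQL, Subgroup.card_bot, mul_one] at h
      rw [h, hQc]
  obtain ⟨b, rfl⟩ := QuotientGroup.mk'_surjective L a
  have hbT : b ∈ Subgroup.normalizer (T : Set G) := by
    rw [hT, ← Subgroup.comap_normalizer_eq_of_surjective _ (QuotientGroup.mk'_surjective L)]
    exact hPA (hA ▸ Subgroup.mem_zpowers _)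
  obtain ⟨t, ht, htQ⟩ := hQ.exists_conj (hQ.conj hbT)
  -- replace `t` by its component in `L`
  obtain ⟨l, hl, htl⟩ : ∃ l ∈ L, MulAut.conj l • Q = MulAut.conj b • Q := by
    have ht' : QuotientGroup.mk' L t ∈ P := by
      rw [hT] at ht; exact ht
    rw [← hQP] at ht'
    obtain ⟨u, hu, hut⟩ := ht'
    refine ⟨t * u⁻¹, ?_, ?_⟩
    · rw [← QuotientGroup.eq_one_iff, ← QuotientGroup.mk'_apply, map_mul, map_inv, hut, mul_inv_cancel]
    · rw [← conj_smul_conj, Subgroup.conj_smul_eq_self_of_mem (inv_mem hu), htQ]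
  obtain ⟨n, hn⟩ : ∃ n, n = l⁻¹ * b := ⟨_, rfl⟩
  have hnQ : n ∈ Subgroup.normalizer (Q : Set G) := mem_normalizer_of_conj_smul (by
    rw [hn, ← conj_smul_conj, ← htl, conj_smul_conj, inv_mul_cancel, conj_one_smul])
  have hnb : QuotientGroup.mk' L n = QuotientGroup.mk' L b := by
    rw [hn, map_mul, map_inv, show QuotientGroup.mk' L l = 1 from (QuotientGroup.eq_one_iff l).2 hl,
      inv_one, one_mul]
  -- the `p`-part of `n`
  obtain ⟨e, m, hm, hem⟩ := Nat.exists_eq_pow_mul_and_not_dvd (orderOf_pos n).ne' p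
    (Fact.out : p.Prime).ne_one
  obtain ⟨k, hk1, hk2⟩ : ∃ k, k % p ^ f = 1 % p ^ f ∧ m ∣ k := by
    rcases Nat.eq_zero_or_pos f with rfl | hf
    · exact ⟨0, by simp [Nat.mod_one], dvd_zero m⟩
    · obtain ⟨v, hv⟩ := Nat.exists_mul_mod_eq_one_of_coprime (k := p ^ f)
        ((((Fact.out : p.Prime).coprime_iff_not_dvd).2 hm).symm.pow_right f)
        (Nat.one_lt_pow hf.ne' (Fact.out : p.Prime).one_lt)
      exact ⟨m * v, by rw [hv.2, Nat.mod_eq_of_lt (Nat.one_lt_pow hf.ne' (Fact.out : p.Prime).one_lt)],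
        dvd_mul_right m v⟩
  have hnk : QuotientGroup.mk' L (n ^ k) = QuotientGroup.mk' L b := by
    rw [map_pow, hnb, ← pow_mod_orderOf, ha, hk1, ← ha, pow_mod_orderOf, pow_one]
  have hpk : (n ^ k) ^ p ^ e = 1 := by
    obtain ⟨c, rfl⟩ := hk2
    rw [← pow_mul, show m * c * p ^ e = p ^ e * m * c by ring, ← hem, pow_mul, pow_orderOf_eq_one,
      one_pow]
  have hC : n ^ k ∈ Subgroup.centralizer (Q : Set G) := by
    by_cases hQb : Q = ⊥
    · rw [hQb]
      refine Subgroup.mem_centralizer_iff.2 fun x hx => ?_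
      rw [SetLike.mem_coe, Subgroup.mem_bot] at hx
      rw [hx, one_mul, mul_one]
    obtain ⟨D, hD⟩ : ∃ D, D = (Subgroup.centralizer (Q : Set G)).subgroupOf
        (Subgroup.normalizer (Q : Set G)) := ⟨_, rfl⟩
    haveI : D.Normal := hD ▸ inferInstance
    have hcop : (p ^ e).Coprime D.index := by
      refine Nat.Coprime.pow_left e (((Fact.out : p.Prime).coprime_iff_not_dvd).2 fun h => ?_)
      rw [hD] at h
      refine hom Q hQb (fun r hr hrd => ?_) p Fact.out h hpπ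
      rw [hQ.2] at hrd
      rw [(Nat.prime_dvd_prime_iff_eq hr Fact.out).1 (hr.dvd_of_dvd_pow hrd)]
      exact hqπ
    obtain ⟨w, hw⟩ : ∃ w : Subgroup.normalizer (Q : Set G), (w : G) = n ^ k :=
      ⟨⟨_, pow_mem hnQ k⟩, rfl⟩
    have h1 : (QuotientGroup.mk w : Subgroup.normalizer (Q : Set G) ⧸ D) = 1 := by
      rw [← orderOf_eq_one_iff]
      refine Nat.eq_one_of_dvd_coprimes hcop ?_ (by rw [Subgroup.index_eq_card]; exact orderOf_dvd_natCard _)
      refine orderOf_dvd_of_pow_eq_one ?_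
      rw [← QuotientGroup.mk_pow, show w ^ p ^ e = 1 from Subtype.ext (by
        rw [Subgroup.coe_pow, hw, hpk]; rfl), QuotientGroup.mk_one]
    rw [QuotientGroup.eq_one_iff, hD, Subgroup.mem_subgroupOf, hw] at h1
    exact h1
  rw [← hQP] at hsP
  obtain ⟨u, hu, hus⟩ := hsP
  rw [Subgroup.mem_centralizer_singleton_iff, ← hus, ← hnk, ← map_mul, ← map_mul,
    Subgroup.mem_centralizer_iff.1 hC u hu]

/-- Extension step: if the `π`-elements of `K` form a subgroup and `M/K` is a `π`-group, then the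
`π`-elements of `M` form a subgroup. -/
theorem piClosed_extend [Finite G] {π : Set ℕ} (hom : PiAutomisers π G) (K M : Subgroup G)
    [K.Normal] [M.Normal] (hKM : K ≤ M)
    (hK : ∃ L : Subgroup G, ∀ x, x ∈ L ↔ x ∈ K ∧ IsPiElt π x)
    (hKMπ : ∀ q : ℕ, q.Prime → q ∣ K.relIndex M → q ∈ π) :
    ∃ O : Subgroup G, ∀ x, x ∈ O ↔ x ∈ M ∧ IsPiElt π x := by
  obtain ⟨L, hL⟩ := hK
  haveI : L.Normal := ⟨fun x hx g => (hL _).2 ⟨(inferInstance : K.Normal).conj_mem x ((hL x).1 hx).1 g,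
    fun p hp h => ((hL x).1 hx).2 p hp (by
      rwa [show g * x * g⁻¹ = MulAut.conj g x from rfl, MulEquiv.orderOf_eq] at h)⟩⟩
  have hLK : L ≤ K := fun x hx => ((hL x).1 hx).1
  have hLπ : ∀ q : ℕ, q.Prime → q ∣ Nat.card L → q ∈ π := fun q hq h => by
    haveI := Fact.mk hq
    obtain ⟨x, hx⟩ := exists_prime_orderOf_dvd_card' q h
    rw [← Subgroup.orderOf_coe] at hx
    exact ((hL _).1 x.2).2 q hq hx.symm.dvd
  have hKπ : ∀ q : ℕ, q.Prime → q ∣ L.relIndex K → q ∉ π := fun q hq h hqπ => by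
    haveI := Fact.mk hq
    obtain ⟨S⟩ : Nonempty (Sylow q K) := inferInstance
    refine S.not_dvd_index (h.trans (Subgroup.index_dvd_of_le (H := (S : Subgroup K))
      (K := L.subgroupOf K) fun s hs => ?_))
    rw [Subgroup.mem_subgroupOf, hL]
    refine ⟨s.2, fun r hr hrd => ?_⟩
    obtain ⟨j, hj⟩ := (IsPGroup.iff_orderOf.1 S.isPGroup') ⟨s, hs⟩
    rw [← Subgroup.orderOf_coe] at hj
    rw [Subgroup.orderOf_coe, hj] at hrd
    rw [(Nat.prime_dvd_prime_iff_eq hr hq).1 (hr.dvd_of_dvd_pow hrd)]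
    exact hqπ
  obtain ⟨Kb, hKb⟩ : ∃ Kb, Kb = K.map (QuotientGroup.mk' L) := ⟨_, rfl⟩
  obtain ⟨Mb, hMb⟩ : ∃ Mb, Mb = M.map (QuotientGroup.mk' L) := ⟨_, rfl⟩
  haveI : Kb.Normal := hKb ▸ (inferInstance : K.Normal).map _ (QuotientGroup.mk'_surjective L)
  haveI : Mb.Normal := hMb ▸ (inferInstance : M.Normal).map _ (QuotientGroup.mk'_surjective L)
  have hKbM : Kb ≤ Mb := by rw [hKb, hMb]; exact Subgroup.map_mono hKM
  have hMcomap : ∀ x : G, QuotientGroup.mk' L x ∈ Mb ↔ x ∈ M := fun x => by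
    rw [hMb, ← Subgroup.mem_comap, Subgroup.comap_map_eq_self (by
      rw [QuotientGroup.ker_mk']; exact hLK.trans hKM)]
  have hKbπ : ∀ q : ℕ, q.Prime → q ∣ Nat.card Kb → q ∉ π := fun q hq h => hKπ q hq (by
    refine h.trans (dvd_of_eq ?_)
    have h1 := card_map_mk'_mul_card_inf L K
    rw [inf_eq_left.2 hLK, ← hKb] at h1
    have h2 := (L.subgroupOf K).card_mul_index
    rw [card_subgroupOf hLK] at h2
    refine Nat.eq_of_mul_eq_mul_right (Nat.card_pos (α := L)) ?_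
    rw [h1, ← h2, Subgroup.relIndex]; ring)
  have hMKπ : ∀ q : ℕ, q.Prime → q ∣ Kb.relIndex Mb → q ∈ π := fun q hq h => hKMπ q hq (by
    rw [hKb, hMb] at h
    rwa [Subgroup.relIndex_map_map, QuotientGroup.ker_mk', sup_eq_left.2 hLK,
      sup_eq_left.2 (hLK.trans hKM)] at h)
  -- the `π`-elements of `M/L` centralise `K/L`
  have hcent : ∀ y ∈ Mb, IsPiElt π y → Kb ≤ Subgroup.centralizer {y} := by
    intro y _ hy k hk
    rw [Subgroup.mem_centralizer_singleton_iff]
    have h : Subgroup.zpowers y ≤ Subgroup.centralizer {k} := by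
      rw [← Subgroup.subgroupOf_eq_top]
      refine eq_top_of_forall_sylow_le _ fun p hp => ?_
      obtain ⟨S⟩ : Nonempty (Sylow p (Subgroup.zpowers y)) := inferInstance
      refine ⟨S, fun s hs => ?_⟩
      rw [Subgroup.mem_subgroupOf]
      obtain ⟨j, hj⟩ := (IsPGroup.iff_orderOf.1 S.isPGroup') ⟨s, hs⟩
      rw [← Subgroup.orderOf_coe, ← Subgroup.orderOf_coe] at hj
      rcases Nat.eq_zero_or_pos j with rfl | hj0
      · have h1 : (s : G ⧸ L) = 1 := orderOf_eq_one_iff.1 (by rw [pow_zero] at hj; exact hj)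
        rw [h1]; exact one_mem _
      have hpy : p ∣ orderOf y := by
        refine (dvd_pow_self p hj0.ne').trans ?_
        have h1 : orderOf (s : G ⧸ L) ∣ Nat.card (Subgroup.zpowers y) := by
          rw [Subgroup.orderOf_coe]; exact orderOf_dvd_natCard _
        rwa [Nat.card_zpowers, show orderOf (s : G ⧸ L) = p ^ j from hj] at h1
      exact Subgroup.mem_centralizer_singleton_iff.2 (Subgroup.mem_centralizer_singleton_iff.1
        (pi_centralizes hom L hLπ Kb hKbπ (hy p Fact.out hpy) (hj : orderOf (s : G ⧸ L) = p ^ j) hk)).symm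
    exact (Subgroup.mem_centralizer_singleton_iff.1 (h (Subgroup.mem_zpowers y))).symm
  obtain ⟨C, hC⟩ : ∃ C, C = Mb ⊓ Subgroup.centralizer (Kb : Set (G ⧸ L)) := ⟨_, rfl⟩
  have hidx : ∀ q : ℕ, q.Prime → q ∣ (Kb.subgroupOf C).index → q ∈ π := fun q hq h => by
    refine hMKπ q hq (h.trans ?_)
    have hCM : C ≤ Mb := hC ▸ inf_le_left
    show Kb.relIndex C ∣ Kb.relIndex Mb
    rw [← Subgroup.relIndex_sup_right C Kb,
      ← Subgroup.relIndex_mul_relIndex Kb (C ⊔ Kb) Mb le_sup_right (sup_le hCM hKbM)]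
    exact dvd_mul_right _ _
  obtain ⟨H, hH⟩ := Subgroup.exists_right_complement'_of_coprime (N := Kb.subgroupOf C) (by
    refine Nat.coprime_of_dvd fun q hq h1 h2 => ?_
    refine hKbπ q hq (h1.trans ?_) (hidx q hq h2)
    rw [← card_map_subtype (Kb.subgroupOf C), Subgroup.subgroupOf_map_subtype]
    exact Subgroup.card_dvd_of_le inf_le_left)
  have hHπ : ∀ h : C, h ∈ H → IsPiElt π (h : G ⧸ L) := fun h hh p hp hpd => by
    refine hidx p hp ?_
    rw [hH.symm.index_eq_card]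
    rw [Subgroup.orderOf_coe] at hpd
    exact hpd.trans (Subgroup.orderOf_mk h hh ▸ orderOf_dvd_natCard _)
  refine ⟨(H.map C.subtype).comap (QuotientGroup.mk' L), fun x => ?_⟩
  constructor
  · rintro ⟨h, hh, hhx⟩
    have hxM : x ∈ M := (hMcomap x).1 (by
      rw [← hhx]; exact (Subgroup.mem_inf.1 (hC.le h.2)).1)
    refine ⟨hxM, fun p hp hpd => ?_⟩
    obtain ⟨o, ho⟩ : ∃ o, o = orderOf (QuotientGroup.mk' L x) := ⟨_, rfl⟩
    have h1 : x ^ o ∈ L := by
      rw [← QuotientGroup.eq_one_iff, ← QuotientGroup.mk'_apply, map_pow, ho, pow_orderOf_eq_one]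
    have h2 : orderOf x ∣ o * Nat.card L := orderOf_dvd_of_pow_eq_one (by
      rw [pow_mul]; exact congrArg Subtype.val (pow_card_eq_one' (x := (⟨_, h1⟩ : L))))
    rcases hp.dvd_mul.1 (hpd.trans h2) with h3 | h3
    · rw [ho, ← hhx] at h3
      exact hHπ h hh p hp h3
    · exact hLπ p hp h3
  · rintro ⟨hxM, hxπ⟩
    have hy : IsPiElt π (QuotientGroup.mk' L x) := fun p hp h =>
      hxπ p hp (h.trans (orderOf_map_dvd _ x))
    have hyC : QuotientGroup.mk' L x ∈ C := hC ▸ Subgroup.mem_inf.2 ⟨(hMcomap x).2 hxM,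
      Subgroup.mem_centralizer_iff.2 fun k hk =>
        Subgroup.mem_centralizer_singleton_iff.1 (hcent _ ((hMcomap x).2 hxM) hy hk)⟩
    have hprod : (⟨_, hyC⟩ : C) ∈ ((Kb.subgroupOf C : Set C) * (H : Set C)) := by
      rw [hH.mul_eq]; trivial
    obtain ⟨z, hz, h, hh, hzh⟩ := hprod
    have hzh' : (z : G ⧸ L) * h = QuotientGroup.mk' L x := congrArg Subtype.val hzh
    have hcom : Commute (z : G ⧸ L) (h : G ⧸ L) :=
      Subgroup.mem_centralizer_iff.1 (Subgroup.mem_inf.1 (hC.le h.2)).2 _ hz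
    have hz1 : (z : G ⧸ L) = 1 := eq_one_of_pi_of_card hKbπ hz (by
      rw [show (z : G ⧸ L) = QuotientGroup.mk' L x * (h : G ⧸ L)⁻¹ by rw [← hzh']; group]
      refine isPiElt_mul_of_commute ?_ hy (isPiElt_inv (hHπ h hh))
      rw [← hzh']
      exact ((hcom.mul_left (Commute.refl _))).inv_right)
    refine ⟨h, hh, ?_⟩
    rw [← hzh', hz1, one_mul]
    rfl

end Cfsg.Agent.Solv
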