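import Cfsg.Agent.Lib.Fusion.WeakClosedTools
import Cfsg.Agent.Lib.Fusion.SL2Sections
import Cfsg.Agent.Lib.Fusion.NotStable
import Cfsg.Agent.Lib.Solv.Cores
import Cfsg.Agent.Lib.Char.TISimpleSocle

/-!
# Primitive pairs of characteristic `p` need a nonabelian Sylow 2-subgroup
-/

set_option autoImplicit false
set_option linter.style.haveILetI false

open scoped commutatorElement

namespace Cfsg.Agent.Solv.PrimitivePair

universe u

variable {G : Type u} [Group G] [Finite G] (p : ℕ) [hp : Fact p.Prime]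

/-- The `p`-core of a subgroup, in the group. -/
def core (M : Subgroup G) : Subgroup G := (Cfsg.pCore p ↥M).map M.subtype

/-- The hypothesis on one member of the pair. -/
structure Side (M : Subgroup G) : Prop where
  char : Subgroup.centralizer (Cfsg.pCore p ↥M : Set ↥M) ≤ Cfsg.pCore p ↥M
  stable : ∀ (Y : Subgroup ↥M) [Y.Normal], IsPGroup p Y → Cfsg.IsPStableOn p Y

/-- An abelian subgroup of largest order. -/
def IsBig (Q A : Subgroup G) : Prop :=
  A ≤ Q ∧ IsMulCommutative A ∧ ∀ B : Subgroup G, B ≤ Q → IsMulCommutative B → Nat.card B ≤ Nat.card A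

variable {p}

theorem core_le (M : Subgroup G) : core p M ≤ M := Subgroup.map_subtype_le _

theorem core_isPGroup (M : Subgroup G) : IsPGroup p (core p M) := (Solv.pCore_isPGroup p).map _

theorem core_normalized (M : Subgroup G) : M ≤ Subgroup.normalizer (core p M : Set G) := by
  intro m hm
  refine Subgroup.mem_normalizer_fintype ?_
  rintro _ ⟨q, hq, rfl⟩
  exact ⟨⟨m, hm⟩ * q * ⟨m, hm⟩⁻¹, (Solv.pCore_normal p).conj_mem q hq _, rfl⟩

theorem exists_big (Q : Subgroup G) : ∃ A, IsBig Q A := by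
  haveI : Finite (Subgroup G) := Finite.of_injective (fun H : Subgroup G => (H : Set G)) SetLike.coe_injective
  obtain ⟨A, ⟨hA, hAc⟩, hmax⟩ := Set.exists_max_image {A : Subgroup G | A ≤ Q ∧ IsMulCommutative A}
    (fun A : Subgroup G => Nat.card A) (Set.toFinite _) ⟨⊥, bot_le, inferInstance⟩
  exact ⟨A, hA, hAc, fun B hB hBc => hmax B ⟨hB, hBc⟩⟩

theorem comm_of {A : Subgroup G} (h : IsMulCommutative A) {a b : G} (ha : a ∈ A) (hb : b ∈ A) :
    a * b = b * a :=
  congrArg Subtype.val (h.is_comm.comm ⟨a, ha⟩ ⟨b, hb⟩)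

omit hp in
/-- Normalizing an abelian subgroup gives a quadratic action. -/
theorem quad_of_normalizes {M : Subgroup G} {Y : Subgroup ↥M} {A : Subgroup G}
    (hY : ∀ y ∈ Y, (y : G) ∈ Subgroup.normalizer (A : Set G)) (hA : IsMulCommutative A) {a : ↥M}
    (ha : (a : G) ∈ A) : ⁅⁅Y, Subgroup.zpowers a⁆, Subgroup.zpowers a⁆ = ⊥ := by
  have h1 : ⁅Y, Subgroup.zpowers a⁆ ≤ A.comap M.subtype := by
    rw [Subgroup.commutator_le]
    intro y hy z hz
    obtain ⟨j, rfl⟩ := Subgroup.mem_zpowers_iff.1 hz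
    show ((⁅y, a ^ j⁆ : ↥M) : G) ∈ A
    rw [commutatorElement_def]
    simp only [Subgroup.coe_mul, Subgroup.coe_inv, Subgroup.coe_zpow]
    exact mul_mem ((Subgroup.mem_normalizer_iff.1 (hY y hy) _).1 (zpow_mem ha j)) (inv_mem (zpow_mem ha j))
  rw [eq_bot_iff, Subgroup.commutator_le]
  intro b hb z hz
  obtain ⟨j, rfl⟩ := Subgroup.mem_zpowers_iff.1 hz
  rw [Subgroup.mem_bot, commutatorElement_eq_one_iff_mul_comm]
  refine Subtype.ext ?_
  simp only [Subgroup.coe_mul, Subgroup.coe_zpow]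
  exact comm_of hA (h1 hb) (zpow_mem ha j)

variable {M : Subgroup G} (hs : Side p M)
include hs

/-- An abelian subgroup normalized by the core lies in it. -/
theorem le_core {A : Subgroup G} (hAM : A ≤ M) (hA : IsMulCommutative A)
    (hn : core p M ≤ Subgroup.normalizer (A : Set G)) : A ≤ core p M := by
  intro a ha
  haveI := Solv.pCore_normal (G := ↥M) p
  set Q := Cfsg.pCore p ↥M
  have h := hs.stable Q (Solv.pCore_isPGroup p) ⟨a, hAM ha⟩
    (quad_of_normalizes (fun y hy => hn ⟨y, hy, rfl⟩) hA ha)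
  set C := Subgroup.centralizer (Q : Set ↥M) with hC
  haveI := Solv.pCore_normal (G := ↥M ⧸ C) p
  have hP : IsPGroup p ((Cfsg.pCore p (↥M ⧸ C)).comap (QuotientGroup.mk' C)) :=
    IsPGroup.comap_of_ker_isPGroup (Solv.pCore_isPGroup p) _ (by
      rw [QuotientGroup.ker_mk']
      exact (Solv.pCore_isPGroup p).to_le hs.char)
  exact ⟨⟨a, hAM ha⟩, Solv.normal_le_pCore hP h, rfl⟩

/-- A minimal normal subgroup in the centre of the core. -/
theorem exists_min (hne : core p M ≠ ⊥) :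
    ∃ V : Subgroup G, V ≠ ⊥ ∧ V ≤ core p M ∧ M ≤ Subgroup.normalizer (V : Set G) ∧ IsMulCommutative V ∧
      ∀ a ∈ M, (∀ v ∈ V, (a * v * a⁻¹ * v⁻¹) * a = a * (a * v * a⁻¹ * v⁻¹)) → ∀ v ∈ V, a * v = v * a := by
  classical
  haveI := Solv.pCore_normal (G := ↥M) p
  set Q := Cfsg.pCore p ↥M
  set Zq := Q ⊓ Subgroup.centralizer (Q : Set ↥M) with hZq
  have hQne : Q ≠ ⊥ := fun h => hne (by rw [core, show Cfsg.pCore p ↥M = ⊥ from h, Subgroup.map_bot])
  have hZne : Zq ≠ ⊥ := by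
    haveI : Nontrivial Q := (Subgroup.nontrivial_iff_ne_bot Q).2 hQne
    haveI := (Solv.pCore_isPGroup (G := ↥M) p).center_nontrivial
    obtain ⟨z, hz⟩ := exists_ne (1 : Subgroup.center Q)
    intro h
    have hmem : ((z : Q) : ↥M) ∈ Zq := ⟨(z : Q).2, Subgroup.mem_centralizer_iff.2 fun q hq =>
      congrArg Subtype.val (Subgroup.mem_center_iff.1 z.2 ⟨q, hq⟩)⟩
    rw [h, Subgroup.mem_bot] at hmem
    exact hz (Subtype.ext (Subtype.ext hmem))
  haveI : Zq.Normal := by
    haveI := Subgroup.normal_centralizer (H := Q)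
    exact Subgroup.normal_inf_normal _ _
  haveI : Finite (Subgroup ↥M) := Finite.of_injective (fun H : Subgroup ↥M => (H : Set ↥M)) SetLike.coe_injective
  obtain ⟨V, ⟨hVn, hVne, hVZ⟩, hmin⟩ := Set.exists_min_image
    {V : Subgroup ↥M | V.Normal ∧ V ≠ ⊥ ∧ V ≤ Zq} (fun V : Subgroup ↥M => Nat.card V) (Set.toFinite _)
    ⟨Zq, inferInstance, hZne, le_rfl⟩
  haveI := hVn
  have hVp : IsPGroup p V := (Solv.pCore_isPGroup p).to_le (hVZ.trans inf_le_left)
  have hmin' : ∀ N : Subgroup ↥M, N.Normal → N ≤ V → N = ⊥ ∨ N = V := by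
    intro N hN hNV
    by_cases h : N = ⊥
    · exact Or.inl h
    · exact Or.inr (Subgroup.eq_of_le_of_card_ge hNV (hmin N ⟨hN, h, hNV.trans hVZ⟩))
  refine ⟨V.map M.subtype, fun h => hVne ((Subgroup.map_eq_bot_iff_of_injective _ M.subtype_injective).1 h),
    Subgroup.map_mono (hVZ.trans inf_le_left), ?_, ?_, ?_⟩
  · intro m hm
    refine Subgroup.mem_normalizer_fintype ?_
    rintro _ ⟨v, hv, rfl⟩
    exact ⟨⟨m, hm⟩ * v * ⟨m, hm⟩⁻¹, hVn.conj_mem v hv _, rfl⟩
  · refine ⟨⟨?_⟩⟩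
    rintro ⟨_, x, hx, rfl⟩ ⟨_, y, hy, rfl⟩
    exact Subtype.ext (congrArg (fun z : ↥M => (z : G))
      (Subgroup.mem_centralizer_iff.1 (hVZ hy).2 x (hVZ hx).1))
  · intro a ha hq
    have hquad : ⁅⁅V, Subgroup.zpowers (⟨a, ha⟩ : ↥M)⁆, Subgroup.zpowers (⟨a, ha⟩ : ↥M)⁆ = ⊥ := by
      have h1 : ⁅V, Subgroup.zpowers (⟨a, ha⟩ : ↥M)⁆ ≤ Subgroup.centralizer ({⟨a, ha⟩} : Set ↥M) ⊓ V := by
        have hstep : ∀ v ∈ V, ⁅(⟨a, ha⟩ : ↥M), v⁆ ∈ Subgroup.centralizer ({⟨a, ha⟩} : Set ↥M) ⊓ V := fun v hv =>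
          ⟨Subgroup.mem_centralizer_singleton_iff.2 (Subtype.ext (by
            simp only [commutatorElement_def, Subgroup.coe_mul, Subgroup.coe_inv]
            exact hq (v : G) ⟨v, hv, rfl⟩)), V.mul_mem (hVn.conj_mem v hv _) (V.inv_mem hv)⟩
        set Y := Subgroup.centralizer ({⟨a, ha⟩} : Set ↥M) ⊓ V with hY
        let T : Subgroup ↥M :=
          { carrier := {z | (∀ y ∈ Y, z * y = y * z) ∧ ∀ v ∈ V, ⁅z, v⁆ ∈ Y}
            one_mem' := ⟨fun y _ => by simp, fun v _ => by simp [one_mem]⟩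
            mul_mem' := fun {z w} hz hw => ⟨fun y hy => by
                rw [mul_assoc, hw.1 y hy, ← mul_assoc, hz.1 y hy, mul_assoc], fun v hv => by
                have e : ⁅z * w, v⁆ = (z * ⁅w, v⁆ * z⁻¹) * ⁅z, v⁆ := by
                  simp only [commutatorElement_def]; group
                rw [e, hz.1 _ (hw.2 v hv), mul_inv_cancel_right]
                exact mul_mem (hw.2 v hv) (hz.2 v hv)⟩
            inv_mem' := fun {z} hz => ⟨fun y hy => (Commute.inv_left (hz.1 y hy)).eq, fun v hv => by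
                have e : ⁅z⁻¹, v⁆ = z⁻¹ * ⁅z, v⁆⁻¹ * z := by
                  simp only [commutatorElement_def]; group
                rw [e, mul_assoc, ← hz.1 _ (inv_mem (hz.2 v hv)), inv_mul_cancel_left]
                exact inv_mem (hz.2 v hv)⟩ }
        have haT : Subgroup.zpowers (⟨a, ha⟩ : ↥M) ≤ T := Subgroup.zpowers_le.2
          ⟨fun y hy => (Subgroup.mem_centralizer_singleton_iff.1 hy.1).symm, hstep⟩
        rw [Subgroup.commutator_comm, Subgroup.commutator_le]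
        exact fun z hz v hv => (haT hz).2 v hv
      rw [eq_bot_iff, Subgroup.commutator_le]
      intro b hb z hz
      obtain ⟨j, rfl⟩ := Subgroup.mem_zpowers_iff.1 hz
      rw [Subgroup.mem_bot, commutatorElement_eq_one_iff_mul_comm]
      exact (Commute.zpow_right (Subgroup.mem_centralizer_singleton_iff.1 (h1 hb).1) j).eq
    have h := hs.stable V hVp ⟨a, ha⟩ hquad
    set C := Subgroup.centralizer (V : Set ↥M) with hC
    haveI := Solv.pCore_normal (G := ↥M ⧸ C) p
    have hle : (Cfsg.pCore p (↥M ⧸ C)).comap (QuotientGroup.mk' C) ≤ C :=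
      Cfsg.Agent.Fusion.centralizes_of_minimal hVp hVne hmin' fun d hd => by
        obtain ⟨k, hk⟩ := Solv.pCore_isPGroup (G := ↥M ⧸ C) p ⟨_, hd⟩
        exact ⟨k, (QuotientGroup.eq_one_iff _).1 (by simpa using congrArg Subtype.val hk)⟩
    rintro _ ⟨v, hv, rfl⟩
    exact congrArg Subtype.val (Subgroup.mem_centralizer_iff.1 (hle h) v hv).symm

variable {K : Subgroup G} (hk : Side p K)
include hk

/-- The centre of the abelian subgroups of largest order of the other core contains a minimal normal subgroup. -/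
theorem exists_in_big (hne : core p M ≠ ⊥) (hQM : core p K ≤ M) (hQK : core p M ≤ K) :
    ∃ V : Subgroup G, V ≠ ⊥ ∧ V ≤ core p K ∧ V ≤ core p M ∧ M ≤ Subgroup.normalizer (V : Set G) ∧
      ∀ A, IsBig (core p K) A → V ≤ A := by
  classical
  obtain ⟨V, hV1, hVQ, hVn, hVc, hVquad⟩ := exists_min hs hne
  have hVK : V ≤ core p K := le_core hk (hVQ.trans hQK) hVc (hQM.trans hVn)
  refine ⟨V, hV1, hVK, hVQ, hVn, ?_⟩
  have hcen : ∀ A, IsBig (core p K) A → A ≤ Subgroup.centralizer (V : Set G) → V ≤ A := by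
    intro A ⟨hAQ, hAc, hAmax⟩ hAV
    have hjoin : IsMulCommutative ↥(A ⊔ V : Subgroup G) := by
      have h1 : A ⊔ V ≤ Subgroup.centralizer (A : Set G) := sup_le
        (fun a ha => Subgroup.mem_centralizer_iff.2 fun b hb => comm_of hAc hb ha)
        (Subgroup.le_centralizer_iff.1 hAV)
      have h2 : A ⊔ V ≤ Subgroup.centralizer (V : Set G) := sup_le hAV
        (fun a ha => Subgroup.mem_centralizer_iff.2 fun b hb => comm_of hVc hb ha)
      refine ⟨⟨fun x y => Subtype.ext (Subgroup.mem_centralizer_singleton_iff.1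
        ((show A ⊔ V ≤ Subgroup.centralizer ({(y : G)} : Set G) from sup_le ?_ ?_) x.2))⟩⟩
      · exact fun a ha => Subgroup.mem_centralizer_singleton_iff.2 (Subgroup.mem_centralizer_iff.1 (h1 y.2) a ha)
      · exact fun a ha => Subgroup.mem_centralizer_singleton_iff.2 (Subgroup.mem_centralizer_iff.1 (h2 y.2) a ha)
    have heq : A = A ⊔ V := Subgroup.eq_of_le_of_card_ge le_sup_left (hAmax _ (sup_le hAQ hVK) hjoin)
    exact heq ▸ le_sup_right
  intro A hA
  refine hcen A hA ?_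
  haveI : Finite (Subgroup G) := Finite.of_injective (fun H : Subgroup G => (H : Set G)) SetLike.coe_injective
  by_contra hnc
  obtain ⟨B, ⟨hB, hBnc⟩, hBmax⟩ := Set.exists_max_image
    {B : Subgroup G | IsBig (core p K) B ∧ ¬ B ≤ Subgroup.centralizer (V : Set G)}
    (fun B : Subgroup G => Nat.card ↥(B ⊓ V : Subgroup G)) (Set.toFinite _) ⟨A, hA, hnc⟩
  obtain ⟨hBQ, hBc, hBbig⟩ := hB
  by_cases hn : V ≤ Subgroup.normalizer (B : Set G)
  · refine hBnc fun b hb => Subgroup.mem_centralizer_iff.2 fun v hv => ?_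
    refine (hVquad b (hQM (hBQ hb)) (fun w hw => ?_) v hv).symm
    refine comm_of hBc ?_ hb
    rw [show b * w * b⁻¹ * w⁻¹ = b * (w * b⁻¹ * w⁻¹) by group]
    exact mul_mem hb ((Subgroup.mem_normalizer_iff.1 (hn hw) b⁻¹).1 (inv_mem hb))
  · obtain ⟨R, hRQ, hRcard, hRc, hlt, hltV, -⟩ := Cfsg.Agent.Fusion.exists_replacement_abelian
      (core_isPGroup K) hVK (hQM.trans hVn) (fun x hx y hy => comm_of hVc hx hy) hBQ hBc hn
    have hRbig : IsBig (core p K) R := ⟨hRQ, hRc, fun C hC hCc => hRcard ▸ hBbig C hC hCc⟩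
    have hRV : R ≤ Subgroup.centralizer (V : Set G) := by
      by_contra h
      have := hBmax R ⟨hRbig, h⟩
      exact absurd (Subgroup.eq_of_le_of_card_ge hlt.le this) hlt.ne
    exact hltV.ne (inf_eq_right.2 (hcen R hRbig hRV))

/-- The abelian subgroups of largest order of the larger core lie in the other one. -/
theorem big_le (hne : core p M ≠ ⊥) (hQM : core p K ≤ M) (hQK : core p M ≤ K)
    (hprim : ∀ V : Subgroup G, V ≠ ⊥ → V ≤ M ⊓ K → M ≤ Subgroup.normalizer (V : Set G) →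
      K ⊓ Subgroup.normalizer (V : Set G) = M ⊓ K)
    {d : ℕ} (hd : ∀ A, IsBig (core p M) A → Nat.card A = d)
    (hd' : ∀ A, IsBig (core p K) A → Nat.card A ≤ d) :
    ∀ A, IsBig (core p M) A → A ≤ core p K ∧ IsBig (core p K) A := by
  classical
  haveI : Finite (Subgroup G) := Finite.of_injective (fun H : Subgroup G => (H : Set G)) SetLike.coe_injective
  obtain ⟨V, hV1, hVK, hVM, hVn, hVbig⟩ := exists_in_big hs hk hne hQM hQK
  set W : Subgroup G := sInf {A | IsBig (core p K) A} with hW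
  obtain ⟨A₀, hA₀⟩ := exists_big (core p K)
  have hWA : ∀ A, IsBig (core p K) A → W ≤ A := fun A hA => sInf_le hA
  have hWc : IsMulCommutative W :=
    ⟨⟨fun x y => Subtype.ext (comm_of hA₀.2.1 (hWA A₀ hA₀ x.2) (hWA A₀ hA₀ y.2))⟩⟩
  have hWK : W ≤ core p K := (hWA A₀ hA₀).trans hA₀.1
  have hWn : K ≤ Subgroup.normalizer (W : Set G) := by
    intro g hg
    refine Subgroup.mem_normalizer_fintype fun w hw => ?_
    refine Subgroup.mem_sInf.2 fun A hA => ?_
    have hAg : IsBig (core p K) (A.map (MulAut.conj g⁻¹).toMonoidHom) := by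
      refine ⟨?_, ?_, fun B hB hBc => ?_⟩
      · rintro _ ⟨a, ha, rfl⟩
        exact (Subgroup.mem_normalizer_iff.1 (core_normalized K (inv_mem hg)) a).1 (hA.1 ha)
      · exact Cfsg.Agent.Fusion.isMulCommutative_map _ hA.2.1
      · rw [Subgroup.card_map_of_injective (MulAut.conj g⁻¹).injective]
        exact hA.2.2 B hB hBc
    obtain ⟨a, ha, hae⟩ := (Subgroup.mem_sInf.1 hw) _ hAg
    rw [← hae]
    show g * (g⁻¹ * a * g⁻¹⁻¹) * g⁻¹ ∈ A
    rwa [show g * (g⁻¹ * a * g⁻¹⁻¹) * g⁻¹ = a by group]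
  have hWM : W ≤ core p M := le_core hs (hWK.trans hQM) hWc (hQK.trans hWn)
  have hVW : V ≤ W := le_sInf hVbig
  set W' := W.subgroupOf K with hW'
  haveI : W'.Normal := (Subgroup.normal_subgroupOf_iff_le_normalizer (hWK.trans (core_le K))).2 hWn
  set C := Subgroup.centralizer (W' : Set ↥K) with hC
  haveI hCn : C.Normal := Subgroup.normal_centralizer
  have hCM : ∀ c ∈ C, (c : G) ∈ M := by
    intro c hc
    have h1 := hprim V hV1 (le_inf (hVM.trans (core_le M)) (hVK.trans (core_le K))) hVn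
    have h2 : (c : G) ∈ K ⊓ Subgroup.normalizer (V : Set G) := by
      refine ⟨c.2, Subgroup.mem_normalizer_fintype fun v hv => ?_⟩
      have h3 := congrArg Subtype.val (Subgroup.mem_centralizer_iff.1 hc
        ⟨v, core_le K (hVK hv)⟩ (show v ∈ W from hVW hv))
      simp only [Subgroup.coe_mul] at h3
      rw [← h3, mul_inv_cancel_right]
      exact hv
    rw [h1] at h2
    exact h2.1
  haveI hQn := Solv.pCore_normal (G := ↥K) p
  set Q := Cfsg.pCore p ↥K with hQdef
  -- quadratic elements lie in the core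
  have hquad : ∀ A : Subgroup G, A ≤ core p M → IsMulCommutative A →
      W ≤ Subgroup.normalizer (A : Set G) → A ≤ core p K := by
    intro A hAM hAc hn a ha
    set a' : ↥K := ⟨a, hQK (hAM ha)⟩ with ha'
    have h := hk.stable W' ((core_isPGroup K).to_le hWK |>.of_equiv
      (Subgroup.subgroupOfEquivOfLe (hWK.trans (core_le K))).symm) a'
      (quad_of_normalizes (fun y hy => hn hy) hAc ha)
    haveI := Solv.pCore_normal (G := ↥K ⧸ C) p
    set P := (Cfsg.pCore p (↥K ⧸ C)).comap (QuotientGroup.mk' C) with hP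
    let R : Subgroup ↥K :=
      { carrier := {x | x ∈ P ∧ ∀ c ∈ C, c * x * c⁻¹ * x⁻¹ ∈ Q}
        one_mem' := ⟨one_mem _, fun c _ => by simp [one_mem]⟩
        mul_mem' := fun {x y} hx hy => ⟨mul_mem hx.1 hy.1, fun c hc => by
          rw [show c * (x * y) * c⁻¹ * (x * y)⁻¹ =
            (c * x * c⁻¹ * x⁻¹) * (x * (c * y * c⁻¹ * y⁻¹) * x⁻¹) by group]
          exact mul_mem (hx.2 c hc) (hQn.conj_mem _ (hy.2 c hc) x)⟩
        inv_mem' := fun {x} hx => ⟨inv_mem hx.1, fun c hc => by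
          rw [show c * x⁻¹ * c⁻¹ * x⁻¹⁻¹ = x⁻¹ * (c * x * c⁻¹ * x⁻¹)⁻¹ * x⁻¹⁻¹ by group]
          exact hQn.conj_mem _ (inv_mem (hx.2 c hc)) x⁻¹⟩ }
    haveI hRn : R.Normal := ⟨fun x hx g => ⟨Subgroup.Normal.conj_mem inferInstance x hx.1 g, fun c hc => by
      have h1 := hx.2 _ (hCn.conj_mem c hc g⁻¹)
      rw [show c * (g * x * g⁻¹) * c⁻¹ * (g * x * g⁻¹)⁻¹ =
        g * ((g⁻¹ * c * g⁻¹⁻¹) * x * (g⁻¹ * c * g⁻¹⁻¹)⁻¹ * x⁻¹) * g⁻¹ by group]
      exact hQn.conj_mem _ h1 g⟩⟩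
    have haR : a' ∈ R := by
      refine ⟨h, fun c hc => ?_⟩
      -- the meeting of the core with the centralizer is a normal p-subgroup of it
      have hcn : ∀ c' : ↥K, (c' : G) ∈ M → ∀ x : ↥K, (x : G) ∈ core p M → ((c' * x * c'⁻¹ : ↥K) : G) ∈ core p M :=
        fun c' hc' x hx => (Subgroup.mem_normalizer_iff.1 (core_normalized M hc') (x : G)).1 hx
      set S : Subgroup ↥C := ((core p M).subgroupOf K).subgroupOf C with hS
      haveI : S.Normal := ⟨fun x hx c' => hcn c' (hCM c' c'.2) x hx⟩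
      have hSp : IsPGroup p S :=
        (((core_isPGroup M).comap_of_injective _ K.subtype_injective)).comap_of_injective _ C.subtype_injective
      have hSQ : ∀ s : ↥C, s ∈ S → (s : ↥K) ∈ Q := by
        intro s hs'
        haveI : (Cfsg.pCore p ↥C).Characteristic := Cfsg.Agent.Char.TISocle.pCore_characteristic
        have hn' : ((Cfsg.pCore p ↥C).map C.subtype).Normal := inferInstance
        exact Solv.normal_le_pCore ((Solv.pCore_isPGroup (G := ↥C) p).map C.subtype)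
          ⟨s, Solv.normal_le_pCore hSp hs', rfl⟩
      refine hSQ ⟨c * a' * c⁻¹ * a'⁻¹, ?_⟩ ?_
      · rw [show c * a' * c⁻¹ * a'⁻¹ = c * (a' * c⁻¹ * a'⁻¹) by group]
        exact mul_mem hc (hCn.conj_mem _ (inv_mem hc) a')
      · exact mul_mem (hcn c (hCM c hc) a' (hAM ha)) (inv_mem (hAM ha))
    -- such elements form a nilpotent normal subgroup modulo the core
    set π := QuotientGroup.mk' Q with hπ
    set R' := R.map π with hR'
    haveI : R'.Normal := hRn.map π (QuotientGroup.mk'_surjective Q)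
    set Cr := (C.map π).subgroupOf R' with hCr
    have hcentral : Cr ≤ Subgroup.center R' := by
      rintro ⟨x, r, hr, rfl⟩ ⟨c, hc, he⟩
      refine Subgroup.mem_center_iff.2 ?_
      rintro ⟨_, s, hs', rfl⟩
      refine Subtype.ext ?_
      show π s * π r = π r * π s
      change π c = π r at he
      rw [← he]
      have h1 : π (c * s * c⁻¹ * s⁻¹) = 1 := (QuotientGroup.eq_one_iff _).2 (hs'.2 c hc)
      rw [map_mul, map_mul, map_mul, map_inv, map_inv, mul_inv_eq_one, mul_inv_eq_iff_eq_mul] at h1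
      exact h1.symm
    haveI : Cr.Normal := Subgroup.Normal.subgroupOf (hCn.map π (QuotientGroup.mk'_surjective Q)) R'
    haveI : Group.IsNilpotent R' := by
      have hq : IsPGroup p (R' ⧸ Cr) := by
        intro x
        induction x using QuotientGroup.induction_on with
        | H x =>
          obtain ⟨_, r, hr, rfl⟩ := x
          obtain ⟨j, hj⟩ := Solv.pCore_isPGroup (G := ↥K ⧸ C) p ⟨_, hr.1⟩
          refine ⟨j, (QuotientGroup.eq_one_iff _).2 (Subgroup.mem_subgroupOf.2 ⟨r ^ p ^ j, ?_, ?_⟩)⟩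
          · exact (QuotientGroup.eq_one_iff _).1 (by simpa using congrArg Subtype.val hj)
          · simp [map_pow]
      haveI := hq.isNilpotent
      exact Subgroup.isNilpotent_of_ker_le_center (QuotientGroup.mk' Cr) (by rwa [QuotientGroup.ker_mk'])
    obtain ⟨k, hk'⟩ : ∃ k, a' ^ p ^ k = 1 := by
      obtain ⟨k, hk'⟩ := core_isPGroup M ⟨a, hAM ha⟩
      exact ⟨k, Subtype.ext (by simpa using congrArg Subtype.val hk')⟩
    have hPi : π a' = 1 := by
      obtain ⟨S⟩ : Nonempty (Sylow p R') := inferInstance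
      have htf := ((Group.isNilpotent_of_finite_tfae (G := R')).out 0 3).1 ‹Group.IsNilpotent R'›
      haveI hSn : (S : Subgroup R').Normal := htf p hp S
      haveI : ((S : Subgroup R')).Characteristic := Sylow.characteristic_of_normal S hSn
      have hN : ((S : Subgroup R').map R'.subtype).Normal := inferInstance
      have hmem : π a' ∈ (S : Subgroup R').map R'.subtype := by
        have hcyc : IsPGroup p (Subgroup.zpowers (⟨π a', a', haR, rfl⟩ : R')) := by
          obtain ⟨n, -, hn⟩ := (Nat.dvd_prime_pow hp.out).1 (orderOf_dvd_of_pow_eq_one (n := p ^ k)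
            (show (⟨π a', a', haR, rfl⟩ : R') ^ p ^ k = 1 from Subtype.ext (by simp [← map_pow, hk'])))
          exact IsPGroup.of_card (n := n) ((Nat.card_zpowers _).trans hn)
        obtain ⟨T, hT⟩ := hcyc.exists_le_sylow
        haveI := Sylow.unique_of_normal S hSn
        rw [Subsingleton.elim T S] at hT
        exact ⟨⟨π a', a', haR, rfl⟩, hT (Subgroup.mem_zpowers _), rfl⟩
      set N := ((S : Subgroup R').map R'.subtype).comap π
      have hNp : IsPGroup p N := IsPGroup.comap_of_ker_isPGroup (S.2.map _) π (by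
        rw [QuotientGroup.ker_mk']; exact Solv.pCore_isPGroup p)
      exact (QuotientGroup.eq_one_iff _).2 (Solv.normal_le_pCore hNp (show a' ∈ N from hmem))
    exact ⟨a', (QuotientGroup.eq_one_iff _).1 hPi, rfl⟩
  intro A hA
  by_cases hAK : A ≤ core p K
  · exact ⟨hAK, hAK, hA.2.1, fun B hB hBc => by
      obtain ⟨A₁, hA₁⟩ := exists_big (core p K)
      exact ((hA₁.2.2 B hB hBc).trans (hd' A₁ hA₁)).trans (hd A hA).ge⟩
  exfalso
  obtain ⟨B, ⟨hB, hBn⟩, hBmax⟩ := Set.exists_max_image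
    {B : Subgroup G | IsBig (core p M) B ∧ ¬ B ≤ core p K}
    (fun B : Subgroup G => Nat.card ↥(B ⊓ W : Subgroup G)) (Set.toFinite _) ⟨A, hA, hAK⟩
  by_cases hn : W ≤ Subgroup.normalizer (B : Set G)
  · exact hBn (hquad B hB.1 hB.2.1 hn)
  · obtain ⟨R, hRQ, hRcard, hRc, hlt, hltW, -⟩ := Cfsg.Agent.Fusion.exists_replacement_abelian
      (core_isPGroup M) hWM (hQK.trans hWn) (fun x hx y hy => comm_of hWc hx hy) hB.1 hB.2.1 hn
    have hRbig : IsBig (core p M) R := ⟨hRQ, hRc, fun C hC hCc => hRcard ▸ hB.2.2 C hC hCc⟩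
    have hRK : R ≤ core p K := by
      by_contra h
      exact absurd (Subgroup.eq_of_le_of_card_ge hlt.le (hBmax R ⟨hRbig, h⟩)) hlt.ne
    have hRbigK : IsBig (core p K) R := ⟨hRK, hRc, fun C hC hCc => by
      obtain ⟨A₁, hA₁⟩ := exists_big (core p K)
      exact ((hA₁.2.2 C hC hCc).trans (hd' A₁ hA₁)).trans (hd R hRbig).ge⟩
    exact hltW.ne (inf_eq_right.2 (hWA R hRbigK))

omit hs hk in
/-- The join of the abelian subgroups of largest order of the core is normalized by the group. -/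
theorem big_sup_normalized (M : Subgroup G) :
    M ≤ Subgroup.normalizer ((sSup {A | IsBig (core p M) A} : Subgroup G) : Set G) := by
  intro g hg
  refine Subgroup.mem_normalizer_fintype fun x hx => ?_
  refine (sSup_le (a := (sSup {A | IsBig (core p M) A} : Subgroup G).comap (MulAut.conj g).toMonoidHom)
    fun A hA => Subgroup.map_le_iff_le_comap.1 (le_sSup ?_)) hx
  refine ⟨?_, Cfsg.Agent.Fusion.isMulCommutative_map _ hA.2.1, fun B hB hBc => ?_⟩
  · rintro _ ⟨a, ha, rfl⟩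
    exact (Subgroup.mem_normalizer_iff.1 (core_normalized M hg) a).1 (hA.1 ha)
  · rw [Subgroup.card_map_of_injective (MulAut.conj g).injective]
    exact hA.2.2 B hB hBc

omit hk in
/-- A nonidentity member of a pair has nonidentity core. -/
theorem core_ne_bot (h : M ≠ ⊥) : core p M ≠ ⊥ := by
  intro h1
  refine h ((Subgroup.eq_bot_iff_forall M).2 fun m hm => ?_)
  have h2 : Cfsg.pCore p ↥M = ⊥ := (Subgroup.map_eq_bot_iff_of_injective _ M.subtype_injective).1 h1
  have h3 := hs.char (show (⟨m, hm⟩ : ↥M) ∈ Subgroup.centralizer (Cfsg.pCore p ↥M : Set ↥M) by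
    rw [h2, Subgroup.mem_centralizer_iff]
    intro q hq
    rw [Subgroup.coe_bot, Set.mem_singleton_iff] at hq
    rw [hq, one_mul, mul_one])
  rw [h2, Subgroup.mem_bot] at h3
  exact congrArg Subtype.val h3

omit hs hk in
theorem sylow_two_le_pCore [Fact (Nat.Prime 2)]
    (hc : Subgroup.centralizer (Cfsg.pCore 2 ↥M : Set ↥M) ≤ Cfsg.pCore 2 ↥M)
    (hab : ∀ S : Sylow 2 ↥M, IsMulCommutative (S : Subgroup ↥M)) (R : Subgroup G) (hR : R ≤ M)
    (hRp : IsPGroup 2 R) : R ≤ core 2 M := by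
  have hS : ∀ S : Sylow 2 ↥M, (S : Subgroup ↥M) ≤ Cfsg.pCore 2 ↥M := by
    intro S
    have hQS : Cfsg.pCore 2 ↥M ≤ (S : Subgroup ↥M) := by
      obtain ⟨T, hT⟩ := (Solv.pCore_isPGroup (G := ↥M) 2).exists_le_sylow
      obtain ⟨g, rfl⟩ := MulAction.exists_smul_eq (↥M) T S
      intro q hq
      rw [Sylow.coe_subgroup_smul, Subgroup.mem_pointwise_smul_iff_inv_smul_mem]
      refine hT ?_
      rw [← map_inv, MulAut.smul_def, MulAut.conj_apply]
      exact (Solv.pCore_normal 2).conj_mem q hq g⁻¹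
    exact fun s hs => hc (Subgroup.mem_centralizer_iff.2 fun q hq => comm_of (hab S) (hQS hq) hs)
  obtain ⟨S, hRS⟩ := (hRp.comap_of_injective M.subtype M.subtype_injective).exists_le_sylow
  exact fun r hr => ⟨⟨r, hR hr⟩, hS S (hRS (show (M.subtype ⟨r, hR hr⟩ : G) ∈ R from hr)), rfl⟩

omit hs hk in
/-- A primitive pair of characteristic `p` has a nonabelian Sylow 2-subgroup. -/
theorem false_of_abelian (M₁ M₂ : Subgroup G) (hne : M₁ ≠ M₂)
    (hP : ∀ A : Subgroup G, A ≠ ⊥ → A ≤ M₁ ⊓ M₂ →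
      (M₁ ≤ Subgroup.normalizer (A : Set G) → M₂ ⊓ Subgroup.normalizer (A : Set G) = M₁ ⊓ M₂) ∧
      (M₂ ≤ Subgroup.normalizer (A : Set G) → M₁ ⊓ Subgroup.normalizer (A : Set G) = M₁ ⊓ M₂))
    (hc₁ : Subgroup.centralizer (Cfsg.pCore p ↥M₁ : Set ↥M₁) ≤ Cfsg.pCore p ↥M₁)
    (hc₂ : Subgroup.centralizer (Cfsg.pCore p ↥M₂ : Set ↥M₂) ≤ Cfsg.pCore p ↥M₂)
    (hO : core p M₁ ⊔ core p M₂ ≤ M₁ ⊓ M₂)
    (ha₁ : ∀ S : Sylow 2 ↥M₁, IsMulCommutative (S : Subgroup ↥M₁))
    (ha₂ : ∀ S : Sylow 2 ↥M₂, IsMulCommutative (S : Subgroup ↥M₂)) : False := by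
  have hQ₁ : core p M₁ ≤ M₂ := (le_sup_left.trans hO).trans inf_le_right
  have hQ₂ : core p M₂ ≤ M₁ := (le_sup_right.trans hO).trans inf_le_left
  have hstop : ∀ A : Subgroup G, A ≠ ⊥ → A ≤ M₁ ⊓ M₂ → M₁ ≤ Subgroup.normalizer (A : Set G) →
      M₂ ≤ Subgroup.normalizer (A : Set G) → False := by
    intro A h1 h2 h3 h4
    have e1 := (hP A h1 h2).1 h3
    have e2 := (hP A h1 h2).2 h4
    rw [inf_eq_left.2 h4] at e1
    rw [inf_eq_left.2 h3] at e2
    exact hne (e2.trans e1.symm)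
  by_cases hp2 : p = 2
  · subst hp2
    have e : core 2 M₁ = core 2 M₂ := le_antisymm (sylow_two_le_pCore hc₂ ha₂ _ hQ₁ (core_isPGroup M₁))
      (sylow_two_le_pCore hc₁ ha₁ _ hQ₂ (core_isPGroup M₂))
    by_cases h : core 2 M₁ = ⊥
    · have hb : ∀ M : Subgroup G, Subgroup.centralizer (Cfsg.pCore 2 ↥M : Set ↥M) ≤ Cfsg.pCore 2 ↥M →
          core 2 M = ⊥ → M = ⊥ := by
        intro M hc h1
        have h2 : Cfsg.pCore 2 ↥M = ⊥ := (Subgroup.map_eq_bot_iff_of_injective _ M.subtype_injective).1 h1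
        refine (Subgroup.eq_bot_iff_forall M).2 fun m hm => ?_
        have h3 := hc (show (⟨m, hm⟩ : ↥M) ∈ Subgroup.centralizer (Cfsg.pCore 2 ↥M : Set ↥M) by
          rw [h2, Subgroup.mem_centralizer_iff]
          intro q hq
          rw [Subgroup.coe_bot, Set.mem_singleton_iff] at hq
          rw [hq, one_mul, mul_one])
        rw [h2, Subgroup.mem_bot] at h3
        exact congrArg Subtype.val h3
      exact hne ((hb _ hc₁ h).trans (hb _ hc₂ (e ▸ h)).symm)
    · exact hstop _ h (le_sup_left.trans hO) (core_normalized M₁) (e ▸ core_normalized M₂)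
  have hside : ∀ M : Subgroup G, Subgroup.centralizer (Cfsg.pCore p ↥M : Set ↥M) ≤ Cfsg.pCore p ↥M →
      (∀ S : Sylow 2 ↥M, IsMulCommutative (S : Subgroup ↥M)) → Side p M := fun M hc ha =>
    ⟨hc, fun Y _ hY => Cfsg.Agent.Fusion.mk_mem_pCore_of_not_involves hp2 (fun h => by
      obtain ⟨S⟩ : Nonempty (Sylow 2 ↥M) := inferInstance
      exact Cfsg.Agent.Fusion.not_isMulCommutative_of_involves hp2 h S (ha S)) hY⟩
  have hs₁ := hside M₁ hc₁ ha₁
  have hs₂ := hside M₂ hc₂ ha₂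
  by_cases h1 : M₁ = ⊥
  · refine core_ne_bot hs₂ (fun h => hne (h1.trans h.symm)) (eq_bot_iff.2 (hQ₂.trans h1.le))
  by_cases h2 : M₂ = ⊥
  · refine core_ne_bot hs₁ h1 (eq_bot_iff.2 (hQ₁.trans h2.le))
  have hn₁ := core_ne_bot hs₁ h1
  have hn₂ := core_ne_bot hs₂ h2
  obtain ⟨A₁, hA₁⟩ := exists_big (core p M₁)
  obtain ⟨A₂, hA₂⟩ := exists_big (core p M₂)
  have heq : ∀ (Q A B : Subgroup G), IsBig Q A → IsBig Q B → Nat.card A = Nat.card B :=
    fun Q A B hA hB => le_antisymm (hB.2.2 A hA.1 hA.2.1) (hA.2.2 B hB.1 hB.2.1)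
  have key₁ : Nat.card A₂ ≤ Nat.card A₁ → ∀ A, IsBig (core p M₁) A → IsBig (core p M₂) A := fun h A hA =>
    (big_le hs₁ hs₂ hn₁ hQ₂ hQ₁ (fun V hV hV' hn => (hP V hV hV').1 hn)
      (fun B hB => heq _ B A₁ hB hA₁) (fun B hB => (heq _ B A₂ hB hA₂).trans_le h) A hA).2
  have key₂ : Nat.card A₁ ≤ Nat.card A₂ → ∀ A, IsBig (core p M₂) A → IsBig (core p M₁) A := fun h A hA =>
    (big_le hs₂ hs₁ hn₂ hQ₁ hQ₂
      (fun V hV hV' hn => ((hP V hV (hV'.trans_eq (inf_comm _ _))).2 hn).trans (inf_comm _ _))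
      (fun B hB => heq _ B A₂ hB hA₂) (fun B hB => (heq _ B A₁ hB hA₁).trans_le h) A hA).2
  have hd : Nat.card A₁ = Nat.card A₂ := by
    rcases le_total (Nat.card A₂) (Nat.card A₁) with h | h
    · exact heq _ _ _ (key₁ h A₁ hA₁) hA₂
    · exact heq _ _ _ hA₁ (key₂ h A₂ hA₂)
  have hset : {A | IsBig (core p M₁) A} = {A | IsBig (core p M₂) A} :=
    Set.ext fun A => ⟨key₁ hd.ge A, key₂ hd.le A⟩
  set J : Subgroup G := sSup {A | IsBig (core p M₁) A} with hJ
  have hJQ : J ≤ core p M₁ := sSup_le fun A hA => hA.1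
  refine hstop J (fun h => hn₁ ((Subgroup.eq_bot_iff_forall _).2 fun x hx => ?_))
    (hJQ.trans (le_sup_left.trans hO)) (big_sup_normalized M₁) ?_
  · have hA : A₁ = ⊥ := eq_bot_iff.2 ((le_sSup (a := A₁) hA₁).trans h.le)
    have h3 := hA₁.2.2 (Subgroup.zpowers x) ((Subgroup.zpowers_le).2 hx) inferInstance
    rw [hA, Subgroup.card_bot, Nat.card_zpowers] at h3
    exact orderOf_eq_one_iff.1 (le_antisymm h3 (orderOf_pos x))
  · rw [hJ, hset]
    exact big_sup_normalized M₂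

end Cfsg.Agent.Solv.PrimitivePair
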