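import Mathlib
import Cfsg.Agent.Lib.Solv.NilpotentCover
import Cfsg.Agent.Lib.Solv.Engel

/-!
Nilpotent subgroups of `GL_n` over a finite field containing unipotent elements, and covers of
subgroups of `PGL_n`.
-/

set_option autoImplicit false
set_option linter.style.haveILetI false

namespace Cfsg.Agent.Solv.ProjCover

open Matrix
open scoped MatrixGroups

variable {F : Type*} [Field F] {n : ℕ}

/-- the canonical map to the projective group -/
abbrev proj (F : Type*) [Field F] (n : ℕ) :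
    GL (Fin n) F →* GL (Fin n) F ⧸ Subgroup.center (GL (Fin n) F) :=
  QuotientGroup.mk' _

/-- the elements leaving invariant the line of a nonzero vector -/
def lineStab (e : Fin n → F) (he : e ≠ 0) : Subgroup (GL (Fin n) F) where
  carrier := {g | ∃ c : F, (g : Matrix (Fin n) (Fin n) F) *ᵥ e = c • e}
  one_mem' := ⟨1, by simp⟩
  mul_mem' := by
    rintro a b ⟨c, hc⟩ ⟨d, hd⟩
    refine ⟨d * c, ?_⟩
    rw [Units.val_mul, ← mulVec_mulVec, hd, mulVec_smul, hc, smul_smul]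
  inv_mem' := by
    rintro a ⟨c, hc⟩
    have h1 := congrArg (((a⁻¹ : GL (Fin n) F) : Matrix (Fin n) (Fin n) F) *ᵥ ·) hc
    simp only [mulVec_mulVec, Units.inv_mul, one_mulVec, mulVec_smul] at h1
    have hc0 : c ≠ 0 := by rintro rfl; rw [zero_smul] at h1; exact he h1
    refine ⟨c⁻¹, ?_⟩
    conv_rhs => rw [h1, smul_smul, inv_mul_cancel₀ hc0, one_smul]

theorem center_apply {z : GL (Fin n) F} (hz : z ∈ Subgroup.center (GL (Fin n) F)) :
    ∃ c : F, (z : Matrix (Fin n) (Fin n) F) = c • (1 : Matrix (Fin n) (Fin n) F) := by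
  obtain ⟨c, hc⟩ := Matrix.GeneralLinearGroup.mem_center_iff_val_mem_range_scalar.1 hz
  exact ⟨c, by rw [← hc, Matrix.scalar_apply, smul_one_eq_diagonal]⟩

theorem center_le_lineStab (e : Fin n → F) (he : e ≠ 0) :
    Subgroup.center (GL (Fin n) F) ≤ lineStab e he := fun z hz => by
  obtain ⟨c, hc⟩ := center_apply hz
  exact ⟨c, by rw [hc, smul_mulVec, one_mulVec]⟩

theorem proj_mem_iff {H : Subgroup (GL (Fin n) F)} (hH : Subgroup.center (GL (Fin n) F) ≤ H)
    (g : GL (Fin n) F) : proj F n g ∈ H.map (proj F n) ↔ g ∈ H := by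
  rw [← Subgroup.mem_comap, Subgroup.comap_map_eq_self (by rwa [QuotientGroup.ker_mk'])]

section Sub

variable {G : Subgroup (GL (Fin n) F ⧸ Subgroup.center (GL (Fin n) F))}

/-- the preimage in `GL` -/
def lift (A : Subgroup ↥G) : Subgroup (GL (Fin n) F) := (A.map G.subtype).comap (proj F n)

theorem mem_lift {A : Subgroup ↥G} {g : GL (Fin n) F} :
    g ∈ lift A ↔ ∃ a ∈ A, (a : GL (Fin n) F ⧸ Subgroup.center (GL (Fin n) F)) = proj F n g := Iff.rfl

theorem exists_lift {A : Subgroup ↥G} {a : ↥G} (ha : a ∈ A) :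
    ∃ g ∈ lift A, proj F n g = (a : GL (Fin n) F ⧸ Subgroup.center (GL (Fin n) F)) := by
  obtain ⟨g, hg⟩ := QuotientGroup.mk'_surjective (Subgroup.center (GL (Fin n) F)) a.1
  exact ⟨g, ⟨a, ha, hg.symm⟩, hg⟩

theorem lift_nilpotent {A : Subgroup ↥G} (hA : Group.IsNilpotent A) : Group.IsNilpotent ↥(lift A) := by
  haveI := hA
  haveI : Group.IsNilpotent ↥(A.map G.subtype) :=
    Group.nilpotent_of_mulEquiv (A.equivMapOfInjective _ G.subtype_injective)
  refine Subgroup.isNilpotent_of_ker_le_center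
    ((proj F n).subgroupComap (A.map G.subtype)) (fun g hg => ?_)
  rw [Subgroup.mem_center_iff]
  have h1 : proj F n (g : GL (Fin n) F) = 1 := congrArg Subtype.val (MonoidHom.mem_ker.1 hg)
  have h2 : (g : GL (Fin n) F) ∈ Subgroup.center (GL (Fin n) F) := (QuotientGroup.eq_one_iff _).1 h1
  exact fun x => Subtype.ext (Subgroup.mem_center_iff.1 h2 x)

/-- the subgroup of `G` given by a subgroup of `GL` -/
def down (H : Subgroup (GL (Fin n) F)) : Subgroup ↥G := (H.map (proj F n)).subgroupOf G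

theorem le_down {A : Subgroup ↥G} {H : Subgroup (GL (Fin n) F)} (h : lift A ≤ H) : A ≤ down H := by
  intro a ha
  obtain ⟨g, hg, e⟩ := exists_lift ha
  exact Subgroup.mem_subgroupOf.2 ⟨g, h hg, e⟩

theorem down_ne_top {H : Subgroup (GL (Fin n) F)} (hH : Subgroup.center (GL (Fin n) F) ≤ H)
    {s : GL (Fin n) F} (hs : proj F n s ∈ G) (hsH : s ∉ H) : down (G := G) H ≠ ⊤ := fun e =>
  hsH ((proj_mem_iff hH s).1 (Subgroup.mem_subgroupOf.1 (e.ge (Subgroup.mem_top ⟨_, hs⟩))))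

end Sub

section Unipotent

variable [Fintype F] {p : ℕ} [Fact p.Prime] [CharP F p]

/-- the inverse transpose -/
noncomputable def invT (F : Type*) [Field F] (n : ℕ) : GL (Fin n) F →* GL (Fin n) F where
  toFun g := ⟨((g⁻¹ : GL (Fin n) F) : Matrix (Fin n) (Fin n) F)ᵀ, (g : Matrix (Fin n) (Fin n) F)ᵀ,
    by rw [← transpose_mul, Units.mul_inv, transpose_one], by rw [← transpose_mul, Units.inv_mul, transpose_one]⟩
  map_one' := Units.ext (by simp)
  map_mul' a b := Units.ext (by simp [transpose_mul])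

theorem exists_fixed {P : Subgroup (GL (Fin n) F)} (hP : IsPGroup p P) (hn : 0 < n) :
    ∃ v : Fin n → F, v ≠ 0 ∧ ∀ g ∈ P, (g : Matrix (Fin n) (Fin n) F) *ᵥ v = v := by
  letI : MulAction P (Fin n → F) :=
    { smul := fun g v => (g.1 : Matrix (Fin n) (Fin n) F) *ᵥ v
      one_smul := fun v => one_mulVec v
      mul_smul := fun a b v => (mulVec_mulVec v _ _).symm }
  have h0 : (0 : Fin n → F) ∈ MulAction.fixedPoints P (Fin n → F) := fun g => mulVec_zero _
  have hd : p ∣ Nat.card (Fin n → F) := by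
    rw [Nat.card_fun, Nat.card_eq_fintype_card (α := F), Nat.card_fin]
    obtain ⟨k, -, hk⟩ := FiniteField.card F p
    rw [hk]
    exact dvd_pow (dvd_pow_self p k.pos.ne') hn.ne'
  obtain ⟨v, hv, hne⟩ := hP.exists_fixed_point_of_prime_dvd_card_of_fixed_point _ hd h0
  exact ⟨v, Ne.symm hne, fun g hg => hv ⟨g, hg⟩⟩

theorem exists_fixed_row {P : Subgroup (GL (Fin n) F)} (hP : IsPGroup p P) (hn : 0 < n) :
    ∃ r : Fin n → F, r ≠ 0 ∧ ∀ g ∈ P, r ᵥ* (g : Matrix (Fin n) (Fin n) F) = r := by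
  obtain ⟨r, hr, hfix⟩ := exists_fixed (hP.map (invT F n)) hn
  refine ⟨r, hr, fun g hg => ?_⟩
  have h1 := hfix _ (Subgroup.mem_map_of_mem _ (inv_mem hg))
  change (((g⁻¹)⁻¹ : GL (Fin n) F) : Matrix (Fin n) (Fin n) F)ᵀ *ᵥ r = r at h1
  rwa [inv_inv, mulVec_transpose] at h1

/-- in a nilpotent group the elements of `p`-power order lie in one `p`-subgroup -/
theorem exists_pPart (N : Subgroup (GL (Fin n) F)) [Group.IsNilpotent N] :
    ∃ P : Subgroup (GL (Fin n) F), IsPGroup p P ∧ P ≤ N ∧ ∀ y ∈ N, (∃ k, orderOf y = p ^ k) → y ∈ P := by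
  obtain ⟨S⟩ : Nonempty (Sylow p N) := inferInstance
  haveI : (S : Subgroup N).Normal :=
    ((Group.isNilpotent_of_finite_tfae (G := N)).out 0 3 (a := Group.IsNilpotent N)
      (b := ∀ (q : ℕ) (_ : Fact q.Prime) (R : Sylow q N), (R : Subgroup N).Normal)).1 ‹_› p ‹_› S
  refine ⟨(S : Subgroup N).map N.subtype, S.isPGroup'.map _, Subgroup.map_subtype_le _, fun y hy ⟨k, hk⟩ => ?_⟩
  exact ⟨⟨y, hy⟩, EPPO.pElem_mem S.not_dvd_index (k := k) (by rw [← hk, ← Subgroup.orderOf_coe]), rfl⟩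

theorem stab_of_nilpotent (N : Subgroup (GL (Fin n) F)) [Group.IsNilpotent N] {u : GL (Fin n) F}
    (hu : u ∈ N) (hup : ∃ k, orderOf u = p ^ k) {e : Fin n → F} (he : e ≠ 0) (hn : 0 < n)
    (hfix : ∀ v, (u : Matrix (Fin n) (Fin n) F) *ᵥ v = v → ∃ c : F, v = c • e) :
    N ≤ lineStab e he := by
  obtain ⟨P, hP, hPN, hPmem⟩ := exists_pPart (p := p) N
  obtain ⟨v, hv0, hv⟩ := exists_fixed hP hn
  obtain ⟨c, rfl⟩ := hfix v (hv u (hPmem u hu hup))
  have hc : c ≠ 0 := fun e => hv0 (by rw [e, zero_smul])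
  intro g hg
  have hconj : g⁻¹ * u * g ∈ P := by
    obtain ⟨k, hk⟩ := hup
    refine hPmem _ (mul_mem (mul_mem (inv_mem hg) hu) hg) ⟨k, ?_⟩
    have e := MulEquiv.orderOf_eq (MulAut.conj g⁻¹) u
    rw [MulAut.conj_apply, inv_inv] at e
    rw [e, hk]
  have h1 := congrArg ((g : Matrix (Fin n) (Fin n) F) *ᵥ ·) (hv _ hconj)
  simp only [mulVec_mulVec, ← Units.val_mul] at h1
  rw [show g * (g⁻¹ * u * g) = u * g by group, Units.val_mul, ← mulVec_mulVec, mulVec_smul] at h1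
  obtain ⟨d, hd⟩ := hfix _ h1
  refine ⟨c⁻¹ * d, ?_⟩
  rw [← smul_smul, ← hd, smul_smul, inv_mul_cancel₀ hc, one_smul]

theorem orderOf_of_sub_one_nilpotent {u : GL (Fin n) F} {k : ℕ}
    (h : ((u : Matrix (Fin n) (Fin n) F) - 1) ^ k = 0) : ∃ j, orderOf u = p ^ j := by
  haveI : CharP (Matrix (Fin n) (Fin n) F) p ∨ n = 0 := by
    rcases Nat.eq_zero_or_pos n with e | e
    · exact Or.inr e
    · haveI : Nonempty (Fin n) := ⟨⟨0, e⟩⟩
      exact Or.inl inferInstance
  rcases this with hc | rfl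
  · haveI := hc
    have hpk : k ≤ p ^ k := (Nat.lt_pow_self (Fact.out : p.Prime).one_lt).le
    have h1 := pow_eq_zero_of_le hpk h
    rw [sub_pow_char_pow_of_commute _ _ (Commute.one_right _), one_pow, sub_eq_zero] at h1
    have h2 : u ^ p ^ k = 1 := Units.ext (by rw [Units.val_pow_eq_pow_val, h1, Units.val_one])
    obtain ⟨j, -, hj⟩ := (Nat.dvd_prime_pow Fact.out).1 (orderOf_dvd_of_pow_eq_one h2)
    exact ⟨j, hj⟩
  · exact ⟨0, by rw [pow_zero, orderOf_eq_one_iff]; exact Units.ext (Subsingleton.elim _ _)⟩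

end Unipotent

end Cfsg.Agent.Solv.ProjCover
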