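import Mathlib
import Cfsg.Agent.Lib.Solv.ProjCover

/-!
No nilpotent minimal cover for `PSL_n ≤ G ≤ PGL_n`, `n ≥ 3`.
-/

set_option autoImplicit false
set_option linter.style.haveILetI false

namespace Cfsg.Agent.Solv.ProjCover

open Matrix Cfsg.Agent.Solv
open scoped MatrixGroups

variable {F : Type*} [Field F] {n : ℕ}

/-- the superdiagonal matrix -/
def shift (F : Type*) [Field F] (n : ℕ) : Matrix (Fin n) (Fin n) F :=
  fun i j => if (i : ℕ) + 1 = j then 1 else 0

theorem shift_pow_apply (k : ℕ) (i j : Fin n) : (shift F n ^ k) i j ≠ 0 → (i : ℕ) + k = j := by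
  induction k generalizing j with
  | zero =>
    intro h
    rw [pow_zero, one_apply] at h
    split_ifs at h with e
    · rw [e, add_zero]
    · exact absurd rfl h
  | succ k ih =>
    intro h
    rw [pow_succ, mul_apply] at h
    obtain ⟨m, -, hm⟩ := Finset.exists_ne_zero_of_sum_ne_zero h
    obtain ⟨h1, h2⟩ := mul_ne_zero_iff.1 hm
    have h3 := ih m h1
    unfold shift at h2
    split_ifs at h2 with e
    · omega
    · exact absurd rfl h2

theorem shift_pow_eq_zero : shift F n ^ n = 0 := by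
  ext i j
  by_contra h
  have := shift_pow_apply n i j h
  omega

theorem regUni_det : ((1 : Matrix (Fin n) (Fin n) F) + shift F n).det = 1 := by
  rw [det_of_isUpperTriangular]
  · exact Finset.prod_eq_one fun i _ => by simp [shift]
  · intro i j hij
    have : (j : ℕ) < i := hij
    have h1 : i ≠ j := fun e => by rw [e] at this; omega
    simp [shift, h1]
    omega

/-- the regular unipotent element -/
def regUni (F : Type*) [Field F] (n : ℕ) : SpecialLinearGroup (Fin n) F := ⟨_, regUni_det⟩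

theorem regUni_mulVec {v : Fin n → F} (h : ((1 : Matrix (Fin n) (Fin n) F) + shift F n) *ᵥ v = v)
    (j : Fin n) (hj : (j : ℕ) ≠ 0) : v j = 0 := by
  rw [add_mulVec, one_mulVec, add_eq_left] at h
  have h1 := congrFun h ⟨(j : ℕ) - 1, by omega⟩
  rw [mulVec, dotProduct, Finset.sum_eq_single j, Pi.zero_apply] at h1
  · simpa [shift, show ((j : ℕ) - 1) + 1 = j by omega] using h1
  · intro b _ hb
    have : (b : ℕ) ≠ (j : ℕ) := fun e => hb (Fin.ext e)
    simp [shift]
    omega
  · simp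

theorem regUni_vecMul {r : Fin n → F} (h : r ᵥ* ((1 : Matrix (Fin n) (Fin n) F) + shift F n) = r)
    (i : Fin n) (hi : (i : ℕ) + 1 < n) : r i = 0 := by
  rw [vecMul_add, vecMul_one, add_eq_left] at h
  have h1 := congrFun h ⟨(i : ℕ) + 1, hi⟩
  rw [vecMul, dotProduct, Finset.sum_eq_single i, Pi.zero_apply] at h1
  · simpa [shift] using h1
  · intro b _ hb
    have : (b : ℕ) ≠ (i : ℕ) := fun e => hb (Fin.ext e)
    simp [shift]
    omega
  · simp

theorem no_cover_big [Fintype F] (hn : 3 ≤ n)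
    {G : Subgroup (GL (Fin n) F ⧸ Subgroup.center (GL (Fin n) F))}
    (hG : ∀ s : SpecialLinearGroup (Fin n) F, proj F n (SpecialLinearGroup.toGL s) ∈ G)
    {𝓐 : Finset (Subgroup ↥G)} (h : NilpotentCover.IsCover 𝓐) : False := by
  classical
  obtain ⟨p, hchar⟩ := CharP.exists F
  haveI := hchar
  haveI : Fact p.Prime := ⟨CharP.char_is_prime F p⟩
  have hn0 : 0 < n := by omega
  let i0 : Fin n := ⟨0, hn0⟩
  let i1 : Fin n := ⟨1, by omega⟩
  let l : Fin n := ⟨n - 1, by omega⟩
  have hl1 : l ≠ i1 := fun e => by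
    have := congrArg Fin.val e
    simp only [l, i1] at this
    omega
  have h10 : i1 ≠ i0 := fun e => by simpa [i0, i1] using congrArg Fin.val e
  set e0 : Fin n → F := Pi.single i0 1 with he0
  have he : e0 ≠ 0 := fun e => by simpa [he0] using congrFun e i0
  let w : SpecialLinearGroup (Fin n) F := ⟨transvection l i1 1, det_transvection_of_ne l i1 hl1 1⟩
  set u : SpecialLinearGroup (Fin n) F := regUni F n with hu
  set U : GL (Fin n) F := SpecialLinearGroup.toGL u with hU
  set W : GL (Fin n) F := SpecialLinearGroup.toGL w with hW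
  have hUv : (U : Matrix (Fin n) (Fin n) F) = 1 + shift F n := rfl
  have hWv : (W : Matrix (Fin n) (Fin n) F) = transvection l i1 1 := rfl
  have hUp : ∃ k, orderOf U = p ^ k := orderOf_of_sub_one_nilpotent (k := n) (by
    rw [hUv, add_sub_cancel_left]; exact shift_pow_eq_zero)
  have hUp' : ∃ k, orderOf (W * U * W⁻¹) = p ^ k := by
    obtain ⟨k, hk⟩ := hUp
    exact ⟨k, by rw [show W * U * W⁻¹ = MulAut.conj W U from rfl, MulEquiv.orderOf_eq, hk]⟩
  have hfixU : ∀ v, (U : Matrix (Fin n) (Fin n) F) *ᵥ v = v → ∃ c : F, v = c • e0 := by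
    intro v hv
    refine ⟨v i0, funext fun j => ?_⟩
    by_cases hj : j = i0
    · subst hj; simp [he0]
    · rw [regUni_mulVec (v := v) (by rwa [← hUv]) j (fun e => hj (Fin.ext e))]
      simp [he0, hj]
  have hWe : (W : Matrix (Fin n) (Fin n) F) *ᵥ e0 = e0 := by
    rw [hWv, transvection, add_mulVec, one_mulVec, single_mulVec, add_eq_left]
    simp [he0, h10]
  have hfixU' : ∀ v, ((W * U * W⁻¹ : GL (Fin n) F) : Matrix (Fin n) (Fin n) F) *ᵥ v = v →
      ∃ c : F, v = c • e0 := by
    intro v hv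
    have h1 := congrArg (((W⁻¹ : GL (Fin n) F) : Matrix (Fin n) (Fin n) F) *ᵥ ·) hv
    simp only [mulVec_mulVec, ← Units.val_mul] at h1
    rw [show W⁻¹ * (W * U * W⁻¹) = U * W⁻¹ by group, Units.val_mul, ← mulVec_mulVec] at h1
    obtain ⟨c, hc⟩ := hfixU _ h1
    refine ⟨c, ?_⟩
    have h2 := congrArg ((W : Matrix (Fin n) (Fin n) F) *ᵥ ·) hc
    simpa only [mulVec_mulVec, Units.mul_inv, one_mulVec, mulVec_smul, hWe] using h2
  have hUG : proj F n U ∈ G := hG u
  have hUG' : proj F n (W * U * W⁻¹) ∈ G := by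
    rw [map_mul, map_mul, map_inv]
    exact mul_mem (mul_mem (hG w) (hG u)) (inv_mem (hG w))
  obtain ⟨A, hA, hUA⟩ := h.1.2 ⟨_, hUG⟩
  obtain ⟨B, hB, hUB⟩ := h.1.2 ⟨_, hUG'⟩
  haveI := lift_nilpotent (h.2.2 A hA)
  haveI := lift_nilpotent (h.2.2 B hB)
  have hA' := stab_of_nilpotent (lift A) (u := U) ⟨_, hUA, rfl⟩ hUp he hn0 hfixU
  have hB' := stab_of_nilpotent (lift B) (u := W * U * W⁻¹) ⟨_, hUB, rfl⟩ hUp' he hn0 hfixU'
  let t : SpecialLinearGroup (Fin n) F := ⟨transvection i1 i0 1, det_transvection_of_ne i1 i0 h10 1⟩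
  have ht : SpecialLinearGroup.toGL t ∉ lineStab e0 he := by
    rintro ⟨c, hc⟩
    have h1 := congrFun hc i1
    change (transvection i1 i0 (1 : F) *ᵥ e0) i1 = _ at h1
    rw [transvection, add_mulVec, one_mulVec, single_mulVec] at h1
    simp [he0, h10] at h1
  have hAB := NilpotentCover.merge h (down_ne_top (center_le_lineStab e0 he) (hG t) ht) hA hB
    (le_down hA') (le_down hB')
  subst hAB
  obtain ⟨P, hP, -, hPmem⟩ := exists_pPart (p := p) (lift A)
  obtain ⟨r, hr0, hr⟩ := exists_fixed_row hP hn0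
  have hr1 := hr U (hPmem U ⟨_, hUA, rfl⟩ hUp)
  have hr2 := hr _ (hPmem (W * U * W⁻¹) ⟨_, hUB, rfl⟩ hUp')
  have hr3 := congrArg (· ᵥ* (W : Matrix (Fin n) (Fin n) F)) hr2
  simp only [vecMul_vecMul, ← Units.val_mul] at hr3
  rw [show W * U * W⁻¹ * W = W * U by group, Units.val_mul, ← vecMul_vecMul] at hr3
  have h0 : ∀ i : Fin n, (i : ℕ) + 1 < n → r i = 0 := fun i hi => regUni_vecMul (r := r) (by rwa [← hUv]) i hi
  have h1 := regUni_vecMul (r := r ᵥ* (W : Matrix (Fin n) (Fin n) F)) (by rwa [← hUv]) i1 (show 1 + 1 < n by omega)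
  rw [hWv, transvection, vecMul_add, vecMul_one, Pi.add_apply, h0 i1 (show 1 + 1 < n by omega), zero_add] at h1
  have h2 : r l = 0 := by
    rwa [vecMul, dotProduct, Finset.sum_eq_single l (fun b _ hb => by simp [Ne.symm hb]) (by simp),
      single_apply_same, mul_one] at h1
  refine hr0 (funext fun i => ?_)
  by_cases hi : (i : ℕ) + 1 < n
  · exact h0 i hi
  · have : i = l := Fin.ext (show (i : ℕ) = n - 1 by omega)
    subst this
    exact h2

end Cfsg.Agent.Solv.ProjCover
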