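import Mathlib
import Cfsg.Agent.Lib.Solv.ProjCover

/-!
No nilpotent minimal cover for `PSL_2 ≤ G ≤ PGL_2`, `q ≥ 4`.
-/

set_option autoImplicit false
set_option linter.style.haveILetI false

namespace Cfsg.Agent.Solv.ProjCover

open Matrix Cfsg.Agent.Solv
open scoped MatrixGroups

variable {F : Type*} [Field F]

abbrev M2 (F : Type*) := Matrix (Fin 2) (Fin 2) F

theorem cayley (M : M2 F) (v : Fin 2 → F) : M *ᵥ (M *ᵥ v) = M.trace • (M *ᵥ v) - M.det • v := by
  ext i
  fin_cases i <;> simp [mulVec, dotProduct, trace_fin_two, det_fin_two] <;> ring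

theorem eig_unique {b : M2 F} {c : F} (hb : b.det = 1) (hc : c ^ 2 ≠ 1) {v x : Fin 2 → F}
    (hv : v ≠ 0) (hbv : b *ᵥ v = c • v) (hbx : b *ᵥ x = c • x) : ∃ d : F, x = d • v := by
  have e0 := congrFun hbv 0
  have e1 := congrFun hbv 1
  have f0 := congrFun hbx 0
  have f1 := congrFun hbx 1
  simp [mulVec, dotProduct] at e0 e1 f0 f1
  have hD : v 0 * x 1 = v 1 * x 0 := by
    by_contra hne
    have hD' : v 0 * x 1 - v 1 * x 0 ≠ 0 := sub_ne_zero.2 hne
    have a1 : (b 0 0 - c) * (v 0 * x 1 - v 1 * x 0) = 0 := by linear_combination x 1 * e0 - v 1 * f0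
    have a2 : b 1 0 * (v 0 * x 1 - v 1 * x 0) = 0 := by linear_combination x 1 * e1 - v 1 * f1
    have a3 : (b 1 1 - c) * (v 0 * x 1 - v 1 * x 0) = 0 := by linear_combination v 0 * f1 - x 0 * e1
    have b1 := (mul_eq_zero.1 a1).resolve_right hD'
    have b2 := (mul_eq_zero.1 a2).resolve_right hD'
    have b3 := (mul_eq_zero.1 a3).resolve_right hD'
    rw [det_fin_two, sub_eq_zero.1 b1, b2, sub_eq_zero.1 b3, mul_zero, sub_zero, ← pow_two] at hb
    exact hc hb
  by_cases h0 : v 0 = 0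
  · have h1 : v 1 ≠ 0 := fun e => hv (funext fun i => by fin_cases i; exacts [h0, e])
    rw [h0, zero_mul] at hD
    have hx : x 0 = 0 := (mul_eq_zero.1 hD.symm).resolve_left h1
    refine ⟨x 1 / v 1, funext fun i => ?_⟩
    fin_cases i <;> simp [h0, hx, h1]
  · refine ⟨x 0 / v 0, funext fun i => ?_⟩
    fin_cases i <;> simp only [Fin.zero_eta, Fin.mk_one, Pi.smul_apply, smul_eq_mul] <;> field_simp
    linear_combination hD

/-- two determinant one matrices commuting up to a scalar, one split semisimple: a common line -/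
theorem eig_of_comm {a b : M2 F} (ha : a.det = 1) (hb : b.det = 1) {v : Fin 2 → F} (hv : v ≠ 0) {c l : F}
    (hbv : b *ᵥ v = c • v) (hc : c ^ 2 ≠ 1) (hab : a * b = l • (b * a)) :
    ∃ w : Fin 2 → F, w ≠ 0 ∧ ∃ d : F, a *ᵥ w = d • w := by
  have hl : l * l = 1 := by
    have := congrArg Matrix.det hab
    rw [det_mul, det_smul, det_mul, ha, hb, Fintype.card_fin] at this
    linear_combination -this
  have hbav : b *ᵥ (a *ᵥ v) = (l * c) • (a *ᵥ v) := by
    have h1 := congrArg (· *ᵥ v) hab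
    simp only [← mulVec_mulVec, smul_mulVec, hbv, mulVec_smul] at h1
    rw [← smul_smul, h1, smul_smul, hl, one_smul]
  rcases mul_self_eq_one_iff.1 hl with rfl | rfl
  · rw [one_mul] at hbav
    obtain ⟨d, hd⟩ := eig_unique hb hc hv hbv hbav
    exact ⟨v, hv, d, hd⟩
  by_cases h2 : (2 : F) = 0
  · have : (-1 : F) = 1 := by linear_combination -h2
    rw [this, one_mul] at hbav
    obtain ⟨d, hd⟩ := eig_unique hb hc hv hbv hbav
    exact ⟨v, hv, d, hd⟩
  have hav : a *ᵥ v ≠ 0 := fun e => hv (by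
    have h1 := cayley a v
    rw [e, mulVec_zero, smul_zero, ha, one_smul, zero_sub] at h1
    exact neg_eq_zero.1 h1.symm)
  have ev : c ^ 2 - b.trace * c + 1 = 0 := by
    have h1 := cayley b v
    rw [hbv, mulVec_smul, hbv, hb, one_smul, smul_smul, smul_smul, eq_sub_iff_add_eq] at h1
    have h2 : (c * c - b.trace * c + 1) • v = 0 := by
      rw [add_smul, sub_smul, one_smul, sub_add_eq_add_sub, h1, sub_self]
    have h3 := (smul_eq_zero.1 h2).resolve_right hv
    linear_combination h3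
  have ev' : c ^ 2 + b.trace * c + 1 = 0 := by
    have h1 := cayley b (a *ᵥ v)
    rw [hbav, mulVec_smul, hbav, hb, one_smul, smul_smul, smul_smul, eq_sub_iff_add_eq] at h1
    have h2 : (-1 * c * (-1 * c) - b.trace * (-1 * c) + 1) • (a *ᵥ v) = 0 := by
      rw [add_smul, sub_smul, one_smul, sub_add_eq_add_sub, h1, sub_self]
    have h3 := (smul_eq_zero.1 h2).resolve_right hav
    linear_combination h3
  have hc0 : c ≠ 0 := fun e => by rw [e] at ev; simp at ev
  have htb : b.trace = 0 := by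
    have : 2 * (b.trace * c) = 0 := by linear_combination ev' - ev
    exact (mul_eq_zero.1 ((mul_eq_zero.1 this).resolve_left h2)).resolve_right hc0
  have hc2 : c * c = -1 := by rw [htb] at ev; linear_combination ev
  have hta : a.trace = 0 := by
    have h1 := cayley a v
    rw [ha, one_smul] at h1
    have h3 := congrArg (· *ᵥ (a *ᵥ v)) hab
    simp only [← mulVec_mulVec, smul_mulVec] at h3
    rw [hbav, mulVec_smul, h1, mulVec_sub, mulVec_smul, hbav, hbv] at h3
    have h4 : (2 * c * a.trace) • (a *ᵥ v) = 0 := by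
      ext i
      have h5 := congrFun h3 i
      simp only [Pi.smul_apply, Pi.sub_apply, smul_eq_mul, Pi.zero_apply] at h5 ⊢
      linear_combination -h5
    exact (mul_eq_zero.1 ((smul_eq_zero.1 h4).resolve_right hav)).resolve_left (mul_ne_zero h2 hc0)
  by_cases hw : a *ᵥ v + c • v = 0
  · exact ⟨v, hv, -c, by rw [neg_smul]; exact eq_neg_of_add_eq_zero_left hw⟩
  refine ⟨_, hw, c, ?_⟩
  rw [mulVec_add, mulVec_smul, cayley a v, hta, ha, smul_add, smul_smul, hc2]
  simp only [zero_smul, one_smul, zero_sub, neg_smul]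
  abel

/-- the unipotent element `(1 β; 0 1)` -/
def uni (β : F) : SpecialLinearGroup (Fin 2) F := ⟨!![1, β; 0, 1], by simp [det_fin_two]⟩

/-- an element moving the first line to the `t`-th one -/
def mover : Option F → SpecialLinearGroup (Fin 2) F
  | none => 1
  | some t => ⟨!![t, -1; 1, 0], by simp [det_fin_two]⟩

/-- representatives of the lines -/
def pt : Option F → Fin 2 → F
  | none => ![1, 0]
  | some t => ![t, 1]

theorem pt_ne_zero (t : Option F) : pt t ≠ (0 : Fin 2 → F) := by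
  cases t with
  | none => exact fun e => by simpa [pt] using congrFun e 0
  | some t => exact fun e => by simpa [pt] using congrFun e 1

theorem mover_pt (t : Option F) : (mover t : M2 F) *ᵥ pt none = pt t := by
  cases t <;> ext i <;> fin_cases i <;> simp [mover, pt, mulVec, dotProduct]

theorem pt_inj {s t : Option F} {k : F} (h : pt t = k • pt s) : s = t := by
  have h0 := congrFun h 0
  have h1 := congrFun h 1
  cases s <;> cases t <;> simp [pt] at h0 h1 ⊢ <;> subst_vars <;> simp_all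

theorem exists_pt {v : Fin 2 → F} (hv : v ≠ 0) : ∃ (t : Option F) (k : F), k ≠ 0 ∧ v = k • pt t := by
  by_cases h1 : v 1 = 0
  · refine ⟨none, v 0, fun e => hv (funext fun i => by fin_cases i; exacts [e, h1]), funext fun i => ?_⟩
    fin_cases i <;> simp [pt, h1]
  · refine ⟨some (v 0 / v 1), v 1, h1, funext fun i => ?_⟩
    fin_cases i <;> simp [pt, h1]
    field_simp

/-- the stabiliser of the `t`-th line -/
def ptStab (t : Option F) : Subgroup (GL (Fin 2) F) := lineStab (pt t) (pt_ne_zero t)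

theorem mem_ptStab_of_eig {g : GL (Fin 2) F} {v : Fin 2 → F} (hv : v ≠ 0) {d : F}
    (h : (g : M2 F) *ᵥ v = d • v) : ∃ t, g ∈ ptStab t := by
  obtain ⟨t, k, hk, rfl⟩ := exists_pt hv
  refine ⟨t, d, ?_⟩
  rw [mulVec_smul, smul_smul, mul_comm d, ← smul_smul] at h
  exact smul_right_injective _ hk h

theorem eq_of_mem_ptStab {s t : Option F}
    (h : SpecialLinearGroup.toGL (mover s) * SpecialLinearGroup.toGL (uni 1) *
      (SpecialLinearGroup.toGL (mover s))⁻¹ ∈ ptStab t) : s = t := by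
  obtain ⟨c, hc⟩ := h
  set m := SpecialLinearGroup.toGL (mover s) with hm
  obtain ⟨t', k, hk, hw⟩ := exists_pt (v := ((m⁻¹ : GL (Fin 2) F) : M2 F) *ᵥ pt t) (by
    intro e0
    have h1 := congrArg ((m : M2 F) *ᵥ ·) e0
    simp only [mulVec_mulVec, Units.mul_inv, one_mulVec, mulVec_zero] at h1
    exact pt_ne_zero t h1)
  have h1 := congrArg (((m⁻¹ : GL (Fin 2) F) : M2 F) *ᵥ ·) hc
  simp only [mulVec_mulVec, ← Units.val_mul, mulVec_smul] at h1
  rw [show m⁻¹ * (m * SpecialLinearGroup.toGL (uni 1) * m⁻¹) = SpecialLinearGroup.toGL (uni 1) * m⁻¹ by group,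
    Units.val_mul, ← mulVec_mulVec, hw, mulVec_smul, smul_smul, mul_comm c, ← smul_smul] at h1
  have h2 := smul_right_injective (Fin 2 → F) hk h1
  rw [show ((SpecialLinearGroup.toGL (uni (1 : F)) : GL (Fin 2) F) : M2 F) = !![1, 1; 0, 1] from rfl] at h2
  have ht' : t' = none := by
    cases t' with
    | none => rfl
    | some v =>
      have h3 := congrFun h2 0
      have h4 := congrFun h2 1
      simp [pt, mulVec, dotProduct] at h3 h4
      rw [← h4, one_mul] at h3
      exact absurd h3 (by simp)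
  subst ht'
  have h5 := congrArg ((m : M2 F) *ᵥ ·) hw
  simp only [mulVec_mulVec, Units.mul_inv, one_mulVec, mulVec_smul] at h5
  rw [show (m : M2 F) *ᵥ pt none = pt s from mover_pt s] at h5
  exact pt_inj h5

variable [Fintype F]

/-- members through a unipotent element -/
theorem uni_member (N : Subgroup (GL (Fin 2) F)) [Group.IsNilpotent N] (t : Option F) {β : F} (hβ : β ≠ 0)
    (hN : SpecialLinearGroup.toGL (mover t) * SpecialLinearGroup.toGL (uni β) * (SpecialLinearGroup.toGL (mover t))⁻¹ ∈ N)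
    {h : GL (Fin 2) F} (hh : h ∈ N) :
    h ∈ ptStab t ∧ ∃ c : F, (h : M2 F).det = c ^ 2 ∧ (h : M2 F).trace = 2 * c := by
  obtain ⟨p, hchar⟩ := CharP.exists F
  haveI := hchar
  haveI : Fact p.Prime := ⟨CharP.char_is_prime F p⟩
  set m := SpecialLinearGroup.toGL (mover t) with hm
  set U := SpecialLinearGroup.toGL (uni β) with hU
  have hUv : (U : M2 F) = !![1, β; 0, 1] := rfl
  let e := MulAut.conj m⁻¹
  set N' := N.map e.toMonoidHom with hN'
  haveI : Group.IsNilpotent N' := Group.nilpotent_of_mulEquiv (N.equivMapOfInjective _ e.injective)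
  have hUN : U ∈ N' := by
    refine ⟨_, hN, ?_⟩
    simp only [MulEquiv.coe_toMonoidHom, e, MulAut.conj_apply]
    group
  have hUp : ∃ k, orderOf U = p ^ k := orderOf_of_sub_one_nilpotent (k := 2) (by
    rw [hUv, pow_two]
    ext i j
    fin_cases i <;> fin_cases j <;> simp [mul_apply])
  have hfix : ∀ v, (U : M2 F) *ᵥ v = v → ∃ c : F, v = c • pt none := by
    intro v hv
    have h0 := congrFun hv 0
    rw [hUv] at h0
    simp [mulVec, dotProduct, hβ] at h0
    exact ⟨v 0, funext fun i => by fin_cases i <;> simp [pt, h0]⟩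
  have hst := stab_of_nilpotent N' hUN hUp (pt_ne_zero (none : Option F)) Nat.two_pos hfix
  set g := m⁻¹ * h * m with hg
  have hgN : g ∈ N' := ⟨h, hh, by simp [e, hg]⟩
  obtain ⟨c, hc⟩ := hst hgN
  have g10 : (g : M2 F) 1 0 = 0 := by
    have := congrFun hc 1
    simpa [pt, mulVec, dotProduct] using this
  -- the `p'`-part commutes with `U`
  obtain ⟨K, r, hr, hord⟩ := Nat.exists_eq_pow_mul_and_not_dvd (orderOf_pos g).ne' p (Fact.out : p.Prime).ne_one
  have hco : Commute U (g ^ p ^ K) := by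
    obtain ⟨k, hk⟩ := hUp
    have h1 := commute_of_coprime_nilpotent (G := N') (p := p) (k := k) (u := ⟨U, hUN⟩)
      (v := ⟨g ^ p ^ K, pow_mem hgN _⟩) (by rw [← hk, ← Subgroup.orderOf_coe])
      (by
        rw [← Subgroup.orderOf_coe]
        refine Nat.Coprime.coprime_dvd_left (orderOf_dvd_of_pow_eq_one ?_)
          (((Fact.out : p.Prime).coprime_iff_not_dvd.2 hr).symm)
        rw [← pow_mul, ← hord, pow_orderOf_eq_one])
    exact congrArg Subtype.val h1
  have hpow : ∀ j : ℕ, ((g : M2 F) ^ j) 1 0 = 0 ∧ ((g : M2 F) ^ j) 0 0 = (g : M2 F) 0 0 ^ j ∧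
      ((g : M2 F) ^ j) 1 1 = (g : M2 F) 1 1 ^ j := by
    intro j
    induction j with
    | zero => simp
    | succ j ih =>
      obtain ⟨a1, a2, a3⟩ := ih
      simp [pow_succ, mul_apply, a1, a2, a3, g10]
  have hcv := congrArg Units.val hco.eq
  rw [Units.val_mul, Units.val_mul, Units.val_pow_eq_pow_val, hUv] at hcv
  have h01 := congrFun (congrFun hcv 0) 1
  simp [mul_apply, hpow] at h01
  have hpK : (g : M2 F) 0 0 ^ p ^ K = (g : M2 F) 1 1 ^ p ^ K := by
    refine mul_left_cancel₀ hβ ?_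
    linear_combination -h01
  have heq : (g : M2 F) 0 0 = (g : M2 F) 1 1 := by
    refine sub_eq_zero.1 ((pow_eq_zero_iff (pow_ne_zero K (Fact.out : p.Prime).ne_zero)).1 ?_)
    rw [sub_pow_char_pow, hpK, sub_self]
  refine ⟨⟨c, ?_⟩, (g : M2 F) 0 0, ?_, ?_⟩
  · have h1 := congrArg ((m : M2 F) *ᵥ ·) hc
    simp only [mulVec_mulVec, ← Units.val_mul, mulVec_smul] at h1
    rw [hg, show m * (m⁻¹ * h * m) = h * m by group, Units.val_mul, ← mulVec_mulVec] at h1
    have e : (m : M2 F) *ᵥ pt none = pt t := mover_pt t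
    rwa [e] at h1
  · have h1 : (g : M2 F).det = (h : M2 F).det := by
      rw [hg, Units.val_mul, Units.val_mul, det_units_conj']
    rw [← h1, det_fin_two, g10, heq]
    ring
  · have h1 : (g : M2 F).trace = (h : M2 F).trace := by
      rw [hg, Units.val_mul, Units.val_mul, trace_units_conj']
    rw [← h1, trace_fin_two, heq]
    ring

theorem comm_lift {n : ℕ} {x y : GL (Fin n) F} (h : proj F n (x * y) = proj F n (y * x)) :
    ∃ l : F, (x : Matrix (Fin n) (Fin n) F) * y = l • ((y : Matrix (Fin n) (Fin n) F) * x) := by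
  obtain ⟨l, hl⟩ := center_apply (QuotientGroup.eq.1 h.symm : (y * x)⁻¹ * (x * y) ∈ _)
  refine ⟨l, ?_⟩
  rw [← Units.val_mul, ← Units.val_mul, show x * y = (y * x) * ((y * x)⁻¹ * (x * y)) by group, Units.val_mul, hl,
    mul_smul_comm, mul_one]

theorem no_cover_two (hq : 4 ≤ Fintype.card F)
    {G : Subgroup (GL (Fin 2) F ⧸ Subgroup.center (GL (Fin 2) F))}
    (hG : ∀ s : SpecialLinearGroup (Fin 2) F, proj F 2 (SpecialLinearGroup.toGL s) ∈ G)
    {𝓐 : Finset (Subgroup ↥G)} (h : NilpotentCover.IsCover 𝓐) : False := by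
  classical
  set gu : Option F → GL (Fin 2) F := fun t =>
    SpecialLinearGroup.toGL (mover t) * SpecialLinearGroup.toGL (uni 1) * (SpecialLinearGroup.toGL (mover t))⁻¹ with hgu
  have hguG : ∀ t, proj F 2 (gu t) ∈ G := fun t => by
    simp only [hgu, map_mul, map_inv]
    exact mul_mem (mul_mem (hG _) (hG _)) (inv_mem (hG _))
  choose f hf hfmem using fun t => h.1.2 (⟨_, hguG t⟩ : ↥G)
  have hfN : ∀ t, gu t ∈ lift (f t) := fun t => ⟨_, hfmem t, rfl⟩
  have hfacts : ∀ t, ∀ x ∈ lift (f t),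
      x ∈ ptStab t ∧ ∃ c : F, (x : M2 F).det = c ^ 2 ∧ (x : M2 F).trace = 2 * c := fun t x hx => by
    haveI := lift_nilpotent (h.2.2 _ (hf t))
    exact uni_member (lift (f t)) t one_ne_zero (hfN t) hx
  have hinj : Function.Injective f := by
    intro s t e
    exact eq_of_mem_ptStab (hfacts t (gu s) (e ▸ hfN s)).1
  -- all determinants are squares
  let Q : Subgroup (GL (Fin 2) F) := ((powMonoidHom 2 : Fˣ →* Fˣ).range).comap GeneralLinearGroup.det
  have hQ : ∀ x : GL (Fin 2) F, x ∈ Q ↔ ∃ c : F, (x : M2 F).det = c ^ 2 := by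
    intro x
    constructor
    · rintro ⟨c, hc⟩
      exact ⟨c, by simpa using (congrArg Units.val hc).symm⟩
    · rintro ⟨c, hc⟩
      have hc0 : c ≠ 0 := fun e => (GeneralLinearGroup.det x).ne_zero (by
        rw [GeneralLinearGroup.val_det_apply, hc, e]; simp)
      exact ⟨Units.mk0 c hc0, Units.ext (by simp [hc])⟩
  have hsq : ∀ x : GL (Fin 2) F, proj F 2 x ∈ G → ∃ c : F, (x : M2 F).det = c ^ 2 := by
    by_contra hne
    push Not at hne
    obtain ⟨x, hx, hxs⟩ := hne
    have hcQ : Subgroup.center (GL (Fin 2) F) ≤ Q := fun z hz => by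
      obtain ⟨c, hc⟩ := center_apply hz
      exact (hQ z).2 ⟨c, by rw [hc, det_smul, det_one, mul_one, Fintype.card_fin]⟩
    have hle : ∀ t, f t ≤ down Q := fun t => le_down fun y hy => by
      obtain ⟨-, c, hc, -⟩ := hfacts t y hy
      exact (hQ y).2 ⟨c, hc⟩
    have hxQ : x ∉ Q := fun e => by
      obtain ⟨c, hc⟩ := (hQ x).1 e
      exact hxs c hc
    exact absurd (hinj (NilpotentCover.merge h (down_ne_top hcQ hx hxQ) (hf none) (hf (some 0)) (hle none) (hle (some 0))))
      (Option.some_ne_none 0).symm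
  -- members inside the union of the stabilisers
  set M : Option F → Subgroup ↥G := fun t => down (ptStab t) with hM
  set S := 𝓐.filter (fun A => ∀ a ∈ A, ∃ t, a ∈ M t) with hS
  have hMt : ∀ t, M t ≠ ⊤ := by
    intro t
    obtain ⟨s, hst⟩ : ∃ s, s ≠ t := ⟨if t = none then some 0 else none, by
      cases t <;> simp⟩
    refine down_ne_top (center_le_lineStab _ (pt_ne_zero t)) (hguG s) fun hs => ?_
    exact hst (eq_of_mem_ptStab hs)
  have hScard : S.card ≤ Fintype.card (Option F) := by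
    have h1 := h.2.1 ((𝓐 \ S) ∪ Finset.univ.image M) ⟨fun A hA => by
        rcases Finset.mem_union.1 hA with hA | hA
        · exact h.1.1 A (Finset.mem_sdiff.1 hA).1
        · obtain ⟨t, -, rfl⟩ := Finset.mem_image.1 hA
          exact hMt t,
      fun g => by
        obtain ⟨A, hA, hg⟩ := h.1.2 g
        by_cases hAS : A ∈ S
        · obtain ⟨t, ht⟩ := (Finset.mem_filter.1 hAS).2 g hg
          exact ⟨M t, Finset.mem_union_right _ (Finset.mem_image_of_mem _ (Finset.mem_univ t)), ht⟩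
        · exact ⟨A, Finset.mem_union_left _ (Finset.mem_sdiff.2 ⟨hA, hAS⟩), hg⟩⟩
    have h2 := Finset.card_union_le (𝓐 \ S) (Finset.univ.image M)
    have h3 : (Finset.univ.image M).card ≤ Fintype.card (Option F) := Finset.card_image_le
    have h4 : (𝓐 \ S).card + S.card = 𝓐.card := Finset.card_sdiff_add_card_eq_card (Finset.filter_subset _ _)
    omega
  have hfS : ∀ t, f t ∈ S := fun t => Finset.mem_filter.2 ⟨hf t, fun a ha => by
    obtain ⟨x, hx, e⟩ := exists_lift ha
    exact ⟨t, Subgroup.mem_subgroupOf.2 ⟨x, (hfacts t x hx).1, e⟩⟩⟩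
  -- a torus element
  obtain ⟨a, ha0, ha1⟩ : ∃ a : F, a ≠ 0 ∧ a ^ 2 ≠ 1 := by
    have hlt : ({0, 1, -1} : Finset F).card < Fintype.card F :=
      lt_of_le_of_lt Finset.card_le_three (by omega)
    obtain ⟨a, -, ha⟩ := Finset.exists_mem_notMem_of_card_lt_card
      (s := ({0, 1, -1} : Finset F)) (t := Finset.univ) (by simpa using hlt)
    simp only [Finset.mem_insert, Finset.mem_singleton, not_or] at ha
    exact ⟨a, ha.1, fun e => by
      rcases (mul_self_eq_one_iff (a := a)).1 (by rw [← pow_two]; exact e) with e | e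
      exacts [ha.2.1 e, ha.2.2 e]⟩
  let y : SpecialLinearGroup (Fin 2) F := ⟨!![a, 0; 0, a⁻¹], by simp [det_fin_two, ha0]⟩
  set Y := SpecialLinearGroup.toGL y with hY
  have hYv : (Y : M2 F) = !![a, 0; 0, a⁻¹] := rfl
  have hYdet : (Y : M2 F).det = 1 := y.2
  have hYu : ∀ c : F, (Y : M2 F).det = c ^ 2 → (Y : M2 F).trace ≠ 2 * c := by
    intro c hc ht
    rw [hYdet] at hc
    rw [hYv, trace_fin_two] at ht
    simp at ht
    have h1 : (a - a⁻¹) ^ 2 = 0 := by
      have : a * a⁻¹ = 1 := mul_inv_cancel₀ ha0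
      linear_combination (a + a⁻¹ + 2 * c) * ht - 4 * hc - 4 * this
    have h2 : a = a⁻¹ := sub_eq_zero.1 ((pow_eq_zero_iff two_ne_zero).1 h1)
    exact ha1 (by rw [pow_two]; nth_rw 2 [h2]; exact mul_inv_cancel₀ ha0)
  have hYe : (Y : M2 F) *ᵥ pt none = a • pt none := by
    ext i; fin_cases i <;> simp [hYv, pt, mulVec, dotProduct]
  obtain ⟨A, hA, hYA⟩ := h.1.2 ⟨_, hG y⟩
  have hYN : Y ∈ lift A := ⟨_, hYA, rfl⟩
  have hAf : ∀ t, A ≠ f t := fun t e => by
    obtain ⟨-, c, hc, ht⟩ := hfacts t Y (e ▸ hYN)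
    exact hYu c hc ht
  have hAS : A ∈ S := by
    refine Finset.mem_filter.2 ⟨hA, fun b hb => ?_⟩
    have hne1 : (⟨_, hG y⟩ : ↥G) ≠ 1 := by
      intro e
      obtain ⟨c, hc⟩ := center_apply ((QuotientGroup.eq_one_iff Y).1 (congrArg Subtype.val e))
      refine hYu c ?_ ?_
      · rw [hc, det_smul, det_one, mul_one, Fintype.card_fin]
      · rw [hc, trace_smul, trace_one, Fintype.card_fin, smul_eq_mul]; push_cast; ring
    haveI := h.2.2 A hA
    haveI : Nontrivial A := ⟨⟨⟨_, hYA⟩, 1, fun e => hne1 (congrArg Subtype.val e)⟩⟩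
    obtain ⟨z, hz, hz1⟩ := (Subgroup.center A).bot_or_exists_ne_one.resolve_left (Group.IsNilpotent.center_ne_bot _)
    obtain ⟨Z, hZA, hZ⟩ := exists_lift z.2
    have hZc : ∀ {w : ↥G} {W : GL (Fin 2) F}, w ∈ A → proj F 2 W = (w : GL (Fin 2) F ⧸ Subgroup.center (GL (Fin 2) F)) →
        proj F 2 (W * Z) = proj F 2 (Z * W) := by
      intro w W hw e
      have h1 := congrArg (fun u : A => ((u : ↥G) : GL (Fin 2) F ⧸ Subgroup.center (GL (Fin 2) F)))
        (Subgroup.mem_center_iff.1 hz ⟨w, hw⟩)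
      rw [map_mul, map_mul, e, hZ]
      exact h1
    obtain ⟨cz, hcz⟩ := hsq Z (hZ ▸ (z : ↥G).2)
    have hcz0 : cz ≠ 0 := fun e => (GeneralLinearGroup.det Z).ne_zero (by
      rw [GeneralLinearGroup.val_det_apply, hcz, e]; simp)
    have hdetn : ∀ {X : GL (Fin 2) F} {c : F}, c ≠ 0 → (X : M2 F).det = c ^ 2 → (c⁻¹ • (X : M2 F)).det = 1 := by
      intro X c hc e
      rw [det_smul, e, Fintype.card_fin]; field_simp
    obtain ⟨l, hl⟩ := comm_lift (hZc hYA rfl)
    have hrel : (cz⁻¹ • (Z : M2 F)) * (Y : M2 F) = l⁻¹ • ((Y : M2 F) * (cz⁻¹ • (Z : M2 F))) := by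
      have hl0 : l ≠ 0 := fun e => by
        rw [e, zero_smul] at hl
        exact (Y * Z).isUnit.ne_zero hl
      rw [smul_mul_assoc, mul_smul_comm, hl, smul_smul, smul_smul, mul_right_comm, inv_mul_cancel₀ hl0, one_mul]
    obtain ⟨w, hw0, d, hd⟩ := eig_of_comm (hdetn hcz0 hcz) hYdet (pt_ne_zero none) hYe ha1 hrel
    have hd2 : d ^ 2 ≠ 1 := by
      intro hd2
      obtain ⟨t, k, hk, rfl⟩ := exists_pt hw0
      rw [mulVec_smul, smul_comm] at hd
      have hd' := smul_right_injective (Fin 2 → F) hk hd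
      set m := SpecialLinearGroup.toGL (mover t) with hm
      set R : M2 F := ((m⁻¹ : GL (Fin 2) F) : M2 F) * (cz⁻¹ • (Z : M2 F)) * (m : M2 F) with hR
      have hRe : R *ᵥ pt none = d • pt none := by
        rw [hR, ← mulVec_mulVec, ← mulVec_mulVec, show (m : M2 F) *ᵥ pt none = pt t from mover_pt t, hd',
          mulVec_smul, ← show (m : M2 F) *ᵥ pt none = pt t from mover_pt t, mulVec_mulVec, Units.inv_mul, one_mulVec]
      have r0 : R 0 0 = d := by simpa [pt, mulVec, dotProduct] using congrFun hRe 0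
      have r1 : R 1 0 = 0 := by simpa [pt, mulVec, dotProduct] using congrFun hRe 1
      have hRdet : R.det = 1 := by rw [hR, det_units_conj', hdetn hcz0 hcz]
      rw [det_fin_two, r0, r1, mul_zero, sub_zero] at hRdet
      have r2 : R 1 1 = d := by linear_combination d * hRdet - R 1 1 * hd2
      have hd0 : d ≠ 0 := fun e => by rw [e] at hd2; simp at hd2
      obtain ⟨β, hβdef⟩ : ∃ β, β = R 0 1 / d := ⟨_, rfl⟩
      have hRu : R = d • (!![1, β; 0, 1] : M2 F) := by
        ext i j; fin_cases i <;> fin_cases j <;> simp [r0, r1, r2, hβdef]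
        field_simp
      have hZm : (Z : M2 F) = (cz * d) • ((m * SpecialLinearGroup.toGL (uni (β)) * m⁻¹ : GL (Fin 2) F) : M2 F) := by
        have e : (m : M2 F) * R * ((m⁻¹ : GL (Fin 2) F) : M2 F) = cz⁻¹ • (Z : M2 F) := by
          rw [hR, ← mul_assoc, ← mul_assoc, Units.mul_inv, one_mul, mul_assoc, Units.mul_inv, mul_one]
        have e2 : (Z : M2 F) = cz • ((m : M2 F) * R * ((m⁻¹ : GL (Fin 2) F) : M2 F)) := by
          rw [e, smul_smul, mul_inv_cancel₀ hcz0, one_smul]
        rw [e2, hRu, mul_smul_comm, smul_mul_assoc, smul_smul, Units.val_mul, Units.val_mul]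
        simp only [uni]
        rfl
      set U' := m * SpecialLinearGroup.toGL (uni (β)) * m⁻¹ with hU'
      have hUZ : U'⁻¹ * Z ∈ Subgroup.center (GL (Fin 2) F) := by
        rw [Matrix.GeneralLinearGroup.mem_center_iff_val_mem_range_scalar]
        refine ⟨cz * d, ?_⟩
        rw [Units.val_mul, hZm, mul_smul_comm, Units.inv_mul, scalar_apply, smul_one_eq_diagonal]
      have hUN : U' ∈ lift A := ⟨_, z.2, hZ.symm.trans (QuotientGroup.eq.2 hUZ).symm⟩
      have hβ : β ≠ 0 := by
        intro hβ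
        refine hz1 (Subtype.ext (Subtype.ext ?_))
        rw [← hZ]
        refine (QuotientGroup.eq_one_iff Z).2 ?_
        have hu1 : U' = 1 := by
          rw [hU', hβ, show uni (0 : F) = 1 from Subtype.ext (by simp [uni, one_fin_two]), map_one, mul_one,
            mul_inv_cancel]
        simpa [hu1] using hUZ
      haveI := lift_nilpotent (h.2.2 A hA)
      obtain ⟨-, c, hc, ht⟩ := uni_member (lift A) t hβ hUN hYN
      exact hYu c hc ht
    obtain ⟨B, hB, hBe⟩ := exists_lift hb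
    obtain ⟨cb, hcb⟩ := hsq B (hBe ▸ b.2)
    have hcb0 : cb ≠ 0 := fun e => (GeneralLinearGroup.det B).ne_zero (by
      rw [GeneralLinearGroup.val_det_apply, hcb, e]; simp)
    obtain ⟨l', hl'⟩ := comm_lift (hZc hb hBe)
    have hrel' : (cb⁻¹ • (B : M2 F)) * (cz⁻¹ • (Z : M2 F)) = l' • ((cz⁻¹ • (Z : M2 F)) * (cb⁻¹ • (B : M2 F))) := by
      rw [smul_mul_smul_comm, smul_mul_smul_comm, hl', smul_smul, smul_smul, mul_comm cz⁻¹, mul_comm l']
    obtain ⟨v, hv0, e, he⟩ := eig_of_comm (hdetn hcb0 hcb) (hdetn hcz0 hcz) hw0 hd hd2 hrel'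
    obtain ⟨t, ht⟩ := mem_ptStab_of_eig (g := B) hv0 (d := cb * e) (by
      rw [smul_mulVec] at he
      rw [← smul_smul, ← he, smul_smul, mul_inv_cancel₀ hcb0, one_smul])
    exact ⟨t, Subgroup.mem_subgroupOf.2 ⟨B, ht, hBe⟩⟩
  have h1 : insert A (Finset.univ.image f) ⊆ S := fun x hx => by
    rcases Finset.mem_insert.1 hx with rfl | hx
    · exact hAS
    · obtain ⟨t, -, rfl⟩ := Finset.mem_image.1 hx
      exact hfS t
  have h2 := Finset.card_le_card h1
  rw [Finset.card_insert_of_notMem (by simp [eq_comm, hAf]), Finset.card_image_of_injective _ hinj,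
    Finset.card_univ] at h2
  omega

end Cfsg.Agent.Solv.ProjCover
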