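import Cfsg.Agent.Lib.Local.PuigBasic
import Cfsg.Agent.Lib.OddLocal.OddStable
import Cfsg.Agent.Lib.Solv.AbelianConj

/-!
The Puig subgroups of a Sylow subgroup of a solvable group of odd order, and Puig's theorem.
-/

set_option autoImplicit false
open Cfsg

namespace Cfsg.Agent.Solv.Puig

universe u

variable {G : Type u} [Group G]

/-- `L_S(X)` for subgroups `S` and `X` of an ambient group. -/
def pstep (S X : Subgroup G) : Subgroup G :=
  sSup {A : Subgroup G | A ≤ S ∧ IsMulCommutative A ∧ X ≤ Subgroup.normalizer (A : Set G)}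

/-- The Puig series of `S`, in an ambient group. -/
def pseq (S : Subgroup G) : ℕ → Subgroup G
  | 0 => ⊥
  | n + 1 => pstep S (pseq S n)

/-- `L(S)` -/
def pL (S : Subgroup G) : Subgroup G := ⨅ n : ℕ, pseq S (2 * n + 1)

/-- `L_*(S)` -/
def pLs (S : Subgroup G) : Subgroup G := ⨆ n : ℕ, pseq S (2 * n)

theorem pstep_le (S X : Subgroup G) : pstep S X ≤ S := sSup_le fun _ hA => hA.1

theorem le_pstep {S X A : Subgroup G} (h1 : A ≤ S) (h2 : IsMulCommutative A)
    (h3 : X ≤ Subgroup.normalizer (A : Set G)) : A ≤ pstep S X := le_sSup ⟨h1, h2, h3⟩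

/-- The centre of a subgroup. -/
def zc (L : Subgroup G) : Subgroup G := L ⊓ Subgroup.centralizer (L : Set G)

theorem zc_comm (L : Subgroup G) : IsMulCommutative (zc L) :=
  ⟨⟨fun a b => Subtype.ext (Subgroup.mem_centralizer_iff.1 (Subgroup.mem_inf.1 b.2).2 a (Subgroup.mem_inf.1 a.2).1)⟩⟩

section Map

variable {H : Type u} [Group H]

theorem map_pstep (f : H →* G) (hf : Function.Injective f) (X : Subgroup H) :
    (puigStep X).map f = pstep f.range (X.map f) := by
  refine le_antisymm ?_ (sSup_le fun A hA => ?_)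
  · rw [Subgroup.map_le_iff_le_comap]
    refine sSup_le fun A hA => ?_
    rw [← Subgroup.map_le_iff_le_comap]
    refine le_pstep (Subgroup.map_le_range f A) (haveI := hA.1; inferInstance) ?_
    rintro _ ⟨x, hx, rfl⟩
    exact (Subgroup.le_normalizer_map f) ⟨x, hA.2 hx, rfl⟩
  · obtain ⟨hAS, hAc, hAn⟩ := hA
    rw [← Subgroup.map_comap_eq_self hAS]
    refine Subgroup.map_mono (le_sSup ⟨?_, ?_⟩)
    · exact ⟨⟨fun a b => Subtype.ext (hf (by
        have := congrArg Subtype.val (hAc.is_comm.comm ⟨f a, a.2⟩ ⟨f b, b.2⟩)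
        rw [Subgroup.coe_mul, Subgroup.coe_mul] at this
        rw [Subgroup.coe_mul, Subgroup.coe_mul, map_mul, map_mul]
        exact this))⟩⟩
    · intro x hx
      refine Subgroup.mem_normalizer_iff.2 fun a => ?_
      show f a ∈ A ↔ f (x * a * x⁻¹) ∈ A
      rw [map_mul, map_mul, map_inv]
      exact Subgroup.mem_normalizer_iff.1 (hAn ⟨x, hx, rfl⟩) (f a)

theorem map_puigSeq (f : H →* G) (hf : Function.Injective f) (n : ℕ) :
    (puigSeq H n).map f = pseq f.range n := by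
  induction n with
  | zero => exact Subgroup.map_bot f
  | succ n ih => rw [PuigBasic.puigSeq_succ, map_pstep f hf, ih]; rfl

theorem map_puigSubgroup (f : H →* G) (hf : Function.Injective f) :
    (puigSubgroup H).map f = pL f.range := by
  rw [puigSubgroup, Subgroup.map_iInf _ hf]
  exact iInf_congr fun n => map_puigSeq f hf _

theorem map_puigLower (f : H →* G) (hf : Function.Injective f) :
    (puigLower H).map f = pLs f.range := by
  rw [puigLower, Subgroup.map_iSup]
  exact iSup_congr fun n => map_puigSeq f hf _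

theorem map_zc (f : H →* G) (hf : Function.Injective f) (L : Subgroup H) : (zc L).map f = zc (L.map f) := by
  ext y
  constructor
  · rintro ⟨x, ⟨hxL, hxC⟩, rfl⟩
    refine Subgroup.mem_inf.2 ⟨⟨x, hxL, rfl⟩, Subgroup.mem_centralizer_iff.2 ?_⟩
    rintro _ ⟨l, hl, rfl⟩
    rw [← map_mul, ← map_mul, Subgroup.mem_centralizer_iff.1 hxC l hl]
  · intro hy
    obtain ⟨hyL, hyC⟩ := Subgroup.mem_inf.1 hy
    obtain ⟨x, hx, rfl⟩ := hyL
    refine ⟨x, Subgroup.mem_inf.2 ⟨hx, Subgroup.mem_centralizer_iff.2 fun l hl => hf ?_⟩, rfl⟩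
    rw [map_mul, map_mul]
    exact Subgroup.mem_centralizer_iff.1 hyC (f l) ⟨l, hl, rfl⟩

/-- injective maps commute with the series -/
theorem map_pseq (f : H →* G) (hf : Function.Injective f) (S : Subgroup H) (n : ℕ) :
    (pseq S n).map f = pseq (S.map f) n := by
  have h1 := map_puigSeq S.subtype S.subtype_injective n
  have h2 := map_puigSeq (f.comp S.subtype) (hf.comp S.subtype_injective) n
  rw [Subgroup.range_subtype] at h1
  rw [MonoidHom.range_comp, Subgroup.range_subtype, ← Subgroup.map_map, h1] at h2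
  exact h2

theorem map_pL (f : H →* G) (hf : Function.Injective f) (S : Subgroup H) :
    (pL S).map f = pL (S.map f) := by
  rw [pL, Subgroup.map_iInf _ hf]
  exact iInf_congr fun n => map_pseq f hf S _

theorem map_pLs (f : H →* G) (hf : Function.Injective f) (S : Subgroup H) :
    (pLs S).map f = pLs (S.map f) := by
  rw [pLs, Subgroup.map_iSup]
  exact iSup_congr fun n => map_pseq f hf S _

end Map

theorem pseq_eq (S : Subgroup G) (n : ℕ) : pseq S n = (puigSeq S n).map S.subtype := by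
  rw [map_puigSeq S.subtype S.subtype_injective, Subgroup.range_subtype]

theorem pL_eq (S : Subgroup G) : pL S = (puigSubgroup S).map S.subtype := by
  rw [map_puigSubgroup S.subtype S.subtype_injective, Subgroup.range_subtype]

theorem pLs_eq (S : Subgroup G) : pLs S = (puigLower S).map S.subtype := by
  rw [map_puigLower S.subtype S.subtype_injective, Subgroup.range_subtype]

theorem pL_le (S : Subgroup G) : pL S ≤ S := pL_eq S ▸ Subgroup.map_subtype_le _

theorem pLs_le_pL (S : Subgroup G) : pLs S ≤ pL S := by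
  rw [pL_eq, pLs_eq]; exact Subgroup.map_mono PuigBasic.puigLower_le

theorem pseq_one (S : Subgroup G) : pseq S 1 = S := by
  rw [pseq_eq, PuigBasic.puigSeq_one, ← MonoidHom.range_eq_map, Subgroup.range_subtype]

theorem pL_eq_pstep [Finite G] (S : Subgroup G) : pL S = pstep S (pLs S) := by
  have h := map_pstep S.subtype S.subtype_injective (puigLower S)
  rw [PuigBasic.puigStep_lower, Subgroup.range_subtype, ← pL_eq, ← pLs_eq] at h
  exact h

theorem pLs_eq_pstep [Finite G] (S : Subgroup G) : pLs S = pstep S (pL S) := by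
  have h := map_pstep S.subtype S.subtype_injective (puigSubgroup S)
  rw [PuigBasic.puigStep_subgroup, Subgroup.range_subtype, ← pL_eq, ← pLs_eq] at h
  exact h

/-- An abelian subgroup normalized by `S` lies in `L_*(S)`. -/
theorem le_pLs {S A : Subgroup G} (h1 : A ≤ S) (h2 : IsMulCommutative A)
    (h3 : S ≤ Subgroup.normalizer (A : Set G)) : A ≤ pLs S := by
  have h : A ≤ pseq S (2 * 1) := le_pstep h1 h2 (by rw [pseq_one]; exact h3)
  exact h.trans (le_iSup (fun n => pseq S (2 * n)) 1)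

/-- Comparison of the series of two subgroups. -/
theorem compare {U S : Subgroup G} (hUS : U ≤ S)
    (key : ∀ (n : ℕ) (A : Subgroup G), A ≤ S → IsMulCommutative A →
      pseq S (2 * n + 1) ≤ Subgroup.normalizer (A : Set G) →
      pseq U (2 * n + 1) ≤ Subgroup.normalizer (A : Set G) → A ≤ U) :
    pLs S ≤ pLs U ∧ pL U ≤ pL S := by
  have main : ∀ n, pseq S (2 * n) ≤ pseq U (2 * n) ∧ pseq U (2 * n + 1) ≤ pseq S (2 * n + 1) := by
    intro n
    induction n with
    | zero => exact ⟨le_rfl, by rw [pseq_one, pseq_one]; exact hUS⟩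
    | succ n ih =>
      have h1 : pseq S (2 * (n + 1)) ≤ pseq U (2 * (n + 1)) := sSup_le fun A ⟨hAS, hAc, hAn⟩ =>
        le_pstep (key n A hAS hAc hAn (ih.2.trans hAn)) hAc (ih.2.trans hAn)
      exact ⟨h1, sSup_le fun A ⟨hAU, hAc, hAn⟩ => le_pstep (hAU.trans hUS) hAc (h1.trans hAn)⟩
  exact ⟨iSup_mono fun n => (main n).1, iInf_mono fun n => (main n).2⟩

/-- If `L(S) ≤ U ≤ S` then `L(U) = L(S)`. -/
theorem pL_eq_of_le [Finite G] {U S : Subgroup G} (hLU : pL S ≤ U) (hUS : U ≤ S) : pL U = pL S := by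
  have hA : ∀ A : Subgroup G, A ≤ pLs S → A ≤ U := fun A hA => hA.trans ((pLs_le_pL S).trans hLU)
  refine le_antisymm (compare hUS fun n A hAS hAc hAn _ => hA A ?_).2 ?_
  · exact (le_pstep hAS hAc hAn).trans (le_iSup (fun n => pseq S (2 * n)) (n + 1))
  · have main : ∀ n, pseq U (2 * n) ≤ pLs S ∧ pL S ≤ pseq U (2 * n + 1) := by
      intro n
      have step : ∀ n, pseq U (2 * n) ≤ pLs S → pL S ≤ pseq U (2 * n + 1) := fun n h => by
        rw [pL_eq_pstep S]
        exact sSup_le fun A ⟨hAS, hAc, hAn⟩ => le_pstep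
          (((le_pstep hAS hAc hAn).trans (pL_eq_pstep S).ge).trans hLU) hAc (h.trans hAn)
      induction n with
      | zero => exact ⟨bot_le, step 0 bot_le⟩
      | succ n ih =>
        have h1 : pseq U (2 * (n + 1)) ≤ pLs S := by
          rw [pLs_eq_pstep S]
          exact sSup_le fun A ⟨hAU, hAc, hAn⟩ => le_pstep (hAU.trans hUS) hAc (ih.2.trans hAn)
        exact ⟨h1, step _ h1⟩
    exact le_iInf fun n => (main n).2

section Theorem

variable [Finite G] {p : ℕ} [Fact p.Prime]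

theorem s1468 [Group.IsSolvable G] (hodd : Odd (Nat.card G)) (hp : p ≠ 2) (h0 : pPrimeCore p G = ⊥)
    (S : Sylow p G) : pLs (S : Subgroup G) ≤ pLs (pCore p G) ∧ pLs (pCore p G) ≤ pL (pCore p G) ∧
      pL (pCore p G) ≤ pL (S : Subgroup G) := by
  obtain ⟨T, hT⟩ : ∃ T, T = pCore p G := ⟨_, rfl⟩
  haveI : T.Normal := hT ▸ Cfsg.pCore_normal p G
  have hTp : IsPGroup p T := hT ▸ Fusion.isPGroup_pCore p G
  haveI := hTp.isNilpotent
  have hTS : T ≤ (S : Subgroup G) := hT ▸ Fusion.pCore_le_sylow S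
  rw [← hT]
  suffices h : pLs (S : Subgroup G) ≤ pLs T ∧ pL T ≤ pL (S : Subgroup G) from ⟨h.1, pLs_le_pL T, h.2⟩
  refine compare hTS fun n A _ hAc _ hPA => ?_
  haveI : (pseq T (2 * n + 1)).Normal := ⟨fun x hx g => by
    have h := map_pseq (MulAut.conj g).toMonoidHom (MulAut.conj g).injective T (2 * n + 1)
    have hg : T.map (MulAut.conj g).toMonoidHom = T :=
      Subgroup.mem_normalizer_iff_map_conj_eq.1 (Subgroup.normalizer_eq_top T ▸ Subgroup.mem_top g)
    rw [hg] at h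
    rw [← h]
    exact ⟨x, hx, rfl⟩⟩
  have hPT : pseq T (2 * n + 1) ≤ T := pstep_le T _
  refine hT ▸ OddLocal.OddStable.le_pCore_of_normalized hodd hp (pseq T (2 * n + 1)) (hTp.to_le hPT) h0 ?_ A hAc hPA
  rw [← hT]
  intro x hx
  obtain ⟨hxT, hxC⟩ := Subgroup.mem_inf.1 hx
  obtain ⟨A₀, hA₀n, hA₀c, hA₀s⟩ := PuigBasic.exists_abelian_normal_self_centralizing (G := T)
  haveI := hA₀n
  haveI := hA₀c
  rw [pseq_eq] at hxC ⊢
  refine ⟨⟨x, hxT⟩, PuigBasic.le_puigSeq_of_normal A₀ (2 * n) (hA₀s (Subgroup.mem_centralizer_iff.2 fun a ha => Subtype.ext ?_)), rfl⟩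
  exact Subgroup.mem_centralizer_iff.1 hxC (a : G) ⟨a, PuigBasic.le_puigSeq_of_normal A₀ (2 * n) ha, rfl⟩

theorem normal_of_core_bot [Group.IsSolvable G] (hodd : Odd (Nat.card G)) (hp : p ≠ 2) (h0 : pPrimeCore p G = ⊥)
    (S : Sylow p G) : (zc (pL (S : Subgroup G))).Normal := by
  obtain ⟨h1, h2, h3⟩ := s1468 hodd hp h0 S
  obtain ⟨T, hT⟩ : ∃ T, T = pCore p G := ⟨_, rfl⟩
  haveI : T.Normal := hT ▸ Cfsg.pCore_normal p G
  rw [← hT] at h1 h2 h3
  have hTp : IsPGroup p T := hT ▸ Fusion.isPGroup_pCore p G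
  have hTS : T ≤ (S : Subgroup G) := hT ▸ Fusion.pCore_le_sylow S
  obtain ⟨Y, hY⟩ : ∃ Y, Y = zc (pL T) := ⟨_, rfl⟩
  haveI hYn : Y.Normal := ⟨fun x hx g => by
    have h := map_zc (MulAut.conj g).toMonoidHom (MulAut.conj g).injective (pL T)
    have hg : T.map (MulAut.conj g).toMonoidHom = T :=
      Subgroup.mem_normalizer_iff_map_conj_eq.1 (Subgroup.normalizer_eq_top T ▸ Subgroup.mem_top g)
    rw [map_pL _ (MulAut.conj g).injective, hg, ← hY] at h
    rw [← h]
    exact ⟨x, hx, rfl⟩⟩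
  have hYc : IsMulCommutative Y := hY ▸ zc_comm _
  have hYp : IsPGroup p Y := hY ▸ hTp.to_le (inf_le_left.trans (pL_le T))
  have hYT : Y ≤ T := hY ▸ inf_le_left.trans (pL_le T)
  have hYLs : Y ≤ pLs (S : Subgroup G) :=
    le_pLs (hYT.trans hTS) hYc (by rw [Subgroup.normalizer_eq_top]; exact le_top)
  -- `Z` lies in `Y`
  obtain ⟨Z, hZ⟩ : ∃ Z, Z = zc (pL (S : Subgroup G)) := ⟨_, rfl⟩
  rw [← hZ]
  have hZS : Z ≤ (S : Subgroup G) := hZ ▸ inf_le_left.trans (pL_le _)
  have hSn : ∀ g : G, (S : Subgroup G).map (MulAut.conj g).toMonoidHom = S →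
      Z.map (MulAut.conj g).toMonoidHom = Z := fun g hg => by
    rw [hZ, map_zc _ (MulAut.conj g).injective, map_pL _ (MulAut.conj g).injective, hg]
  have hZLs : Z ≤ pLs (S : Subgroup G) := le_pLs hZS (hZ ▸ zc_comm _) fun g hg =>
    Subgroup.mem_normalizer_iff_map_conj_eq.2 (hSn g
      (Subgroup.mem_normalizer_iff_map_conj_eq.1 (Subgroup.le_normalizer hg)))
  have hZY : Z ≤ Y := by
    rw [hY]
    refine le_inf (hZLs.trans (h1.trans h2)) fun z hz => Subgroup.mem_centralizer_iff.2 fun l hl => ?_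
    rw [hZ] at hz
    exact Subgroup.mem_centralizer_iff.1 (Subgroup.mem_inf.1 hz).2 l (h3 hl)
  -- `L(S)` maps into the core modulo the centralizer of `Y`
  obtain ⟨C, hC⟩ : ∃ C, C = Subgroup.centralizer (Y : Set G) := ⟨_, rfl⟩
  haveI hCn : C.Normal := hC ▸ inferInstance
  obtain ⟨D, hD⟩ : ∃ D, D = (pCore p (G ⧸ C)).comap (QuotientGroup.mk' C) := ⟨_, rfl⟩
  haveI hDn : D.Normal := hD ▸ inferInstance
  have hLD : pL (S : Subgroup G) ≤ D := by
    rw [pL_eq_pstep]
    refine sSup_le fun A ⟨_, hAc, hAn⟩ a ha => ?_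
    have h := OddLocal.OddStable.mk_mem_pCore hodd hp Y hYp A hAc (hYLs.trans hAn) ha
    rw [hD, Subgroup.mem_comap]
    subst hC
    exact h
  obtain ⟨U, hU⟩ : ∃ U, U = (S : Subgroup G) ⊓ D := ⟨_, rfl⟩
  have hUL : pL U = pL (S : Subgroup G) :=
    pL_eq_of_le (hU ▸ le_inf (pL_le _) hLD) (hU ▸ inf_le_left)
  -- Frattini
  have hcard : Nat.card (U.subgroupOf D) = p ^ (Nat.card D).factorization p := by
    rw [Nat.card_congr (Subgroup.subgroupOfEquivOfLe (hU ▸ inf_le_right : U ≤ D)).toEquiv, hU]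
    exact AbelianConj.card_sylow_inf S D
  obtain ⟨P, hP⟩ : ∃ P : Sylow p D, (P : Subgroup D) = U.subgroupOf D :=
    ⟨Sylow.ofCard _ hcard, rfl⟩
  have hPU : (P : Subgroup D).map D.subtype = U := by
    rw [hP, Subgroup.map_subgroupOf_eq_of_le (hU ▸ inf_le_right)]
  have hfr := Sylow.normalizer_sup_eq_top P
  rw [hPU] at hfr
  have hUN : Subgroup.normalizer (U : Set G) ≤ Subgroup.normalizer (Z : Set G) := fun g hg =>
    Subgroup.mem_normalizer_iff_map_conj_eq.2 (by
      show Z.map (MulAut.conj g).toMonoidHom = Z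
      rw [hZ, map_zc _ (MulAut.conj g).injective, ← hUL, map_pL _ (MulAut.conj g).injective]
      have hgU : U.map (MulAut.conj g).toMonoidHom = U := Subgroup.mem_normalizer_iff_map_conj_eq.1 hg
      rw [hgU])
  have hCN : C ≤ Subgroup.normalizer (Z : Set G) := hC ▸ (Subgroup.centralizer_le hZY).trans
    (Subgroup.centralizer_le_normalizer (Z : Set G))
  -- `D` is the product of `U` and the centralizer
  have hDle : D ≤ Subgroup.normalizer (Z : Set G) := by
    intro d hd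
    rw [hD, Subgroup.mem_comap] at hd
    have hmap : pCore p (G ⧸ C) ≤ (S : Subgroup G).map (QuotientGroup.mk' C) := by
      obtain ⟨Q, hQ⟩ : ∃ Q : Sylow p (G ⧸ C), (Q : Subgroup (G ⧸ C)) = (S : Subgroup G).map (QuotientGroup.mk' C) :=
        ⟨S.mapSurjective (QuotientGroup.mk'_surjective C), rfl⟩
      exact hQ ▸ Fusion.pCore_le_sylow Q
    obtain ⟨s, hs, hsd⟩ := hmap hd
    have hsD : s ∈ D := by rw [hD, Subgroup.mem_comap, hsd]; exact hd
    obtain ⟨c, hc, rfl⟩ : ∃ c ∈ C, d = s * c :=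
      ⟨s⁻¹ * d, QuotientGroup.eq.1 hsd, (mul_inv_cancel_left s d).symm⟩
    exact mul_mem (hUN (Subgroup.le_normalizer (hU ▸ Subgroup.mem_inf.2 ⟨hs, hsD⟩))) (hCN hc)
  refine Subgroup.normalizer_eq_top_iff.1 (top_le_iff.1 ?_)
  rw [← hfr]
  exact sup_le hUN hDle

/-- Puig's theorem. -/
theorem puig [Group.IsSolvable G] (hodd : Odd (Nat.card G)) (hp : p ≠ 2) (S : Sylow p G) :
    pPrimeCore p G ⊔ Subgroup.normalizer ((zc (pL (S : Subgroup G)) : Subgroup G) : Set G) = ⊤ := by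
  obtain ⟨O, hO⟩ : ∃ O, O = pPrimeCore p G := ⟨_, rfl⟩
  haveI hOn : O.Normal := hO ▸ Cfsg.pPrimeCore_normal p G
  rw [← hO]
  obtain ⟨Z, hZ⟩ : ∃ Z, Z = zc (pL (S : Subgroup G)) := ⟨_, rfl⟩
  rw [← hZ]
  have hZS : Z ≤ (S : Subgroup G) := hZ ▸ inf_le_left.trans (pL_le _)
  have hodd' : Odd (Nat.card (G ⧸ O)) := hodd.of_dvd_nat (Subgroup.card_quotient_dvd_card O)
  have h0 : pPrimeCore p (G ⧸ O) = ⊥ := hO ▸ Fusion.pPrimeCore_quotient_eq_bot
  obtain ⟨T, hT⟩ : ∃ T : Sylow p (G ⧸ O), (T : Subgroup (G ⧸ O)) = (S : Subgroup G).map (QuotientGroup.mk' O) :=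
    ⟨S.mapSurjective (QuotientGroup.mk'_surjective O), rfl⟩
  have hOco : (Nat.card O).Coprime p := hO ▸ Fusion.card_pPrimeCore_coprime p G
  have hinj : Function.Injective ((QuotientGroup.mk' O).comp (S : Subgroup G).subtype) := by
    rw [injective_iff_map_eq_one]
    intro x hx
    obtain ⟨k, hk⟩ := S.isPGroup' x
    have hxO : (x : G) ∈ O := (QuotientGroup.eq_one_iff _).1 hx
    exact Subtype.ext (orderOf_eq_one_iff.1 (Nat.eq_one_of_dvd_coprimes (hOco.pow_right k)
      (Subgroup.orderOf_dvd_natCard O hxO) (orderOf_dvd_of_pow_eq_one (congrArg Subtype.val hk))))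
  have hmapZ : Z.map (QuotientGroup.mk' O) = zc (pL (T : Subgroup (G ⧸ O))) := by
    rw [hZ, pL_eq, ← map_zc _ (S : Subgroup G).subtype_injective, Subgroup.map_map,
      map_zc _ hinj, map_puigSubgroup _ hinj, MonoidHom.range_comp, Subgroup.range_subtype, hT]
  haveI := normal_of_core_bot hodd' hp h0 T
  rw [← hmapZ] at this
  haveI hMn : (Z ⊔ O).Normal := by
    have h := this.comap (QuotientGroup.mk' O)
    rwa [Subgroup.comap_map_eq, QuotientGroup.ker_mk'] at h
  obtain ⟨M, hM⟩ : ∃ M, M = Z ⊔ O := ⟨_, rfl⟩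
  haveI : M.Normal := hM ▸ hMn
  have hidx : ¬ p ∣ (Z.subgroupOf M).index := by
    intro hdvd
    have h1 : (Z.subgroupOf M).index ∣ Nat.card O := by
      refine Nat.dvd_of_mul_dvd_mul_left (Nat.card_pos (α := ↥(Z.subgroupOf M))) ?_
      rw [Subgroup.card_mul_index, Nat.card_congr (Subgroup.subgroupOfEquivOfLe (hM ▸ le_sup_left : Z ≤ M)).toEquiv]
      have h2 := card_map_mk'_mul_card_inf O M
      rw [inf_eq_left.2 (hM ▸ le_sup_right : O ≤ M)] at h2
      rw [← h2]
      refine Nat.mul_dvd_mul_right ?_ _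
      rw [hM, Subgroup.map_sup, QuotientGroup.map_mk'_self, sup_bot_eq]
      exact Subgroup.card_map_dvd _ _
    exact ((Fact.out : p.Prime).coprime_iff_not_dvd.1 hOco.symm) (hdvd.trans h1)
  obtain ⟨P, hP⟩ : ∃ P : Sylow p M, (P : Subgroup M) = Z.subgroupOf M :=
    ⟨(S.isPGroup'.to_le hZS).comap_subtype.toSylow hidx, rfl⟩
  have hfr := Sylow.normalizer_sup_eq_top P
  rw [hP, Subgroup.map_subgroupOf_eq_of_le (hM ▸ le_sup_left)] at hfr
  rw [eq_top_iff, ← hfr, hM]
  exact sup_le le_sup_right (sup_le (Subgroup.le_normalizer.trans le_sup_right) le_sup_left)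

theorem center_map_eq {S : Subgroup G} :
    ((Subgroup.center (puigSubgroup S)).map (puigSubgroup S).subtype).map S.subtype = zc (pL S) := by
  rw [pL_eq, ← map_zc _ S.subtype_injective]
  congr 1
  ext x
  constructor
  · rintro ⟨z, hz, rfl⟩
    exact Subgroup.mem_inf.2 ⟨z.2, Subgroup.mem_centralizer_iff.2 fun l hl =>
      congrArg Subtype.val (Subgroup.mem_center_iff.1 hz ⟨l, hl⟩)⟩
  · intro hx
    obtain ⟨hxL, hxC⟩ := Subgroup.mem_inf.1 hx
    exact ⟨⟨x, hxL⟩, Subgroup.mem_center_iff.2 fun l =>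
      Subtype.ext (Subgroup.mem_centralizer_iff.1 hxC l l.2), rfl⟩

end Theorem

end Cfsg.Agent.Solv.Puig
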