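import Cfsg.Agent.Lib.Solv.PushPairFam

/-!
# Pairs for pushing up outside the exceptional class
-/

set_option autoImplicit false

open scoped commutatorElement Pointwise

namespace Cfsg.Agent.PushUp

open Cfsg Cfsg.Agent.CDLattice

universe u

section Transfer

variable {P T : Type*} [Group P] [Group T]

theorem product_map_equiv (e : P ≃* T) (R : Subgroup P) :
    Nat.card (R.map e.toMonoidHom) * Nat.card (Subgroup.center ↥(R.map e.toMonoidHom)) =
      Nat.card R * Nat.card (Subgroup.center ↥R) := by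
  rw [Subgroup.card_map_of_injective (f := e.toMonoidHom) e.injective,
    ← Nat.card_congr (Subgroup.centerCongr (R.equivMapOfInjective e.toMonoidHom e.injective)).toEquiv]

theorem maxCentralProduct_equiv (e : P ≃* T) : maxCentralProduct T = maxCentralProduct P := by
  unfold maxCentralProduct
  congr 1
  ext k
  constructor
  · rintro ⟨R, rfl⟩
    refine ⟨R.map e.symm.toMonoidHom, product_map_equiv e.symm R⟩
  · rintro ⟨R, rfl⟩
    exact ⟨R.map e.toMonoidHom, product_map_equiv e R⟩

theorem centrallyLarge_map (e : P ≃* T) {R : Subgroup P} :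
    IsCentrallyLarge (R.map e.toMonoidHom) ↔ IsCentrallyLarge R := by
  unfold IsCentrallyLarge
  rw [product_map_equiv, maxCentralProduct_equiv e]

theorem minimalCL_map (e : P ≃* T) {R : Subgroup P} (hR : IsMinimalCentrallyLarge R) :
    IsMinimalCentrallyLarge (R.map e.toMonoidHom) := by
  refine ⟨(centrallyLarge_map e).2 hR.1, fun X hX hXl => ?_⟩
  have e1 : (X.comap e.toMonoidHom).map e.toMonoidHom = X := Subgroup.map_comap_eq_self_of_surjective e.surjective X
  have h1 := hR.2 (X.comap e.toMonoidHom)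
    ((Subgroup.comap_mono hX).trans (Subgroup.comap_map_eq_self_of_injective e.injective R).le)
    ((centrallyLarge_map e).1 (e1.symm ▸ hXl))
  rw [← h1, e1]

theorem minimalCLJoin_map (e : P ≃* T) :
    (minimalCentrallyLargeJoin P).map e.toMonoidHom = minimalCentrallyLargeJoin T := by
  refine le_antisymm (Subgroup.map_le_iff_le_comap.2 (sSup_le fun R hR => Subgroup.map_le_iff_le_comap.1 ?_))
    (sSup_le fun R hR => ?_)
  · exact le_sSup (s := {R : Subgroup T | IsMinimalCentrallyLarge R}) (minimalCL_map e hR)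
  · have h := le_sSup (s := {R : Subgroup P | IsMinimalCentrallyLarge R}) (minimalCL_map e.symm hR)
    intro x hx
    exact ⟨e.symm x, h ⟨x, hx, rfl⟩, e.apply_symm_apply x⟩

theorem minimalCLJoin_char : (minimalCentrallyLargeJoin P).Characteristic :=
  Subgroup.characteristic_iff_map_eq.2 fun σ => minimalCLJoin_map σ

theorem omegaOneCenter_map_le {A B : Type*} [Group A] [Group B] {p : ℕ} (f : A ≃* B) (H : Subgroup A) :
    (omegaOneCenter p H).map f.toMonoidHom ≤ omegaOneCenter p (H.map f.toMonoidHom) := by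
  rw [omegaOneCenter, omegaOneCenter, omegaOne, omegaOne, MonoidHom.map_closure]
  refine Subgroup.closure_mono ?_
  rintro _ ⟨x, ⟨⟨hxH, hxC⟩, hxp⟩, rfl⟩
  refine ⟨⟨⟨x, hxH, rfl⟩, Subgroup.mem_centralizer_iff.2 ?_⟩, ?_⟩
  · rintro _ ⟨y, hy, rfl⟩
    rw [← map_mul, ← map_mul, Subgroup.mem_centralizer_iff.1 hxC y hy]
  · rw [← map_pow, hxp, map_one]

theorem omegaOneCenter_card_map {p : ℕ} [Finite P] [Finite T] (e : P ≃* T) (R : Subgroup P) :
    Nat.card (omegaOneCenter p R) = Nat.card (omegaOneCenter p (R.map e.toMonoidHom)) := by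
  refine le_antisymm ?_ ?_
  · rw [← Subgroup.card_map_of_injective (f := e.toMonoidHom) e.injective]
    exact Subgroup.card_le_of_le (omegaOneCenter_map_le e R)
  · rw [← Subgroup.card_map_of_injective (f := e.symm.toMonoidHom) e.symm.injective]
    refine Subgroup.card_le_of_le ((omegaOneCenter_map_le e.symm _).trans (le_of_eq ?_))
    rw [Subgroup.map_map]
    simp

theorem maxOmega_equiv {p : ℕ} [Finite P] [Finite T] (e : P ≃* T) :
    maxOmegaCenterOfMinimalCL p T = maxOmegaCenterOfMinimalCL p P := by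
  unfold maxOmegaCenterOfMinimalCL
  congr 1
  ext k
  constructor
  · rintro ⟨R, hR, rfl⟩
    exact ⟨R.map e.symm.toMonoidHom, minimalCL_map e.symm hR, (omegaOneCenter_card_map e.symm R).symm⟩
  · rintro ⟨R, hR, rfl⟩
    exact ⟨R.map e.toMonoidHom, minimalCL_map e hR, (omegaOneCenter_card_map e R).symm⟩

theorem frattiniCLJoin_map_le {p : ℕ} [Fact p.Prime] [Finite P] [Finite T] (hP : IsPGroup p P) (e : P ≃* T) :
    (frattiniOfMinimalCLJoin p P).map e.toMonoidHom ≤ frattiniOfMinimalCLJoin p T := by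
  rw [frattiniOfMinimalCLJoin, Subgroup.map_iSup]
  refine iSup_le fun ⟨R, hR, hRm⟩ => ?_
  refine le_trans ?_ (frattini_le_join (minimalCL_map e hR)
    (by rw [← omegaOneCenter_card_map e R, hRm, maxOmega_equiv e]))
  set f := R.equivMapOfInjective e.toMonoidHom e.injective
  have hp1 : IsPGroup p ↥(R.map e.toMonoidHom) := (hP.of_equiv e).to_subgroup _
  have h2 : frattini ↥R ≤ (frattini ↥(R.map e.toMonoidHom)).comap f.toMonoidHom :=
    Solv.frattini_le (p := p) _
      (fun a b => by
        rw [Subgroup.mem_comap, map_commutatorElement]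
        exact Solv.commutatorElement_mem_frattini hp1 _ _)
      fun a => by
        rw [Subgroup.mem_comap, map_pow]
        exact Solv.pow_mem_frattini hp1 _
  rintro _ ⟨_, ⟨x, hx, rfl⟩, rfl⟩
  exact ⟨f x, h2 hx, rfl⟩

theorem frattiniCLJoin_map {p : ℕ} [Fact p.Prime] [Finite P] [Finite T] (hP : IsPGroup p P) (e : P ≃* T) :
    (frattiniOfMinimalCLJoin p P).map e.toMonoidHom = frattiniOfMinimalCLJoin p T := by
  refine le_antisymm (frattiniCLJoin_map_le hP e) fun x hx => ?_
  exact ⟨e.symm x, frattiniCLJoin_map_le (hP.of_equiv e) e.symm ⟨x, hx, rfl⟩, e.apply_symm_apply x⟩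

/-- A subgroup over a centrally large subgroup has the same maximum. -/
theorem maxCentralProduct_of_le [Finite P] {H R : Subgroup P} (hR : IsCentrallyLarge R) (hRH : R ≤ H) :
    maxCentralProduct ↥H = maxCentralProduct P := by
  have hk : ∀ X : Subgroup ↥H, Nat.card (X.map H.subtype) * Nat.card (Subgroup.center ↥(X.map H.subtype)) =
      Nat.card X * Nat.card (Subgroup.center ↥X) := fun X => by
    rw [Subgroup.card_map_of_injective H.subtype_injective,
      ← Nat.card_congr (Subgroup.centerCongr (X.equivMapOfInjective H.subtype H.subtype_injective)).toEquiv]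
  refine le_antisymm ?_ ?_
  · refine csSup_le ⟨_, ⊥, rfl⟩ ?_
    rintro k ⟨X, rfl⟩
    exact le_csSup (Set.finite_range fun R : Subgroup P => Nat.card R * Nat.card (Subgroup.center ↥R)).bddAbove
      ⟨_, hk X⟩
  · refine le_csSup (Set.finite_range fun R : Subgroup ↥H => Nat.card R * Nat.card (Subgroup.center ↥R)).bddAbove
      ⟨R.subgroupOf H, ?_⟩
    rw [← hk, Subgroup.map_subgroupOf_eq_of_le hRH]
    exact hR

end Transfer

variable {S : Type u} [Group S] [Finite S] {p : ℕ} [Fact p.Prime]

variable (S p) in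
/-- What is wanted of the pair, without the condition on centrally large subgroups. -/
def IsPair (S₁ S₂ : Subgroup S) : Prop :=
  S₁ ≠ ⊥ ∧ S₂ ≠ ⊥ ∧ S₁.Characteristic ∧ S₂.Characteristic ∧ S₁ ≤ Subgroup.center S ∧
    S₂ ≤ Subgroup.centralizer ((thompsonSubgroupA S ⊓ Subgroup.centralizer (thompsonSubgroupA S : Set S) :
      Subgroup S) : Set S) ∧
    (S₂.subgroupOf (Subgroup.centralizer ((thompsonSubgroupA S ⊓ Subgroup.centralizer
      (thompsonSubgroupA S : Set S) : Subgroup S) : Set S))).Characteristic ∧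
    ∀ (G : Type u) [Group G] [Finite G] (P : Subgroup G) (e : S ≃* ↥P), IsPushingUpSituation p P →
      ((S₁).map ((P.subtype).comp (e : S ≃* ↥P).toMonoidHom)).Normal ∨
        ((S₂).map ((P.subtype).comp (e : S ≃* ↥P).toMonoidHom)).Normal

variable (S p) in
/-- The conditions of the exceptional class which do not ask for an elementary abelian subgroup. -/
def IsExc : Prop :=
  ¬ IsMulCommutative S ∧ thompsonSubgroupA S = ⊤ ∧ IsElementaryAbelian p (Subgroup.center S) ∧
    IsElementaryAbelian p (frattini S) ∧ (p = 2 → frattini S ≤ Subgroup.center S) ∧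
    (p = 3 → frattini S ≤ Subgroup.upperCentralSeries S 2) ∧
    (3 < p → frattini S ≤ Subgroup.center S ∧ Monoid.exponent S = p) ∧
    (∀ A ∈ maxAbelianSubgroups S, ∀ B ∈ maxAbelianSubgroups S, ∀ Q : Subgroup S,
      Nat.card ↥A ^ 2 = Nat.card S * Nat.card ↥(Subgroup.center S) ∧
      Nat.card ↥Q * Nat.card ↥(Subgroup.center ↥Q) ≤ Nat.card S * Nat.card ↥(Subgroup.center S) ∧
      ((A ⊔ B : Subgroup S) : Set S) = (A : Set S) * (B : Set S) ∧
      A ⊔ B = Subgroup.centralizer ((A ⊓ B : Subgroup S) : Set S))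

/-- The setting over `S` given by a pushing up situation. -/
theorem setting_of_situation {G : Type u} [Group G] [Finite G] {P : Subgroup G} (h : IsPushingUpSituation p P) :
    ∃ (T : Sylow p G) (n : ℕ) (F : Type) (_ : Field F) (_ : Fintype F)
      (φ : G →* Matrix.ProjectiveSpecialLinearGroup (Fin 2) F),
      (T : Subgroup G) = P ∧ Nonempty (Setting p n T F φ) := by
  obtain ⟨-, ⟨T, rfl⟩, hchar, huniq, K, hKn, F, hFf, hFt, n, hF, ⟨iso⟩⟩ := h
  haveI := hKn
  have hn : 1 ≤ n := by
    by_contra hc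
    have h1 := Fintype.one_lt_card (α := F)
    rw [hF, show n = 0 by omega, pow_zero] at h1
    omega
  exact ⟨T, n, F, hFf, hFt, _, rfl, ⟨Setting.of_iso hchar huniq K hn hF iso⟩⟩

omit [Finite S] [Fact p.Prime] in
theorem range_comp_equiv {G : Type u} [Group G] (P : Subgroup G) (e : S ≃* ↥P) :
    ((P.subtype).comp e.toMonoidHom).range = P := by
  rw [MonoidHom.range_comp, MonoidHom.range_eq_top.2 e.surjective, ← MonoidHom.range_eq_map, Subgroup.range_subtype]

omit [Fact p.Prime] in
theorem sylow_centralizes {G : Type u} [Group G] [Finite G] (τ : S →* G) (hτ : Function.Injective τ)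
    (hJ : ⁅thompsonSubgroupA S ⊓ Subgroup.centralizer (thompsonSubgroupA S : Set S), (⊤ : Subgroup S)⁆ = ⊥) :
    τ.range ≤ Subgroup.centralizer (centerThompsonAOf τ.range : Set G) := by
  rw [centerThompsonAOf_range τ hτ]
  rintro _ ⟨b, rfl⟩
  refine Subgroup.mem_centralizer_iff.2 ?_
  rintro _ ⟨a, ha, rfl⟩
  rw [← map_mul, ← map_mul]
  refine congrArg τ (commutatorElement_eq_one_iff_mul_comm.1 ?_)
  rw [← Subgroup.mem_bot, ← hJ]
  exact Subgroup.commutator_mem_commutator ha (Subgroup.mem_top b)

theorem center_ne_bot' [Nontrivial S] (hS : IsPGroup p S) : Subgroup.center S ≠ ⊥ := fun h => by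
  haveI := hS.center_nontrivial
  exact not_nontrivial _ (h ▸ this : Nontrivial (⊥ : Subgroup S))

/-- An abelian Sylow subgroup is normal in a pushing up situation. -/
theorem normal_of_comm (hc : IsMulCommutative S) {G : Type u} [Group G] [Finite G] (P : Subgroup G) (e : S ≃* ↥P)
    (h : IsPushingUpSituation p P) : ((⊤ : Subgroup S).map ((P.subtype).comp e.toMonoidHom)).Normal := by
  rw [← MonoidHom.range_eq_map, range_comp_equiv]
  obtain ⟨-, ⟨T, rfl⟩, hchar, -⟩ := h
  haveI hTc : IsMulCommutative (T : Subgroup G) :=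
    ⟨⟨fun a b => e.symm.injective (by rw [map_mul, map_mul]; exact hc.1.1 _ _)⟩⟩
  have hle : pCore p G ≤ T := Fusion.pCore_le_sylow T
  have h1 : (T : Subgroup G) ≤ pCore p G :=
    (Subgroup.le_centralizer (T : Subgroup G)).trans
      ((Subgroup.centralizer_le (SetLike.coe_subset_coe.2 hle)).trans hchar)
  rw [le_antisymm h1 hle]
  infer_instance

/-- Outside the exceptional class there is a pair with a centrally large second member. -/
theorem exists_pair_of_not_exc [Nontrivial S] (hS : IsPGroup p S) (hexc : ¬ IsExc S p) :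
    ∃ S₁ S₂ : Subgroup S, IsPair S p S₁ S₂ ∧
      maxCentralProduct ↥S₂ = maxCentralProduct ↥(Subgroup.centralizer ((thompsonSubgroupA S ⊓
        Subgroup.centralizer (thompsonSubgroupA S : Set S) : Subgroup S) : Set S)) := by
  classical
  set ZJ := thompsonSubgroupA S ⊓ Subgroup.centralizer (thompsonSubgroupA S : Set S) with hZJ
  haveI hJc : (thompsonSubgroupA S).Characteristic :=
    Subgroup.characteristic_iff_map_eq.2 fun σ => Fusion.map_thompsonSubgroupA σ
  haveI hZc : ZJ.Characteristic := Subgroup.characteristic_inf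
  have htne : (⊤ : Subgroup S) ≠ ⊥ := top_ne_bot
  by_cases hJ : ⁅ZJ, (⊤ : Subgroup S)⁆ = ⊥
  swap
  · set jt := Subgroup.centralizer (ZJ : Set S) with hjt
    obtain ⟨z, hz, hzc, hz1⟩ := exists_center_mem hS ⁅ZJ, (⊤ : Subgroup S)⁆ hJ
    refine ⟨⁅ZJ, (⊤ : Subgroup S)⁆ ⊓ Subgroup.center S, jt, ⟨fun h0 => hz1 (Subgroup.mem_bot.1 (h0.le ⟨hz, hzc⟩)),
      fun h0 => hz1 (Subgroup.mem_bot.1 (h0.le (Subgroup.center_le_centralizer _ hzc))), inferInstance,
      inferInstance, inf_le_right, le_rfl, by rw [Subgroup.subgroupOf_self]; infer_instance, ?_⟩, rfl⟩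
    intro G _ _ P e hE
    obtain ⟨T, n, F, _, _, φ, hT, ⟨R⟩⟩ := setting_of_situation hE
    set τ := (P.subtype).comp e.toMonoidHom
    have hτ : Function.Injective τ := P.subtype_injective.comp e.injective
    have hP : (T : Subgroup G) = τ.range := hT.trans (range_comp_equiv P e).symm
    have eJ : centerThompsonAOf (T : Subgroup G) = ZJ.map τ := by rw [hP, centerThompsonAOf_range τ hτ]
    rcases R.cases with h' | h' | h'
    · left
      refine normal_map_of_central τ (le_trans (Subgroup.map_mono inf_le_right) ?_)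
      rwa [map_center_range τ hτ, ← hP]
    · right
      rw [hjt, map_centralizer_range τ hτ, ← eJ, ← hP]
      exact h'
    · left
      refine normal_map_of_central τ (le_trans ?_ h'.comm_inf_le_center)
      rw [Subgroup.map_inf _ _ _ hτ, Subgroup.map_commutator, map_center_range τ hτ, eJ, hP,
        ← MonoidHom.range_eq_map]
  have hjt : Subgroup.centralizer (ZJ : Set S) = ⊤ := eq_top_iff.2 fun s _ =>
    Subgroup.mem_centralizer_iff.2 fun z hz => commutatorElement_eq_one_iff_mul_comm.1 (by
      rw [← Subgroup.mem_bot, ← hJ]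
      exact Subgroup.commutator_mem_commutator hz (Subgroup.mem_top s))
  obtain ⟨Q₀, hQ₀⟩ := exists_minimal (P := S)
  have htop : maxCentralProduct ↥(Subgroup.centralizer (ZJ : Set S)) = maxCentralProduct S :=
    maxCentralProduct_of_le hQ₀.1 (hjt ▸ le_top)
  have hfin : ∀ S₁ S₂ : Subgroup S, S₁ ≠ ⊥ → S₂ ≠ ⊥ → S₁.Characteristic → S₂.Characteristic →
      S₁ ≤ Subgroup.center S → (∃ R : Subgroup S, IsCentrallyLarge R ∧ R ≤ S₂) →
      (∀ (G : Type u) [Group G] [Finite G] (P : Subgroup G) (e : S ≃* ↥P), IsPushingUpSituation p P →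
        ((S₁).map ((P.subtype).comp (e : S ≃* ↥P).toMonoidHom)).Normal ∨
          ((S₂).map ((P.subtype).comp (e : S ≃* ↥P).toMonoidHom)).Normal) →
      ∃ S₁ S₂ : Subgroup S, IsPair S p S₁ S₂ ∧
        maxCentralProduct ↥S₂ = maxCentralProduct ↥(Subgroup.centralizer (ZJ : Set S)) := by
    intro S₁ S₂ h1 h2 h3 h4 h5 ⟨R, hR, hR2⟩ h6
    exact ⟨S₁, S₂, ⟨h1, h2, h3, h4, h5, hjt.ge.trans' le_top, char_subgroupOf_of_eq_top h4 hjt, h6⟩,
      (maxCentralProduct_of_le hR hR2).trans htop.symm⟩
  by_cases hcS : IsMulCommutative S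
  · exact hfin (Subgroup.center S) ⊤ (center_ne_bot' hS) htne inferInstance inferInstance le_rfl
      ⟨Q₀, hQ₀.1, le_top⟩ fun G _ _ P e hE => Or.inr (normal_of_comm hcS P e hE)
  by_cases hexp : ∀ z ∈ Subgroup.center S, z ^ p = 1
  swap
  · set S₁ := powerClosure p 1 (Subgroup.center S) with hS₁
    have hle : S₁ ≤ Subgroup.center S := (Subgroup.closure_le _).2 (by
      rintro _ ⟨z, hz, rfl⟩
      exact pow_mem hz _)
    haveI : S₁.Characteristic := by
      refine Subgroup.characteristic_iff_map_le.2 fun σ => ?_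
      rw [hS₁, powerClosure, MonoidHom.map_closure]
      refine Subgroup.closure_mono ?_
      rintro _ ⟨_, ⟨z, hz, rfl⟩, rfl⟩
      exact ⟨σ z, Subgroup.characteristic_iff_le_comap.1 inferInstance σ hz, map_pow σ z _⟩
    refine hfin S₁ ⊤ (fun h0 => hexp fun z hz => ?_) htne inferInstance inferInstance hle
      ⟨Q₀, hQ₀.1, le_top⟩ ?_
    · have h1 : z ^ p ^ 1 ∈ S₁ := Subgroup.subset_closure ⟨z, hz, rfl⟩
      rwa [h0, Subgroup.mem_bot, pow_one] at h1
    intro G _ _ P e hE
    obtain ⟨T, n, F, _, _, φ, hT, ⟨R⟩⟩ := setting_of_situation hE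
    set τ := (P.subtype).comp e.toMonoidHom
    have hτ : Function.Injective τ := P.subtype_injective.comp e.injective
    have hP : (T : Subgroup G) = τ.range := hT.trans (range_comp_equiv P e).symm
    have eJ : centerThompsonAOf (T : Subgroup G) = ZJ.map τ := by rw [hP, centerThompsonAOf_range τ hτ]
    rcases R.cases with h' | h' | h'
    · left
      refine normal_map_of_central τ (le_trans (Subgroup.map_mono hle) ?_)
      rwa [map_center_range τ hτ, ← hP]
    · right
      rw [← hjt, map_centralizer_range τ hτ, ← eJ, ← hP]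
      exact h'
    · left
      refine normal_map_of_central τ ?_
      rw [hS₁, powerClosure, MonoidHom.map_closure]
      refine (Subgroup.closure_le _).2 ?_
      rintro _ ⟨_, ⟨z, hz, rfl⟩, rfl⟩
      rw [map_pow, pow_one]
      exact h'.pow_mem_center (hP ▸ (map_center_range τ hτ).le ⟨z, hz, rfl⟩)
  -- the derived subgroup of a minimal centrally large subgroup
  by_cases hQc : ⁅Q₀, Q₀⁆ = ⊥
  swap
  · haveI hDc : (⁅Q₀, Q₀⁆).Characteristic := by
      refine Subgroup.characteristic_iff_map_le.2 fun σ => ?_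
      rw [Subgroup.map_le_iff_le_comap]
      exact Subgroup.commutator_le.2 fun a ha b hb =>
        transport_commutator hQ₀ (σ.toMonoidHom.comp Q₀.subtype) (σ.injective.comp Q₀.subtype_injective) ⟨a, ha⟩ ⟨b, hb⟩
    obtain ⟨z, hz, hzc, hz1⟩ := exists_center_mem hS ⁅Q₀, Q₀⁆ hQc
    have hQle : Q₀ ≤ minimalCentrallyLargeJoin S :=
      le_sSup (s := {R : Subgroup S | IsMinimalCentrallyLarge R}) hQ₀
    refine hfin (Subgroup.center S ⊓ ⁅Q₀, Q₀⁆) (minimalCentrallyLargeJoin S)
      (fun h0 => hz1 (Subgroup.mem_bot.1 (h0.le ⟨hzc, hz⟩))) (fun h0 => ?_) inferInstance minimalCLJoin_char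
      inf_le_left ⟨Q₀, hQ₀.1, hQle⟩ ?_
    · refine hQc (le_bot_iff.1 ?_)
      exact (Subgroup.commutator_mono (hQle.trans h0.le) (hQle.trans h0.le)).trans
        (Subgroup.commutator_le_left ⊥ ⊥)
    intro G _ _ P e hE
    obtain ⟨T, n, F, _, _, φ, hT, ⟨R⟩⟩ := setting_of_situation hE
    subst hT
    set τ := ((T : Subgroup G).subtype).comp e.toMonoidHom
    have hτ : Function.Injective τ := (T : Subgroup G).subtype_injective.comp e.injective
    have hP : (T : Subgroup G) = τ.range := (range_comp_equiv _ e).symm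
    have hJ0 : (T : Subgroup G) ≤ Subgroup.centralizer (centerThompsonAOf (T : Subgroup G) : Set G) := by
      rw [hP]
      exact sylow_centralizes τ hτ hJ
    refine (derived_or_join R hJ0 (minimalCL_map e hQ₀)).imp (fun h => normal_map_of_central τ ?_) fun h => ?_
    · refine le_trans (le_of_eq ?_) h
      rw [Subgroup.map_inf _ _ _ hτ, map_center_range τ hτ, ← hP, ← Subgroup.map_commutator, Subgroup.map_map]
    · rw [← Subgroup.map_map, minimalCLJoin_map e]
      exact h
  have hQcomm : IsMulCommutative Q₀ :=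
    isMulCommutative_iff_le_centralizer.2 (Subgroup.commutator_eq_bot_iff_le_centralizer.1 hQc)
  have hMA := minimal_iff_maxAbelian hQ₀ hQcomm
  by_cases h0 : sZero p S = ⊥
  swap
  · obtain ⟨S₁, S₂, h1, h2, h3, h4, h5, ⟨A, hA, hA2⟩, hlegs⟩ := exists_pair_cl hS h0
    refine hfin S₁ S₂ h1 h2 h3 h4 h5 ⟨A, ((hMA A).2 hA).1, hA2⟩ ?_
    intro G _ _ P e hE
    obtain ⟨T, n, F, _, _, φ, hT, ⟨R⟩⟩ := setting_of_situation hE
    set τ := (P.subtype).comp e.toMonoidHom
    have hτ : Function.Injective τ := P.subtype_injective.comp e.injective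
    have hP : (T : Subgroup G) = τ.range := hT.trans (range_comp_equiv P e).symm
    by_cases hz : (Subgroup.center S).map τ ≤ Subgroup.center G
    · exact Or.inl (normal_map_of_central τ ((Subgroup.map_mono h5).trans hz))
    · exact R.of_legs τ hτ hP hz hJ hexp (fun _ _ e => (S₁.map e).Normal ∨ (S₂.map e).Normal) hlegs
  exfalso
  refine hexc ?_
  -- `S` itself is centrally large
  have hQA : Q₀ ∈ maxAbelianSubgroups S := (hMA Q₀).1 hQ₀
  have hJl : IsCentrallyLarge (thompsonSubgroupA S) := by
    have h := sup_thompsonA hQ₀.1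
    rwa [sup_eq_right.2 (le_thompsonA hQA)] at h
  have hCJ : Subgroup.centralizer (thompsonSubgroupA S : Set S) = Subgroup.center S := by
    refine le_antisymm (fun x hx => Subgroup.mem_center_iff.2 fun s => ?_) (Subgroup.center_le_centralizer _)
    have h1 : x ∈ ZJ := ⟨le_thompsonA hQA ((centralizer_eq_of_maxAbelian hQA).le
      (Subgroup.centralizer_le (SetLike.coe_subset_coe.2 (le_thompsonA hQA)) hx)), hx⟩
    exact (Subgroup.mem_centralizer_iff.1 (hjt.ge (Subgroup.mem_top s)) x h1).symm
  have hJv : Nat.card (thompsonSubgroupA S) * Nat.card (Subgroup.center S) = maxCentralizerProduct S := by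
    rw [← hCJ]
    exact cdVal_eq hJl
  have hJtop : thompsonSubgroupA S = ⊤ := by
    refine Subgroup.eq_top_of_card_eq _ (le_antisymm (Subgroup.card_le_card_group _) ?_)
    have h := val_le (⊤ : Subgroup S)
    rw [cdVal, Subgroup.card_top, Subgroup.coe_top, Subgroup.centralizer_univ, ← hJv] at h
    exact Nat.le_of_mul_le_mul_right h Nat.card_pos
  rw [hJtop, Subgroup.card_top] at hJv
  have hAv : ∀ A ∈ maxAbelianSubgroups S, Nat.card ↥A ^ 2 = maxCentralizerProduct S := fun A hA => by
    rw [sq]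
    conv_lhs => arg 2; rw [← centralizer_eq_of_maxAbelian hA]
    exact cdVal_eq ((hMA A).2 hA).1
  have hPhi : IsElementaryAbelian p (frattini S) ∧ (p = 2 → frattini S ≤ Subgroup.center S) ∧
      (p = 3 → frattini S ≤ Subgroup.upperCentralSeries S 2) ∧
      (3 < p → frattini S ≤ Subgroup.center S ∧ Monoid.exponent S = p) := by
    have hPp : IsPGroup p ↥(frattini S) := hS.to_subgroup _
    have helem : (frattini ↥(frattini S)).map (frattini S).subtype = ⊥ → IsElementaryAbelian p (frattini S) := by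
      intro h
      have hb : frattini ↥(frattini S) = ⊥ :=
        (Subgroup.map_eq_bot_iff_of_injective _ (frattini S).subtype_injective).1 h
      refine ⟨⟨⟨fun a b => commutatorElement_eq_one_iff_mul_comm.1 ?_⟩⟩, fun a ha => ?_⟩
      · have h2 := Solv.commutatorElement_mem_frattini hPp a b
        rw [hb, Subgroup.mem_bot] at h2
        exact h2
      · have h2 := Solv.pow_mem_frattini hPp (⟨a, ha⟩ : ↥(frattini S))
        rw [hb, Subgroup.mem_bot] at h2
        exact congrArg Subtype.val h2
    have hcen : ∀ {X : Subgroup S}, ⁅X, (⊤ : Subgroup S)⁆ = ⊥ → X ≤ Subgroup.center S := fun {X} h x hx =>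
      Subgroup.mem_center_iff.2 fun s => by
        have h2 := Subgroup.commutator_mem_commutator hx (Subgroup.mem_top s)
        rw [h, Subgroup.mem_bot, commutatorElement_eq_one_iff_mul_comm] at h2
        exact h2.symm
    unfold sZero at h0
    have h2le := (Fact.out : p.Prime).two_le
    split_ifs at h0 with e2 e3
    · obtain ⟨ha, hb⟩ := sup_eq_bot_iff.1 h0
      exact ⟨helem hb, fun _ => hcen ha, fun h => absurd h (by omega), fun h => absurd h (by omega)⟩
    · obtain ⟨ha, hb⟩ := sup_eq_bot_iff.1 h0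
      refine ⟨helem hb, fun h => absurd h (by omega), fun _ x hx => ?_, fun h => absurd h (by omega)⟩
      refine Subgroup.mem_upperCentralSeries_succ_iff.2 fun y => ?_
      rw [Subgroup.upperCentralSeries_one]
      exact hcen ha (Subgroup.commutator_mem_commutator hx (Subgroup.mem_top y))
    · obtain ⟨ha, hb⟩ := sup_eq_bot_iff.1 h0
      have hpow : ∀ x : S, x ^ p = 1 := fun x => by
        have h1 : x ^ p ^ 1 ∈ powerClosure p 1 (⊤ : Subgroup S) :=
          Subgroup.subset_closure ⟨x, Subgroup.mem_top x, rfl⟩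
        rwa [hb, Subgroup.mem_bot, pow_one] at h1
      refine ⟨⟨⟨⟨fun a b => Subtype.ext (Subgroup.mem_center_iff.1 (hcen ha b.2) a)⟩⟩, fun a _ => hpow a⟩,
        fun h => absurd h e2, fun h => absurd h e3, fun _ => ⟨hcen ha, ?_⟩⟩
      rcases (Fact.out : p.Prime).eq_one_or_self_of_dvd _ (Monoid.exponent_dvd_of_forall_pow_eq_one hpow) with h | h
      · haveI : Subsingleton S := Monoid.exp_eq_one_iff.1 h
        exact absurd (inferInstance : Nontrivial S) (not_nontrivial S)
      · exact h
  refine ⟨hcS, hJtop, ⟨inferInstance, hexp⟩, hPhi.1, hPhi.2.1, hPhi.2.2.1, hPhi.2.2.2, fun A hA B hB Q => ?_⟩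
  refine ⟨(hAv A hA).trans hJv.symm, ?_, (centrallyLarge_sup ((hMA A).2 hA).1 ((hMA B).2 hB).1).1, ?_⟩
  · rw [hJv, ← maxCentralProduct_eq]
    exact le_csSup (Set.finite_range fun R : Subgroup S => Nat.card R * Nat.card (Subgroup.center ↥R)).bddAbove
      ⟨Q, rfl⟩
  · have hl := (centrallyLarge_iff.1 (centrallyLarge_sup ((hMA A).2 hA).1 ((hMA B).2 hB).1).2).1
    have h := (large_centralizer hl).2
    rwa [centralizer_sup', centralizer_eq_of_maxAbelian hA, centralizer_eq_of_maxAbelian hB] at h

/-- Without an elementary abelian large subgroup the Frattini join gives a pair. -/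
theorem exists_pair_of_no_elementary [Nontrivial S] (hS : IsPGroup p S) (hJtop : thompsonSubgroupA S = ⊤)
    (hA : ¬ ∃ A ∈ maxAbelianSubgroups S, IsElementaryAbelian p A) :
    ∃ S₁ S₂ : Subgroup S, IsPair S p S₁ S₂ := by
  set ZJ := thompsonSubgroupA S ⊓ Subgroup.centralizer (thompsonSubgroupA S : Set S) with hZJ
  have hZ : ZJ = Subgroup.center S := by
    rw [hZJ, hJtop, top_inf_eq, Subgroup.coe_top, Subgroup.centralizer_univ]
  have hjt : Subgroup.centralizer (ZJ : Set S) = ⊤ := eq_top_iff.2 fun s _ =>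
    Subgroup.mem_centralizer_iff.2 fun z hz => (Subgroup.mem_center_iff.1 (hZ.le hz) s).symm
  have hJ : ⁅ZJ, (⊤ : Subgroup S)⁆ = ⊥ := by
    rw [Subgroup.commutator_eq_bot_iff_le_centralizer, Subgroup.coe_top, Subgroup.centralizer_univ]
    exact hZ.le
  haveI hc : (frattiniOfMinimalCLJoin p S).Characteristic :=
    Subgroup.characteristic_iff_map_eq.2 fun σ => frattiniCLJoin_map hS σ
  refine ⟨Subgroup.center S, frattiniOfMinimalCLJoin p S, center_ne_bot' hS,
    fun h0 => hA (frattiniJoin_bot hS h0).2, inferInstance, hc, le_rfl, hjt.ge.trans' le_top,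
    char_subgroupOf_of_eq_top hc hjt, ?_⟩
  intro G _ _ P e hE
  obtain ⟨T, n, F, _, _, φ, hT, ⟨R⟩⟩ := setting_of_situation hE
  subst hT
  set τ := ((T : Subgroup G).subtype).comp e.toMonoidHom
  have hτ : Function.Injective τ := (T : Subgroup G).subtype_injective.comp e.injective
  have hP : (T : Subgroup G) = τ.range := (range_comp_equiv _ e).symm
  have hJ0 : (T : Subgroup G) ≤ Subgroup.centralizer (centerThompsonAOf (T : Subgroup G) : Set G) := by
    rw [hP]
    exact sylow_centralizes τ hτ hJ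
  refine (center_or_frattini R hJ0).imp (fun h => normal_map_of_central τ ?_) fun h => ?_
  · rwa [map_center_range τ hτ, ← hP]
  · rw [← Subgroup.map_map, frattiniCLJoin_map hS e]
    exact h

end Cfsg.Agent.PushUp
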