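import Cfsg.Agent.Lib.PushUp.Fam.Choose
import Cfsg.Agent.Lib.PushUp.CentrallyLarge

/-!
# A pair whose second member contains a large abelian subgroup
-/

set_option autoImplicit false

open scoped commutatorElement

namespace Cfsg.Agent.PushUp

open Cfsg

universe u

variable {S : Type u} [Group S] [Finite S] {p : ℕ}

namespace Leg

/-- An abelian subgroup of largest order may be replaced by one inside the core. -/
theorem replace_maxAbelian (L : Leg S p) {A : Subgroup S} (hA : A ∈ maxAbelianSubgroups S) :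
    L.yb ⊔ (A ⊓ L.qb) ∈ maxAbelianSubgroups S := by
  haveI := hA.1
  have hZA : Subgroup.center S ≤ A := fun z hz => (CDLattice.centralizer_eq_of_maxAbelian hA).le
    (Subgroup.center_le_centralizer _ hz)
  have hc : IsMulCommutative (L.yb ⊔ (A ⊓ L.qb) : Subgroup S) := by
    rw [CDLattice.isMulCommutative_iff_le_centralizer, CDLattice.centralizer_sup']
    refine sup_le (le_inf ?_ ?_) (le_inf ?_ ?_)
    · exact fun y hy => Subgroup.mem_centralizer_iff.2 fun x hx => (L.commute_yb hx hy).eq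
    · exact fun y hy => Subgroup.mem_centralizer_iff.2 fun x hx => (L.commute_qb_yb hx.2 hy).symm.eq
    · exact fun x hx => Subgroup.mem_centralizer_iff.2 fun y hy => (L.commute_qb_yb hx.2 hy).eq
    · exact inf_le_left.trans ((Subgroup.le_centralizer A).trans
        (Subgroup.centralizer_le (SetLike.coe_subset_coe.2 inf_le_left)))
  refine ⟨hc, fun C hC => (hA.2 C hC).trans ?_⟩
  by_cases hAQ : A ≤ L.qb
  · rw [inf_eq_left.2 hAQ]
    exact Subgroup.card_le_of_le le_sup_right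
  obtain ⟨s, hs, hsQ⟩ := SetLike.not_le_iff_exists.1 hAQ
  have hint : (A ⊓ L.qb) ⊓ L.yb = Subgroup.center S := by
    refine le_antisymm (fun y hy => L.cent' hsQ hy.2 ?_) (le_inf (le_inf hZA L.center_le_qb) L.center_le_yb)
    exact congrArg Subtype.val (mul_comm' (⟨y, hy.1.1⟩ : ↥A) ⟨s, hs⟩)
  rw [card_sup_normal' L.yb (A ⊓ L.qb), ← Subgroup.inf_relIndex_right (A ⊓ L.qb) L.yb, hint, L.idxY]
  have e : L.qb.relIndex A * Nat.card (A ⊓ L.qb : Subgroup S) = Nat.card A := by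
    rw [← Subgroup.inf_relIndex_right L.qb A, inf_comm L.qb A]
    exact LocalEven.DispCount.relIndex_mul_card inf_le_left
  rw [← e, ← L.idx]
  exact Nat.mul_le_mul_right _ (Nat.le_of_dvd (Nat.pos_of_ne_zero Subgroup.index_ne_zero_of_finite)
    (Subgroup.relIndex_dvd_index_of_normal L.qb A))

omit [Finite S] in
/-- The centralizer of a normal subgroup containing `Y` gives a normal subgroup of the core. -/
theorem normal_centralizer_map (L : Leg S p) {W : Subgroup S} (hn : (W.map L.e).Normal) (hy : L.yb ≤ W) :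
    ((Subgroup.centralizer (W : Set S)).map L.e).Normal := by
  haveI := hn
  haveI := L.pup.Qn
  have e : (Subgroup.centralizer (W : Set S)).map L.e = L.Q ⊓ Subgroup.centralizer ((W.map L.e : Subgroup L.G) : Set L.G) := by
    rw [map_centralizer_range L.e L.inj]
    refine le_antisymm (le_inf ?_ inf_le_right) (inf_le_inf_right _ L.Q_le)
    rintro _ ⟨⟨c, rfl⟩, hc⟩
    refine L.mem_qb (x := c) fun y h => L.inj ?_
    rw [map_mul, map_mul]
    exact Subgroup.mem_centralizer_iff.1 hc _ ⟨y, hy h, rfl⟩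
  rw [e]
  infer_instance

end Leg

namespace Fam

variable {B : Leg S p → Prop}

/-- There is an abelian subgroup of largest order through all the `Y`. -/
theorem exists_maxAbelian_uB (hun : ∀ i j : Ix B, i.1.yb ≤ j.1.qb) :
    ∃ A ∈ maxAbelianSubgroups S, uB B ≤ A := by
  classical
  obtain ⟨A₀, hA₀⟩ := CDLattice.exists_maxAbelian (P := S)
  haveI : Nonempty {A // A ∈ maxAbelianSubgroups S} := ⟨⟨A₀, hA₀⟩⟩
  obtain ⟨⟨A, hA⟩, hmax⟩ := Finite.exists_max (α := {A // A ∈ maxAbelianSubgroups S})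
    fun A => Nat.card (uB B ⊓ A.1 : Subgroup S)
  refine ⟨A, hA, iSup_le fun i => ?_⟩
  have h1 : uB B ⊓ A ≤ uB B ⊓ (i.1.yb ⊔ (A ⊓ i.1.qb)) := fun x hx =>
    ⟨hx.1, Subgroup.mem_sup_right ⟨hx.2, (iSup_le fun j => hun j i : uB B ≤ i.1.qb) hx.1⟩⟩
  have h2 := Subgroup.eq_of_le_of_card_ge h1 (hmax ⟨_, i.1.replace_maxAbelian hA⟩)
  exact fun y hy => (h2.ge ⟨le_iSup (fun i : Ix B => i.1.yb) i hy, Subgroup.mem_sup_left hy⟩).2

/-- If no path has ends which do not commute, the closed subgroup can be taken over a large abelian subgroup. -/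
theorem exists_closed_cl (htw : ∀ L σ, B L → B (L.twist σ)) (i₀ : Ix B)
    (hcon : ∀ k, 1 ≤ k → ∀ d : ℕ → Dart B, Chain k d → (d 0).src (yI B) ≤ (d (k - 1)).tgt (qI B)) :
    ∃ X : Subgroup S, X ≠ ⊥ ∧ X.Characteristic ∧ (∀ i : Ix B, (X.map i.1.e).Normal) ∧
      ∃ A ∈ maxAbelianSubgroups S, A ≤ X := by
  classical
  -- every vertex is joined to those at the first edge
  have hreach : ∀ f : Amal B, ∀ α β : Ix B, ∃ k, ∃ d : ℕ → Dart B, 1 ≤ k ∧ Chain k d ∧
      (d 0).f = 1 ∧ (d 0).l = α ∧ (d (k - 1)).f = f ∧ (d (k - 1)).r = β := by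
    let P : Amal B → Prop := fun f => ∀ α β : Ix B, ∃ k, ∃ d : ℕ → Dart B, 1 ≤ k ∧ Chain k d ∧
      (d 0).f = 1 ∧ (d 0).l = α ∧ (d (k - 1)).f = f ∧ (d (k - 1)).r = β
    have hstep : ∀ a f, P f → P (f * a) := by
      intro a
      have hof : ∀ (γ : Ix B) (g : γ.1.G) f, P f → P (f * io γ g) := by
        intro γ g f hf α β
        obtain ⟨k, d, hk, hd, h0, hl, hf', hr⟩ := hf α γ
        refine ⟨k + 1, fun i => if i < k then d i else ⟨f * io γ g, γ, β⟩, by omega, fun i hi => ?_, ?_, ?_, ?_, ?_⟩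
        · simp only [if_pos (show i < k by omega)]
          by_cases hi' : i + 1 < k
          · rw [if_pos hi']
            exact hd i hi'
          · rw [if_neg hi', show i = k - 1 by omega]
            exact ⟨hr.symm, by rw [hr]; exact ⟨g, by rw [hf']⟩⟩
        · simp only [if_pos (show 0 < k by omega)]
          exact h0
        · simp only [if_pos (show 0 < k by omega)]
          exact hl
        · simp
        · simp
      induction a using Monoid.PushoutI.induction_on with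
      | of i g => exact hof i g
      | base h => intro f hf; rw [← io_e i₀ h]; exact hof i₀ _ f hf
      | mul x y hx hy => intro f hf; rw [← mul_assoc]; exact hy _ (hx f hf)
    intro f
    have h1 : P 1 := fun α β => ⟨1, fun _ => ⟨1, α, β⟩, le_rfl, fun i hi => absurd hi (by omega), rfl, rfl, rfl, rfl⟩
    have h2 := hstep f 1 h1
    rwa [one_mul] at h2
  have hall : ∀ f g : Amal B, ∀ α β : Ix B, (yI B α).map (emb f α) ≤ (qI B β).map (emb g β) := by
    intro f g α β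
    obtain ⟨k, d, hk, hd, h0, hl, hf', hr⟩ := hreach (f⁻¹ * g) α β
    have h1 := hcon k hk d hd
    change (yI B (d 0).l).map (emb (d 0).f (d 0).l) ≤ (qI B (d (k - 1)).r).map (emb (d (k - 1)).f (d (k - 1)).r) at h1
    rw [h0, hl, hf', hr] at h1
    rintro _ ⟨y, hy, rfl⟩
    obtain ⟨q, hq, he⟩ := h1 ⟨y, hy, rfl⟩
    refine ⟨q, hq, ?_⟩
    have e1 := emb_left f (f⁻¹ * g) β q
    rw [mul_inv_cancel_left] at e1
    have e2 := emb_left f (1 : Amal B) α y
    rw [mul_one] at e2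
    rw [e1, e2, he]
  set W : Subgroup (Amal B) := ⨆ x : Amal B × Ix B, (yI B x.2).map (emb x.1 x.2) with hW
  have hWQ : ∀ g β, W ≤ (qI B β).map (emb g β) := fun g β => iSup_le fun x => hall x.1 g x.2 β
  have hWn : ∀ a x : Amal B, x ∈ W → a * x * a⁻¹ ∈ W := by
    intro a x hx
    have : W ≤ W.comap (MulAut.conj a).toMonoidHom := iSup_le fun ⟨f, α⟩ => by
      rintro _ ⟨y, hy, rfl⟩
      exact Subgroup.mem_iSup_of_mem (a * f, α) ⟨y, hy, emb_left a f α y⟩
    exact this hx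
  -- large abelian subgroups through parts of `W` move along the edges
  let Ok : Amal B → Subgroup (Amal B) → Prop := fun f E => ∃ A ∈ maxAbelianSubgroups S, E ≤ A.map (bs f)
  have hrep : ∀ f α (E : Subgroup (Amal B)), E ≤ W → Ok f E → ∃ A ∈ maxAbelianSubgroups S, A ≤ α.1.qb ∧
      E ⊔ (yI B α).map (emb f α) ≤ A.map (bs f) := by
    rintro f α E hE ⟨A, hA, hEA⟩
    refine ⟨_, α.1.replace_maxAbelian hA, sup_le α.1.yb_le_qb inf_le_right, sup_le ?_ ?_⟩
    · refine le_trans ?_ (Subgroup.map_mono le_sup_right)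
      rw [Subgroup.map_inf _ _ _ (bs_injective f), ← map_qI f α]
      exact le_inf hEA (hE.trans (hWQ f α))
    · rw [map_yI]
      exact Subgroup.map_mono le_sup_left
  have hmove : ∀ f α (g : α.1.G) (E : Subgroup (Amal B)), E ≤ W → Ok f E → Ok (f * io α g) E := by
    intro f α g E hE hOk
    obtain ⟨A, hA, hAQ, hEA⟩ := hrep f α E hE hOk
    haveI := hA.1
    have hle : A.map (bs f) ≤ (bs (f * io α g)).range := by
      refine (Subgroup.map_mono hAQ).trans ?_
      rw [← map_qI, ← map_emb_mul f α g (qI_normal α), map_qI]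
      exact Subgroup.map_le_range _ _
    refine ⟨(A.map (bs f)).comap (bs (f * io α g)), ⟨⟨⟨fun a b => Subtype.ext (bs_injective (f * io α g) ?_)⟩⟩,
      fun C hC => (hA.2 C hC).trans (le_of_eq ?_)⟩, ?_⟩
    · simp only [Subgroup.coe_mul, map_mul]
      exact congrArg Subtype.val (mul_comm' (⟨_, a.2⟩ : ↥(A.map (bs f))) ⟨_, b.2⟩)
    · rw [← Subgroup.card_map_of_injective (bs_injective f),
        ← Subgroup.card_map_of_injective (bs_injective (f * io α g)), Subgroup.map_comap_eq_self hle]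
    · rw [Subgroup.map_comap_eq_self hle]
      exact le_sup_left.trans hEA
  have htrav : ∀ a f (E : Subgroup (Amal B)), E ≤ W → Ok f E → Ok (f * a) E := by
    intro a
    induction a using Monoid.PushoutI.induction_on with
    | of i g => exact fun f => hmove f i g
    | base h => intro f E; rw [← io_e i₀ h]; exact hmove f i₀ _ E
    | mul x y hx hy => intro f E hE hOk; rw [← mul_assoc]; exact hy _ E hE (hx f E hE hOk)
  -- one through all of `W`
  obtain ⟨A₀, hA₀⟩ := CDLattice.exists_maxAbelian (P := S)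
  haveI : Nonempty {A // A ∈ maxAbelianSubgroups S} := ⟨⟨A₀, hA₀⟩⟩
  set W0 := W.comap (bs (1 : Amal B)) with hW0
  obtain ⟨⟨A, hA⟩, hmax⟩ := Finite.exists_max (α := {A // A ∈ maxAbelianSubgroups S})
    fun A => Nat.card (W0 ⊓ A.1 : Subgroup S)
  have hWs : W ≤ (bs (1 : Amal B)).range := (hWQ 1 i₀).trans (map_qI (1 : Amal B) i₀ ▸ Subgroup.map_le_range _ _)
  have hWA : W ≤ (W0 ⊓ A).map (bs 1) := iSup_le fun ⟨f, α⟩ => by
    have hE : (W0 ⊓ A).map (bs 1) ≤ W := (Subgroup.map_mono inf_le_left).trans (Subgroup.map_comap_le _ _)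
    have h1 : Ok f ((W0 ⊓ A).map (bs 1)) := by
      have := htrav f 1 _ hE ⟨A, hA, Subgroup.map_mono inf_le_right⟩
      rwa [one_mul] at this
    obtain ⟨A₁, hA₁, -, hEA⟩ := hrep f α _ hE h1
    have hY : (yI B α).map (emb f α) ≤ W :=
      le_iSup (fun x : Amal B × Ix B => (yI B x.2).map (emb x.1 x.2)) (f, α)
    obtain ⟨A₂, hA₂, hle⟩ : Ok 1 ((W0 ⊓ A).map (bs 1) ⊔ (yI B α).map (emb f α)) := by
      have := htrav f⁻¹ f _ (sup_le hE hY) ⟨A₁, hA₁, hEA⟩
      rwa [mul_inv_cancel] at this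
    have h2 : W0 ⊓ A ≤ W0 ⊓ A₂ := le_inf inf_le_left
      ((Subgroup.map_le_map_iff_of_injective (bs_injective 1)).1 (le_sup_left.trans hle))
    rw [Subgroup.eq_of_le_of_card_ge h2 (hmax ⟨A₂, hA₂⟩), Subgroup.map_inf _ _ _ (bs_injective 1),
      hW0, Subgroup.map_comap_eq_self hWs]
    exact le_inf hY (le_sup_right.trans hle)
  have hW0A : W0 ≤ A := fun x hx => by
    obtain ⟨a, ha, he⟩ := hWA hx
    exact bs_injective _ he ▸ ha.2
  haveI := hA.1
  have hAC : A ≤ Subgroup.centralizer (W0 : Set S) :=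
    (Subgroup.le_centralizer A).trans (Subgroup.centralizer_le (SetLike.coe_subset_coe.2 hW0A))
  have hyW : ∀ i : Ix B, i.1.yb ≤ W0 := fun i y hy => Subgroup.mem_iSup_of_mem ((1 : Amal B), i)
    (show bs 1 y ∈ (yI B i).map (emb 1 i) by rw [map_yI]; exact ⟨y, hy, rfl⟩)
  have hn : ∀ α : Ix B, (W0.map α.1.e).Normal := by
    refine fun α => ⟨?_⟩
    rintro _ ⟨x, hx, rfl⟩ g
    have h1 := hWn (emb 1 α g) _ (show emb 1 α (α.1.e x) ∈ W by rw [emb_e]; exact hx)
    rw [← map_inv, ← map_mul, ← map_mul] at h1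
    obtain ⟨w, hw, hwe⟩ := hWQ 1 α h1
    obtain ⟨s, rfl⟩ := α.1.Q_le hw
    refine ⟨s, ?_, emb_injective 1 α hwe⟩
    show bs 1 s ∈ W
    rw [← emb_e 1 α, hwe]
    exact h1
  set C := Subgroup.centralizer (W0 : Set S)
  have hCle : C ≤ ⨆ σ : MulAut S, C.map σ.toMonoidHom := fun x hx =>
    Subgroup.mem_iSup_of_mem 1 ⟨x, hx, rfl⟩
  refine ⟨⨆ σ : MulAut S, C.map σ.toMonoidHom, fun h0 => ?_, ?_, fun i => ?_, A, hA, hAC.trans hCle⟩
  · obtain ⟨y, hy, hyz⟩ := i₀.1.exists_not_center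
    have h1 := hCle (hAC (hW0A (hyW i₀ hy)))
    rw [h0, Subgroup.mem_bot] at h1
    exact hyz (h1 ▸ one_mem _)
  · refine Subgroup.characteristic_iff_map_le.2 fun τ => ?_
    rw [Subgroup.map_iSup]
    refine iSup_le fun σ => le_trans (le_of_eq ?_) (le_iSup _ (τ * σ))
    rw [Subgroup.map_map]
    rfl
  · rw [Subgroup.map_iSup]
    haveI : ∀ σ : MulAut S, ((C.map σ.toMonoidHom).map i.1.e).Normal := fun σ => by
      rw [Subgroup.map_map]
      exact Leg.normal_centralizer_map (i.1.twist σ) (hn ⟨i.1.twist σ, htw _ _ i.2⟩) (hyW ⟨i.1.twist σ, htw _ _ i.2⟩)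
    exact Subgroup.iSup_normal _

end Fam

/-- Two characteristic subgroups, one of which is normal in every group over `S`, the second one containing an abelian subgroup of largest order. -/
theorem exists_pair_cl [hp : Fact p.Prime] (hS : IsPGroup p S) (h : sZero p S ≠ ⊥) :
    ∃ S₁ S₂ : Subgroup S, S₁ ≠ ⊥ ∧ S₂ ≠ ⊥ ∧ S₁.Characteristic ∧ S₂.Characteristic ∧
      S₁ ≤ Subgroup.center S ∧ (∃ A ∈ maxAbelianSubgroups S, A ≤ S₂) ∧ ∀ L : Leg S p, (S₁.map L.e).Normal ∨ (S₂.map L.e).Normal := by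
  classical
  have hex : ∃ k, ∃ T : Subgroup S, Good p T ∧ Nat.card T = k := by
    obtain ⟨T, hT⟩ := exists_good hS h
    exact ⟨_, T, hT, rfl⟩
  obtain ⟨T, hT, hTk⟩ := Nat.find_spec hex
  have hmin : ∀ T' : Subgroup S, Good p T' → T' ≤ T → T' = T := fun T' hT' hle =>
    Subgroup.eq_of_le_of_card_ge hle (hTk ▸ Nat.find_min' hex ⟨T', hT', rfl⟩)
  let B : Leg S p → Prop := fun L => ¬ T ≤ L.cb
  have htw : ∀ L σ, B L → B (L.twist σ) := fun L σ hL h' => hL ((L.twist_le_cb hT.char σ).1 h')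
  have hun : ∀ i j : Fam.Ix B, i.1.yb ≤ j.1.qb := fun i j => by
    by_contra hn
    exact j.2 (hT.paired j.1 ⟨i.1, hn⟩)
  by_cases hne : Nonempty (Fam.Ix B)
  swap
  · obtain ⟨A, hA⟩ := CDLattice.exists_maxAbelian (P := S)
    refine ⟨T, ⊤, hT.ne, fun h0 => hT.ne (le_bot_iff.1 (le_top.trans h0.le)), hT.char, inferInstance, hT.le_center,
      ⟨A, hA, le_top⟩, fun L => Or.inl (normal_of_le_cb ?_)⟩
    by_contra hL
    exact hne ⟨⟨L, hL⟩⟩
  obtain ⟨i₀⟩ := hne
  have hrest : ∀ (X : Subgroup S), X.Characteristic → X ≠ ⊥ → (∀ i : Fam.Ix B, (X.map i.1.e).Normal) → (∃ A ∈ maxAbelianSubgroups S, A ≤ X) →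
      ∃ S₁ S₂ : Subgroup S, S₁ ≠ ⊥ ∧ S₂ ≠ ⊥ ∧ S₁.Characteristic ∧ S₂.Characteristic ∧
        S₁ ≤ Subgroup.center S ∧ (∃ A ∈ maxAbelianSubgroups S, A ≤ S₂) ∧ ∀ L : Leg S p, (S₁.map L.e).Normal ∨ (S₂.map L.e).Normal := by
    refine fun X hX hXne hXn hA => ⟨T, X, hT.ne, hXne, hT.char, hX, hT.le_center, hA, fun L => ?_⟩
    by_cases hL : T ≤ L.cb
    · exact Or.inl (normal_of_le_cb hL)
    · exact Or.inr (hXn ⟨L, hL⟩)
  by_cases hsome : ∃ i : Fam.Ix B, Fam.Nn i
  swap
  · have hUn : ∀ i : Fam.Ix B, ((Fam.uB B).map i.1.e).Normal := fun i => by_contra fun hi => hsome ⟨i, hi⟩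
    haveI : (Fam.uB B).Characteristic := Leg.char_iSup B (fun L => L.yb) htw fun L σ => L.twist_yb σ
    obtain ⟨A, hA, hAU⟩ := Fam.exists_maxAbelian_uB hun
    haveI := hA.1
    have hAC : A ≤ Subgroup.centralizer (Fam.uB B : Set S) :=
      (Subgroup.le_centralizer A).trans (Subgroup.centralizer_le (SetLike.coe_subset_coe.2 hAU))
    refine hrest (Subgroup.centralizer (Fam.uB B : Set S)) inferInstance (fun h0 => ?_)
      (fun i => i.1.normal_centralizer_map (hUn i) (le_iSup (fun i : Fam.Ix B => i.1.yb) i)) ⟨A, hA, hAC⟩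
    obtain ⟨y, hy, hyz⟩ := i₀.1.exists_not_center
    have h1 := hAC (hAU (le_iSup (fun i : Fam.Ix B => i.1.yb) i₀ hy))
    rw [h0, Subgroup.mem_bot] at h1
    exact hyz (h1 ▸ one_mem _)
  by_cases htwin : Fam.Twin B
  · have hcon := Fam.no_escape hun htwin fun hp2 i hle =>
      i.2 ((le_inf (hT.odd hp2) hT.le_center).trans hle)
    obtain ⟨X, hX1, hX2, hX3, hX4⟩ := Fam.exists_closed_cl htw i₀ hcon
    exact hrest X hX2 hX1 hX3 hX4
  -- some member has no companion: the subgroup can be made smaller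
  exfalso
  simp only [Fam.Twin, not_forall, not_exists, not_and] at htwin
  obtain ⟨i₁, hi₁⟩ := htwin
  let P : Leg S p → Prop := fun L => B L ∧ ∃ j : Fam.Ix B, Fam.Nn j ∧ L.yb = j.1.yb
  have hU2 : ∀ v ∈ Fam.uB B, ∀ s : S, ⁅v, s⁆ ∈ Subgroup.center S := by
    intro v hv s
    set π := QuotientGroup.mk' (Subgroup.center S)
    have h1 : Fam.uB B ≤ (Subgroup.center (S ⧸ Subgroup.center S)).comap π := iSup_le fun i y hy => by
      refine Subgroup.mem_center_iff.2 fun w => ?_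
      obtain ⟨t, rfl⟩ := QuotientGroup.mk'_surjective (Subgroup.center S) w
      refine (commutatorElement_eq_one_iff_mul_comm.1 ?_).symm
      rw [← map_commutatorElement]
      exact (QuotientGroup.eq_one_iff _).2 (i.1.comm_yb_center hy t)
    have h2 := Subgroup.mem_center_iff.1 (h1 hv) (π s)
    rw [← QuotientGroup.eq_one_iff, ← QuotientGroup.mk'_apply, map_commutatorElement,
      commutatorElement_eq_one_iff_mul_comm]
    exact h2.symm
  have hflat : ∀ L : Fam.Ix B, (∀ j : Fam.Ix B, j.1.yb = L.1.yb → ¬ Fam.Nn j) →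
      ⨆ i : {H : Leg S p // P H}, ⁅i.1.yb, (⊤ : Subgroup S)⁆ ≤ L.1.cb := by
    intro L hL
    refine iSup_le fun ⟨H, hHB, j, hjn, hj⟩ => Subgroup.commutator_le.2 fun y hy s _ => ?_
    exact Leg.flat_comm L.1 H (U := Fam.uB B) (not_not.1 (hL L rfl)) (iSup_le fun i => hun i L) hU2
      (le_iSup (fun i : Fam.Ix B => i.1.yb) L) (le_iSup (fun i : Fam.Ix B => i.1.yb) ⟨H, hHB⟩)
      (hun L ⟨H, hHB⟩) (fun he => hL j (hj.symm.trans he) hjn) hy s
  set T' := T ⊓ ⨆ i : {H : Leg S p // P H}, ⁅i.1.yb, (⊤ : Subgroup S)⁆ with hT'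
  have hU : (Fam.uB B).Characteristic := Leg.char_iSup B (fun L => L.yb) htw fun L σ => L.twist_yb σ
  have hnn : ∀ L : Fam.Ix B, Fam.Nn L → ∀ σ, Fam.Nn (⟨L.1.twist σ, htw _ _ L.2⟩ : Fam.Ix B) := by
    intro L hL σ hn
    refine hL ?_
    have e : (Fam.uB B).map L.1.e = (Fam.uB B).map (L.1.e.comp σ.toMonoidHom) := by
      rw [← Subgroup.map_map, Subgroup.characteristic_iff_map_eq.1 hU σ]
    rw [e]
    exact hn
  have hPtw : ∀ L σ, P L → P (L.twist σ) := by
    rintro L σ ⟨hB, j, hjn, hj⟩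
    exact ⟨htw L σ hB, ⟨j.1.twist σ, htw _ _ j.2⟩, hnn j hjn σ, by rw [Leg.twist_yb, hj]; rfl⟩
  have hlow : ∀ L : Leg S p, P L → T ⊓ ⁅L.yb, (⊤ : Subgroup S)⁆ ≤ T' := fun L hL =>
    inf_le_inf_left T (le_iSup (fun i : {H : Leg S p // P H} => ⁅i.1.yb, (⊤ : Subgroup S)⁆) ⟨L, hL⟩)
  have hgood : Good p T' := by
    refine ⟨?_, fun h0 => ?_, inf_le_left.trans hT.le_center, fun L hL => inf_le_left.trans (hT.paired L hL),
      fun L hL hLT => ?_, fun h2 => inf_le_left.trans (hT.odd h2)⟩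
    · haveI := hT.char
      haveI := Leg.char_iSup P (fun L => ⁅L.yb, (⊤ : Subgroup S)⁆) hPtw fun L σ => L.comm_twist σ
      exact Subgroup.characteristic_inf
    · obtain ⟨j, hj⟩ := hsome
      refine hT.unpaired j.1 (fun hjp => j.2 (hT.paired j.1 hjp)) j.2 (le_bot_iff.1 ?_)
      exact h0 ▸ hlow j.1 ⟨j.2, j, hj, rfl⟩
    · have hLB : B L := fun hle => hLT (inf_le_left.trans hle)
      by_cases hPL : P L
      · intro h0
        refine hT.unpaired L hL hLB (le_bot_iff.1 (h0 ▸ le_inf (hlow L hPL) inf_le_right))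
      · exact absurd (inf_le_right.trans (hflat ⟨L, hLB⟩ fun j hj hjn => hPL ⟨hLB, j, hjn, hj.symm⟩)) hLT
  exact i₁.2 (hmin T' hgood inf_le_left ▸ inf_le_right.trans (hflat i₁ hi₁))

end Cfsg.Agent.PushUp
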