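import Mathlib.GroupTheory.PGroup
import Mathlib.GroupTheory.Sylow
import Mathlib.GroupTheory.Nilpotent
import Cfsg.Agent.Lib.Fusion.NPC

/-!
# Odd automorphisms fixing the real elements of a 2-group

If an element of odd order normalises a 2-subgroup `T` and centralises every element of `T` that
is inverted inside `T`, then it centralises `T` (Isaacs-Navarro).
-/

set_option autoImplicit false

namespace Cfsg.Agent.RealFix

variable {G : Type*} [Group G] [Finite G]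

theorem mem_normalizer_of_forall {T : Subgroup G} {a : G} (h : ∀ x ∈ T, a * x * a⁻¹ ∈ T) :
    a ∈ Subgroup.normalizer (T : Set G) :=
  Cfsg.Agent.Fusion.mem_normalizer_of_cj_le (by rintro _ ⟨x, hx, rfl⟩; exact h x hx)

theorem fixes_of_fix_real {a : G} (ha : Odd (orderOf a)) : ∀ (n : ℕ) (T : Subgroup G), Nat.card T = n →
    IsPGroup 2 T → a ∈ Subgroup.normalizer (T : Set G) →
    (∀ x ∈ T, (∃ y ∈ T, y * x * y⁻¹ = x⁻¹) → a * x * a⁻¹ = x) → ∀ x ∈ T, a * x * a⁻¹ = x := by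
  intro n
  induction n using Nat.strong_induction_on with
  | _ n ih =>
  intro T hn hT haT hre x hx
  haveI : Fact (Nat.Prime 2) := ⟨Nat.prime_two⟩
  set f : G →* G := (MulAut.conj a).toMonoidHom with hf
  have hfdef : ∀ u : G, f u = a * u * a⁻¹ := fun u => rfl
  have hfT : ∀ u ∈ T, f u ∈ T := fun u hu => (Subgroup.mem_normalizer_iff.1 haT u).1 hu
  have hfT' : ∀ u ∈ T, ∃ u' ∈ T, f u' = u := fun u hu =>
    ⟨a⁻¹ * u * a, (Subgroup.mem_normalizer_iff.1 haT _).2 (by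
      rwa [show a * (a⁻¹ * u * a) * a⁻¹ = u by group]), by rw [hfdef]; group⟩
  show f x = x
  have hsub : ∀ S : Subgroup G, S ≤ T → S ≠ T → (∀ u ∈ S, f u ∈ S) → ∀ u ∈ S, f u = u := by
    intro S hle hne hinv u hu
    refine ih (Nat.card S) (hn ▸ ?_) S rfl (hT.to_le hle) (mem_normalizer_of_forall hinv) ?_ u hu
    · exact lt_of_le_of_ne (Subgroup.card_le_of_le hle)
        fun e => hne (Subgroup.eq_of_le_of_card_ge hle e.ge)
    · intro v hv ⟨y, hy, he⟩
      exact hre v (hle hv) ⟨y, hle hy, he⟩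
  rcases eq_or_ne T ⊥ with rfl | hTne
  · rw [Subgroup.mem_bot] at hx
    subst hx
    exact map_one f
  -- the subgroup generated by squares
  set D := Subgroup.closure {z : G | ∃ u ∈ T, z = u * u} with hD
  have hDle : D ≤ T := (Subgroup.closure_le _).2 (by rintro _ ⟨u, hu, rfl⟩; exact mul_mem hu hu)
  have hDne : D ≠ T := by
    haveI : Nontrivial T := T.nontrivial_iff_ne_bot.2 hTne
    obtain ⟨k, hk, hcard⟩ := (IsPGroup.nontrivial_iff_card hT).1 inferInstance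
    obtain ⟨M, hM⟩ := Sylow.exists_subgroup_card_pow_prime (G := T) 2 (n := k - 1)
      (hcard ▸ pow_dvd_pow 2 (Nat.sub_le k 1))
    have hidx : M.index = 2 := by
      have h1 := M.card_mul_index
      rw [hM, hcard, show k = (k - 1) + 1 by omega, pow_succ, Nat.add_sub_cancel] at h1
      exact Nat.eq_of_mul_eq_mul_left (pow_pos two_pos _) h1
    intro e
    have hle : D ≤ M.map T.subtype := (Subgroup.closure_le _).2 (by
      rintro _ ⟨u, hu, rfl⟩
      exact ⟨⟨u, hu⟩ * ⟨u, hu⟩, Subgroup.mul_self_mem_of_index_two hidx _, rfl⟩)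
    have hMtop : M = ⊤ := (Subgroup.eq_top_iff' M).2 fun u => by
      obtain ⟨v, hv, hvu⟩ := hle (e.ge u.2)
      rwa [← Subtype.ext hvu]
    rw [hMtop, Subgroup.index_top] at hidx
    omega
  have hDfix : ∀ d ∈ D, f d = d := hsub D hDle hDne fun d hd => by
    have hmap : D.map f ≤ D := by
      rw [hD, MonoidHom.map_closure]
      exact Subgroup.closure_mono (by
        rintro _ ⟨_, ⟨u, hu, rfl⟩, rfl⟩
        exact ⟨f u, hfT u hu, map_mul f u u⟩)
    exact hmap ⟨d, hd, rfl⟩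
  have hsq : ∀ u ∈ T, u * u ∈ D := fun u hu => Subgroup.subset_closure ⟨u, hu, rfl⟩
  have hcD : ∀ u ∈ T, ∀ v ∈ T, u * v * u⁻¹ * v⁻¹ ∈ D := by
    intro u hu v hv
    rw [show u * v * u⁻¹ * v⁻¹ = (u * u) * ((u⁻¹ * v) * (u⁻¹ * v)) * (v⁻¹ * v⁻¹) by group]
    exact mul_mem (mul_mem (hsq u hu) (hsq _ (mul_mem (inv_mem hu) hv))) (hsq _ (inv_mem hv))
  -- `T = [T, a]`
  set E := Subgroup.closure {z : G | ∃ u ∈ T, z = u⁻¹ * f u} with hE
  have hEle : E ≤ T :=
    (Subgroup.closure_le _).2 (by rintro _ ⟨u, hu, rfl⟩; exact mul_mem (inv_mem hu) (hfT u hu))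
  by_cases hEne : E = T
  swap
  · have hEfix : ∀ u ∈ E, f u = u := hsub E hEle hEne fun u hu => by
      have hmap : E.map f ≤ E := by
        rw [hE, MonoidHom.map_closure]
        exact Subgroup.closure_mono (by
          rintro _ ⟨_, ⟨u, hu, rfl⟩, rfl⟩
          exact ⟨f u, hfT u hu, by rw [map_mul, map_inv]⟩)
      exact hmap ⟨u, hu, rfl⟩
    set c := x⁻¹ * f x with hc
    have hcT : c ∈ T := mul_mem (inv_mem hx) (hfT x hx)
    have hcf : f c = c := hEfix c (Subgroup.subset_closure ⟨x, hx, rfl⟩)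
    have hiter : ∀ k : ℕ, a ^ k * x * (a ^ k)⁻¹ = x * c ^ k := by
      intro k
      induction k with
      | zero => simp
      | succ k ihk =>
        rw [pow_succ' a, show a * a ^ k * x * (a * a ^ k)⁻¹ = f (a ^ k * x * (a ^ k)⁻¹) by
          rw [hfdef]; group, ihk, map_mul, map_pow, hcf, pow_succ' c, ← mul_assoc, hc,
          mul_inv_cancel_left]
    have h1 : c ^ orderOf a = 1 := by
      have := hiter (orderOf a)
      rw [pow_orderOf_eq_one, one_mul, inv_one, mul_one] at this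
      exact (left_eq_mul).1 this
    obtain ⟨j, hj⟩ := hT ⟨c, hcT⟩
    have h2 : c ^ 2 ^ j = 1 := congrArg Subtype.val hj
    have h3 := pow_gcd_eq_one.2 ⟨h1, h2⟩
    rw [((Nat.coprime_two_right.2 ha).pow_right j).gcd_eq_one, pow_one, hc] at h3
    exact (inv_mul_eq_one.1 h3).symm
  -- squares are central
  have hcen : ∀ d ∈ D, ∀ t ∈ T, Commute t d := by
    intro d hd
    suffices hle : E ≤ Subgroup.centralizer {d} by
      intro t ht
      exact Subgroup.mem_centralizer_singleton_iff.1 (hle (hEne.ge ht))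
    refine (Subgroup.closure_le _).2 ?_
    rintro _ ⟨u, hu, rfl⟩
    rw [SetLike.mem_coe, Subgroup.mem_centralizer_singleton_iff]
    have hconj : u * d * u⁻¹ ∈ D := by
      rw [show u * d * u⁻¹ = (u * d * u⁻¹ * d⁻¹) * d by group]
      exact mul_mem (hcD u hu d (hDle hd)) hd
    have h1 := hDfix _ hconj
    rw [map_mul, map_mul, map_inv, hDfix d hd] at h1
    calc u⁻¹ * f u * d = u⁻¹ * (f u * d * (f u)⁻¹) * f u := by group
      _ = u⁻¹ * (u * d * u⁻¹) * f u := by rw [h1]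
      _ = d * (u⁻¹ * f u) := by group
  -- commutators with `x`
  have hcomm : ∀ u ∈ T, ∀ v ∈ T, ∀ w ∈ T, Commute w (u * v * u⁻¹ * v⁻¹) :=
    fun u hu v hv w hw => hcen _ (hcD u hu v hv) w hw
  let U : Subgroup G :=
    { carrier := {z | ∃ y ∈ T, z = x * y * x⁻¹ * y⁻¹}
      one_mem' := ⟨1, one_mem _, by group⟩
      mul_mem' := by
        rintro _ _ ⟨y, hy, rfl⟩ ⟨y', hy', rfl⟩
        refine ⟨y * y', mul_mem hy hy', ?_⟩
        have h1 := (hcomm x hx y' hy' y hy).eq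
        calc x * y * x⁻¹ * y⁻¹ * (x * y' * x⁻¹ * y'⁻¹)
            = x * y * x⁻¹ * y⁻¹ * ((x * y' * x⁻¹ * y'⁻¹) * y) * y⁻¹ := by group
          _ = x * y * x⁻¹ * y⁻¹ * (y * (x * y' * x⁻¹ * y'⁻¹)) * y⁻¹ := by rw [← h1]
          _ = x * (y * y') * x⁻¹ * (y * y')⁻¹ := by group
      inv_mem' := by
        rintro _ ⟨y, hy, rfl⟩
        refine ⟨y⁻¹, inv_mem hy, ?_⟩
        have h1 := (hcomm x hx y⁻¹ (inv_mem hy) y hy).eq
        refine inv_eq_of_mul_eq_one_right ?_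
        calc x * y * x⁻¹ * y⁻¹ * (x * y⁻¹ * x⁻¹ * y⁻¹⁻¹)
            = x * y * x⁻¹ * y⁻¹ * ((x * y⁻¹ * x⁻¹ * y⁻¹⁻¹) * y) * y⁻¹ := by group
          _ = x * y * x⁻¹ * y⁻¹ * (y * (x * y⁻¹ * x⁻¹ * y⁻¹⁻¹)) * y⁻¹ := by rw [← h1]
          _ = 1 := by group }
  have hUD : ∀ u ∈ U, u ∈ D := by rintro _ ⟨y, hy, rfl⟩; exact hcD x hx y hy
  let Z : Subgroup G :=
    { carrier := {z | z ∈ T ∧ ∀ y ∈ T, z * y * z⁻¹ * y⁻¹ ∈ U}
      one_mem' := ⟨one_mem _, fun y _ => by simpa using U.one_mem⟩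
      mul_mem' := by
        rintro z w ⟨hz, hzU⟩ ⟨hw, hwU⟩
        refine ⟨mul_mem hz hw, fun y hy => ?_⟩
        have h1 := (hcomm w hw y hy z hz).eq
        rw [show z * w * y * (z * w)⁻¹ * y⁻¹ = (z * (w * y * w⁻¹ * y⁻¹)) * y * z⁻¹ * y⁻¹ by group,
          h1, show w * y * w⁻¹ * y⁻¹ * z * y * z⁻¹ * y⁻¹ =
            (w * y * w⁻¹ * y⁻¹) * (z * y * z⁻¹ * y⁻¹) by group]
        exact U.mul_mem (hwU y hy) (hzU y hy)
      inv_mem' := by
        rintro z ⟨hz, hzU⟩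
        refine ⟨inv_mem hz, fun y hy => ?_⟩
        have h1 := ((hcomm z hz y hy z⁻¹ (inv_mem hz)).inv_right).eq
        rw [show z⁻¹ * y * z⁻¹⁻¹ * y⁻¹ = z⁻¹ * (z * y * z⁻¹ * y⁻¹)⁻¹ * z by group, h1,
          inv_mul_cancel_right]
        exact U.inv_mem (hzU y hy) }
  have hxZ : x ∈ Z := ⟨hx, fun y hy => ⟨y, hy, rfl⟩⟩
  by_cases hZ : Z = T
  swap
  · refine hsub Z (fun z hz => hz.1) hZ (fun z hz => ⟨hfT z hz.1, fun y hy => ?_⟩) x hxZ
    obtain ⟨y', hy', rfl⟩ := hfT' y hy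
    rw [← map_inv, ← map_inv, ← map_mul, ← map_mul, ← map_mul,
      hDfix _ (hUD _ (hz.2 y' hy'))]
    exact hz.2 y' hy'
  have hall : ∀ u ∈ T, ∀ v ∈ T, u * v * u⁻¹ * v⁻¹ ∈ U := fun u hu v hv => (hZ.ge hu).2 v hv
  let W : Subgroup G :=
    { carrier := {w | w ∈ T ∧ w * w ∈ U}
      one_mem' := ⟨one_mem _, by simpa using U.one_mem⟩
      mul_mem' := by
        rintro z w ⟨hz, hzU⟩ ⟨hw, hwU⟩
        refine ⟨mul_mem hz hw, ?_⟩
        have h1 := (hcomm w hw z hz z hz).eq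
        rw [show z * w * (z * w) = (z * (w * z * w⁻¹ * z⁻¹)) * z * (w * w) by group, h1,
          show w * z * w⁻¹ * z⁻¹ * z * z * (w * w) =
            (w * z * w⁻¹ * z⁻¹) * (z * z) * (w * w) by group]
        exact U.mul_mem (U.mul_mem (hall w hw z hz) hzU) hwU
      inv_mem' := by
        rintro z ⟨hz, hzU⟩
        refine ⟨inv_mem hz, ?_⟩
        rw [← mul_inv_rev]
        exact U.inv_mem hzU }
  have hEW : E ≤ W := (Subgroup.closure_le _).2 (by
    rintro _ ⟨u, hu, rfl⟩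
    have hcT : u⁻¹ * f u ∈ T := mul_mem (inv_mem hu) (hfT u hu)
    refine ⟨hcT, ?_⟩
    set c := u⁻¹ * f u with hc
    have h1 : f u * f u = u * u := by rw [← map_mul]; exact hDfix _ (hsq u hu)
    have h2 : u * c * (u * c) = u * u := by
      rw [show u * c = f u by rw [hc, mul_inv_cancel_left]]; exact h1
    have h3 : c * c = u⁻¹ * c⁻¹ * u * c := by
      calc c * c = c * u⁻¹ * (u * c) := by group
        _ = c * u⁻¹ * ((u * c)⁻¹ * (u * c * (u * c))) := by group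
        _ = c * u⁻¹ * ((u * c)⁻¹ * (u * u)) := by rw [h2]
        _ = c * (u⁻¹ * c⁻¹ * u * c) * c⁻¹ := by group
        _ = (u⁻¹ * c⁻¹ * u * c) * c * c⁻¹ := by
          have h4 := (hcomm u⁻¹ (inv_mem hu) c⁻¹ (inv_mem hcT) c hcT).eq
          rw [inv_inv, inv_inv] at h4
          rw [h4]
        _ = u⁻¹ * c⁻¹ * u * c := by group
    rw [h3]
    have := hall u⁻¹ (inv_mem hu) c⁻¹ (inv_mem hcT)
    rwa [inv_inv, inv_inv] at this)
  obtain ⟨-, y, hy, hyx⟩ := hEW (hEne.ge hx)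
  refine hre x hx ⟨y, hy, ?_⟩
  rw [mul_assoc x y, mul_assoc x (y * x⁻¹)] at hyx
  have h5 : x = y * x⁻¹ * y⁻¹ := mul_left_cancel hyx
  conv_rhs => rw [h5]
  group

end Cfsg.Agent.RealFix
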