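import Mathlib

/-!
Dimension bound for irreducible representations in characteristic `p` of groups with a cyclic
trivial-intersection Sylow `p`-subgroup, by the relative trace from the Sylow normaliser.
-/

set_option autoImplicit false

namespace Cfsg.Agent.Solv.RelTrace

variable {F : Type*} [Field F] (p : ℕ) [Fact p.Prime] [CharP F p]

open Polynomial in
theorem geom_X (n : ℕ) :
    ∑ i ∈ Finset.range (p ^ n), (X : F[X]) ^ i = (X - 1) ^ (p ^ n - 1) := by
  have hne : (X : F[X]) - 1 ≠ 0 := by simpa using X_sub_C_ne_zero (1 : F)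
  apply mul_left_cancel₀ hne
  rw [mul_geom_sum, ← pow_succ', Nat.sub_add_cancel (Nat.one_le_pow _ _ (Fact.out : p.Prime).pos),
    sub_pow_char_pow (p := p), one_pow]

variable {A : Type*} [Ring A] [Algebra F A]

include F in
theorem sub_one_pow (a : A) (n : ℕ) : (a - 1) ^ (p ^ n) = a ^ (p ^ n) - 1 := by
  have h := congrArg (Polynomial.aeval (R := F) a)
    (sub_pow_char_pow (p := p) (n := n) (Polynomial.X : Polynomial F) 1)
  simpa using h

include F in
theorem geom_alg (t : A) (n : ℕ) :
    ∑ i ∈ Finset.range (p ^ n), t ^ i = (t - 1) ^ (p ^ n - 1) := by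
  have h := congrArg (Polynomial.aeval (R := F) t) (geom_X (F := F) p n)
  simpa [map_sum] using h

variable {V : Type*} [AddCommGroup V] [Module F V]

/-- A sum over a full cyclic group of order `p ^ n` of conjugates lands deep in the radical. -/
theorem sum_conj_mem (a b : Module.End F V) (hab : a * b = 1) (hba : b * a = 1) (n D : ℕ)
    (hD : (a - 1) ^ D = 0) (θ : Module.End F V) (v : V) :
    (∑ i ∈ Finset.range (p ^ n), a ^ i * θ * b ^ i) v ∈
      LinearMap.range ((a - 1) ^ (p ^ n - D)) := by
  classical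
  set L : Module.End F (Module.End F V) := LinearMap.mulLeft F a with hL
  set R : Module.End F (Module.End F V) := LinearMap.mulRight F b with hR
  set L' : Module.End F (Module.End F V) := LinearMap.mulLeft F (a - 1) with hL'
  set R' : Module.End F (Module.End F V) := LinearMap.mulRight F (b - 1) with hR'
  have hsum : (∑ i ∈ Finset.range (p ^ n), (L * R) ^ i) θ
      = ∑ i ∈ Finset.range (p ^ n), a ^ i * θ * b ^ i := by
    rw [LinearMap.sum_apply]
    refine Finset.sum_congr rfl fun i _ => ?_
    rw [hL, hR, (LinearMap.commute_mulLeft_right a b).mul_pow, Module.End.mul_apply,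
      LinearMap.pow_mulLeft, LinearMap.pow_mulRight]
    simp [mul_assoc]
  have hsplit : L * R - 1 = L' * R + R' := by
    ext1 θ'
    simp [hL, hR, hL', hR', sub_mul, mul_sub]
  have hc : Commute (L' * R) R' := by
    refine Commute.mul_left (LinearMap.commute_mulLeft_right _ _) ?_
    rw [hR, hR']
    change _ * _ = _ * _
    ext1 θ'
    simp [mul_assoc, mul_sub, sub_mul]
  rw [← hsum, geom_alg (F := F) p, hsplit, hc.add_pow, LinearMap.sum_apply, LinearMap.sum_apply]
  refine Submodule.sum_mem _ fun j hj => ?_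
  have hj' : j ≤ p ^ n - 1 := Nat.lt_succ_iff.1 (Finset.mem_range.1 hj)
  rw [Module.End.mul_apply, Module.End.mul_apply, Module.End.natCast_apply,
    (LinearMap.commute_mulLeft_right (R := F) (a - 1) b).mul_pow, Module.End.mul_apply,
    hR', LinearMap.pow_mulLeft, LinearMap.pow_mulRight, LinearMap.pow_mulRight]
  simp only [LinearMap.mulLeft_apply, LinearMap.mulRight_apply]
  set c := Nat.choose (p ^ n - 1) j
  set k := p ^ n - 1 - j
  rcases Nat.lt_or_ge j (p ^ n - D) with hjm | hjm
  · have hk : D ≤ k := by omega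
    have hbX : b - 1 = -(b * (a - 1)) := by rw [mul_sub, hba, mul_one, neg_sub]
    have hcomm : Commute b (a - 1) := by
      change b * (a - 1) = (a - 1) * b
      rw [mul_sub, sub_mul, hab, hba, mul_one, one_mul]
    have hz : (b - 1) ^ k = 0 := by
      rw [hbX, neg_pow, hcomm.mul_pow, pow_eq_zero_of_le hk hD, mul_zero, mul_zero]
    simp [hz]
  · rw [← Nat.add_sub_cancel' hjm, pow_add, mul_assoc, Module.End.mul_apply]
    exact LinearMap.mem_range_self _ _

/-- Summing over a union of free orbits of a cyclic group of order `p ^ n`. -/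
theorem sum_free_orbits_mem {Q : Type*} (n D : ℕ) (a b : Module.End F V) (hab : a * b = 1)
    (hba : b * a = 1) (hD : (a - 1) ^ D = 0) (f : Q → Module.End F V) (s : ℕ → Q → Q)
    (hs0 : ∀ q, s 0 q = q) (hsadd : ∀ i j q, s i (s j q) = s (i + j) q)
    (hsper : ∀ q, s (p ^ n) q = q)
    (hf : ∀ i q, f (s i q) = a ^ i * f q * b ^ i) :
    ∀ U : Finset Q, (∀ q ∈ U, ∀ i, s i q ∈ U) →
      (∀ q ∈ U, ∀ i, i < p ^ n → ∀ j, j < p ^ n → s i q = s j q → i = j) → ∀ v : V,
      (∑ q ∈ U, f q) v ∈ LinearMap.range ((a - 1) ^ (p ^ n - D)) := by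
  classical
  intro U
  induction U using Finset.strongInduction with
  | _ U ih =>
    intro hclosed hfree v
    rcases U.eq_empty_or_nonempty with rfl | ⟨q0, hq0⟩
    · simp
    have hpos : 0 < p ^ n := pow_pos (Fact.out : p.Prime).pos n
    have hmod : ∀ i q, s i q = s (i % p ^ n) q := by
      have hmul : ∀ k q, s (p ^ n * k) q = q := by
        intro k
        induction k with
        | zero => intro q; simpa using hs0 q
        | succ k ihk => intro q; rw [Nat.mul_succ, ← hsadd, hsper, ihk]
      intro i q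
      conv_lhs => rw [← Nat.mod_add_div i (p ^ n), ← hsadd, hmul]
    set O : Finset Q := (Finset.range (p ^ n)).image fun i => s i q0 with hO
    have hOU : O ⊆ U := fun q hq => by
      obtain ⟨i, _, rfl⟩ := Finset.mem_image.1 hq
      exact hclosed q0 hq0 i
    have hsumO : ∑ q ∈ O, f q = ∑ i ∈ Finset.range (p ^ n), a ^ i * f q0 * b ^ i := by
      rw [hO, Finset.sum_image]
      · exact Finset.sum_congr rfl fun i _ => hf i q0
      · intro i hi j hj h
        exact hfree q0 hq0 i (Finset.mem_range.1 hi) j (Finset.mem_range.1 hj) h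
    rw [← Finset.sum_sdiff hOU, LinearMap.add_apply]
    refine Submodule.add_mem _ ?_ (by rw [hsumO]; exact sum_conj_mem p a b hab hba n D hD _ v)
    refine ih (U \ O) ?_ ?_ (fun q hq => hfree q (Finset.mem_sdiff.1 hq).1) v
    · refine Finset.sdiff_ssubset hOU ⟨q0, Finset.mem_image.2 ⟨0, Finset.mem_range.2 hpos, hs0 q0⟩⟩
    · intro q hq i
      refine Finset.mem_sdiff.2 ⟨hclosed q (Finset.mem_sdiff.1 hq).1 i, fun hmem => ?_⟩
      obtain ⟨j, -, hj⟩ := Finset.mem_image.1 hmem
      apply (Finset.mem_sdiff.1 hq).2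
      refine Finset.mem_image.2 ⟨(p ^ n - i % p ^ n + j) % p ^ n,
        Finset.mem_range.2 (Nat.mod_lt _ hpos), ?_⟩
      have hlt := Nat.mod_lt i hpos
      rw [← hmod, ← hsadd, hj, hmod i, hsadd, Nat.sub_add_cancel hlt.le, hsper]

end Cfsg.Agent.Solv.RelTrace
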