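import Cfsg.Agent.Lib.Solv.SFourCoreAux
import Cfsg.Agent.Lib.Solv.HallHigman

/-!
An involution of an elementary abelian subgroup of largest order which inverts, modulo a
self-centralizing 2-group, an element `r` of odd order forces `r` to centralize every big module.
-/

set_option autoImplicit false

universe u

open Cfsg
open scoped commutatorElement Pointwise

namespace Cfsg.Agent.Solv.SFour

variable {G : Type u} [Group G] [Finite G]

theorem card_le_fixed_mul {E Z : Subgroup G} (hE : IsElementaryAbelian 2 E) {v : G}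
    (hv : v ∈ Subgroup.normalizer (E : Set G)) (h : ∀ e ∈ E, v * e * v⁻¹ * e ∈ Z) :
    Nat.card E ≤ Nat.card (E ⊓ Subgroup.centralizer {v} : Subgroup G) * Nat.card Z := by
  let f : E →* G := MonoidHom.mk' (fun e => v * (e : G) * v⁻¹ * e) fun x y => by
    show v * ((x : G) * y) * v⁻¹ * ((x : G) * y) = v * x * v⁻¹ * x * (v * y * v⁻¹ * y)
    rw [show v * ((x : G) * y) * v⁻¹ * ((x : G) * y) = v * x * v⁻¹ * ((v * y * v⁻¹) * x) * y by group,
      Local.elemAb_commute hE (conj_mem_of_mem_normalizer hv y.2) x.2]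
    group
  have h1 := f.ker.card_mul_index
  rw [Subgroup.index_ker] at h1
  rw [← h1]
  refine Nat.mul_le_mul ?_ (Subgroup.card_le_of_le ?_)
  · rw [← card_map_subtype f.ker]
    refine Subgroup.card_le_of_le ?_
    rintro _ ⟨x, hx, rfl⟩
    refine ⟨x.2, Subgroup.mem_centralizer_singleton_iff.2 ?_⟩
    have hx' : v * (x : G) * v⁻¹ * x = 1 := hx
    have hxx : (x : G)⁻¹ = x := inv_eq_of_mul_eq_one_right (by rw [← pow_two]; exact hE.2 x x.2)
    have h2 := eq_inv_of_mul_eq_one_left hx'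
    rw [hxx, mul_inv_eq_iff_eq_mul] at h2
    exact h2.symm
  · rintro _ ⟨e, rfl⟩
    exact h e e.2

/-- A big module inside `T` lies in the normal subgroup `Q` of index two in `T`. -/
theorem le_of_big (hS4 : ¬ Involves (Equiv.Perm (Fin 4)) G) {Q T V : Subgroup G} [Q.Normal]
    (hQ : IsPGroup 2 Q) (hC : Subgroup.centralizer (Q : Set G) ≤ Q) (hQT : Q ≤ T)
    (hTQ : Nat.card T ≤ 2 * Nat.card Q) (hVT : V ≤ T) (hV : IsElementaryAbelian 2 V)
    (hTV : T ≤ Subgroup.normalizer (V : Set G)) (hbig : Big T V) {r : G}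
    (hro : Odd (orderOf r)) (hr1 : r ≠ 1) (hinv : ∀ v ∈ V, v ∉ Q → v * r * v⁻¹ * r ∈ Q) :
    V ≤ Q := by
  haveI : Fact (Nat.Prime 2) := ⟨Nat.prime_two⟩
  intro v hv
  by_contra hvQ
  have hvr := hinv v hv hvQ
  have hQc : ∀ x ∈ Q, ∀ g : G, g * x * g⁻¹ ∈ Q := fun x hx g => Subgroup.Normal.conj_mem ‹_› x hx g
  have hQn : ∀ g : G, g ∈ Subgroup.normalizer (Q : Set G) := fun g => by
    rw [Subgroup.normalizer_eq_top]; trivial
  set P := (frattini ↥Q).map Q.subtype with hP
  haveI : P.Normal := map_subtype_normal_of_characteristic Q (frattini ↥Q)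
  have hPQ : P ≤ Q := Subgroup.map_subtype_le _
  set mk := QuotientGroup.mk' P with hmk
  have hker : mk.ker = P := QuotientGroup.ker_mk' P
  have hone : ∀ {x : G}, mk x = 1 ↔ x ∈ P := fun {x} => QuotientGroup.eq_one_iff x
  haveI : (Q.map mk).Normal := Subgroup.Normal.map inferInstance mk (QuotientGroup.mk'_surjective P)
  set E := Q.map mk with hE
  have hEe : IsElementaryAbelian 2 E := by
    refine ⟨⟨⟨?_⟩⟩, ?_⟩
    · rintro ⟨_, x, hx, rfl⟩ ⟨_, y, hy, rfl⟩
      apply Subtype.ext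
      show mk x * mk y = mk y * mk x
      rw [← commutatorElement_eq_one_iff_mul_comm, ← map_commutatorElement, hone]
      exact ⟨_, commutatorElement_mem_frattini hQ ⟨x, hx⟩ ⟨y, hy⟩, by simp [commutatorElement_def]⟩
    · rintro _ ⟨x, hx, rfl⟩
      rw [← map_pow, hone]
      exact ⟨_, pow_mem_frattini hQ ⟨x, hx⟩, rfl⟩
  have hEn : ∀ g : G ⧸ P, g ∈ Subgroup.normalizer (E : Set (G ⧸ P)) := fun g => by
    rw [Subgroup.normalizer_eq_top]; trivial
  obtain ⟨e, he, hne⟩ : ∃ e ∈ E, mk r * e * (mk r)⁻¹ ≠ e := by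
    by_contra h
    simp only [not_exists, not_and, not_not, ne_eq] at h
    have hrC : r ∈ Subgroup.centralizer (Q : Set G) :=
      centralizes_of_frattini Q hQ r (hQn r) (Nat.coprime_two_right.2 hro) fun x hx => hone.1 (by
        rw [map_commutatorElement, commutatorElement_eq_one_iff_mul_comm]
        exact ((mul_inv_eq_iff_eq_mul.1 (h (mk x) ⟨x, hx, rfl⟩))).symm)
    obtain ⟨k, hk⟩ := hQ ⟨r, hC hrC⟩
    exact hr1 (orderOf_eq_one_iff.1 (Nat.eq_one_of_dvd_coprimes
      (Nat.Coprime.pow_left k (Nat.coprime_two_left.2 hro))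
      (orderOf_dvd_of_pow_eq_one (congrArg Subtype.val hk : r ^ 2 ^ k = 1)) dvd_rfl))
  have hro' : Odd (orderOf (mk r)) := hro.of_dvd_nat (orderOf_map_dvd mk r)
  have hrv : ∀ x ∈ E, mk r * (mk v * (mk r * x * (mk r)⁻¹) * (mk v)⁻¹) * (mk r)⁻¹ =
      mk v * x * (mk v)⁻¹ := fun x hx => by
    have hc := Local.elemAb_commute hEe (a := mk (r * (v * r * v⁻¹ * r) * r⁻¹))
      ⟨_, hQc _ hvr r, rfl⟩ (Subgroup.Normal.conj_mem ‹E.Normal› x hx (mk v))
    calc mk r * (mk v * (mk r * x * (mk r)⁻¹) * (mk v)⁻¹) * (mk r)⁻¹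
        = mk (r * (v * r * v⁻¹ * r) * r⁻¹) * (mk v * x * (mk v)⁻¹) *
            (mk (r * (v * r * v⁻¹ * r) * r⁻¹))⁻¹ := by
          simp only [map_mul, map_inv]; group
      _ = _ := by rw [hc, mul_inv_cancel_right]
  have hvv : mk v * mk v = 1 := by
    rw [← map_mul, ← pow_two, hV.2 v hv, map_one]
  set D := deltaSub E (mk r) hEe (hEn _) with hD
  have hDE : D ≤ E := deltaSub_le hEe (hEn _)
  have hDe : IsElementaryAbelian 2 D := Local.elemAb_mono hEe hDE
  have hrD := mem_normalizer_deltaSub_self hEe (hEn (mk r))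
  have hvD := mem_normalizer_deltaSub_of_invert hEe (hEn (mk r)) (hEn (mk v)) hrv
  have hneD : ∃ w ∈ D, mk r * w * (mk r)⁻¹ ≠ w := by
    have hDne := deltaSub_ne_bot hEe (hEn (mk r)) he hne
    obtain ⟨w, hw, hw1⟩ := (Subgroup.bot_or_exists_ne_one D).resolve_left hDne
    exact ⟨w, hw, fun h => hw1 (deltaSub_fixed hEe (hEn _) hro' hw h)⟩
  have h4 := four_mul_card_fixed_le (fun h => hS4 (involves_of_quotient h)) hDe hrD hvD hro'
    (fun x _ => by
      rw [show mk v * (mk v * x * (mk v)⁻¹) * (mk v)⁻¹ =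
        (mk v * mk v) * x * (mk v * mk v)⁻¹ by group, hvv, one_mul, inv_one, mul_one])
    (fun x hx => hrv x (hDE hx)) hneD
  set V0 := V ⊓ Q with hV0
  set Z := V0.map mk ⊓ D with hZ
  have hZ4 : 4 ≤ Nat.card Z := by
    refine Nat.le_of_mul_le_mul_right ?_
      (Nat.card_pos (α := (D ⊓ Subgroup.centralizer {mk v} : Subgroup (G ⧸ P))))
    refine h4.trans ((card_le_fixed_mul hDe hvD fun x hx => ?_).trans_eq (mul_comm _ _))
    refine ⟨?_, D.mul_mem (conj_mem_of_mem_normalizer hvD hx) hx⟩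
    obtain ⟨q, hq, rfl⟩ := hDE hx
    have hqq : (mk q)⁻¹ = mk q :=
      inv_eq_of_mul_eq_one_right (by rw [← pow_two]; exact hEe.2 _ ⟨q, hq, rfl⟩)
    refine ⟨⁅v, q⁆, ⟨?_, ?_⟩, ?_⟩
    · rw [show ⁅v, q⁆ = v * (q * v⁻¹ * q⁻¹) by rw [commutatorElement_def]; group]
      exact V.mul_mem hv (conj_mem_of_mem_normalizer (hTV (hQT hq)) (V.inv_mem hv))
    · rw [commutatorElement_def]
      exact Q.mul_mem (hQc q hq v) (Q.inv_mem hq)
    · rw [commutatorElement_def, map_mul, map_mul, map_mul, map_inv, map_inv, hqq]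
  set R := MulAut.conj r • V0 with hR
  have hR0Q : ∀ g : G, MulAut.conj g • V0 ≤ Q := fun g x hx => by
    have h := hQc _ (mem_conj_smul.1 hx).2 g
    rwa [show g * (g⁻¹ * x * g) * g⁻¹ = x by group] at h
  have hR4 : 4 * Nat.card (R ⊓ Subgroup.centralizer (V : Set G) : Subgroup G) ≤ Nat.card R := by
    set K := R ⊓ Subgroup.centralizer (V : Set G) with hK
    set Z' := MulAut.conj (mk r) • Z with hZ'
    have hRE : R.map mk ≤ E := Subgroup.map_mono (hR0Q r)
    have hZR : Z' ≤ R.map mk := fun x hx => by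
      obtain ⟨y, hy, hye⟩ := (mem_conj_smul.1 hx).1
      refine ⟨r * y * r⁻¹, mem_conj_smul.2 ?_, ?_⟩
      · rwa [show r⁻¹ * (r * y * r⁻¹) * r = y by group]
      · rw [map_mul, map_mul, map_inv, hye]; group
    have hinf : Z' ⊓ K.map mk = ⊥ := by
      rw [eq_bot_iff]
      rintro x ⟨hx, k, hk, rfl⟩
      set z := (mk r)⁻¹ * mk k * mk r with hz
      obtain ⟨hzV, hzD⟩ := (mem_conj_smul.1 hx : z ∈ Z)
      have hzv : mk v * z * (mk v)⁻¹ = z := by
        obtain ⟨y, hy, he⟩ := hzV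
        rw [show z = mk y from he.symm, ← map_inv, ← map_mul, ← map_mul,
          Local.elemAb_commute hV hv hy.1,
          mul_inv_cancel_right]
      have hxv : mk v * mk k * (mk v)⁻¹ = mk k := by
        rw [← map_inv, ← map_mul, ← map_mul, Subgroup.mem_centralizer_iff.1 hk.2 v hv,
          mul_inv_cancel_right]
      have hzx : mk r * z * (mk r)⁻¹ = mk k := by rw [hz]; group
      have h := hrv z (hDE hzD)
      rw [hzx, hxv, hzv] at h
      have hc : Commute (mk r ^ 2) z := mul_inv_eq_iff_eq_mul.1 <| by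
        calc mk r ^ 2 * z * (mk r ^ 2)⁻¹ = mk r * (mk r * z * (mk r)⁻¹) * (mk r)⁻¹ := by
              rw [pow_two]; group
          _ = z := by rw [hzx, h]
      obtain ⟨i, hi⟩ := Cfsg.Agent.SFour.exists_sq_pow hro'
      have h5 := (hc.pow_left i).eq
      rw [← hi] at h5
      have hfix : mk r * z * (mk r)⁻¹ = z := by rw [h5, mul_inv_cancel_right]
      rw [Subgroup.mem_bot, ← hzx, hfix]
      exact deltaSub_fixed hEe (hEn _) hro' hzD hfix
    have hp := card_sup_mul_card_inf' Z' (K.map mk) (elem_le_normalizer hEe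
      (hZR.trans hRE) ((Subgroup.map_mono inf_le_left).trans hRE))
    rw [hinf, Subgroup.card_bot, mul_one, hZ', card_conj_smul, ← hZ'] at hp
    have hs : Nat.card Z * Nat.card (K.map mk) ≤ Nat.card (R.map mk) := by
      rw [← hp]
      exact Subgroup.card_le_of_le (sup_le hZR (Subgroup.map_mono inf_le_left))
    rw [Cfsg.Agent.SFour.card_eq_inf_ker_mul mk R, Cfsg.Agent.SFour.card_eq_inf_ker_mul mk K]
    calc 4 * (Nat.card (mk.ker ⊓ K : Subgroup G) * Nat.card (K.map mk))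
        = Nat.card (mk.ker ⊓ K : Subgroup G) * (4 * Nat.card (K.map mk)) := by ring
      _ ≤ Nat.card (mk.ker ⊓ R : Subgroup G) * (Nat.card Z * Nat.card (K.map mk)) :=
          Nat.mul_le_mul (Subgroup.card_le_of_le (inf_le_inf_left _ inf_le_left))
            (Nat.mul_le_mul_right _ hZ4)
      _ ≤ _ := Nat.mul_le_mul_left _ hs
  -- bigness in both directions
  have hV2 : Nat.card V ≤ 2 * Nat.card V0 := by
    have hp := card_sup_mul_card_inf' Q V (fun x _ => hQn x)
    rw [inf_comm] at hp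
    refine Nat.le_of_mul_le_mul_left ?_ (Nat.card_pos (α := Q))
    calc Nat.card Q * Nat.card V = Nat.card (Q ⊔ V : Subgroup G) * Nat.card V0 := hp.symm
      _ ≤ 2 * Nat.card Q * Nat.card V0 :=
          Nat.mul_le_mul_right _ ((Subgroup.card_le_of_le (sup_le hQT hVT)).trans hTQ)
      _ = _ := by ring
  have hone2 : ∀ g : G, Nat.card V0 *
      Nat.card (V ⊓ Subgroup.centralizer ((MulAut.conj g • V0 : Subgroup G) : Set G) : Subgroup G) ≤
        2 * Nat.card ((MulAut.conj g • V0) ⊓ Subgroup.centralizer (V : Set G) : Subgroup G) ^ 2 := by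
    intro g
    have h := hbig _ ((hR0Q g).trans hQT) fun x hx => by
      have h1 := hV.2 _ (mem_conj_smul.1 hx).1
      have h2 : x * x = 1 := by
        calc x * x = g * (g⁻¹ * x * g) ^ 2 * g⁻¹ := by rw [pow_two]; group
          _ = 1 := by rw [h1]; group
      rw [h2]; exact Subgroup.one_mem _
    rw [card_conj_smul] at h
    refine Nat.le_of_mul_le_mul_left ?_ (Nat.card_pos (α := V0))
    calc Nat.card V0 * (Nat.card V0 * _) = Nat.card V0 ^ 2 * _ := by ring
      _ ≤ _ := h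
      _ ≤ 2 * Nat.card V0 * _ := Nat.mul_le_mul_right _ hV2
      _ = _ := by ring
  have hcross : ∀ g : G, Nat.card ((MulAut.conj g⁻¹ • V0) ⊓ Subgroup.centralizer (V : Set G) :
      Subgroup G) ≤ Nat.card (V ⊓ Subgroup.centralizer ((MulAut.conj g • V0 : Subgroup G) : Set G) :
      Subgroup G) := fun g => by
    rw [← card_conj_smul g ((MulAut.conj g⁻¹ • V0) ⊓ Subgroup.centralizer (V : Set G))]
    refine Subgroup.card_le_of_le fun x hx => ?_
    obtain ⟨hx0, hxc⟩ := mem_conj_smul.1 hx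
    have hx0' : x ∈ V0 := by
      have h := mem_conj_smul.1 hx0
      rwa [show g⁻¹⁻¹ * (g⁻¹ * x * g) * g⁻¹ = x by group] at h
    refine ⟨hx0'.1, Subgroup.mem_centralizer_iff.2 fun y hy => ?_⟩
    have h := Subgroup.mem_centralizer_iff.1 hxc _ (mem_conj_smul.1 hy).1
    calc y * x = g * ((g⁻¹ * y * g) * (g⁻¹ * x * g)) * g⁻¹ := by group
      _ = g * ((g⁻¹ * x * g) * (g⁻¹ * y * g)) * g⁻¹ := by rw [h]
      _ = x * y := by group
  have h1 := (Nat.mul_le_mul_left _ (hcross r)).trans (hone2 r)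
  have hc' := hcross r⁻¹
  rw [inv_inv] at hc'
  have h2 := (Nat.mul_le_mul_left _ hc').trans (hone2 r⁻¹)
  have hp4 : 4 * Nat.card (R ⊓ Subgroup.centralizer (V : Set G) : Subgroup G) ≤ Nat.card V0 := by
    rw [← card_conj_smul r V0, ← hR]; exact hR4
  have hqn : Nat.card ((MulAut.conj r⁻¹ • V0) ⊓ Subgroup.centralizer (V : Set G) : Subgroup G) ≤
      Nat.card V0 := by
    rw [← card_conj_smul r⁻¹ V0]; exact Subgroup.card_le_of_le inf_le_left
  rw [← hR] at h1 h2
  have hn0 : 0 < Nat.card V0 := Nat.card_pos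
  have hp0 : 0 < Nat.card (R ⊓ Subgroup.centralizer (V : Set G) : Subgroup G) := Nat.card_pos
  have hq0 : 0 < Nat.card ((MulAut.conj r⁻¹ • V0) ⊓ Subgroup.centralizer (V : Set G) : Subgroup G) :=
    Nat.card_pos
  generalize Nat.card V0 = n at h1 h2 hp4 hqn hn0
  generalize Nat.card (R ⊓ Subgroup.centralizer (V : Set G) : Subgroup G) = p at h1 h2 hp4 hp0
  generalize Nat.card ((MulAut.conj r⁻¹ • V0) ⊓ Subgroup.centralizer (V : Set G) : Subgroup G) = q
    at h1 h2 hqn hq0
  -- `n q ≤ 2 p²`, `n p ≤ 2 q²`, `4 p ≤ n`, `q ≤ n`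
  have h3 : n * n ≤ 4 * p * q := by
    refine Nat.le_of_mul_le_mul_left ?_ (Nat.mul_pos hp0 hq0)
    calc p * q * (n * n) = n * q * (n * p) := by ring
      _ ≤ 2 * p ^ 2 * (2 * q ^ 2) := Nat.mul_le_mul h1 h2
      _ = _ := by ring
  have h4' : n ≤ q := by
    refine Nat.le_of_mul_le_mul_left ?_ hn0
    exact h3.trans (Nat.mul_le_mul_right q hp4)
  have h5 : n * n ≤ 2 * p ^ 2 := (Nat.mul_le_mul_left n h4').trans h1
  nlinarith

/-- Big elementary abelian subgroups of `Q` of the same order, each big for the other, commute. -/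
theorem commute_of_big {Q V1 V2 : Subgroup G} (h1 : V1 ≤ Q) (h2 : V2 ≤ Q)
    (e1 : IsElementaryAbelian 2 V1) (e2 : IsElementaryAbelian 2 V2) (b1 : Big Q V1) (b2 : Big Q V2)
    (hc : Nat.card V1 = Nat.card V2) : V1 ≤ Subgroup.centralizer (V2 : Set G) := by
  have hsq : ∀ (V W : Subgroup G), IsElementaryAbelian 2 V →
      ∀ x ∈ V, x * x ∈ Subgroup.centralizer (W : Set G) := fun V W hV x hx => by
    rw [← pow_two, hV.2 x hx]; exact Subgroup.one_mem _
  have i1 := b2 V1 h1 (hsq V1 V2 e1)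
  have i2 := b1 V2 h2 (hsq V2 V1 e2)
  rw [← hc] at i1 i2
  set n := Nat.card V1 with hn
  set p := Nat.card (V1 ⊓ Subgroup.centralizer (V2 : Set G) : Subgroup G) with hp
  set q := Nat.card (V2 ⊓ Subgroup.centralizer (V1 : Set G) : Subgroup G) with hq
  have hp0 : 0 < p := Nat.card_pos
  have hq0 : 0 < q := Nat.card_pos
  have hn0 : 0 < n := Nat.card_pos
  have hqn : q ≤ n := hc ▸ Subgroup.card_le_of_le inf_le_left
  have j1 : n * q ≤ p ^ 2 := Nat.le_of_mul_le_mul_left
    (le_of_eq_of_le (by ring : n * (n * q) = n ^ 2 * q) i1) hn0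
  have j2 : n * p ≤ q ^ 2 := Nat.le_of_mul_le_mul_left
    (le_of_eq_of_le (by ring : n * (n * p) = n ^ 2 * p) i2) hn0
  have j3 : n * n ≤ p * q := by
    refine Nat.le_of_mul_le_mul_left ?_ (Nat.mul_pos hp0 hq0)
    calc p * q * (n * n) = n * q * (n * p) := by ring
      _ ≤ p ^ 2 * q ^ 2 := Nat.mul_le_mul j1 j2
      _ = _ := by ring
  have hnp : n ≤ p := Nat.le_of_mul_le_mul_right (j3.trans (Nat.mul_le_mul_left p hqn)) hn0
  exact inf_eq_left.1 (Subgroup.eq_of_le_of_card_ge inf_le_left hnp)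

theorem core (hS4 : ¬ Involves (Equiv.Perm (Fin 4)) G) {Q V A : Subgroup G} [Q.Normal]
    (hC : Subgroup.centralizer (Q : Set G) ≤ Q) {r a : G} (hro : Odd (orderOf r))
    (haQ : a ∉ Q) (har : a * r * a⁻¹ * r ∈ Q)
    (hT : IsPGroup 2 (Q ⊔ Subgroup.zpowers a : Subgroup G))
    (hVT : V ≤ Q ⊔ Subgroup.zpowers a) (hV : IsElementaryAbelian 2 V)
    (hTV : Q ⊔ Subgroup.zpowers a ≤ Subgroup.normalizer (V : Set G))
    (hbig : Big (Q ⊔ Subgroup.zpowers a) V)
    (hAT : A ≤ Q ⊔ Subgroup.zpowers a) (hA : IsElementaryAbelian 2 A)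
    (hmax : ∀ B : Subgroup G, B ≤ Q ⊔ Subgroup.zpowers a → IsElementaryAbelian 2 B →
      Nat.card B ≤ Nat.card A)
    (haA : a ∈ A) (hAV : ∀ x ∈ A, ∀ v ∈ V, x * v = v * x) :
    ∀ v ∈ V, Commute r v := by
  haveI : Fact (Nat.Prime 2) := ⟨Nat.prime_two⟩
  set T := Q ⊔ Subgroup.zpowers a with hTdef
  rcases eq_or_ne r 1 with rfl | hr1
  · exact fun v _ => Commute.one_left v
  have ha2 : a * a = 1 := by rw [← pow_two]; exact hA.2 a haA
  have hQc : ∀ x ∈ Q, ∀ g : G, g * x * g⁻¹ ∈ Q := fun x hx g => Subgroup.Normal.conj_mem ‹_› x hx g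
  have hQn : ∀ g : G, g ∈ Subgroup.normalizer (Q : Set G) := fun g => by
    rw [Subgroup.normalizer_eq_top]; trivial
  have hQ : IsPGroup 2 Q := hT.to_le le_sup_left
  have hTQ : Nat.card T ≤ 2 * Nat.card Q := by
    have hp := card_sup_mul_card_inf' Q (Subgroup.zpowers a) fun g _ => hQn g
    have h2 : Nat.card (Subgroup.zpowers a) ≤ 2 := by
      rw [Nat.card_zpowers]
      exact Nat.le_of_dvd two_pos (orderOf_dvd_of_pow_eq_one (by rw [pow_two]; exact ha2))
    calc Nat.card T ≤ Nat.card T * Nat.card (Q ⊓ Subgroup.zpowers a : Subgroup G) :=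
          Nat.le_mul_of_pos_right _ Nat.card_pos
      _ = Nat.card Q * Nat.card (Subgroup.zpowers a) := hp
      _ ≤ Nat.card Q * 2 := Nat.mul_le_mul_left _ h2
      _ = _ := mul_comm _ _
  have hVQ : V ≤ Q := by
    refine le_of_big hS4 hQ hC le_sup_left hTQ hVT hV hTV hbig hro hr1 fun v hv hvQ => ?_
    obtain ⟨q, hq, g, hg, rfl⟩ := Subgroup.mem_sup_of_normal_left.1 (hVT hv)
    obtain ⟨i, rfl⟩ := Subgroup.mem_zpowers_iff.1 hg
    rcases Int.even_or_odd' i with ⟨k, rfl | rfl⟩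
    · refine absurd ?_ hvQ
      rw [zpow_mul, zpow_two, ha2, one_zpow, mul_one]; exact hq
    · rw [zpow_add_one, zpow_mul, zpow_two, ha2, one_zpow, one_mul]
      rw [show q * a * r * (q * a)⁻¹ * r =
        q * (a * r * a⁻¹ * r) * (r⁻¹ * q⁻¹ * r⁻¹⁻¹) by group]
      exact Q.mul_mem (Q.mul_mem hq har) (hQc _ (Q.inv_mem hq) r⁻¹)
  -- the module generated by the conjugates
  by_contra hno
  simp only [not_forall] at hno
  obtain ⟨v0, hv0, hv0r⟩ := hno
  set H := Q ⊔ Subgroup.zpowers r with hH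
  set W : Subgroup G := ⨆ h : H, MulAut.conj (h : G) • V with hW
  have hVW : V ≤ W := by
    refine le_trans ?_ (le_iSup (fun h : H => MulAut.conj (h : G) • V) 1)
    rw [OneMemClass.coe_one, conj_one_smul]
  have hWQ : W ≤ Q := iSup_le fun h x hx => by
    have h1 := hQc _ (hVQ (mem_conj_smul.1 hx)) h
    rwa [show (h : G) * ((h : G)⁻¹ * x * h) * (h : G)⁻¹ = x by group] at h1
  have hbQ : Big Q V := hbig.mono le_sup_left
  have hWe : IsElementaryAbelian 2 W := by
    rw [hW, Subgroup.iSup_eq_closure]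
    have hbh : ∀ h : H, Big Q (MulAut.conj (h : G) • V) := fun h => hbQ.conj (hQn _)
    have hVh : ∀ h : H, IsElementaryAbelian 2 (MulAut.conj (h : G) • V) := fun h => by
      rw [conj_smul_eq_map]; exact elemAb_map hV _
    refine Local.elemAb_closure _ ?_ ?_
    · rintro x hx y hy
      obtain ⟨i, hi⟩ := Set.mem_iUnion.1 hx
      obtain ⟨j, hj⟩ := Set.mem_iUnion.1 hy
      have hle := commute_of_big ((le_iSup (fun h : H => MulAut.conj (h : G) • V) i).trans hWQ)
        ((le_iSup (fun h : H => MulAut.conj (h : G) • V) j).trans hWQ) (hVh i) (hVh j) (hbh i)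
        (hbh j) (by rw [card_conj_smul, card_conj_smul])
      exact (Subgroup.mem_centralizer_iff.1 (hle hi) y hj).symm
    · intro x hx
      obtain ⟨i, hi⟩ := Set.mem_iUnion.1 hx
      exact (hVh i).2 x hi
  have hWbig : Big Q W := by
    haveI := Fintype.ofFinite H
    refine big_of_generated hWe Finset.univ (fun h : H => MulAut.conj (h : G) • V)
      (fun i _ => le_iSup (fun h : H => MulAut.conj (h : G) • V) i) ?_ fun i _ => hbQ.conj (hQn _)
    refine iSup_le fun i => ?_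
    exact le_iSup₂_of_le (f := fun (i : H) (_ : i ∈ (Finset.univ : Finset H)) =>
      MulAut.conj (i : G) • V) i (Finset.mem_univ i) le_rfl
  have haV : ∀ v ∈ V, a * v = v * a := hAV a haA
  have haH : ∀ h ∈ H, a * h * a⁻¹ ∈ H := by
    intro h hh
    obtain ⟨q, hq, g, hg, rfl⟩ := Subgroup.mem_sup_of_normal_left.1 hh
    rw [show a * (q * g) * a⁻¹ = (a * q * a⁻¹) * (a * g * a⁻¹) by group]
    refine H.mul_mem (Subgroup.mem_sup_left (hQc q hq a)) ?_
    obtain ⟨i, rfl⟩ := Subgroup.mem_zpowers_iff.1 hg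
    rw [← conj_zpow]
    refine H.zpow_mem ?_ i
    rw [show a * r * a⁻¹ = a * r * a⁻¹ * r * r⁻¹ by group]
    exact H.mul_mem (Subgroup.mem_sup_left har)
      (H.inv_mem (Subgroup.mem_sup_right (Subgroup.mem_zpowers r)))
  have hHW : ∀ g ∈ H, ∀ w ∈ W, g * w * g⁻¹ ∈ W := fun g hg w hw => by
    have hle : MulAut.conj g • W ≤ W := by
      rw [conj_smul_eq_map, hW, Subgroup.map_iSup]
      refine iSup_le fun h => ?_
      rw [← conj_smul_eq_map, conj_smul_conj]
      exact le_iSup (fun h : H => MulAut.conj (h : G) • V) ⟨g * h, H.mul_mem hg h.2⟩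
    exact hle (mem_conj_smul.2 (by rwa [show g⁻¹ * (g * w * g⁻¹) * g = w by group]))
  have haW : ∀ w ∈ W, a * w * a⁻¹ ∈ W := fun w hw => by
    have hle : MulAut.conj a • W ≤ W := by
      rw [conj_smul_eq_map, hW, Subgroup.map_iSup]
      refine iSup_le fun h => ?_
      rw [← conj_smul_eq_map, conj_smul_conj,
        show a * (h : G) = (a * h * a⁻¹) * a by group, ← conj_smul_conj,
        show MulAut.conj a • V = V from conj_smul_of_mem_normalizer
          (Cfsg.Agent.SFour.mem_normalizer_of_forall fun v hv => by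
            rwa [haV v hv, mul_inv_cancel_right])]
      exact le_iSup (fun h : H => MulAut.conj (h : G) • V) ⟨_, haH h h.2⟩
    exact hle (mem_conj_smul.2 (by rwa [show a⁻¹ * (a * w * a⁻¹) * a = w by group]))
  -- pass to the subgroup generated by `Q`, `r` and `a`
  set X := H ⊔ Subgroup.zpowers a with hX
  have hrX : r ∈ X := Subgroup.mem_sup_left (Subgroup.mem_sup_right (Subgroup.mem_zpowers r))
  have haX : a ∈ X := Subgroup.mem_sup_right (Subgroup.mem_zpowers a)
  have hQX : Q ≤ X := le_sup_left.trans le_sup_left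
  have hXW : X ≤ Subgroup.normalizer (W : Set G) := sup_le
    (fun g hg => Cfsg.Agent.SFour.mem_normalizer_of_forall (hHW g hg))
    (Subgroup.zpowers_le.2 (Cfsg.Agent.SFour.mem_normalizer_of_forall haW))
  haveI : (W.subgroupOf X).Normal := Subgroup.normal_subgroupOf_of_le_normalizer hXW
  set A0 := A ⊓ Q with hA0
  have hWX := hWQ.trans hQX
  have hgen : ∀ D : Subgroup X, V.subgroupOf X ≤ D →
      (∀ q ∈ Q.subgroupOf X, ∀ d ∈ D, q * d * q⁻¹ ∈ D) →
      (∀ d ∈ D, (⟨r, hrX⟩ : X) * d * (⟨r, hrX⟩ : X)⁻¹ ∈ D) → W.subgroupOf X ≤ D := by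
    intro D hVD hq hr x hx
    have hle : W ≤ D.map X.subtype := iSup_le fun h => by
      obtain ⟨q, hq', g, hg, he⟩ := Subgroup.mem_sup_of_normal_left.1 h.2
      obtain ⟨i, rfl⟩ := (IsOfFinOrder.mem_powers_iff_mem_zpowers (isOfFinOrder_of_finite r)).2 hg
      intro y hy
      have hy' := mem_conj_smul.1 hy
      set z := (q * r ^ i)⁻¹ * y * (q * r ^ i) with hz
      rw [← he] at hy'
      have hzD : (⟨z, hWX (hVW hy')⟩ : X) ∈ D := hVD hy'
      have hpow : ∀ n : ℕ, ∀ d ∈ D, (⟨r, hrX⟩ : X) ^ n * d * ((⟨r, hrX⟩ : X) ^ n)⁻¹ ∈ D := by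
        intro n
        induction n with
        | zero => intro d hd; simpa using hd
        | succ n ih =>
          intro d hd
          have h2 := hr _ (ih d hd)
          rwa [show (⟨r, hrX⟩ : X) * ((⟨r, hrX⟩ : X) ^ n * d * ((⟨r, hrX⟩ : X) ^ n)⁻¹) *
            (⟨r, hrX⟩ : X)⁻¹ = (⟨r, hrX⟩ : X) ^ (n + 1) * d * ((⟨r, hrX⟩ : X) ^ (n + 1))⁻¹ by
              rw [pow_succ']; group] at h2
      refine ⟨_, hq ⟨q, hQX hq'⟩ hq' _ (hpow i _ hzD), ?_⟩
      show q * (r ^ i * z * (r ^ i)⁻¹) * q⁻¹ = y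
      rw [hz]; group
    obtain ⟨d, hd, hde⟩ := hle hx
    rwa [← Subtype.ext hde]
  refine core_aux (G := X) (fun h => hS4 (involves_of_subgroup h)) (Q := Q.subgroupOf X)
    (W := W.subgroupOf X) (V := V.subgroupOf X) (A0 := A0.subgroupOf X) (r := ⟨r, hrX⟩)
    (a := ⟨a, haX⟩) hQ.comap_subtype ?_ (by rwa [Subgroup.orderOf_mk]) (Subtype.ext ha2) har
    (fun x hx => hVW hx) (fun q hq v hv => show (q : G) * v * (q : G)⁻¹ ∈ V from
      conj_mem_of_mem_normalizer (hTV (Subgroup.mem_sup_left hq)) hv) (fun v hv => Subtype.ext (haV v hv)) hgen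
    (fun x hx => hx.2) (fun x hx => Subtype.ext (by
      rw [Subgroup.coe_mul, Subgroup.coe_one, ← pow_two]; exact hA.2 x hx.1))
    (hWbig.subgroupOf hQX hWX) ?_ ?_
  · refine ⟨⟨⟨fun x y => Subtype.ext (Subtype.ext (Local.elemAb_commute hWe x.2 y.2))⟩⟩, fun x hx =>
      Subtype.ext ?_⟩
    rw [Subgroup.coe_pow, Subgroup.coe_one]
    exact hWe.2 x hx
  · have hA0X : A0 ≤ X := inf_le_right.trans hQX
    rw [card_subgroupOf hWX, card_subgroupOf hA0X]
    set K := A0 ⊓ Subgroup.centralizer (W : Set G) with hK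
    set F := W ⊓ (Subgroup.centralizer (A0 : Set G) ⊓ Subgroup.centralizer {a}) with hF
    have hk : Nat.card (A0.subgroupOf X ⊓
        Subgroup.centralizer ((W.subgroupOf X : Subgroup X) : Set X) : Subgroup X) ≤ Nat.card K := by
      rw [← card_map_subtype, map_inf_centralizer X.subtype_injective,
        Subgroup.map_subgroupOf_eq_of_le hA0X, Subgroup.map_subgroupOf_eq_of_le hWX]
    have hf : Nat.card F ≤ Nat.card (W.subgroupOf X ⊓
        (Subgroup.centralizer ((A0.subgroupOf X : Subgroup X) : Set X) ⊓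
          Subgroup.centralizer {(⟨a, haX⟩ : X)}) : Subgroup X) := by
      rw [← card_subgroupOf (inf_le_left.trans hWX : F ≤ X)]
      refine Subgroup.card_le_of_le fun x hx => ⟨hx.1, Subgroup.mem_centralizer_iff.2 fun y hy =>
        Subtype.ext (Subgroup.mem_centralizer_iff.1 hx.2.1 y hy), ?_⟩
      exact Subgroup.mem_centralizer_singleton_iff.2
        (Subtype.ext (Subgroup.mem_centralizer_singleton_iff.1 hx.2.2))
    have hB : IsElementaryAbelian 2 (K ⊔ W) :=
      Local.elemAb_sup (Local.elemAb_mono hA (inf_le_left.trans inf_le_left)) hWe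
        fun x hx w hw => (Subgroup.mem_centralizer_iff.1 hx.2 w hw).symm
    have hBc := hmax _ (sup_le ((inf_le_left.trans inf_le_left).trans hAT)
      (hWQ.trans le_sup_left)) hB
    have hp := card_sup_mul_card_inf' K W fun w hw =>
      Cfsg.Agent.SFour.mem_normalizer_of_forall fun x hx => by
        rwa [Subgroup.mem_centralizer_iff.1 hx.2 w hw, mul_inv_cancel_right]
    have hA2 : Nat.card A ≤ 2 * Nat.card A0 := by
      have hp' := card_sup_mul_card_inf' Q A fun g _ => hQn g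
      rw [inf_comm] at hp'
      refine Nat.le_of_mul_le_mul_left ?_ (Nat.card_pos (α := Q))
      calc Nat.card Q * Nat.card A = Nat.card (Q ⊔ A : Subgroup G) * Nat.card A0 := hp'.symm
        _ ≤ 2 * Nat.card Q * Nat.card A0 :=
            Nat.mul_le_mul_right _ ((Subgroup.card_le_of_le (sup_le le_sup_left hAT)).trans hTQ)
        _ = _ := by ring
    have hKW : K ⊓ W ≤ F := fun x hx => ⟨hx.2, Subgroup.mem_centralizer_iff.2 fun y hy =>
      Local.elemAb_commute hA hy.1 hx.1.1.1, Subgroup.mem_centralizer_singleton_iff.2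
        (Local.elemAb_commute hA hx.1.1.1 haA)⟩
    calc Nat.card W * _ ≤ Nat.card W * Nat.card K := Nat.mul_le_mul_left _ hk
      _ = Nat.card (K ⊔ W : Subgroup G) * Nat.card (K ⊓ W : Subgroup G) := by rw [hp]; ring
      _ ≤ Nat.card A * Nat.card F := Nat.mul_le_mul hBc (Subgroup.card_le_of_le hKW)
      _ ≤ 2 * Nat.card A0 * Nat.card F := Nat.mul_le_mul_right _ hA2
      _ ≤ _ := Nat.mul_le_mul_left _ hf
  · refine ⟨⟨v0, hQX (hVQ hv0)⟩, hVW hv0, fun h => hv0r ?_⟩
    exact mul_inv_eq_iff_eq_mul.1 (congrArg Subtype.val h : r * v0 * r⁻¹ = v0)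

end Cfsg.Agent.Solv.SFour
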