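import Cfsg.Agent.Lib.Solv.SFourBig

/-!
The central contradiction: a big module `W` moved by an element of odd order which is inverted
modulo a normal 2-group by an involution in an elementary abelian subgroup of largest order.
-/

set_option autoImplicit false

universe u

open Cfsg
open scoped commutatorElement Pointwise

namespace Cfsg.Agent.Solv.SFour

variable {G : Type u} [Group G] [Finite G]

theorem elemAb_map {H : Type*} [Group H] {V : Subgroup G} (hV : IsElementaryAbelian 2 V)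
    (f : G →* H) : IsElementaryAbelian 2 (V.map f) :=
  ⟨⟨⟨by
    rintro ⟨_, x, hx, rfl⟩ ⟨_, y, hy, rfl⟩
    apply Subtype.ext
    show f x * f y = f y * f x
    rw [← map_mul, Local.elemAb_commute hV hx hy, map_mul]⟩⟩, by
    rintro _ ⟨x, hx, rfl⟩
    rw [← map_pow, hV.2 x hx, map_one]⟩

/-- Commutators with the powers of `r`. -/
theorem commutator_zpowers_le {E S : Subgroup G} {r : G} (hr : ∀ x ∈ E, r * x * r⁻¹ ∈ E)
    (h : ∀ x ∈ E, ⁅x, r⁆ ∈ S) : ⁅E, Subgroup.zpowers r⁆ ≤ S := by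
  refine Subgroup.commutator_le.2 fun x hx g hg => ?_
  obtain ⟨i, rfl⟩ := (IsOfFinOrder.mem_powers_iff_mem_zpowers (isOfFinOrder_of_finite r)).2 hg
  clear hg
  induction i generalizing x with
  | zero => simp
  | succ i ih =>
    show ⁅x, r ^ (i + 1)⁆ ∈ S
    have h2 := S.mul_mem (h x hx) (ih _ (hr x hx))
    rwa [show ⁅x, r⁆ * ⁅r * x * r⁻¹, r ^ i⁆ = ⁅x, r ^ (i + 1)⁆ by
      simp only [commutatorElement_def, pow_succ']; group] at h2

/-- An element of odd order inverted modulo a 2-group by an element of `K` lies in `K`. -/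
theorem mem_of_odd_inverted {K Q : Subgroup G} [K.Normal] (hQ : IsPGroup 2 Q) {r a : G}
    (hro : Odd (orderOf r)) (ha : a ∈ K) (har : a * r * a⁻¹ * r ∈ Q) : r ∈ K := by
  set mk := QuotientGroup.mk' K
  have h1 : mk (a * r * a⁻¹ * r) = mk r ^ 2 := by
    rw [map_mul, map_mul, map_mul, map_inv, show mk a = 1 from (QuotientGroup.eq_one_iff a).2 ha]
    simp [pow_two]
  obtain ⟨k, hk⟩ := hQ ⟨_, har⟩
  have hk' : (a * r * a⁻¹ * r) ^ 2 ^ k = 1 := congrArg Subtype.val hk
  have h2 : mk r ^ 2 ^ (k + 1) = 1 := by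
    rw [pow_succ', pow_mul, ← h1, ← map_pow, hk', map_one]
  rw [← QuotientGroup.eq_one_iff]
  exact orderOf_eq_one_iff.1 (Nat.eq_one_of_dvd_coprimes
    (Nat.Coprime.pow_left (k + 1) (Nat.coprime_two_left.2 hro))
    (orderOf_dvd_of_pow_eq_one h2) (orderOf_map_dvd mk r))

theorem arith_core {w c c₀ d k α : ℕ} (hα : 0 < α) (hk : 0 < k) (hc : 0 < c) (h1 : w * k ≤ 2 * α * c)
    (h2 : α ^ 2 * c₀ ≤ w * k ^ 2) (h3 : 4 * d ≤ w) (hcd : c ≤ d) (hcc : c ≤ c₀) :
    d = c ∧ c₀ = c ∧ w = 4 * c := by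
  have e1 : α * c₀ ≤ 2 * c * k := by
    refine Nat.le_of_mul_le_mul_left ?_ hα
    calc α * (α * c₀) = α ^ 2 * c₀ := by ring
      _ ≤ w * k * k := by rw [mul_assoc, ← pow_two]; exact h2
      _ ≤ 2 * α * c * k := Nat.mul_le_mul_right k h1
      _ = α * (2 * c * k) := by ring
  have e2 : α ≤ 2 * k := by
    refine Nat.le_of_mul_le_mul_right ?_ (lt_of_lt_of_le hc hcc)
    calc α * c₀ ≤ 2 * c * k := e1
      _ ≤ 2 * c₀ * k := by gcongr
      _ = 2 * k * c₀ := by ring
  have e3 : w ≤ 4 * c := by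
    refine Nat.le_of_mul_le_mul_right ?_ hk
    calc w * k ≤ 2 * α * c := h1
      _ ≤ 2 * (2 * k) * c := by gcongr
      _ = 4 * c * k := by ring
  have ew : w = 4 * c := by omega
  have e4 : 2 * k ≤ α := by
    refine Nat.le_of_mul_le_mul_right ?_ hc
    subst ew
    have : 2 * (2 * k * c) ≤ 2 * (α * c) := by
      calc 2 * (2 * k * c) = 4 * c * k := by ring
        _ ≤ 2 * α * c := h1
        _ = 2 * (α * c) := by ring
    omega
  have e5 : c₀ ≤ c := by
    refine Nat.le_of_mul_le_mul_left ?_ hα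
    calc α * c₀ ≤ 2 * c * k := e1
      _ = 2 * k * c := by ring
      _ ≤ α * c := Nat.mul_le_mul_right c e4
  omega

set_option maxHeartbeats 1600000 in
theorem core_aux (hS4 : ¬ Involves (Equiv.Perm (Fin 4)) G) {Q W V A0 : Subgroup G} [Q.Normal]
    [W.Normal] (hQ : IsPGroup 2 Q) (hW : IsElementaryAbelian 2 W) {r a : G}
    (hro : Odd (orderOf r)) (ha2 : a * a = 1) (har : a * r * a⁻¹ * r ∈ Q)
    (hVW : V ≤ W) (hVQ : ∀ q ∈ Q, ∀ v ∈ V, q * v * q⁻¹ ∈ V) (haV : ∀ v ∈ V, a * v = v * a)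
    (hgen : ∀ D : Subgroup G, V ≤ D → (∀ q ∈ Q, ∀ d ∈ D, q * d * q⁻¹ ∈ D) →
      (∀ d ∈ D, r * d * r⁻¹ ∈ D) → W ≤ D)
    (hA0Q : A0 ≤ Q) (hA02 : ∀ x ∈ A0, x * x = 1)
    (hbig : Big Q W)
    (hmax : Nat.card W * Nat.card (A0 ⊓ Subgroup.centralizer (W : Set G) : Subgroup G) ≤
      2 * Nat.card A0 * Nat.card (W ⊓ (Subgroup.centralizer (A0 : Set G) ⊓
        Subgroup.centralizer {a}) : Subgroup G))
    (hmove : ∃ w ∈ W, r * w * r⁻¹ ≠ w) : False := by
  haveI : Fact (Nat.Prime 2) := ⟨Nat.prime_two⟩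
  have hQc : ∀ x ∈ Q, ∀ g : G, g * x * g⁻¹ ∈ Q := fun x hx g => Subgroup.Normal.conj_mem ‹_› x hx g
  have hWc : ∀ w ∈ W, ∀ g : G, g * w * g⁻¹ ∈ W := fun w hw g => Subgroup.Normal.conj_mem ‹_› w hw g
  set N1 := (W ⊓ Subgroup.centralizer ({r} : Set G)).normalCore with hN1
  haveI : N1.Normal := by rw [hN1]; infer_instance
  have hN1W : N1 ≤ W := (Subgroup.normalCore_le _).trans inf_le_left
  have hN1r : ∀ n ∈ N1, Commute r n := fun n hn =>
    (Subgroup.mem_centralizer_singleton_iff.1 (Subgroup.normalCore_le _ hn).2).symm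
  set mk := QuotientGroup.mk' N1 with hmk
  have hker : mk.ker = N1 := QuotientGroup.ker_mk' N1
  have hone : ∀ {x : G}, mk x = 1 ↔ x ∈ N1 := fun {x} => QuotientGroup.eq_one_iff x
  haveI : (W.map mk).Normal := Subgroup.Normal.map inferInstance mk (QuotientGroup.mk'_surjective N1)
  haveI : (Q.map mk).Normal := Subgroup.Normal.map inferInstance mk (QuotientGroup.mk'_surjective N1)
  set U' := W.map mk ⊓ Subgroup.centralizer ((Q.map mk : Subgroup (G ⧸ N1)) : Set (G ⧸ N1)) with hU'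
  haveI : U'.Normal := by rw [hU']; infer_instance
  set U := U'.comap mk with hU
  haveI : U.Normal := Subgroup.Normal.comap inferInstance mk
  have hUc : ∀ u ∈ U, ∀ g : G, g * u * g⁻¹ ∈ U := fun u hu g => Subgroup.Normal.conj_mem ‹_› u hu g
  have hUW : U ≤ W := fun x hx => by
    obtain ⟨w, hw, he⟩ := hx.1
    have h : w⁻¹ * x ∈ N1 := hone.1 (by rw [map_mul, map_inv, he, inv_mul_cancel])
    have h2 := W.mul_mem hw (hN1W h)
    rwa [mul_inv_cancel_left] at h2
  have hN1U : N1 ≤ U := fun x hx => by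
    show mk x ∈ U'
    rw [hone.2 hx]; exact U'.one_mem
  have hUQ : ∀ u ∈ U, ∀ q ∈ Q, mk q * mk u = mk u * mk q := fun u hu q hq =>
    Subgroup.mem_centralizer_iff.1 hu.2 (mk q) ⟨q, hq, rfl⟩
  have hUe : IsElementaryAbelian 2 U' := Local.elemAb_mono (elemAb_map hW mk) inf_le_left
  -- the bottom layer is moved by `r`
  have hU'ne : U' ≠ ⊥ := by
    have hWb : W.map mk ≠ ⊥ := fun h => by
      obtain ⟨w, hw, hne⟩ := hmove
      have h1 : mk w = 1 := Subgroup.mem_bot.1 (h ▸ ⟨w, hw, rfl⟩)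
      exact hne (mul_inv_eq_iff_eq_mul.2 (hN1r w (hone.1 h1)).eq)
    obtain ⟨e, he, he1, hec⟩ := exists_fixed_ne (Local.elemAb_isPGroup (elemAb_map hW mk))
      (hQ.map mk) (by rw [Subgroup.normalizer_eq_top]; exact le_top) hWb
    exact fun h => he1 (Subgroup.mem_bot.1 (h ▸ ⟨he, Subgroup.mem_centralizer_iff.2 hec⟩))
  have hlift : ∀ u ∈ U, Commute (mk r) (mk u) → Commute r u := fun u hu hc => by
    have hn : ⁅r, u⁆ ∈ N1 := hone.1 (by
      rw [map_commutatorElement, commutatorElement_eq_one_iff_mul_comm]; exact hc.eq)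
    refine commute_of_step_two hro (c := ⁅r, u⁆) ?_ (hN1r _ hn) ?_
    · rw [← pow_two]; exact hW.2 _ (hN1W hn)
    · rw [commutatorElement_def]; group
  have hne' : ∃ v ∈ U', mk r * v * (mk r)⁻¹ ≠ v := by
    by_contra h
    simp only [not_exists, not_and, not_not, ne_eq] at h
    have hle : U ≤ N1 := by
      refine Subgroup.normal_le_normalCore.2 fun u hu => ⟨hUW hu, ?_⟩
      exact Subgroup.mem_centralizer_singleton_iff.2
        (hlift u hu (mul_inv_eq_iff_eq_mul.1 (h _ hu))).eq.symm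
    refine hU'ne ((eq_bot_iff).2 fun x hx => ?_)
    obtain ⟨y, rfl⟩ := QuotientGroup.mk'_surjective N1 x
    exact Subgroup.mem_bot.2 (hone.2 (hle hx))
  -- the relations on the bottom layer
  have hnorm : ∀ g : G ⧸ N1, g ∈ Subgroup.normalizer (U' : Set (G ⧸ N1)) := fun g => by
    rw [Subgroup.normalizer_eq_top]; trivial
  have haa : ∀ v ∈ U', mk a * (mk a * v * (mk a)⁻¹) * (mk a)⁻¹ = v := fun v _ => by
    rw [show mk a * (mk a * v * (mk a)⁻¹) * (mk a)⁻¹ = mk a * mk a * v * (mk a * mk a)⁻¹ by group,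
      ← map_mul, ha2, map_one, one_mul, inv_one, mul_one]
  have hra : ∀ v ∈ U', mk r * (mk a * (mk r * v * (mk r)⁻¹) * (mk a)⁻¹) * (mk r)⁻¹ =
      mk a * v * (mk a)⁻¹ := fun v hv => by
    have hc := Subgroup.mem_centralizer_iff.1
      (Subgroup.Normal.conj_mem ‹U'.Normal› v hv (mk a)).2 _
      ⟨_, hQc _ har r, rfl⟩
    calc mk r * (mk a * (mk r * v * (mk r)⁻¹) * (mk a)⁻¹) * (mk r)⁻¹
        = mk (r * (a * r * a⁻¹ * r) * r⁻¹) * (mk a * v * (mk a)⁻¹) *
            (mk (r * (a * r * a⁻¹ * r) * r⁻¹))⁻¹ := by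
          simp only [map_mul, map_inv]; group
      _ = _ := by rw [hc, mul_inv_cancel_right]
  have hS4' : ¬ Involves (Equiv.Perm (Fin 4)) (G ⧸ N1) := fun h => hS4 (involves_of_quotient h)
  have hro' : Odd (orderOf (mk r)) := hro.of_dvd_nat (orderOf_map_dvd mk r)
  have h4 := four_mul_card_fixed_le hS4' hUe (hnorm _) (hnorm _) hro' haa hra hne'
  have hkey : ∀ e ∈ U', mk a * e * (mk a)⁻¹ = e →
      mk a * (mk r * e * (mk r)⁻¹) * (mk a)⁻¹ = mk r * e * (mk r)⁻¹ →
      mk r * e * (mk r)⁻¹ = e := fun e he h1 h2 => by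
    have h := hra e he
    rw [h2, h1] at h
    have hc : Commute (mk r ^ 2) e := mul_inv_eq_iff_eq_mul.1 <| by
      calc mk r ^ 2 * e * (mk r ^ 2)⁻¹ = mk r * (mk r * e * (mk r)⁻¹) * (mk r)⁻¹ := by
            rw [pow_two]; group
        _ = e := h
    obtain ⟨k, hk⟩ := Cfsg.Agent.SFour.exists_sq_pow hro'
    have h5 := (hc.pow_left k).eq
    rw [← hk] at h5
    rw [h5, mul_inv_cancel_right]
  -- numerical consequences
  set Ca := Subgroup.centralizer ({a} : Set G) with hCa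
  have hcardU : Nat.card U = Nat.card N1 * Nat.card U' := Cfsg.Agent.SFour.card_comap_mk N1 U'
  set E := (U ⊓ Ca).map mk with hE
  have hEle : E ≤ U' ⊓ Subgroup.centralizer {mk a} := by
    rintro _ ⟨u, hu, rfl⟩
    refine ⟨hu.1, Subgroup.mem_centralizer_singleton_iff.2 ?_⟩
    rw [← map_mul, ← map_mul, Subgroup.mem_centralizer_singleton_iff.1 hu.2]
  have hEcard : Nat.card (U ⊓ Ca : Subgroup G) ≤ Nat.card N1 * Nat.card E := by
    rw [Cfsg.Agent.SFour.card_eq_inf_ker_mul mk (U ⊓ Ca)]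
    exact Nat.mul_le_mul_right _ (Subgroup.card_le_of_le (inf_le_left.trans hker.le))
  have h4U : 4 * Nat.card (U ⊓ Ca : Subgroup G) ≤ Nat.card U := by
    rw [hcardU]
    calc 4 * Nat.card (U ⊓ Ca : Subgroup G)
        ≤ 4 * (Nat.card N1 * Nat.card (U' ⊓ Subgroup.centralizer {mk a} : Subgroup (G ⧸ N1))) :=
          Nat.mul_le_mul_left _
            (hEcard.trans (Nat.mul_le_mul_left _ (Subgroup.card_le_of_le hEle)))
      _ = Nat.card N1 *
            (4 * Nat.card (U' ⊓ Subgroup.centralizer {mk a} : Subgroup (G ⧸ N1))) := by ring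
      _ ≤ _ := Nat.mul_le_mul_left _ h4
  set D := W ⊓ Ca with hD
  have h4W : 4 * Nat.card D ≤ Nat.card W := by
    have hp := card_sup_mul_card_inf' D U (elem_le_normalizer hW inf_le_left hUW)
    refine Nat.le_of_mul_le_mul_right ?_ (Nat.card_pos (α := U))
    calc 4 * Nat.card D * Nat.card U = 4 * (Nat.card D * Nat.card U) := by ring
      _ = 4 * (Nat.card (D ⊔ U : Subgroup G) * Nat.card (D ⊓ U : Subgroup G)) := by rw [hp]
      _ ≤ 4 * (Nat.card W * Nat.card (U ⊓ Ca : Subgroup G)) :=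
          Nat.mul_le_mul_left _ (Nat.mul_le_mul (Subgroup.card_le_of_le (sup_le inf_le_left hUW))
            (Subgroup.card_le_of_le (le_inf inf_le_right (inf_le_left.trans inf_le_right))))
      _ = Nat.card W * (4 * Nat.card (U ⊓ Ca : Subgroup G)) := by ring
      _ ≤ _ := Nat.mul_le_mul_left _ h4U
  have hA0sq : ∀ x ∈ A0, x * x ∈ Subgroup.centralizer (W : Set G) := fun x hx => by
    rw [hA02 x hx]; exact Subgroup.one_mem _
  set F := W ⊓ (Subgroup.centralizer (A0 : Set G) ⊓ Ca) with hF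
  obtain ⟨hDF, hA0F, hw4⟩ := arith_core Nat.card_pos Nat.card_pos Nat.card_pos hmax
    (hbig A0 hA0Q hA0sq) h4W (Subgroup.card_le_of_le (inf_le_inf_left _ inf_le_right))
    (Subgroup.card_le_of_le (inf_le_inf_left _ inf_le_left))
  have hFD : F = D :=
    Subgroup.eq_of_le_of_card_ge (inf_le_inf_left _ inf_le_right) hDF.le
  have hFA0 : F = W ⊓ Subgroup.centralizer (A0 : Set G) :=
    Subgroup.eq_of_le_of_card_ge (inf_le_inf_left _ inf_le_left) hA0F.le
  -- `W = F U`
  have hFU : F ⊓ U = U ⊓ Ca := by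
    refine le_antisymm (le_inf inf_le_right (inf_le_left.trans (inf_le_right.trans inf_le_right))) ?_
    exact le_inf ((inf_le_inf_right _ hUW).trans hFD.ge) inf_le_left
  have hpFU := card_sup_mul_card_inf' F U (elem_le_normalizer hW inf_le_left hUW)
  rw [hFU] at hpFU
  have hWFU : F ⊔ U = W := by
    refine Subgroup.eq_of_le_of_card_ge (sup_le inf_le_left hUW) ?_
    refine Nat.le_of_mul_le_mul_right ?_ (Nat.card_pos (α := (U ⊓ Ca : Subgroup G)))
    rw [hpFU, hw4]
    calc 4 * Nat.card F * Nat.card (U ⊓ Ca : Subgroup G)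
        = Nat.card F * (4 * Nat.card (U ⊓ Ca : Subgroup G)) := by ring
      _ ≤ _ := Nat.mul_le_mul_left _ h4U
  have hU4 : Nat.card U = 4 * Nat.card (U ⊓ Ca : Subgroup G) := by
    rw [hWFU, hw4] at hpFU
    exact Nat.eq_of_mul_eq_mul_left (Nat.card_pos (α := F)) (by rw [← hpFU]; ring)
  have hU'4 : Nat.card U' ≤ 4 * Nat.card E := by
    refine Nat.le_of_mul_le_mul_left ?_ (Nat.card_pos (α := N1))
    rw [← hcardU, hU4]
    calc 4 * Nat.card (U ⊓ Ca : Subgroup G) ≤ 4 * (Nat.card N1 * Nat.card E) :=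
          Nat.mul_le_mul_left _ hEcard
      _ = _ := by ring
  have hEeq : E = U' ⊓ Subgroup.centralizer {mk a} :=
    Subgroup.eq_of_le_of_card_ge hEle (Nat.le_of_mul_le_mul_left (h4.trans hU'4) (by norm_num))
  have hU'16 : Nat.card U' ≤ 16 * Nat.card (U' ⊓ Subgroup.centralizer {mk r} : Subgroup (G ⧸ N1)) := by
    set E' := MulAut.conj (mk r) • E with hE'
    have hE'le : E' ≤ U' := fun x hx => by
      have h := Subgroup.Normal.conj_mem ‹U'.Normal› _ (hEle (mem_conj_smul.1 hx)).1 (mk r)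
      rwa [show mk r * ((mk r)⁻¹ * x * mk r) * (mk r)⁻¹ = x by group] at h
    have hp := card_sup_mul_card_inf' E E' (elem_le_normalizer hUe (hEle.trans inf_le_left) hE'le)
    rw [hE', card_conj_smul, ← hE'] at hp
    have hi : E ⊓ E' ≤ U' ⊓ Subgroup.centralizer {mk r} := by
      rintro x ⟨hx, hx'⟩
      refine ⟨(hEle hx).1, Subgroup.mem_centralizer_singleton_iff.2 ?_⟩
      set e := (mk r)⁻¹ * x * mk r with he
      have hee := hEle (mem_conj_smul.1 hx' : e ∈ E)
      have hex : mk r * e * (mk r)⁻¹ = x := by rw [he]; group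
      have h := hkey e hee.1
        (by rw [← Subgroup.mem_centralizer_singleton_iff.1 hee.2, mul_inv_cancel_right])
        (by rw [hex, ← Subgroup.mem_centralizer_singleton_iff.1 (hEle hx).2, mul_inv_cancel_right])
      rw [hex] at h
      calc x * mk r = mk r * e := by rw [← hex]; group
        _ = mk r * x := by rw [← h]
    refine Nat.le_of_mul_le_mul_left ?_ (Nat.card_pos (α := U'))
    calc Nat.card U' * Nat.card U' ≤ (4 * Nat.card E) * (4 * Nat.card E) := Nat.mul_le_mul hU'4 hU'4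
      _ = 16 * (Nat.card E * Nat.card E) := by ring
      _ ≤ 16 * (Nat.card U' *
            Nat.card (U' ⊓ Subgroup.centralizer {mk r} : Subgroup (G ⧸ N1))) := by
          rw [← hp]
          exact Nat.mul_le_mul_left _ (Nat.mul_le_mul
            (Subgroup.card_le_of_le (sup_le (hEle.trans inf_le_left) hE'le))
            (Subgroup.card_le_of_le hi))
      _ = _ := by ring
  -- the kernel of the action on `W / U`
  haveI : (W.map (QuotientGroup.mk' U)).Normal :=
    Subgroup.Normal.map inferInstance _ (QuotientGroup.mk'_surjective U)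
  set K := (Subgroup.centralizer
    ((W.map (QuotientGroup.mk' U) : Subgroup (G ⧸ U)) : Set (G ⧸ U))).comap (QuotientGroup.mk' U)
    with hK
  haveI : K.Normal := Subgroup.Normal.comap inferInstance _
  have hKmem : ∀ g : G, g ∈ K ↔ ∀ w ∈ W, ⁅g, w⁆ ∈ U := by
    intro g
    rw [hK, Subgroup.mem_comap, Subgroup.mem_centralizer_iff]
    constructor
    · intro h w hw
      rw [← QuotientGroup.eq_one_iff, ← QuotientGroup.mk'_apply, map_commutatorElement,
        commutatorElement_eq_one_iff_mul_comm]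
      exact (h _ ⟨w, hw, rfl⟩).symm
    · rintro h _ ⟨w, hw, rfl⟩
      have h' := (QuotientGroup.eq_one_iff _).2 (h w hw)
      rw [← QuotientGroup.mk'_apply, map_commutatorElement,
        commutatorElement_eq_one_iff_mul_comm] at h'
      exact h'.symm
  have haK : a ∈ K := (hKmem a).2 fun w hw => by
    rw [← hWFU] at hw
    obtain ⟨f, hf, u, hu, rfl⟩ := Subgroup.mem_sup_of_normal_right.1 hw
    have haf : f * a = a * f := Subgroup.mem_centralizer_singleton_iff.1 hf.2.2
    have h1 : ⁅a, u⁆ ∈ U := by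
      rw [commutatorElement_def]; exact U.mul_mem (hUc u hu a) (U.inv_mem hu)
    have e : ⁅a, f * u⁆ = f * ⁅a, u⁆ * f⁻¹ := by
      calc ⁅a, f * u⁆ = (a * f) * u * a⁻¹ * u⁻¹ * f⁻¹ := by rw [commutatorElement_def]; group
        _ = (f * a) * u * a⁻¹ * u⁻¹ * f⁻¹ := by rw [haf]
        _ = f * ⁅a, u⁆ * f⁻¹ := by rw [commutatorElement_def]; group
    rw [e]
    exact hUc _ h1 f
  have hrK : r ∈ K := mem_of_odd_inverted hQ hro haK har
  have hWUV : W ≤ U ⊔ V := by
    refine hgen _ le_sup_right (fun q hq d hd => ?_) fun d hd => ?_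
    · obtain ⟨u, hu, v, hv, rfl⟩ := Subgroup.mem_sup_of_normal_left.1 hd
      rw [show q * (u * v) * q⁻¹ = (q * u * q⁻¹) * (q * v * q⁻¹) by group]
      exact Subgroup.mul_mem_sup (hUc u hu q) (hVQ q hq v hv)
    · have hdW : d ∈ W := sup_le hUW hVW hd
      have h := (U ⊔ V).mul_mem (Subgroup.mem_sup_left ((hKmem r).1 hrK d hdW)) hd
      rwa [show ⁅r, d⁆ * d = r * d * r⁻¹ by rw [commutatorElement_def]; group] at h
  -- `x⁻¹ (r x r⁻¹)` acts trivially on both layers
  have hy1 : ∀ x ∈ Q, x ∈ K → ∀ w ∈ W, mk (x⁻¹ * (r * x * r⁻¹)) * mk w =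
      mk w * mk (x⁻¹ * (r * x * r⁻¹)) := by
    intro x hxQ hxK
    set y := x⁻¹ * (r * x * r⁻¹) with hy
    have hyQ : y ∈ Q := Q.mul_mem (Q.inv_mem hxQ) (hQc x hxQ r)
    have hstab : ∀ w ∈ W, w ∈ (Subgroup.centralizer {mk y}).comap mk →
        mk y * mk w = mk w * mk y := fun w _ h => (Subgroup.mem_centralizer_singleton_iff.1 h).symm
    have hle : U ⊔ V ≤ (Subgroup.centralizer {mk y}).comap mk := by
      refine sup_le (fun u hu => Subgroup.mem_centralizer_singleton_iff.2 (hUQ u hu y hyQ).symm) ?_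
      intro v hv
      have hfix : ∀ z ∈ Q, z ∈ K → mk ⁅z, v⁆ ∈ U' ∧
          mk a * mk ⁅z, v⁆ * (mk a)⁻¹ = mk ⁅z, v⁆ := fun z hzQ hzK => by
        refine ⟨(hKmem z).1 hzK v (hVW hv), ?_⟩
        have hzv : ⁅z, v⁆ ∈ V := by
          rw [commutatorElement_def]; exact V.mul_mem (hVQ z hzQ v hv) (V.inv_mem hv)
        rw [← map_inv, ← map_mul, ← map_mul, haV _ hzv, mul_inv_cancel_right]
      set x' := r * x * r⁻¹ with hx'
      have hx'Q : x' ∈ Q := hQc x hxQ r
      have hx'K : x' ∈ K := Subgroup.Normal.conj_mem ‹K.Normal› x hxK r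
      set u := ⁅r, v⁆ with hu
      have huU : u ∈ U := (hKmem r).1 hrK v (hVW hv)
      have hconj : mk r * mk ⁅x, v⁆ * (mk r)⁻¹ = mk ⁅x', v⁆ := by
        have e : r * ⁅x, v⁆ * r⁻¹ = (x' * u * x'⁻¹) * ⁅x', v⁆ * u⁻¹ := by
          rw [hx', hu]; simp only [commutatorElement_def]; group
        rw [← map_inv, ← map_mul, ← map_mul, e, map_mul, map_mul, map_mul, map_mul, map_inv,
          hUQ u huU x' hx'Q, mul_inv_cancel_right, map_inv]
        have hc : mk u * mk ⁅x', v⁆ = mk ⁅x', v⁆ * mk u := by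
          rw [← map_mul, ← map_mul, Local.elemAb_commute hW (hUW huU)
            (hUW ((hKmem x').1 hx'K v (hVW hv)))]
        rw [hc, mul_inv_cancel_right]
      obtain ⟨he1, he2⟩ := hfix x hxQ hxK
      obtain ⟨-, he3⟩ := hfix x' hx'Q hx'K
      have h := hkey _ he1 he2 (by rw [hconj]; exact he3)
      rw [hconj] at h
      show mk v ∈ Subgroup.centralizer {mk y}
      rw [Subgroup.mem_centralizer_singleton_iff]
      simp only [commutatorElement_def, map_mul, map_inv, mul_left_inj] at h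
      rw [hy, map_mul, map_inv]
      calc mk v * ((mk x)⁻¹ * mk x') = (mk x)⁻¹ * (mk x * mk v * (mk x)⁻¹) * mk x' := by group
        _ = (mk x)⁻¹ * (mk x' * mk v * (mk x')⁻¹) * mk x' := by rw [h]
        _ = (mk x)⁻¹ * mk x' * mk v := by group
    exact fun w hw => hstab w hw (hle (hWUV hw))
  have hy2 : ∀ x ∈ Q, ∀ n ∈ N1, (x⁻¹ * (r * x * r⁻¹)) * n * (x⁻¹ * (r * x * r⁻¹))⁻¹ = n := by
    intro x _ n hn
    have h1 : r⁻¹ * n * r = n := by
      rw [mul_assoc, ← (hN1r n hn).eq, inv_mul_cancel_left]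
    have h2 : r * (x * n * x⁻¹) * r⁻¹ = x * n * x⁻¹ :=
      mul_inv_eq_iff_eq_mul.2 (hN1r _ (Subgroup.Normal.conj_mem inferInstance n hn x)).eq
    calc x⁻¹ * (r * x * r⁻¹) * n * (x⁻¹ * (r * x * r⁻¹))⁻¹
        = x⁻¹ * (r * (x * (r⁻¹ * n * r) * x⁻¹) * r⁻¹) * x := by group
      _ = n := by rw [h1, h2]; group
  -- the commutator subgroup `[Q, r]`
  set Z := Subgroup.zpowers r with hZ
  set R := ⁅Q, Z⁆ with hR
  have hZn : Z ≤ Subgroup.normalizer (Q : Set G) := by
    rw [Subgroup.normalizer_eq_top]; exact le_top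
  have hcoQ : (Nat.card Z).Coprime (Nat.card Q) := by
    obtain ⟨k, hk⟩ := IsPGroup.iff_card.1 hQ
    rw [hk, hZ, Nat.card_zpowers]
    exact Nat.Coprime.pow_right k (Nat.coprime_two_right.2 hro)
  have hZsol : Group.IsSolvable Z := Group.isSolvable_of_comm fun s t => mul_comm' s t
  obtain ⟨hRQ, -, hRn⟩ := commutator_normal_in (K := Q) hZn
  have hRr : ∀ x ∈ R, r * x * r⁻¹ ∈ R := fun x hx =>
    conj_mem_of_mem_normalizer (hRn (Subgroup.mem_zpowers r)) hx
  have hRK : R ≤ K := Subgroup.commutator_le.2 fun q _ g hg => by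
    rw [commutatorElement_def]
    exact K.mul_mem (Subgroup.Normal.conj_mem inferInstance g
      ((Subgroup.zpowers_le.2 hrK) hg) q) (K.inv_mem ((Subgroup.zpowers_le.2 hrK) hg))
  have hRR : ⁅R, Z⁆ = R := commutator_commutator_eq hZn hcoQ (Or.inl hZsol)
  have hcomm_eq : ∀ x : G, ⁅x, r⁆ = (x⁻¹)⁻¹ * (r * x⁻¹ * r⁻¹) := fun x => by
    rw [commutatorElement_def]; group
  have hRW : R ≤ (Subgroup.centralizer ((W.map mk : Subgroup (G ⧸ N1)) : Set (G ⧸ N1))).comap mk := by
    refine hRR.ge.trans (commutator_zpowers_le hRr fun x hx => ?_)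
    rw [hcomm_eq, Subgroup.mem_comap, Subgroup.mem_centralizer_iff]
    rintro _ ⟨w, hw, rfl⟩
    exact (hy1 x⁻¹ (hRQ (R.inv_mem hx)) (hRK (R.inv_mem hx)) w hw).symm
  have hRN : ∀ x ∈ R, ∀ n ∈ N1, x * n * x⁻¹ = n := by
    have h : R ≤ Subgroup.centralizer (N1 : Set G) := by
      refine hRR.ge.trans (commutator_zpowers_le hRr fun x hx => ?_)
      rw [hcomm_eq, Subgroup.mem_centralizer_iff]
      exact fun n hn => (mul_inv_eq_iff_eq_mul.1 (hy2 x⁻¹ (hRQ (R.inv_mem hx)) n hn)).symm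
    intro x hx n hn
    rw [← Subgroup.mem_centralizer_iff.1 (h hx) n hn, mul_inv_cancel_right]
  have hRe : ∀ x ∈ R, ∀ w ∈ W, ⁅x, w⁆ ∈ N1 := fun x hx w hw => hone.1 (by
    rw [map_commutatorElement, commutatorElement_eq_one_iff_mul_comm]
    exact (Subgroup.mem_centralizer_iff.1 (hRW hx) _ ⟨w, hw, rfl⟩).symm)
  have hRsq : ∀ x ∈ R, x * x ∈ Subgroup.centralizer (W : Set G) := fun x hx =>
    Subgroup.mem_centralizer_iff.2 fun w hw => by
      set e := ⁅x, w⁆ with he
      have heN := hRe x hx w hw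
      have hexw : x * w * x⁻¹ = e * w := by rw [he, commutatorElement_def]; group
      have hee : e * e = 1 := by rw [← pow_two]; exact hW.2 e (hN1W heN)
      refine (mul_inv_eq_iff_eq_mul.1 ?_).symm
      calc x * x * w * (x * x)⁻¹ = x * (x * w * x⁻¹) * x⁻¹ := by group
        _ = x * (e * w) * x⁻¹ := by rw [hexw]
        _ = (x * e * x⁻¹) * (x * w * x⁻¹) := by group
        _ = e * (e * w) := by rw [hRN x hx e heN, hexw]
        _ = w := by rw [← mul_assoc, hee, one_mul]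
  have hRCr : R ≤ Subgroup.centralizer
      ((W ⊓ Subgroup.centralizer {r} : Subgroup G) : Set G) := by
    refine hRR.ge.trans (commutator_zpowers_le hRr fun x hx => Subgroup.mem_centralizer_iff.2 ?_)
    intro w hw
    have hwr : r * w * r⁻¹ = w := by
      rw [← Subgroup.mem_centralizer_singleton_iff.1 hw.2, mul_inv_cancel_right]
    set z := x⁻¹ with hz
    have hzR : z ∈ R := R.inv_mem hx
    have heN := hRe z hzR w hw.1
    have h1 : r * ⁅z, w⁆ * r⁻¹ = ⁅z, w⁆ := mul_inv_eq_iff_eq_mul.2 (hN1r _ heN).eq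
    set z' := r * z * r⁻¹ with hz'
    have h2 : z' * w * z'⁻¹ = z * w * z⁻¹ := by
      have e : r * ⁅z, w⁆ * r⁻¹ = z' * (r * w * r⁻¹) * z'⁻¹ * (r * w * r⁻¹)⁻¹ := by
        rw [hz', commutatorElement_def]; group
      rw [hwr, h1, commutatorElement_def] at e
      exact (mul_right_cancel e).symm
    have e2 : ⁅x, r⁆ = z⁻¹ * z' := by rw [hz', hz, commutatorElement_def]; group
    rw [e2]
    calc w * (z⁻¹ * z') = z⁻¹ * (z * w * z⁻¹) * z' := by group
      _ = z⁻¹ * (z' * w * z'⁻¹) * z' := by rw [h2]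
      _ = z⁻¹ * z' * w := by group
  -- fixed points of `r` on `W`
  have hUr : Nat.card U ≤ 16 * Nat.card (U ⊓ Subgroup.centralizer {r} : Subgroup G) := by
    rw [hcardU]
    calc Nat.card N1 * Nat.card U'
        ≤ Nat.card N1 * (16 * Nat.card (U' ⊓ Subgroup.centralizer {mk r} : Subgroup (G ⧸ N1))) :=
          Nat.mul_le_mul_left _ hU'16
      _ = 16 * Nat.card ((U' ⊓ Subgroup.centralizer {mk r}).comap mk) := by
          rw [Cfsg.Agent.SFour.card_comap_mk]; ring
      _ ≤ _ := by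
          refine Nat.mul_le_mul_left _ (Subgroup.card_le_of_le fun x hx => ⟨hx.1, ?_⟩)
          exact Subgroup.mem_centralizer_singleton_iff.2
            (hlift x hx.1 (Subgroup.mem_centralizer_singleton_iff.1 hx.2).symm).eq.symm
  set Cr := W ⊓ Subgroup.centralizer ({r} : Set G) with hCr
  have hZW : Z ≤ Subgroup.normalizer (W : Set G) := by
    rw [Subgroup.normalizer_eq_top]; exact le_top
  have hcoW : (Nat.card Z).Coprime (Nat.card W) := by
    obtain ⟨k, hk⟩ := IsPGroup.iff_card.1 (Local.elemAb_isPGroup hW)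
    rw [hk, hZ, Nat.card_zpowers]
    exact Nat.Coprime.pow_right k (Nat.coprime_two_right.2 hro)
  have hWUC : W ≤ U ⊔ Cr := by
    intro w hw
    obtain ⟨c, hc, hcd⟩ := exists_fixed_in_coset' Z W U hZW hcoW (Or.inl hZsol) hUW
      (by rw [Subgroup.normalizer_eq_top]; exact le_top) hw (fun g hg => by
        have h := hUc _ ((hKmem g).1 ((Subgroup.zpowers_le.2 hrK) hg) w hw) w⁻¹
        rwa [show w⁻¹ * ⁅g, w⁆ * w⁻¹⁻¹ = w⁻¹ * (g * w * g⁻¹) by
          rw [commutatorElement_def]; group] at h)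
    have hcr : c ∈ Cr := ⟨hc.1, Subgroup.centralizer_le
      (Set.singleton_subset_iff.2 (Subgroup.mem_zpowers r)) hc.2⟩
    have h := (U ⊔ Cr).mul_mem (Subgroup.mem_sup_right hcr)
      (Subgroup.mem_sup_left (U.inv_mem hcd))
    rwa [mul_inv_rev, inv_inv, mul_inv_cancel_left] at h
  have hCr16 : Nat.card W ≤ 16 * Nat.card Cr := by
    have hp := card_sup_mul_card_inf' U Cr (elem_le_normalizer hW hUW inf_le_left)
    refine Nat.le_of_mul_le_mul_right ?_
      (Nat.card_pos (α := (U ⊓ Subgroup.centralizer {r} : Subgroup G)))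
    calc Nat.card W * Nat.card (U ⊓ Subgroup.centralizer {r} : Subgroup G)
        ≤ Nat.card (U ⊔ Cr : Subgroup G) * Nat.card (U ⊓ Cr : Subgroup G) :=
          Nat.mul_le_mul (Subgroup.card_le_of_le hWUC)
            (Subgroup.card_le_of_le fun x hx => ⟨hx.1, hUW hx.1, hx.2⟩)
      _ = Nat.card U * Nat.card Cr := hp
      _ ≤ 16 * Nat.card (U ⊓ Subgroup.centralizer {r} : Subgroup G) * Nat.card Cr :=
          Nat.mul_le_mul_right _ hUr
      _ = _ := by ring
  have hR4 : Nat.card R ≤ 4 * Nat.card (R ⊓ Subgroup.centralizer (W : Set G) : Subgroup G) := by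
    refine (Nat.pow_le_pow_iff_left two_ne_zero).1 ?_
    refine Nat.le_of_mul_le_mul_right ?_ (Nat.card_pos (α := Cr))
    calc Nat.card R ^ 2 * Nat.card Cr
        ≤ Nat.card R ^ 2 * Nat.card (W ⊓ Subgroup.centralizer (R : Set G) : Subgroup G) :=
          Nat.mul_le_mul_left _ (Subgroup.card_le_of_le
            (le_inf inf_le_left (Subgroup.le_centralizer_iff.1 hRCr)))
      _ ≤ Nat.card W * Nat.card (R ⊓ Subgroup.centralizer (W : Set G) : Subgroup G) ^ 2 :=
          hbig R hRQ hRsq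
      _ ≤ 16 * Nat.card Cr * Nat.card (R ⊓ Subgroup.centralizer (W : Set G) : Subgroup G) ^ 2 :=
          Nat.mul_le_mul_right _ hCr16
      _ = _ := by ring
  haveI : (Subgroup.centralizer (W : Set G)).Normal := inferInstance
  set s := r ^ 3 with hs
  have hR3 : ∀ x ∈ R, x⁻¹ * (s * x * s⁻¹) ∈ R ⊓ Subgroup.centralizer (W : Set G) := fun x hx =>
    cube_congr inf_le_left (Cfsg.Agent.SFour.mem_normalizer_of_forall hRr)
      (Cfsg.Agent.SFour.mem_normalizer_of_forall fun c hc =>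
        ⟨hRr c hc.1, Subgroup.Normal.conj_mem inferInstance c hc.2 r⟩) hR4 hro hx
  -- `r` and `r ^ 3` have the same fixed points on `W`
  have hs_fix : ∀ w ∈ W, Commute s w → Commute r w := by
    intro w hw hsw
    obtain ⟨u, hu, c, hc, rfl⟩ := Subgroup.mem_sup_of_normal_left.1 (hWUC hw)
    have hcr : Commute r c := (Subgroup.mem_centralizer_singleton_iff.1 hc.2).symm
    have hsu : Commute s u := by
      have h := hsw.mul_right (hcr.pow_left 3).inv_right
      rwa [mul_inv_cancel_right] at h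
    refine Commute.mul_right (hlift u hu ?_) hcr
    set C0 := U' ⊓ Subgroup.centralizer ({mk s} : Set (G ⧸ N1)) with hC0
    by_contra hno
    have hiter : ∀ k : ℕ, ∀ v ∈ U', mk r ^ k *
        (mk a * (mk r ^ k * v * (mk r ^ k)⁻¹) * (mk a)⁻¹) * (mk r ^ k)⁻¹ =
          mk a * v * (mk a)⁻¹ := by
      intro k
      induction k with
      | zero => intro v _; simp
      | succ k ih =>
        intro v hv
        set v' := mk r ^ k * v * (mk r ^ k)⁻¹ with hv'
        have h := hra v' (Subgroup.Normal.conj_mem ‹U'.Normal› v hv _)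
        rw [show mk r ^ (k + 1) * v * (mk r ^ (k + 1))⁻¹ = mk r * v' * (mk r)⁻¹ by
          rw [hv', pow_succ']; group, pow_succ]
        calc mk r ^ k * mk r * (mk a * (mk r * v' * (mk r)⁻¹) * (mk a)⁻¹) * (mk r ^ k * mk r)⁻¹
            = mk r ^ k * (mk r * (mk a * (mk r * v' * (mk r)⁻¹) * (mk a)⁻¹) * (mk r)⁻¹) *
                (mk r ^ k)⁻¹ := by group
          _ = _ := by rw [h]; exact ih v hv
    refine hS4' (involves_of_cube (Local.elemAb_mono hUe inf_le_left : IsElementaryAbelian 2 C0)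
      (r := mk r) (a := mk a) ?_ ?_ hro' (fun v hv => haa v hv.1) (fun v hv => hra v hv.1)
      (fun v hv => ?_) ⟨mk u, ⟨hu, ?_⟩, fun h => hno (mul_inv_eq_iff_eq_mul.1 h)⟩)
    · refine Cfsg.Agent.SFour.mem_normalizer_of_forall fun v hv =>
        ⟨Subgroup.Normal.conj_mem ‹U'.Normal› v hv.1 _, Subgroup.mem_centralizer_singleton_iff.2 ?_⟩
      have h1 : Commute (mk s) (mk r) := by
        rw [hs, map_pow]; exact (Commute.refl _).pow_left 3
      have h2 : Commute (mk s) v := (Subgroup.mem_centralizer_singleton_iff.1 hv.2).symm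
      exact ((h1.mul_right h2).mul_right h1.inv_right).eq.symm
    · refine Cfsg.Agent.SFour.mem_normalizer_of_forall fun v hv =>
        ⟨Subgroup.Normal.conj_mem ‹U'.Normal› v hv.1 _, Subgroup.mem_centralizer_singleton_iff.2 ?_⟩
      have h := hiter 3 v hv.1
      rw [← map_pow, ← hs] at h
      have h2 : mk s * v * (mk s)⁻¹ = v := by
        rw [← Subgroup.mem_centralizer_singleton_iff.1 hv.2, mul_inv_cancel_right]
      rw [h2] at h
      exact (mul_inv_eq_iff_eq_mul.1 h).symm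
    · have h := (Subgroup.mem_centralizer_singleton_iff.1 hv.2).symm
      rw [hs, map_pow] at h
      exact h
    · exact Subgroup.mem_centralizer_singleton_iff.2
        (by rw [← map_mul, ← map_mul, hsu.eq])
  have hRW' : R ≤ Subgroup.centralizer (W : Set G) := by
    rw [Subgroup.le_centralizer_iff]
    set Zs := Subgroup.zpowers s with hZs
    have hcos : (Nat.card Zs).Coprime (Nat.card W) := by
      obtain ⟨k, hk⟩ := IsPGroup.iff_card.1 (Local.elemAb_isPGroup hW)
      rw [hk, hZs, Nat.card_zpowers]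
      exact Nat.Coprime.pow_right k (Nat.coprime_two_right.2 (odd_pow hro 3))
    have hZsW : Zs ≤ Subgroup.normalizer (W : Set G) := by
      rw [Subgroup.normalizer_eq_top]; exact le_top
    have hsol : Group.IsSolvable Zs := Group.isSolvable_of_comm fun p q => mul_comm' p q
    refine (commutator_sup_fixed hZsW hcos (Or.inl hsol)).ge.trans (sup_le ?_ ?_)
    · refine commutator_zpowers_le (fun w hw => hWc w hw s) fun w hw =>
        Subgroup.mem_centralizer_iff.2 fun x hx => ?_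
      set e := ⁅x, w⁆ with he
      have heN := hRe x hx w hw
      have hes : s * e * s⁻¹ = e := mul_inv_eq_iff_eq_mul.2 ((hN1r _ heN).pow_left 3).eq
      obtain ⟨-, hcC⟩ := hR3 x hx
      set c := x⁻¹ * (s * x * s⁻¹) with hc
      set w' := s * w * s⁻¹ with hw'
      have hcw : c * w' * c⁻¹ = w' := by
        rw [← Subgroup.mem_centralizer_iff.1 hcC w' (hWc w hw s), mul_inv_cancel_right]
      have h1 : x * w' * x⁻¹ = e * w' := by
        calc x * w' * x⁻¹ = x * (c * w' * c⁻¹) * x⁻¹ := by rw [hcw]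
          _ = (s * ⁅x, w⁆ * s⁻¹) * w' := by rw [hc, hw', commutatorElement_def]; group
          _ = e * w' := by rw [← he, hes]
      have h2 : x * w * x⁻¹ = e * w := by rw [he, commutatorElement_def]; group
      have h3 : x * ⁅w, s⁆ * x⁻¹ = ⁅w, s⁆ := by
        have ew : ⁅w, s⁆ = w * w'⁻¹ := by rw [hw', commutatorElement_def]; group
        rw [ew, show x * (w * w'⁻¹) * x⁻¹ = (x * w * x⁻¹) * (x * w' * x⁻¹)⁻¹ by group, h1, h2]
        calc e * w * (e * w')⁻¹ = e * (w * w'⁻¹) * e⁻¹ := by group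
          _ = w * w'⁻¹ := by
              rw [Local.elemAb_commute hW (hN1W heN) (W.mul_mem hw (W.inv_mem (hWc w hw s))),
                mul_inv_cancel_right]
      exact mul_inv_eq_iff_eq_mul.1 h3
    · rintro w ⟨hw, hwc⟩
      rw [Subgroup.mem_centralizer_iff]
      intro x hx
      have hcs : Commute s w := Subgroup.mem_centralizer_iff.1 hwc s (Subgroup.mem_zpowers s)
      exact (Subgroup.mem_centralizer_iff.1 (hRCr hx) w
        ⟨hw, Subgroup.mem_centralizer_singleton_iff.2 (hs_fix w hw hcs).eq.symm⟩).symm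
  -- `r` fixes the fixed points of `a` on the bottom layer
  have hFr : ∀ f ∈ F, r * f * r⁻¹ ∈ F := by
    intro f hf
    rw [hFA0]
    refine ⟨hWc f hf.1 r, Subgroup.mem_centralizer_iff.2 fun a0 ha0 => ?_⟩
    have hcR : ⁅a0, r⁻¹⁆ ∈ R :=
      Subgroup.commutator_mem_commutator (hA0Q ha0) (Subgroup.inv_mem _ (Subgroup.mem_zpowers r))
    set c := ⁅a0, r⁻¹⁆ with hc
    have hcf : c⁻¹ * f * c = f := by
      rw [mul_assoc, Subgroup.mem_centralizer_iff.1 (hRW' hcR) f hf.1, inv_mul_cancel_left]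
    have haf : a0 * f * a0⁻¹ = f := by
      rw [Subgroup.mem_centralizer_iff.1 hf.2.1 a0 ha0, mul_inv_cancel_right]
    have e : a0 * (r * f * r⁻¹) * a0⁻¹ = r * f * r⁻¹ := by
      calc a0 * (r * f * r⁻¹) * a0⁻¹ = r * (c⁻¹ * (a0 * f * a0⁻¹) * c) * r⁻¹ := by
            rw [hc, commutatorElement_def]; group
        _ = r * f * r⁻¹ := by rw [haf, hcf]
    exact mul_inv_eq_iff_eq_mul.1 e
  refine hS4' (involves_of_index_four hUe (hnorm _) (hnorm _) hro' haa hra ?_ hne')
  refine hU'4.trans (Nat.mul_le_mul_left _ (Subgroup.card_le_of_le fun e he => ?_))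
  obtain ⟨u, hu, rfl⟩ := he
  refine ⟨hu.1, Subgroup.mem_centralizer_singleton_iff.2 ?_⟩
  have huF : u ∈ F := hFD.ge ⟨hUW hu.1, hu.2⟩
  have hru : r * u * r⁻¹ ∈ Ca := (hFr u huF).2.2
  have h := hkey (mk u) hu.1
    (by rw [← map_inv, ← map_mul, ← map_mul, ← Subgroup.mem_centralizer_singleton_iff.1 hu.2,
      mul_inv_cancel_right])
    (by rw [← map_inv, ← map_inv, ← map_mul, ← map_mul, ← map_mul, ← map_mul,
      ← Subgroup.mem_centralizer_singleton_iff.1 hru, mul_inv_cancel_right])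
  exact (mul_inv_eq_iff_eq_mul.1 h).symm

end Cfsg.Agent.Solv.SFour
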