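import Cfsg.Agent.Lib.Lead.SFourConstrained
import Cfsg.Agent.Lib.Local.CentralizerTrick
import Cfsg.Agent.Lib.Fusion.LinearStable
import Cfsg.Agent.Lib.Fusion.PGroupAux

/-!
An element of odd order inverted modulo the kernel on an elementary abelian 2-group `V`, in a group
without sections `S₄`: the inverting element centralizes a subgroup of index at least four.
-/

set_option autoImplicit false

universe u

open Cfsg
open scoped commutatorElement Pointwise

namespace Cfsg.Agent.Solv.SFour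

variable {G : Type u} [Group G]

theorem involves_of_subgroup {H : Subgroup G} (h : Involves (Equiv.Perm (Fin 4)) H) [Finite G] :
    Involves (Equiv.Perm (Fin 4)) G :=
  Fusion.involves_trans h (Fusion.involves_subgroup Fusion.involves_refl H)

theorem involves_of_quotient {N : Subgroup G} [N.Normal] [Finite G]
    (h : Involves (Equiv.Perm (Fin 4)) (G ⧸ N)) : Involves (Equiv.Perm (Fin 4)) G :=
  Fusion.involves_trans h
    (Fusion.involves_surjective Fusion.involves_refl (QuotientGroup.mk' N)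
      (QuotientGroup.mk'_surjective N))

theorem commute_of_step_two [Finite G] {r x c : G} (hro : Odd (orderOf r)) (hc : c * c = 1)
    (hrc : Commute r c) (he : r * x * r⁻¹ = c * x) : Commute r x := by
  refine CentTrick.commute_of_step hrc he ?_
  exact (Nat.coprime_two_right.2 hro).coprime_dvd_right
    (orderOf_dvd_of_pow_eq_one (by rw [pow_two, hc]))

theorem odd_pow [Finite G] {r : G} (hro : Odd (orderOf r)) (k : ℕ) : Odd (orderOf (r ^ k)) :=
  hro.of_dvd_nat (orderOf_pow_dvd k)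

theorem conj_congr_pow {C : Subgroup G} {g x : G} (hg : g ∈ Subgroup.normalizer (C : Set G))
    (h : x⁻¹ * (g * x * g⁻¹) ∈ C) : ∀ k : ℕ, x⁻¹ * (g ^ k * x * (g ^ k)⁻¹) ∈ C := by
  intro k
  induction k with
  | zero => simp
  | succ k ih =>
    have h2 := C.mul_mem h (conj_mem_of_mem_normalizer hg ih)
    rwa [show x⁻¹ * (g * x * g⁻¹) * (g * (x⁻¹ * (g ^ k * x * (g ^ k)⁻¹)) * g⁻¹) =
      x⁻¹ * (g ^ (k + 1) * x * (g ^ (k + 1))⁻¹) by rw [pow_succ']; group] at h2

/-- On at most four cosets, one of which it fixes, the cube of an element of odd order is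
trivial. -/
theorem cube_congr [Finite G] {E C : Subgroup G} (hCE : C ≤ E) {r : G}
    (hrE : r ∈ Subgroup.normalizer (E : Set G)) (hrC : r ∈ Subgroup.normalizer (C : Set G))
    (hcard : Nat.card E ≤ 4 * Nat.card C) (hro : Odd (orderOf r)) {x : G} (hx : x ∈ E) :
    x⁻¹ * (r ^ 3 * x * (r ^ 3)⁻¹) ∈ C := by
  classical
  have hq : Nat.card (E ⧸ C.subgroupOf E) ≤ 4 := by
    have h := Subgroup.card_eq_card_quotient_mul_card_subgroup (C.subgroupOf E)
    rw [card_subgroupOf hCE] at h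
    rw [h] at hcard
    exact Nat.le_of_mul_le_mul_right hcard Nat.card_pos
  have hmem : ∀ k : ℕ, r ^ k * x * (r ^ k)⁻¹ ∈ E := fun k =>
    conj_mem_of_mem_normalizer (Subgroup.pow_mem _ hrE k) hx
  let f : Option (Fin 4) → E ⧸ C.subgroupOf E := fun o =>
    o.elim ((1 : E) : E ⧸ C.subgroupOf E)
      (fun i => ((⟨r ^ (i : ℕ) * x * (r ^ (i : ℕ))⁻¹, hmem i⟩ : E) : E ⧸ C.subgroupOf E))
  haveI := Fintype.ofFinite (E ⧸ C.subgroupOf E)
  obtain ⟨o, o', hne, heq⟩ := Fintype.exists_ne_map_eq_of_card_lt f (by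
    rw [Fintype.card_option, Fintype.card_fin, ← Nat.card_eq_fintype_card]
    omega)
  have hdown : ∀ i : ℕ, ∀ c ∈ C, (r ^ i)⁻¹ * c * r ^ i ∈ C := fun i c hc => by
    have h := conj_mem_of_mem_normalizer (Subgroup.inv_mem _ (Subgroup.pow_mem _ hrC i)) hc
    rwa [inv_inv] at h
  have hin : ∀ i : ℕ, r ^ i * x * (r ^ i)⁻¹ ∈ C → x⁻¹ * (r ^ 3 * x * (r ^ 3)⁻¹) ∈ C := by
    intro i hi
    have hxC : x ∈ C := by
      have h := hdown i _ hi
      rwa [show (r ^ i)⁻¹ * (r ^ i * x * (r ^ i)⁻¹) * r ^ i = x by group] at h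
    exact C.mul_mem (C.inv_mem hxC)
      (conj_mem_of_mem_normalizer (Subgroup.pow_mem _ hrC 3) hxC)
  have hkey : ∀ i j : Fin 4, i < j →
      (r ^ (i : ℕ) * x * (r ^ (i : ℕ))⁻¹)⁻¹ * (r ^ (j : ℕ) * x * (r ^ (j : ℕ))⁻¹) ∈ C →
      x⁻¹ * (r ^ 3 * x * (r ^ 3)⁻¹) ∈ C := by
    intro i j hij h
    obtain ⟨m, hm⟩ := Nat.exists_eq_add_of_lt (Fin.lt_def.1 hij)
    have h1 : x⁻¹ * (r ^ (m + 1) * x * (r ^ (m + 1))⁻¹) ∈ C := by
      have h2 := hdown i _ h
      rwa [show (j : ℕ) = (i : ℕ) + (m + 1) by omega,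
        show (r ^ (i : ℕ))⁻¹ * ((r ^ (i : ℕ) * x * (r ^ (i : ℕ))⁻¹)⁻¹ *
          (r ^ ((i : ℕ) + (m + 1)) * x * (r ^ ((i : ℕ) + (m + 1)))⁻¹)) * r ^ (i : ℕ) =
          x⁻¹ * (r ^ (m + 1) * x * (r ^ (m + 1))⁻¹) by simp only [pow_add]; group] at h2
    have h2 := conj_congr_pow (Subgroup.pow_mem _ hrC (m + 1)) h1
    have hj := j.isLt
    obtain rfl | rfl | rfl : m = 0 ∨ m = 1 ∨ m = 2 := by omega
    · simpa using h2 3
    · obtain ⟨k, hk⟩ := Cfsg.Agent.SFour.exists_sq_pow hro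
      have h3 := h2 (k * 3)
      rwa [pow_mul (r ^ (1 + 1)) k 3, ← hk] at h3
    · exact h1
  rcases o with _ | i <;> rcases o' with _ | j
  · exact absurd rfl hne
  · refine hin j ?_
    have h := QuotientGroup.eq.1 heq
    simpa [Subgroup.mem_subgroupOf] using h
  · refine hin i ?_
    have h := QuotientGroup.eq.1 heq.symm
    simpa [Subgroup.mem_subgroupOf] using h
  · have hij : i ≠ j := fun e => hne (by rw [e])
    rcases lt_or_gt_of_ne hij with h | h
    · exact hkey i j h (by simpa [Subgroup.mem_subgroupOf] using QuotientGroup.eq.1 heq)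
    · exact hkey j i h (by simpa [Subgroup.mem_subgroupOf] using QuotientGroup.eq.1 heq.symm)

variable [Finite G]

/-- `r` inverted by `a` on `V` and of order three there gives a section `S₄`. -/
theorem involves_of_cube {V : Subgroup G} (hV : IsElementaryAbelian 2 V) {r a : G}
    (hr : r ∈ Subgroup.normalizer (V : Set G)) (ha : a ∈ Subgroup.normalizer (V : Set G))
    (hro : Odd (orderOf r)) (haa : ∀ v ∈ V, a * (a * v * a⁻¹) * a⁻¹ = v)
    (hra : ∀ v ∈ V, r * (a * (r * v * r⁻¹) * a⁻¹) * r⁻¹ = a * v * a⁻¹)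
    (h3 : ∀ v ∈ V, Commute (r ^ 3) v) (hne : ∃ v ∈ V, r * v * r⁻¹ ≠ v) :
    Involves (Equiv.Perm (Fin 4)) G := by
  set N := Subgroup.normalizer (V : Set G)
  haveI : (V.subgroupOf N).Normal := Subgroup.normal_subgroupOf_of_le_normalizer le_rfl
  refine involves_of_subgroup (H := N) ?_
  refine Cfsg.Agent.SFour.involves_of_inverted (V.subgroupOf N)
    (fun v hv w hw => Subtype.ext (Local.elemAb_commute hV hv hw))
    (fun v hv => Subtype.ext (by
      rw [Subgroup.coe_mul, Subgroup.coe_one, ← pow_two]; exact hV.2 v hv))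
    ⟨r, hr⟩ ⟨a, ha⟩ (by rwa [Subgroup.orderOf_mk]) (fun v hv => Subtype.ext ?_)
    (fun v hv => Subtype.ext ?_) (fun v hv => Subtype.ext ?_) ?_
  · show r * (r * (r * (v : G) * r⁻¹) * r⁻¹) * r⁻¹ = v
    have h := (h3 v hv).eq
    calc r * (r * (r * (v : G) * r⁻¹) * r⁻¹) * r⁻¹ = r ^ 3 * v * (r ^ 3)⁻¹ := by
          rw [pow_succ, pow_two]; group
      _ = v := by rw [h, mul_inv_cancel_right]
  · exact haa v hv
  · exact hra v hv
  · obtain ⟨v, hv, h⟩ := hne
    exact ⟨⟨v, Subgroup.le_normalizer hv⟩, hv, fun e => h (congrArg Subtype.val e)⟩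

/-- `r` inverted by `a` on `V`, nontrivially, with fixed points of index at most four gives a
section `S₄`. -/
theorem involves_of_index_four {V : Subgroup G} (hV : IsElementaryAbelian 2 V) {r a : G}
    (hr : r ∈ Subgroup.normalizer (V : Set G)) (ha : a ∈ Subgroup.normalizer (V : Set G))
    (hro : Odd (orderOf r)) (haa : ∀ v ∈ V, a * (a * v * a⁻¹) * a⁻¹ = v)
    (hra : ∀ v ∈ V, r * (a * (r * v * r⁻¹) * a⁻¹) * r⁻¹ = a * v * a⁻¹)
    (hidx : Nat.card V ≤ 4 * Nat.card (V ⊓ Subgroup.centralizer {r} : Subgroup G))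
    (hne : ∃ v ∈ V, r * v * r⁻¹ ≠ v) :
    Involves (Equiv.Perm (Fin 4)) G := by
  refine involves_of_cube hV hr ha hro haa hra (fun v hv => ?_) hne
  set C := V ⊓ Subgroup.centralizer ({r} : Set G) with hC
  have hrC : r ∈ Subgroup.normalizer (C : Set G) := by
    refine Cfsg.Agent.SFour.mem_normalizer_of_forall fun c hc => ?_
    have h : c * r = r * c := Subgroup.mem_centralizer_singleton_iff.1 hc.2
    rwa [← h, mul_inv_cancel_right]
  have hc := cube_congr inf_le_left hr hrC hidx hro hv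
  set c := v⁻¹ * (r ^ 3 * v * (r ^ 3)⁻¹)
  have hcr : Commute r c := ((Subgroup.mem_centralizer_singleton_iff.1 hc.2).symm : r * c = c * r)
  refine commute_of_step_two (odd_pow hro 3) (by rw [← pow_two]; exact hV.2 c hc.1)
    (hcr.pow_left 3) ?_
  calc r ^ 3 * v * (r ^ 3)⁻¹ = v * c := by simp [c]
    _ = c * v := Local.elemAb_commute hV hv hc.1

/-- Without sections `S₄`, an element inverting modulo the kernel a nontrivial element of odd order
centralizes a subgroup of index at least four. -/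
theorem four_mul_card_fixed_le (hS4 : ¬ Involves (Equiv.Perm (Fin 4)) G) {V : Subgroup G}
    (hV : IsElementaryAbelian 2 V) {r a : G}
    (hr : r ∈ Subgroup.normalizer (V : Set G)) (ha : a ∈ Subgroup.normalizer (V : Set G))
    (hro : Odd (orderOf r)) (haa : ∀ v ∈ V, a * (a * v * a⁻¹) * a⁻¹ = v)
    (hra : ∀ v ∈ V, r * (a * (r * v * r⁻¹) * a⁻¹) * r⁻¹ = a * v * a⁻¹)
    (hne : ∃ v ∈ V, r * v * r⁻¹ ≠ v) :
    4 * Nat.card (V ⊓ Subgroup.centralizer {a} : Subgroup G) ≤ Nat.card V := by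
  haveI : Fact (Nat.Prime 2) := ⟨Nat.prime_two⟩
  set D := V ⊓ Subgroup.centralizer ({a} : Set G) with hD
  by_contra hlt
  have h2 : Nat.card V ≤ 2 * Nat.card D := by
    obtain ⟨i, hi⟩ := IsPGroup.iff_card.1 (Local.elemAb_isPGroup hV)
    obtain ⟨j, hj⟩ := IsPGroup.iff_card.1
      ((Local.elemAb_isPGroup hV).to_le (inf_le_left : D ≤ V))
    rw [hi, hj, ← pow_succ']
    refine Nat.pow_le_pow_right two_pos ?_
    by_contra hji
    refine hlt ?_
    rw [hi, hj, show 4 * 2 ^ j = 2 ^ (j + 2) by ring]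
    exact Nat.pow_le_pow_right two_pos (by omega)
  set D' := MulAut.conj r • D with hD'
  have hD'V : D' ≤ V := by
    intro x hx
    have h : r⁻¹ * x * r ∈ V := (mem_conj_smul.1 hx).1
    have h2 := conj_mem_of_mem_normalizer hr h
    rwa [show r * (r⁻¹ * x * r) * r⁻¹ = x by group] at h2
  refine hS4 (involves_of_index_four hV hr ha hro haa hra ?_ hne)
  have hle : D ⊓ D' ≤ V ⊓ Subgroup.centralizer {r} := by
    rintro v ⟨⟨hvV, hva⟩, hv'⟩
    refine ⟨hvV, Subgroup.mem_centralizer_singleton_iff.2 ?_⟩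
    set w := r⁻¹ * v * r with hw
    have hwD : w ∈ D := mem_conj_smul.1 hv'
    have hva' : a * v * a⁻¹ = v := by
      rw [← Subgroup.mem_centralizer_singleton_iff.1 hva, mul_inv_cancel_right]
    have hwa : a * w * a⁻¹ = w := by
      rw [← Subgroup.mem_centralizer_singleton_iff.1 hwD.2, mul_inv_cancel_right]
    have hrw : r * w * r⁻¹ = v := by rw [hw]; group
    have h := hra w hwD.1
    rw [hrw, hva', hwa] at h
    have hc : Commute (r ^ 2) v := mul_inv_eq_iff_eq_mul.1 <| by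
      calc r ^ 2 * v * (r ^ 2)⁻¹ = r * (r * v * r⁻¹) * r⁻¹ := by rw [pow_two]; group
        _ = r * w * r⁻¹ := by rw [h]
        _ = v := hrw
    obtain ⟨k, hk⟩ := Cfsg.Agent.SFour.exists_sq_pow hro
    have h5 := (hc.pow_left k).eq
    rw [← hk] at h5
    exact h5.symm
  have hn : D' ≤ Subgroup.normalizer (D : Set G) := fun x hx =>
    Cfsg.Agent.SFour.mem_normalizer_of_forall fun d hd => by
      rwa [← Local.elemAb_commute hV hd.1 (hD'V hx), mul_inv_cancel_right]
  have hcard := card_sup_mul_card_inf' D D' hn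
  rw [hD', card_conj_smul, ← hD'] at hcard
  have hs : Nat.card (D ⊔ D' : Subgroup G) ≤ Nat.card V :=
    Subgroup.card_le_of_le (sup_le inf_le_left hD'V)
  have hi := Subgroup.card_le_of_le hle
  refine Nat.le_of_mul_le_mul_left ?_ (Nat.card_pos (α := V))
  calc Nat.card V * Nat.card V ≤ (2 * Nat.card D) * (2 * Nat.card D) := Nat.mul_le_mul h2 h2
    _ = 4 * (Nat.card D * Nat.card D) := by ring
    _ ≤ 4 * (Nat.card V * Nat.card (V ⊓ Subgroup.centralizer {r} : Subgroup G)) := by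
        rw [← hcard]; exact Nat.mul_le_mul_left _ (Nat.mul_le_mul hs hi)
    _ = _ := by ring

/-- A nontrivial 2-group normalized by a 2-group contains a fixed point. -/
theorem exists_fixed_ne {E P : Subgroup G} (hE : IsPGroup 2 E) (hP : IsPGroup 2 P)
    (hn : P ≤ Subgroup.normalizer (E : Set G)) (hne : E ≠ ⊥) :
    ∃ e ∈ E, e ≠ 1 ∧ ∀ x ∈ P, x * e = e * x := by
  haveI : Fact (Nat.Prime 2) := ⟨Nat.prime_two⟩
  set S := P ⊔ E
  haveI : (E.subgroupOf S).Normal :=
    Subgroup.normal_subgroupOf_of_le_normalizer (sup_le hn Subgroup.le_normalizer)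
  have hSp : IsPGroup 2 S := IsPGroup.to_sup_of_normal_right' hP hE hn
  obtain ⟨e, he, he1, hec⟩ := Fusion.exists_central_of_normal hSp (E.subgroupOf S)
    fun h => hne (by
      rw [eq_bot_iff]
      intro x hx
      have hm : (⟨x, Subgroup.mem_sup_right hx⟩ : S) ∈ E.subgroupOf S := hx
      rw [h, Subgroup.mem_bot] at hm
      exact congrArg Subtype.val hm)
  exact ⟨e, he, fun h => he1 (Subtype.ext h), fun x hx =>
    congrArg Subtype.val (Subgroup.mem_center_iff.1 hec ⟨x, Subgroup.mem_sup_left hx⟩)⟩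

end Cfsg.Agent.Solv.SFour
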