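import Cfsg.Agent.Lib.Solv.SFourUnique
import Cfsg.Agent.Lib.Fusion.ZJElementary
import Cfsg.Prelude.Def_CaseTheorems
import Cfsg.Prelude.Def_Involutions

/-!
Groups all of whose 2-local subgroups are solvable of characteristic two without sections `S₄`:
the maximal 2-local subgroups are strongly embedded.
-/

set_option autoImplicit false

universe u

open Cfsg
open scoped commutatorElement Pointwise

namespace Cfsg.Agent.Solv.SFour

/-- The elementary abelian subgroups of largest order. -/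
def maxElem {G : Type*} [Group G] (S : Subgroup G) : Set (Subgroup G) :=
  Fusion.maxIn (fun A : Subgroup G => IsElementaryAbelian 2 A) S

theorem maxElem_map {G : Type u} [Group G] {N : Subgroup G} {S : Subgroup N} {A : Subgroup N}
    (hA : A ∈ maxElem S) : A.map N.subtype ∈ maxElem (S.map N.subtype) := by
  refine ⟨Subgroup.map_mono hA.1, ⟨⟨⟨?_⟩⟩, ?_⟩, fun B hB hBe => ?_⟩
  · rintro ⟨_, x, hx, rfl⟩ ⟨_, y, hy, rfl⟩
    exact Subtype.ext (congrArg (fun z : N => (z : G)) (Local.elemAb_commute hA.2.1 hx hy))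
  · rintro _ ⟨x, hx, rfl⟩
    rw [← map_pow, hA.2.1.2 x hx, map_one]
  · rw [card_map_subtype, ← card_subgroupOf (hB.trans (Subgroup.map_subtype_le S))]
    refine hA.2.2 _ ?_ ⟨⟨⟨fun x y => Subtype.ext (Subtype.ext
      (Local.elemAb_commute hBe x.2 y.2))⟩⟩, fun x hx => Subtype.ext ?_⟩
    · intro x hx
      obtain ⟨y, hy, he⟩ := hB hx
      rwa [← Subtype.ext he]
    · rw [Subgroup.coe_pow, Subgroup.coe_one]
      exact hBe.2 x hx

theorem maxElem_subgroupOf {G : Type u} [Group G] {N S : Subgroup G} (hS : S ≤ N) {A : Subgroup G}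
    (hA : A ∈ maxElem S) : A.subgroupOf N ∈ maxElem (S.subgroupOf N) := by
  have hAN := hA.1.trans hS
  refine ⟨Subgroup.comap_mono hA.1, ⟨⟨⟨fun x y => Subtype.ext (Subtype.ext
    (Local.elemAb_commute hA.2.1 x.2 y.2))⟩⟩, fun x hx => Subtype.ext ?_⟩, fun B hB hBe => ?_⟩
  · rw [Subgroup.coe_pow, Subgroup.coe_one]
    exact hA.2.1.2 x hx
  · rw [card_subgroupOf hAN, ← card_map_subtype B]
    refine hA.2.2 _ ?_ ⟨⟨⟨?_⟩⟩, ?_⟩
    · rintro _ ⟨x, hx, rfl⟩; exact hB hx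
    · rintro ⟨_, x, hx, rfl⟩ ⟨_, y, hy, rfl⟩
      exact Subtype.ext (congrArg (fun z : N => (z : G)) (Local.elemAb_commute hBe hx hy))
    · rintro _ ⟨x, hx, rfl⟩
      rw [← map_pow, hBe.2 x hx, map_one]

/-- The hypotheses on a module `V` inside a 2-subgroup `T`. -/
structure IsGood {G : Type u} [Group G] (T V : Subgroup G) : Prop where
  le : V ≤ T
  elem : IsElementaryAbelian 2 V
  norm : T ≤ Subgroup.normalizer (V : Set G)
  big : Big T V
  cent : ∀ A ∈ maxElem T, ∀ x ∈ A, ∀ v ∈ V, x * v = v * x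
  stab : ∀ g : G, (∀ A ∈ maxElem T, ∀ x ∈ A, g * x * g⁻¹ ∈ T) → g ∈ Subgroup.normalizer (V : Set G)

theorem IsGood.subgroupOf {G : Type u} [Group G] [Finite G] {T V N : Subgroup G} (h : IsGood T V) (hT : T ≤ N) :
    IsGood (T.subgroupOf N) (V.subgroupOf N) where
  le := Subgroup.comap_mono h.le
  elem := ⟨⟨⟨fun x y => Subtype.ext (Subtype.ext (Local.elemAb_commute h.elem x.2 y.2))⟩⟩,
    fun x hx => Subtype.ext (by rw [Subgroup.coe_pow, Subgroup.coe_one]; exact h.elem.2 x hx)⟩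
  norm := fun x hx => Cfsg.Agent.SFour.mem_normalizer_of_forall fun v hv =>
    show (x : G) * v * (x : G)⁻¹ ∈ V from conj_mem_of_mem_normalizer (h.norm hx) hv
  big := h.big.subgroupOf hT (h.le.trans hT)
  cent := fun A hA x hx v hv => by
    have hA' := maxElem_map hA
    rw [Subgroup.map_subgroupOf_eq_of_le hT] at hA'
    exact Subtype.ext (h.cent _ hA' x ⟨x, hx, rfl⟩ v hv)
  stab := fun g hg => by
    refine Cfsg.Agent.SFour.mem_normalizer_of_forall fun v hv => ?_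
    refine show (g : G) * v * (g : G)⁻¹ ∈ V from conj_mem_of_mem_normalizer (h.stab g ?_) hv
    intro A hA x hx
    exact hg _ (maxElem_subgroupOf hT hA) ⟨x, hT (hA.1 hx)⟩ hx

/-- A good module of a Sylow 2-subgroup is normal. -/
theorem normal_of_good : ∀ (n : ℕ) (G : Type u) [Group G] [Finite G], Nat.card G = n →
    Group.IsSolvable G → IsOfCharacteristicTwo G → ¬ Involves (Equiv.Perm (Fin 4)) G →
    ∀ (S : Sylow 2 G) (V : Subgroup G), IsGood (S : Subgroup G) V →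
    Subgroup.normalizer (V : Set G) = ⊤ := by
  intro n
  induction n using Nat.strong_induction_on with
  | _ n ih =>
  intro G _ _ hn hs hC hS4 S V hV
  subst hn
  haveI : Fact (Nat.Prime 2) := ⟨Nat.prime_two⟩
  by_contra hM
  set M := Subgroup.normalizer (V : Set G) with hMdef
  have hQS : pCore 2 G ≤ (S : Subgroup G) := Fusion.pCore_le_sylow S
  haveI hQn : (pCore 2 G).Normal := pCore_normal 2
  have hover : ∀ K : Subgroup G, (S : Subgroup G) ≤ K → K ≠ ⊤ → K ≤ M := by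
    intro K hSK hK
    have hlt : Nat.card K < Nat.card G := by
      refine lt_of_le_of_ne (Subgroup.card_le_card_group K) fun h => hK ?_
      exact Subgroup.eq_top_of_card_eq _ h
    have hcK : IsOfCharacteristicTwo K := by
      have hle : (pCore 2 G).subgroupOf K ≤ pCore 2 K :=
        Fusion.le_pCore ((S.2.to_le hQS).comap_subtype)
      intro c hc
      refine hle ?_
      refine hC (Subgroup.mem_centralizer_iff.2 fun q hq => ?_)
      exact congrArg Subtype.val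
        (Subgroup.mem_centralizer_iff.1 hc ⟨q, hSK (hQS hq)⟩ (hle hq))
    have h := ih _ hlt K rfl (isSolvable_of_le (le_top : K ≤ ⊤)
      (Group.isSolvable_of_surjective (f := (Subgroup.topEquiv (G := G)).symm.toMonoidHom)
        (Subgroup.topEquiv (G := G)).symm.surjective)) hcK
      (fun h => hS4 (involves_of_subgroup h)) (S.subtype hSK) (V.subgroupOf K) (hV.subgroupOf hSK)
    intro k hk
    refine Cfsg.Agent.SFour.mem_normalizer_of_forall fun v hv => ?_
    have hmem : (⟨k, hk⟩ : K) ∈ Subgroup.normalizer ((V.subgroupOf K : Subgroup K) : Set K) := by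
      rw [h]; trivial
    exact conj_mem_of_mem_normalizer hmem (x := ⟨v, hSK (hV.le hv)⟩) hv
  have hSM : (S : Subgroup G) ≤ M := hV.norm
  set mk := QuotientGroup.mk' (pCore 2 G) with hmk
  have hsQ : Group.IsSolvable (G ⧸ pCore 2 G) :=
    Group.isSolvable_of_surjective (QuotientGroup.mk'_surjective _)
  have h0 : pCore 2 (G ⧸ pCore 2 G) = ⊥ := Fusion.pCore_quotient_eq_bot
  set S' := Sylow.mapSurjective (QuotientGroup.mk'_surjective (pCore 2 G)) S with hS'
  have hS'c : (S' : Subgroup (G ⧸ pCore 2 G)) = (S : Subgroup G).map mk := rfl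
  set M' := M.map mk with hM'
  have hcomap : M'.comap mk = M :=
    Subgroup.comap_map_eq_self (by rw [QuotientGroup.ker_mk']; exact hQS.trans hSM)
  have hM'ne : M' ≠ ⊤ := fun h => hM (by rw [← hcomap, h, Subgroup.comap_top])
  have hover' : ∀ K : Subgroup (G ⧸ pCore 2 G), (S' : Subgroup (G ⧸ pCore 2 G)) ≤ K → K ≠ ⊤ → K ≤ M' := by
    intro K hK hKne
    rw [hS'c, Subgroup.map_le_iff_le_comap] at hK
    have h := hover _ hK fun e => hKne (by
      rw [← Subgroup.map_comap_eq_self_of_surjective (QuotientGroup.mk'_surjective (pCore 2 G)) K, e,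
        Subgroup.map_top_of_surjective _ (QuotientGroup.mk'_surjective _)])
    intro x hx
    obtain ⟨y, rfl⟩ := QuotientGroup.mk'_surjective _ x
    exact ⟨y, h hx, rfl⟩
  have hSM' : (S' : Subgroup (G ⧸ pCore 2 G)) ≤ M' := hS'c ▸ Subgroup.map_mono hSM
  obtain ⟨F, hFn, hFo, hFS⟩ := exists_odd_supplement hsQ h0 S' hM'ne hSM' hover'
  haveI := hFn
  set J := ⨆ A ∈ maxElem (S : Subgroup G), A.map mk with hJ
  rcases eq_or_ne J ⊥ with hJb | hJne
  · refine hM (eq_top_iff.2 fun g _ => hV.stab g fun A hA x hx => hQS ?_)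
    refine Subgroup.Normal.conj_mem hQn x ?_ g
    have h : A.map mk ≤ J := le_iSup₂ (f := fun A (_ : A ∈ maxElem (S : Subgroup G)) => A.map mk) A hA
    have h1 := h ⟨x, hx, rfl⟩
    rw [hJb, Subgroup.mem_bot] at h1
    exact (QuotientGroup.eq_one_iff x).1 h1
  have hJS : J ≤ (S' : Subgroup (G ⧸ pCore 2 G)) := iSup₂_le fun A hA => hS'c ▸ Subgroup.map_mono hA.1
  have hSJ : (S' : Subgroup (G ⧸ pCore 2 G)) ≤ Subgroup.normalizer (J : Set (G ⧸ pCore 2 G)) := by
    intro s hs'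
    rw [hS'c] at hs'
    obtain ⟨t, ht, rfl⟩ := hs'
    refine Fusion.mem_normalizer_of_cj_le ?_
    rw [hJ]
    simp only [Fusion.cj, Subgroup.map_iSup]
    refine iSup₂_le fun A hA => ?_
    refine le_iSup₂_of_le (A.map (MulAut.conj t).toMonoidHom) ?_ ?_
    · have h := (Fusion.replFamily_elementary 2).map_mem_maxIn hA (MulAut.conj t)
      rwa [show (S : Subgroup G).map (MulAut.conj t).toMonoidHom = (S : Subgroup G) from
        Fusion.cj_eq_self (Subgroup.le_normalizer ht)] at h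
    · rintro _ ⟨_, ⟨x, hx, rfl⟩, rfl⟩
      exact ⟨t * x * t⁻¹, ⟨x, hx, rfl⟩, by simp⟩
  refine false_of_commutators_le h0 S' hFo hFS hM'ne hSM' hover' hJS hSJ hJne ?_
  set D := F ⊓ M' with hD
  have hSD : ∀ s ∈ (S' : Subgroup (G ⧸ pCore 2 G)), s ∈ Subgroup.normalizer (D : Set (G ⧸ pCore 2 G)) := fun s hs' =>
    Cfsg.Agent.SFour.mem_normalizer_of_forall fun d hd =>
      ⟨Subgroup.Normal.conj_mem inferInstance d hd.1 s,
        M'.mul_mem (M'.mul_mem (hSM' hs') hd.2) (M'.inv_mem (hSM' hs'))⟩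
  let S0 : Subgroup (G ⧸ pCore 2 G) :=
    { carrier := {j | j ∈ (S' : Subgroup (G ⧸ pCore 2 G)) ∧ ∀ f ∈ F, ⁅f, j⁆ ∈ D}
      one_mem' := ⟨(S' : Subgroup (G ⧸ pCore 2 G)).one_mem, fun f _ => by
        rw [commutatorElement_one_right]; exact D.one_mem⟩
      mul_mem' := fun {j k} hj hk => ⟨(S' : Subgroup (G ⧸ pCore 2 G)).mul_mem hj.1 hk.1, fun f hf => by
        have h := D.mul_mem (hj.2 f hf) (conj_mem_of_mem_normalizer (hSD j hj.1) (hk.2 f hf))
        rwa [show ⁅f, j⁆ * (j * ⁅f, k⁆ * j⁻¹) = ⁅f, j * k⁆ by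
          simp only [commutatorElement_def]; group] at h⟩
      inv_mem' := fun {j} (hj : j ∈ (S' : Subgroup (G ⧸ pCore 2 G)) ∧ ∀ f ∈ F, ⁅f, j⁆ ∈ D) =>
        ⟨(S' : Subgroup (G ⧸ pCore 2 G)).inv_mem hj.1, fun f hf => by
        have h := conj_mem_of_mem_normalizer (Subgroup.inv_mem _ (hSD j hj.1)) (D.inv_mem (hj.2 f hf))
        rwa [show j⁻¹ * ⁅f, j⁆⁻¹ * j⁻¹⁻¹ = ⁅f, j⁻¹⁆ by
          simp only [commutatorElement_def]; group] at h⟩ }
  have hJ0 : J ≤ S0 := iSup₂_le fun A hA x hx => by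
    refine ⟨(hS'c ▸ Subgroup.map_mono hA.1) hx, fun f hf => ⟨?_, ?_⟩⟩
    · rw [commutatorElement_def,
        show f * x * f⁻¹ * x⁻¹ = f * (x * f⁻¹ * x⁻¹) by group]
      exact F.mul_mem hf (Subgroup.Normal.conj_mem inferInstance _ (F.inv_mem hf) x)
    · exact commutator_image_le hS4 hC S hV.elem hV.le hV.norm hV.big hA (hV.cent A hA) F hFo
        (Subgroup.commutator_mem_commutator hf hx)
  exact Subgroup.commutator_le.2 fun f hf j hj => ((hJ0 hj).2 f hf).2

variable {G : Type u} [Group G] [Finite G]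

/-- A 2-local subgroup lies in the normalizer of a good module of its Sylow 2-subgroup. -/
theorem le_normalizer_of_good
    (hloc : ∀ M : Subgroup G, IsTwoLocal M →
      Group.IsSolvable M ∧ IsOfCharacteristicTwo M ∧ ¬ Involves (Equiv.Perm (Fin 4)) M)
    {L T V : Subgroup G} (hL : IsTwoLocal L) (hT : Fusion.SylIn 2 T L) (hV : IsGood T V) :
    L ≤ Subgroup.normalizer (V : Set G) := by
  haveI : Fact (Nat.Prime 2) := ⟨Nat.prime_two⟩
  obtain ⟨hs, hc, hS4⟩ := hloc L hL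
  obtain ⟨P, hP⟩ := hT.exists_sylow_subgroupOf
  have h := normal_of_good _ L rfl hs hc hS4 P (V.subgroupOf L) (hP ▸ hV.subgroupOf hT.le)
  intro g hg
  refine Cfsg.Agent.SFour.mem_normalizer_of_forall fun v hv => ?_
  have hmem : (⟨g, hg⟩ : L) ∈ Subgroup.normalizer ((V.subgroupOf L : Subgroup L) : Set L) := by
    rw [h]; trivial
  exact conj_mem_of_mem_normalizer hmem (x := ⟨v, hT.le (hV.le hv)⟩) hv

/-- A 2-subgroup containing all 2-elements which centralize it has a good module. -/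
theorem exists_good
    (hloc : ∀ M : Subgroup G, IsTwoLocal M →
      Group.IsSolvable M ∧ IsOfCharacteristicTwo M ∧ ¬ Involves (Equiv.Perm (Fin 4)) M)
    {T : Subgroup G} (hT : IsPGroup 2 T) (hTne : T ≠ ⊥)
    (hcT : ∀ x : G, IsPGroup 2 (Subgroup.zpowers x) → (∀ t ∈ T, t * x = x * t) → x ∈ T) :
    ∃ V : Subgroup G, V ≠ ⊥ ∧ IsGood T V ∧
      Subgroup.normalizer (T : Set G) ≤ Subgroup.normalizer (V : Set G) := by
  haveI : Fact (Nat.Prime 2) := ⟨Nat.prime_two⟩
  set J := Fusion.jElem 2 T with hJdef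
  set L := Subgroup.normalizer (J : Set G) with hL
  have hTL : T ≤ L := Subgroup.le_normalizer.trans (Fusion.normalizer_le_jElem T)
  have hJT : J ≤ T := Fusion.jElem_le T
  obtain ⟨S, hS, hTS⟩ := Fusion.exists_sylIn_ge hT hTL
  set Z := Cfsg.Agent.SFour.omegaZ S with hZ
  have hZT : ∀ z ∈ Z, z ∈ T := fun z hz => hcT z
    (hS.isPGroup.to_le (Subgroup.zpowers_le.2 (Cfsg.Agent.SFour.omegaZ_le hz)))
    fun t ht => ((Cfsg.Agent.SFour.mem_omegaZ.1 hz).2.1 t (hTS ht)).symm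
  have hZA : ∀ A ∈ maxElem T, ∀ z ∈ Z, z ∈ A := fun A hA z hz =>
    Fusion.mem_of_maxIn hA (hZT z hz) (Fusion.isElementaryAbelian_closure_insert hA.2.1
      (fun y hy => (Cfsg.Agent.SFour.mem_omegaZ.1 hz).2.1 y (hTS (hA.1 hy)))
      (by rw [pow_two]; exact (Cfsg.Agent.SFour.mem_omegaZ.1 hz).2.2))
  set V := Subgroup.closure {y : G | ∃ g ∈ L, ∃ z ∈ Z, g * z * g⁻¹ = y} with hV
  have hVA : ∀ A ∈ maxElem T, V ≤ A := by
    intro A hA
    rw [hV, Subgroup.closure_le]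
    rintro _ ⟨g, hg, z, hz, rfl⟩
    have hmax : Fusion.cj A g⁻¹ ∈ maxElem T := by
      have hle : Fusion.cj A g⁻¹ ≤ T := by
        refine le_trans ?_ hJT
        rw [← Fusion.cj_eq_self (Subgroup.inv_mem _ hg : g⁻¹ ∈ Subgroup.normalizer (J : Set G))]
        exact Fusion.cj_mono (le_sSup hA) _
      refine ⟨hle, elemAb_map hA.2.1 _, fun B hB hBe => ?_⟩
      rw [Fusion.card_cj]
      exact hA.2.2 B hB hBe
    have h := Fusion.mem_cj.1 (hZA _ hmax z hz)
    rwa [inv_inv] at h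
  have hLV : L ≤ Subgroup.normalizer (V : Set G) := fun g hg => by
    refine Fusion.mem_normalizer_of_cj_le ?_
    rw [hV, Fusion.cj, MonoidHom.map_closure, Subgroup.closure_le]
    rintro _ ⟨_, ⟨h, hh, z, hz, rfl⟩, rfl⟩
    exact Subgroup.subset_closure ⟨g * h, L.mul_mem hg hh, z, hz, by simp [mul_assoc]⟩
  have hne : S ≠ ⊥ := fun h => hTne (le_bot_iff.1 (h ▸ hTS))
  have hex : ∃ z ∈ Z, z ≠ 1 := by
    obtain ⟨c, hc, hc1, hcc⟩ := exists_fixed_ne hS.isPGroup hS.isPGroup Subgroup.le_normalizer hne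
    obtain ⟨k, hk⟩ := hS.isPGroup.exists_card_eq
    have hd : orderOf c ∣ 2 ^ k := hk ▸ Subgroup.orderOf_dvd_natCard S hc
    obtain ⟨j, -, hj⟩ := (Nat.dvd_prime_pow Nat.prime_two).1 hd
    have hj0 : j ≠ 0 := fun h => hc1 (orderOf_eq_one_iff.1 (by rw [hj, h, pow_zero]))
    refine ⟨c ^ 2 ^ (j - 1), Cfsg.Agent.SFour.mem_omegaZ.2 ⟨S.pow_mem hc _,
      fun y hy => ((Commute.symm (hcc y hy : Commute y c)).pow_left _).eq, ?_⟩, fun h => ?_⟩
    · rw [← pow_add, ← two_mul, ← pow_succ', Nat.sub_add_cancel (Nat.pos_of_ne_zero hj0), ← hj,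
        pow_orderOf_eq_one]
    · have h2 := orderOf_dvd_of_pow_eq_one h
      rw [hj, Nat.pow_dvd_pow_iff_le_right (by norm_num)] at h2
      omega
  obtain ⟨A₀, hA₀⟩ : ∃ A₀, A₀ ∈ maxElem T := (Fusion.replFamily_elementary 2).maxIn_nonempty T
  have hVT : V ≤ T := (hVA A₀ hA₀).trans hA₀.1
  have hVe : IsElementaryAbelian 2 V := Local.elemAb_mono hA₀.2.1 (hVA A₀ hA₀)
  obtain ⟨z, hz, hz1⟩ := hex
  have hVne : V ≠ ⊥ := fun h => hz1 (Subgroup.mem_bot.1
    (h ▸ Subgroup.subset_closure ⟨1, L.one_mem, z, hz, by simp⟩))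
  have hJne : J ≠ ⊥ := fun h => hz1 (Subgroup.mem_bot.1
    (h ▸ (le_sSup hA₀ : A₀ ≤ J) (hZA A₀ hA₀ z hz)))
  obtain ⟨hsL, -, hS4L⟩ := hloc L ⟨J, hT.to_le hJT, hJne, rfl⟩
  obtain ⟨P, hP⟩ := hS.exists_sylow_subgroupOf
  haveI : (V.subgroupOf L).Normal := Subgroup.normal_subgroupOf_of_le_normalizer hLV
  have hVL : V ≤ L := hVT.trans hTL
  have hb : Big (P : Subgroup L) (V.subgroupOf L) := by
    refine big_of_central hsL hS4L P ?_ {x : L | (x : G) ∈ Z} ?_ ?_ ?_
    · exact ⟨⟨⟨fun x y => Subtype.ext (Subtype.ext (Local.elemAb_commute hVe x.2 y.2))⟩⟩,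
        fun x hx => Subtype.ext (by rw [Subgroup.coe_pow, Subgroup.coe_one]; exact hVe.2 x hx)⟩
    · intro x hx
      exact Subgroup.subset_closure ⟨1, L.one_mem, x, hx, by simp⟩
    · intro x hx s hs
      rw [hP] at hs
      exact Subtype.ext ((Cfsg.Agent.SFour.mem_omegaZ.1 hx).2.1 s hs).symm
    · intro D hD x hx
      have hle : V ≤ D.map L.subtype := by
        rw [hV, Subgroup.closure_le]
        rintro _ ⟨g, hg, z, hz, rfl⟩
        exact ⟨_, hD ⟨g, hg⟩ ⟨z, hS.le (Cfsg.Agent.SFour.omegaZ_le hz)⟩ hz, rfl⟩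
      obtain ⟨d, hd, hde⟩ := hle hx
      rwa [← Subtype.ext hde]
  refine ⟨V, hVne, ⟨hVT, hVe, hTL.trans hLV, ?_, fun A hA x hx v hv =>
    Local.elemAb_commute hA.2.1 hx (hVA A hA hv), fun g hg => hLV ?_⟩,
    (Fusion.normalizer_le_jElem T).trans hLV⟩
  · rw [hP] at hb
    exact (Big.of_subgroupOf hS.le hVL hb).mono hTS
  · refine Fusion.mem_normalizer_of_cj_le ?_
    rw [hJdef, Fusion.jElem, sSup_eq_iSup, Fusion.cj]
    simp only [Subgroup.map_iSup]
    refine iSup₂_le fun A hA => ?_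
    refine le_iSup₂_of_le (Fusion.cj A g) ⟨?_, elemAb_map hA.2.1 _, fun B hB hBe => ?_⟩ le_rfl
    · rintro _ ⟨x, hx, rfl⟩
      exact hg A hA x hx
    · rw [Fusion.card_cj]
      exact hA.2.2 B hB hBe

theorem maximal_stronglyEmbedded (hO : pCore 2 G = ⊥)
    (hloc : ∀ M : Subgroup G, IsTwoLocal M →
      Group.IsSolvable M ∧ IsOfCharacteristicTwo M ∧ ¬ Involves (Equiv.Perm (Fin 4)) M)
    (M : Subgroup G) (hM : IsMaximalTwoLocal M) : IsStronglyEmbedded M := by
  haveI : Fact (Nat.Prime 2) := ⟨Nat.prime_two⟩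
  obtain ⟨T₀, hT₀, hT₀ne, hMeq⟩ := hM.1
  obtain ⟨S, hS, hT₀S⟩ := Fusion.exists_sylIn_ge hT₀ (le_top : T₀ ≤ ⊤)
  have hSne : S ≠ ⊥ := fun h => hT₀ne (le_bot_iff.1 (h ▸ hT₀S))
  have hmax2 : ∀ {T H : Subgroup G}, Fusion.SylIn 2 T H → ∀ x ∈ H,
      IsPGroup 2 (Subgroup.zpowers x) → (∀ t ∈ T, t * x = x * t) → x ∈ T := by
    intro T H hT x hxH hx2 hxc
    have hp : IsPGroup 2 (Subgroup.zpowers x ⊔ T : Subgroup G) :=
      IsPGroup.to_sup_of_normal_right' hx2 hT.isPGroup (Subgroup.zpowers_le.2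
        (Cfsg.Agent.SFour.mem_normalizer_of_forall fun t ht => by
          rwa [← hxc t ht, mul_inv_cancel_right]))
    rw [← hT.eq_of_le hp le_sup_right (sup_le (Subgroup.zpowers_le.2 hxH) hT.le)]
    exact Subgroup.mem_sup_left (Subgroup.mem_zpowers x)
  obtain ⟨V, hVne, hVgood, -⟩ := exists_good hloc hS.isPGroup hSne
    fun x hx hc => hmax2 hS x (Subgroup.mem_top x) hx hc
  set M₀ := Subgroup.normalizer (V : Set G) with hM₀
  have hV2 : IsPGroup 2 V := Local.elemAb_isPGroup hVgood.elem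
  have hM₀ne : M₀ ≠ ⊤ := fun h => hVne (by
    haveI : V.Normal := Subgroup.normalizer_eq_top_iff.1 h
    rw [eq_bot_iff, ← hO]
    exact normal_le_pCore hV2)
  have hSM₀ : S ≤ M₀ := hVgood.norm
  have hS₀ : Fusion.SylIn 2 S M₀ := hS.mono hSM₀ le_top
  -- normalizers of 2-subgroups of `M₀`
  have key : ∀ k : ℕ, ∀ R T : Subgroup G, IsPGroup 2 R → R ≠ ⊥ → R ≤ M₀ →
      Fusion.SylIn 2 T (M₀ ⊓ Subgroup.normalizer (R : Set G)) →
      Nat.card G - Nat.card T = k → Subgroup.normalizer (R : Set G) ≤ M₀ := by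
    intro k
    induction k using Nat.strong_induction_on with
    | _ k ih =>
    intro R T₁ hR hRne hRM hT₁ hk
    obtain ⟨m, hm, hmT⟩ := hS₀.conj_le hT₁.isPGroup (hT₁.le.trans inf_le_left)
    set R' := Fusion.cj R m with hR'
    set T := Fusion.cj T₁ m with hT'
    have hmn : m ∈ Subgroup.normalizer (M₀ : Set G) := Subgroup.le_normalizer hm
    have hT : Fusion.SylIn 2 T (M₀ ⊓ Subgroup.normalizer (R' : Set G)) := by
      have h := hT₁.cj m
      rwa [Fusion.cj_inf, Fusion.cj_eq_self hmn, Fusion.cj_normalizer] at h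
    suffices hsuff : Subgroup.normalizer (R' : Set G) ≤ M₀ by
      intro g hg
      have h1 : m * g * m⁻¹ ∈ Fusion.cj (Subgroup.normalizer (R : Set G)) m := Fusion.conj_mem_cj hg
      rw [Fusion.cj_normalizer] at h1
      have h2 := M₀.mul_mem (M₀.mul_mem (M₀.inv_mem hm) (hsuff h1)) hm
      rwa [show m⁻¹ * (m * g * m⁻¹) * m = g by group] at h2
    have hR'p : IsPGroup 2 R' := Fusion.isPGroup_cj hR m
    have hR'ne : R' ≠ ⊥ := fun h => hRne (by
      rw [← Fusion.cj_cj_inv R m, ← hR', h, Fusion.cj_bot])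
    have hR'M : R' ≤ M₀ := (Fusion.cj_mono hRM m).trans (Fusion.cj_eq_self hmn).le
    have hR'T : R' ≤ T := by
      have h := IsPGroup.to_sup_of_normal_right' hT.isPGroup hR'p (hT.le.trans inf_le_right)
      rw [← hT.eq_of_le h le_sup_left (sup_le hT.le (le_inf hR'M Subgroup.le_normalizer))]
      exact le_sup_right
    have hloc2 : IsTwoLocal (Subgroup.normalizer (R' : Set G)) := ⟨R', hR'p, hR'ne, rfl⟩
    rcases eq_or_ne T S with hTS | hTS
    · exact le_normalizer_of_good hloc hloc2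
        (hS.mono (hTS ▸ hT.le.trans inf_le_right) le_top) hVgood
    have hgrow := Fusion.SylIn.normalizer_growth (p := 2) hmT hTS hS.isPGroup
    set T' := S ⊓ Subgroup.normalizer (T : Set G) with hT'def
    have hTne : T ≠ ⊥ := fun h => hR'ne (le_bot_iff.1 (h ▸ hR'T))
    have hgood : ∀ R₂ : Subgroup G, IsPGroup 2 R₂ → R₂ ≠ ⊥ → R₂ ≤ M₀ →
        T' ≤ Subgroup.normalizer (R₂ : Set G) → Subgroup.normalizer (R₂ : Set G) ≤ M₀ := by
      intro R₂ h2 hne hle hT'le
      obtain ⟨T₂, hT₂, hle2⟩ := Fusion.exists_sylIn_ge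
        (hS.isPGroup.to_le (inf_le_left : T' ≤ S))
        (le_inf (inf_le_left.trans hSM₀) hT'le : T' ≤ M₀ ⊓ Subgroup.normalizer (R₂ : Set G))
      refine ih _ ?_ R₂ T₂ h2 hne hle hT₂ rfl
      have h1 : Nat.card T < Nat.card T₂ :=
        (lt_of_le_of_ne (Subgroup.card_le_of_le hgrow.le) fun e => hgrow.ne
          (Subgroup.eq_of_le_of_card_ge hgrow.le e.ge)).trans_le (Subgroup.card_le_of_le hle2)
      have h3 : Nat.card T = Nat.card T₁ := Fusion.card_cj T₁ m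
      have h4 := Subgroup.card_le_card_group T₂
      omega
    have hNT : Subgroup.normalizer (T : Set G) ≤ M₀ :=
      hgood T hT.isPGroup hTne (hT.le.trans inf_le_left) inf_le_right
    have hTN : Fusion.SylIn 2 T (Subgroup.normalizer (R' : Set G)) := by
      obtain ⟨T₃, hT₃, hle3⟩ := Fusion.exists_sylIn_ge hT.isPGroup (hT.le.trans inf_le_right)
      rcases eq_or_ne T T₃ with h | h
      · rwa [h]
      have hg3 := Fusion.SylIn.normalizer_growth (p := 2) hle3 h hT₃.isPGroup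
      exact absurd (hT.eq_of_le (hT₃.isPGroup.to_le inf_le_left) hg3.le
        (le_inf (inf_le_right.trans hNT) (inf_le_left.trans hT₃.le))) hg3.ne'
    obtain ⟨W, hWne, hWgood, hWN⟩ := exists_good hloc hT.isPGroup hTne fun x hx hc =>
      hmax2 hTN x (Cfsg.Agent.SFour.mem_normalizer_of_forall fun y hy => by
        rwa [← hc y (hR'T hy), mul_inv_cancel_right]) hx hc
    exact (le_normalizer_of_good hloc hloc2 hTN hWgood).trans
      (hgood W (Local.elemAb_isPGroup hWgood.elem) hWne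
        ((hWgood.le.trans hT.le).trans inf_le_left) (inf_le_right.trans hWN))
  have key' : ∀ R : Subgroup G, IsPGroup 2 R → R ≠ ⊥ → R ≤ M₀ →
      Subgroup.normalizer (R : Set G) ≤ M₀ := fun R h1 h2 h3 => by
    obtain ⟨T, hT⟩ := Fusion.exists_sylIn (p := 2) (M₀ ⊓ Subgroup.normalizer (R : Set G))
    exact key _ R T h1 h2 h3 hT rfl
  have hMM₀ : M = M₀ := by
    refine (hM.2 M₀ ⟨V, hV2, hVne, rfl⟩ ?_).symm
    rw [hMeq]
    exact key' T₀ hT₀ hT₀ne (hT₀S.trans hSM₀)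
  rw [hMM₀]
  refine ⟨hM₀ne, ?_, fun g hg => ?_⟩
  · rw [even_iff_two_dvd]
    obtain ⟨k, hk⟩ := hS.isPGroup.exists_card_eq
    have hk0 : k ≠ 0 := fun h => hSne (Subgroup.card_eq_one.1 (by rw [hk, h, pow_zero]))
    exact (dvd_pow_self 2 hk0).trans (hk ▸ Subgroup.card_dvd_of_le hSM₀)
  by_contra hodd
  set D := M₀ ⊓ Fusion.cj M₀ g with hD
  obtain ⟨R, hR⟩ := Fusion.exists_sylIn (p := 2) D
  have hRne : R ≠ ⊥ := fun h => hodd (by
    rw [Nat.odd_iff, ← Nat.two_dvd_ne_zero]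
    intro hd
    refine hR.not_dvd ?_
    rw [h, Subgroup.relIndex_bot_left]
    exact hd)
  set R' := Fusion.cj R g⁻¹ with hR'
  have hR'M : R' ≤ M₀ := by
    rw [hR', Fusion.cj_le_iff, inv_inv]
    exact hR.le.trans inf_le_right
  have hR'p : IsPGroup 2 R' := Fusion.isPGroup_cj hR.isPGroup _
  have hN1 := key' R hR.isPGroup hRne (hR.le.trans inf_le_left)
  have hN2 : Subgroup.normalizer (R : Set G) ≤ Fusion.cj M₀ g := by
    have h := Fusion.cj_mono (key' R' hR'p (fun h => hRne (by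
      rw [← Fusion.cj_inv_cj R g, ← hR', h, Fusion.cj_bot])) hR'M) g
    rwa [Fusion.cj_normalizer, hR', Fusion.cj_inv_cj] at h
  have hRS : Fusion.SylIn 2 R ⊤ := by
    obtain ⟨S₁, hS₁, hle⟩ := Fusion.exists_sylIn_ge hR.isPGroup (le_top : R ≤ ⊤)
    rcases eq_or_ne R S₁ with h | h
    · rwa [h]
    have hg1 := Fusion.SylIn.normalizer_growth (p := 2) hle h hS₁.isPGroup
    exact absurd (hR.eq_of_le (hS₁.isPGroup.to_le inf_le_left) hg1.le
      (le_inf (inf_le_right.trans hN1) (inf_le_right.trans hN2))) hg1.ne'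
  have h1 : Fusion.SylIn 2 R M₀ := hRS.mono (hR.le.trans inf_le_left) le_top
  have h2 : Fusion.SylIn 2 R' M₀ := h1.of_card_ge hR'p hR'M (Fusion.card_cj R g⁻¹).ge
  obtain ⟨m, hm, hmR⟩ := h1.conj_eq h2
  refine hg ?_
  have hgm : g * m ∈ Subgroup.normalizer (R : Set G) := by
    rw [Fusion.mem_normalizer_iff_cj, ← Fusion.cj_cj, hmR, hR', Fusion.cj_inv_cj]
  have h3 := M₀.mul_mem (hN1 hgm) (M₀.inv_mem hm)
  rwa [mul_inv_cancel_right] at h3

end Cfsg.Agent.Solv.SFour
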