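import Cfsg.Agent.Lib.Solv.SFourCore

/-!
In a solvable group of characteristic two without sections `S₄`, a big module centralized by the
elementary abelian subgroups of largest order of a Sylow 2-subgroup and normalized by the normalizer
of their join is normal.
-/

set_option autoImplicit false

universe u

open Cfsg
open scoped commutatorElement Pointwise

namespace Cfsg.Agent.Solv.SFour

variable {G : Type u} [Group G] [Finite G]

/-- `core` without normality of `Q`. -/
theorem core' (hS4 : ¬ Involves (Equiv.Perm (Fin 4)) G) {Q V A : Subgroup G}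
    (hC : Subgroup.centralizer (Q : Set G) ≤ Q) {r a : G}
    (hrQ : r ∈ Subgroup.normalizer (Q : Set G)) (haQn : a ∈ Subgroup.normalizer (Q : Set G))
    (hro : Odd (orderOf r)) (haQ : a ∉ Q) (har : a * r * a⁻¹ * r ∈ Q)
    (hT : IsPGroup 2 (Q ⊔ Subgroup.zpowers a : Subgroup G))
    (hVT : V ≤ Q ⊔ Subgroup.zpowers a) (hV : IsElementaryAbelian 2 V)
    (hTV : Q ⊔ Subgroup.zpowers a ≤ Subgroup.normalizer (V : Set G))
    (hbig : Big (Q ⊔ Subgroup.zpowers a) V)
    (hAT : A ≤ Q ⊔ Subgroup.zpowers a) (hA : IsElementaryAbelian 2 A)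
    (hmax : ∀ B : Subgroup G, B ≤ Q ⊔ Subgroup.zpowers a → IsElementaryAbelian 2 B →
      Nat.card B ≤ Nat.card A)
    (haA : a ∈ A) (hAV : ∀ x ∈ A, ∀ v ∈ V, x * v = v * x) :
    ∀ v ∈ V, Commute r v := by
  set N := Subgroup.normalizer (Q : Set G) with hN
  haveI : (Q.subgroupOf N).Normal := Subgroup.normal_subgroupOf_of_le_normalizer le_rfl
  have hTN : Q ⊔ Subgroup.zpowers a ≤ N := sup_le Subgroup.le_normalizer (Subgroup.zpowers_le.2 haQn)
  have hVN := hVT.trans hTN
  have hAN := hAT.trans hTN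
  have hz : (Subgroup.zpowers (⟨a, haQn⟩ : N)).map N.subtype = Subgroup.zpowers a := by
    rw [MonoidHom.map_zpowers]; rfl
  set T' := Q.subgroupOf N ⊔ Subgroup.zpowers (⟨a, haQn⟩ : N) with hT'
  have hTmap : T'.map N.subtype = Q ⊔ Subgroup.zpowers a := by
    rw [Subgroup.map_sup, Subgroup.map_subgroupOf_eq_of_le Subgroup.le_normalizer, hz]
  have hTeq : T' = (Q ⊔ Subgroup.zpowers a).subgroupOf N := by
    rw [← hTmap, Subgroup.subgroupOf, Subgroup.comap_map_eq_self_of_injective N.subtype_injective]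
  have helem : ∀ {B : Subgroup G}, IsElementaryAbelian 2 B →
      IsElementaryAbelian 2 (B.subgroupOf N) := fun {B} hB =>
    ⟨⟨⟨fun x y => Subtype.ext (Subtype.ext (Local.elemAb_commute hB x.2 y.2))⟩⟩, fun x hx =>
      Subtype.ext (by rw [Subgroup.coe_pow, Subgroup.coe_one]; exact hB.2 x hx)⟩
  intro v hv
  have h := core (G := N) (fun h => hS4 (involves_of_subgroup h)) (Q := Q.subgroupOf N)
    (V := V.subgroupOf N) (A := A.subgroupOf N) (r := ⟨r, hrQ⟩) (a := ⟨a, haQn⟩)
    (fun x hx => hC (Subgroup.mem_centralizer_iff.2 fun q hq => congrArg Subtype.val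
      (Subgroup.mem_centralizer_iff.1 hx ⟨q, Subgroup.le_normalizer hq⟩ hq)))
    (by rwa [Subgroup.orderOf_mk]) haQ har
    (show IsPGroup 2 T' by rw [hTeq]; exact hT.comap_subtype)
    (show V.subgroupOf N ≤ T' by rw [hTeq]; exact Subgroup.comap_mono hVT) (helem hV)
    (fun x hx => Cfsg.Agent.SFour.mem_normalizer_of_forall fun w hw => by
      have hx' : (x : G) ∈ Q ⊔ Subgroup.zpowers a := hTmap ▸ ⟨x, hx, rfl⟩
      exact show (x : G) * w * (x : G)⁻¹ ∈ V from conj_mem_of_mem_normalizer (hTV hx') hw)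
    (by rw [← hT', hTeq]; exact hbig.subgroupOf hTN hVN)
    (show A.subgroupOf N ≤ T' by rw [hTeq]; exact Subgroup.comap_mono hAT) (helem hA)
    (fun B hB hBe => by
      rw [card_subgroupOf hAN, ← card_map_subtype]
      exact hmax _ (hTmap ▸ Subgroup.map_mono hB) (elemAb_map hBe N.subtype))
    haA (fun x hx w hw => Subtype.ext (hAV x hx w hw))
    ⟨v, hVN hv⟩ hv
  exact congrArg Subtype.val h

/-- In a solvable group with trivial 2-core, if a proper subgroup contains all proper overgroups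
of a Sylow 2-subgroup, the group is a group of odd order extended by that Sylow 2-subgroup. -/
theorem exists_odd_supplement (hs : Group.IsSolvable G) (h0 : pCore 2 G = ⊥) (S : Sylow 2 G)
    {M : Subgroup G} (hM : M ≠ ⊤) (hSM : (S : Subgroup G) ≤ M)
    (hover : ∀ K : Subgroup G, (S : Subgroup G) ≤ K → K ≠ ⊤ → K ≤ M) :
    ∃ F : Subgroup G, F.Normal ∧ Odd (Nat.card F) ∧ F ⊔ S = ⊤ := by
  haveI : Fact (Nat.Prime 2) := ⟨Nat.prime_two⟩
  obtain ⟨K, ⟨hKn, hKS⟩, hmin⟩ := Set.exists_min_image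
    {K : Subgroup G | K.Normal ∧ K ⊔ S = ⊤} (fun K => Nat.card K) (Set.toFinite _)
    ⟨⊤, inferInstance, top_sup_eq _⟩
  haveI := hKn
  have hsmall : ∀ L : Subgroup G, L.Normal → L ≤ K → L ≠ K → L ⊔ S ≠ ⊤ := fun L h1 h2 h3 h4 =>
    h3 (Subgroup.eq_of_le_of_card_ge h2 (hmin L ⟨h1, h4⟩))
  refine ⟨K, hKn, ?_, hKS⟩
  set T := (S : Subgroup G) ⊓ K with hT
  have hTK : Fusion.SylIn 2 T K :=
    (Fusion.sylIn_top S).inf_normal le_top (by rw [Subgroup.normalizer_eq_top])
  by_contra hodd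
  have hTne : T ≠ ⊥ := fun h => hodd (by
    rw [Nat.odd_iff, ← Nat.two_dvd_ne_zero]
    intro hd
    refine hTK.not_dvd ?_
    rw [h, Subgroup.relIndex_bot_left]
    exact hd)
  have hNT : Subgroup.normalizer (T : Set G) ≤ M := by
    refine hover _ (fun s hs' => Cfsg.Agent.SFour.mem_normalizer_of_forall fun t ht =>
      ⟨(S : Subgroup G).mul_mem ((S : Subgroup G).mul_mem hs' ht.1) ((S : Subgroup G).inv_mem hs'),
        Subgroup.Normal.conj_mem inferInstance t ht.2 s⟩) fun h => hTne ?_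
    haveI : T.Normal := Subgroup.normalizer_eq_top_iff.1 h
    rw [eq_bot_iff, ← h0]
    exact normal_le_pCore hTK.isPGroup
  have hK' : ⁅K, K⁆ ≠ K := fun h => by
    have hle : ∀ n, K ≤ derivedSeries G n := by
      intro n
      induction n with
      | zero => exact le_top
      | succ n ih => rw [derivedSeries_succ, ← h]; exact Subgroup.commutator_mono ih ih
    obtain ⟨n, hn⟩ := hs.solvable
    refine hTne (le_bot_iff.1 ?_)
    rw [← hn]
    exact inf_le_right.trans (hle n)
  set K' := ⁅K, K⁆ with hK'def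
  have hK'K : K' ≤ K := Subgroup.commutator_le_left K K
  set K2 := K' ⊔ T with hK2
  have hK2K : K2 ≤ K := sup_le hK'K inf_le_right
  have hfr : ∀ (L : Subgroup G), L.Normal → Fusion.SylIn 2 T L → ∀ g : G,
      ∃ n ∈ L, n * g ∈ Subgroup.normalizer (T : Set G) := fun L hL hTL g =>
    Fusion.frattini_conj hTL (H := ⊤) (by haveI := hL; rw [Subgroup.normalizer_eq_top])
      (Subgroup.mem_top g)
  have hK2n : K2.Normal := by
    rw [← Subgroup.normalizer_eq_top_iff, eq_top_iff]
    intro g _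
    obtain ⟨n, hn, hng⟩ := hfr K hKn hTK g
    have h1 : n⁻¹ ∈ Subgroup.normalizer (K2 : Set G) := by
      refine Cfsg.Agent.SFour.mem_normalizer_of_forall fun x hx => ?_
      have hc : ⁅n⁻¹, x⁆ ∈ K2 := Subgroup.mem_sup_left
        (Subgroup.commutator_mem_commutator (K.inv_mem hn) (hK2K hx))
      have h := K2.mul_mem hc hx
      rwa [show ⁅n⁻¹, x⁆ * x = n⁻¹ * x * n⁻¹⁻¹ by rw [commutatorElement_def]; group] at h
    have h2 : n * g ∈ Subgroup.normalizer (K2 : Set G) := by
      refine mem_normalizer_of_conj_smul ?_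
      rw [hK2, Subgroup.smul_sup, conj_smul_of_mem_normalizer hng,
        conj_smul_of_mem_normalizer (by rw [Subgroup.normalizer_eq_top]; trivial)]
    have h := Subgroup.mul_mem _ h1 h2
    rwa [inv_mul_cancel_left] at h
  have hne2 : K2 ≠ K := fun h => by
    refine hsmall K' inferInstance hK'K hK' ?_
    rw [eq_top_iff, ← hKS, ← h, hK2, sup_assoc]
    exact sup_le_sup_left (sup_le inf_le_left le_rfl) _
  have hK2M : K2 ≤ M := le_sup_left.trans (hover _ le_sup_right (hsmall K2 hK2n hK2K hne2))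
  refine hM (eq_top_iff.2 fun g _ => ?_)
  obtain ⟨n, hn, hng⟩ := hfr K2 hK2n (hTK.mono le_sup_right hK2K) g
  have h := M.mul_mem (hK2M (K2.inv_mem hn)) (hNT hng)
  rwa [inv_mul_cancel_left] at h

/-- The final contradiction in the minimal configuration. -/
theorem false_of_commutators_le (h0 : pCore 2 G = ⊥) (S : Sylow 2 G) {M F J : Subgroup G}
    [F.Normal] (hFo : Odd (Nat.card F)) (hFS : F ⊔ S = ⊤) (hM : M ≠ ⊤)
    (hSM : (S : Subgroup G) ≤ M)
    (hover : ∀ K : Subgroup G, (S : Subgroup G) ≤ K → K ≠ ⊤ → K ≤ M)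
    (hJS : J ≤ S) (hSJ : (S : Subgroup G) ≤ Subgroup.normalizer (J : Set G)) (hJne : J ≠ ⊥)
    (hJM : ⁅F, J⁆ ≤ M) : False := by
  haveI : Fact (Nat.Prime 2) := ⟨Nat.prime_two⟩
  have hFn : ∀ g : G, g ∈ Subgroup.normalizer (F : Set G) := fun g => by
    rw [Subgroup.normalizer_eq_top]; trivial
  have hcoS : (Nat.card (S : Subgroup G)).Coprime (Nat.card F) := by
    obtain ⟨k, hk⟩ := IsPGroup.iff_card.1 S.2
    rw [hk]
    exact Nat.Coprime.pow_left k (Nat.coprime_two_left.2 hFo)
  set C := F ⊓ Subgroup.centralizer (J : Set G) with hC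
  have hSC : (S : Subgroup G) ≤ Subgroup.normalizer (C : Set G) := fun s hs =>
    Cfsg.Agent.SFour.mem_normalizer_of_forall fun c hc =>
      ⟨Subgroup.Normal.conj_mem inferInstance c hc.1 s, Subgroup.mem_centralizer_iff.2 fun j hj => by
        have h1 := conj_mem_of_mem_normalizer (Subgroup.inv_mem _ (hSJ hs)) hj
        rw [inv_inv] at h1
        have h2 := Subgroup.mem_centralizer_iff.1 hc.2 _ h1
        calc j * (s * c * s⁻¹) = s * ((s⁻¹ * j * s) * c) * s⁻¹ := by group
          _ = s * (c * (s⁻¹ * j * s)) * s⁻¹ := by rw [h2]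
          _ = s * c * s⁻¹ * j := by group⟩
  by_cases hCS : C ⊔ S = ⊤
  · have h1 := card_sup_mul_card_inf' C S hSC
    have h2 := card_sup_mul_card_inf' F S fun g _ => hFn g
    rw [hCS, inf_comm, Subgroup.card_top] at h1
    rw [hFS, inf_comm, coprime_inf hcoS, Subgroup.card_bot, mul_one, Subgroup.card_top] at h2
    have hCF : C = F := by
      refine Subgroup.eq_of_le_of_card_ge inf_le_left ?_
      refine Nat.le_of_mul_le_mul_right ?_ (Nat.card_pos (α := (S : Subgroup G)))
      rw [← h1, ← h2]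
      exact Nat.le_mul_of_pos_right _ Nat.card_pos
    set Z := (S : Subgroup G) ⊓ Subgroup.centralizer (F : Set G) with hZ
    haveI : Z.Normal := by
      rw [← Subgroup.normalizer_eq_top_iff, eq_top_iff, ← hFS]
      refine sup_le (fun f hf => Cfsg.Agent.SFour.mem_normalizer_of_forall fun z hz => ?_)
        fun s hs => Cfsg.Agent.SFour.mem_normalizer_of_forall fun z hz =>
          ⟨(S : Subgroup G).mul_mem ((S : Subgroup G).mul_mem hs hz.1)
            ((S : Subgroup G).inv_mem hs), Subgroup.Normal.conj_mem inferInstance z hz.2 s⟩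
      rwa [Subgroup.mem_centralizer_iff.1 hz.2 f hf, mul_inv_cancel_right]
    have hZbot : Z = ⊥ := by
      rw [eq_bot_iff, ← h0]
      exact normal_le_pCore (S.2.to_le inf_le_left)
    refine hJne (le_bot_iff.1 (hZbot ▸ le_inf hJS ?_))
    rw [Subgroup.le_centralizer_iff, ← hCF]
    exact inf_le_right
  · have hCM : C ≤ M := le_sup_left.trans (hover _ le_sup_right hCS)
    refine hM (eq_top_iff.2 ?_)
    rw [← hFS]
    refine sup_le ?_ hSM
    calc F = ⁅F, J⁆ ⊔ (F ⊓ Subgroup.centralizer (J : Set G)) := (commutator_sup_fixed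
          (fun j _ => hFn j) (hcoS.coprime_dvd_left (Subgroup.card_dvd_of_le hJS))
          (Or.inl (by
            haveI := (S.2.to_le hJS).isNilpotent
            infer_instance))).symm
      _ ≤ M := sup_le hJM hCM

/-- Commutators with the images of the elementary abelian subgroups of largest order lie in the
image of `M`. -/
theorem commutator_image_le (hS4 : ¬ Involves (Equiv.Perm (Fin 4)) G)
    (hC : Subgroup.centralizer (pCore 2 G : Set G) ≤ pCore 2 G) (S : Sylow 2 G) {V A : Subgroup G}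
    (hV : IsElementaryAbelian 2 V) (hVS : V ≤ (S : Subgroup G))
    (hSV : (S : Subgroup G) ≤ Subgroup.normalizer (V : Set G)) (hbig : Big (S : Subgroup G) V)
    (hA : A ∈ Fusion.maxIn (fun A : Subgroup G => IsElementaryAbelian 2 A) (S : Subgroup G))
    (hAV : ∀ x ∈ A, ∀ v ∈ V, x * v = v * x) [hQn : (pCore 2 G).Normal]
    (F : Subgroup (G ⧸ pCore 2 G)) [F.Normal] (hFo : Odd (Nat.card F)) :
    ⁅F, A.map (QuotientGroup.mk' (pCore 2 G))⁆ ≤
      (Subgroup.normalizer (V : Set G)).map (QuotientGroup.mk' (pCore 2 G)) := by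
  haveI : Fact (Nat.Prime 2) := ⟨Nat.prime_two⟩
  have hQS : pCore 2 G ≤ (S : Subgroup G) := Fusion.pCore_le_sylow S
  set Q := pCore 2 G with hQ
  set mk := QuotientGroup.mk' Q with hmk
  set E := A.map mk with hE
  have hEe : IsElementaryAbelian 2 E := elemAb_map hA.2.1 mk
  have hco : (Nat.card E).Coprime (Nat.card F) := by
    obtain ⟨k, hk⟩ := IsPGroup.iff_card.1 (Local.elemAb_isPGroup hEe)
    rw [hk]
    exact Nat.Coprime.pow_left k (Nat.coprime_two_left.2 hFo)
  rw [← gen_commutator_eq E F hEe.1 (by rw [Subgroup.normalizer_eq_top]; exact le_top) hco]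
  refine iSup₂_le fun B hB => Subgroup.commutator_le.2 fun f hf a' ha' => ?_
  obtain ⟨hfF, hfB⟩ := hf
  obtain ⟨hBE, a₁, ha₁, hBa⟩ := hB
  have hcom : ∀ b ∈ B, Commute b f := fun b hb => Subgroup.mem_centralizer_iff.1 hfB b hb
  set x := ⁅f, a'⁆ with hx
  by_cases ha'B : a' ∈ B
  · rw [hx, commutatorElement_eq_one_iff_mul_comm.2 ((hcom a' ha'B).symm.eq)]
    exact Subgroup.one_mem _
  have ha'2 : a' * a' = 1 := by rw [← pow_two]; exact hEe.2 a' ha'
  have hBa' : B ⊔ Subgroup.zpowers a' = E := by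
    refine le_antisymm (sup_le hBE (Subgroup.zpowers_le.2 ha')) ?_
    rw [← hBa]
    refine sup_le le_sup_left (Subgroup.zpowers_le.2 ?_)
    have ha'' : a' ∈ B ⊔ Subgroup.zpowers a₁ := hBa ▸ ha'
    obtain ⟨b, hb, g, hg, he⟩ := Set.mem_mul.1
      (Subgroup.coe_mul_of_right_le_normalizer_left B _
        (elem_le_normalizer hEe hBE (Subgroup.zpowers_le.2 ha₁)) ▸ ha'' :
        a' ∈ (B : Set (G ⧸ Q)) * (Subgroup.zpowers a₁ : Set (G ⧸ Q)))
    obtain ⟨i, rfl⟩ := Subgroup.mem_zpowers_iff.1 hg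
    have h12 : a₁ * a₁ = 1 := by rw [← pow_two]; exact hEe.2 a₁ ha₁
    rcases Int.even_or_odd' i with ⟨k, rfl | rfl⟩
    · rw [zpow_mul, zpow_two, h12, one_zpow, mul_one] at he
      exact absurd (he ▸ hb) ha'B
    · rw [zpow_add_one, zpow_mul, zpow_two, h12, one_zpow, one_mul] at he
      rw [show a₁ = b⁻¹ * a' by rw [← he, inv_mul_cancel_left]]
      exact Subgroup.mul_mem_sup (B.inv_mem hb) (Subgroup.mem_zpowers a')
  have hxF : x ∈ F := by
    rw [hx, commutatorElement_def, show f * a' * f⁻¹ * a'⁻¹ = f * (a' * f⁻¹ * a'⁻¹) by group]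
    exact F.mul_mem hfF (Subgroup.Normal.conj_mem inferInstance _ (F.inv_mem hfF) a')
  have hxo : Odd (orderOf x) := hFo.of_dvd_nat (Subgroup.orderOf_dvd_natCard F hxF)
  have hinv : a' * x * a'⁻¹ * x = 1 := by
    have h : a'⁻¹ = a' := inv_eq_of_mul_eq_one_right ha'2
    rw [hx, commutatorElement_def, h]
    calc a' * (f * a' * f⁻¹ * a') * a' * (f * a' * f⁻¹ * a')
        = a' * (f * a' * f⁻¹ * (a' * a')) * (f * a' * f⁻¹ * a') := by group
      _ = a' * (f * a' * f⁻¹) * (f * a' * f⁻¹ * a') := by rw [ha'2, mul_one]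
      _ = a' * f * (a' * a') * f⁻¹ * a' := by group
      _ = 1 := by rw [ha'2, mul_one, mul_inv_cancel_right, ha'2]
  have hxB : ∀ b ∈ B, Commute b x := fun b hb => by
    have h1 := hcom b hb
    have h2 : Commute b a' := Local.elemAb_commute hEe (hBE hb) ha'
    rw [hx, commutatorElement_def]
    exact ((h1.mul_right h2).mul_right h1.inv_right).mul_right h2.inv_right
  obtain ⟨a, haA, hae⟩ := ha'
  obtain ⟨r, hre, hro⟩ := exists_odd_lift' Q x hxo
  change mk r = x at hre
  have hmem : ∀ y : G, mk y = 1 → y ∈ Q := fun y hy => (QuotientGroup.eq_one_iff y).1 hy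
  set A' := A ⊓ B.comap mk with hA'
  set Q' := A' ⊔ Q with hQ'
  have hQB : ∀ y ∈ Q', mk y ∈ B := by
    refine sup_le (fun y hy => hy.2) (fun y hy => ?_) (a := A') (b := Q) (c := B.comap mk)
    show mk y ∈ B
    rw [hmk, QuotientGroup.mk'_apply, (QuotientGroup.eq_one_iff y).2 hy]
    exact B.one_mem
  have haQ' : a ∉ Q' := fun h => ha'B (hae ▸ hQB a h)
  have hQ'C : Subgroup.centralizer (Q' : Set G) ≤ Q' :=
    ((Subgroup.centralizer_le (SetLike.coe_subset_coe.2 le_sup_right)).trans hC).trans le_sup_right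
  have hrQ' : r ∈ Subgroup.normalizer (Q' : Set G) := by
    refine Cfsg.Agent.SFour.mem_normalizer_of_forall fun y hy => ?_
    have h1 : ⁅r, y⁆ ∈ Q := hmem _ (by
      rw [map_commutatorElement, hre, commutatorElement_eq_one_iff_mul_comm]
      exact (hxB _ (hQB y hy)).symm.eq)
    have h2 := Q'.mul_mem (Subgroup.mem_sup_right h1) hy
    rwa [show ⁅r, y⁆ * y = r * y * r⁻¹ by rw [commutatorElement_def]; group] at h2
  have haQn : a ∈ Subgroup.normalizer (Q' : Set G) := by
    refine mem_normalizer_of_conj_smul ?_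
    rw [hQ', Subgroup.smul_sup, conj_smul_of_mem_normalizer
      (show a ∈ Subgroup.normalizer (Q : Set G) by rw [Subgroup.normalizer_eq_top]; trivial),
      conj_smul_of_mem_normalizer (Cfsg.Agent.SFour.mem_normalizer_of_forall fun y hy => by
        rwa [Local.elemAb_commute hA.2.1 haA hy.1, mul_inv_cancel_right])]
  have hAT : A ≤ Q' ⊔ Subgroup.zpowers a := by
    intro y hy
    have hyE : mk y ∈ B ⊔ Subgroup.zpowers a' := hBa' ▸ ⟨y, hy, rfl⟩
    obtain ⟨b, hb, g, hg, he⟩ := Set.mem_mul.1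
      (Subgroup.coe_mul_of_right_le_normalizer_left B _
        (elem_le_normalizer hEe hBE (Subgroup.zpowers_le.2 ⟨a, haA, hae⟩)) ▸ hyE :
        mk y ∈ (B : Set (G ⧸ Q)) * (Subgroup.zpowers a' : Set (G ⧸ Q)))
    obtain ⟨i, rfl⟩ := Subgroup.mem_zpowers_iff.1 hg
    have h1 : y * (a ^ i)⁻¹ ∈ A' := ⟨A.mul_mem hy (A.inv_mem (A.zpow_mem haA i)), by
      show mk (y * (a ^ i)⁻¹) ∈ B
      rw [map_mul, map_inv, map_zpow, hae, ← he, mul_inv_cancel_right]
      exact hb⟩
    have h2 := Subgroup.mul_mem_sup (Subgroup.mem_sup_left h1 : _ ∈ Q')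
      (Subgroup.zpow_mem _ (Subgroup.mem_zpowers a) i)
    rwa [inv_mul_cancel_right] at h2
  have hTS : Q' ⊔ Subgroup.zpowers a ≤ S :=
    sup_le (sup_le (inf_le_left.trans hA.1) hQS) (Subgroup.zpowers_le.2 (hA.1 haA))
  have hVA : V ≤ A := fun v hv => Fusion.mem_of_maxIn hA (hVS hv)
    (Fusion.isElementaryAbelian_closure_insert hA.2.1 (fun y hy => (hAV y hy v hv).symm) (hV.2 v hv))
  have hres := core' hS4 hQ'C hrQ' haQn hro haQ'
    (Subgroup.mem_sup_right (hmem _ (by rw [map_mul, map_mul, map_mul, map_inv, hae, hre, hinv])))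
    (S.2.to_le hTS) (hVA.trans hAT) hV (hTS.trans hSV)
    (hbig.mono hTS) hAT hA.2.1 (fun D hD hDe => hA.2.2 D (hD.trans hTS) hDe) haA hAV
  exact ⟨r, Cfsg.Agent.SFour.mem_normalizer_of_forall fun v hv => by
    rwa [(hres v hv).eq, mul_inv_cancel_right], hre⟩

end Cfsg.Agent.Solv.SFour
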