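import Mathlib
import Cfsg.Prelude.Def_KGroupFacts

/-!
The Schur multiplier of a finite group through a free presentation: for `π : FreeGroup α →* Q`
with kernel `R`, the group `CExt π = F ⧸ ⁅R, F⁆` is a central extension of `Q` through which every
central extension factors, and `relD π = (R ∩ F') ⧸ ⁅R, F⁆` is the multiplier.
-/

set_option autoImplicit false
set_option linter.style.haveILetI false

open scoped commutatorElement

namespace Cfsg.Agent.Solv

universe u

/-- Two homomorphisms that agree modulo a central kernel agree on commutators. -/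
theorem eq_on_commutator {G X P : Type*} [Group G] [Group X] [Group P] (ξ : X →* P)
    (hc : ξ.ker ≤ Subgroup.center X) {η η' : G →* X} (h : ξ.comp η = ξ.comp η') {g : G}
    (hg : g ∈ commutator G) : η g = η' g := by
  have hk : ∀ g : G, (η' g)⁻¹ * η g ∈ Subgroup.center X := fun g => hc (by
    rw [MonoidHom.mem_ker, map_mul, map_inv, show ξ (η g) = ξ (η' g) from DFunLike.congr_fun h g,
      inv_mul_cancel])
  suffices hle : commutator G ≤ η.eqLocus η' from hle hg
  rw [commutator_def, Subgroup.commutator_le]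
  intro a _ b _
  show η ⁅a, b⁆ = η' ⁅a, b⁆
  rw [map_commutatorElement, map_commutatorElement]
  obtain ⟨z, hz⟩ : ∃ z, z = (η' a)⁻¹ * η a := ⟨_, rfl⟩
  obtain ⟨w, hw⟩ : ∃ w, w = (η' b)⁻¹ * η b := ⟨_, rfl⟩
  have hza : η a = η' a * z := by rw [hz]; group
  have hwb : η b = η' b * w := by rw [hw]; group
  have e1 : ∀ (a b c : X), c ∈ Subgroup.center X → ⁅a * c, b⁆ = ⁅a, b⁆ := fun a b c hc => by
    rw [show ⁅a * c, b⁆ = a * (c * b) * c⁻¹ * a⁻¹ * b⁻¹ by simp only [commutatorElement_def]; group,
      ← Subgroup.mem_center_iff.1 hc b, commutatorElement_def]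
    group
  rw [hza, hwb, e1 _ _ _ (hz ▸ hk a), ← commutatorElement_inv, e1 _ _ _ (hw ▸ hk b),
    commutatorElement_inv]

theorem finite_commutator_of_central {X Q : Type*} [Group X] [Group Q] [Finite Q] (ξ : X →* Q)
    (hs : Function.Surjective ξ) (hc : ξ.ker ≤ Subgroup.center X) : Finite (commutator X) := by
  have h : ∀ x : X, ∃ z ∈ Subgroup.center X, x = Function.surjInv hs (ξ x) * z := fun x =>
    ⟨(Function.surjInv hs (ξ x))⁻¹ * x, hc (by
      rw [MonoidHom.mem_ker, map_mul, map_inv, Function.surjInv_eq hs, inv_mul_cancel]), by group⟩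
  have e1 : ∀ (a b c : X), c ∈ Subgroup.center X → ⁅a * c, b⁆ = ⁅a, b⁆ := fun a b c hc => by
    rw [show ⁅a * c, b⁆ = a * (c * b) * c⁻¹ * a⁻¹ * b⁻¹ by simp only [commutatorElement_def]; group,
      ← Subgroup.mem_center_iff.1 hc b, commutatorElement_def]
    group
  have hfin : Finite (commutatorSet X) := by
    refine Set.Finite.to_subtype ((Set.finite_range fun p : Q × Q =>
      ⁅Function.surjInv hs p.1, Function.surjInv hs p.2⁆).subset ?_)
    rintro _ ⟨x, y, rfl⟩
    obtain ⟨z, hz, hxz⟩ := h x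
    obtain ⟨w, hw, hyw⟩ := h y
    refine ⟨(ξ x, ξ y), ?_⟩
    conv_rhs => rw [hxz, hyw]
    rw [e1 _ _ _ hz, ← commutatorElement_inv (Function.surjInv hs (ξ y) * w), e1 _ _ _ hw,
      commutatorElement_inv]
  infer_instance

/-- A homomorphism onto a lattice has a section inside the kernel of a second homomorphism `g`,
provided `g` takes all its values on the kernel of the first. -/
theorem exists_section {R α B : Type*} [CommGroup R] [Finite α] [Group B]
    (f : R →* Multiplicative (α → ℤ)) (g : R →* B) (hg : ∀ x, ∃ d ∈ f.ker, g d = g x) :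
    ∃ s : f.range →* R, ∀ y, f (s y) = y ∧ g (s y) = 1 := by
  let F : Additive g.ker →+ (α → ℤ) :=
    AddMonoidHom.mk' (fun x => Multiplicative.toAdd (f (Additive.toMul x : g.ker)))
      (fun a b => by simp)
  have mem : ∀ y : f.range, Multiplicative.toAdd (y : Multiplicative (α → ℤ)) ∈
      LinearMap.range F.toIntLinearMap := by
    rintro ⟨_, x, rfl⟩
    obtain ⟨d, hd, hdx⟩ := hg x
    refine ⟨Additive.ofMul (⟨d⁻¹ * x, by
      rw [MonoidHom.mem_ker, map_mul, map_inv, hdx, inv_mul_cancel]⟩ : g.ker), ?_⟩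
    show Multiplicative.toAdd (f (d⁻¹ * x)) = _
    rw [map_mul, map_inv, MonoidHom.mem_ker.1 hd, inv_one, one_mul]
  have : Module.Projective ℤ (LinearMap.range F.toIntLinearMap) := inferInstance
  obtain ⟨h, hh⟩ := Module.projective_lifting_property F.toIntLinearMap.rangeRestrict LinearMap.id
    F.toIntLinearMap.surjective_rangeRestrict
  refine ⟨MonoidHom.mk' (fun y => ((Additive.toMul (h ⟨_, mem y⟩) : g.ker) : R)) fun a b => ?_,
    fun y => ⟨?_, ?_⟩⟩
  · have : (⟨_, mem (a * b)⟩ : LinearMap.range F.toIntLinearMap) = ⟨_, mem a⟩ + ⟨_, mem b⟩ :=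
      Subtype.ext rfl
    refine (congrArg (fun z => ((Additive.toMul (h z) : g.ker) : R)) this).trans ?_
    simp only [map_add, toMul_add, Subgroup.coe_mul]
  · have := congrArg Subtype.val (LinearMap.congr_fun hh ⟨_, mem y⟩)
    exact Multiplicative.toAdd.injective this
  · exact (Additive.toMul (h ⟨_, mem y⟩) : g.ker).2

variable {α Q : Type u} [Group Q] (π : FreeGroup α →* Q)

/-- The subgroup `⁅R, F⁆` of the free group, `R` the kernel of the presentation. -/
abbrev relCore : Subgroup (FreeGroup α) := ⁅π.ker, (⊤ : Subgroup (FreeGroup α))⁆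

/-- The group `F ⧸ ⁅R, F⁆`. -/
abbrev CExt : Type u := FreeGroup α ⧸ relCore π

/-- The canonical map `F ⧸ ⁅R, F⁆ →* Q`. -/
def extHom : CExt π →* Q :=
  QuotientGroup.lift (relCore π) π (Subgroup.commutator_le_left _ _)

/-- The image of `R` in `F ⧸ ⁅R, F⁆`. -/
def kerC : Subgroup (CExt π) := (extHom π).ker

/-- The Schur multiplier `(R ∩ F') ⧸ ⁅R, F⁆` as a subgroup of `F ⧸ ⁅R, F⁆`. -/
def relD : Subgroup (CExt π) := kerC π ⊓ commutator (CExt π)

theorem extHom_mk (x : FreeGroup α) : extHom π (QuotientGroup.mk x) = π x := rfl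

theorem extHom_surjective (hπ : Function.Surjective π) : Function.Surjective (extHom π) := fun q =>
  let ⟨x, hx⟩ := hπ q
  ⟨QuotientGroup.mk x, hx⟩

theorem kerC_central : kerC π ≤ Subgroup.center (CExt π) := by
  intro r hr
  induction r using QuotientGroup.induction_on with | _ r
  refine Subgroup.mem_center_iff.2 fun c => ?_
  induction c using QuotientGroup.induction_on with | _ c
  rw [← QuotientGroup.mk_mul, ← QuotientGroup.mk_mul, QuotientGroup.eq]
  have hr : r ∈ π.ker := hr
  have := Subgroup.commutator_mem_commutator (inv_mem hr) (Subgroup.mem_top c⁻¹)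
  convert this using 1
  simp only [commutatorElement_def]
  group

theorem extHom_ker_central : (extHom π).ker ≤ Subgroup.center (CExt π) := kerC_central π

instance : CommGroup (kerC π) :=
  { (inferInstance : Group (kerC π)) with
    mul_comm := fun a b => Subtype.ext (Subgroup.mem_center_iff.1 (kerC_central π b.2) a) }

theorem relD_le_kerC : relD π ≤ kerC π := inf_le_left

theorem relD_le_commutator : relD π ≤ commutator (CExt π) := inf_le_right

theorem finite_relD [Finite Q] (hπ : Function.Surjective π) : Finite (relD π) := by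
  have := finite_commutator_of_central (extHom π) (extHom_surjective π hπ) (extHom_ker_central π)
  exact Finite.of_injective _ (Subgroup.inclusion_injective (relD_le_commutator π))

/-- Freeness: `F ⧸ ⁅R, F⁆` maps to every central extension. -/
theorem exists_lift {X P : Type*} [Group X] [Group P] (ξ : X →* P) (hs : Function.Surjective ξ)
    (hc : ξ.ker ≤ Subgroup.center X) (γ : Q →* P) :
    ∃ φ : CExt π →* X, ξ.comp φ = γ.comp (extHom π) := by
  let φ0 : FreeGroup α →* X := FreeGroup.lift fun a => Function.surjInv hs (γ (π (FreeGroup.of a)))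
  have h0 : ξ.comp φ0 = γ.comp π := FreeGroup.ext_hom _ _ fun a => by
    simp [φ0, Function.surjInv_eq hs]
  refine ⟨QuotientGroup.lift _ φ0 ?_, MonoidHom.ext fun c => ?_⟩
  · rw [Subgroup.commutator_le]
    intro r hr c _
    rw [MonoidHom.mem_ker, map_commutatorElement, commutatorElement_eq_one_iff_mul_comm]
    refine (Subgroup.mem_center_iff.1 (hc ?_) _).symm
    rw [MonoidHom.mem_ker, show ξ (φ0 r) = γ (π r) from DFunLike.congr_fun h0 r,
      MonoidHom.mem_ker.1 hr, map_one]
  · induction c using QuotientGroup.induction_on with | _ c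
    exact DFunLike.congr_fun h0 c

theorem exists_lift_over {X : Type*} [Group X] (ξ : X →* Q) (hs : Function.Surjective ξ)
    (hc : ξ.ker ≤ Subgroup.center X) : ∃ φ : CExt π →* X, ξ.comp φ = extHom π := by
  obtain ⟨φ, hφ⟩ := exists_lift π ξ hs hc (MonoidHom.id Q)
  exact ⟨φ, by rwa [MonoidHom.id_comp] at hφ⟩

/-- The restriction to `relD π` of a map over `Q`. -/
def relDMap {X : Type*} [Group X] (ξ : X →* Q) (φ : CExt π →* X) (hφ : ξ.comp φ = extHom π) :
    relD π →* ξ.ker :=
  (φ.comp (relD π).subtype).codRestrict ξ.ker fun d => by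
    rw [MonoidHom.mem_ker]
    exact (DFunLike.congr_fun hφ _).trans (relD_le_kerC π d.2)

/-- Over a stem extension a lift is surjective. -/
theorem lift_surjective {X : Type*} [Group X] (ξ : X →* Q) (hst : Cfsg.IsStemExtension ξ)
    (φ : CExt π →* X) (hπ : Function.Surjective π) (hφ : ξ.comp φ = extHom π) :
    Function.Surjective φ := by
  have hcm : commutator X ≤ φ.range := by
    rw [commutator_def, Subgroup.commutator_le]
    intro x _ y _
    obtain ⟨a, ha⟩ := extHom_surjective π hπ (ξ x)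
    obtain ⟨b, hb⟩ := extHom_surjective π hπ (ξ y)
    have hx : ξ.comp (φ.comp (FreeGroup.lift fun _ : Unit => a)) =
        ξ.comp (FreeGroup.lift fun _ : Unit => x) := FreeGroup.ext_hom _ _ fun _ => by
      simpa using (DFunLike.congr_fun hφ a).trans ha
    obtain ⟨z, hz⟩ : ∃ z, z = (φ a)⁻¹ * x := ⟨_, rfl⟩
    obtain ⟨w, hw⟩ : ∃ w, w = (φ b)⁻¹ * y := ⟨_, rfl⟩
    have hzc : z ∈ Subgroup.center X := hst.2.1 (by
      rw [hz, MonoidHom.mem_ker, map_mul, map_inv, show ξ (φ a) = ξ x from
        (DFunLike.congr_fun hφ a).trans ha, inv_mul_cancel])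
    have hwc : w ∈ Subgroup.center X := hst.2.1 (by
      rw [hw, MonoidHom.mem_ker, map_mul, map_inv, show ξ (φ b) = ξ y from
        (DFunLike.congr_fun hφ b).trans hb, inv_mul_cancel])
    refine ⟨⁅a, b⁆, ?_⟩
    rw [map_commutatorElement, show x = φ a * z by rw [hz]; group,
      show y = φ b * w by rw [hw]; group]
    have e1 : ∀ (a b c : X), c ∈ Subgroup.center X → ⁅a * c, b⁆ = ⁅a, b⁆ := fun a b c hc => by
      rw [show ⁅a * c, b⁆ = a * (c * b) * c⁻¹ * a⁻¹ * b⁻¹ by
          simp only [commutatorElement_def]; group,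
        ← Subgroup.mem_center_iff.1 hc b, commutatorElement_def]
      group
    rw [e1 _ _ _ hzc, ← commutatorElement_inv (φ b * w), e1 _ _ _ hwc, commutatorElement_inv]
  intro x
  obtain ⟨a, ha⟩ := extHom_surjective π hπ (ξ x)
  have hk : (φ a)⁻¹ * x ∈ φ.range := hcm (hst.2.2 (by
    rw [MonoidHom.mem_ker, map_mul, map_inv, show ξ (φ a) = ξ x from
      (DFunLike.congr_fun hφ a).trans ha, inv_mul_cancel]))
  obtain ⟨b, hb⟩ := hk
  exact ⟨a * b, by rw [map_mul, hb, mul_inv_cancel_left]⟩

theorem relDMap_surjective {X : Type*} [Group X] (ξ : X →* Q) (hst : Cfsg.IsStemExtension ξ)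
    (φ : CExt π →* X) (hπ : Function.Surjective π) (hφ : ξ.comp φ = extHom π) :
    Function.Surjective (relDMap π ξ φ hφ) := by
  rintro ⟨x, hx⟩
  have : x ∈ (commutator (CExt π)).map φ := by
    rw [commutator_def, Subgroup.map_commutator, ← MonoidHom.range_eq_map,
      φ.range_eq_top_of_surjective (lift_surjective π ξ hst φ hπ hφ), ← commutator_def]
    exact hst.2.2 hx
  obtain ⟨c, hc, rfl⟩ := this
  refine ⟨⟨c, Subgroup.mem_inf.2 ⟨?_, hc⟩⟩, rfl⟩
  show extHom π c = 1
  rw [← hφ]
  exact hx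

theorem relDMap_bijective [Finite Q] {X : Type*} [Group X] (ξ : X →* Q)
    (hst : Cfsg.IsStemExtension ξ) (φ : CExt π →* X) (hπ : Function.Surjective π)
    (hφ : ξ.comp φ = extHom π) (hcard : Nat.card ξ.ker = Nat.card (relD π)) :
    Function.Bijective (relDMap π ξ φ hφ) := by
  have := finite_relD π hπ
  exact (Nat.bijective_iff_surjective_and_card _).2
    ⟨relDMap_surjective π ξ hst φ hπ hφ, hcard.symm⟩

section Finite

variable [Finite α]

/-- Exponent sums: the map `F ⧸ ⁅R, F⁆ →* ℤ^α`. -/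
noncomputable def expSum : CExt π →* Multiplicative (α → ℤ) :=
  letI := Classical.decEq α
  QuotientGroup.lift (relCore π)
    (FreeGroup.lift fun a => Multiplicative.ofAdd (Pi.single a (1 : ℤ))) (by
      rw [Subgroup.commutator_le]
      intro r _ c _
      rw [MonoidHom.mem_ker, map_commutatorElement, commutatorElement_eq_one_iff_mul_comm,
        mul_comm])

omit [Finite α] in
theorem expSum_of [DecidableEq α] (a : α) :
    expSum π (QuotientGroup.mk (FreeGroup.of a)) = Multiplicative.ofAdd (Pi.single a (1 : ℤ)) := by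
  refine (FreeGroup.lift_apply_of (f := fun a => Multiplicative.ofAdd
    (letI := Classical.decEq α; Pi.single a (1 : ℤ) : α → ℤ))).trans ?_
  congr! 2

theorem expSum_ker : (expSum π).ker = commutator (CExt π) := by
  refine le_antisymm ?_ (Abelianization.commutator_subset_ker _)
  classical
  have := Fintype.ofFinite α
  let g : Multiplicative (α → ℤ) →* Abelianization (CExt π) :=
    MonoidHom.mk' (fun v => ∏ a, Abelianization.of (QuotientGroup.mk (FreeGroup.of a) : CExt π) ^
      (Multiplicative.toAdd v a)) fun v w => by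
        simp only [toAdd_mul, Pi.add_apply, zpow_add, Finset.prod_mul_distrib]
  have hg : (g.comp (expSum π)).comp (QuotientGroup.mk' (relCore π)) =
      Abelianization.of.comp (QuotientGroup.mk' (relCore π)) := FreeGroup.ext_hom _ _ fun a => by
    show g (expSum π (QuotientGroup.mk (FreeGroup.of a))) =
      Abelianization.of (QuotientGroup.mk (FreeGroup.of a))
    rw [show expSum π (QuotientGroup.mk (FreeGroup.of a)) =
      Multiplicative.ofAdd (Pi.single a (1 : ℤ)) from FreeGroup.lift_apply_of]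
    show ∏ b, _ ^ (Pi.single a (1 : ℤ) : α → ℤ) b = _
    rw [Finset.prod_eq_single a (fun b _ hb => by rw [Pi.single_eq_of_ne hb, zpow_zero])
      (fun h => absurd (Finset.mem_univ a) h), Pi.single_eq_same, zpow_one]
  intro c hc
  induction c using QuotientGroup.induction_on with | _ c
  have h1 := DFunLike.congr_fun hg c
  simp only [MonoidHom.coe_comp, Function.comp_apply, QuotientGroup.mk'_apply] at h1
  rw [MonoidHom.mem_ker.1 hc, map_one] at h1
  exact (QuotientGroup.eq_one_iff (N := commutator (CExt π)) _).1 h1.symm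

/-- A complement of `relD π` in `kerC π`, inside the kernel of `φ` when `φ (relD π) = φ (kerC π)`. -/
theorem exists_compl {B : Type*} [Group B] (φ : CExt π →* B)
    (h : ∀ x ∈ kerC π, ∃ d ∈ relD π, φ d = φ x) :
    ∃ W : Subgroup (CExt π), W ≤ kerC π ∧ W ⊓ commutator (CExt π) = ⊥ ∧ W ⊔ relD π = kerC π ∧
      W ≤ φ.ker := by
  obtain ⟨s, hs⟩ := exists_section ((expSum π).comp (kerC π).subtype) (φ.comp (kerC π).subtype)
    (fun x => by
      obtain ⟨d, hd, hdx⟩ := h x.1 x.2
      refine ⟨⟨d, relD_le_kerC π hd⟩, ?_, hdx⟩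
      show expSum π d = 1
      rw [← MonoidHom.mem_ker, expSum_ker]
      exact relD_le_commutator π hd)
  have hle : ((kerC π).subtype.comp s).range ≤ kerC π := by
    rintro _ ⟨y, rfl⟩
    exact (s y).2
  refine ⟨((kerC π).subtype.comp s).range, hle, eq_bot_iff.2 ?_, ?_, ?_⟩
  · intro w hw
    obtain ⟨⟨y, rfl⟩, hw'⟩ := Subgroup.mem_inf.1 hw
    have : (y : Multiplicative (α → ℤ)) = 1 := by
      rw [← (hs y).1]
      show expSum π (s y : CExt π) = 1
      rw [← MonoidHom.mem_ker, expSum_ker]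
      exact hw'
    rw [Subgroup.mem_bot, show y = 1 from Subtype.ext this, map_one]
  · refine le_antisymm (sup_le hle (relD_le_kerC π)) fun x hx => ?_
    obtain ⟨y, hy⟩ : ∃ y : ((expSum π).comp (kerC π).subtype).range,
        (y : Multiplicative (α → ℤ)) = expSum π x := ⟨⟨_, ⟨x, hx⟩, rfl⟩, rfl⟩
    have hd : (s y : CExt π)⁻¹ * x ∈ relD π := by
      refine Subgroup.mem_inf.2 ⟨mul_mem (inv_mem (s y).2) hx, ?_⟩
      rw [← expSum_ker, MonoidHom.mem_ker, map_mul, map_inv,
        show expSum π (s y : CExt π) = y from (hs y).1, hy, inv_mul_cancel]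
    rw [show x = (s y : CExt π) * ((s y : CExt π)⁻¹ * x) by group]
    exact Subgroup.mul_mem_sup ⟨y, rfl⟩ hd
  · rintro _ ⟨y, rfl⟩
    exact (hs y).2

omit [Finite α] in
/-- A complement of `relD π` in `kerC π` gives a stem cover with kernel `relD π`. -/
theorem exists_cover_of_compl [Finite Q] (hπ : Function.Surjective π) (W : Subgroup (CExt π))
    (h1 : W ≤ kerC π) (h2 : W ⊓ commutator (CExt π) = ⊥) (h3 : W ⊔ relD π = kerC π) :
    ∃ (Γ : Type u) (_ : Group Γ) (_ : Finite Γ) (q : CExt π →* Γ) (σ : Γ →* Q),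
      Function.Surjective q ∧ q.ker = W ∧ σ.comp q = extHom π ∧ Cfsg.IsStemExtension σ ∧
        Nonempty (relD π ≃* σ.ker) := by
  have : W.Normal := ⟨fun w hw c => by
    rw [Subgroup.mem_center_iff.1 (kerC_central π (h1 hw)) c, mul_inv_cancel_right]
    exact hw⟩
  obtain ⟨σ, hσq⟩ : ∃ σ : CExt π ⧸ W →* Q, σ.comp (QuotientGroup.mk' W) = extHom π :=
    ⟨QuotientGroup.lift W (extHom π) h1, MonoidHom.ext fun c => rfl⟩
  have hcomp : ∀ c, σ (QuotientGroup.mk' W c) = extHom π c := fun c => DFunLike.congr_fun hσq c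
  have hker : σ.ker = (relD π).map (QuotientGroup.mk' W) := by
    refine le_antisymm (fun x hx => ?_) ?_
    · induction x using QuotientGroup.induction_on with | _ c
      have hc : c ∈ W ⊔ relD π := by rw [h3]; exact (hcomp c).symm.trans hx
      have hnd : (relD π).Normal := ⟨fun d hd c => by
        rw [Subgroup.mem_center_iff.1 (kerC_central π (relD_le_kerC π hd)) c, mul_inv_cancel_right]
        exact hd⟩
      obtain ⟨w, hw, d, hd, rfl⟩ := Subgroup.mem_sup_of_normal_right.1 hc
      refine ⟨d, hd, ?_⟩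
      rw [QuotientGroup.mk'_apply, QuotientGroup.mk_mul, (QuotientGroup.eq_one_iff w).2 hw, one_mul]
    · rintro _ ⟨d, hd, rfl⟩
      exact (hcomp d).trans (relD_le_kerC π hd)
  have hst : Cfsg.IsStemExtension σ := by
    refine ⟨fun q => ?_, ?_, ?_⟩
    · obtain ⟨c, hc⟩ := extHom_surjective π hπ q
      exact ⟨QuotientGroup.mk' W c, (hcomp c).trans hc⟩
    · rw [hker]
      rintro _ ⟨d, hd, rfl⟩
      refine Subgroup.mem_center_iff.2 fun x => ?_
      induction x using QuotientGroup.induction_on with | _ c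
      rw [QuotientGroup.mk'_apply, ← QuotientGroup.mk_mul, ← QuotientGroup.mk_mul,
        Subgroup.mem_center_iff.1 (kerC_central π (relD_le_kerC π hd)) c]
    · rw [hker]
      refine (Subgroup.map_mono (relD_le_commutator π)).trans ?_
      rw [commutator_def, Subgroup.map_commutator, commutator_def]
      exact Subgroup.commutator_mono le_top le_top
  have hbij : Function.Bijective (relDMap π σ (QuotientGroup.mk' W) hσq) := by
    refine ⟨(injective_iff_map_eq_one _).2 fun d hd => ?_,
      relDMap_surjective π σ hst _ hπ hσq⟩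
    have hdW : (d : CExt π) ∈ W := (QuotientGroup.eq_one_iff _).1 (congrArg Subtype.val hd)
    have : (d : CExt π) ∈ W ⊓ commutator (CExt π) :=
      Subgroup.mem_inf.2 ⟨hdW, relD_le_commutator π d.2⟩
    rw [h2, Subgroup.mem_bot] at this
    exact Subtype.ext this
  have := finite_relD π hπ
  have : Finite σ.ker := Finite.of_surjective _ hbij.2
  have : Finite ((CExt π ⧸ W) ⧸ σ.ker) := Finite.of_injective _ (QuotientGroup.kerLift_injective σ)
  exact ⟨CExt π ⧸ W, inferInstance, Finite.of_subgroup_quotient σ.ker, QuotientGroup.mk' W, σ,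
    QuotientGroup.mk'_surjective W, QuotientGroup.ker_mk' W, hσq, hst,
    ⟨MulEquiv.ofBijective _ hbij⟩⟩

/-- Some cover with kernel `relD π` maps onto any given stem extension. -/
theorem exists_cover_over [Finite Q] (hπ : Function.Surjective π) {X : Type*} [Group X]
    (ξ : X →* Q) (hst : Cfsg.IsStemExtension ξ) :
    ∃ (Γ : Type u) (_ : Group Γ) (_ : Finite Γ) (σ : Γ →* Q), Cfsg.IsStemExtension σ ∧
      Nonempty (relD π ≃* σ.ker) ∧ ∃ β : Γ →* X, Function.Surjective β ∧ ξ.comp β = σ := by
  obtain ⟨φ, hφ⟩ := exists_lift_over π ξ hst.1 hst.2.1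
  have h : ∀ x ∈ kerC π, ∃ d ∈ relD π, φ d = φ x := fun x hx => by
    obtain ⟨d, hd⟩ := relDMap_surjective π ξ hst φ hπ hφ
      ⟨φ x, (DFunLike.congr_fun hφ x).trans hx⟩
    exact ⟨d, d.2, congrArg Subtype.val hd⟩
  obtain ⟨W, h1, h2, h3, h4⟩ := exists_compl π φ h
  obtain ⟨Γ, i1, i2, q, σ, hq, hqW, hσq, hσ, he⟩ := exists_cover_of_compl π hπ W h1 h2 h3
  refine ⟨Γ, i1, i2, σ, hσ, he, q.liftOfSurjective hq ⟨φ, hqW ▸ h4⟩, fun x => ?_,
    MonoidHom.ext fun x => ?_⟩
  · obtain ⟨c, rfl⟩ := lift_surjective π ξ hst φ hπ hφ x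
    exact ⟨q c, MonoidHom.liftOfRightInverse_comp_apply q _ _ _ c⟩
  · obtain ⟨c, rfl⟩ := hq x
    rw [MonoidHom.comp_apply, MonoidHom.liftOfRightInverse_comp_apply q _ _ _ c]
    exact (DFunLike.congr_fun hφ c).trans (DFunLike.congr_fun hσq c).symm

/-- The Schur multiplier is `relD π`. -/
theorem mult_iso [Finite Q] (hπ : Function.Surjective π) {A : Type*} [CommGroup A]
    (hA : Cfsg.HasSchurMultiplier Q A) : Nonempty (relD π ≃* A) := by
  obtain ⟨Δ, _, _, τ, hτ, ⟨e⟩⟩ := hA.1
  obtain ⟨φ, hφ⟩ := exists_lift_over π τ hτ.1 hτ.2.1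
  let f : relD π →* A := e.toMonoidHom.comp (relDMap π τ φ hφ)
  have hf : Function.Surjective f := e.surjective.comp (relDMap_surjective π τ hτ φ hπ hφ)
  obtain ⟨Γ, i1, i2, σ, hσ, ⟨e'⟩, _⟩ := exists_cover_over π hπ τ hτ
  obtain ⟨g, hg⟩ := @hA.2 Γ i1 i2 σ hσ
  have := finite_relD π hπ
  have : Finite A := Finite.of_surjective f hf
  have h1 : Nat.card A ≤ Nat.card (relD π) := Nat.card_le_card_of_surjective f hf
  have h2 : Nat.card (relD π) ≤ Nat.card A :=
    Nat.card_congr e'.toEquiv ▸ Nat.card_le_card_of_surjective g hg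
  exact ⟨MulEquiv.ofBijective f
    ((Nat.bijective_iff_surjective_and_card f).2 ⟨hf, le_antisymm h2 h1⟩)⟩

/-- Recognition of the Schur multiplier. -/
theorem hasSchur_of_iso [Finite Q] (hπ : Function.Surjective π) {A : Type*} [CommGroup A]
    (e : relD π ≃* A) : Cfsg.HasSchurMultiplier Q A := by
  refine ⟨?_, fun Δ _ _ τ hτ => ?_⟩
  · obtain ⟨Γ, i1, i2, σ, hσ, ⟨e'⟩, -⟩ := exists_cover_over π hπ (MonoidHom.id Q)
      ⟨Function.surjective_id, fun x hx => by rw [show x = 1 from hx]; exact one_mem _,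
        fun x hx => by rw [show x = 1 from hx]; exact one_mem _⟩
    exact ⟨Γ, i1, i2, σ, hσ, ⟨e'.symm.trans e⟩⟩
  · obtain ⟨φ, hφ⟩ := exists_lift_over π τ hτ.1 hτ.2.1
    exact ⟨(relDMap π τ φ hφ).comp e.symm.toMonoidHom,
      (relDMap_surjective π τ hτ φ hπ hφ).comp e.symm.surjective⟩

end Finite

/-- The presentation of a group by all of its elements. -/
def allGen (Q : Type u) [Group Q] : FreeGroup Q →* Q := FreeGroup.lift id

theorem allGen_surjective (Q : Type u) [Group Q] : Function.Surjective (allGen Q) := fun q =>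
  ⟨FreeGroup.of q, FreeGroup.lift_apply_of⟩

end Cfsg.Agent.Solv
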