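import Mathlib
import Cfsg.Agent.Lib.Solv.SchurMult

/-!
The Schur multiplier of a direct product.
-/

set_option autoImplicit false
set_option linter.style.haveILetI false

open scoped commutatorElement TensorProduct

namespace Cfsg.Agent.Solv

universe u v w

theorem commutator_le_map {G X P : Type*} [Group G] [Group X] [Group P] (φ : G →* X) (ξ : X →* P)
    (hc : ξ.ker ≤ Subgroup.center X) (hs : Function.Surjective (ξ.comp φ)) :
    commutator X ≤ (commutator G).map φ := by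
  rw [commutator_def, Subgroup.commutator_le]
  intro x _ y _
  obtain ⟨a, ha⟩ := hs (ξ x)
  obtain ⟨b, hb⟩ := hs (ξ y)
  refine ⟨⁅a, b⁆, Subgroup.commutator_mem_commutator trivial trivial, ?_⟩
  have hab : ξ.comp (φ.comp (FreeGroup.lift ![a, b])) = ξ.comp (FreeGroup.lift ![x, y]) :=
    FreeGroup.ext_hom _ _ fun i => by
      fin_cases i
      · simpa using ha
      · simpa using hb
  have := eq_on_commutator ξ hc hab
    (Subgroup.commutator_mem_commutator (Subgroup.mem_top (FreeGroup.of (0 : Fin 2)))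
      (Subgroup.mem_top (FreeGroup.of (1 : Fin 2))))
  simpa [map_commutatorElement] using this

theorem hasSchur_congr {G : Type*} [Group G] {A A' : Type*} [CommGroup A] [CommGroup A']
    (e : A ≃* A') (h : Cfsg.HasSchurMultiplier G A) : Cfsg.HasSchurMultiplier G A' := by
  obtain ⟨⟨Γ, i1, i2, σ, hσ, ⟨k⟩⟩, h2⟩ := h
  refine ⟨⟨Γ, i1, i2, σ, hσ, ⟨k.trans e⟩⟩, fun Δ _ _ τ hτ => ?_⟩
  obtain ⟨f, hf⟩ := h2 Δ τ hτ
  exact ⟨f.comp e.symm.toMonoidHom, hf.comp e.symm.surjective⟩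

section Twist

/-- The central extension of `G × H` by `T` with commutator pairing `b`. -/
@[ext]
structure TwProd {G : Type u} {H : Type v} {T : Type w} [Group G] [Group H] [CommGroup T]
    (b : H →* (G →* T)) where
  /-- first coordinate -/
  fst : G
  /-- second coordinate -/
  snd : H
  /-- central coordinate -/
  tag : T

variable {G : Type u} {H : Type v} {T : Type w} [Group G] [Group H] [CommGroup T]
  {b : H →* (G →* T)}

instance : Mul (TwProd b) :=
  ⟨fun p q => ⟨p.fst * q.fst, p.snd * q.snd, p.tag * q.tag * b p.snd q.fst⟩⟩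

instance : One (TwProd b) := ⟨⟨1, 1, 1⟩⟩

instance : Inv (TwProd b) := ⟨fun p => ⟨p.fst⁻¹, p.snd⁻¹, (p.tag * b p.snd⁻¹ p.fst)⁻¹⟩⟩

theorem TwProd.fst_mul (p q : TwProd b) : (p * q).fst = p.fst * q.fst := rfl
theorem TwProd.snd_mul (p q : TwProd b) : (p * q).snd = p.snd * q.snd := rfl
theorem TwProd.tag_mul (p q : TwProd b) :
    (p * q).tag = p.tag * q.tag * b p.snd q.fst := rfl

instance : Group (TwProd b) :=
  Group.ofLeftAxioms
    (fun p q r => by
      refine TwProd.ext (mul_assoc _ _ _) (mul_assoc _ _ _) ?_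
      simp only [TwProd.tag_mul, TwProd.fst_mul, TwProd.snd_mul, map_mul, MonoidHom.mul_apply]
      simp only [mul_assoc, mul_left_comm, mul_comm])
    (fun p => by
      refine TwProd.ext (one_mul _) (one_mul _) ?_
      show 1 * p.tag * b 1 p.fst = p.tag
      rw [map_one, MonoidHom.one_apply, one_mul, mul_one])
    (fun p => by
      refine TwProd.ext (inv_mul_cancel _) (inv_mul_cancel _) ?_
      show (p.tag * b p.snd⁻¹ p.fst)⁻¹ * p.tag * b p.snd⁻¹ p.fst = 1
      rw [mul_assoc, inv_mul_cancel])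

instance [Finite G] [Finite H] [Finite T] : Finite (TwProd b) :=
  Finite.of_injective (fun p : TwProd b => (p.fst, p.snd, p.tag)) fun p q h => by
    simp only [Prod.mk.injEq] at h
    exact TwProd.ext h.1 h.2.1 h.2.2

end Twist

/-- The tensor product of the abelianizations. -/
abbrev AbTensor (Q₁ : Type u) (Q₂ : Type v) [Group Q₁] [Group Q₂] :=
  Additive (Abelianization Q₁) ⊗[ℤ] Additive (Abelianization Q₂)

variable {Q₁ : Type u} {Q₂ : Type v} [Group Q₁] [Group Q₂]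

theorem nsmul_abTensor_eq_zero {k : ℕ}
    (hk : (∀ a : Abelianization Q₁, a ^ k = 1) ∨ (∀ a : Abelianization Q₂, a ^ k = 1))
    (x : AbTensor Q₁ Q₂) : k • x = 0 := by
  induction x using TensorProduct.induction_on with
  | zero => exact smul_zero _
  | add x y hx hy => rw [smul_add, hx, hy, add_zero]
  | tmul a c =>
    rcases hk with hk | hk
    · rw [TensorProduct.smul_tmul', show k • a = 0 from hk (Additive.toMul a),
        TensorProduct.zero_tmul]
    · rw [← TensorProduct.tmul_smul, show k • c = 0 from hk (Additive.toMul c),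
        TensorProduct.tmul_zero]

theorem finite_abTensor [Finite Q₁] [Finite Q₂] : Finite (AbTensor Q₁ Q₂) := by
  have : Finite (Abelianization Q₁) := inferInstance
  have : Module.Finite ℤ (Additive (Abelianization Q₁)) := Module.Finite.of_finite
  have : Module.Finite ℤ (Additive (Abelianization Q₂)) := Module.Finite.of_finite
  have : Module.Finite ℤ (AbTensor Q₁ Q₂) := Module.Finite.tensorProduct ℤ _ _
  refine Module.finite_of_fg_torsion _ fun {x} => ?_
  refine ⟨⟨(Nat.card (Abelianization Q₁) : ℤ), mem_nonZeroDivisors_of_ne_zero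
    (Nat.cast_ne_zero.2 Nat.card_pos.ne')⟩, ?_⟩
  show (Nat.card (Abelianization Q₁) : ℤ) • x = 0
  rw [natCast_zsmul]
  exact nsmul_abTensor_eq_zero (Or.inl fun a => pow_card_eq_one') x

/-- The commutator pairing of the product cover. -/
noncomputable def tensorPairing {Γ₁ : Type*} {Γ₂ : Type*} [Group Γ₁] [Group Γ₂] (σ₁ : Γ₁ →* Q₁)
    (σ₂ : Γ₂ →* Q₂) : Γ₂ →* (Γ₁ →* Multiplicative (AbTensor Q₁ Q₂)) :=
  MonoidHom.mk' (fun y => MonoidHom.mk' (fun x => Multiplicative.ofAdd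
      (Additive.ofMul (Abelianization.of (σ₁ x)) ⊗ₜ[ℤ]
        Additive.ofMul (Abelianization.of (σ₂ y))))
    fun a c => by
      rw [map_mul, map_mul, ofMul_mul, TensorProduct.add_tmul, ofAdd_add])
    fun a c => MonoidHom.ext fun x => by
      show Multiplicative.ofAdd (_ ⊗ₜ[ℤ] Additive.ofMul (Abelianization.of (σ₂ (a * c)))) = _
      rw [map_mul, map_mul, ofMul_mul, TensorProduct.tmul_add, ofAdd_add]
      rfl

/-- A cover of the product. -/
theorem exists_prod_cover [Finite Q₁] [Finite Q₂] {Γ₁ : Type u} [Group Γ₁] [Finite Γ₁]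
    (σ₁ : Γ₁ →* Q₁) (h₁ : Cfsg.IsStemExtension σ₁) {Γ₂ : Type v} [Group Γ₂] [Finite Γ₂]
    (σ₂ : Γ₂ →* Q₂) (h₂ : Cfsg.IsStemExtension σ₂) :
    ∃ (E : Type max u v) (_ : Group E) (_ : Finite E) (σ : E →* Q₁ × Q₂),
      Cfsg.IsStemExtension σ ∧
        Nonempty (σ.ker ≃* σ₁.ker × σ₂.ker × Multiplicative (AbTensor Q₁ Q₂)) := by
  have := finite_abTensor (Q₁ := Q₁) (Q₂ := Q₂)
  let b := tensorPairing σ₁ σ₂
  let σ : TwProd b →* Q₁ × Q₂ := MonoidHom.mk' (fun p => (σ₁ p.fst, σ₂ p.snd)) fun p q => by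
    simp [TwProd.fst_mul, TwProd.snd_mul]
  have hmem : ∀ p : TwProd b, p ∈ σ.ker ↔ p.fst ∈ σ₁.ker ∧ p.snd ∈ σ₂.ker := fun p => by
    rw [MonoidHom.mem_ker, MonoidHom.mem_ker, MonoidHom.mem_ker]
    exact Prod.mk_eq_one
  have hbl : ∀ (y : Γ₂) (x : Γ₁), σ₁ x = 1 → b y x = 1 := fun y x h => by
    show Multiplicative.ofAdd (Additive.ofMul (Abelianization.of (σ₁ x)) ⊗ₜ[ℤ] _) = 1
    rw [h, map_one, ofMul_one, TensorProduct.zero_tmul, ofAdd_zero]
  have hbr : ∀ (y : Γ₂) (x : Γ₁), σ₂ y = 1 → b y x = 1 := fun y x h => by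
    show Multiplicative.ofAdd (_ ⊗ₜ[ℤ] Additive.ofMul (Abelianization.of (σ₂ y))) = 1
    rw [h, map_one, ofMul_one, TensorProduct.tmul_zero, ofAdd_zero]
  have hc : σ.ker ≤ Subgroup.center (TwProd b) := by
    intro p hp
    obtain ⟨h3, h4⟩ := (hmem p).1 hp
    refine Subgroup.mem_center_iff.2 fun q => TwProd.ext ?_ ?_ ?_
    · exact Subgroup.mem_center_iff.1 (h₁.2.1 h3) q.fst
    · exact Subgroup.mem_center_iff.1 (h₂.2.1 h4) q.snd
    · show q.tag * p.tag * b q.snd p.fst = p.tag * q.tag * b p.snd q.fst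
      rw [hbl _ _ h3, hbr _ _ h4, mul_comm q.tag]
  let f1 : Γ₁ →* TwProd b := MonoidHom.mk' (fun x => ⟨x, 1, 1⟩) fun x x' => by
    refine TwProd.ext rfl (one_mul _).symm ?_
    show 1 = 1 * 1 * b 1 x'
    rw [map_one, MonoidHom.one_apply, one_mul, one_mul]
  let f2 : Γ₂ →* TwProd b := MonoidHom.mk' (fun y => ⟨1, y, 1⟩) fun y y' => by
    refine TwProd.ext (one_mul _).symm rfl ?_
    show 1 = 1 * 1 * b y 1
    rw [map_one, one_mul, one_mul]
  let ι : Multiplicative (AbTensor Q₁ Q₂) →* TwProd b :=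
    MonoidHom.mk' (fun t => ⟨1, 1, t⟩) fun t t' => by
      refine TwProd.ext (one_mul _).symm (one_mul _).symm ?_
      show t * t' = t * t' * b 1 1
      rw [map_one, mul_one]
  have hf1 : ∀ x ∈ commutator Γ₁, f1 x ∈ commutator (TwProd b) := fun x hx => by
    have h := Subgroup.mem_map_of_mem f1 hx
    rw [commutator_def, Subgroup.map_commutator] at h
    exact Subgroup.commutator_mono le_top le_top h
  have hf2 : ∀ x ∈ commutator Γ₂, f2 x ∈ commutator (TwProd b) := fun x hx => by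
    have h := Subgroup.mem_map_of_mem f2 hx
    rw [commutator_def, Subgroup.map_commutator] at h
    exact Subgroup.commutator_mono le_top le_top h
  have hι : ∀ t, ι t ∈ commutator (TwProd b) := by
    have key : ∀ y x, ι (b y x) ∈ commutator (TwProd b) := fun y x => by
      have h : (f1 x * f2 y) * ι (b y x) = f2 y * f1 x := by
        refine TwProd.ext ?_ ?_ ?_
        · show x * 1 * 1 = 1 * x
          rw [mul_one, mul_one, one_mul]
        · show 1 * y * 1 = y * 1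
          rw [one_mul]
        · show 1 * 1 * b 1 1 * b y x * b (1 * y) 1 = 1 * 1 * b y x
          simp
      rw [show ι (b y x) = ⁅(f2 y)⁻¹, (f1 x)⁻¹⁆ by
        rw [← inv_mul_cancel_left (f1 x * f2 y) (ι (b y x)), h, commutatorElement_def]
        group]
      exact Subgroup.commutator_mem_commutator trivial trivial
    intro t
    obtain ⟨s, rfl⟩ := Multiplicative.ofAdd.surjective t
    induction s using TensorProduct.induction_on with
    | zero => rw [ofAdd_zero, map_one]; exact one_mem _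
    | add s s' hs hs' => rw [ofAdd_add, map_mul]; exact mul_mem hs hs'
    | tmul a c =>
      obtain ⟨q, hq⟩ : ∃ q : Q₁, Abelianization.of q = Additive.toMul a :=
        QuotientGroup.mk'_surjective _ (Additive.toMul a)
      obtain ⟨r, hr⟩ : ∃ r : Q₂, Abelianization.of r = Additive.toMul c :=
        QuotientGroup.mk'_surjective _ (Additive.toMul c)
      obtain ⟨x, hx⟩ := h₁.1 q
      obtain ⟨y, hy⟩ := h₂.1 r
      convert key y x using 3
      show _ = Multiplicative.ofAdd (Additive.ofMul (Abelianization.of (σ₁ x)) ⊗ₜ[ℤ]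
        Additive.ofMul (Abelianization.of (σ₂ y)))
      rw [hx, hy, hq, hr, ofMul_toMul, ofMul_toMul]
  have hdec : ∀ p : TwProd b, p = f1 p.fst * f2 p.snd * ι p.tag := fun p => by
    refine TwProd.ext ?_ ?_ ?_
    · show p.fst = p.fst * 1 * 1
      rw [mul_one, mul_one]
    · show p.snd = 1 * p.snd * 1
      rw [one_mul, mul_one]
    · show p.tag = 1 * 1 * b 1 1 * p.tag * b (1 * p.snd) 1
      simp
  refine ⟨TwProd b, inferInstance, inferInstance, σ, ⟨fun q => ?_, hc, fun p hp => ?_⟩, ⟨?_⟩⟩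
  · obtain ⟨x, hx⟩ := h₁.1 q.1
    obtain ⟨y, hy⟩ := h₂.1 q.2
    exact ⟨⟨x, y, 1⟩, Prod.ext hx hy⟩
  · obtain ⟨h3, h4⟩ := (hmem p).1 hp
    rw [hdec p]
    exact mul_mem (mul_mem (hf1 _ (h₁.2.2 h3)) (hf2 _ (h₂.2.2 h4))) (hι _)
  · exact
      { toFun := fun p => (⟨p.1.fst, ((hmem p.1).1 p.2).1⟩, ⟨p.1.snd, ((hmem p.1).1 p.2).2⟩,
          p.1.tag)
        invFun := fun z => ⟨⟨z.1.1, z.2.1.1, z.2.2⟩, (hmem _).2 ⟨z.1.2, z.2.1.2⟩⟩
        left_inv := fun p => rfl
        right_inv := fun z => rfl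
        map_mul' := fun p q => by
          refine Prod.ext (Subtype.ext rfl) (Prod.ext (Subtype.ext rfl) ?_)
          show p.1.tag * q.1.tag * b p.1.snd q.1.fst = p.1.tag * q.1.tag
          rw [hbr _ _ ((hmem p.1).1 p.2).2, mul_one] }

/-- Every stem kernel of the product is an image of `A × B × (Q₁ᵃᵇ ⊗ Q₂ᵃᵇ)`. -/
theorem exists_prod_surj [Finite Q₁] [Finite Q₂] {A B : Type w} [CommGroup A] [CommGroup B]
    (eA : relD (allGen Q₁) ≃* A) (eB : relD (allGen Q₂) ≃* B) {Δ : Type*} [Group Δ]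
    (τ : Δ →* Q₁ × Q₂) (hτ : Cfsg.IsStemExtension τ) :
    ∃ f : A × B × Multiplicative (AbTensor Q₁ Q₂) →* τ.ker, Function.Surjective f := by
  letI : CommGroup τ.ker :=
    { (inferInstance : Group τ.ker) with
      mul_comm := fun a b => Subtype.ext (Subgroup.mem_center_iff.1 (hτ.2.1 b.2) a) }
  let P1 : Subgroup Δ := ((MonoidHom.snd Q₁ Q₂).comp τ).ker
  let P2 : Subgroup Δ := ((MonoidHom.fst Q₁ Q₂).comp τ).ker
  let τ1 : P1 →* Q₁ := ((MonoidHom.fst Q₁ Q₂).comp τ).comp P1.subtype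
  let τ2 : P2 →* Q₂ := ((MonoidHom.snd Q₁ Q₂).comp τ).comp P2.subtype
  have h1s : Function.Surjective τ1 := fun q => by
    obtain ⟨x, hx⟩ := hτ.1 (q, 1)
    exact ⟨⟨x, congrArg Prod.snd hx⟩, congrArg Prod.fst hx⟩
  have h2s : Function.Surjective τ2 := fun q => by
    obtain ⟨x, hx⟩ := hτ.1 (1, q)
    exact ⟨⟨x, congrArg Prod.fst hx⟩, congrArg Prod.snd hx⟩
  have h1c : τ1.ker ≤ Subgroup.center P1 := fun x hx => Subgroup.mem_center_iff.2 fun y =>
    Subtype.ext (Subgroup.mem_center_iff.1 (hτ.2.1 (Prod.ext hx x.2)) y)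
  have h2c : τ2.ker ≤ Subgroup.center P2 := fun x hx => Subgroup.mem_center_iff.2 fun y =>
    Subtype.ext (Subgroup.mem_center_iff.1 (hτ.2.1 (Prod.ext x.2 hx)) y)
  obtain ⟨φ1, hφ1⟩ := exists_lift_over (allGen Q₁) τ1 h1s h1c
  obtain ⟨φ2, hφ2⟩ := exists_lift_over (allGen Q₂) τ2 h2s h2c
  let ψ1 := P1.subtype.comp φ1
  let ψ2 := P2.subtype.comp φ2
  have hτ1 : ∀ c, τ (ψ1 c) = (extHom (allGen Q₁) c, 1) := fun c =>
    Prod.ext (DFunLike.congr_fun hφ1 c) (φ1 c).2
  have hτ2 : ∀ c, τ (ψ2 c) = (1, extHom (allGen Q₂) c) := fun c =>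
    Prod.ext (φ2 c).2 (DFunLike.congr_fun hφ2 c)
  let a1 : A →* τ.ker := ((ψ1.comp (relD (allGen Q₁)).subtype).codRestrict τ.ker fun d => by
    rw [MonoidHom.mem_ker, MonoidHom.comp_apply, hτ1]
    exact Prod.ext (relD_le_kerC _ d.2) rfl).comp eA.symm.toMonoidHom
  let a2 : B →* τ.ker := ((ψ2.comp (relD (allGen Q₂)).subtype).codRestrict τ.ker fun d => by
    rw [MonoidHom.mem_ker, MonoidHom.comp_apply, hτ2]
    exact Prod.ext rfl (relD_le_kerC _ d.2)).comp eB.symm.toMonoidHom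
  -- the commutator pairing
  obtain ⟨s1, hs1⟩ : ∃ s : Q₁ → Δ, ∀ q, τ (s q) = (q, 1) :=
    ⟨fun q => Function.surjInv hτ.1 (q, 1), fun q => Function.surjInv_eq hτ.1 _⟩
  obtain ⟨s2, hs2⟩ : ∃ s : Q₂ → Δ, ∀ q, τ (s q) = (1, q) :=
    ⟨fun q => Function.surjInv hτ.1 (1, q), fun q => Function.surjInv_eq hτ.1 _⟩
  have hk12 : ∀ x y : Δ, (τ x).2 = 1 → (τ y).1 = 1 → ⁅x, y⁆ ∈ τ.ker := fun x y hx hy => by
    rw [MonoidHom.mem_ker, map_commutatorElement]
    refine Prod.ext ?_ ?_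
    · show (⁅τ x, τ y⁆).1 = 1
      simp [commutatorElement_def, hy]
    · show (⁅τ x, τ y⁆).2 = 1
      simp [commutatorElement_def, hx]
  have hcongr : ∀ {x x' y y' : Δ}, τ x = τ x' → τ y = τ y' → ⁅x, y⁆ = ⁅x', y'⁆ := by
    intro x x' y y' hx hy
    have hab : τ.comp (FreeGroup.lift ![x, y]) = τ.comp (FreeGroup.lift ![x', y']) :=
      FreeGroup.ext_hom _ _ fun i => by
        fin_cases i
        · simpa using hx
        · simpa using hy
    have := eq_on_commutator τ hτ.2.1 hab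
      (Subgroup.commutator_mem_commutator (Subgroup.mem_top (FreeGroup.of (0 : Fin 2)))
        (Subgroup.mem_top (FreeGroup.of (1 : Fin 2))))
    simpa [map_commutatorElement] using this
  have hk : ∀ q r, ⁅s1 q, s2 r⁆ ∈ τ.ker := fun q r =>
    hk12 _ _ (congrArg Prod.snd (hs1 q)) (congrArg Prod.fst (hs2 r))
  let μ : Q₁ →* (Q₂ →* τ.ker) := MonoidHom.mk' (fun q => MonoidHom.mk' (fun r => ⟨_, hk q r⟩)
      fun r r' => Subtype.ext (by
        show ⁅s1 q, s2 (r * r')⁆ = ⁅s1 q, s2 r⁆ * ⁅s1 q, s2 r'⁆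
        rw [hcongr (x' := s1 q) (y' := s2 r * s2 r') rfl (by
          rw [map_mul, hs2, hs2, hs2, Prod.mk_mul_mk, one_mul])]
        calc ⁅s1 q, s2 r * s2 r'⁆ = ⁅s1 q, s2 r⁆ * (s2 r * ⁅s1 q, s2 r'⁆) * (s2 r)⁻¹ := by
              simp only [commutatorElement_def]; group
          _ = _ := by
            rw [Subgroup.mem_center_iff.1 (hτ.2.1 (hk q r')) (s2 r)]; group))
    fun q q' => MonoidHom.ext fun r => Subtype.ext (by
      show ⁅s1 (q * q'), s2 r⁆ = ⁅s1 q, s2 r⁆ * ⁅s1 q', s2 r⁆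
      rw [hcongr (x' := s1 q * s1 q') (y' := s2 r) (by
          rw [map_mul, hs1, hs1, hs1, Prod.mk_mul_mk, one_mul]) rfl]
      calc ⁅s1 q * s1 q', s2 r⁆ = (s1 q * ⁅s1 q', s2 r⁆) * (s2 r * (s1 q)⁻¹ * (s2 r)⁻¹) := by
            simp only [commutatorElement_def]; group
        _ = ⁅s1 q', s2 r⁆ * ⁅s1 q, s2 r⁆ := by
            rw [Subgroup.mem_center_iff.1 (hτ.2.1 (hk q' r)) (s1 q), mul_assoc]
            congr 1
            simp only [commutatorElement_def]; group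
        _ = _ := (Subgroup.mem_center_iff.1 (hτ.2.1 (hk q' r)) _).symm)
  let μab : Abelianization Q₁ →* (Q₂ →* τ.ker) := Abelianization.lift μ
  let g : Additive (Abelianization Q₁) →+ Additive (Abelianization Q₂) →+ Additive τ.ker :=
    AddMonoidHom.mk' (fun a => MonoidHom.toAdditive (Abelianization.lift (μab (Additive.toMul a))))
      fun a a' => by
        refine AddMonoidHom.ext fun c => ?_
        obtain ⟨r, hr⟩ : ∃ r : Q₂, Abelianization.of r = Additive.toMul c :=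
          QuotientGroup.mk'_surjective _ (Additive.toMul c)
        show Additive.ofMul (Abelianization.lift (μab (Additive.toMul (a + a')))
            (Additive.toMul c)) =
          Additive.ofMul (Abelianization.lift (μab (Additive.toMul a)) (Additive.toMul c)) +
          Additive.ofMul (Abelianization.lift (μab (Additive.toMul a')) (Additive.toMul c))
        rw [← hr, ← ofMul_mul, toMul_add, map_mul]
        rfl
  let θ : AbTensor Q₁ Q₂ →+ Additive τ.ker := TensorProduct.liftAddHom g fun z a c => by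
    rw [map_zsmul, map_zsmul]
    rfl
  have hθ : ∀ q r, θ (Additive.ofMul (Abelianization.of q) ⊗ₜ[ℤ]
      Additive.ofMul (Abelianization.of r)) = Additive.ofMul (⟨_, hk q r⟩ : τ.ker) := fun q r => rfl
  let a3 : Multiplicative (AbTensor Q₁ Q₂) →* τ.ker := AddMonoidHom.toMultiplicativeLeft θ
  let f := a1.coprod (a2.coprod a3)
  refine ⟨f, ?_⟩
  -- modulo the pairing the two halves commute
  let R : Subgroup Δ := a3.range.map τ.ker.subtype
  have hR : R ≤ τ.ker := Subgroup.map_subtype_le _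
  have : R.Normal := ⟨fun x hx d => by
    rw [Subgroup.mem_center_iff.1 (hτ.2.1 (hR hx)) d, mul_inv_cancel_right]
    exact hx⟩
  have hcomm : ∀ c d, Commute ((QuotientGroup.mk' R) (ψ1 c)) ((QuotientGroup.mk' R) (ψ2 d)) := by
    intro c d
    rw [commute_iff_eq, ← commutatorElement_eq_one_iff_mul_comm, ← map_commutatorElement,
      QuotientGroup.mk'_apply, QuotientGroup.eq_one_iff]
    have hcd : ⁅ψ1 c, ψ2 d⁆ = ⁅s1 (extHom _ c), s2 (extHom _ d)⁆ :=
      hcongr ((hτ1 c).trans (hs1 _).symm) ((hτ2 d).trans (hs2 _).symm)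
    rw [hcd]
    refine ⟨⟨_, hk _ _⟩, ⟨Multiplicative.ofAdd
      (Additive.ofMul (Abelianization.of (extHom (allGen Q₁) c)) ⊗ₜ[ℤ]
        Additive.ofMul (Abelianization.of (extHom (allGen Q₂) d))), ?_⟩, rfl⟩
    exact congrArg Additive.toMul (hθ (extHom _ c) (extHom _ d))
  let Ψ : CExt (allGen Q₁) × CExt (allGen Q₂) →* Δ ⧸ R :=
    MonoidHom.noncommCoprod ((QuotientGroup.mk' R).comp ψ1) ((QuotientGroup.mk' R).comp ψ2) hcomm
  let ξ : Δ ⧸ R →* Q₁ × Q₂ := QuotientGroup.lift R τ hR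
  have hξc : ξ.ker ≤ Subgroup.center (Δ ⧸ R) := by
    intro x hx
    induction x using QuotientGroup.induction_on with | _ x
    refine Subgroup.mem_center_iff.2 fun y => ?_
    induction y using QuotientGroup.induction_on with | _ y
    rw [← QuotientGroup.mk_mul, ← QuotientGroup.mk_mul,
      Subgroup.mem_center_iff.1 (hτ.2.1 (show x ∈ τ.ker from hx)) y]
  have hξs : Function.Surjective (ξ.comp Ψ) := fun q => by
    obtain ⟨c, hc⟩ := extHom_surjective _ (allGen_surjective Q₁) q.1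
    obtain ⟨d, hd⟩ := extHom_surjective _ (allGen_surjective Q₂) q.2
    refine ⟨(c, d), ?_⟩
    show τ (ψ1 c * ψ2 d) = q
    rw [map_mul, hτ1, hτ2, Prod.mk_mul_mk, one_mul, mul_one, hc, hd]
  rintro ⟨z, hz⟩
  have hzc : (QuotientGroup.mk z : Δ ⧸ R) ∈ commutator (Δ ⧸ R) := by
    have h := Subgroup.mem_map_of_mem (QuotientGroup.mk' R) (hτ.2.2 hz)
    rw [commutator_def, Subgroup.map_commutator] at h
    exact Subgroup.commutator_mono le_top le_top h
  obtain ⟨⟨c, d⟩, hcd, hΨ⟩ := commutator_le_map Ψ ξ hξc hξs hzc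
  have hc' : c ∈ commutator (CExt (allGen Q₁)) := by
    have h := Subgroup.mem_map_of_mem (MonoidHom.fst _ (CExt (allGen Q₂))) hcd
    rw [commutator_def, Subgroup.map_commutator] at h
    exact Subgroup.commutator_mono le_top le_top h
  have hd' : d ∈ commutator (CExt (allGen Q₂)) := by
    have h := Subgroup.mem_map_of_mem (MonoidHom.snd (CExt (allGen Q₁)) _) hcd
    rw [commutator_def, Subgroup.map_commutator] at h
    exact Subgroup.commutator_mono le_top le_top h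
  have hr : (ψ1 c * ψ2 d)⁻¹ * z ∈ R := QuotientGroup.eq.1 hΨ
  have hτcd : τ (ψ1 c * ψ2 d) = 1 := by
    have h := MonoidHom.mem_ker.1 (hR hr)
    rwa [map_mul, map_inv, MonoidHom.mem_ker.1 hz, mul_one, inv_eq_one] at h
  rw [map_mul, hτ1, hτ2, Prod.mk_mul_mk, one_mul, mul_one] at hτcd
  have hcD : c ∈ relD (allGen Q₁) := Subgroup.mem_inf.2 ⟨congrArg Prod.fst hτcd, hc'⟩
  have hdD : d ∈ relD (allGen Q₂) := Subgroup.mem_inf.2 ⟨congrArg Prod.snd hτcd, hd'⟩
  obtain ⟨y, ⟨t, ht⟩, hy⟩ := hr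
  refine ⟨(eA ⟨c, hcD⟩, eB ⟨d, hdD⟩, t), Subtype.ext ?_⟩
  show ((a1 (eA ⟨c, hcD⟩) * (a2 (eB ⟨d, hdD⟩) * a3 t) : τ.ker) : Δ) = z
  rw [ht]
  show ψ1 ((eA.symm (eA ⟨c, hcD⟩) : relD (allGen Q₁)) : CExt (allGen Q₁)) *
    (ψ2 ((eB.symm (eB ⟨d, hdD⟩) : relD (allGen Q₂)) : CExt (allGen Q₂)) * τ.ker.subtype y) = z
  rw [hy, eA.symm_apply_apply, eB.symm_apply_apply, ← mul_assoc, mul_inv_cancel_left]

/-- The Schur multiplier of a direct product. -/
theorem hasSchur_prod [Finite Q₁] [Finite Q₂] {A B : Type w} [CommGroup A] [CommGroup B]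
    (hA : Cfsg.HasSchurMultiplier Q₁ A) (hB : Cfsg.HasSchurMultiplier Q₂ B) :
    Cfsg.HasSchurMultiplier (Q₁ × Q₂) (A × B × Multiplicative (AbTensor Q₁ Q₂)) := by
  obtain ⟨eA⟩ := mult_iso _ (allGen_surjective Q₁) hA
  obtain ⟨eB⟩ := mult_iso _ (allGen_surjective Q₂) hB
  refine ⟨?_, fun Δ _ _ τ hτ => exists_prod_surj eA eB τ hτ⟩
  obtain ⟨Γ₁, i1, i2, σ₁, h₁, ⟨k₁⟩⟩ := hA.1
  obtain ⟨Γ₂, j1, j2, σ₂, h₂, ⟨k₂⟩⟩ := hB.1
  obtain ⟨E, e1, e2, σ, hσ, ⟨k⟩⟩ := exists_prod_cover σ₁ h₁ σ₂ h₂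
  exact ⟨E, e1, e2, σ, hσ, ⟨k.trans (k₁.prodCongr (k₂.prodCongr (MulEquiv.refl _)))⟩⟩

end Cfsg.Agent.Solv
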