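import Mathlib
import Cfsg.Agent.Lib.Solv.SchurMult

/-!
Projective representations and the Schur multiplier: monomial representations with prescribed
central character, lifting of projective representations along covers.
-/

set_option autoImplicit false
set_option linter.style.haveILetI false

open scoped commutatorElement

namespace Cfsg.Agent.Solv

universe u

open Matrix

/-- The induced representation of a linear character of a central kernel. -/
theorem exists_monomial_rep {Δ Q : Type*} [Group Δ] [Group Q] [Fintype Q] [DecidableEq Q]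
    (τ : Δ →* Q) (hs : Function.Surjective τ) (hc : τ.ker ≤ Subgroup.center Δ)
    (lam : τ.ker →* ℂˣ) :
    ∃ ρ : Δ →* GL Q ℂ, (∀ z : τ.ker, ρ z = GeneralLinearGroup.scalar Q (lam z)) ∧
      ∀ d i, (ρ d : Matrix Q Q ℂ) i 1 ≠ 0 ↔ i = τ d := by
  obtain ⟨s, hss⟩ : ∃ s : Q → Δ, ∀ q, τ (s q) = q :=
    ⟨Function.surjInv hs, Function.surjInv_eq hs⟩
  have hmem : ∀ d j, (s (τ d * j))⁻¹ * d * s j ∈ τ.ker := fun d j => by
    rw [MonoidHom.mem_ker, map_mul, map_mul, map_inv, hss, hss, mul_assoc, inv_mul_cancel]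
  let c : Δ → Q → ℂˣ := fun d j => lam ⟨_, hmem d j⟩
  have hcm : ∀ d e j, c (d * e) j = c d (τ e * j) * c e j := fun d e j => by
    show lam _ = lam _ * lam _
    rw [← map_mul]
    congr 1
    refine Subtype.ext ?_
    show (s (τ (d * e) * j))⁻¹ * (d * e) * s j =
      (s (τ d * (τ e * j)))⁻¹ * d * s (τ e * j) * ((s (τ e * j))⁻¹ * e * s j)
    rw [map_mul, mul_assoc (τ d)]
    group
  let M : Δ → Matrix Q Q ℂ := fun d =>
    Matrix.of fun i j => if i = τ d * j then (c d j : ℂ) else 0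
  have hMmul : ∀ d e, M (d * e) = M d * M e := fun d e => by
    ext i j
    rw [Matrix.mul_apply, Finset.sum_eq_single (τ e * j)]
    · show (if i = τ (d * e) * j then (c (d * e) j : ℂ) else 0) =
        (if i = τ d * (τ e * j) then (c d (τ e * j) : ℂ) else 0) *
          (if τ e * j = τ e * j then (c e j : ℂ) else 0)
      rw [if_pos rfl, hcm, map_mul, mul_assoc]
      split_ifs <;> simp
    · intro b _ hb
      show _ * (if b = τ e * j then (c e j : ℂ) else 0) = 0
      rw [if_neg hb, mul_zero]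
    · exact fun h => absurd (Finset.mem_univ _) h
  have hMker : ∀ z : τ.ker, M (z : Δ) = Matrix.scalar Q (lam z : ℂ) := fun z => by
    have hz1 : τ (z : Δ) = 1 := z.2
    ext i j
    show (if i = τ (z : Δ) * j then (c z j : ℂ) else 0) = Matrix.scalar Q (lam z : ℂ) i j
    rw [hz1, one_mul, Matrix.scalar_apply, Matrix.diagonal_apply]
    split_ifs with h
    · refine congrArg Units.val (congrArg lam (Subtype.ext ?_))
      show (s (τ (z : Δ) * j))⁻¹ * z * s j = z
      rw [hz1, one_mul, mul_assoc, ← Subgroup.mem_center_iff.1 (hc z.2), inv_mul_cancel_left]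
    · rfl
  have hone : M 1 = 1 := by
    have := hMker 1
    rwa [map_one, Units.val_one, map_one] at this
  let Mh : Δ →* Matrix Q Q ℂ := ⟨⟨M, hone⟩, hMmul⟩
  refine ⟨Mh.toHomUnits, fun z => Units.ext ?_, fun d i => ?_⟩
  · rw [MonoidHom.coe_toHomUnits, GeneralLinearGroup.coe_scalar]
    exact hMker z
  · rw [MonoidHom.coe_toHomUnits]
    show (if i = τ d * 1 then (c d 1 : ℂ) else 0) ≠ 0 ↔ _
    rw [mul_one]
    split_ifs with h <;> simp [h]

/-- The same representation on `Fin n → ℂ`, as needed for projective representations. -/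
theorem exists_scalar_rep {Δ Q : Type*} [Group Δ] [Group Q] [Finite Q] (τ : Δ →* Q)
    (hs : Function.Surjective τ) (hc : τ.ker ≤ Subgroup.center Δ) (lam : τ.ker →* ℂˣ) :
    ∃ (n : ℕ) (ρ : Δ →* GL (Fin n) ℂ), n ≠ 0 ∧
      ∀ z : τ.ker, ρ z = GeneralLinearGroup.scalar (Fin n) (lam z) := by
  classical
  have := Fintype.ofFinite Q
  obtain ⟨ρ, hρ, -⟩ := exists_monomial_rep τ hs hc lam
  let R := Matrix.reindexAlgEquiv ℂ ℂ (Fintype.equivFin Q)
  refine ⟨Fintype.card Q, (Units.map (R : Matrix Q Q ℂ →* _)).comp ρ, Fintype.card_ne_zero,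
    fun z => Units.ext ?_⟩
  rw [MonoidHom.comp_apply, Units.coe_map, hρ z, GeneralLinearGroup.coe_scalar,
    GeneralLinearGroup.coe_scalar]
  show R (Matrix.scalar Q (lam z : ℂ)) = _
  simp [R, Matrix.scalar_apply]

theorem scalar_injective {n : ℕ} (hn : n ≠ 0) :
    Function.Injective (GeneralLinearGroup.scalar (Fin n) (R := ℂ)) := fun a b h => by
  have h1 := congrFun (congrFun (congrArg (fun g : GL (Fin n) ℂ => (g : Matrix (Fin n) (Fin n) ℂ)) h)
    ⟨0, Nat.pos_of_ne_zero hn⟩)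
    ⟨0, Nat.pos_of_ne_zero hn⟩
  simp only [GeneralLinearGroup.coe_scalar, Matrix.scalar_apply, Matrix.diagonal_apply_eq] at h1
  exact Units.ext h1

variable {α Q : Type u} [Group Q] (π : FreeGroup α →* Q)

/-- If the multiplier map `relD → ker σ` has kernel inside that of `relD → ker τ`, then `ker τ` is
a homomorphic image of `ker σ`. -/
theorem exists_surj_of_ker_le {Γ Δ : Type*} [Group Γ] [Group Δ] (hπ : Function.Surjective π)
    (σ : Γ →* Q) (hσ : Cfsg.IsStemExtension σ) (τ : Δ →* Q) (hτ : Cfsg.IsStemExtension τ)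
    (φ : CExt π →* Γ) (hφ : σ.comp φ = extHom π) (φ' : CExt π →* Δ) (hφ' : τ.comp φ' = extHom π)
    (h : ∀ d ∈ relD π, φ d = 1 → φ' d = 1) : ∃ f : σ.ker →* τ.ker, Function.Surjective f := by
  have h1 := relDMap_surjective π σ hσ φ hπ hφ
  have hle : (relDMap π σ φ hφ).ker ≤ (relDMap π τ φ' hφ').ker := fun d hd =>
    Subtype.ext (h d d.2 (congrArg Subtype.val hd))
  refine ⟨(relDMap π σ φ hφ).liftOfSurjective h1 ⟨relDMap π τ φ' hφ', hle⟩, fun x => ?_⟩
  obtain ⟨d, hd⟩ := relDMap_surjective π τ hτ φ' hπ hφ' x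
  exact ⟨relDMap π σ φ hφ d, (MonoidHom.liftOfRightInverse_comp_apply _ _ _ _ d).trans hd⟩

/-- If projective representations lift along `σ`, then every stem kernel is an image of `ker σ`. -/
theorem surj_of_lifts [Finite Q] {Γ : Type*} [Group Γ] (σ : Γ →* Q)
    (hσ : Cfsg.IsStemExtension σ)
    (hlift : ∀ (n : ℕ) (γ : Q →* (GL (Fin n) ℂ ⧸ Subgroup.center (GL (Fin n) ℂ))),
      ∃ ρ : Γ →* GL (Fin n) ℂ,
        (QuotientGroup.mk' (Subgroup.center (GL (Fin n) ℂ))).comp ρ = γ.comp σ)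
    {Δ : Type*} [Group Δ] [Finite Δ] (τ : Δ →* Q) (hτ : Cfsg.IsStemExtension τ) :
    ∃ f : σ.ker →* τ.ker, Function.Surjective f := by
  obtain ⟨φ, hφ⟩ := exists_lift_over (allGen Q) σ hσ.1 hσ.2.1
  obtain ⟨φ', hφ'⟩ := exists_lift_over (allGen Q) τ hτ.1 hτ.2.1
  refine exists_surj_of_ker_le _ (allGen_surjective Q) σ hσ τ hτ φ hφ φ' hφ' fun d hd hd1 => ?_
  have hdk : φ' d ∈ τ.ker := (DFunLike.congr_fun hφ' d).trans (relD_le_kerC _ hd)
  by_contra hne
  letI : CommGroup τ.ker :=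
    { (inferInstance : Group τ.ker) with
      mul_comm := fun a b => Subtype.ext (Subgroup.mem_center_iff.1 (hτ.2.1 b.2) a) }
  have hne' : (⟨φ' d, hdk⟩ : τ.ker) ≠ 1 := fun h => hne (congrArg Subtype.val h)
  obtain ⟨lam, hlam⟩ := CommGroup.exists_apply_ne_one_of_hasEnoughRootsOfUnity τ.ker ℂ hne'
  obtain ⟨n, ρ', hn, hρ'⟩ := exists_scalar_rep τ hτ.1 hτ.2.1 lam
  have hker : τ.ker ≤ ((QuotientGroup.mk' (Subgroup.center (GL (Fin n) ℂ))).comp ρ').ker := by
    intro z hz
    rw [MonoidHom.mem_ker, MonoidHom.comp_apply, QuotientGroup.mk'_apply, QuotientGroup.eq_one_iff,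
      show ρ' z = GeneralLinearGroup.scalar (Fin n) (lam ⟨z, hz⟩) from hρ' ⟨z, hz⟩,
      GeneralLinearGroup.center_eq_range_scalar]
    exact ⟨_, rfl⟩
  obtain ⟨γ, hγ⟩ : ∃ γ : Q →* (GL (Fin n) ℂ ⧸ Subgroup.center (GL (Fin n) ℂ)),
      γ.comp τ = (QuotientGroup.mk' (Subgroup.center (GL (Fin n) ℂ))).comp ρ' :=
    ⟨τ.liftOfSurjective hτ.1 ⟨_, hker⟩, MonoidHom.liftOfRightInverse_comp _ _ _ _⟩
  obtain ⟨ρ, hρ⟩ := hlift n γ
  have hagree : (QuotientGroup.mk' (Subgroup.center (GL (Fin n) ℂ))).comp (ρ.comp φ) =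
      (QuotientGroup.mk' (Subgroup.center (GL (Fin n) ℂ))).comp (ρ'.comp φ') := by
    rw [← MonoidHom.comp_assoc, hρ, MonoidHom.comp_assoc, hφ, ← MonoidHom.comp_assoc, ← hγ,
      MonoidHom.comp_assoc, hφ']
  have h := eq_on_commutator _ (QuotientGroup.ker_mk' _).le hagree (relD_le_commutator _ hd)
  rw [MonoidHom.comp_apply, MonoidHom.comp_apply, hd1, map_one,
    show ρ' (φ' d) = GeneralLinearGroup.scalar (Fin n) (lam ⟨φ' d, hdk⟩) from hρ' ⟨φ' d, hdk⟩,
    ← map_one (GeneralLinearGroup.scalar (Fin n) (R := ℂ))] at h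
  exact hlam (scalar_injective hn h).symm

/-- Characters of `kerC` trivial on `relD` extend to the whole of `CExt`. -/
theorem exists_char_extend [Finite α] [Finite Q] (ψ : kerC π →* ℂˣ)
    (hψ : ∀ r : kerC π, (r : CExt π) ∈ commutator (CExt π) → ψ r = 1) :
    ∃ χ : CExt π →* ℂˣ, ∀ r : kerC π, χ r = ψ r := by
  let E : Multiplicative ℂ →* ℂˣ :=
    MonoidHom.mk' (fun z => Units.mk0 (Complex.exp (Multiplicative.toAdd z)) (Complex.exp_ne_zero _))
      fun a b => Units.ext (Complex.exp_add _ _)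
  have hE : Function.Surjective E := fun u =>
    ⟨Multiplicative.ofAdd (Complex.log u), Units.ext (Complex.exp_log u.ne_zero)⟩
  let R : Subgroup (kerC π × Multiplicative ℂ) :=
    (ψ.comp (MonoidHom.fst _ _)).eqLocus (E.comp (MonoidHom.snd _ _))
  let f : R →* Multiplicative (α → ℤ) :=
    (((expSum π).comp (kerC π).subtype).comp (MonoidHom.fst _ _)).comp R.subtype
  obtain ⟨s, hs⟩ := exists_section f (1 : R →* Unit) (fun x => ⟨1, one_mem _, rfl⟩)
  have hm : (Nat.card Q : ℂ) ≠ 0 := Nat.cast_ne_zero.2 Nat.card_pos.ne'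
  have hk : ∀ c : CExt π, c ^ Nat.card Q ∈ kerC π := fun c => by
    show extHom π (c ^ Nat.card Q) = 1
    rw [map_pow, pow_card_eq_one']
  have hr : ∀ r : kerC π, expSum π (r : CExt π) ∈ f.range := fun r => by
    obtain ⟨z, hz⟩ := hE (ψ r)
    exact ⟨⟨(r, z), hz.symm⟩, rfl⟩
  let a : f.range →* Multiplicative ℂ := ((MonoidHom.snd _ _).comp R.subtype).comp s
  have hp : ∀ c : CExt π, expSum π (c ^ Nat.card Q) ∈ f.range := fun c => hr ⟨_, hk c⟩
  refine ⟨MonoidHom.mk' (fun c => E (Multiplicative.ofAdd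
    (Multiplicative.toAdd (a ⟨_, hp c⟩) / Nat.card Q))) fun c d => ?_, fun r => ?_⟩
  · rw [← map_mul, ← ofAdd_add, ← add_div, ← toAdd_mul, ← map_mul]
    congr 5
    refine Subtype.ext ?_
    show expSum π ((c * d) ^ Nat.card Q) = expSum π (c ^ Nat.card Q) * expSum π (d ^ Nat.card Q)
    rw [map_pow, map_pow, map_pow, map_mul, mul_pow]
  · show E (Multiplicative.ofAdd (Multiplicative.toAdd (a ⟨_, hp r⟩) / (Nat.card Q : ℂ))) = ψ r
    have h1 : (⟨_, hp r⟩ : f.range) = (⟨_, hr r⟩ : f.range) ^ Nat.card Q :=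
      Subtype.ext (map_pow _ _ _)
    rw [h1, map_pow, toAdd_pow, nsmul_eq_mul, mul_div_cancel_left₀ _ hm, ofAdd_toAdd]
    obtain ⟨x, hx⟩ : ∃ x, x = s ⟨_, hr r⟩ := ⟨_, rfl⟩
    show E (s ⟨_, hr r⟩ : kerC π × Multiplicative ℂ).2 = ψ r
    rw [← hx]
    have hx2 : ψ (x : kerC π × Multiplicative ℂ).1 = E (x : kerC π × Multiplicative ℂ).2 := x.2
    have hd : ψ ((x : kerC π × Multiplicative ℂ).1⁻¹ * r) = 1 := by
      refine hψ _ ?_
      rw [← expSum_ker, MonoidHom.mem_ker, Subgroup.coe_mul, map_mul, Subgroup.coe_inv, map_inv,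
        inv_mul_eq_one]
      rw [hx]
      exact (hs ⟨_, hr r⟩).1
    rw [map_mul, map_inv, inv_mul_eq_one, hx2] at hd
    exact hd

/-- Along a cover with kernel of the order of the multiplier every projective representation
lifts. -/
theorem lift_of_cover [Finite α] [Finite Q] (hπ : Function.Surjective π) {Γ : Type*} [Group Γ]
    (σ : Γ →* Q) (hσ : Cfsg.IsStemExtension σ) (hcard : Nat.card σ.ker = Nat.card (relD π))
    (n : ℕ) (γ : Q →* (GL (Fin n) ℂ ⧸ Subgroup.center (GL (Fin n) ℂ))) :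
    ∃ ρ : Γ →* GL (Fin n) ℂ,
      (QuotientGroup.mk' (Subgroup.center (GL (Fin n) ℂ))).comp ρ = γ.comp σ := by
  rcases eq_or_ne n 0 with rfl | hn
  · have : Subsingleton (GL (Fin 0) ℂ) := inferInstance
    have : Subsingleton (GL (Fin 0) ℂ ⧸ Subgroup.center (GL (Fin 0) ℂ)) :=
      Quotient.instSubsingletonQuotient _
    exact ⟨1, MonoidHom.ext fun x => Subsingleton.elim _ _⟩
  obtain ⟨φσ, hφσ⟩ := exists_lift_over π σ hσ.1 hσ.2.1
  obtain ⟨φ, hφ⟩ := exists_lift π (QuotientGroup.mk' (Subgroup.center (GL (Fin n) ℂ)))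
    (QuotientGroup.mk'_surjective _) (QuotientGroup.ker_mk' _).le γ
  have := finite_relD π hπ
  have : Finite σ.ker := Finite.of_surjective _ (relDMap_surjective π σ hσ φσ hπ hφσ)
  have hbij : Function.Bijective (relDMap π σ φσ hφσ) :=
    (Nat.bijective_iff_surjective_and_card _).2
      ⟨relDMap_surjective π σ hσ φσ hπ hφσ, hcard.symm⟩
  let e : relD π ≃* σ.ker := MulEquiv.ofBijective _ hbij
  let resσ : kerC π →* σ.ker := (φσ.comp (kerC π).subtype).codRestrict σ.ker fun r =>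
    (DFunLike.congr_fun hφσ _).trans r.2
  let η : kerC π →* kerC π := MonoidHom.id _ *
    ((Subgroup.inclusion (relD_le_kerC π)).comp (e.symm.toMonoidHom.comp resσ))⁻¹
  have hsc : ∀ r : kerC π, φ (r : CExt π) ∈
      (GeneralLinearGroup.scalar (Fin n) (R := ℂ)).range := fun r => by
    rw [← GeneralLinearGroup.center_eq_range_scalar, ← QuotientGroup.eq_one_iff]
    refine (DFunLike.congr_fun hφ _).trans ?_
    rw [MonoidHom.comp_apply, show extHom π (r : CExt π) = 1 from r.2, map_one]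
  let ι := MonoidHom.ofInjective (scalar_injective hn)
  let ψ : kerC π →* ℂˣ := ι.symm.toMonoidHom.comp
    (((φ.comp (kerC π).subtype).comp η).codRestrict _ fun r => hsc (η r))
  have hψ : ∀ r, GeneralLinearGroup.scalar (Fin n) (ψ r) = φ (η r : CExt π) := fun r =>
    (congrArg Subtype.val (ι.apply_symm_apply _) : _)
  obtain ⟨χ, hχ⟩ := exists_char_extend π ψ fun r hr => by
    refine scalar_injective hn ?_
    rw [hψ, map_one]
    have h1 : e.symm (resσ r) = ⟨(r : CExt π), Subgroup.mem_inf.2 ⟨r.2, hr⟩⟩ :=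
      e.injective ((e.apply_symm_apply _).trans (Subtype.ext rfl))
    have h2 : η r = 1 := by
      show r * (Subgroup.inclusion (relD_le_kerC π) (e.symm (resσ r)))⁻¹ = 1
      rw [h1, mul_inv_eq_one]
      exact Subtype.ext rfl
    rw [h2, Subgroup.coe_one, map_one]
  let ρ0 : CExt π →* GL (Fin n) ℂ :=
    MonoidHom.mk' (fun c => φ c * GeneralLinearGroup.scalar (Fin n) (χ c)⁻¹) fun c d => by
      have hcomm : Commute (GeneralLinearGroup.scalar (Fin n) (χ c)⁻¹) (φ d) :=
        GeneralLinearGroup.scalar_commute _ _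
      simp only [map_mul, mul_inv]
      simp only [mul_assoc]
      rw [← mul_assoc (φ d), ← hcomm.eq, mul_assoc]
  have hker : φσ.ker ≤ ρ0.ker := by
    intro r hr
    have hrk : r ∈ kerC π := by
      show extHom π r = 1
      rw [← hφσ, MonoidHom.comp_apply, MonoidHom.mem_ker.1 hr, map_one]
    have hη : η ⟨r, hrk⟩ = ⟨r, hrk⟩ := by
      show ⟨r, hrk⟩ * (Subgroup.inclusion (relD_le_kerC π) (e.symm (resσ ⟨r, hrk⟩)))⁻¹ = _
      rw [show resσ ⟨r, hrk⟩ = 1 from Subtype.ext hr, map_one, map_one, inv_one, mul_one]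
    show φ r * GeneralLinearGroup.scalar (Fin n) (χ r)⁻¹ = 1
    rw [show χ r = ψ ⟨r, hrk⟩ from hχ ⟨r, hrk⟩, map_inv, hψ, hη, mul_inv_cancel]
  have hsur := lift_surjective π σ hσ φσ hπ hφσ
  refine ⟨φσ.liftOfSurjective hsur ⟨ρ0, hker⟩, MonoidHom.ext fun x => ?_⟩
  obtain ⟨c, rfl⟩ := hsur x
  rw [MonoidHom.comp_apply, MonoidHom.liftOfRightInverse_comp_apply]
  show (QuotientGroup.mk' (Subgroup.center (GL (Fin n) ℂ)))
    (φ c * GeneralLinearGroup.scalar (Fin n) (χ c)⁻¹) = γ (σ (φσ c))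
  rw [map_mul, show σ (φσ c) = extHom π c from DFunLike.congr_fun hφσ c,
    show (QuotientGroup.mk' (Subgroup.center (GL (Fin n) ℂ)))
      (GeneralLinearGroup.scalar (Fin n) (χ c)⁻¹) = 1 by
        rw [QuotientGroup.mk'_apply, QuotientGroup.eq_one_iff,
          GeneralLinearGroup.center_eq_range_scalar]
        exact ⟨_, rfl⟩, mul_one]
  exact DFunLike.congr_fun hφ c

/-- A trivial multiplier: every central extension has kernel meeting the commutator trivially. -/
theorem ker_inf_commutator_eq_bot [Finite α] [Finite Q] (hπ : Function.Surjective π)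
    [Subsingleton (relD π)] {P : Type*} [Group P] (ξ : P →* Q) (hs : Function.Surjective ξ)
    (hc : ξ.ker ≤ Subgroup.center P) : ξ.ker ⊓ commutator P = ⊥ := by
  obtain ⟨φ, hφ⟩ := exists_lift_over π ξ hs hc
  refine eq_bot_iff.2 fun z hz => ?_
  obtain ⟨hz1, hz2⟩ := Subgroup.mem_inf.1 hz
  have hle : commutator P ≤ (commutator (CExt π)).map φ := by
    rw [commutator_def, Subgroup.commutator_le]
    intro x _ y _
    obtain ⟨a, ha⟩ := extHom_surjective π hπ (ξ x)
    obtain ⟨b, hb⟩ := extHom_surjective π hπ (ξ y)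
    refine ⟨⁅a, b⁆, Subgroup.commutator_mem_commutator trivial trivial, ?_⟩
    have hab : ξ.comp (φ.comp (FreeGroup.lift ![a, b])) = ξ.comp (FreeGroup.lift ![x, y]) :=
      FreeGroup.ext_hom _ _ fun i => by
        fin_cases i
        · simpa using (DFunLike.congr_fun hφ a).trans ha
        · simpa using (DFunLike.congr_fun hφ b).trans hb
    have := eq_on_commutator ξ hc hab
      (Subgroup.commutator_mem_commutator (Subgroup.mem_top (FreeGroup.of (0 : Fin 2)))
        (Subgroup.mem_top (FreeGroup.of (1 : Fin 2))))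
    simpa [map_commutatorElement] using this
  obtain ⟨c, hcc, rfl⟩ := hle hz2
  have hcD : c ∈ relD π := Subgroup.mem_inf.2
    ⟨(DFunLike.congr_fun hφ c).symm.trans hz1, hcc⟩
  rw [Subgroup.mem_bot, show c = 1 from congrArg Subtype.val
    (Subsingleton.elim (⟨c, hcD⟩ : relD π) 1), map_one]

end Cfsg.Agent.Solv
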