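import Mathlib
import Cfsg.Agent.Lib.Solv.SchurMult

/-!
Restriction and corestriction between the Schur multipliers of a finite group and a subgroup.
-/

set_option autoImplicit false
set_option linter.style.haveILetI false

open scoped commutatorElement

namespace Cfsg.Agent.Solv

universe u

/-- The transfer of an element of a normal subgroup contained in `H`. -/
theorem transfer_eq_prod_conj {F A : Type*} [Group F] [CommGroup A] (H : Subgroup F) [H.FiniteIndex]
    [Fintype (F ⧸ H)] (N : Subgroup F) [N.Normal] (hN : N ≤ H) (ϕ : H →* A)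
    (T : H.LeftTransversal) {g : F} (hg : g ∈ N)
    (hmem : ∀ q, (T.2.leftQuotientEquiv q : F)⁻¹ * g * T.2.leftQuotientEquiv q ∈ H) :
    MonoidHom.transfer ϕ g = ∏ q : F ⧸ H, ϕ ⟨_, hmem q⟩ := by
  rw [MonoidHom.transfer_def ϕ T g]
  unfold Subgroup.leftTransversals.diff
  refine Finset.prod_congr ?_ fun q _ => congrArg ϕ (Subtype.ext ?_)
  · ext q
    simp
  · show (T.2.leftQuotientEquiv q : F)⁻¹ * ((g • T).2.leftQuotientEquiv q : F) = _
    have hq : g⁻¹ • q = q := by
      induction q using QuotientGroup.induction_on with | _ x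
      refine (QuotientGroup.eq (s := H)).2 ?_
      show (g⁻¹ * x)⁻¹ * x ∈ H
      rw [mul_inv_rev, inv_inv]
      have := Subgroup.Normal.conj_mem (H := N) inferInstance g hg x⁻¹
      rw [inv_inv] at this
      exact hN this
    rw [Subgroup.smul_apply_eq_smul_apply_inv_smul, hq, smul_eq_mul]
    exact (mul_assoc _ _ _).symm

variable {α Q : Type u} [Group Q] [Finite Q] (π : FreeGroup α →* Q)

/-- Restriction followed by corestriction is the index power. -/
theorem exists_res_cores (hπ : Function.Surjective π) (U : Subgroup Q) :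
    ∃ (s : relD π →* relD (allGen U)) (j : relD (allGen U) →* relD π),
      ∀ d, j (s d) = d ^ U.index := by
  classical
  obtain ⟨H, hH⟩ : ∃ H, H = U.comap π := ⟨_, rfl⟩
  have hidx : H.index = U.index := by rw [hH, U.index_comap_of_surjective hπ]
  have : H.FiniteIndex := ⟨by rw [hidx]; exact Subgroup.index_ne_zero_of_finite⟩
  have := H.fintypeQuotientOfFiniteIndex
  have hRH : π.ker ≤ H := fun x hx => by
    rw [hH, Subgroup.mem_comap, MonoidHom.mem_ker.1 hx]
    exact one_mem U
  let πH : H →* U := (π.comp H.subtype).codRestrict U fun h => by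
    have := h.2
    simp only [hH] at this
    exact this
  let πU := allGen U
  have hπU := allGen_surjective U
  let f : IsFreeGroup.Generators H → CExt πU := fun b =>
    Function.surjInv (extHom_surjective πU hπU) (πH (IsFreeGroup.of b))
  obtain ⟨ψ, hψ⟩ : ∃ ψ : H →* CExt πU, (extHom πU).comp ψ = πH :=
    ⟨IsFreeGroup.lift f, IsFreeGroup.ext_hom fun b => by
      rw [MonoidHom.comp_apply, IsFreeGroup.lift_of]
      exact Function.surjInv_eq (extHom_surjective πU hπU) _⟩
  obtain ⟨φU, hφU⟩ := exists_lift πU (extHom π) (extHom_surjective π hπ) (extHom_ker_central π)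
    U.subtype
  have hφψ : ∀ h : H, extHom π (φU (ψ h)) = π h := fun h => by
    rw [← MonoidHom.comp_apply (extHom π), hφU, MonoidHom.comp_apply,
      ← MonoidHom.comp_apply (extHom πU), hψ]
    rfl
  obtain ⟨T, -⟩ : ∃ T : H.LeftTransversal, True := ⟨default, trivial⟩
  let t : FreeGroup α ⧸ H → FreeGroup α := fun q => T.2.leftQuotientEquiv q
  have ht : ∀ q, (QuotientGroup.mk (t q) : FreeGroup α ⧸ H) = q := fun q =>
    T.2.leftQuotientEquiv.symm_apply_apply q
  have hconj : ∀ {x : FreeGroup α}, x ∈ π.ker → ∀ q, (t q)⁻¹ * x * t q ∈ π.ker :=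
    fun {x} hx q => by
      have := (inferInstance : π.ker.Normal).conj_mem x hx (t q)⁻¹
      rwa [inv_inv] at this
  let κ : π.ker →* kerC πU := (ψ.comp (Subgroup.inclusion hRH)).codRestrict _ fun x => by
    show extHom πU (ψ (Subgroup.inclusion hRH x)) = 1
    rw [← MonoidHom.comp_apply (extHom πU), hψ]
    exact Subtype.ext (show π (x : FreeGroup α) = 1 from x.2)
  let N : π.ker →* kerC πU := MonoidHom.mk' (fun x => ∏ q, κ ⟨_, hconj x.2 q⟩) fun x y => by
    rw [← Finset.prod_mul_distrib]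
    refine Finset.prod_congr rfl fun q _ => ?_
    rw [← map_mul]
    congr 1
    refine Subtype.ext ?_
    show (t q)⁻¹ * (x.1 * y.1) * t q = (t q)⁻¹ * x.1 * t q * ((t q)⁻¹ * y.1 * t q)
    group
  have hNconj : ∀ (x : π.ker) (c : FreeGroup α) (hcx : c * x.1 * c⁻¹ ∈ π.ker),
      N ⟨_, hcx⟩ = N x := by
    intro x c hcx
    refine Fintype.prod_equiv (MulAction.toPerm c⁻¹) _ _ fun q => ?_
    have hh : (t (c⁻¹ • q))⁻¹ * (c⁻¹ * t q) ∈ H := by
      refine QuotientGroup.eq.1 ?_
      rw [ht]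
      conv_lhs => rw [← ht q]
      rfl
    show κ ⟨_, hconj hcx q⟩ = κ ⟨_, hconj x.2 (c⁻¹ • q)⟩
    refine Subtype.ext ?_
    show ψ ⟨_, hRH (hconj hcx q)⟩ = ψ ⟨_, hRH (hconj x.2 (c⁻¹ • q))⟩
    have e1 : (⟨_, hRH (hconj hcx q)⟩ : H) = ⟨_, hh⟩⁻¹ * ⟨_, hRH (hconj x.2 (c⁻¹ • q))⟩ *
        ⟨_, hh⟩ := by
      refine Subtype.ext ?_
      show (t q)⁻¹ * (c * x.1 * c⁻¹) * t q = ((t (c⁻¹ • q))⁻¹ * (c⁻¹ * t q))⁻¹ *
        ((t (c⁻¹ • q))⁻¹ * x.1 * t (c⁻¹ • q)) * ((t (c⁻¹ • q))⁻¹ * (c⁻¹ * t q))
      group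
    rw [e1, map_mul, map_mul, map_inv,
      Subgroup.mem_center_iff.1 (show ψ ⟨_, hRH (hconj x.2 (c⁻¹ • q))⟩ ∈ Subgroup.center _ from
        kerC_central πU (κ ⟨_, hconj x.2 (c⁻¹ • q)⟩).2) (ψ ⟨_, hh⟩)⁻¹]
    rw [mul_assoc, inv_mul_cancel, mul_one]
  have hcore : relCore π ≤ (N.ker).map π.ker.subtype := by
    rw [Subgroup.commutator_le]
    intro r hr c _
    have hcr : c * r⁻¹ * c⁻¹ ∈ π.ker :=
      (inferInstance : π.ker.Normal).conj_mem _ (inv_mem hr) c
    refine ⟨⟨r, hr⟩ * ⟨_, hcr⟩, ?_, ?_⟩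
    · rw [SetLike.mem_coe, MonoidHom.mem_ker, map_mul, hNconj ⟨r⁻¹, inv_mem hr⟩ c hcr,
        ← map_mul, show (⟨r, hr⟩ : π.ker) * ⟨r⁻¹, inv_mem hr⟩ = 1 from
          Subtype.ext (mul_inv_cancel r), map_one]
    · show r * (c * r⁻¹ * c⁻¹) = ⁅r, c⁆
      rw [commutatorElement_def]
      group
  obtain ⟨J, hJ⟩ : ∃ J, J = π.ker ⊓ commutator (FreeGroup α) := ⟨_, rfl⟩
  have hJker : J ≤ π.ker := hJ ▸ inf_le_left
  -- `N` takes values in the multiplier of `U`
  have hND : ∀ x : J, (N ⟨x, hJker x.2⟩ : CExt πU) ∈ relD πU := fun x => by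
    refine Subgroup.mem_inf.2 ⟨(N ⟨x, hJker x.2⟩).2, ?_⟩
    let ab : H →* Abelianization (CExt πU) := Abelianization.of.comp ψ
    have h1 : MonoidHom.transfer ab (x : FreeGroup α) = 1 :=
      Abelianization.commutator_subset_ker (MonoidHom.transfer ab) (by
        have := x.2
        simp only [hJ] at this
        exact (Subgroup.mem_inf.1 this).2)
    rw [transfer_eq_prod_conj H π.ker hRH ab T (hJker x.2)
      (fun q => hRH (hconj (hJker x.2) q))] at h1
    refine (QuotientGroup.eq_one_iff _).1 ?_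
    show (Abelianization.of.comp (kerC πU).subtype) (∏ q, κ ⟨_, hconj (hJker x.2) q⟩) = 1
    rw [map_prod]
    exact h1
  -- corestriction of `N` is the index power
  have hjN : ∀ x : J, φU (N ⟨x, hJker x.2⟩ : CExt πU) =
      (QuotientGroup.mk (x : FreeGroup α) : CExt π) ^ U.index := fun x => by
    have hεmem : ∀ h : H, (φU (ψ h))⁻¹ * (QuotientGroup.mk (h : FreeGroup α) : CExt π) ∈ kerC π :=
      fun h => by
        show extHom π ((φU (ψ h))⁻¹ * QuotientGroup.mk (h : FreeGroup α)) = 1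
        rw [map_mul, map_inv, hφψ, extHom_mk, inv_mul_cancel]
    let ε : H →* kerC π := MonoidHom.mk' (fun h => ⟨_, hεmem h⟩) fun a b => Subtype.ext (by
      show (φU (ψ (a * b)))⁻¹ * QuotientGroup.mk ((a : FreeGroup α) * (b : FreeGroup α)) =
        (φU (ψ a))⁻¹ * QuotientGroup.mk (a : FreeGroup α) *
          ((φU (ψ b))⁻¹ * QuotientGroup.mk (b : FreeGroup α))
      rw [← mul_assoc ((φU (ψ a))⁻¹ * _) (φU (ψ b))⁻¹,
        ← Subgroup.mem_center_iff.1 (kerC_central π (hεmem a)) (φU (ψ b))⁻¹, map_mul, map_mul,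
        QuotientGroup.mk_mul, mul_inv_rev]
      simp only [mul_assoc])
    have h1 : MonoidHom.transfer ε (x : FreeGroup α) = 1 :=
      Abelianization.commutator_subset_ker (MonoidHom.transfer ε) (by
        have := x.2
        simp only [hJ] at this
        exact (Subgroup.mem_inf.1 this).2)
    rw [transfer_eq_prod_conj H π.ker hRH ε T (hJker x.2)
      (fun q => hRH (hconj (hJker x.2) q))] at h1
    have hx : (QuotientGroup.mk (x : FreeGroup α) : CExt π) ∈ kerC π := hJker x.2
    let φK : kerC πU →* kerC π := (φU.comp (kerC πU).subtype).codRestrict _ fun r => by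
      show extHom π (φU (r : CExt πU)) = 1
      rw [← MonoidHom.comp_apply (extHom π), hφU, MonoidHom.comp_apply,
        show extHom πU (r : CExt πU) = 1 from r.2, map_one]
    have h2 : φK (∏ q, κ ⟨_, hconj (hJker x.2) q⟩) * ∏ q, ε ⟨_, hRH (hconj (hJker x.2) q)⟩ =
        (⟨_, hx⟩ : kerC π) ^ U.index := by
      rw [map_prod, ← Finset.prod_mul_distrib, ← hidx, Subgroup.index_eq_card,
        Nat.card_eq_fintype_card, ← Finset.card_univ, ← Finset.prod_const]
      refine Finset.prod_congr rfl fun q _ => Subtype.ext ?_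
      show φU (ψ ⟨_, hRH (hconj (hJker x.2) q)⟩) *
        ((φU (ψ ⟨_, hRH (hconj (hJker x.2) q)⟩))⁻¹ *
          QuotientGroup.mk ((t q)⁻¹ * (x : FreeGroup α) * t q)) = QuotientGroup.mk (x : FreeGroup α)
      rw [mul_inv_cancel_left, QuotientGroup.mk_mul, QuotientGroup.mk_mul,
        Subgroup.mem_center_iff.1 (kerC_central π hx) _, QuotientGroup.mk_inv, inv_mul_cancel_right]
    rw [h1, mul_one] at h2
    exact congrArg Subtype.val h2
  let s0 : J →* relD πU := MonoidHom.mk' (fun x => ⟨_, hND x⟩) fun a b => Subtype.ext (by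
    show ((N (⟨a, hJker a.2⟩ * ⟨b, hJker b.2⟩) : kerC πU) : CExt πU) = _
    rw [map_mul, Subgroup.coe_mul]
    rfl)
  let m0 : J →* relD π := ((QuotientGroup.mk' (relCore π)).comp J.subtype).codRestrict _ fun x => by
    refine Subgroup.mem_inf.2 ⟨hJker x.2, ?_⟩
    have hx : (x : FreeGroup α) ∈ commutator (FreeGroup α) := by
      have := x.2
      simp only [hJ] at this
      exact (Subgroup.mem_inf.1 this).2
    have := Subgroup.mem_map_of_mem (QuotientGroup.mk' (relCore π)) hx
    rw [commutator_def, Subgroup.map_commutator] at this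
    exact Subgroup.commutator_mono le_top le_top this
  have hm0 : Function.Surjective m0 := by
    rintro ⟨d, hd⟩
    obtain ⟨hd1, hd2⟩ := Subgroup.mem_inf.1 hd
    have hd2' : d ∈ (commutator (FreeGroup α)).map (QuotientGroup.mk' (relCore π)) := by
      rw [commutator_def, Subgroup.map_commutator,
        Subgroup.map_top_of_surjective _ (QuotientGroup.mk'_surjective _)]
      exact hd2
    obtain ⟨x, hx, rfl⟩ := hd2'
    refine ⟨⟨x, ?_⟩, Subtype.ext rfl⟩
    rw [hJ]
    exact Subgroup.mem_inf.2 ⟨hd1, hx⟩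
  have hker : m0.ker ≤ s0.ker := fun x hx => by
    have hxc : (x : FreeGroup α) ∈ relCore π :=
      (QuotientGroup.eq_one_iff _).1 (congrArg Subtype.val hx)
    obtain ⟨y, hy, hyx⟩ := hcore hxc
    refine Subtype.ext ?_
    show ((N ⟨x, hJker x.2⟩ : kerC πU) : CExt πU) = 1
    rw [show (⟨x, hJker x.2⟩ : π.ker) = y from Subtype.ext hyx.symm, MonoidHom.mem_ker.1 hy,
      Subgroup.coe_one]
  let jD : relD πU →* relD π := (φU.comp (relD πU).subtype).codRestrict _ fun d => by
    refine Subgroup.mem_inf.2 ⟨?_, ?_⟩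
    · show extHom π (φU (d : CExt πU)) = 1
      rw [← MonoidHom.comp_apply (extHom π), hφU, MonoidHom.comp_apply,
        show extHom πU (d : CExt πU) = 1 from relD_le_kerC _ d.2, map_one]
    · have := Subgroup.mem_map_of_mem φU (relD_le_commutator _ d.2)
      rw [commutator_def, Subgroup.map_commutator] at this
      exact Subgroup.commutator_mono le_top le_top this
  refine ⟨m0.liftOfSurjective hm0 ⟨s0, hker⟩, jD, fun d => ?_⟩
  obtain ⟨x, rfl⟩ := hm0 d
  rw [MonoidHom.liftOfRightInverse_comp_apply]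
  refine Subtype.ext ?_
  show φU (N ⟨x, hJker x.2⟩ : CExt πU) = ((m0 x ^ U.index : relD π) : CExt π)
  rw [hjN, SubgroupClass.coe_pow]
  rfl

/-- The exponent of the multiplier divides the group order. -/
theorem pow_card_relD (hπ : Function.Surjective π) (d : relD π) : d ^ Nat.card Q = 1 := by
  obtain ⟨s, j, hsj⟩ := exists_res_cores π hπ (⊥ : Subgroup Q)
  have h1 : commutator (CExt (allGen (⊥ : Subgroup Q))) = ⊥ := by
    rw [commutator_def, Subgroup.commutator_eq_bot_iff_le_centralizer]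
    intro x _
    have hx : x ∈ kerC (allGen (⊥ : Subgroup Q)) := by
      show extHom _ x = 1
      exact Subsingleton.elim _ _
    exact fun y _ => (Subgroup.mem_center_iff.1 (kerC_central _ hx) y)
  have : s d = 1 := Subtype.ext (by
    have := relD_le_commutator _ (s d).2
    rw [h1, Subgroup.mem_bot] at this
    exact this)
  rw [← Subgroup.index_bot, ← hsj, this, map_one]

omit [Finite Q] in
/-- A homomorphic image of a finite abelian group is isomorphic to a subgroup. -/
theorem exists_subgroup_equiv_of_surjective {K M : Type*} [CommGroup K] [Finite K] [CommGroup M]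
    (f : K →* M) (hf : Function.Surjective f) : ∃ C : Subgroup K, Nonempty (M ≃* C) := by
  have : Finite M := Finite.of_surjective f hf
  obtain ⟨eM⟩ := CommGroup.monoidHom_mulEquiv_of_hasEnoughRootsOfUnity M ℂ
  obtain ⟨eK⟩ := CommGroup.monoidHom_mulEquiv_of_hasEnoughRootsOfUnity K ℂ
  let i : M →* K := eK.toMonoidHom.comp
    ((MonoidHom.mk' (fun χ : M →* ℂˣ => χ.comp f) fun a b => MonoidHom.ext fun x => rfl).comp
      eM.symm.toMonoidHom)
  have hi : Function.Injective i := fun x y h => eM.symm.injective (MonoidHom.ext fun m => by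
    obtain ⟨k, rfl⟩ := hf m
    exact DFunLike.congr_fun (eK.injective h) k)
  exact ⟨i.range, ⟨MonoidHom.ofInjective hi⟩⟩

end Cfsg.Agent.Solv
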