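import Mathlib
import Cfsg.Agent.Lib.Solv.SelfNormalizing
import Cfsg.Agent.Lib.Fusion.TransferSplit
import Cfsg.Agent.S0182

/-!
Groups of odd order in which every non-abelian subgroup is self-normalizing are solvable.
-/

set_option autoImplicit false
set_option linter.style.haveILetI false

open scoped Pointwise commutatorElement

namespace Cfsg.Agent.Solv.SelfNorm

universe u

variable {G : Type u} [Group G] [Finite G]

theorem isMulCommutative_of_ab {H : Subgroup G} (h : Ab H) : IsMulCommutative H := (ab_iff H).1 h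

theorem eq_of_card_eq_cyclic {C : Type*} [Group C] [Finite C] [IsCyclic C] {H K : Subgroup C}
    (h : Nat.card H = Nat.card K) : H = K := by
  classical
  haveI : Fintype C := Fintype.ofFinite C
  have hle := IsCyclic.card_pow_eq_one_le (α := C) (n := Nat.card H) Nat.card_pos
  have key : ∀ J : Subgroup C, Nat.card J = Nat.card H →
      (Finset.univ.filter fun a : C => a ∈ J) =
        Finset.univ.filter fun a : C => a ^ Nat.card H = 1 := by
    intro J hJ
    refine Finset.eq_of_subset_of_card_le (fun a ha => ?_) (hle.trans ?_)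
    · rw [Finset.mem_filter] at ha ⊢
      exact ⟨ha.1, by
        rw [← hJ]; exact congrArg Subtype.val (pow_card_eq_one' (x := (⟨a, ha.2⟩ : J)))⟩
    · rw [← hJ, Nat.card_eq_fintype_card, Fintype.card_subtype]
  refine SetLike.ext fun a => ?_
  have := Finset.ext_iff.1 ((key H rfl).trans (key K h.symm).symm) a
  simpa using this

theorem nilpotent_ab {X : Type u} [Group X] [Finite X] [Group.IsNilpotent X]
    (hab : ∀ (r : ℕ) [Fact r.Prime] (R : Sylow r X), Ab (R : Subgroup X)) :
    Ab (⊤ : Subgroup X) := by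
  intro a _ b _
  obtain ⟨e⟩ := ((Group.isNilpotent_of_finite_tfae (G := X)).out 0 4).1 ‹_›
  apply e.symm.injective
  funext r R
  haveI : Fact (r : ℕ).Prime := ⟨Nat.prime_of_mem_primeFactors r.2⟩
  refine Subtype.ext ?_
  rw [map_mul, map_mul]
  exact hab r R _ (e.symm a r R).2 _ (e.symm b r R).2

/-- In a simple group with the property whose proper subgroups are solvable, centralizers of
elements of prime order are abelian. -/
theorem centralizer_prime_ab [IsSimpleGroup G] (hG : SN G) (hna : ¬ Ab (⊤ : Subgroup G))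
    (hsol : ∀ L : Subgroup G, L ≠ ⊤ → Group.IsSolvable L)
    {r : ℕ} [hr : Fact r.Prime] {x : G} (hx : orderOf x = r) :
    Ab (Subgroup.centralizer ({x} : Set G)) := by
  by_contra hLna
  set L := Subgroup.centralizer ({x} : Set G) with hL
  have hx1 : x ≠ 1 := fun e => hr.out.ne_one (by rw [← hx, e, orderOf_one])
  have hLtop : L ≠ ⊤ := fun e => by
    have : x ∈ Subgroup.center G := Subgroup.mem_center_iff.2 fun g =>
      Subgroup.mem_centralizer_singleton_iff.1 (by rw [← hL, e]; trivial)
    rcases IsSimpleGroup.eq_bot_or_eq_top_of_normal (Subgroup.center G) inferInstance with h | h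
    · exact hx1 (Subgroup.mem_bot.1 (h ▸ this))
    · exact hna fun a _ b _ => Subgroup.mem_center_iff.1 (h ▸ Subgroup.mem_top b) a
  haveI := hsol L hLtop
  have hxL : x ∈ L := Subgroup.mem_centralizer_singleton_iff.2 rfl
  set xL : L := ⟨x, hxL⟩ with hxLd
  have hxc : xL ∈ Subgroup.center L := Subgroup.mem_center_iff.2 fun g =>
    Subtype.ext (Subgroup.mem_centralizer_singleton_iff.1 g.2)
  have hLna' : ¬ Ab (⊤ : Subgroup L) := fun h => hLna fun a ha b hb =>
    congrArg Subtype.val (h ⟨a, ha⟩ (Subgroup.mem_top _) ⟨b, hb⟩ (Subgroup.mem_top _))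
  have hnorm : ∀ N : Subgroup L, N.Normal → N ≠ ⊤ → Ab N := fun N hN hne =>
    haveI := hN; (hG.sub L).ab_normal hne
  haveI : Nontrivial L := ⟨⟨xL, 1, fun e => hx1 (congrArg Subtype.val e)⟩⟩
  obtain ⟨P, hP⟩ := ((IsPGroup.of_card (n := 1) (by
    rw [Nat.card_zpowers, Subgroup.orderOf_mk, hx, pow_one]) :
      IsPGroup r (Subgroup.zpowers xL))).exists_le_sylow
  have hxP : xL ∈ (P : Subgroup L) := hP (Subgroup.mem_zpowers _)
  have hsyl : ∀ (s : ℕ) [Fact s.Prime] (R : Sylow s L), Ab (R : Subgroup L) := by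
    intro s _ R a ha b hb
    obtain ⟨S, hS⟩ := (R.isPGroup'.map L.subtype).exists_le_sylow
    exact Subtype.ext (sylow_ab hG hna (Or.inr hsol) S _
      (hS (Subgroup.mem_map_of_mem _ ha)) _ (hS (Subgroup.mem_map_of_mem _ hb)))
  have hPab : Ab (P : Subgroup L) := hsyl r P
  letI : CommGroup (P : Subgroup L) :=
    { (inferInstance : Group (P : Subgroup L)) with
      mul_comm := fun a b => Subtype.ext (hPab a a.2 b b.2) }
  set f := MonoidHom.transfer (MonoidHom.id (P : Subgroup L))
  -- central elements of `P` outside the kernel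
  have hfc : ∀ z ∈ (P : Subgroup L), z ∈ Subgroup.center L → f z = 1 → z = 1 := by
    intro z hz hzc h
    rw [Fusion.transfer_central (MonoidHom.id _) hz hzc] at h
    have h1 : z ^ (P : Subgroup L).index = 1 := congrArg Subtype.val h
    obtain ⟨k, hk⟩ := IsPGroup.iff_orderOf.1 P.isPGroup' ⟨z, hz⟩
    rw [Subgroup.orderOf_mk] at hk
    exact orderOf_eq_one_iff.1 (Nat.eq_one_of_dvd_coprimes
      ((hr.out.coprime_iff_not_dvd.2 P.not_dvd_index).pow_left k) hk.dvd
      (orderOf_dvd_of_pow_eq_one h1))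
  have hcomm : ∀ c ∈ commutator L, f c = 1 := by
    intro c hc
    exact (show commutator L ≤ f.ker from Abelianization.commutator_subset_ker f) hc
  have hne : commutator L ≠ ⊤ :=
    (Group.IsSolvable.commutator_lt_top_of_nontrivial L).ne
  obtain ⟨W, hWn, hWc, hWp⟩ := coatom_over_commutator hne
  haveI := hWn
  have hWtop : W ≠ ⊤ := fun e => by rw [e, Subgroup.index_top] at hWp; exact Nat.not_prime_one hWp
  have hWab : Ab W := hnorm W hWn hWtop
  -- `W` is the only maximal subgroup over the commutator subgroup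
  have huniq : ∀ M : Subgroup L, M ≠ ⊤ → commutator L ≤ M → M ≤ W := by
    intro M hM hle
    haveI : M.Normal := Subgroup.Normal.of_commutator_le _ hle
    by_contra hMW
    have hsup : W ⊔ M = ⊤ := by
      by_contra h
      have h1 : (W ⊔ M).index ∣ W.index := Subgroup.index_dvd_of_le le_sup_left
      rcases (Nat.dvd_prime hWp).1 h1 with h2 | h2
      · exact h (Subgroup.index_eq_one.1 h2)
      · refine hMW (le_sup_right.trans (Subgroup.eq_of_le_of_card_ge le_sup_left ?_).ge)
        have h3 := (W ⊔ M).card_mul_index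
        rw [← W.card_mul_index, h2] at h3
        exact (Nat.eq_of_mul_eq_mul_right hWp.pos h3).le
    have hZ : W ⊓ M ≤ Subgroup.center L := fun y hy =>
      mem_center_of_two hsup hWab (hnorm M inferInstance hM) hy.1 hy.2
    have hnil : Group.IsNilpotent L := by
      haveI : IsMulCommutative (L ⧸ Subgroup.center L) := ⟨⟨fun a b => by
        obtain ⟨a, rfl⟩ := QuotientGroup.mk'_surjective _ a
        obtain ⟨b, rfl⟩ := QuotientGroup.mk'_surjective _ b
        rw [← map_mul, ← map_mul]
        refine QuotientGroup.eq.2 (hZ ⟨?_, ?_⟩) <;>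
          [refine hWc ?_; refine hle ?_] <;>
          (rw [show (a * b)⁻¹ * (b * a) = ⁅b⁻¹, a⁻¹⁆ by rw [_root_.commutatorElement_def]; group]
           exact Subgroup.commutator_mem_commutator (Subgroup.mem_top _) (Subgroup.mem_top _))⟩⟩
      letI : CommGroup (L ⧸ Subgroup.center L) :=
        { (inferInstance : Group (L ⧸ Subgroup.center L)) with mul_comm := mul_comm' }
      exact Group.of_quotient_center_nilpotent inferInstance
    haveI := hnil
    exact hLna' (nilpotent_ab fun s _ R => hsyl s R)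
  have hxW : xL ∈ W := by
    by_contra hxW
    refine hLna' fun a _ b _ => ?_
    have htop : W ⊔ Subgroup.zpowers xL = ⊤ := by
      by_contra h
      exact hxW (huniq _ h (hWc.trans le_sup_left) (Subgroup.mem_sup_right (Subgroup.mem_zpowers _)))
    obtain ⟨c, hc, _, ⟨i, rfl⟩, rfl⟩ := Subgroup.mem_sup_of_normal_left.1 (htop ▸ Subgroup.mem_top a)
    obtain ⟨d, hd, _, ⟨j, rfl⟩, rfl⟩ := Subgroup.mem_sup_of_normal_left.1 (htop ▸ Subgroup.mem_top b)
    have hci : ∀ (k : ℤ) (y : L), y * xL ^ k = xL ^ k * y := fun k y =>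
      Subgroup.mem_center_iff.1 ((Subgroup.center L).zpow_mem hxc k) y
    simp only
    calc c * xL ^ i * (d * xL ^ j) = c * d * (xL ^ i * xL ^ j) := by
          rw [mul_assoc c, ← mul_assoc (xL ^ i), ← hci i d]; group
      _ = d * c * (xL ^ j * xL ^ i) := by rw [hWab c hc d hd, ← zpow_add, ← zpow_add, add_comm]
      _ = d * xL ^ j * (c * xL ^ i) := by
          rw [mul_assoc d (xL ^ j), ← mul_assoc (xL ^ j) c, ← hci j c]; group
  -- the index of `W` is `r`
  have hWr : W.index = r := by
    by_contra hne'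
    have hker : f.ker ≠ ⊤ := fun e => hx1 (congrArg Subtype.val
      (hfc xL hxP hxc (MonoidHom.mem_ker.1 (e ▸ Subgroup.mem_top xL))))
    have hkW : f.ker ≤ W := huniq _ hker (Abelianization.commutator_subset_ker f)
    have h1 : W.index ∣ Nat.card f.range := by
      rw [← Subgroup.index_ker]; exact Subgroup.index_dvd_of_le hkW
    obtain ⟨k, hk⟩ := IsPGroup.iff_card.1 (P.isPGroup'.to_subgroup f.range)
    rw [hk] at h1
    exact hne' ((Nat.prime_dvd_prime_iff_eq hWp hr.out).1 (hWp.dvd_of_dvd_pow h1))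
  obtain ⟨y, hyP, hyW⟩ : ∃ y ∈ (P : Subgroup L), y ∉ W := by
    by_contra! h
    have h1 := Subgroup.index_dvd_of_le h
    refine P.not_dvd_index (dvd_trans ?_ h1)
    exact hWr.symm.dvd
  have hsupy : W ⊔ Subgroup.zpowers y = ⊤ := by
    by_contra h
    exact hyW (huniq _ h (hWc.trans le_sup_left) (Subgroup.mem_sup_right (Subgroup.mem_zpowers _)))
  have hPW : ∀ u ∈ (P : Subgroup L), u ∈ W → u ∈ Subgroup.center L := by
    intro u hu huW
    rw [Subgroup.mem_center_iff]
    intro g
    obtain ⟨c, hc, _, ⟨i, rfl⟩, rfl⟩ := Subgroup.mem_sup_of_normal_left.1 (hsupy ▸ Subgroup.mem_top g)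
    simp only
    rw [mul_assoc, hPab (y ^ i) ((P : Subgroup L).zpow_mem hyP i) u hu, ← mul_assoc,
      hWab c hc u huW, mul_assoc]
  have hPC : ∀ u ∈ (P : Subgroup L), u ∈ commutator L → u = 1 := fun u hu huc =>
    hfc u hu (hPW u hu (hWc huc)) (hcomm u huc)
  -- `L / L'` is cyclic, hence so is `P`
  have hyall : ∀ g : L ⧸ commutator L, g ∈ Subgroup.zpowers (QuotientGroup.mk' (commutator L) y) := by
    intro g
    obtain ⟨g, rfl⟩ := QuotientGroup.mk'_surjective _ g
    by_contra hg
    refine hyW (huniq ((Subgroup.zpowers (QuotientGroup.mk' (commutator L) y)).comap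
      (QuotientGroup.mk' (commutator L))) (fun e => hg ?_) (fun c hc => ?_) ?_)
    · exact Subgroup.mem_comap.1 (e ▸ Subgroup.mem_top g)
    · rw [Subgroup.mem_comap, show QuotientGroup.mk' (commutator L) c = 1 from
        (QuotientGroup.eq_one_iff c).2 hc]
      exact one_mem _
    · exact Subgroup.mem_zpowers _
  haveI : IsCyclic (L ⧸ commutator L) := ⟨⟨_, hyall⟩⟩
  haveI : IsCyclic (P : Subgroup L) := isCyclic_of_injective
    ((QuotientGroup.mk' (commutator L)).comp (P : Subgroup L).subtype) (by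
      rw [injective_iff_map_eq_one]
      exact fun u hu => Subtype.ext (hPC u u.2 ((QuotientGroup.eq_one_iff _).1 hu)))
  -- a Sylow subgroup of `G`
  obtain ⟨S, hS⟩ := (P.isPGroup'.map L.subtype).exists_le_sylow
  have hxS : x ∈ (S : Subgroup G) := hS ⟨xL, hxP, rfl⟩
  have hSL : (S : Subgroup G) ≤ L := fun s hs =>
    Subgroup.mem_centralizer_singleton_iff.2
      (sylow_ab hG hna (Or.inr hsol) S s hs x hxS)
  have hSP : (S : Subgroup G).subgroupOf L = (P : Subgroup L) :=
    P.is_maximal' S.isPGroup'.comap_subtype fun u hu => hS (Subgroup.mem_map_of_mem _ hu)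
  have hScyc : IsCyclic (S : Subgroup G) := by
    haveI : IsCyclic ((S : Subgroup G).subgroupOf L) := hSP ▸ inferInstance
    exact isCyclic_of_surjective (Subgroup.subgroupOfEquivOfLe hSL).toMonoidHom
      (Subgroup.subgroupOfEquivOfLe hSL).surjective
  have hrd : r ∣ Nat.card G := hx ▸ orderOf_dvd_natCard x
  refine no_complement hna hrd (Fusion.hnpc_of_normalizer_le_centralizer S fun g hg => ?_)
  -- `g` normalizes `⟨x⟩`, hence centralizes `x`
  have hgL : g ∈ L := by
    have hgx : g * x * g⁻¹ ∈ (S : Subgroup G) := (Subgroup.mem_normalizer_iff.1 hg x).1 hxS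
    haveI := hScyc
    have hz : Subgroup.zpowers (⟨g * x * g⁻¹, hgx⟩ : (S : Subgroup G)) =
        Subgroup.zpowers (⟨x, hxS⟩ : (S : Subgroup G)) :=
      eq_of_card_eq_cyclic (by
        rw [Nat.card_zpowers, Nat.card_zpowers, Subgroup.orderOf_mk, Subgroup.orderOf_mk,
          show g * x * g⁻¹ = MulAut.conj g x by simp, MulEquiv.orderOf_eq])
    have hz' : Subgroup.zpowers (g * x * g⁻¹) = Subgroup.zpowers x := by
      have := congrArg (Subgroup.map (S : Subgroup G).subtype) hz
      rwa [MonoidHom.map_zpowers, MonoidHom.map_zpowers] at this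
    have hN : L ≤ Subgroup.normalizer (Subgroup.zpowers x : Set G) := by
      rw [hL, ← Subgroup.centralizer_closure, ← Subgroup.zpowers_eq_closure]
      exact Subgroup.centralizer_le_normalizer _
    have hn : Subgroup.normalizer (Subgroup.zpowers x : Set G) ≤
        Subgroup.normalizer (L : Set G) := by
      intro m hm
      refine mem_normalizer_of_conj_smul (Subgroup.eq_of_le_of_card_ge ?_ (card_conj_smul m L).ge)
      intro a ha
      rw [mem_conj_smul] at ha
      have hmx : m⁻¹ * x * m ∈ Subgroup.zpowers x := by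
        have := (Subgroup.mem_normalizer_iff.1 (inv_mem hm) x).1 (Subgroup.mem_zpowers x)
        rwa [inv_inv] at this
      obtain ⟨i, hi⟩ := hmx
      have h4 : Commute (m⁻¹ * a * m) (m⁻¹ * x * m) := by
        rw [← show x ^ i = m⁻¹ * x * m from hi]
        exact (show Commute (m⁻¹ * a * m) x from
          Subgroup.mem_centralizer_singleton_iff.1 ha).zpow_right i
      rw [hL, Subgroup.mem_centralizer_singleton_iff]
      calc a * x = m * ((m⁻¹ * a * m) * (m⁻¹ * x * m)) * m⁻¹ := by group
        _ = m * ((m⁻¹ * x * m) * (m⁻¹ * a * m)) * m⁻¹ := by rw [h4.eq]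
        _ = x * a := by group
    have heq := hG.eq_of_normal hLna hN hn
    rw [heq]
    refine mem_normalizer_of_conj_smul (Subgroup.eq_of_le_of_card_ge ?_ (card_conj_smul g _).ge)
    intro a ha
    rw [mem_conj_smul] at ha
    obtain ⟨i, hi⟩ := ha
    rw [← hz']
    exact ⟨i, by
      show (g * x * g⁻¹) ^ i = a
      rw [conj_zpow, show x ^ i = g⁻¹ * a * g from hi]; group⟩
  rw [Subgroup.mem_centralizer_iff]
  intro s hs
  have hsP : (⟨s, hSL hs⟩ : L) ∈ (P : Subgroup L) := hSP ▸ hs
  have hcs : ⁅(⟨g, hgL⟩ : L), (⟨s, hSL hs⟩ : L)⁆ = 1 := by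
    refine hPC _ ?_ (Subgroup.commutator_mem_commutator (Subgroup.mem_top _) (Subgroup.mem_top _))
    rw [← hSP, Subgroup.mem_subgroupOf]
    show g * s * g⁻¹ * s⁻¹ ∈ (S : Subgroup G)
    exact (S : Subgroup G).mul_mem ((Subgroup.mem_normalizer_iff.1 hg s).1 hs)
      ((S : Subgroup G).inv_mem hs)
  rw [_root_.commutatorElement_def, mul_inv_eq_one, mul_inv_eq_iff_eq_mul] at hcs
  exact (congrArg Subtype.val hcs).symm

theorem isSolvable_of_sn : ∀ (n : ℕ) (H : Type u) [Group H] [Finite H], Nat.card H = n →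
    Odd n → SN H → Group.IsSolvable H := by
  intro n
  induction n using Nat.strong_induction_on with
  | _ n ih =>
  intro H _ _ hcard hodd hH
  subst hcard
  by_contra hns
  have hnt : Nontrivial H := by
    by_contra h
    haveI := not_nontrivial_iff_subsingleton.1 h
    exact hns inferInstance
  have hna : ¬ Ab (⊤ : Subgroup H) := fun h => hns (by
    refine (Group.isSolvable_def H).2 ⟨1, ?_⟩
    rw [derivedSeries_one, eq_bot_iff, _root_.commutator_def, Subgroup.commutator_le]
    intro a _ b _
    rw [Subgroup.mem_bot, commutatorElement_eq_one_iff_mul_comm]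
    exact h a (Subgroup.mem_top a) b (Subgroup.mem_top b))
  have hsub : ∀ L : Subgroup H, L ≠ ⊤ → Group.IsSolvable L := fun L hL => by
    refine ih _ ?_ L rfl (hodd.of_dvd_nat (Subgroup.card_subgroup_dvd_card L)) (hH.sub L)
    refine lt_of_le_of_ne (Nat.le_of_dvd Nat.card_pos (Subgroup.card_subgroup_dvd_card L)) ?_
    exact fun h => hL (Subgroup.eq_top_of_card_eq L h)
  haveI : IsSimpleGroup H := ⟨fun N hN => by
    by_contra! h
    obtain ⟨hN1, hN2⟩ := h
    haveI := hsub N hN2
    haveI : Group.IsSolvable (H ⧸ N) := by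
      refine ih _ ?_ (H ⧸ N) rfl (hodd.of_dvd_nat ⟨_, Subgroup.card_eq_card_quotient_mul_card_subgroup N⟩)
        (hH.quot N)
      rw [Subgroup.card_eq_card_quotient_mul_card_subgroup N]
      exact lt_mul_of_one_lt_right Nat.card_pos
        ((Subgroup.one_lt_card_iff_ne_bot N).2 hN1)
    exact hns (solvable_of_ker_le_range N.subtype (QuotientGroup.mk' N)
      (by rw [QuotientGroup.ker_mk', Subgroup.range_subtype]))⟩
  refine hns (Cfsg.Agent.S0182.result hodd fun x hx a ha b hb => ?_)
  obtain ⟨r, hr, hrd⟩ := Nat.exists_prime_and_dvd (fun e => hx (orderOf_eq_one_iff.1 e))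
  haveI := Fact.mk hr
  have ho : orderOf (x ^ (orderOf x / r)) = r :=
    orderOf_pow_orderOf_div (orderOf_pos x).ne' hrd
  refine centralizer_prime_ab hH hna hsub ho a ?_ b ?_ <;>
    rw [Subgroup.mem_centralizer_singleton_iff] at *
  · exact (show Commute a x from ha).pow_right _
  · exact (show Commute b x from hb).pow_right _

end Cfsg.Agent.Solv.SelfNorm
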