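import Mathlib
import Cfsg.Prelude.Def_LieExceptional
import Cfsg.Agent.Lib.Solv.SelfNormalizingOdd
import Cfsg.Agent.Lib.Fusion.TransferSplit

/-!
Simple groups of even order in which every non-abelian subgroup is self-normalizing:
the centralizers of involutions, and a Zassenhaus action on the cosets of their normalizers.
-/

set_option autoImplicit false
set_option linter.style.haveILetI false

open scoped Pointwise commutatorElement

namespace Cfsg.Agent.Solv.SelfNorm

universe u

section General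

variable {G : Type u} [Group G] [Finite G]

theorem two_coatoms {r : ℕ} [Fact r.Prime] (hG : IsPGroup r G) (hnc : ¬ IsCyclic G) :
    ∃ K₁ K₂ : Subgroup G, IsCoatom K₁ ∧ IsCoatom K₂ ∧ K₁ ⊔ K₂ = ⊤ := by
  haveI : Nontrivial G := by
    by_contra h
    haveI := not_nontrivial_iff_subsingleton.1 h
    exact hnc inferInstance
  obtain ⟨K₁, hK₁, -⟩ := (eq_top_or_exists_le_coatom (⊥ : Subgroup G)).resolve_left bot_ne_top
  obtain ⟨x, -, hx⟩ := SetLike.exists_of_lt (lt_top_iff_ne_top.2 hK₁.1)
  have hzx : Subgroup.zpowers x ≠ ⊤ := fun h => hnc ⟨⟨x, fun g => (h.symm ▸ Subgroup.mem_top g : g ∈ Subgroup.zpowers x)⟩⟩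
  obtain ⟨K₂, hK₂, hle⟩ := (eq_top_or_exists_le_coatom _).resolve_left hzx
  refine ⟨K₁, K₂, hK₁, hK₂, hK₁.lt_iff.1 (lt_of_le_of_ne le_sup_left fun e => ?_)⟩
  rcases hK₂.le_iff.1 (le_sup_right.trans_eq e.symm) with h | h
  · exact hK₁.1 h
  · exact hx (h ▸ hle (Subgroup.mem_zpowers x))

/-- A group with the property and a central abelian noncyclic Sylow 2-subgroup of its normalizer
is abelian. -/
theorem ab_of_burnside (hG : SN G) (S : Sylow 2 G) (hS : Ab (S : Subgroup G))
    (hnc : ¬ IsCyclic (S : Subgroup G))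
    (h : Subgroup.normalizer ((S : Subgroup G) : Set G) ≤
      Subgroup.centralizer ((S : Subgroup G) : Set G)) : Ab (⊤ : Subgroup G) := by
  haveI : Fact (Nat.Prime 2) := ⟨Nat.prime_two⟩
  set f := MonoidHom.transferSylow S h
  have hc := MonoidHom.ker_transferSylow_isComplement' S h
  have hsurj : Function.Surjective f := by
    intro s
    obtain ⟨g, hg⟩ : (s : G) ∈ Set.range fun g : (S : Subgroup G) => (g : G) := ⟨s, rfl⟩
    have hb : Function.Bijective (f.domRestrict (S : Subgroup G)) :=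
      (MonoidHom.transferSylow_domRestrict_eq_pow S h).symm ▸
        (S.2.powEquiv' S.not_dvd_index).bijective
    obtain ⟨u, hu⟩ := hb.2 s
    exact ⟨u, hu⟩
  obtain ⟨K₁, K₂, hK₁, hK₂, hK⟩ := two_coatoms S.isPGroup' hnc
  haveI := coatom_normal S.isPGroup' hK₁
  haveI := coatom_normal S.isPGroup' hK₂
  have hne : ∀ K : Subgroup (S : Subgroup G), IsCoatom K → K.comap f ≠ ⊤ := fun K hK e => hK.1 (by
    rw [← Subgroup.map_comap_eq_self_of_surjective hsurj K, e, ← MonoidHom.range_eq_map,
      MonoidHom.range_eq_top.2 hsurj])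
  have h1 := hG.ab_normal (hne K₁ hK₁)
  have h2 := hG.ab_normal (hne K₂ hK₂)
  have hsup : K₁.comap f ⊔ K₂.comap f = ⊤ := by
    rw [Subgroup.comap_sup_eq f K₁ K₂ hsurj, hK, Subgroup.comap_top]
  have hker : f.ker ≤ Subgroup.center G := fun x hx => by
    rw [MonoidHom.mem_ker] at hx
    exact mem_center_of_two hsup h1 h2
      (by rw [Subgroup.mem_comap, hx]; exact one_mem _)
      (by rw [Subgroup.mem_comap, hx]; exact one_mem _)
  have htop : f.ker ⊔ (S : Subgroup G) = ⊤ := hc.sup_eq_top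
  intro a _ b _
  obtain ⟨z, hz, s, hs, rfl⟩ := Subgroup.mem_sup_of_normal_left.1 (htop ▸ Subgroup.mem_top a)
  obtain ⟨w, hw, r, hr, rfl⟩ := Subgroup.mem_sup_of_normal_left.1 (htop ▸ Subgroup.mem_top b)
  have hzc := Subgroup.mem_center_iff.1 (hker hz)
  have hwc := Subgroup.mem_center_iff.1 (hker hw)
  calc z * s * (w * r) = z * (s * w) * r := by group
    _ = z * w * (s * r) := by rw [hwc s]; group
    _ = w * z * (r * s) := by rw [hwc z, hS s hs r hr]
    _ = w * (z * r) * s := by group
    _ = w * r * (z * s) := by rw [← hzc r]; group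

end General

variable {G : Type u} [Group G] [Finite G]

/-- The standing hypotheses. -/
structure Even' (G : Type u) [Group G] [Finite G] : Prop where
  simple : IsSimpleGroup G
  sn : SN G
  nonab : ¬ Ab (⊤ : Subgroup G)
  two : 2 ∣ Nat.card G

variable (hE : Even' G)
include hE

theorem sylow_two_ab (S : Sylow 2 G) : Ab (S : Subgroup G) :=
  haveI := hE.simple
  haveI : Fact (Nat.Prime 2) := ⟨Nat.prime_two⟩
  sylow_ab hE.sn hE.nonab (Or.inl rfl) S

theorem sylow_two_noncyclic (S : Sylow 2 G) : ¬ IsCyclic (S : Subgroup G) := by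
  haveI := hE.simple
  haveI : Fact (Nat.Prime 2) := ⟨Nat.prime_two⟩
  intro hc
  have hmin : (Nat.card G).minFac = 2 := le_antisymm (Nat.minFac_le_of_dvd le_rfl hE.two)
    (Nat.minFac_prime (fun h1 => by
      have := hE.two
      rw [h1] at this; norm_num at this)).two_le
  exact no_complement hE.nonab hE.two
    ⟨S, _, inferInstance, IsCyclic.isComplement' hmin hc⟩

theorem exists_sylow_mem {t : G} (ht : orderOf t = 2) : ∃ S : Sylow 2 G, t ∈ (S : Subgroup G) := by
  haveI : Fact (Nat.Prime 2) := ⟨Nat.prime_two⟩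
  obtain ⟨S, hS⟩ := (IsPGroup.of_card (n := 1) (by rw [Nat.card_zpowers, ht, pow_one]) :
    IsPGroup 2 (Subgroup.zpowers t)).exists_le_sylow
  exact ⟨S, hS (Subgroup.mem_zpowers t)⟩

theorem sylow_le_centralizer (S : Sylow 2 G) {t : G} (ht : t ∈ (S : Subgroup G)) :
    (S : Subgroup G) ≤ Subgroup.centralizer ({t} : Set G) := fun s hs =>
  Subgroup.mem_centralizer_singleton_iff.2 (sylow_two_ab hE S s hs t ht)

omit hE in
theorem subtype_noncyclic {S : Sylow 2 G} {L : Subgroup G} (hSL : (S : Subgroup G) ≤ L)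
    (hnc : ¬ IsCyclic (S : Subgroup G)) : ¬ IsCyclic (S.subtype hSL : Subgroup L) := fun h => by
  haveI : IsCyclic ((S : Subgroup G).subgroupOf L) := h
  exact hnc (isCyclic_of_surjective (Subgroup.subgroupOfEquivOfLe hSL).toMonoidHom
    (Subgroup.subgroupOfEquivOfLe hSL).surjective)

theorem subtype_ab {S : Sylow 2 G} {L : Subgroup G} (hSL : (S : Subgroup G) ≤ L) :
    Ab (S.subtype hSL : Subgroup L) :=
  fun a ha b hb => Subtype.ext (sylow_two_ab hE S _ ha _ hb)

theorem centralizer_involution_ab {t : G} (ht : orderOf t = 2) :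
    Ab (Subgroup.centralizer ({t} : Set G)) := by
  haveI : Fact (Nat.Prime 2) := ⟨Nat.prime_two⟩
  set L := Subgroup.centralizer ({t} : Set G)
  by_contra hL
  obtain ⟨S, htS⟩ := exists_sylow_mem hE ht
  have hSL : (S : Subgroup G) ≤ L := sylow_le_centralizer hE S htS
  set P := S.subtype hSL
  have hPab : Ab (P : Subgroup L) := subtype_ab hE hSL
  set tL : L := ⟨t, hSL htS⟩
  have htP : tL ∈ (P : Subgroup L) := htS
  have htc : tL ∈ Subgroup.center L := Subgroup.mem_center_iff.2 fun g =>
    Subtype.ext (Subgroup.mem_centralizer_singleton_iff.1 g.2)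
  letI : CommGroup (P : Subgroup L) :=
    { (inferInstance : Group (P : Subgroup L)) with
      mul_comm := fun a b => Subtype.ext (hPab a a.2 b b.2) }
  set f := MonoidHom.transfer (MonoidHom.id (P : Subgroup L))
  have hker : f.ker ≠ ⊤ := fun e => by
    have h : f tL = 1 := MonoidHom.mem_ker.1 (e ▸ Subgroup.mem_top tL)
    rw [Fusion.transfer_central (MonoidHom.id _) htP htc] at h
    have h1 : tL ^ (P : Subgroup L).index = 1 := congrArg Subtype.val h
    have h2 := orderOf_dvd_of_pow_eq_one h1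
    rw [Subgroup.orderOf_mk, ht] at h2
    exact P.not_dvd_index h2
  have hY : commutator (L ⧸ f.ker) ≠ ⊤ := by
    intro e
    haveI : Nontrivial (L ⧸ f.ker) := QuotientGroup.nontrivial_iff.2 hker
    have h1 : IsPGroup 2 (L ⧸ f.ker) :=
      (P.isPGroup'.to_subgroup f.range).of_equiv (QuotientGroup.quotientKerEquivRange f).symm
    haveI := h1.isNilpotent
    exact (Group.IsSolvable.commutator_lt_top_of_nontrivial (L ⧸ f.ker)).ne e
  obtain ⟨M', hM'n, -, hq⟩ := coatom_over_commutator hY
  haveI := hM'n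
  set M₂ := M'.comap (QuotientGroup.mk' f.ker)
  have hidx : M₂.index = 2 := by
    rw [Subgroup.index_comap_of_surjective _ (QuotientGroup.mk'_surjective _)]
    have h1 : M'.index ∣ Nat.card f.range := by
      rw [← Nat.card_congr (QuotientGroup.quotientKerEquivRange f).toEquiv]
      exact Subgroup.index_dvd_card M'
    obtain ⟨k, hk⟩ := IsPGroup.iff_card.1 (P.isPGroup'.to_subgroup f.range)
    rw [hk] at h1
    exact (Nat.prime_dvd_prime_iff_eq hq Nat.prime_two).1 (hq.dvd_of_dvd_pow h1)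
  have hM₂ab : Ab M₂ := (hE.sn.sub L).ab_normal fun e => by
    rw [e, Subgroup.index_top] at hidx; omega
  have hLna : ¬ Ab (⊤ : Subgroup L) := fun h => hL fun a ha b hb =>
    congrArg Subtype.val (h ⟨a, ha⟩ (Subgroup.mem_top _) ⟨b, hb⟩ (Subgroup.mem_top _))
  refine hLna (ab_of_burnside (hE.sn.sub L) P hPab
    (subtype_noncyclic hSL (sylow_two_noncyclic hE S)) ?_)
  -- the normalizer centralizes
  set N := Subgroup.normalizer ((P : Subgroup L) : Set L)
  have hodd : ∀ g ∈ N, Odd (orderOf g) → g ∈ Subgroup.centralizer ((P : Subgroup L) : Set L) := by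
    intro g hg hgo
    rw [Subgroup.mem_centralizer_iff]
    intro s hs
    have hgM : g ∈ M₂ := mem_of_coprime_index (by rw [hidx]; exact Nat.coprime_two_right.2 hgo)
    set m := g * s * g⁻¹ * s⁻¹
    have hmM : m ∈ M₂ := by
      rw [show m = g * (s * g⁻¹ * s⁻¹) by simp only [m]; group]
      exact M₂.mul_mem hgM (Subgroup.Normal.conj_mem inferInstance _ (M₂.inv_mem hgM) s)
    have hgm : Commute g m := hM₂ab _ hgM _ hmM
    have hiter : ∀ i : ℕ, g ^ i * s * (g ^ i)⁻¹ = m ^ i * s := by
      intro i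
      induction i with
      | zero => simp
      | succ i ih =>
        calc g ^ (i + 1) * s * (g ^ (i + 1))⁻¹ = g * (g ^ i * s * (g ^ i)⁻¹) * g⁻¹ := by
              rw [pow_succ']; group
          _ = g * m ^ i * s * g⁻¹ := by rw [ih]; group
          _ = m ^ i * (g * s * g⁻¹) := by rw [(hgm.pow_right i).eq]; group
          _ = m ^ i * (m * s) := by simp only [m]; group
          _ = m ^ (i + 1) * s := by rw [pow_succ]; group
    have h1 := hiter (orderOf g)
    rw [pow_orderOf_eq_one] at h1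
    have hm1 : m ^ orderOf g = 1 := by simpa using h1.symm
    have hmP : m ∈ (P : Subgroup L) :=
      (P : Subgroup L).mul_mem ((Subgroup.mem_normalizer_iff.1 hg s).1 hs)
        ((P : Subgroup L).inv_mem hs)
    obtain ⟨k, hk⟩ := IsPGroup.iff_orderOf.1 P.isPGroup' ⟨m, hmP⟩
    rw [Subgroup.orderOf_mk] at hk
    have hm : m = 1 := orderOf_eq_one_iff.1 (Nat.eq_one_of_dvd_coprimes
      ((Nat.coprime_two_right.2 hgo).pow_right k) (orderOf_dvd_of_pow_eq_one hm1) hk.dvd)
    simp only [m] at hm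
    rw [mul_inv_eq_one, mul_inv_eq_iff_eq_mul] at hm
    exact hm.symm
  intro g hg
  obtain ⟨k, o, ho, hko⟩ := Nat.exists_eq_two_pow_mul_odd (orderOf_pos g).ne'
  have hg2 : g ^ 2 ^ k ∈ Subgroup.centralizer ((P : Subgroup L) : Set L) :=
    hodd _ (N.pow_mem hg _) (by
      rw [orderOf_pow_of_dvd (pow_ne_zero _ two_ne_zero) ⟨o, hko⟩, hko,
        Nat.mul_div_cancel_left _ (Nat.two_pow_pos k)]
      exact ho)
  set CN := (Subgroup.centralizer ((P : Subgroup L) : Set L)).subgroupOf N
  haveI : CN.Normal := by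
    refine ⟨fun c hc n => ?_⟩
    rw [Subgroup.mem_subgroupOf, Subgroup.mem_centralizer_iff] at hc ⊢
    intro s hs
    have h1 := hc _ ((Subgroup.mem_normalizer_iff.1 (inv_mem n.2) s).1 hs)
    simp only [inv_inv] at h1
    calc s * ((n : L) * c * (n : L)⁻¹)
        = (n : L) * (((n : L)⁻¹ * s * n) * c) * (n : L)⁻¹ := by group
      _ = (n : L) * (c * ((n : L)⁻¹ * s * n)) * (n : L)⁻¹ := by rw [h1]
      _ = (n : L) * c * (n : L)⁻¹ * s := by group
  have hPC : (P : Subgroup L).subgroupOf N ≤ CN := fun x hx => by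
    rw [Subgroup.mem_subgroupOf, Subgroup.mem_centralizer_iff]
    exact fun s hs => hPab s hs _ hx
  have hco : Nat.Coprime (2 ^ k) CN.index := by
    refine Nat.Coprime.pow_left k (Nat.prime_two.coprime_iff_not_dvd.2 fun h => P.not_dvd_index ?_)
    exact ((h.trans (Subgroup.index_dvd_of_le hPC)).trans
      ((Subgroup.relIndex_mul_index (Subgroup.le_normalizer (H := (P : Subgroup L)))) ▸
        Dvd.intro _ rfl))
  have h3 : QuotientGroup.mk' CN ⟨g, hg⟩ = 1 := by
    rw [← orderOf_eq_one_iff]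
    refine Nat.eq_one_of_dvd_coprimes hco (orderOf_dvd_of_pow_eq_one ?_)
      (CN.index_eq_card ▸ orderOf_dvd_natCard _)
    rw [← map_pow]
    exact (QuotientGroup.eq_one_iff _).2 hg2
  exact (QuotientGroup.eq_one_iff (N := CN) (⟨g, hg⟩ : N)).1 h3

theorem centralizer_eq {t u : G} (ht : orderOf t = 2) (hu : orderOf u = 2)
    (hut : u ∈ Subgroup.centralizer ({t} : Set G)) :
    Subgroup.centralizer ({u} : Set G) = Subgroup.centralizer ({t} : Set G) := by
  have key : ∀ a b : G, orderOf b = 2 → a ∈ Subgroup.centralizer ({b} : Set G) →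
      Subgroup.centralizer ({b} : Set G) ≤ Subgroup.centralizer ({a} : Set G) := fun a b hb ha x hx =>
    Subgroup.mem_centralizer_singleton_iff.2 (centralizer_involution_ab hE hb x hx a ha)
  refine le_antisymm (key t u hu ?_) (key u t ht hut)
  rw [Subgroup.mem_centralizer_singleton_iff] at hut ⊢
  exact hut.symm

end Cfsg.Agent.Solv.SelfNorm
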