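import Mathlib
import Cfsg.Prelude.Def_LieExceptional
import Cfsg.Agent.Lib.Solv.SelfNormalizingEven

/-!
The Zassenhaus action of a simple group in which every non-abelian subgroup is self-normalizing.
-/

set_option autoImplicit false
set_option linter.style.haveILetI false

open scoped Pointwise commutatorElement

namespace Cfsg.Agent.Solv.SelfNorm

universe u

variable {G : Type u} [Group G] [Finite G] (hE : Even' G) {t : G} (ht : orderOf t = 2)

/-- The centralizer of the fixed involution. -/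
abbrev CA (t : G) : Subgroup G := Subgroup.centralizer ({t} : Set G)

/-- Its normalizer. -/
abbrev NA (t : G) : Subgroup G := Subgroup.normalizer (CA t : Set G)

include hE ht

theorem A_ab : Ab (CA t) := centralizer_involution_ab hE ht

omit hE ht in
theorem mem_CA_self : t ∈ CA t := Subgroup.mem_centralizer_singleton_iff.2 rfl

theorem A_ne_top : CA t ≠ ⊤ := fun e => hE.nonab fun a _ b _ =>
  A_ab hE ht a (e ▸ Subgroup.mem_top a) b (e ▸ Subgroup.mem_top b)

theorem M_ne_top : NA t ≠ ⊤ := fun e => by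
  haveI := hE.simple
  rcases IsSimpleGroup.eq_bot_or_eq_top_of_normal (CA t) (Subgroup.normalizer_eq_top_iff.1 e) with
    h | h
  · have := (mem_CA_self (t := t))
    rw [h, Subgroup.mem_bot] at this
    rw [this, orderOf_one] at ht
    omega
  · exact A_ne_top hE ht h

theorem centralizer_eq_A {u : G} (hu : orderOf u = 2) (huA : u ∈ CA t) :
    Subgroup.centralizer ({u} : Set G) = CA t := centralizer_eq hE ht hu huA

omit hE ht in
theorem centralizer_conj (g u : G) :
    Subgroup.centralizer ({g * u * g⁻¹} : Set G) =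
      MulAut.conj g • Subgroup.centralizer ({u} : Set G) := by
  ext x
  rw [mem_conj_smul, Subgroup.mem_centralizer_singleton_iff, Subgroup.mem_centralizer_singleton_iff]
  constructor
  · intro h
    calc g⁻¹ * x * g * u = g⁻¹ * (x * (g * u * g⁻¹)) * g := by group
      _ = g⁻¹ * ((g * u * g⁻¹) * x) * g := by rw [h]
      _ = u * (g⁻¹ * x * g) := by group
  · intro h
    calc x * (g * u * g⁻¹) = g * ((g⁻¹ * x * g) * u) * g⁻¹ := by group
      _ = g * (u * (g⁻¹ * x * g)) * g⁻¹ := by rw [h]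
      _ = g * u * g⁻¹ * x := by group

omit hE ht in
theorem orderOf_conj (g u : G) : orderOf (g * u * g⁻¹) = orderOf u := by
  rw [show g * u * g⁻¹ = MulAut.conj g u by simp, MulEquiv.orderOf_eq]

theorem mem_M_of_fusion {g u : G} (hu : orderOf u = 2) (huA : u ∈ CA t)
    (hgu : g * u * g⁻¹ ∈ CA t) : g ∈ NA t := by
  refine mem_normalizer_of_conj_smul ?_
  rw [← centralizer_eq_A hE ht hu huA, ← centralizer_conj,
    centralizer_eq_A hE ht (by rw [orderOf_conj, hu]) hgu, centralizer_eq_A hE ht hu huA]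

omit hE ht in
theorem A_le_M : CA t ≤ NA t := Subgroup.le_normalizer

theorem exists_sylow_le_A : ∃ S : Sylow 2 G, (S : Subgroup G) ≤ CA t ∧ t ∈ (S : Subgroup G) := by
  obtain ⟨S, hS⟩ := exists_sylow_mem hE ht
  exact ⟨S, sylow_le_centralizer hE S hS, hS⟩

theorem relIndex_odd : ¬ 2 ∣ ((CA t).subgroupOf (NA t)).index := by
  obtain ⟨S, hSA, -⟩ := exists_sylow_le_A hE ht
  intro h
  refine S.not_dvd_index (h.trans ?_)
  exact (Dvd.intro _ (Subgroup.relIndex_mul_index (A_le_M (t := t)))).trans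
    (Subgroup.index_dvd_of_le hSA)

theorem M_ne_A : NA t ≠ CA t := by
  haveI := hE.simple
  haveI : Fact (Nat.Prime 2) := ⟨Nat.prime_two⟩
  intro h
  obtain ⟨S, hSA, htS⟩ := exists_sylow_le_A hE ht
  refine no_complement hE.nonab hE.two (Fusion.hnpc_of_normalizer_le_centralizer S fun g hg => ?_)
  have hgA : g ∈ CA t :=
    h ▸ mem_M_of_fusion hE ht ht mem_CA_self (hSA ((Subgroup.mem_normalizer_iff.1 hg t).1 htS))
  rw [Subgroup.mem_centralizer_iff]
  exact fun s hs => A_ab hE ht s (hSA hs) g hgA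

theorem M_nonab : ¬ Ab (NA t) := fun h => M_ne_A hE ht
  (le_antisymm (fun x hx => Subgroup.mem_centralizer_singleton_iff.2
    (h x hx t (A_le_M mem_CA_self))) A_le_M)

/-- The index of `A` in `M`. -/
noncomputable def pp (t : G) : ℕ := ((CA t).subgroupOf (NA t)).index

theorem pp_prime : (pp t).Prime := by
  haveI hAn : ((CA t).subgroupOf (NA t)).Normal := Subgroup.normal_in_normalizer
  set A' := (CA t).subgroupOf (NA t)
  have hne : A' ≠ ⊤ := fun h => M_ne_A hE ht (le_antisymm (Subgroup.subgroupOf_eq_top.1 h) A_le_M)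
  haveI : Nontrivial (NA t ⧸ A') := QuotientGroup.nontrivial_iff.2 hne
  have hodd : Odd (Nat.card (NA t ⧸ A')) := by
    rw [← Subgroup.index_eq_card]
    exact Nat.odd_iff.2 (Nat.two_dvd_ne_zero.1 (relIndex_odd hE ht))
  haveI := isSolvable_of_sn _ (NA t ⧸ A') rfl hodd ((hE.sn.sub _).quot A')
  obtain ⟨M', hM'n, -, hq⟩ :=
    coatom_over_commutator (Group.IsSolvable.commutator_lt_top_of_nontrivial (NA t ⧸ A')).ne
  haveI := hM'n
  set M₁ := M'.comap (QuotientGroup.mk' A')
  have hidx : M₁.index = M'.index :=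
    Subgroup.index_comap_of_surjective _ (QuotientGroup.mk'_surjective _)
  have hle : A' ≤ M₁ := fun x hx => by
    rw [Subgroup.mem_comap, show QuotientGroup.mk' A' x = 1 from (QuotientGroup.eq_one_iff x).2 hx]
    exact one_mem _
  have hab : Ab M₁ := (hE.sn.sub _).ab_normal fun e => by
    rw [e, Subgroup.index_top] at hidx
    exact Nat.not_prime_one (hidx ▸ hq)
  have heq : M₁ = A' := le_antisymm (fun x hx => by
    rw [Subgroup.mem_subgroupOf, Subgroup.mem_centralizer_singleton_iff]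
    exact congrArg Subtype.val (hab x hx ⟨t, A_le_M mem_CA_self⟩ (hle mem_CA_self))) hle
  show A'.index.Prime
  rw [← heq, hidx]
  exact hq

theorem pp_odd : pp t ≠ 2 := fun h => relIndex_odd hE ht (show 2 ∣ pp t by rw [h])

/-- Every element of `M` is in `A` times powers of a given element outside `A`. -/
theorem decomp {y : G} (hy : y ∈ NA t) (hyA : y ∉ CA t) {m : G} (hm : m ∈ NA t) :
    ∃ a ∈ CA t, ∃ i : ℕ, m = a * y ^ i := by
  haveI hAn : ((CA t).subgroupOf (NA t)).Normal := Subgroup.normal_in_normalizer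
  set A' := (CA t).subgroupOf (NA t)
  haveI := Fact.mk (pp_prime hE ht)
  have hc : Nat.card (NA t ⧸ A') = pp t := (Subgroup.index_eq_card A').symm
  have hy1 : QuotientGroup.mk' A' ⟨y, hy⟩ ≠ 1 := fun h => hyA
    ((QuotientGroup.eq_one_iff (N := A') (⟨y, hy⟩ : NA t)).1 h)
  obtain ⟨i, hi⟩ := (IsOfFinOrder.mem_powers_iff_mem_zpowers (isOfFinOrder_of_finite _)).2
    (mem_zpowers_of_prime_card hc hy1 (g' := QuotientGroup.mk' A' ⟨m, hm⟩))
  refine ⟨m * (y ^ i)⁻¹, ?_, i, by group⟩
  have hi' : QuotientGroup.mk' A' (⟨m, hm⟩ * (⟨y, hy⟩ ^ i)⁻¹) = 1 := by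
    rw [map_mul, map_inv, map_pow, show QuotientGroup.mk' A' ⟨y, hy⟩ ^ i =
      QuotientGroup.mk' A' ⟨m, hm⟩ from hi, mul_inv_cancel]
  exact (QuotientGroup.eq_one_iff (N := A') _).1 hi'

theorem pow_pp_mem {y : G} (hy : y ∈ NA t) : y ^ pp t ∈ CA t := by
  haveI hAn : ((CA t).subgroupOf (NA t)).Normal := Subgroup.normal_in_normalizer
  exact ((CA t).subgroupOf (NA t)).pow_index_mem (⟨y, hy⟩ : NA t)

theorem mem_A_of_coprime {a : G} (ha : a ∈ NA t) (hco : (orderOf a).Coprime (pp t)) :
    a ∈ CA t := by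
  haveI hAn : ((CA t).subgroupOf (NA t)).Normal := Subgroup.normal_in_normalizer
  exact (mem_of_coprime_index (M := (CA t).subgroupOf (NA t)) (x := (⟨a, ha⟩ : NA t))
    (by rwa [Subgroup.orderOf_mk]) :)

theorem conj_mem_A {y a : G} (hy : y ∈ NA t) (ha : a ∈ CA t) : y * a * y⁻¹ ∈ CA t :=
  (Subgroup.mem_normalizer_iff.1 hy a).1 ha

/-- Elements of `A` fixed by an element outside `A` are central in `M`. -/
theorem commute_M {y c : G} (hy : y ∈ NA t) (hyA : y ∉ CA t) (hc : c ∈ CA t)
    (hyc : y * c = c * y) {m : G} (hm : m ∈ NA t) : m * c = c * m := by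
  obtain ⟨a, ha, i, rfl⟩ := decomp hE ht hy hyA hm
  rw [mul_assoc, ((show Commute y c from hyc).pow_left i).eq, ← mul_assoc, A_ab hE ht a ha c hc,
    mul_assoc]

/-- The conjugates of an involution correspond to the cosets of `A`. -/
theorem exists_conj {u v : G} (hu : orderOf u = 2) (hv : orderOf v = 2)
    (hvu : v ∉ Subgroup.centralizer ({u} : Set G)) : ∃ g : G, g * u * g⁻¹ = v := by
  have huu : u * u = 1 := by rw [← pow_two, ← hu, pow_orderOf_eq_one]
  have hvv : v * v = 1 := by rw [← pow_two, ← hv, pow_orderOf_eq_one]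
  set d := u * v with hd
  have hinv : ∀ i : ℕ, u * d ^ i = (d ^ i)⁻¹ * u := by
    intro i
    induction i with
    | zero => simp
    | succ i ih =>
      have e : u * d = d⁻¹ * u := by
        rw [hd, mul_inv_rev, inv_eq_of_mul_eq_one_right huu, inv_eq_of_mul_eq_one_right hvv,
          ← mul_assoc, huu, one_mul, mul_assoc, huu, mul_one]
      calc u * d ^ (i + 1) = u * d ^ i * d := by rw [pow_succ, mul_assoc]
        _ = (d ^ i)⁻¹ * (u * d) := by rw [ih, mul_assoc]
        _ = (d ^ i)⁻¹ * d⁻¹ * u := by rw [e, mul_assoc]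
        _ = (d ^ (i + 1))⁻¹ * u := by rw [← mul_inv_rev, ← pow_succ']
  rcases Nat.even_or_odd (orderOf d) with ⟨j, hj⟩ | ⟨j, hj⟩
  · exfalso
    have hjpos : 0 < j := by have := orderOf_pos d; omega
    have hw : orderOf (d ^ j) = 2 := by
      rw [orderOf_pow_of_dvd hjpos.ne' ⟨2, by omega⟩, hj, ← two_mul,
        Nat.mul_div_cancel _ hjpos]
    have hw2 : (d ^ j)⁻¹ = d ^ j := inv_eq_of_mul_eq_one_right (by
      rw [← pow_two, ← hw, pow_orderOf_eq_one])
    have huw : u * d ^ j = d ^ j * u := by rw [hinv, hw2]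
    have hdw : d * d ^ j = d ^ j * d := by rw [← pow_succ', pow_succ]
    have hvw : v * d ^ j = d ^ j * v := by
      have e : v = u * d := by rw [hd, ← mul_assoc, huu, one_mul]
      rw [e, mul_assoc, hdw, ← mul_assoc, huw, mul_assoc]
    exact hvu (Subgroup.mem_centralizer_singleton_iff.2 (centralizer_involution_ab hE hw v
      (Subgroup.mem_centralizer_singleton_iff.2 hvw) u
      (Subgroup.mem_centralizer_singleton_iff.2 huw)))
  · refine ⟨d ^ j, ?_⟩
    calc d ^ j * u * (d ^ j)⁻¹ = d ^ j * (u * d ^ j) * ((d ^ j)⁻¹ * (d ^ j)⁻¹) := by group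
      _ = u * ((d ^ j)⁻¹ * (d ^ j)⁻¹) := by rw [hinv]; group
      _ = u * d := by
        congr 1
        rw [← mul_inv_rev, ← pow_add]
        refine inv_eq_of_mul_eq_one_right ?_
        rw [← pow_succ, show j + j + 1 = orderOf d by omega, pow_orderOf_eq_one]
      _ = v := by rw [hd, ← mul_assoc, huu, one_mul]

theorem exists_outside : ∃ v : G, orderOf v = 2 ∧ v ∉ CA t := by
  obtain ⟨g, -, hg⟩ := SetLike.exists_of_lt (lt_top_iff_ne_top.2 (M_ne_top hE ht))
  exact ⟨g * t * g⁻¹, by rw [orderOf_conj, ht], fun h => hg (mem_M_of_fusion hE ht ht mem_CA_self h)⟩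

theorem involution_conj {u : G} (hu : orderOf u = 2) : ∃ g : G, g * t * g⁻¹ = u := by
  by_cases huA : u ∈ CA t
  · obtain ⟨v, hv, hvA⟩ := exists_outside hE ht
    obtain ⟨g, hg⟩ := exists_conj hE ht ht hv hvA
    obtain ⟨k, hk⟩ := exists_conj hE ht hu hv (by rw [centralizer_eq_A hE ht hu huA]; exact hvA)
    exact ⟨k⁻¹ * g, by
      calc k⁻¹ * g * t * (k⁻¹ * g)⁻¹ = k⁻¹ * (g * t * g⁻¹) * k := by group
        _ = k⁻¹ * (k * u * k⁻¹) * k := by rw [hg, hk]
        _ = u := by group⟩
  · exact exists_conj hE ht ht hu huA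

theorem card_involutions : Nat.card {u : G // orderOf u = 2} = (CA t).index := by
  rw [Subgroup.index_eq_card]
  refine (Nat.card_congr (Equiv.ofBijective
    (Quotient.lift (fun g : G => (⟨g * t * g⁻¹, by rw [orderOf_conj, ht]⟩ : {u : G // orderOf u = 2}))
      ?_) ⟨?_, ?_⟩)).symm
  · intro a b hab
    have h := Subgroup.mem_centralizer_singleton_iff.1 (QuotientGroup.leftRel_apply.1 hab)
    refine Subtype.ext ?_
    calc a * t * a⁻¹ = a * (t * (a⁻¹ * b)) * b⁻¹ := by group
      _ = a * (a⁻¹ * b * t) * b⁻¹ := by rw [h]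
      _ = b * t * b⁻¹ := by group
  · intro x y hxy
    induction x using QuotientGroup.induction_on with
    | _ a =>
      induction y using QuotientGroup.induction_on with
      | _ b =>
        have e : a * t * a⁻¹ = b * t * b⁻¹ := congrArg Subtype.val hxy
        refine QuotientGroup.eq.2 (Subgroup.mem_centralizer_singleton_iff.2 ?_)
        calc a⁻¹ * b * t = a⁻¹ * (b * t * b⁻¹) * b := by group
          _ = a⁻¹ * (a * t * a⁻¹) * b := by rw [e]
          _ = t * (a⁻¹ * b) := by group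
  · rintro ⟨u, hu⟩
    obtain ⟨g, hg⟩ := involution_conj hE ht hu
    exact ⟨(g : G ⧸ CA t), Subtype.ext hg⟩

theorem index_A : (CA t).index = pp t * (NA t).index :=
  (Subgroup.relIndex_mul_index A_le_M).symm

/-- The involutions inside `A` are the conjugates under `M`; there are `pp t` of them. -/
theorem card_involutions_A : Nat.card {u : G // orderOf u = 2 ∧ u ∈ NA t} = pp t := by
  rw [pp, Subgroup.index_eq_card]
  refine (Nat.card_congr (Equiv.ofBijective
    (Quotient.lift (fun m : NA t => (⟨(m : G) * t * (m : G)⁻¹, by rw [orderOf_conj, ht],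
        A_le_M (conj_mem_A hE ht m.2 mem_CA_self)⟩ : {u : G // orderOf u = 2 ∧ u ∈ NA t}))
      ?_) ⟨?_, ?_⟩)).symm
  · intro a b hab
    have h := Subgroup.mem_centralizer_singleton_iff.1
      (Subgroup.mem_subgroupOf.1 (QuotientGroup.leftRel_apply.1 hab))
    simp only [Subgroup.coe_mul, InvMemClass.coe_inv] at h
    refine Subtype.ext ?_
    calc (a : G) * t * (a : G)⁻¹ = a * (t * ((a : G)⁻¹ * b)) * (b : G)⁻¹ := by group
      _ = a * ((a : G)⁻¹ * b * t) * (b : G)⁻¹ := by rw [h]
      _ = b * t * (b : G)⁻¹ := by group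
  · intro x y hxy
    induction x using QuotientGroup.induction_on with
    | _ a =>
      induction y using QuotientGroup.induction_on with
      | _ b =>
        have e : (a : G) * t * (a : G)⁻¹ = b * t * (b : G)⁻¹ := congrArg Subtype.val hxy
        refine QuotientGroup.eq.2 (Subgroup.mem_subgroupOf.2
          (Subgroup.mem_centralizer_singleton_iff.2 ?_))
        simp only [Subgroup.coe_mul, InvMemClass.coe_inv]
        calc (a : G)⁻¹ * b * t = (a : G)⁻¹ * (b * t * (b : G)⁻¹) * b := by group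
          _ = (a : G)⁻¹ * (a * t * (a : G)⁻¹) * b := by rw [e]
          _ = t * ((a : G)⁻¹ * b) := by group
  · rintro ⟨u, hu, huM⟩
    have huA : u ∈ CA t := mem_A_of_coprime hE ht huM (by
      rw [hu]
      exact (Nat.coprime_primes Nat.prime_two (pp_prime hE ht)).2 (Ne.symm (pp_odd hE ht)))
    obtain ⟨g, hg⟩ := involution_conj hE ht hu
    exact ⟨((⟨g, mem_M_of_fusion hE ht ht mem_CA_self (by rw [hg]; exact huA)⟩ : NA t) :
      NA t ⧸ (CA t).subgroupOf (NA t)), Subtype.ext hg⟩

/-- A subgroup containing `A` and avoiding `M` outside `A` is `A`. -/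
theorem eq_A_of_inf {L : Subgroup G} (hAL : CA t ≤ L)
    (hLM : ∀ y ∈ L, y ∈ NA t → y ∈ CA t) : L = CA t := by
  obtain ⟨S, hSA, htS⟩ := exists_sylow_le_A hE ht
  have hSL : (S : Subgroup G) ≤ L := hSA.trans hAL
  have h := ab_of_burnside (hE.sn.sub L) (S.subtype hSL) (subtype_ab hE hSL)
    (subtype_noncyclic hSL (sylow_two_noncyclic hE S)) (fun g hg => by
      have hgA : (g : G) ∈ CA t := hLM _ g.2 (mem_M_of_fusion hE ht ht mem_CA_self
        (hSA ((Subgroup.mem_normalizer_iff.1 hg ⟨t, hSL htS⟩).1 htS)))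
      rw [Subgroup.mem_centralizer_iff]
      exact fun s hs => Subtype.ext (A_ab hE ht _ (hSA hs) _ hgA))
  exact le_antisymm (fun x hx => Subgroup.mem_centralizer_singleton_iff.2
    (congrArg Subtype.val (h ⟨x, hx⟩ (Subgroup.mem_top _) ⟨t, hSL htS⟩ (Subgroup.mem_top _)))) hAL

/-- An element of `A` whose fixed points in `M` lie in `A` lies in no further conjugate of `A`. -/
theorem ti_of_fpf {a g : G} (ha : a ∈ CA t) (hga : g * a * g⁻¹ ∈ CA t)
    (hfix : ∀ y ∈ NA t, y ∉ CA t → y * (g * a * g⁻¹) ≠ (g * a * g⁻¹) * y) : g ∈ NA t := by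
  set b := g * a * g⁻¹
  have hL : Subgroup.centralizer ({b} : Set G) = CA t := eq_A_of_inf hE ht
    (fun x hx => Subgroup.mem_centralizer_singleton_iff.2 (A_ab hE ht x hx b hga))
    (fun y hy hyM => by
      by_contra hyA
      exact hfix y hyM hyA (Subgroup.mem_centralizer_singleton_iff.1 hy))
  refine mem_M_of_fusion hE ht ht mem_CA_self ?_
  rw [← hL]
  refine Subgroup.mem_centralizer_singleton_iff.2 ?_
  calc g * t * g⁻¹ * b = g * (t * a) * g⁻¹ := by simp only [b]; group
    _ = g * (a * t) * g⁻¹ := by rw [A_ab hE ht t mem_CA_self a ha]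
    _ = b * (g * t * g⁻¹) := by simp only [b]; group

end Cfsg.Agent.Solv.SelfNorm
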