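import Mathlib
import Cfsg.Agent.Lib.Solv.SelfNormalizingZassenhaus

/-!
The normalizer of the centralizer of an involution is a Frobenius group.
-/

set_option autoImplicit false
set_option linter.style.haveILetI false

open scoped Pointwise commutatorElement

namespace Cfsg.Agent.Solv.SelfNorm

universe u

variable {G : Type u} [Group G] [Finite G] (hE : Even' G) {t : G} (ht : orderOf t = 2)

theorem pow_mem_iff {H : Type*} [Group H] (K : Subgroup H) {x : H} {m n : ℕ}
    (h : m.Coprime n) (hn : x ^ n = 1) (hm : x ^ m ∈ K) : x ∈ K := by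
  have h1 : orderOf x ∣ n := orderOf_dvd_of_pow_eq_one hn
  obtain ⟨k, hk⟩ := exists_pow_eq_self_of_coprime (h.coprime_dvd_right h1)
  rw [← hk]
  exact K.pow_mem hm k

theorem nonTwo_involution_mem {N : Subgroup G} [N.Normal] (hN : N.index = 2) {S : Subgroup G}
    (hS : IsPGroup 2 S) (hnc : ¬ IsCyclic S) : ∃ u ∈ S, u ∈ N ∧ orderOf u = 2 := by
  haveI : Fact (Nat.Prime 2) := ⟨Nat.prime_two⟩
  have hne : S ⊓ N ≠ ⊥ := by
    intro h
    have hinj : Function.Injective ((QuotientGroup.mk' N).comp S.subtype) := by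
      rw [injective_iff_map_eq_one]
      intro s hs
      have : (s : G) ∈ S ⊓ N := ⟨s.2, (QuotientGroup.eq_one_iff _).1 hs⟩
      rw [h, Subgroup.mem_bot] at this
      exact Subtype.ext this
    haveI : IsCyclic (G ⧸ N) :=
      isCyclic_of_prime_card (p := 2) (by rw [← Subgroup.index_eq_card, hN])
    exact hnc (isCyclic_of_injective _ hinj)
  obtain ⟨⟨u, hu⟩, hu2⟩ := exists_prime_orderOf_dvd_card' (G := (S ⊓ N : Subgroup G)) 2 (by
    obtain ⟨k, hk⟩ := IsPGroup.iff_card.1 (hS.to_le (inf_le_left : S ⊓ N ≤ S))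
    rcases Nat.eq_zero_or_pos k with rfl | hk0
    · exact absurd (Subgroup.card_eq_one.1 (by rw [hk, pow_zero])) hne
    · rw [hk]; exact dvd_pow_self 2 hk0.ne')
  exact ⟨u, hu.1, hu.2, by rw [← hu2, Subgroup.orderOf_mk]⟩

theorem exists_pElement (hE : Even' G) (ht : orderOf t = 2) :
    ∃ y ∈ NA t, y ∉ CA t ∧ ∃ k, orderOf y = pp t ^ k := by
  have hp := pp_prime hE ht
  haveI := Fact.mk hp
  obtain ⟨y, hy, hyA⟩ : ∃ y ∈ NA t, y ∉ CA t := by
    by_contra! h
    exact M_ne_A hE ht (le_antisymm h A_le_M)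
  obtain ⟨k, m, hm, hkm⟩ := Nat.exists_eq_pow_mul_and_not_dvd (orderOf_pos y).ne' (pp t) hp.ne_one
  refine ⟨y ^ m, (NA t).pow_mem hy _, fun h => hyA ?_, k, ?_⟩
  · obtain ⟨c, -, hc⟩ := Nat.exists_mul_mod_eq_one_of_coprime
      (hp.coprime_iff_not_dvd.2 hm).symm hp.one_lt
    obtain ⟨d, hd⟩ : ∃ d, m * c = 1 + pp t * d := ⟨m * c / pp t, by
      have := Nat.mod_add_div (m * c) (pp t); rw [hc] at this; omega⟩
    have e : y = (y ^ m) ^ c * ((y ^ pp t) ^ d)⁻¹ := by
      rw [← pow_mul, hd, pow_add, pow_one, ← pow_mul]; group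
    rw [e]
    exact (CA t).mul_mem ((CA t).pow_mem h _)
      ((CA t).inv_mem ((CA t).pow_mem (pow_pp_mem hE ht hy) _))
  · rw [orderOf_pow_of_dvd (fun e => hm (by rw [e]; exact dvd_zero _)) ⟨pp t ^ k, by rw [hkm, mul_comm]⟩, hkm,
      Nat.mul_div_cancel _ (Nat.pos_of_ne_zero fun e => hm (by rw [e]; exact dvd_zero _))]

include hE ht

/-- The only normal subgroup of prime index of `M` is `A`. -/
theorem prime_index_eq_A {N : Subgroup (NA t)} [N.Normal] (hN : N.index.Prime) :
    N = (CA t).subgroupOf (NA t) := by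
  obtain ⟨y₁, hy₁, hy₁A, k₁, hk₁⟩ := exists_pElement hE ht
  have hNab : Ab N := (hE.sn.sub _).ab_normal fun e => by
    rw [e, Subgroup.index_top] at hN; exact Nat.not_prime_one hN
  obtain ⟨S, hSA, htS⟩ := exists_sylow_le_A hE ht
  have hSM : (S : Subgroup G) ≤ NA t := hSA.trans A_le_M
  have hp := pp_prime hE ht
  -- an involution of `A` in `N`
  obtain ⟨u, hu2, huA, huN⟩ : ∃ u : NA t, orderOf (u : G) = 2 ∧ (u : G) ∈ CA t ∧ u ∈ N := by
    by_cases hq : N.index = 2
    · obtain ⟨u, huS, huN, hu2⟩ := nonTwo_involution_mem (N := N) hq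
        (S := (S : Subgroup G).subgroupOf (NA t)) S.isPGroup'.comap_subtype
        (subtype_noncyclic hSM (sylow_two_noncyclic hE S))
      exact ⟨u, by rw [Subgroup.orderOf_coe, hu2], hSA huS, huN⟩
    · refine ⟨⟨t, A_le_M mem_CA_self⟩, ht, mem_CA_self, mem_of_coprime_index ?_⟩
      rw [Subgroup.orderOf_mk, ht]
      exact (Nat.coprime_primes Nat.prime_two hN).2 (Ne.symm hq)
  have hle : N ≤ (CA t).subgroupOf (NA t) := fun x hx => by
    rw [Subgroup.mem_subgroupOf, ← centralizer_eq_A hE ht hu2 huA,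
      Subgroup.mem_centralizer_singleton_iff]
    exact congrArg Subtype.val (hNab x hx u huN)
  have h1 := Subgroup.index_dvd_of_le hle
  rcases (Nat.dvd_prime hN).1 h1 with h | h
  · exact absurd h hp.ne_one
  · refine Subgroup.eq_of_le_of_card_ge hle ?_
    have h2 := N.card_mul_index
    rw [← ((CA t).subgroupOf (NA t)).card_mul_index, h] at h2
    exact (Nat.eq_of_mul_eq_mul_right hN.pos h2).ge

theorem commutator_le_A : commutator (NA t) ≤ (CA t).subgroupOf (NA t) := by
  haveI hAn : ((CA t).subgroupOf (NA t)).Normal := Subgroup.normal_in_normalizer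
  haveI := Fact.mk (pp_prime hE ht)
  haveI : IsCyclic (NA t ⧸ (CA t).subgroupOf (NA t)) :=
    isCyclic_of_prime_card (p := pp t) (Subgroup.index_eq_card _).symm
  rw [_root_.commutator_def, Subgroup.commutator_le]
  intro a _ b _
  rw [← QuotientGroup.eq_one_iff]
  show QuotientGroup.mk' _ ⁅a, b⁆ = 1
  rw [_root_.commutatorElement_def, map_mul, map_mul, map_mul, map_inv, map_inv,
    (IsCyclic.commGroup (α := NA t ⧸ (CA t).subgroupOf (NA t))).mul_comm
      (QuotientGroup.mk' _ a), mul_inv_cancel_right, mul_inv_cancel]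

theorem comm_mem (a y : NA t) : ((a * y * a⁻¹ * y⁻¹ : NA t) : G) ∈ CA t :=
  commutator_le_A hE ht (Subgroup.commutator_mem_commutator (Subgroup.mem_top a) (Subgroup.mem_top y))

/-- `a ↦ [a, y]` on `A`. -/
noncomputable def phi (y : NA t) : (CA t).subgroupOf (NA t) →* (CA t).subgroupOf (NA t) where
  toFun a := ⟨(a : NA t) * y * (a : NA t)⁻¹ * y⁻¹, comm_mem hE ht _ _⟩
  map_one' := Subtype.ext (by simp)
  map_mul' a b := Subtype.ext (by
    have hc : Commute ((b : NA t) * y * (b : NA t)⁻¹ * y⁻¹) (a : NA t) :=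
      Subtype.ext (A_ab hE ht _ (comm_mem hE ht _ _) _ a.2)
    have hc2 : Commute ((b : NA t) * y * (b : NA t)⁻¹ * y⁻¹)
        ((a : NA t) * y * (a : NA t)⁻¹ * y⁻¹) :=
      Subtype.ext (A_ab hE ht _ (comm_mem hE ht _ _) _ (comm_mem hE ht _ _))
    show (a : NA t) * b * y * ((a : NA t) * b)⁻¹ * y⁻¹ = _ * _
    calc (a : NA t) * b * y * ((a : NA t) * b)⁻¹ * y⁻¹
        = ((a : NA t) * ((b : NA t) * y * (b : NA t)⁻¹ * y⁻¹)) * y * (a : NA t)⁻¹ * y⁻¹ := by
          group
      _ = ((b : NA t) * y * (b : NA t)⁻¹ * y⁻¹) *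
          ((a : NA t) * y * (a : NA t)⁻¹ * y⁻¹) := by rw [← hc.eq]; group
      _ = _ := hc2.eq)

theorem phi_range_normal (y : NA t) (hyA : (y : G) ∉ CA t) :
    ((phi hE ht y).range.map ((CA t).subgroupOf (NA t)).subtype).Normal := by
  haveI hAn : ((CA t).subgroupOf (NA t)).Normal := Subgroup.normal_in_normalizer
  refine ⟨fun x hx m => ?_⟩
  obtain ⟨_, ⟨a, rfl⟩, rfl⟩ := hx
  obtain ⟨b, hb, i, hm⟩ := decomp hE ht y.2 hyA m.2
  refine ⟨phi hE ht y ⟨y ^ i * a * (y ^ i)⁻¹, hAn.conj_mem _ a.2 _⟩, ⟨_, rfl⟩, ?_⟩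
  set bM : NA t := ⟨b, A_le_M hb⟩
  have hm' : m = bM * y ^ i := Subtype.ext (by rw [hm]; simp [bM])
  show y ^ i * a * (y ^ i)⁻¹ * y * (y ^ i * (a : NA t) * (y ^ i)⁻¹)⁻¹ * y⁻¹ =
    m * ((a : NA t) * y * (a : NA t)⁻¹ * y⁻¹) * m⁻¹
  have hw : y ^ i * ((a : NA t) * y * (a : NA t)⁻¹ * y⁻¹) * (y ^ i)⁻¹ ∈
      (CA t).subgroupOf (NA t) := hAn.conj_mem _ (comm_mem hE ht _ _) _
  rw [hm']
  calc y ^ i * a * (y ^ i)⁻¹ * y * (y ^ i * (a : NA t) * (y ^ i)⁻¹)⁻¹ * y⁻¹
      = y ^ i * ((a : NA t) * y * (a : NA t)⁻¹ * y⁻¹) * (y ^ i)⁻¹ := by group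
    _ = bM * (y ^ i * ((a : NA t) * y * (a : NA t)⁻¹ * y⁻¹) * (y ^ i)⁻¹) * bM⁻¹ := by
        have e : Commute bM (y ^ i * ((a : NA t) * y * (a : NA t)⁻¹ * y⁻¹) * (y ^ i)⁻¹) :=
          Subtype.ext (A_ab hE ht b hb _ hw)
        rw [e.eq, mul_inv_cancel_right]
    _ = _ := by group

theorem commutator_le_range (y : NA t) (hyA : (y : G) ∉ CA t) :
    commutator (NA t) ≤ (phi hE ht y).range.map ((CA t).subgroupOf (NA t)).subtype := by
  haveI := phi_range_normal hE ht y hyA
  set I := (phi hE ht y).range.map ((CA t).subgroupOf (NA t)).subtype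
  rw [_root_.commutator_def, Subgroup.commutator_le]
  intro g _ h _
  rw [← QuotientGroup.eq_one_iff]
  show QuotientGroup.mk' I ⁅g, h⁆ = 1
  rw [_root_.commutatorElement_def, map_mul, map_mul, map_mul, map_inv, map_inv]
  have key : ∀ a : NA t, (a : G) ∈ CA t →
      Commute (QuotientGroup.mk' I a) (QuotientGroup.mk' I y) := by
    intro a ha
    have h1 : QuotientGroup.mk' I (a * y * a⁻¹ * y⁻¹) = 1 :=
      (QuotientGroup.eq_one_iff _).2 ⟨phi hE ht y ⟨a, ha⟩, ⟨_, rfl⟩, rfl⟩
    rw [map_mul, map_mul, map_mul, map_inv, map_inv, mul_inv_eq_one, mul_inv_eq_iff_eq_mul] at h1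
    exact h1
  have hform : ∀ g : NA t, ∃ a : NA t, (a : G) ∈ CA t ∧ ∃ i : ℕ,
      QuotientGroup.mk' I g = QuotientGroup.mk' I a * QuotientGroup.mk' I y ^ i := by
    intro g
    obtain ⟨a, ha, i, hg⟩ := decomp hE ht y.2 hyA g.2
    exact ⟨⟨a, A_le_M ha⟩, ha, i, by
      rw [← map_pow, ← map_mul]; exact congrArg _ (Subtype.ext (by rw [hg]; rfl))⟩
  obtain ⟨a, ha, i, hg⟩ := hform g
  obtain ⟨b, hb, j, hh⟩ := hform h
  have hab : Commute (QuotientGroup.mk' I a) (QuotientGroup.mk' I b) :=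
    (show Commute a b from Subtype.ext (A_ab hE ht _ ha _ hb)).map _
  have hc1 := (key a ha).pow_right j
  have hc2 := (key b hb).pow_right i
  rw [hg, hh]
  have hall : Commute (QuotientGroup.mk' I a * QuotientGroup.mk' I y ^ i)
      (QuotientGroup.mk' I b * QuotientGroup.mk' I y ^ j) :=
    (hab.mul_right hc1).mul_left (hc2.symm.mul_right ((Commute.refl _).pow_pow i j))
  rw [hall.eq, mul_inv_cancel_right, mul_inv_cancel]

/-- Elements of `A` commuting with an element outside are `p`-elements. -/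
theorem fix_pGroup {y c : G} (hy : y ∈ NA t) (hyA : y ∉ CA t) (hc : c ∈ CA t)
    (hyc : y * c = c * y) : ∃ k, orderOf c ∣ pp t ^ k := by
  set A' := (CA t).subgroupOf (NA t)
  set yM : NA t := ⟨y, hy⟩
  set φ := phi hE ht yM
  haveI : (φ.range.map A'.subtype).Normal := phi_range_normal hE ht yM hyA
  set I := φ.range.map A'.subtype with hI
  have hcent : commutator (NA t) ≤ I := commutator_le_range hE ht yM hyA
  -- every prime divisor of the index of `I` is `p`
  have hIA : I ≤ A' := Subgroup.map_subtype_le _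
  haveI : IsMulCommutative (NA t ⧸ I) := ⟨⟨fun a b => by
    obtain ⟨a, rfl⟩ := QuotientGroup.mk'_surjective I a
    obtain ⟨b, rfl⟩ := QuotientGroup.mk'_surjective I b
    rw [← map_mul, ← map_mul]
    refine QuotientGroup.eq.2 (hcent ?_)
    rw [show (a * b)⁻¹ * (b * a) = ⁅b⁻¹, a⁻¹⁆ by rw [_root_.commutatorElement_def]; group]
    exact Subgroup.commutator_mem_commutator (Subgroup.mem_top _) (Subgroup.mem_top _)⟩⟩
  letI : CommGroup (NA t ⧸ I) :=
    { (inferInstance : Group (NA t ⧸ I)) with mul_comm := mul_comm' }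
  have hpr : ∀ r : ℕ, r.Prime → r ∣ I.index → r = pp t := by
    intro r hr hd
    haveI := Fact.mk hr
    obtain ⟨P⟩ : Nonempty (Sylow r (NA t ⧸ I)) := inferInstance
    obtain ⟨N', hN', hN'i⟩ : ∃ N' : Subgroup (NA t ⧸ I), N'.Normal ∧ N'.index = r := by
      rw [Subgroup.index_eq_card] at hd
      have hP1 := P.dvd_card_of_dvd_card hd
      let f : (NA t ⧸ I) →* (P : Subgroup (NA t ⧸ I)) :=
        MonoidHom.transferSylow P (fun g _ => Subgroup.mem_centralizer_iff.2 fun s _ => mul_comm s g)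
      obtain ⟨K, hKn, hKi⟩ : ∃ K : Subgroup (P : Subgroup (NA t ⧸ I)), K.Normal ∧ K.index = r := by
        have hne : (⊥ : Subgroup (P : Subgroup (NA t ⧸ I))) ≠ ⊤ := fun h => by
          have h1 : Nat.card (P : Subgroup (NA t ⧸ I)) = 1 := by
            rw [← Subgroup.card_top, ← h, Subgroup.card_bot]
          rw [h1, Nat.dvd_one] at hP1
          exact hr.ne_one hP1
        obtain ⟨K, -, hK⟩ := Fusion.exists_normal_index_p_above P.isPGroup' hne
        exact ⟨K, inferInstance, hK⟩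
      refine ⟨K.comap f, inferInstance, ?_⟩
      rw [Subgroup.index_comap_of_surjective _ ?_, hKi]
      intro s
      have hb : Function.Bijective (f.domRestrict (P : Subgroup (NA t ⧸ I))) := by
        rw [MonoidHom.transferSylow_domRestrict_eq_pow P]
        exact (P.2.powEquiv' P.not_dvd_index).bijective
      obtain ⟨u, hu⟩ := hb.2 s
      exact ⟨u, hu⟩
    haveI := hN'
    have hidx := Subgroup.index_comap_of_surjective N' (QuotientGroup.mk'_surjective I)
    have := prime_index_eq_A hE ht (N := N'.comap (QuotientGroup.mk' I)) (by rw [hidx, hN'i]; exact hr)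
    rw [← hN'i, ← hidx, this]
    rfl
  obtain ⟨k, hk⟩ : ∃ k, I.index = pp t ^ k :=
    ⟨I.index.primeFactorsList.length, Nat.eq_prime_pow_of_unique_prime_dvd
      Subgroup.index_ne_zero_of_finite fun {d} hd hdi => hpr d hd hdi⟩
  refine ⟨k, ?_⟩
  rw [← hk]
  have hck : (⟨⟨c, A_le_M hc⟩, hc⟩ : A') ∈ φ.ker := by
    refine MonoidHom.mem_ker.2 (Subtype.ext (Subtype.ext ?_))
    show c * y * c⁻¹ * y⁻¹ = 1
    rw [← hyc, mul_inv_cancel_right, mul_inv_cancel]
  have h1 : orderOf c ∣ Nat.card φ.ker := by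
    have := Subgroup.orderOf_dvd_natCard φ.ker hck
    rwa [← Subgroup.orderOf_coe, ← Subgroup.orderOf_coe] at this
  refine h1.trans ?_
  have e2 : Nat.card φ.ker * Nat.card I = Nat.card A' := by
    rw [hI, Solv.card_map_subtype, ← Subgroup.index_ker, Subgroup.card_mul_index]
  have h2 := I.card_mul_index
  rw [← A'.card_mul_index, ← e2] at h2
  refine ⟨A'.index, Nat.eq_of_mul_eq_mul_left (Nat.card_pos (α := I)) ?_⟩
  rw [h2]; ring

/-- With a fixed point, Sylow `p`-subgroups of `M` are cyclic: a `p`-element of `A` is a power of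
any `p`-element outside `A`. -/
theorem pElement_mem_zpowers {y a : G} (hy : y ∈ NA t) (hyA : y ∉ CA t) {i j : ℕ}
    (hy' : orderOf y = pp t ^ i) (ha : a ∈ CA t) (ha' : orderOf a = pp t ^ j) :
    a ∈ Subgroup.zpowers y := by
  have hp := pp_prime hE ht
  haveI := Fact.mk hp
  haveI hAn : ((CA t).subgroupOf (NA t)).Normal := Subgroup.normal_in_normalizer
  set A' := (CA t).subgroupOf (NA t)
  set yM : NA t := ⟨y, hy⟩
  obtain ⟨P, hP⟩ := (IsPGroup.of_card (n := i) (by
    rw [Nat.card_zpowers, Subgroup.orderOf_mk, hy']) :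
      IsPGroup (pp t) (Subgroup.zpowers yM)).exists_le_sylow
  have hyP : yM ∈ (P : Subgroup (NA t)) := hP (Subgroup.mem_zpowers _)
  -- `p`-elements of `A` lie in every Sylow subgroup of `M`
  have hmemP : ∀ (x : NA t) (k : ℕ), (x : G) ∈ CA t → orderOf x = pp t ^ k →
      x ∈ (P : Subgroup (NA t)) := by
    intro x k hx hk
    haveI : (Subgroup.closure {z : NA t | (z : G) ∈ CA t ∧ ∃ k, orderOf z = pp t ^ k}).Normal := by
      refine ⟨fun z hz g => ?_⟩
      have := Subgroup.mem_map_of_mem (MulAut.conj g).toMonoidHom hz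
      rw [MonoidHom.map_closure] at this
      refine Subgroup.closure_mono ?_ this
      rintro _ ⟨z, hz, rfl⟩
      refine ⟨hAn.conj_mem z hz.1 g, hz.2.choose, ?_⟩
      exact ((MulAut.conj g).orderOf_eq z).trans hz.2.choose_spec
    have hn : (P : Subgroup (NA t)) ⊔ Subgroup.closure
        {z : NA t | (z : G) ∈ CA t ∧ ∃ k, orderOf z = pp t ^ k} = P := by
      refine P.is_maximal' (IsPGroup.to_sup_of_normal_right P.isPGroup' ?_) le_sup_left
      · intro w
        obtain ⟨w, hw⟩ := w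
        suffices h : (w : G) ∈ CA t ∧ ∃ k, w ^ pp t ^ k = 1 by
          obtain ⟨-, k, hk⟩ := h
          exact ⟨k, Subtype.ext hk⟩
        induction hw using Subgroup.closure_induction with
        | mem z hz => exact ⟨hz.1, hz.2.choose, by rw [← hz.2.choose_spec, pow_orderOf_eq_one]⟩
        | one => exact ⟨one_mem _, 0, one_pow _⟩
        | mul z w _ _ hz hw =>
          obtain ⟨hzA, k, hk⟩ := hz
          obtain ⟨hwA, l, hl⟩ := hw
          refine ⟨(CA t).mul_mem hzA hwA, k + l, ?_⟩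
          rw [(show Commute z w from Subtype.ext (A_ab hE ht _ hzA _ hwA)).mul_pow, pow_add,
            pow_mul, hk, one_pow, one_mul, mul_comm, pow_mul, hl, one_pow]
        | inv z _ hz =>
          obtain ⟨hzA, k, hk⟩ := hz
          exact ⟨(CA t).inv_mem hzA, k, by rw [inv_pow, hk, inv_one]⟩
    exact hn ▸ Subgroup.mem_sup_right (Subgroup.subset_closure ⟨hx, k, hk⟩)
  -- `P` is generated by `y`
  have hgen : (Subgroup.zpowers (⟨yM, hyP⟩ : (P : Subgroup (NA t)))) = ⊤ := by
    by_contra hne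
    obtain ⟨K, hK, hle⟩ := (eq_top_or_exists_le_coatom _).resolve_left hne
    haveI := coatom_normal P.isPGroup' hK
    have hKc : commutator (P : Subgroup (NA t)) ≤ K :=
      (Cfsg.Agent.Solv.commutator_le_frattini_pgroup P.isPGroup').trans (frattini_le_coatom hK)
    refine hK.1 (eq_top_iff.2 fun x _ => ?_)
    obtain ⟨b, hb, l, hx⟩ := decomp hE ht hy hyA (x : NA t).2
    -- `x = b * y ^ l`, with `b` a `p`-element
    set bM : NA t := ⟨b, A_le_M hb⟩
    have hbP : bM ∈ (P : Subgroup (NA t)) := by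
      have e : bM = (x : NA t) * (yM ^ l)⁻¹ := Subtype.ext (by
        show b = ((x : NA t) : G) * (y ^ l)⁻¹
        rw [hx]; group)
      rw [e]
      exact (P : Subgroup (NA t)).mul_mem x.2
        ((P : Subgroup (NA t)).inv_mem ((P : Subgroup (NA t)).pow_mem hyP l))
    suffices hbK : (⟨bM, hbP⟩ : (P : Subgroup (NA t))) ∈ K by
      have e : x = ⟨bM, hbP⟩ * (⟨yM, hyP⟩ : (P : Subgroup (NA t))) ^ l :=
        Subtype.ext (Subtype.ext (by rw [hx]; rfl))
      rw [e]
      exact K.mul_mem hbK (K.pow_mem (hle (Subgroup.mem_zpowers _)) l)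
    -- the subgroup `J` of `M` generated by commutators and powers of `y`
    haveI hn : (Subgroup.zpowers yM ⊔ commutator (NA t)).Normal :=
      Subgroup.Normal.of_commutator_le _ le_sup_right
    have hJ : Subgroup.zpowers yM ⊔ commutator (NA t) = ⊤ := by
      by_contra hJ
      obtain ⟨N, hN, hNle⟩ := (eq_top_or_exists_le_coatom _).resolve_left hJ
      haveI : N.Normal := Subgroup.Normal.of_commutator_le _ (le_sup_right.trans hNle)
      have hprime : N.index.Prime := by
        obtain ⟨N₂, hN₂, -, hN₂p⟩ : ∃ N₂ : Subgroup (NA t ⧸ N), N₂.Normal ∧ True ∧ N₂.index.Prime := by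
          haveI : Nontrivial (NA t ⧸ N) := QuotientGroup.nontrivial_iff.2 hN.1
          obtain ⟨N₂, a, -, b⟩ := coatom_over_commutator (G := NA t ⧸ N) (by
            intro e
            have h1 : commutator (NA t ⧸ N) ≤ ⊥ := by
              rw [_root_.commutator_def, Subgroup.commutator_le]
              intro a _ b _
              obtain ⟨a, rfl⟩ := QuotientGroup.mk'_surjective N a
              obtain ⟨b, rfl⟩ := QuotientGroup.mk'_surjective N b
              rw [Subgroup.mem_bot, ← map_commutatorElement]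
              exact (QuotientGroup.eq_one_iff _).2 (le_sup_right.trans hNle
                (Subgroup.commutator_mem_commutator (Subgroup.mem_top _) (Subgroup.mem_top _)))
            rw [e] at h1
            exact bot_ne_top (eq_bot_iff.2 h1).symm)
          exact ⟨N₂, a, trivial, b⟩
        haveI := hN₂
        have hle2 : N ≤ N₂.comap (QuotientGroup.mk' N) := fun z hz => by
          rw [Subgroup.mem_comap, show QuotientGroup.mk' N z = 1 from (QuotientGroup.eq_one_iff z).2 hz]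
          exact one_mem _
        have h2 := Subgroup.index_comap_of_surjective N₂ (QuotientGroup.mk'_surjective N)
        rcases hN.le_iff.1 hle2 with h | h
        · rw [h, Subgroup.index_top] at h2
          exact absurd (h2 ▸ hN₂p) Nat.not_prime_one
        · rw [← h, h2]; exact hN₂p
      exact hyA (by
        have := hNle (Subgroup.mem_sup_left (Subgroup.mem_zpowers yM))
        rwa [prime_index_eq_A hE ht hprime] at this)
    obtain ⟨c, hc, z, ⟨n, rfl⟩, hcz⟩ := Subgroup.mem_sup_of_normal_left.1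
      ((sup_comm (Subgroup.zpowers yM) (commutator (NA t))) ▸ hJ ▸ Subgroup.mem_top bM)
    simp only at hcz
    have hcP : c ∈ (P : Subgroup (NA t)) := by
      rw [eq_mul_inv_of_mul_eq hcz]
      exact (P : Subgroup (NA t)).mul_mem hbP
        ((P : Subgroup (NA t)).inv_mem ((P : Subgroup (NA t)).zpow_mem hyP n))
    suffices hcK : (⟨c, hcP⟩ : (P : Subgroup (NA t))) ∈ K by
      have e : (⟨bM, hbP⟩ : (P : Subgroup (NA t))) = ⟨c, hcP⟩ * ⟨yM, hyP⟩ ^ n :=
        Subtype.ext hcz.symm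
      rw [e]
      exact K.mul_mem hcK (K.zpow_mem (hle (Subgroup.mem_zpowers _)) n)
    -- commutators of `M` are commutators with `y`
    obtain ⟨_, ⟨d, rfl⟩, hdc⟩ := commutator_le_range hE ht yM hyA hc
    obtain ⟨kd, md, hmd, hkmd⟩ :=
      Nat.exists_eq_pow_mul_and_not_dvd (orderOf_pos d).ne' (pp t) hp.ne_one
    have hdP : ((d ^ md : A') : NA t) ∈ (P : Subgroup (NA t)) := by
      refine hmemP _ kd (d ^ md).2 ?_
      rw [Subgroup.orderOf_coe, orderOf_pow_of_dvd (fun e => hmd (by rw [e]; exact dvd_zero _))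
        ⟨pp t ^ kd, by rw [hkmd, mul_comm]⟩, hkmd,
        Nat.mul_div_cancel _ (Nat.pos_of_ne_zero fun e => hmd (by rw [e]; exact dvd_zero _))]
    have hcmK : (⟨c, hcP⟩ : (P : Subgroup (NA t))) ^ md ∈ K := by
      refine hKc ?_
      have e : (⟨c, hcP⟩ : (P : Subgroup (NA t))) ^ md =
          ⁅(⟨_, hdP⟩ : (P : Subgroup (NA t))), ⟨yM, hyP⟩⁆ := by
        refine Subtype.ext ?_
        show c ^ md = ⁅((d ^ md : A') : NA t), yM⁆
        rw [← hdc, ← map_pow, ← map_pow]
        rfl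
      rw [e]
      exact Subgroup.commutator_mem_commutator (Subgroup.mem_top _) (Subgroup.mem_top _)
    obtain ⟨l, hl⟩ := P.isPGroup' (⟨c, hcP⟩ : (P : Subgroup (NA t)))
    exact pow_mem_iff K ((hp.coprime_iff_not_dvd.2 hmd).pow_left l).symm hl hcmK
  have := hgen ▸ Subgroup.mem_top (⟨⟨a, A_le_M ha⟩, hmemP _ j ha (by rw [Subgroup.orderOf_mk, ha'])⟩ :
    (P : Subgroup (NA t)))
  obtain ⟨n, hn⟩ := this
  exact ⟨n, congrArg (fun z : (P : Subgroup (NA t)) => ((z : NA t) : G)) hn⟩

end Cfsg.Agent.Solv.SelfNorm
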