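import Mathlib
import Cfsg.Agent.Lib.Solv.SelfNormalizingFrobenius

/-!
The action of the normalizer on the abelian centralizer is fixed-point free.
-/

set_option autoImplicit false
set_option linter.style.haveILetI false

open scoped Pointwise commutatorElement

namespace Cfsg.Agent.Solv.SelfNorm

universe u

variable {G : Type u} [Group G] [Finite G] (hE : Even' G) {t : G} (ht : orderOf t = 2)

theorem inv_of_order_two {v : G} (hv : orderOf v = 2) : v⁻¹ = v :=
  inv_eq_of_mul_eq_one_right (by rw [← pow_two, ← hv, pow_orderOf_eq_one])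

include hE ht

/-- No nontrivial element of `A` is inverted by an involution outside `M`. -/
theorem inverted_A {v a : G} (hvM : v ∉ NA t) (ha : a ∈ CA t) (hinv : v * a * v⁻¹ = a⁻¹) :
    a = 1 := by
  by_contra ha1
  set L := Subgroup.centralizer ({a} : Set G) with hL
  have hAL : CA t ≤ L := fun x hx =>
    Subgroup.mem_centralizer_singleton_iff.2 (A_ab hE ht x hx a ha)
  have hvL : v ∈ Subgroup.normalizer (L : Set G) := by
    rw [Subgroup.mem_normalizer_iff]
    intro x
    simp only [L, Subgroup.mem_centralizer_singleton_iff]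
    have e : v⁻¹ * a * v = a⁻¹ := by
      have h1 : v * a⁻¹ * v⁻¹ = a := by rw [← conj_inv, hinv, inv_inv]
      calc v⁻¹ * a * v = v⁻¹ * (v * a⁻¹ * v⁻¹) * v := by rw [h1]
        _ = a⁻¹ := by group
    constructor
    · intro h
      have hc : Commute x a⁻¹ := (show Commute x a from h).inv_right
      calc v * x * v⁻¹ * a = v * (x * (v⁻¹ * a * v)) * v⁻¹ := by group
        _ = v * (x * a⁻¹) * v⁻¹ := by rw [e]
        _ = v * (a⁻¹ * x) * v⁻¹ := by rw [hc.eq]
        _ = v * (v⁻¹ * a * v * x) * v⁻¹ := by rw [e]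
        _ = a * (v * x * v⁻¹) := by group
    · intro h
      have hc : Commute (v * x * v⁻¹) a⁻¹ := (show Commute (v * x * v⁻¹) a from h).inv_right
      calc x * a = v⁻¹ * (v * x * v⁻¹ * (v * a * v⁻¹)) * v := by group
        _ = v⁻¹ * (v * x * v⁻¹ * a⁻¹) * v := by rw [hinv]
        _ = v⁻¹ * (a⁻¹ * (v * x * v⁻¹)) * v := by rw [hc.eq]
        _ = v⁻¹ * (v * a * v⁻¹ * (v * x * v⁻¹)) * v := by rw [hinv]
        _ = a * x := by group
  by_cases hy : ∃ y ∈ L, y ∈ NA t ∧ y ∉ CA t
  · obtain ⟨y, hyL, hyM, hyA⟩ := hy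
    have hML : NA t ≤ L := fun m hm => Subgroup.mem_centralizer_singleton_iff.2
      (commute_M hE ht hyM hyA ha (Subgroup.mem_centralizer_singleton_iff.1 hyL) hm)
    have hLn := hE.sn L fun h => M_nonab hE ht (h.mono hML)
    rw [hLn] at hvL
    have h1 := Subgroup.mem_centralizer_singleton_iff.1 hvL
    have h2 : a = a⁻¹ := by rw [← hinv, h1]; group
    have hord : orderOf a = 2 := orderOf_eq_prime (by rw [pow_two]; exact eq_inv_iff_mul_eq_one.1 h2) ha1
    exact hyA (by rw [← centralizer_eq_A hE ht hord ha]; exact hyL)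
  · push Not at hy
    rw [eq_A_of_inf hE ht hAL hy] at hvL
    exact hvM hvL

theorem inverted_pow {v m : G} (hvM : v ∉ NA t) (hm : m ∈ NA t)
    (hinv : v * m * v⁻¹ = m⁻¹) : m ^ pp t = 1 :=
  inverted_A hE ht hvM (pow_pp_mem hE ht hm) (by rw [← conj_pow, hinv, inv_pow])

theorem card_outside :
    Nat.card {u : G // orderOf u = 2 ∧ u ∉ NA t} + pp t = pp t * (NA t).index := by
  classical
  rw [← index_A hE ht, ← card_involutions hE ht, ← card_involutions_A hE ht]
  rw [add_comm, ← Nat.card_sum]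
  refine Nat.card_congr ((Equiv.sumCongr
    (Equiv.subtypeSubtypeEquivSubtypeInter _ _).symm
    (Equiv.subtypeSubtypeEquivSubtypeInter _ _).symm).trans
    (Equiv.sumCompl (fun u : {u : G // orderOf u = 2} => (u : G) ∈ NA t)))

/-- The elements of `M` outside `A` fix only the identity of `A`. -/
theorem fpf {y c : G} (hy : y ∈ NA t) (hyA : y ∉ CA t) (hc : c ∈ CA t)
    (hyc : y * c = c * y) : c = 1 := by
  by_contra hc1
  have hp := pp_prime hE ht
  haveI := Fact.mk hp
  obtain ⟨k, hk⟩ := fix_pGroup hE ht hy hyA hc hyc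
  obtain ⟨j, -, hj⟩ := (Nat.dvd_prime_pow hp).1 hk
  obtain ⟨b, hb, hbA, hbM⟩ : ∃ b, orderOf b = pp t ∧ b ∈ CA t ∧ ∀ m ∈ NA t, m * b = b * m := by
    have hj0 : j ≠ 0 := fun e => hc1 (orderOf_eq_one_iff.1 (by rw [hj, e, pow_zero]))
    refine ⟨c ^ pp t ^ (j - 1), ?_, (CA t).pow_mem hc _, fun m hm =>
      ((show Commute m c from commute_M hE ht hy hyA hc hyc hm).pow_right _).eq⟩
    rw [orderOf_pow_of_dvd (pow_ne_zero _ hp.ne_zero) (hj ▸ pow_dvd_pow _ (Nat.sub_le _ _)), hj,
      Nat.pow_div (Nat.sub_le _ _) hp.pos, show j - (j - 1) = 1 by omega, pow_one]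
  have hcoset : ∀ v w : G, v ∉ NA t → orderOf v = 2 → orderOf w = 2 → v * w ∈ NA t → v = w := by
    intro v w hvM hv hw hm
    set m := v * w with hmdef
    have hinv : v * m * v⁻¹ = m⁻¹ := by
      rw [hmdef, _root_.mul_inv_rev, inv_of_order_two hw, inv_of_order_two hv, ← mul_assoc v v w,
        show v * v = 1 by rw [← pow_two, ← hv, pow_orderOf_eq_one], one_mul]
    have hmp := inverted_pow hE ht hvM hm hinv
    have hm1 : m = 1 := by
      by_contra hm1
      have hmo : orderOf m = pp t := orderOf_eq_prime hmp hm1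
      have hmA : m ∉ CA t := fun h => hm1 (inverted_A hE ht hvM h hinv)
      have hbm := pElement_mem_zpowers hE ht hm hmA (i := 1) (j := 1)
        (by rw [hmo, pow_one]) hbA (by rw [hb, pow_one])
      have e : Subgroup.zpowers b = Subgroup.zpowers m :=
        Subgroup.eq_of_le_of_card_ge (Subgroup.zpowers_le.2 hbm)
          (by rw [Nat.card_zpowers, Nat.card_zpowers, hb, hmo])
      exact hmA ((Subgroup.zpowers_le.2 hbA) (e ▸ Subgroup.mem_zpowers m))
    rw [eq_inv_of_mul_eq_one_left hm1, inv_of_order_two hw]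
  have h1 : Nat.card {u : G // orderOf u = 2 ∧ u ∉ NA t} ≤
      Nat.card {q : G ⧸ NA t // q ≠ ((1 : G) : G ⧸ NA t)} := by
    refine Nat.card_le_card_of_injective (fun u => ⟨((u : G) : G ⧸ NA t), fun h => u.2.2 ?_⟩) ?_
    · have := QuotientGroup.eq.1 h
      rw [mul_one] at this
      simpa using (NA t).inv_mem this
    · intro u w huw
      have h := QuotientGroup.eq.1 (congrArg Subtype.val huw)
      rw [inv_of_order_two u.2.1] at h
      exact Subtype.ext (hcoset _ _ u.2.2 u.2.1 w.2.1 h)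
  have h2 : Nat.card {q : G ⧸ NA t // q ≠ ((1 : G) : G ⧸ NA t)} + 1 = (NA t).index := by
    classical
    haveI := Fintype.ofFinite (G ⧸ NA t)
    rw [Subgroup.index, Nat.card_eq_fintype_card, Nat.card_eq_fintype_card,
      Fintype.card_subtype_compl, Fintype.card_subtype_eq]
    have : 0 < Fintype.card (G ⧸ NA t) := Fintype.card_pos
    omega
  have h3 : 1 < (NA t).index := by
    rcases Nat.lt_or_ge 1 (NA t).index with h | h
    · exact h
    · exact absurd (Subgroup.index_eq_one.1 (le_antisymm h (Nat.pos_of_ne_zero Subgroup.index_ne_zero_of_finite)))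
        (M_ne_top hE ht)
  have h4 := card_outside hE ht
  have h5 := hp.two_le
  nlinarith [h1, h2, h3, h4, h5]

theorem pow_pp_eq_one {y : G} (hy : y ∈ NA t) (hyA : y ∉ CA t) : y ^ pp t = 1 :=
  fpf hE ht hy hyA (pow_pp_mem hE ht hy) (Commute.self_pow y _).eq

theorem orderOf_outside {y : G} (hy : y ∈ NA t) (hyA : y ∉ CA t) : orderOf y = pp t :=
  have := Fact.mk (pp_prime hE ht)
  orderOf_eq_prime (pow_pp_eq_one hE ht hy hyA) fun e => hyA (e ▸ one_mem _)

theorem centralizer_A {a : G} (ha : a ∈ CA t) (ha1 : a ≠ 1) :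
    Subgroup.centralizer ({a} : Set G) = CA t :=
  eq_A_of_inf hE ht (fun x hx => Subgroup.mem_centralizer_singleton_iff.2 (A_ab hE ht x hx a ha))
    fun y hy hyM => by
      by_contra hyA
      exact ha1 (fpf hE ht hyM hyA ha (Subgroup.mem_centralizer_singleton_iff.1 hy))

theorem ti {a g : G} (ha : a ∈ CA t) (ha1 : a ≠ 1) (hga : g * a * g⁻¹ ∈ CA t) : g ∈ NA t :=
  ti_of_fpf hE ht ha hga fun y hy hyA h => ha1 (by
    exact conj_eq_one_iff.1 (fpf hE ht hy hyA hga h))

end Cfsg.Agent.Solv.SelfNorm
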