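import Mathlib
import Cfsg.Agent.Lib.Solv.SelfNormalizingFree

/-!
Even non-abelian subgroups of groups resembling two-dimensional linear groups of even degree with
prime torus are self-normalizing.
-/

set_option autoImplicit false
set_option linter.style.haveILetI false

open scoped Pointwise commutatorElement

namespace Cfsg.Agent.Solv.SelfNorm

universe u

/-- The facts about the linear group that are used. -/
structure Model (P : Type u) [Group P] [Finite P] (p : ℕ) : Prop where
  prime : p.Prime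
  odd : p ≠ 2
  trans : ∀ a b c : P, b ≠ 1 → a * b = b * a → b * c = c * b → a * c = c * a
  card : Nat.card P = (p + 1) * p * (p + 2)
  cardA : ∀ t : P, orderOf t = 2 → Nat.card (CA t) = p + 1
  sq : ∀ t : P, orderOf t = 2 → ∀ x ∈ CA t, x ^ 2 = 1
  cardM : ∀ t : P, orderOf t = 2 → (p + 1) * p ≤ Nat.card (NA t)

variable {P : Type u} [Group P] [Finite P] {p : ℕ} (hX : Model P p)

include hX

theorem Model.cent_eq {t a : P} (ht : orderOf t = 2) (ha : a ∈ CA t) (ha1 : a ≠ 1) :
    CA a = CA t := by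
  have ht1 : t ≠ 1 := fun e => by rw [e, orderOf_one] at ht; omega
  rw [Subgroup.mem_centralizer_singleton_iff] at ha
  ext x
  rw [Subgroup.mem_centralizer_singleton_iff, Subgroup.mem_centralizer_singleton_iff]
  exact ⟨fun h => hX.trans x a t ha1 h ha, fun h => hX.trans x t a ht1 h ha.symm⟩

theorem Model.order_two {t a : P} (ht : orderOf t = 2) (ha : a ∈ CA t) (ha1 : a ≠ 1) :
    orderOf a = 2 := orderOf_eq_prime (hX.sq t ht a ha) ha1

theorem Model.A_ab {t : P} (ht : orderOf t = 2) : Ab (CA t) := fun a ha b hb =>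
  hX.trans a t b (fun e => by rw [e, orderOf_one] at ht; omega)
    (Subgroup.mem_centralizer_singleton_iff.1 ha) (Subgroup.mem_centralizer_singleton_iff.1 hb).symm

theorem Model.ti {t a g : P} (ht : orderOf t = 2) (ha : a ∈ CA t) (ha1 : a ≠ 1)
    (hga : g * a * g⁻¹ ∈ CA t) : g ∈ NA t := by
  have h1 := hX.cent_eq ht hga (fun e => ha1 (conj_eq_one_iff.1 e))
  change Subgroup.centralizer ({g * a * g⁻¹} : Set P) = _ at h1
  rw [centralizer_conj] at h1
  change MulAut.conj g • CA a = _ at h1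
  rw [hX.cent_eq ht ha ha1] at h1
  exact Solv.mem_normalizer_of_conj_smul h1

theorem Model.index_eq {t : P} (ht : orderOf t = 2) :
    ((CA t).subgroupOf (NA t)).index = p ∧ Nat.card (NA t) = (p + 1) * p := by
  have h1 := ((CA t).subgroupOf (NA t)).card_mul_index
  rw [Nat.card_congr (Subgroup.subgroupOfEquivOfLe (Subgroup.le_normalizer (H := CA t))).toEquiv,
    hX.cardA t ht] at h1
  have h2 := hX.cardM t ht
  have h3 : ((CA t).subgroupOf (NA t)).index ≤ p := by
    rw [Subgroup.index_eq_card]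
    have hc : Nat.card {a : CA t // a ≠ 1} = p := by
      classical
      haveI := Fintype.ofFinite (CA t)
      rw [Nat.card_eq_fintype_card, Fintype.card_subtype_compl, Fintype.card_subtype_eq,
        ← Nat.card_eq_fintype_card, hX.cardA t ht, Nat.add_sub_cancel]
    rw [← hc]
    refine Nat.card_le_card_of_injective (Quotient.lift (fun m : NA t =>
      (⟨⟨(m : P) * t * (m : P)⁻¹, (Subgroup.mem_normalizer_iff.1 m.2 t).1 mem_CA_self⟩, fun e => by
        have h0 : t = 1 := conj_eq_one_iff.1 (congrArg Subtype.val e : (m : P) * t * (m : P)⁻¹ = 1)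
        rw [h0, orderOf_one] at ht; omega⟩ : {a : CA t // a ≠ 1})) ?_) ?_
    · intro a b hab
      have h := Subgroup.mem_centralizer_singleton_iff.1
        (Subgroup.mem_subgroupOf.1 (QuotientGroup.leftRel_apply.1 hab))
      simp only [Subgroup.coe_mul, InvMemClass.coe_inv] at h
      refine Subtype.ext (Subtype.ext ?_)
      calc (a : P) * t * (a : P)⁻¹ = a * (t * ((a : P)⁻¹ * b)) * (b : P)⁻¹ := by group
        _ = a * ((a : P)⁻¹ * b * t) * (b : P)⁻¹ := by rw [h]
        _ = b * t * (b : P)⁻¹ := by group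
    · intro x y hxy
      induction x using QuotientGroup.induction_on with
      | _ a =>
        induction y using QuotientGroup.induction_on with
        | _ b =>
          have e : (a : P) * t * (a : P)⁻¹ = b * t * (b : P)⁻¹ :=
            congrArg (fun z : {a : CA t // a ≠ 1} => (z.1 : P)) hxy
          refine QuotientGroup.eq.2 (Subgroup.mem_subgroupOf.2
            (Subgroup.mem_centralizer_singleton_iff.2 ?_))
          simp only [Subgroup.coe_mul, InvMemClass.coe_inv]
          calc (a : P)⁻¹ * b * t = (a : P)⁻¹ * (b * t * (b : P)⁻¹) * b := by group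
            _ = (a : P)⁻¹ * (a * t * (a : P)⁻¹) * b := by rw [e]
            _ = t * ((a : P)⁻¹ * b) := by group
  have h4 : p ≤ ((CA t).subgroupOf (NA t)).index :=
    Nat.le_of_mul_le_mul_left (h1.symm ▸ h2) (Nat.succ_pos p)
  have h5 := le_antisymm h3 h4
  exact ⟨h5, by rw [← h1, h5]⟩

theorem Model.outside {t y : P} (ht : orderOf t = 2) (hy : y ∈ NA t) (hyA : y ∉ CA t) :
    orderOf y = p := by
  haveI := Fact.mk hX.prime
  haveI : ((CA t).subgroupOf (NA t)).Normal := Subgroup.normal_in_normalizer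
  refine orderOf_eq_prime ?_ fun e => hyA (e ▸ one_mem _)
  by_contra hne
  have h1 : y ^ p ∈ CA t := by
    have := Subgroup.pow_index_mem ((CA t).subgroupOf (NA t)) (⟨y, hy⟩ : NA t)
    rw [(hX.index_eq ht).1] at this
    exact this
  refine hyA ?_
  rw [← hX.cent_eq ht h1 hne]
  exact Subgroup.mem_centralizer_singleton_iff.2 (Commute.self_pow y p).eq

theorem Model.mem_A_of_sq {t x : P} (ht : orderOf t = 2) (hx : x ∈ NA t) (hx2 : x ^ 2 = 1) :
    x ∈ CA t := by
  by_contra h
  have h1 : orderOf x ∣ 2 := orderOf_dvd_of_pow_eq_one hx2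
  rw [hX.outside ht hx h] at h1
  exact hX.odd ((Nat.prime_dvd_prime_iff_eq hX.prime Nat.prime_two).1 h1)

omit hX in
/-- An involution fixing only the identity of a normalized subgroup of odd order inverts it. -/
theorem inverts {O : Subgroup P} (hodd : Odd (Nat.card O)) {v : P} (hv : v * v = 1)
    (hvO : ∀ o ∈ O, v * o * v ∈ O) (hfix : ∀ o ∈ O, v * o = o * v → o = 1) :
    ∀ o ∈ O, v * o * v = o⁻¹ := by
  have hinv : v⁻¹ = v := inv_eq_of_mul_eq_one_right hv
  let f : O → O := fun o => ⟨(o : P)⁻¹ * (v * o * v), O.mul_mem (O.inv_mem o.2) (hvO _ o.2)⟩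
  have hf : Function.Injective f := by
    intro a b hab
    have e : (a : P)⁻¹ * (v * a * v) = (b : P)⁻¹ * (v * b * v) := congrArg Subtype.val hab
    have h1 : v * ((b : P) * (a : P)⁻¹) = (b : P) * (a : P)⁻¹ * v := by
      have h2 : (b : P) * (a : P)⁻¹ = v * b * v * (v * a * v)⁻¹ := by
        calc (b : P) * (a : P)⁻¹ = b * ((a : P)⁻¹ * (v * a * v)) * (v * a * v)⁻¹ := by group
          _ = b * ((b : P)⁻¹ * (v * b * v)) * (v * a * v)⁻¹ := by rw [e]
          _ = _ := by group
      calc v * ((b : P) * (a : P)⁻¹) = v * (b * (a : P)⁻¹) * (v * v) := by rw [hv, mul_one]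
        _ = v * b * v * (v * a * v)⁻¹ * v := by
            rw [_root_.mul_inv_rev, _root_.mul_inv_rev, hinv]
            calc v * (↑b * (↑a : P)⁻¹) * (v * v) = v * b * (1 * ((a : P)⁻¹ * v * v)) := by group
              _ = v * b * (v * v * ((a : P)⁻¹ * v * v)) := by rw [hv]
              _ = _ := by group
        _ = _ := by rw [← h2]
    have := hfix _ (O.mul_mem b.2 (O.inv_mem a.2)) h1
    exact Subtype.ext (mul_inv_eq_one.1 this).symm
  intro o ho
  obtain ⟨d, hd⟩ := (Finite.injective_iff_surjective.1 hf) ⟨o, ho⟩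
  have e : (d : P)⁻¹ * (v * d * v) = o := congrArg Subtype.val hd
  rw [← e, _root_.mul_inv_rev, inv_inv, _root_.mul_inv_rev, _root_.mul_inv_rev, hinv]
  calc v * ((d : P)⁻¹ * (v * d * v)) * v = v * (d : P)⁻¹ * v * d * (v * v) := by group
    _ = _ := by rw [hv, mul_one]; group

theorem Model.one_le_involution {t : P} (ht : orderOf t = 2) {o : P} {O : Subgroup P}
    (hodd : Odd (Nat.card O)) (ho : o ∈ O) {a : P} (ha : a ∈ CA t) (ha1 : a ≠ 1)
    (hao : a * o = o * a) : o = 1 := by
  have hoA : o ∈ CA t := by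
    rw [← hX.cent_eq ht ha ha1]
    exact Subgroup.mem_centralizer_singleton_iff.2 hao.symm
  have h1 : orderOf o ∣ 2 := orderOf_dvd_of_pow_eq_one (hX.sq t ht o hoA)
  have h2 : orderOf o ∣ Nat.card O := by
    have := orderOf_dvd_natCard (⟨o, ho⟩ : O); rwa [Subgroup.orderOf_mk] at this
  rcases (Nat.dvd_prime Nat.prime_two).1 h1 with h | h
  · exact orderOf_eq_one_iff.1 h
  · rw [h] at h2
    exact absurd h2 hodd.not_two_dvd_nat

/-- A four group in `A` cannot act on a nontrivial subgroup of odd order. -/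
theorem Model.no_four {t : P} (ht : orderOf t = 2) {O : Subgroup P} (hodd : Odd (Nat.card O))
    {a b : P} (ha : a ∈ CA t) (hb : b ∈ CA t) (ha1 : a ≠ 1) (hb1 : b ≠ 1) (hab : a ≠ b)
    (haO : ∀ o ∈ O, a * o * a ∈ O) (hbO : ∀ o ∈ O, b * o * b ∈ O) : O = ⊥ := by
  have sq : ∀ x ∈ CA t, x * x = 1 := fun x hx => by rw [← pow_two]; exact hX.sq t ht x hx
  have hinva := inverts hodd (sq a ha) haO fun o ho h => hX.one_le_involution ht hodd ho ha ha1 h
  have hinvb := inverts hodd (sq b hb) hbO fun o ho h => hX.one_le_involution ht hodd ho hb hb1 h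
  have hab1 : a * b ≠ 1 := fun e => hab (by
    calc a = a * (b * b) := by rw [sq b hb, mul_one]
      _ = b := by rw [← mul_assoc, e, one_mul])
  refine (Subgroup.eq_bot_iff_forall _).2 fun o ho => ?_
  refine hX.one_le_involution ht hodd ho ((CA t).mul_mem ha hb) hab1 ?_
  have h1 : a * (b * o * b) * a = o := by rw [hinvb o ho, hinva _ (O.inv_mem ho), inv_inv]
  calc a * b * o = a * (b * o * b) * a * (a⁻¹ * b⁻¹) := by group
    _ = o * (a * b) := by
        rw [h1, inv_eq_of_mul_eq_one_right (sq a ha), inv_eq_of_mul_eq_one_right (sq b hb)]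

/-- Case of a subgroup meeting `M` outside `A`. -/
theorem Model.big {t y : P} (ht : orderOf t = 2) {H : Subgroup P} (htH : t ∈ H) (hyH : y ∈ H)
    (hy : y ∈ NA t) (hyA : y ∉ CA t) : Subgroup.normalizer (H : Set P) = H := by
  classical
  have hp := hX.prime
  have ht1 : t ≠ 1 := fun e => by rw [e, orderOf_one] at ht; omega
  have hAH : CA t ≤ H := by
    intro a ha
    by_cases ha1 : a = 1
    · rw [ha1]; exact H.one_mem
    have hc : Nat.card {a : CA t // a ≠ 1} = p := by
      haveI := Fintype.ofFinite (CA t)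
      rw [Nat.card_eq_fintype_card, Fintype.card_subtype_compl, Fintype.card_subtype_eq,
        ← Nat.card_eq_fintype_card, hX.cardA t ht, Nat.add_sub_cancel]
    have hb : Function.Bijective (fun i : Fin p =>
        (⟨⟨y ^ (i : ℕ) * t * (y ^ (i : ℕ))⁻¹,
          (Subgroup.mem_normalizer_iff.1 ((NA t).pow_mem hy i) t).1 mem_CA_self⟩, fun e =>
          ht1 (conj_eq_one_iff.1 (congrArg Subtype.val e : y ^ (i : ℕ) * t * (y ^ (i : ℕ))⁻¹ = 1))⟩ :
          {a : CA t // a ≠ 1})) := by
      refine (Nat.bijective_iff_injective_and_card _).2 ⟨?_, by rw [hc, Nat.card_fin]⟩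
      intro i j h
      have e : y ^ (i : ℕ) * t * (y ^ (i : ℕ))⁻¹ = y ^ (j : ℕ) * t * (y ^ (j : ℕ))⁻¹ :=
        congrArg (fun z : {a : CA t // a ≠ 1} => (z.1 : P)) h
      have hz : (y ^ (j : ℕ))⁻¹ * y ^ (i : ℕ) ∈ CA t := by
        refine Subgroup.mem_centralizer_singleton_iff.2 ?_
        calc (y ^ (j : ℕ))⁻¹ * y ^ (i : ℕ) * t
            = (y ^ (j : ℕ))⁻¹ * (y ^ (i : ℕ) * t * (y ^ (i : ℕ))⁻¹) * y ^ (i : ℕ) := by group
          _ = (y ^ (j : ℕ))⁻¹ * (y ^ (j : ℕ) * t * (y ^ (j : ℕ))⁻¹) * y ^ (i : ℕ) := by rw [e]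
          _ = t * ((y ^ (j : ℕ))⁻¹ * y ^ (i : ℕ)) := by group
      refine Fin.ext (by_contra fun hne => hyA ?_)
      have hz' : y ^ ((i : ℤ) - (j : ℤ)) ∈ CA t := by
        rw [show y ^ ((i : ℤ) - (j : ℤ)) = (y ^ (j : ℕ))⁻¹ * y ^ (i : ℕ) by
          rw [← zpow_natCast, ← zpow_natCast, ← zpow_neg, ← zpow_add]; congr 1; ring]
        exact hz
      have hyo := hX.outside ht hy hyA
      have hco : Int.gcd ((i : ℤ) - (j : ℤ)) p = 1 := by
        have hlt : (((i : ℤ) - (j : ℤ)).natAbs) < p := by have := i.2; have := j.2; omega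
        have hpos : 0 < (((i : ℤ) - (j : ℤ)).natAbs) := by omega
        rw [Int.gcd_eq_natAbs_gcd_natAbs, Int.natAbs_natCast]
        exact (hp.coprime_iff_not_dvd.2 (fun hd => absurd (Nat.le_of_dvd hpos hd) (not_le.2 hlt))).symm
      have hb : y = (y ^ ((i : ℤ) - (j : ℤ))) ^ Int.gcdA ((i : ℤ) - (j : ℤ)) p := by
        have hbez := Int.gcd_eq_gcd_ab ((i : ℤ) - (j : ℤ)) p
        rw [hco, Nat.cast_one] at hbez
        rw [← zpow_mul]
        have hyp : y ^ (p : ℤ) = 1 := by
          rw [zpow_natCast]; exact orderOf_dvd_iff_pow_eq_one.1 hyo.dvd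
        conv_lhs => rw [← zpow_one y, hbez, zpow_add, zpow_mul y (p : ℤ), hyp, one_zpow, mul_one]
      rw [hb]
      exact (CA t).zpow_mem hz' _
    obtain ⟨i, hi⟩ := hb.2 ⟨⟨a, ha⟩, fun e => ha1 (congrArg Subtype.val e)⟩
    have e : y ^ (i : ℕ) * t * (y ^ (i : ℕ))⁻¹ = a :=
      congrArg (fun z : {a : CA t // a ≠ 1} => (z.1 : P)) hi
    rw [← e]
    exact H.mul_mem (H.mul_mem (H.pow_mem hyH i) htH) (H.inv_mem (H.pow_mem hyH i))
  have hMH : NA t ≤ H := by
    haveI hAn : ((CA t).subgroupOf (NA t)).Normal := Subgroup.normal_in_normalizer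
    have h1 : NA t = H ⊓ NA t := by
      refine (Subgroup.eq_of_le_of_card_ge inf_le_right ?_).symm
      rw [(hX.index_eq ht).2]
      have h2 : p + 1 ∣ Nat.card ↥(H ⊓ NA t) :=
        hX.cardA t ht ▸ Subgroup.card_dvd_of_le (le_inf hAH Subgroup.le_normalizer)
      have h3 : p ∣ Nat.card ↥(H ⊓ NA t) := by
        have := orderOf_dvd_natCard (⟨y, ⟨hyH, hy⟩⟩ : ↥(H ⊓ NA t))
        rwa [← Subgroup.orderOf_coe, hX.outside ht hy hyA] at this
      refine Nat.le_of_dvd Nat.card_pos (Nat.Coprime.mul_dvd_of_dvd_of_dvd ?_ h2 h3)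
      rw [Nat.coprime_comm, hp.coprime_iff_not_dvd]
      intro h
      have := Nat.dvd_one.1 ((Nat.dvd_add_right (dvd_refl p)).1 h)
      exact hp.ne_one this
    rw [h1]; exact inf_le_left
  by_cases hHM : H ≤ NA t
  · have hHeq : H = NA t := le_antisymm hHM hMH
    subst hHeq
    refine le_antisymm (fun g hg => ?_) Subgroup.le_normalizer
    refine hX.ti ht mem_CA_self ht1 (hX.mem_A_of_sq ht
      ((Subgroup.mem_normalizer_iff.1 hg t).1 htH) ?_)
    rw [conj_pow, hX.sq t ht t mem_CA_self, mul_one, mul_inv_cancel]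
  · obtain ⟨h, hh, hhM⟩ := SetLike.not_le_iff_exists.1 hHM
    set MH := (NA t).subgroupOf H
    -- `A` moves `h MH` freely
    have hcount : p + 2 ≤ MH.index := by
      rw [Subgroup.index_eq_card]
      have hb : Function.Injective (Sum.elim (fun a : CA t =>
          ((⟨(a : P) * h, H.mul_mem (hAH a.2) hh⟩ : H) : H ⧸ MH))
          (fun _ : Unit => ((1 : H) : H ⧸ MH))) := by
        have hne : ∀ a : CA t, ((⟨(a : P) * h, H.mul_mem (hAH a.2) hh⟩ : H) : H ⧸ MH) ≠
            ((1 : H) : H ⧸ MH) := by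
          intro a e
          have := Subgroup.mem_subgroupOf.1 (QuotientGroup.eq.1 e)
          simp only [mul_one, InvMemClass.coe_inv] at this
          have h2 := (NA t).mul_mem ((NA t).inv_mem (Subgroup.le_normalizer a.2)) ((NA t).inv_mem this)
          simp only [inv_inv, inv_mul_cancel_left] at h2
          exact hhM h2
        rintro (a | _) (b | _) e
        · simp only [Sum.elim_inl] at e
          have h2 := Subgroup.mem_subgroupOf.1 (QuotientGroup.eq.1 e)
          simp only [Subgroup.coe_mul, InvMemClass.coe_inv] at h2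
          rw [show ((a : P) * h)⁻¹ * (b * h) = h⁻¹ * ((a : P)⁻¹ * b) * h⁻¹⁻¹ by group] at h2
          by_contra hne'
          have hab1 : (a : P)⁻¹ * b ≠ 1 := fun e1 => hne' (by
            rw [Subtype.ext (inv_mul_eq_one.1 e1)])
          have hmem : (a : P)⁻¹ * b ∈ CA t := (CA t).mul_mem ((CA t).inv_mem a.2) b.2
          have h3 : h⁻¹ * ((a : P)⁻¹ * b) * h⁻¹⁻¹ ∈ CA t := hX.mem_A_of_sq ht h2 (by
            rw [conj_pow, hX.sq t ht _ hmem, mul_one, mul_inv_cancel])
          exact hhM (by simpa using (NA t).inv_mem (hX.ti ht hmem hab1 h3))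
        · exact absurd e (hne a)
        · exact absurd e.symm (hne b)
        · rfl
      have h1 := Nat.card_le_card_of_injective _ hb
      rwa [Nat.card_sum, hX.cardA t ht, Nat.card_unique] at h1
    have htop : H = ⊤ := by
      refine Subgroup.eq_top_of_le_card _ ?_
      rw [hX.card, ← MH.card_mul_index,
        Nat.card_congr (Subgroup.subgroupOfEquivOfLe hMH).toEquiv, (hX.index_eq ht).2]
      exact Nat.mul_le_mul_left _ hcount
    rw [htop, Subgroup.normalizer_eq_top]

/-- Case of a subgroup meeting `M` inside `A`. -/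
theorem Model.small {t : P} (ht : orderOf t = 2) {H : Subgroup P} (htH : t ∈ H)
    (hHM : ∀ y ∈ H, y ∈ NA t → y ∈ CA t) (hna : ¬ Ab H) :
    Subgroup.normalizer (H : Set P) = H := by
  classical
  haveI : Fact (Nat.Prime 2) := ⟨Nat.prime_two⟩
  have ht1 : t ≠ 1 := fun e => by rw [e, orderOf_one] at ht; omega
  set T := (CA t).subgroupOf H with hT
  have hTsq : ∀ x : H, x ∈ T → x ^ 2 = 1 := fun x hx => Subtype.ext (hX.sq t ht _ hx)
  have hTp : IsPGroup 2 T := fun x => ⟨1, Subtype.ext (by rw [pow_one]; exact hTsq x x.2)⟩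
  have hNT : Subgroup.normalizer (T : Set H) = T := by
    refine le_antisymm (fun x hx => ?_) Subgroup.le_normalizer
    exact hHM x x.2 (hX.ti ht mem_CA_self ht1
      ((Subgroup.mem_normalizer_iff.1 hx ⟨t, htH⟩).1 mem_CA_self))
  obtain ⟨S, hS⟩ := hTp.exists_le_sylow
  have hST : (S : Subgroup H) = T := by
    refine le_antisymm ?_ hS
    by_contra hle
    have hlt : T.subgroupOf S < ⊤ := lt_top_iff_ne_top.2 fun e => hle (Subgroup.subgroupOf_eq_top.1 e)
    haveI : Group.IsNilpotent (S : Subgroup H) := S.isPGroup'.isNilpotent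
    have := Group.normalizerCondition_of_isNilpotent (G := (S : Subgroup H)) _ hlt
    obtain ⟨⟨x, hxS⟩, hx, hxn⟩ := SetLike.exists_of_lt this
    refine hxn (Subgroup.mem_subgroupOf.2 ?_)
    rw [← hNT]
    refine Subgroup.mem_normalizer_iff.2 fun z => ?_
    constructor
    · intro hz
      exact Subgroup.mem_subgroupOf.1 ((Subgroup.mem_normalizer_iff.1 hx ⟨z, hS hz⟩).1
        (Subgroup.mem_subgroupOf.2 hz))
    · intro hz
      have hzS : z ∈ (S : Subgroup H) := by
        have := (S : Subgroup H).mul_mem ((S : Subgroup H).mul_mem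
          ((S : Subgroup H).inv_mem hxS) (hS hz)) hxS
        simpa [mul_assoc] using this
      exact Subgroup.mem_subgroupOf.1 ((Subgroup.mem_normalizer_iff.1 hx ⟨z, hzS⟩).2
        (Subgroup.mem_subgroupOf.2 hz))
  have hTab : ∀ a ∈ T, ∀ b ∈ T, a * b = b * a := fun a ha b hb =>
    Subtype.ext (hX.A_ab ht _ ha _ hb)
  have hle : Subgroup.normalizer ((S : Subgroup H) : Set H) ≤
      Subgroup.centralizer ((S : Subgroup H) : Set H) := fun x hx => by
    rw [hST] at hx ⊢
    rw [hNT] at hx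
    exact Subgroup.mem_centralizer_iff.2 fun z hz => hTab z hz x hx
  obtain ⟨K, hKn, hKc⟩ : ∃ K : Subgroup H, K.Normal ∧
      Subgroup.IsComplement' K (S : Subgroup H) :=
    ⟨_, MonoidHom.normal_ker _, MonoidHom.ker_transferSylow_isComplement' S hle⟩
  set O := K.map H.subtype with hO
  have hOH : O ≤ H := Subgroup.map_subtype_le _
  have hOn : ∀ h ∈ H, ∀ o ∈ O, h * o * h⁻¹ ∈ O := by
    intro h hh o ho
    obtain ⟨k, hk, rfl⟩ := ho
    exact ⟨⟨h, hh⟩ * k * (⟨h, hh⟩ : H)⁻¹,
      hKn.conj_mem k hk _, by simp⟩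
  have hcardO : Nat.card O = (S : Subgroup H).index := by
    rw [hO, Solv.card_map_subtype, ← Nat.mul_left_inj (Nat.card_pos (α := (S : Subgroup H))).ne',
      hKc.card_mul_card, mul_comm, Subgroup.card_mul_index]
  have hodd : Odd (Nat.card O) := by
    rw [hcardO, ← Nat.not_even_iff_odd, even_iff_two_dvd]
    exact S.not_dvd_index
  have hdecomp : ∀ h ∈ H, ∃ o ∈ O, ∃ s ∈ H, s ∈ CA t ∧ h = o * s := by
    intro h hh
    obtain ⟨⟨⟨k, hk⟩, ⟨s, hs⟩⟩, hks⟩ := hKc.2 (⟨h, hh⟩ : H)
    rw [hST] at hs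
    exact ⟨k, Subgroup.mem_map_of_mem _ hk, s, s.2, hs, (congrArg Subtype.val hks).symm⟩
  have hOne : O ≠ ⊥ := by
    intro e
    refine hna fun a ha b hb => ?_
    obtain ⟨oa, hoa, sa, -, hsa, rfl⟩ := hdecomp a ha
    obtain ⟨ob, hob, sb, -, hsb, rfl⟩ := hdecomp b hb
    rw [e, Subgroup.mem_bot] at hoa hob
    rw [hoa, hob, one_mul, one_mul]
    exact hX.A_ab ht _ hsa _ hsb
  have hinv' : ∀ x : P, x ∈ CA t → x⁻¹ = x := fun x hx =>
    inv_eq_of_mul_eq_one_right (by rw [← pow_two]; exact hX.sq t ht x hx)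
  have hnorm : ∀ x ∈ H, x ∈ CA t → ∀ o ∈ O, x * o * x ∈ O := fun x hxH hxA o ho => by
    have := hOn x hxH o ho
    rwa [hinv' x hxA] at this
  have hTtwo : ∀ s ∈ H, s ∈ CA t → s = 1 ∨ s = t := by
    intro s hsH hsA
    by_contra hs
    push Not at hs
    exact hOne (hX.no_four ht hodd mem_CA_self hsA ht1 hs.1 (Ne.symm hs.2)
      (hnorm t htH mem_CA_self) (hnorm s hsH hsA))
  have htinv := inverts hodd (by rw [← pow_two]; exact hX.sq t ht t mem_CA_self)
    (hnorm t htH mem_CA_self)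
    fun o ho h => hX.one_le_involution ht hodd ho mem_CA_self ht1 h
  -- elements of `H` of odd order are in `O`
  have hodd_mem : ∀ h ∈ H, Odd (orderOf h) → h ∈ O := by
    intro h hh ho
    obtain ⟨o, hoO, s, hsH, hs, rfl⟩ := hdecomp h hh
    rcases hTtwo s hsH hs with rfl | rfl
    · rwa [mul_one]
    · exfalso
      have h2 : (o * s) ^ 2 = 1 := by
        rw [pow_two, mul_assoc, ← mul_assoc s o s, htinv o hoO, mul_inv_cancel]
      rcases (Nat.dvd_prime Nat.prime_two).1 (orderOf_dvd_of_pow_eq_one h2) with h1 | h1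
      · refine ht1 ?_
        have e := orderOf_eq_one_iff.1 h1
        have hto : s = o⁻¹ := eq_inv_of_mul_eq_one_right e
        exact hX.one_le_involution ht hodd (by rw [hto]; exact O.inv_mem hoO) mem_CA_self ht1 rfl
      · rw [h1] at ho
        exact absurd ho (by decide)
  refine le_antisymm (fun g hg => ?_) Subgroup.le_normalizer
  have hgt : g * t * g⁻¹ ∈ H := (Subgroup.mem_normalizer_iff.1 hg t).1 htH
  obtain ⟨o, hoO, s, hsH, hs, hgo⟩ := hdecomp _ hgt
  have hst : s = t := by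
    rcases hTtwo s hsH hs with rfl | h
    · exfalso
      rw [mul_one] at hgo
      have h1 : orderOf o ∣ Nat.card O := by
        have := orderOf_dvd_natCard (⟨o, hoO⟩ : O); rwa [Subgroup.orderOf_mk] at this
      rw [← hgo, orderOf_conj, ht] at h1
      exact hodd.not_two_dvd_nat h1
    · exact h
  subst hst
  obtain ⟨d, hd, hd2⟩ : ∃ d ∈ O, d ^ 2 = o := by
    obtain ⟨c, hc⟩ := (powCoprime (G := O) (n := 2)
      (Nat.coprime_two_right.2 hodd)).surjective ⟨o, hoO⟩
    exact ⟨c, c.2, congrArg Subtype.val hc⟩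
  set x := d⁻¹ * g with hx
  have hxN : x ∈ Subgroup.normalizer (H : Set P) :=
    mul_mem (inv_mem (Subgroup.le_normalizer (hOH hd))) hg
  have hxt : x ∈ CA s := by
    refine Subgroup.mem_centralizer_singleton_iff.2 ?_
    have e : d * s * d⁻¹ = o * s := by
      have h1 := htinv d⁻¹ (O.inv_mem hd)
      rw [inv_inv] at h1
      have hss : s * s = 1 := by rw [← pow_two]; exact hX.sq s ht s mem_CA_self
      calc d * s * d⁻¹ = d * (s * d⁻¹ * (s * s)) := by rw [hss]; group
        _ = d * (s * d⁻¹ * s) * s := by group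
        _ = o * s := by rw [h1, ← pow_two, hd2]
    calc x * s = d⁻¹ * (g * s * g⁻¹) * g := by rw [hx]; group
      _ = d⁻¹ * (d * s * d⁻¹) * g := by rw [hgo, e]
      _ = s * x := by rw [hx]; group
  by_cases hxH : x ∈ H
  · have := H.mul_mem (hOH hd) hxH
    rwa [hx, mul_inv_cancel_left] at this
  exfalso
  refine hOne (hX.no_four ht hodd mem_CA_self hxt ht1 (fun e => hxH (e ▸ H.one_mem))
    (fun e => hxH (e ▸ htH)) (hnorm s htH mem_CA_self) fun c hc => ?_)
  refine hodd_mem _ ?_ ?_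
  · have := (Subgroup.mem_normalizer_iff.1 hxN c).1 (hOH hc)
    rwa [hinv' x hxt] at this
  · have h1 : orderOf (x * c * x) = orderOf c := by
      conv_lhs => arg 1; arg 2; rw [← hinv' x hxt]
      exact orderOf_conj x c
    rw [h1]
    refine hodd.of_dvd_nat ?_
    have := orderOf_dvd_natCard (⟨c, hc⟩ : O); rwa [Subgroup.orderOf_mk] at this

theorem Model.even_sn (H : Subgroup P) (hna : ¬ Ab H) (h2 : 2 ∣ Nat.card H) :
    Subgroup.normalizer (H : Set P) = H := by
  haveI : Fact (Nat.Prime 2) := ⟨Nat.prime_two⟩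
  obtain ⟨⟨t, htH⟩, ht⟩ := exists_prime_orderOf_dvd_card' 2 h2
  rw [Subgroup.orderOf_mk] at ht
  by_cases h : ∃ y ∈ H, y ∈ NA t ∧ y ∉ CA t
  · obtain ⟨y, hyH, hy, hyA⟩ := h
    exact hX.big ht htH hyH hy hyA
  · push Not at h
    exact hX.small ht htH h hna

end Cfsg.Agent.Solv.SelfNorm
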