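import Mathlib
import Cfsg.Agent.Lib.Solv.SelfNormalizingModel
import Cfsg.Agent.Lib.Small.PSL2
import Cfsg.Agent.Lib.Classical.Dickson.Tools
import Cfsg.Agent.S0799
import Cfsg.Agent.S4065

/-!
In `PSL₂(2ⁿ)`, `2ⁿ − 1` prime, non-abelian subgroups are self-normalizing.
-/

set_option autoImplicit false
set_option linter.style.haveILetI false

open scoped Pointwise commutatorElement
open Cfsg.Agent.Small Cfsg.Agent.Classical

namespace Cfsg.Agent.Solv.SelfNorm

variable {n : ℕ}

local notation "K" => GaloisField 2 n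
local notation "P2" => Matrix.ProjectiveSpecialLinearGroup (Fin 2) (GaloisField 2 n)

theorem psl_facts (hn : 2 ≤ n) (hp : (2 ^ n - 1).Prime) :
    ∃ _ : Finite P2, Model P2 (2 ^ n - 1) ∧
      (∀ S : Sylow 2 P2, ∃ t ∈ (S : Subgroup P2), orderOf t = 2 ∧ (S : Subgroup P2) = CA t) := by
  classical
  haveI : Fact (Nat.Prime 2) := ⟨Nat.prime_two⟩
  haveI : Fintype K := Fintype.ofFinite _
  have hq : Fintype.card K = 2 ^ n := by
    rw [← Nat.card_eq_fintype_card, GaloisField.card 2 n (by omega)]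
  haveI hfin : Finite P2 := inferInstance
  have h20 : (2 : K) = 0 := CharTwo.two_eq_zero
  obtain ⟨p, hpdef⟩ : ∃ p, 2 ^ n = p + 1 :=
    ⟨2 ^ n - 1, (Nat.succ_pred_eq_of_pos (Nat.two_pow_pos n)).symm⟩
  rw [hpdef, Nat.add_sub_cancel] at hp ⊢
  have hcard : Nat.card P2 = (p + 1) * p * (p + 2) := by
    have h := Dickson.card_psl K
    rw [Dickson.gcd_eq_one_of_even h20, mul_one, hq, hpdef] at h
    rw [h, show (p + 1) ^ 2 - 1 = p * (p + 2) from Nat.sub_eq_of_eq_add (by ring), mul_assoc]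
  have hp2 : p ≠ 2 := fun e => by
    rw [e] at hpdef
    have : 2 ∣ 2 ^ n := dvd_pow_self 2 (by omega)
    rw [hpdef] at this; omega
  have hUab : ∀ a ∈ (PSL2.U : Subgroup P2), ∀ b ∈ (PSL2.U : Subgroup P2), a * b = b * a := by
    rintro _ ⟨a, rfl⟩ _ ⟨b, rfl⟩
    rw [← map_mul, mul_comm, map_mul]
  have hUsq : ∀ a ∈ (PSL2.U : Subgroup P2), a ^ 2 = 1 := by
    rintro _ ⟨a, rfl⟩
    rw [← map_pow, show a ^ 2 = 1 by
      apply Multiplicative.toAdd.injective
      rw [toAdd_pow, two_nsmul, CharTwo.add_self_eq_zero]; rfl, map_one]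
  have hUc : ∀ x : K, x ≠ 0 → CA (PSL2.pr (PSL2.uS x) : P2) = PSL2.U := by
    intro x hx
    ext g
    rw [Subgroup.mem_centralizer_singleton_iff]
    exact ⟨fun h => PSL2.mem_U_of_commute hx h, fun h => hUab g h _ (PSL2.uS_mem x)⟩
  have hUcard : Nat.card (PSL2.U : Subgroup P2) = p + 1 := by
    have hinj : Function.Injective (PSL2.uP (F := K)) := fun a b h =>
      Multiplicative.toAdd.injective (PSL2.pr_uS_inj (x := a.toAdd) (y := b.toAdd) h)
    have hU : (PSL2.U : Subgroup P2) = (PSL2.uP (F := K)).range := rfl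
    rw [hU, ← Nat.card_congr (MonoidHom.ofInjective hinj).toEquiv]
    calc Nat.card (Multiplicative K) = Nat.card K := Nat.card_congr Multiplicative.toAdd
      _ = p + 1 := by rw [Nat.card_eq_fintype_card, hq, hpdef]
  let S0 : Sylow 2 P2 :=
    { toSubgroup := PSL2.U
      isPGroup' := PSL2.isPGroup_U (f := n) hq
      is_maximal' := fun hQ hle => PSL2.U_maximal hQ hle }
  have hinv : ∀ t : P2, orderOf t = 2 → ∃ (g : P2) (x : K), x ≠ 0 ∧
      t = g * PSL2.pr (PSL2.uS x) * g⁻¹ := by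
    intro t ht
    obtain ⟨S, hS⟩ := (IsPGroup.of_card (n := 1) (by rw [Nat.card_zpowers, ht, pow_one]) :
      IsPGroup 2 (Subgroup.zpowers t)).exists_le_sylow
    obtain ⟨g, hg⟩ := MulAction.exists_smul_eq P2 S0 S
    have htS : t ∈ ((g • S0 : Sylow 2 P2) : Subgroup P2) := hg ▸ hS (Subgroup.mem_zpowers t)
    rw [Sylow.coe_subgroup_smul, Subgroup.mem_pointwise_smul_iff_inv_smul_mem, MulAut.smul_def,
      MulAut.conj_inv_apply] at htS
    obtain ⟨x, hx⟩ := (PSL2.mem_U _).1 htS
    refine ⟨g, x, fun e => ?_, by rw [hx]; group⟩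
    have h1 : g⁻¹ * t * g = 1 := by
      rw [← hx, e]
      exact map_one (PSL2.uP (F := K))
    have ht1 : t = 1 := by
      calc t = g * (g⁻¹ * t * g) * g⁻¹ := by group
        _ = 1 := by rw [h1, mul_one, mul_inv_cancel]
    rw [ht1, orderOf_one] at ht; omega
  have hA : ∀ t : P2, orderOf t = 2 → ∃ g : P2, CA t = MulAut.conj g • (PSL2.U : Subgroup P2) := by
    intro t ht
    obtain ⟨g, x, hx, rfl⟩ := hinv t ht
    refine ⟨g, ?_⟩
    change Subgroup.centralizer ({g * PSL2.pr (PSL2.uS x) * g⁻¹} : Set P2) = _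
    rw [centralizer_conj]
    exact congrArg (MulAut.conj g • ·) (hUc x hx)
  have hX : Model P2 p := by
    refine ⟨hp, hp2, fun a b c => S4065.comm_trans a b c, hcard, ?_, ?_, ?_⟩
    · intro t ht
      obtain ⟨g, hg⟩ := hA t ht
      rw [hg, ← hUcard]
      exact (Nat.card_congr (Subgroup.equivSMul (MulAut.conj g) _).toEquiv).symm
    · intro t ht x hx
      obtain ⟨g, hg⟩ := hA t ht
      rw [hg, Subgroup.mem_pointwise_smul_iff_inv_smul_mem] at hx
      have := hUsq _ hx
      rw [← smul_pow', smul_eq_iff_eq_inv_smul, inv_inv, smul_one] at this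
      exact this
    · intro t ht
      obtain ⟨g, hg⟩ := hA t ht
      have hb : Nat.card (Dickson.borelP K) = (p + 1) * p := by
        have h := Dickson.card_borelP (F := K)
        rw [Dickson.gcd_eq_one_of_even h20, mul_one, hq, hpdef, Nat.add_sub_cancel] at h
        rw [h, mul_comm]
      rw [← hb]
      refine Nat.card_le_card_of_injective (fun m => ⟨g * m.1 * g⁻¹, ?_⟩) ?_
      · show g * m.1 * g⁻¹ ∈ Subgroup.normalizer (CA t : Set P2)
        rw [hg]
        exact mem_normalizer_map (MulAut.conj g).toMonoidHom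
          (Dickson.borelP_le_normalizer m.2)
      · intro a b hab
        exact Subtype.ext (mul_left_cancel (mul_right_cancel (congrArg Subtype.val hab :)))
  refine ⟨hfin, hX, fun S => ?_⟩
  obtain ⟨g, hg⟩ := MulAction.exists_smul_eq P2 S0 S
  have hu : PSL2.pr (PSL2.uS (1 : K)) ≠ 1 := fun e => one_ne_zero (PSL2.pr_uS_inj (e.trans
    (map_one (PSL2.uP (F := K))).symm) : (1 : K) = 0)
  refine ⟨g * PSL2.pr (PSL2.uS 1) * g⁻¹, ?_, ?_, ?_⟩
  · rw [← hg, Sylow.coe_subgroup_smul]
    exact Subgroup.smul_mem_pointwise_smul _ _ _ (PSL2.uS_mem 1)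
  · rw [orderOf_conj]
    exact orderOf_eq_prime (hUsq _ (PSL2.uS_mem 1)) hu
  · rw [← hg, Sylow.coe_subgroup_smul]
    change _ = Subgroup.centralizer ({g * PSL2.pr (PSL2.uS 1) * g⁻¹} : Set P2)
    rw [centralizer_conj]
    exact (congrArg (MulAut.conj g • ·) (hUc 1 one_ne_zero)).symm

theorem psl_sn (hn : 2 ≤ n) (hp : (2 ^ n - 1).Prime) : SN P2 := by
  classical
  obtain ⟨hfin, hX, hS⟩ := psl_facts hn hp
  haveI : Fintype K := Fintype.ofFinite _
  intro H hna
  by_cases h2 : 2 ∣ Nat.card H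
  · exact hX.even_sn H hna h2
  exfalso
  have key : ∀ {C : Type} [Group C], Nonempty (H ≃* C) → 2 ∣ Nat.card C → False :=
    fun ⟨e⟩ h => h2 (Nat.card_congr e.toEquiv ▸ h)
  haveI : Fact (Nat.Prime 2) := ⟨Nat.prime_two⟩
  rcases Cfsg.Agent.S0799.result (F := K) rfl 2 H with
    ⟨k, -, h | h⟩ | ⟨S, L, hL, ⟨e⟩⟩ | h | h | h | ⟨L, _, _, m, -, h⟩
  · obtain ⟨hc, -⟩ := h
    exact hna (ab_of_isCyclic H)
  · exact key h (by rw [DihedralGroup.nat_card]; exact dvd_mul_right 2 k)
  · obtain ⟨t, -, ht, hSA⟩ := hS S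
    have hL2 : ¬ 2 ∣ Nat.card L := fun h => h2 ((Nat.card_congr e.toEquiv).symm ▸ h)
    have hLM : L ≤ NA t := by
      intro x hx
      have := hL hx
      rwa [hSA] at this
    haveI hAn : ((CA t).subgroupOf (NA t)).Normal := Subgroup.normal_in_normalizer
    haveI := Fact.mk hX.prime
    haveI : IsCyclic (NA t ⧸ (CA t).subgroupOf (NA t)) :=
      isCyclic_of_prime_card (p := 2 ^ n - 1)
        (by rw [← Subgroup.index_eq_card, (hX.index_eq ht).1])
    haveI : IsCyclic L := by
      refine isCyclic_of_injective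
        ((QuotientGroup.mk' ((CA t).subgroupOf (NA t))).comp (Subgroup.inclusion hLM)) ?_
      rw [injective_iff_map_eq_one]
      intro x hx
      have hxA : (x : P2) ∈ CA t :=
        Subgroup.mem_subgroupOf.1 ((QuotientGroup.eq_one_iff (Subgroup.inclusion hLM x)).1 hx)
      by_contra hx1
      have hx1' : (x : P2) ≠ 1 := fun h => hx1 (Subtype.ext h)
      have := orderOf_dvd_natCard x
      rw [← Subgroup.orderOf_coe, hX.order_two ht hxA hx1'] at this
      exact hL2 this
    haveI : IsCyclic H := isCyclic_of_surjective e.symm e.symm.surjective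
    exact hna (ab_of_isCyclic H)
  · exact key h (by rw [nat_card_alternatingGroup, Nat.card_eq_fintype_card, Fintype.card_fin]; decide)
  · exact key h (by rw [Nat.card_perm, Nat.card_eq_fintype_card, Fintype.card_fin]; decide)
  · exact key h (by rw [nat_card_alternatingGroup, Nat.card_eq_fintype_card, Fintype.card_fin]; decide)
  · have hev : 2 ∣ Fintype.card L * (Fintype.card L ^ 2 - 1) := by
      rcases Nat.even_or_odd (Fintype.card L) with h | h
      · exact dvd_mul_of_dvd_left h.two_dvd _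
      · refine dvd_mul_of_dvd_right ?_ _
        obtain ⟨j, hj⟩ := h
        exact ⟨2 * (j * j + j), Nat.sub_eq_of_eq_add (by rw [hj]; ring)⟩
    rcases h with h | h
    · refine key h ?_
      have hc := Dickson.card_psl L
      rcases Nat.even_or_odd (Fintype.card L) with he | ho
      · have hg : Nat.gcd 2 (Fintype.card L - 1) = 1 := by
          have h1 : 0 < Fintype.card L := Fintype.card_pos
          rw [← Nat.coprime_iff_gcd_eq_one, Nat.coprime_two_left, Nat.odd_iff]
          obtain ⟨j, hj⟩ := he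
          omega
        rw [hg, mul_one] at hc
        rwa [hc]
      · obtain ⟨j, hj⟩ := ho
        have hg : Nat.gcd 2 (Fintype.card L - 1) = 2 :=
          Nat.gcd_eq_left ⟨j, by omega⟩
        rw [hg, hj, show (2 * j + 1) ^ 2 - 1 = 2 * (2 * (j * j + j)) from
          Nat.sub_eq_of_eq_add (by ring), mul_left_comm, mul_comm (Nat.card _)] at hc
        rw [Nat.eq_of_mul_eq_mul_left two_pos hc]
        exact dvd_mul_of_dvd_right (dvd_mul_right 2 _) _
    · exact key h (by rw [Dickson.card_pgl L]; exact hev)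

end Cfsg.Agent.Solv.SelfNorm
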