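import Mathlib
import Cfsg.Agent.Lib.Solv.SelfNormalizingFree

/-!
Two-point stabilizers of the action on the conjugates of the normalizer.
-/

set_option autoImplicit false
set_option linter.style.haveILetI false

open scoped Pointwise commutatorElement

namespace Cfsg.Agent.Solv.SelfNorm

universe u

variable {G : Type u} [Group G] [Finite G] (hE : Even' G) {t : G} (ht : orderOf t = 2)

include hE ht

theorem card_A_mod : ¬ pp t ∣ Nat.card (CA t) ∧ Nat.card (CA t) % pp t = 1 := by
  classical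
  have hp := pp_prime hE ht
  haveI := Fact.mk hp
  obtain ⟨y, hy, hyA⟩ : ∃ y ∈ NA t, y ∉ CA t := by
    by_contra! h
    exact M_ne_A hE ht (le_antisymm h A_le_M)
  set yM : NA t := ⟨y, hy⟩
  set H := Subgroup.zpowers yM
  have hH : Nat.card H = pp t ^ 1 := by
    rw [Nat.card_zpowers, Subgroup.orderOf_mk, orderOf_outside hE ht hy hyA, pow_one]
  haveI hAn : ((CA t).subgroupOf (NA t)).Normal := Subgroup.normal_in_normalizer
  have hN : Subgroup.normalizer (H : Set (NA t)) = H := by
    refine le_antisymm (fun x hx => ?_) Subgroup.le_normalizer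
    obtain ⟨a, ha, i, hxa⟩ := decomp hE ht hy hyA x.2
    set aM : NA t := ⟨a, A_le_M ha⟩
    have hx' : x = aM * yM ^ i := Subtype.ext (by rw [hxa]; rfl)
    have haN : aM ∈ Subgroup.normalizer (H : Set (NA t)) := by
      have e : aM = x * (yM ^ i)⁻¹ := by rw [hx', mul_inv_cancel_right]
      rw [e]
      exact mul_mem hx (inv_mem (Subgroup.le_normalizer
        (H.pow_mem (Subgroup.mem_zpowers yM) i)))
    have h1 : aM * yM * aM⁻¹ * yM⁻¹ ∈ H :=
      H.mul_mem ((Subgroup.mem_normalizer_iff.1 haN yM).1 (Subgroup.mem_zpowers _))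
        (H.inv_mem (Subgroup.mem_zpowers _))
    have h2 : aM * yM * aM⁻¹ * yM⁻¹ = 1 := by
      obtain ⟨k, hk⟩ := h1
      have hA := comm_mem hE ht aM yM
      simp only at hk
      rw [← hk] at hA ⊢
      refine Subtype.ext ?_
      refine fpf hE ht hy hyA hA ?_
      show y * ((yM ^ k : NA t) : G) = ((yM ^ k : NA t) : G) * y
      rw [Subgroup.coe_zpow]
      exact (Commute.self_zpow y k).eq
    have ha1 : a = 1 := by
      refine fpf hE ht hy hyA ha ?_
      have h3 := congrArg Subtype.val h2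
      simp only [Subgroup.coe_mul, InvMemClass.coe_inv, Subgroup.coe_one] at h3
      exact (mul_inv_eq_iff_eq_mul.1 (mul_inv_eq_one.1 h3)).symm
    rw [hx', show aM = 1 from Subtype.ext ha1, one_mul]
    exact H.pow_mem (Subgroup.mem_zpowers yM) i
  have hcard : Nat.card (NA t) = Nat.card (CA t) * pp t := by
    rw [pp, ← ((CA t).subgroupOf (NA t)).card_mul_index,
      Nat.card_congr (Subgroup.subgroupOfEquivOfLe A_le_M).toEquiv]
  have hnd : ¬ pp t ∣ Nat.card (CA t) := by
    intro hd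
    have h := Sylow.prime_dvd_card_quotient_normalizer (G := NA t) (p := pp t) (n := 1)
      (by rw [hcard, pow_two]; exact mul_dvd_mul_right hd _) hH
    rw [hN, ← Subgroup.index_eq_card] at h
    change pp t ∣ (H.subgroupOf H).index at h
    rw [Subgroup.subgroupOf_self, Subgroup.index_top] at h
    exact hp.one_lt.ne' (Nat.dvd_one.1 h)
  refine ⟨hnd, ?_⟩
  set P : Sylow (pp t) (NA t) := (IsPGroup.of_card hH).toSylow (fun hd => by
    have h1 : H.index = Nat.card (CA t) := by
      have := H.card_mul_index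
      rw [hH, pow_one, hcard, mul_comm (Nat.card (CA t))] at this
      exact Nat.eq_of_mul_eq_mul_left hp.pos this
    exact hnd (h1 ▸ hd))
  have h1 : Nat.card (Sylow (pp t) (NA t)) = Nat.card (CA t) := by
    rw [Sylow.card_eq_index_normalizer P]
    change (Subgroup.normalizer (H : Set (NA t))).index = _
    rw [hN]
    have := H.card_mul_index
    rw [hH, pow_one, hcard, mul_comm (Nat.card (CA t))] at this
    exact Nat.eq_of_mul_eq_mul_left hp.pos this
  have h2 : Nat.card (Sylow (pp t) (NA t)) % pp t = 1 % pp t := card_sylow_modEq_one (pp t) (NA t)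
  rw [h1, Nat.one_mod_eq_one.2 hp.ne_one] at h2
  exact h2

/-- Elements of `M` lying in another conjugate of `M` are outside `A`. -/
theorem inter_A {g x : G} (hg : g ∉ NA t) (hx : x ∈ CA t) (hxg : g⁻¹ * x * g ∈ NA t) : x = 1 := by
  by_contra hx1
  by_cases h : g⁻¹ * x * g ∈ CA t
  · refine hg ?_
    have := ti hE ht (g := g⁻¹) hx hx1 (by rwa [inv_inv])
    simpa using (NA t).inv_mem this
  · have h1 := orderOf_outside hE ht hxg h
    have h2 : orderOf (g⁻¹ * x * g) = orderOf x := by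
      simpa using orderOf_conj g⁻¹ x
    have h3 : orderOf (⟨x, hx⟩ : CA t) ∣ Nat.card (CA t) := orderOf_dvd_natCard _
    rw [Subgroup.orderOf_mk, ← h2, h1] at h3
    exact (card_A_mod hE ht).1 h3

theorem card_inter_le {g : G} (hg : g ∉ NA t) :
    Nat.card {x : G // x ∈ NA t ∧ g⁻¹ * x * g ∈ NA t} ≤ pp t := by
  rw [pp, Subgroup.index_eq_card]
  refine Nat.card_le_card_of_injective
    (fun x => ((⟨x.1, x.2.1⟩ : NA t) : NA t ⧸ (CA t).subgroupOf (NA t))) fun a b hab => ?_
  have h := Subgroup.mem_subgroupOf.1 (QuotientGroup.eq.1 hab)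
  simp only [Subgroup.coe_mul, InvMemClass.coe_inv] at h
  have := inter_A hE ht hg h (by
    have := (NA t).mul_mem ((NA t).inv_mem a.2.2) b.2.2
    simpa [mul_assoc] using this)
  exact Subtype.ext (inv_mul_eq_one.1 this)

omit hE ht in
theorem coset_facts {v w g : G} (hv : orderOf v = 2) (hw : orderOf w = 2)
    (hvg : g⁻¹ * v ∈ NA t) (hwg : g⁻¹ * w ∈ NA t) :
    v * w ∈ NA t ∧ g⁻¹ * (v * w) * g ∈ NA t ∧ v * (v * w) * v⁻¹ = (v * w)⁻¹ := by
  have h1 : v * w ∈ NA t := by
    have := (NA t).mul_mem ((NA t).inv_mem hvg) hwg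
    rwa [show (g⁻¹ * v)⁻¹ * (g⁻¹ * w) = v⁻¹ * w by group, inv_of_order_two hv] at this
  refine ⟨h1, ?_, ?_⟩
  · have := (NA t).mul_mem hvg ((NA t).inv_mem hwg)
    rwa [show g⁻¹ * v * (g⁻¹ * w)⁻¹ = g⁻¹ * (v * w⁻¹) * g by group, inv_of_order_two hw] at this
  · rw [_root_.mul_inv_rev, inv_of_order_two hw, inv_of_order_two hv, ← mul_assoc v v w,
      show v * v = 1 by rw [← pow_two, ← hv, pow_orderOf_eq_one], one_mul]

theorem coset_count {g : G} (hg : g ∉ NA t) :
    Nat.card {v : G // orderOf v = 2 ∧ g⁻¹ * v ∈ NA t} = pp t := by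
  classical
  haveI := Fintype.ofFinite G
  set f : {v : G // orderOf v = 2 ∧ v ∉ NA t} → {q : G ⧸ NA t // q ≠ ((1 : G) : G ⧸ NA t)} :=
    fun u => ⟨((u : G) : G ⧸ NA t), fun h => u.2.2 (by
      have := QuotientGroup.eq.1 h
      rw [mul_one] at this
      simpa using (NA t).inv_mem this)⟩
  have hfib : ∀ g : G, g ∉ NA t → ∀ q : {q : G ⧸ NA t // q ≠ ((1 : G) : G ⧸ NA t)},
      q.1 = (g : G ⧸ NA t) →
      Nat.card {u // f u = q} = Nat.card {v : G // orderOf v = 2 ∧ g⁻¹ * v ∈ NA t} := by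
    intro g hg q hq
    refine Nat.card_congr
      { toFun := fun u => ⟨u.1.1, u.1.2.1, QuotientGroup.eq.1
          ((congrArg Subtype.val u.2).trans hq).symm⟩
        invFun := fun v => ⟨⟨v.1, v.2.1, fun h => hg ?_⟩, Subtype.ext ?_⟩
        left_inv := fun u => rfl
        right_inv := fun v => rfl }
    · have := (NA t).mul_mem h ((NA t).inv_mem v.2.2)
      simpa using this
    · show ((v.1 : G) : G ⧸ NA t) = q.1
      rw [hq]
      exact (QuotientGroup.eq.2 v.2.2).symm
  have hle : ∀ q, Nat.card {u // f u = q} ≤ pp t := by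
    intro q
    obtain ⟨g, hgq⟩ := QuotientGroup.mk_surjective q.1
    have hg : g ∉ NA t := fun h => q.2 (by
      rw [← hgq]; exact QuotientGroup.eq.2 (by simpa using (NA t).inv_mem h))
    rw [hfib g hg q hgq.symm]
    rcases isEmpty_or_nonempty {v : G // orderOf v = 2 ∧ g⁻¹ * v ∈ NA t} with h | ⟨⟨v, hv, hvg⟩⟩
    · simp
    · refine le_trans ?_ (card_inter_le hE ht hg)
      refine Nat.card_le_card_of_injective
        (fun w => ⟨v * w.1, (coset_facts hv w.2.1 hvg w.2.2).1,
          (coset_facts hv w.2.1 hvg w.2.2).2.1⟩) fun a b hab => ?_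
      exact Subtype.ext (mul_left_cancel (congrArg Subtype.val hab))
  have hsum : ∑ q, Nat.card {u // f u = q} =
      ∑ _q : {q : G ⧸ NA t // q ≠ ((1 : G) : G ⧸ NA t)}, pp t := by
    have h1 : ∑ q, Nat.card {u // f u = q} = Nat.card {v : G // orderOf v = 2 ∧ v ∉ NA t} := by
      rw [← Nat.card_sigma]
      exact Nat.card_congr (Equiv.sigmaFiberEquiv f)
    rw [h1, Finset.sum_const, smul_eq_mul, Finset.card_univ]
    have h4 := card_outside hE ht
    rw [Fintype.card_subtype_compl, Fintype.card_subtype_eq]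
    rw [show (NA t).index = Fintype.card (G ⧸ NA t) by
      rw [Subgroup.index, Nat.card_eq_fintype_card]] at h4
    have hpos : 0 < Fintype.card (G ⧸ NA t) := Fintype.card_pos
    obtain ⟨k, hk⟩ : ∃ k, Fintype.card (G ⧸ NA t) = k + 1 := ⟨_, (Nat.succ_pred_eq_of_pos hpos).symm⟩
    rw [hk, Nat.mul_succ] at h4
    rw [hk, Nat.add_sub_cancel, mul_comm]
    omega
  have := (Finset.sum_eq_sum_iff_of_le fun q _ => hle q).1 hsum
    ⟨((g : G) : G ⧸ NA t), fun h => hg (by
      have := QuotientGroup.eq.1 h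
      rw [mul_one] at this
      simpa using (NA t).inv_mem this)⟩ (Finset.mem_univ _)
  rwa [hfib g hg _ rfl] at this

theorem exists_involution {g : G} (hg : g ∉ NA t) : ∃ v, orderOf v = 2 ∧ g⁻¹ * v ∈ NA t := by
  have h := coset_count hE ht hg
  obtain ⟨⟨v, hv⟩⟩ : Nonempty {v : G // orderOf v = 2 ∧ g⁻¹ * v ∈ NA t} :=
    (Nat.card_pos_iff.1 (by rw [h]; exact (pp_prime hE ht).pos)).1
  exact ⟨v, hv⟩

theorem card_inter {g : G} (hg : g ∉ NA t) :
    Nat.card {x : G // x ∈ NA t ∧ g⁻¹ * x * g ∈ NA t} = pp t := by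
  refine le_antisymm (card_inter_le hE ht hg) ?_
  obtain ⟨v, hv, hvg⟩ := exists_involution hE ht hg
  rw [← coset_count hE ht hg]
  refine Nat.card_le_card_of_injective
    (fun w => ⟨v * w.1, (coset_facts hv w.2.1 hvg w.2.2).1,
      (coset_facts hv w.2.1 hvg w.2.2).2.1⟩) fun a b hab => ?_
  exact Subtype.ext (mul_left_cancel (congrArg Subtype.val hab))

/-- An involution exchanging two conjugates inverts their intersection. -/
theorem inter_inverted {v x : G} (hvM : v ∉ NA t) (hv : orderOf v = 2) (hx : x ∈ NA t)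
    (hxv : v * x * v⁻¹ ∈ NA t) : v * x * v⁻¹ = x⁻¹ := by
  have hvv : v⁻¹ * v ∈ NA t := by rw [inv_mul_cancel]; exact one_mem _
  have hbij : Function.Bijective (fun w : {w : G // orderOf w = 2 ∧ v⁻¹ * w ∈ NA t} =>
      (⟨v * w.1, (coset_facts hv w.2.1 hvv w.2.2).1, (coset_facts hv w.2.1 hvv w.2.2).2.1⟩ :
        {x : G // x ∈ NA t ∧ v⁻¹ * x * v ∈ NA t})) :=
    (Nat.bijective_iff_injective_and_card _).2
      ⟨fun a b hab => Subtype.ext (mul_left_cancel (congrArg Subtype.val hab)),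
        by rw [coset_count hE ht hvM, card_inter hE ht hvM]⟩
  obtain ⟨⟨w, hw, hwv⟩, hwx⟩ := hbij.2 ⟨x, hx, by
    rw [inv_of_order_two hv]; rwa [inv_of_order_two hv] at hxv⟩
  obtain rfl : v * w = x := congrArg Subtype.val hwx
  exact (coset_facts hv hw hvv hwv).2.2

end Cfsg.Agent.Solv.SelfNorm
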