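import Mathlib
import Cfsg.Agent.Lib.Solv.SelfNormalizingCount

/-!
The action on the conjugates of the normalizer is doubly transitive.
-/

set_option autoImplicit false
set_option linter.style.haveILetI false

open scoped Pointwise commutatorElement

namespace Cfsg.Agent.Solv.SelfNorm

universe u

variable {G : Type u} [Group G] [Finite G] (hE : Even' G) {t : G} (ht : orderOf t = 2)

theorem mem_normalizer_of_le {H : Subgroup G} {g : G} (h : ∀ x ∈ H, g * x * g⁻¹ ∈ H) :
    g ∈ Subgroup.normalizer (H : Set G) := by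
  refine Subgroup.mem_normalizer_iff.2 fun x => ⟨h x, fun hx => ?_⟩
  obtain ⟨⟨z, hz⟩, hzx⟩ := (Finite.injective_iff_surjective.1
    (fun a b hab => Subtype.ext (by
      have := congrArg Subtype.val hab
      simpa using this) :
      Function.Injective fun x : H => (⟨g * x * g⁻¹, h x.1 x.2⟩ : H))) ⟨g * x * g⁻¹, hx⟩
  have e : g * z * g⁻¹ = g * x * g⁻¹ := congrArg Subtype.val hzx
  rw [← mul_left_cancel (mul_right_cancel e)]
  exact hz

include hE ht

/-- Every element of `M` is in `A` or conjugate in `M` to a power of a given outside element. -/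
theorem conj_zpowers {y z : G} (hy : y ∈ NA t) (hyA : y ∉ CA t) (hz : z ∈ NA t) (hzA : z ∉ CA t) :
    ∃ m ∈ NA t, ∃ i : ℕ, z = m * y ^ i * m⁻¹ := by
  obtain ⟨a, ha, i, rfl⟩ := decomp hE ht hy hyA hz
  have hi : y ^ i ∉ CA t := fun h => hzA ((CA t).mul_mem ha h)
  set yi : NA t := ⟨y ^ i, (NA t).pow_mem hy i⟩
  have hinj : Function.Injective (phi hE ht yi) := by
    rw [injective_iff_map_eq_one]
    intro d hd
    have h2 := congrArg (fun w : (CA t).subgroupOf (NA t) => ((w : NA t) : G)) hd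
    simp only [phi, MonoidHom.coe_mk, OneHom.coe_mk, Subgroup.coe_mul, InvMemClass.coe_inv,
      Subgroup.coe_one] at h2
    exact Subtype.ext (Subtype.ext (fpf hE ht yi.2 hi d.2
      (mul_inv_eq_iff_eq_mul.1 (mul_inv_eq_one.1 h2)).symm))
  obtain ⟨d, hd⟩ := (Finite.injective_iff_surjective.1 hinj) ⟨⟨a, A_le_M ha⟩, ha⟩
  refine ⟨((d : NA t) : G), (d : NA t).2, i, ?_⟩
  have h := congrArg (fun w : (CA t).subgroupOf (NA t) => ((w : NA t) : G)) hd
  simp only [phi, MonoidHom.coe_mk, OneHom.coe_mk, Subgroup.coe_mul, InvMemClass.coe_inv] at h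
  rw [← h, inv_mul_cancel_right]

/-- The intersection of `M` with a conjugate by an involution has an element outside `A`. -/
theorem exists_pair {v : G} (hv : orderOf v = 2) (hvM : v ∉ NA t) :
    ∃ y, y ∈ NA t ∧ y ∉ CA t ∧ v * y * v⁻¹ = y⁻¹ ∧
      ∀ x, (x ∈ NA t ∧ v * x * v⁻¹ ∈ NA t) ↔ x ∈ Subgroup.zpowers y := by
  have hc := card_inter hE ht hvM
  haveI : Nontrivial {x : G // x ∈ NA t ∧ v⁻¹ * x * v ∈ NA t} :=
    Finite.one_lt_card_iff_nontrivial.1 (by rw [hc]; exact (pp_prime hE ht).one_lt)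
  obtain ⟨⟨y, hy, hyv⟩, hne⟩ := exists_ne
    (⟨1, one_mem _, by rw [mul_one, inv_mul_cancel]; exact one_mem _⟩ :
      {x : G // x ∈ NA t ∧ v⁻¹ * x * v ∈ NA t})
  have hy1 : y ≠ 1 := fun e => hne (Subtype.ext e)
  have hyv' : v * y * v⁻¹ ∈ NA t := by
    rw [inv_of_order_two hv] at hyv ⊢; exact hyv
  have hyA : y ∉ CA t := fun h => hy1 (inter_A hE ht hvM h hyv)
  have hinv := inter_inverted hE ht hvM hv hy hyv'
  have hz : ∀ x ∈ Subgroup.zpowers y, x ∈ NA t ∧ v⁻¹ * x * v ∈ NA t := by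
    rintro _ ⟨k, rfl⟩
    refine ⟨(NA t).zpow_mem hy k, ?_⟩
    have := (NA t).zpow_mem hyv k
    rwa [show v⁻¹ * y * v = v⁻¹ * y * (v⁻¹)⁻¹ by rw [inv_inv], conj_zpow, inv_inv] at this
  have hbij : Function.Bijective (fun x : Subgroup.zpowers y =>
      (⟨x.1, hz x.1 x.2⟩ : {x : G // x ∈ NA t ∧ v⁻¹ * x * v ∈ NA t})) :=
    (Nat.bijective_iff_injective_and_card _).2
      ⟨fun a b h => Subtype.ext (congrArg Subtype.val h :),
        by rw [hc, Nat.card_zpowers, orderOf_outside hE ht hy hyA]⟩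
  refine ⟨y, hy, hyA, hinv, fun x => ⟨fun h => ?_, fun h => ?_⟩⟩
  · obtain ⟨z, hz'⟩ := hbij.2 ⟨x, h.1, by rw [inv_of_order_two hv] at h ⊢; exact h.2⟩
    have e : z.1 = x := congrArg Subtype.val hz'
    rw [← e]; exact z.2
  · have := hz x h
    rw [inv_of_order_two hv] at this ⊢
    exact this

theorem inv_ne {y : G} (hy : y ∈ NA t) (hyA : y ∉ CA t) : y⁻¹ ≠ y := by
  intro e
  have h : orderOf y ∣ 2 := orderOf_dvd_of_pow_eq_one (by rw [pow_two]; exact inv_eq_iff_mul_eq_one.1 e)
  rw [orderOf_outside hE ht hy hyA] at h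
  exact pp_odd hE ht ((Nat.prime_dvd_prime_iff_eq (pp_prime hE ht) Nat.prime_two).1 h)

theorem normalizer_zpowers {v y : G} (hv : orderOf v = 2) (hvM : v ∉ NA t) (hy : y ∈ NA t)
    (hyA : y ∉ CA t) (hinv : v * y * v⁻¹ = y⁻¹) :
    ∀ k ∈ Subgroup.normalizer (Subgroup.zpowers y : Set G),
      k ∈ Subgroup.zpowers y ∨ k * v ∈ Subgroup.zpowers y := by
  classical
  have hp := pp_prime hE ht
  set D := Subgroup.zpowers y with hD
  set K := Subgroup.normalizer (D : Set G)
  set B := Subgroup.centralizer ({y} : Set G)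
  have hDM : D ≤ NA t := Subgroup.zpowers_le.2 hy
  have hyD : y ∈ D := Subgroup.mem_zpowers y
  have hcardD : Nat.card D = pp t := by rw [Nat.card_zpowers, orderOf_outside hE ht hy hyA]
  have hBK : B ≤ K := by
    intro b hb
    rw [Subgroup.mem_centralizer_singleton_iff] at hb
    refine Subgroup.mem_normalizer_iff.2 fun x => ⟨?_, ?_⟩
    · rintro ⟨n, rfl⟩
      refine ⟨n, ?_⟩
      simp only
      rw [((show Commute b y from hb).zpow_right n).eq, mul_inv_cancel_right]
    · rintro ⟨n, hn⟩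
      refine ⟨n, ?_⟩
      simp only at hn ⊢
      have h3 := ((show Commute b y from hb).zpow_right n).eq
      calc y ^ n = b⁻¹ * (b * y ^ n) := by group
        _ = b⁻¹ * (y ^ n * b) := by rw [h3]
        _ = b⁻¹ * (b * x * b⁻¹ * b) := by rw [hn]
        _ = x := by group
  have hKy : ∀ k ∈ K, ∃ n : ℤ, k * y * k⁻¹ = y ^ n := fun k hk => by
    obtain ⟨n, hn⟩ := (Subgroup.mem_normalizer_iff.1 hk y).1 hyD
    exact ⟨n, hn.symm⟩
  have hvK : v ∈ K := by
    have h : ∀ n : ℤ, v * y ^ n * v⁻¹ = y ^ (-n) := fun n => by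
      rw [← conj_zpow, hinv, inv_zpow']
    refine Subgroup.mem_normalizer_iff.2 fun x => ⟨?_, ?_⟩
    · rintro ⟨n, rfl⟩
      exact ⟨-n, (h n).symm⟩
    · rintro ⟨n, hn⟩
      refine ⟨-n, ?_⟩
      simp only at hn ⊢
      rw [← h n, hn, inv_of_order_two hv]
      have : v * v = 1 := by rw [← pow_two, ← hv, pow_orderOf_eq_one]
      calc v * (v * x * v) * v = (v * v) * x * (v * v) := by group
        _ = x := by rw [this, one_mul, mul_one]
  have hvB : v ∉ B := fun h => by
    refine inv_ne hE ht hy hyA ?_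
    rw [← hinv, Subgroup.mem_centralizer_singleton_iff.1 h, mul_inv_cancel_right]
  set L := B ⊔ Subgroup.zpowers v with hL
  have hLK : L ≤ K := sup_le hBK (Subgroup.zpowers_le.2 hvK)
  have hBn : ∀ k ∈ K, ∀ b ∈ B, k * b * k⁻¹ ∈ B := by
    intro k hk b hb
    obtain ⟨n, hn⟩ := hKy k⁻¹ (K.inv_mem hk)
    rw [Subgroup.mem_centralizer_singleton_iff] at hb ⊢
    have h1 : Commute b (y ^ n) := (show Commute b y from hb).zpow_right n
    rw [← hn] at h1
    calc k * b * k⁻¹ * y = k * (b * (k⁻¹ * y * k⁻¹⁻¹)) * k⁻¹ := by group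
      _ = k * (k⁻¹ * y * k⁻¹⁻¹ * b) * k⁻¹ := by rw [h1.eq]
      _ = y * (k * b * k⁻¹) := by group
  have hcomm : ∀ k ∈ K, k * v * k⁻¹ * v⁻¹ ∈ B := by
    intro k hk
    obtain ⟨n, hn⟩ := hKy k⁻¹ (K.inv_mem hk)
    rw [inv_inv] at hn
    have hv' : v⁻¹ * y * v = y⁻¹ := by
      have h1 : v * y⁻¹ * v⁻¹ = y := by rw [← conj_inv, hinv, inv_inv]
      calc v⁻¹ * y * v = v⁻¹ * (v * y⁻¹ * v⁻¹) * v := by rw [h1]
        _ = _ := by group
    rw [Subgroup.mem_centralizer_singleton_iff]
    have h2 : v * y ^ n * v⁻¹ = (y ^ n)⁻¹ := by rw [← conj_zpow, hinv, inv_zpow]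
    have h3 : k * (y ^ n) * k⁻¹ = y := by rw [← hn]; group
    have h4 : (k * v * k⁻¹ * v⁻¹) * y * (k * v * k⁻¹ * v⁻¹)⁻¹ = y := by
      calc (k * v * k⁻¹ * v⁻¹) * y * (k * v * k⁻¹ * v⁻¹)⁻¹
          = k * (v * (k⁻¹ * (v⁻¹ * y * v) * k) * v⁻¹) * k⁻¹ := by group
        _ = k * (v * (k⁻¹ * y * k)⁻¹ * v⁻¹) * k⁻¹ := by rw [hv']; group
        _ = k * (v * (y ^ n) * v⁻¹)⁻¹ * k⁻¹ := by rw [hn]; group
        _ = k * y ^ n * k⁻¹ := by rw [h2, inv_inv]
        _ = y := h3
    exact mul_inv_eq_iff_eq_mul.1 h4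
  have hLn : K ≤ Subgroup.normalizer (L : Set G) := by
    have h : ∀ k ∈ K, ∀ x ∈ L, k * x * k⁻¹ ∈ L := by
      intro k hk x hx
      have : L ≤ L.comap (MulAut.conj k).toMonoidHom := sup_le
        (fun b hb => by
          refine Subgroup.mem_comap.2 (le_sup_left (a := B) ?_)
          simpa using hBn k hk b hb)
        (Subgroup.zpowers_le.2 (by
          refine Subgroup.mem_comap.2 ?_
          show (MulAut.conj k) v ∈ L
          rw [MulAut.conj_apply, ← inv_mul_cancel_right (k * v * k⁻¹) v]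
          exact L.mul_mem (le_sup_left (a := B) (hcomm k hk))
            (le_sup_right (a := B) (Subgroup.mem_zpowers v))))
      simpa using this hx
    intro k hk
    refine Subgroup.mem_normalizer_iff.2 fun x => ⟨h k hk x, fun hx => ?_⟩
    have := h k⁻¹ (K.inv_mem hk) _ hx
    simpa [mul_assoc] using this
  have hKL : L = K := hE.sn.eq_of_normal (fun h => hvB (by
    rw [Subgroup.mem_centralizer_singleton_iff]
    exact h v (le_sup_right (a := B) (Subgroup.mem_zpowers v)) y
      (le_sup_left (a := B) (Subgroup.mem_centralizer_singleton_iff.2 rfl)))) hLK hLn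
  have hsplit : ∀ k ∈ K, k ∈ B ∨ k * v ∈ B := by
    have hvv : v * v = 1 := by rw [← pow_two, ← hv, pow_orderOf_eq_one]
    let S : Subgroup G :=
      { carrier := {k | k ∈ K ∧ (k ∈ B ∨ k * v ∈ B)}
        one_mem' := ⟨K.one_mem, Or.inl B.one_mem⟩
        mul_mem' := by
          rintro a b ⟨haK, ha⟩ ⟨hbK, hb⟩
          refine ⟨K.mul_mem haK hbK, ?_⟩
          rcases ha with ha | ha <;> rcases hb with hb | hb
          · exact Or.inl (B.mul_mem ha hb)
          · exact Or.inr (by rw [mul_assoc]; exact B.mul_mem ha hb)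
          · refine Or.inr ?_
            rw [show a * b * v = a * v * (v * b * v⁻¹) by
              rw [inv_of_order_two hv]
              calc a * b * v = a * (v * v) * b * v := by rw [hvv, mul_one]
                _ = a * v * (v * b * v) := by group]
            exact B.mul_mem ha (hBn v hvK b hb)
          · refine Or.inl ?_
            rw [show a * b = a * v * (v * (b * v) * v⁻¹) by
              rw [inv_of_order_two hv]
              calc a * b = a * (v * v) * b * (v * v) := by rw [hvv, mul_one, mul_one]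
                _ = a * v * (v * (b * v) * v) := by group]
            exact B.mul_mem ha (hBn v hvK _ hb)
        inv_mem' := by
          rintro a ⟨haK, ha⟩
          refine ⟨K.inv_mem haK, ?_⟩
          rcases ha with ha | ha
          · exact Or.inl (B.inv_mem ha)
          · refine Or.inr ?_
            have := hBn v hvK _ (B.inv_mem ha)
            rwa [_root_.mul_inv_rev, inv_of_order_two hv,
              show v * (v * a⁻¹) * v = v * v * (a⁻¹ * v) by group, hvv, one_mul] at this }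
    have hLS : L ≤ S := sup_le (fun b hb => ⟨hBK hb, Or.inl hb⟩)
      (Subgroup.zpowers_le.2 ⟨hvK, Or.inr (by rw [hvv]; exact B.one_mem)⟩)
    intro k hk
    exact (hLS (hKL.symm ▸ hk)).2
  have hKM : ∀ k ∈ K, k ∈ NA t → k ∈ D := by
    intro k hk hkM
    obtain ⟨a, ha, i, rfl⟩ := decomp hE ht hy hyA hkM
    have haK : a ∈ K := by
      have := K.mul_mem hk (K.inv_mem (Subgroup.le_normalizer (D.pow_mem hyD i)))
      rwa [mul_inv_cancel_right] at this
    have h1 : a * y * a⁻¹ * y⁻¹ ∈ D :=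
      D.mul_mem ((Subgroup.mem_normalizer_iff.1 haK y).1 hyD) (D.inv_mem hyD)
    have h2 : a * y * a⁻¹ * y⁻¹ ∈ CA t :=
      comm_mem hE ht (⟨a, A_le_M ha⟩ : NA t) ⟨y, hy⟩
    obtain ⟨n, hn⟩ := h1
    simp only at hn
    have h3 : a * y * a⁻¹ * y⁻¹ = 1 :=
      fpf hE ht hy hyA h2 (by rw [← hn]; exact (Commute.self_zpow y n).eq)
    rw [fpf hE ht hy hyA ha (mul_inv_eq_iff_eq_mul.1 (mul_inv_eq_one.1 h3)).symm, one_mul]
    exact D.pow_mem hyD i
  have hDB : D ≤ B := Subgroup.zpowers_le.2 (Subgroup.mem_centralizer_singleton_iff.2 rfl)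
  -- involutions in the nontrivial cosets of `D` in `K`
  set DK := D.subgroupOf K
  have hmem : ∀ (q : {q : K ⧸ DK // q ≠ ((1 : K) : K ⧸ DK)}) (w : G), orderOf w = 2 →
      (q.1.out : G)⁻¹ * w ∈ NA t → w * v ∈ B := by
    intro q w hw hwq
    have hwM : w ∉ NA t := by
      intro h
      refine q.2 ?_
      have hk : (q.1.out : G) ∈ NA t := by
        have := (NA t).mul_mem h ((NA t).inv_mem hwq)
        simpa using this
      rw [← QuotientGroup.out_eq' q.1]
      refine (QuotientGroup.eq.2 (Subgroup.mem_subgroupOf.2 ?_))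
      simpa using D.inv_mem (hKM _ q.1.out.2 hk)
    have hwy : w * y * w⁻¹ ∈ NA t := by
      set k := (q.1.out : G)
      have h1 : k⁻¹ * y * k ∈ NA t := hDM (by
        have := (Subgroup.mem_normalizer_iff.1 (K.inv_mem q.1.out.2) y).1 hyD
        rwa [inv_inv] at this)
      have := (NA t).mul_mem ((NA t).mul_mem ((NA t).inv_mem hwq) h1) hwq
      rw [show (k⁻¹ * w)⁻¹ * (k⁻¹ * y * k) * (k⁻¹ * w) = w⁻¹ * y * w by group] at this
      rw [inv_of_order_two hw] at this ⊢
      exact this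
    have h2 := inter_inverted hE ht hwM hw hy hwy
    rw [Subgroup.mem_centralizer_singleton_iff]
    have h3 : w * y⁻¹ * w⁻¹ = y := by rw [← conj_inv, h2, inv_inv]
    have h4 : (w * v) * y * (w * v)⁻¹ = y := by
      calc (w * v) * y * (w * v)⁻¹ = w * (v * y * v⁻¹) * w⁻¹ := by group
        _ = y := by rw [hinv, h3]
    exact mul_inv_eq_iff_eq_mul.1 h4
  have hle : (DK.index - 1) * pp t ≤ Nat.card B := by
    haveI := Fintype.ofFinite (K ⧸ DK)
    have h1 : Nat.card (Σ q : {q : K ⧸ DK // q ≠ ((1 : K) : K ⧸ DK)},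
        {w : G // orderOf w = 2 ∧ (q.1.out : G)⁻¹ * w ∈ NA t}) = (DK.index - 1) * pp t := by
      have hout : ∀ q : {q : K ⧸ DK // q ≠ ((1 : K) : K ⧸ DK)}, (q.1.out : G) ∉ NA t := by
        intro q h
        refine q.2 ?_
        rw [← QuotientGroup.out_eq' q.1]
        refine (QuotientGroup.eq.2 (Subgroup.mem_subgroupOf.2 ?_))
        simpa using D.inv_mem (hKM _ q.1.out.2 h)
      rw [Nat.card_sigma, Finset.sum_congr rfl (fun q _ => coset_count hE ht (hout q)),
        Finset.sum_const, smul_eq_mul, Finset.card_univ,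
        Fintype.card_subtype_compl, Fintype.card_subtype_eq, Subgroup.index,
        Nat.card_eq_fintype_card]
    rw [← h1]
    refine Nat.card_le_card_of_injective (fun s => (⟨s.2.1 * v, hmem s.1 s.2.1 s.2.2.1 s.2.2.2⟩ : B))
      ?_
    rintro ⟨q, w, hw, hwq⟩ ⟨q', w', hw', hwq'⟩ h
    obtain rfl : w = w' := mul_right_cancel (congrArg Subtype.val h :)
    have hqq : q = q' := by
      refine Subtype.ext ?_
      rw [← QuotientGroup.out_eq' q.1, ← QuotientGroup.out_eq' q'.1]
      refine QuotientGroup.eq.2 (Subgroup.mem_subgroupOf.2 ?_)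
      refine hKM _ (K.mul_mem (K.inv_mem q.1.out.2) q'.1.out.2) ?_
      have := (NA t).mul_mem hwq ((NA t).inv_mem hwq')
      simpa [mul_assoc] using this
    subst hqq
    rfl
  have hcK : Nat.card K = 2 * Nat.card B := by
    have : Nat.card (B ⊕ B) = Nat.card K := by
      refine Nat.card_congr (Equiv.ofBijective (Sum.elim (fun b : B => (⟨b.1, hBK b.2⟩ : K))
        (fun b : B => (⟨b.1 * v, K.mul_mem (hBK b.2) hvK⟩ : K))) ⟨?_, ?_⟩)
      · rintro (a | a) (b | b) h
        · exact congrArg Sum.inl (Subtype.ext (congrArg Subtype.val h :))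
        · exact absurd (by
            have e : (a : G) = b * v := congrArg Subtype.val h
            have := B.mul_mem (B.inv_mem b.2) a.2
            rwa [e, inv_mul_cancel_left] at this) hvB
        · exact absurd (by
            have e : (a : G) * v = b := congrArg Subtype.val h
            have := B.mul_mem (B.inv_mem a.2) b.2
            rwa [← e, inv_mul_cancel_left] at this) hvB
        · exact congrArg Sum.inr (Subtype.ext (mul_right_cancel (congrArg Subtype.val h :)))
      · rintro ⟨k, hk⟩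
        rcases hsplit k hk with h | h
        · exact ⟨Sum.inl ⟨k, h⟩, rfl⟩
        · exact ⟨Sum.inr ⟨k * v, h⟩, Subtype.ext (by
            show k * v * v = k
            rw [mul_assoc, ← pow_two, ← hv, pow_orderOf_eq_one, mul_one])⟩
    rw [← this, Nat.card_sum]; ring
  have hBD : B = D := by
    refine (Subgroup.eq_of_le_of_card_ge hDB ?_).symm
    have h1 := DK.card_mul_index
    rw [Nat.card_congr (Subgroup.subgroupOfEquivOfLe (Subgroup.le_normalizer (H := D))).toEquiv,
      hcardD, hcK] at h1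
    rw [Nat.sub_mul, one_mul, mul_comm DK.index] at hle
    omega
  intro k hk
  rw [← hBD]
  exact hsplit k hk

/-- Every element outside `M` lies in the double coset of a given involution. -/
theorem mem_double_coset {v u : G} (hv : orderOf v = 2) (hvM : v ∉ NA t) (hu : u ∉ NA t) :
    ∃ m ∈ NA t, ∃ n ∈ NA t, u = m * v * n := by
  obtain ⟨y, hy, hyA, hinv, hD⟩ := exists_pair hE ht hv hvM
  have hc := card_inter hE ht hu
  haveI : Nontrivial {x : G // x ∈ NA t ∧ u⁻¹ * x * u ∈ NA t} :=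
    Finite.one_lt_card_iff_nontrivial.1 (by rw [hc]; exact (pp_prime hE ht).one_lt)
  obtain ⟨⟨z, hz, hzu⟩, hne⟩ := exists_ne
    (⟨1, one_mem _, by rw [mul_one, inv_mul_cancel]; exact one_mem _⟩ :
      {x : G // x ∈ NA t ∧ u⁻¹ * x * u ∈ NA t})
  have hz1 : z ≠ 1 := fun e => hne (Subtype.ext e)
  have hzA : z ∉ CA t := fun h => hz1 (inter_A hE ht hu h hzu)
  obtain ⟨m, hm, i, rfl⟩ := conj_zpowers hE ht hy hyA hz hzA
  set g := m⁻¹ * u with hg
  have hgM : g ∉ NA t := fun h => hu (by simpa [hg] using (NA t).mul_mem hm h)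
  have hy1 : g⁻¹ * y ^ i * g ∈ NA t := by
    simpa [hg, mul_assoc] using hzu
  have hyi : y ^ i ∉ CA t := fun h => hzA (conj_mem_A hE ht hm h)
  have hyi2 : g⁻¹ * y ^ i * g ∉ CA t := fun h => by
    have h1 : orderOf (g⁻¹ * y ^ i * g) = orderOf (y ^ i) := by simpa using orderOf_conj g⁻¹ (y ^ i)
    have h2 := orderOf_outside hE ht ((NA t).pow_mem hy i) hyi
    rw [← h1] at h2
    have h3 : orderOf (⟨_, h⟩ : CA t) ∣ Nat.card (CA t) := orderOf_dvd_natCard _
    rw [Subgroup.orderOf_mk, h2] at h3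
    exact (card_A_mod hE ht).1 h3
  obtain ⟨n, hn, j, hnj⟩ := conj_zpowers hE ht hy hyA hy1 hyi2
  have hcy : Subgroup.zpowers (y ^ i) = Subgroup.zpowers y :=
    Subgroup.eq_of_le_of_card_ge (Subgroup.zpowers_le.2 ((Subgroup.zpowers y).pow_mem (Subgroup.mem_zpowers y) i)) (by
      rw [Nat.card_zpowers, Nat.card_zpowers, orderOf_outside hE ht hy hyA,
        orderOf_outside hE ht ((NA t).pow_mem hy i) hyi])
  have hk : g * n ∈ Subgroup.normalizer (Subgroup.zpowers y : Set G) := by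
    have hfix : ∀ x ∈ Subgroup.zpowers y, (g * n)⁻¹ * x * (g * n) ∈ Subgroup.zpowers y := by
      intro x hx
      rw [← hcy] at hx
      obtain ⟨k, rfl⟩ := hx
      simp only
      have e : (g * n)⁻¹ * y ^ i * (g * n) = y ^ j := by
        calc (g * n)⁻¹ * y ^ i * (g * n) = n⁻¹ * (g⁻¹ * y ^ i * g) * n := by group
          _ = y ^ j := by rw [hnj]; group
      rw [show (g * n)⁻¹ * (y ^ i) ^ k * (g * n) = (g * n)⁻¹ * (y ^ i) ^ k * ((g * n)⁻¹)⁻¹ by
        rw [inv_inv], ← conj_zpow, inv_inv, e]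
      exact (Subgroup.zpowers y).zpow_mem ((Subgroup.zpowers y).pow_mem (Subgroup.mem_zpowers y) j) k
    have := mem_normalizer_of_le (H := Subgroup.zpowers y) (g := (g * n)⁻¹)
      (fun x hx => by rw [inv_inv]; exact hfix x hx)
    simpa using inv_mem this
  rcases normalizer_zpowers hE ht hv hvM hy hyA hinv _ hk with h | h
  · exact absurd (by simpa using (NA t).mul_mem ((Subgroup.zpowers_le.2 hy) h) ((NA t).inv_mem hn)) hgM
  · refine ⟨m * (g * n * v), (NA t).mul_mem hm ((Subgroup.zpowers_le.2 hy) h), n⁻¹,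
      (NA t).inv_mem hn, ?_⟩
    have hvv : v * v = 1 := by rw [← pow_two, ← hv, pow_orderOf_eq_one]
    calc u = m * (g * n * (v * v)) * n⁻¹ := by rw [hvv, hg]; group
      _ = _ := by group

end Cfsg.Agent.Solv.SelfNorm
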