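import Mathlib
import Cfsg.Agent.Lib.Solv.SelfNormalizingTwoTransitive
import Cfsg.Agent.Lib.Lie.Feit.Main
import Cfsg.Agent.Lib.Classical.Dickson.Tools
import Cfsg.Agent.S1230

/-!
Simple groups with self-normalizing non-abelian subgroups are two-dimensional linear groups.
-/

set_option autoImplicit false
set_option linter.style.haveILetI false

open scoped Pointwise commutatorElement

namespace Cfsg.Agent.Solv.SelfNorm

universe u

variable {G : Type u} [Group G] [Finite G] (hE : Even' G) {t : G} (ht : orderOf t = 2)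

theorem mk_eq_base {M : Subgroup G} {u : G} : (u : G ⧸ M) = ((1 : G) : G ⧸ M) ↔ u ∈ M := by
  rw [QuotientGroup.eq]
  simp

theorem fix_iff {M : Subgroup G} {x u : G} : x • (u : G ⧸ M) = (u : G ⧸ M) ↔ u⁻¹ * x * u ∈ M := by
  rw [MulAction.Quotient.smul_mk, smul_eq_mul, eq_comm, QuotientGroup.eq, mul_assoc]

include hE ht

theorem forward_aux : ∃ n : ℕ, 2 ≤ n ∧ (2 ^ n - 1).Prime ∧
    Nonempty (G ≃* Matrix.ProjectiveSpecialLinearGroup (Fin 2) (GaloisField 2 n)) := by
  classical
  haveI := hE.simple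
  have hp := pp_prime hE ht
  have hp2 := pp_odd hE ht
  obtain ⟨v, hv, hvM⟩ : ∃ v : G, orderOf v = 2 ∧ v ∉ NA t := by
    obtain ⟨g, hg⟩ : ∃ g, g ∉ NA t := by
      by_contra! h
      exact M_ne_top hE ht (eq_top_iff.2 fun x _ => h x)
    obtain ⟨v, hv, hvg⟩ := exists_involution hE ht hg
    exact ⟨v, hv, fun h => hg (by simpa using (NA t).mul_mem h ((NA t).inv_mem hvg))⟩
  obtain ⟨y, hy, hyA, hinv, hD⟩ := exists_pair hE ht hv hvM
  have hy1 : y ≠ 1 := fun e => hyA (e ▸ one_mem _)
  let Ω := G ⧸ NA t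
  haveI : Fintype Ω := Fintype.ofFinite _
  set a : Ω := ((1 : G) : Ω) with hadef
  set b : Ω := ((v : G) : Ω) with hbdef
  have hab : a ≠ b := fun e => hvM (mk_eq_base.1 e.symm)
  have hxa : ∀ x : G, x • a = a ↔ x ∈ NA t := fun x => by rw [fix_iff]; simp
  have hxb : ∀ x : G, x • b = b ↔ v⁻¹ * x * v ∈ NA t := fun x => fix_iff
  -- transitivity on pairs
  have hpair : ∀ c d : Ω, c ≠ d → ∃ g : G, g • a = c ∧ g • b = d := by
    intro c d hcd
    obtain ⟨g, rfl⟩ := QuotientGroup.mk_surjective c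
    obtain ⟨k, rfl⟩ := QuotientGroup.mk_surjective d
    have hu : g⁻¹ * k ∉ NA t := fun h => hcd (QuotientGroup.eq.2 h)
    obtain ⟨m, hm, n, hn, he⟩ := mem_double_coset hE ht hv hvM hu
    refine ⟨g * m, ?_, ?_⟩
    · rw [hadef, MulAction.Quotient.smul_mk, smul_eq_mul, mul_one]
      exact QuotientGroup.eq.2 (by simpa using (NA t).inv_mem hm)
    · rw [hbdef, MulAction.Quotient.smul_mk, smul_eq_mul]
      refine QuotientGroup.eq.2 ?_
      rw [show (g * m * v)⁻¹ * k = v⁻¹ * m⁻¹ * (g⁻¹ * k) by group, he,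
        show v⁻¹ * m⁻¹ * (m * v * n) = n by group]
      exact hn
  have hfix3 : ∀ x : G, x • a = a → x • b = b → ∀ c : Ω, c ≠ a → c ≠ b → x • c = c → x = 1 := by
    intro x ha hb c hca hcb hc
    by_contra hx1
    obtain ⟨u, rfl⟩ := QuotientGroup.mk_surjective c
    have hu : u ∉ NA t := fun h => hca (mk_eq_base.2 h)
    have hxM := (hxa x).1 ha
    have hxD : x ∈ Subgroup.zpowers y := (hD x).1 ⟨hxM, by
      have := (hxb x).1 hb; rw [inv_of_order_two hv] at this ⊢; exact this⟩
    have hxA : x ∉ CA t := fun h => hx1 (inter_A hE ht hvM h ((hxb x).1 hb))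
    have hDx : Subgroup.zpowers x = Subgroup.zpowers y :=
      Subgroup.eq_of_le_of_card_ge (Subgroup.zpowers_le.2 hxD) (by
        rw [Nat.card_zpowers, Nat.card_zpowers, orderOf_outside hE ht hy hyA,
          orderOf_outside hE ht hxM hxA])
    have hfixy : u⁻¹ * y * u ∈ NA t := by
      obtain ⟨k, hk⟩ : y ∈ Subgroup.zpowers x := hDx ▸ Subgroup.mem_zpowers y
      simp only at hk
      have := (NA t).zpow_mem (fix_iff.1 hc) k
      rwa [show u⁻¹ * x * u = u⁻¹ * x * (u⁻¹)⁻¹ by rw [inv_inv], conj_zpow, inv_inv, hk] at this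
    have hfA : u⁻¹ * y * u ∉ CA t := fun h => by
      have h1 : orderOf (u⁻¹ * y * u) = orderOf y := by simpa using orderOf_conj u⁻¹ y
      have h3 : orderOf (⟨_, h⟩ : CA t) ∣ Nat.card (CA t) := orderOf_dvd_natCard _
      rw [Subgroup.orderOf_mk, h1, orderOf_outside hE ht hy hyA] at h3
      exact (card_A_mod hE ht).1 h3
    obtain ⟨n, hn, j, hnj⟩ := conj_zpowers hE ht hy hyA hfixy hfA
    have hk : u * n ∈ Subgroup.normalizer (Subgroup.zpowers y : Set G) := by
      have h1 : (u * n)⁻¹ ∈ Subgroup.normalizer (Subgroup.zpowers y : Set G) := by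
        refine mem_normalizer_of_le ?_
        rintro _ ⟨k, rfl⟩
        simp only
        rw [← conj_zpow, show (u * n)⁻¹ * y * ((u * n)⁻¹)⁻¹ = n⁻¹ * (u⁻¹ * y * u) * n by group,
          hnj, show n⁻¹ * (n * y ^ j * n⁻¹) * n = y ^ j by group]
        exact (Subgroup.zpowers y).zpow_mem ((Subgroup.zpowers y).pow_mem (Subgroup.mem_zpowers y) j) k
      simpa using inv_mem h1
    have hyM : Subgroup.zpowers y ≤ NA t := Subgroup.zpowers_le.2 hy
    rcases normalizer_zpowers hE ht hv hvM hy hyA hinv _ hk with h | h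
    · exact hu (by simpa using (NA t).mul_mem (hyM h) ((NA t).inv_mem hn))
    · refine hcb (QuotientGroup.eq.2 ?_)
      have hvv : v * v = 1 := by rw [← pow_two, ← hv, pow_orderOf_eq_one]
      have hd : v * (u * n * v) * v⁻¹ ∈ NA t := ((hD _).2 h).2
      have e : u⁻¹ * v = n * (v * (u * n * v) * v⁻¹)⁻¹ := by
        rw [inv_of_order_two hv]
        calc u⁻¹ * v = n * ((n⁻¹ * u⁻¹) * v) := by group
          _ = n * ((v * (u * n) * (v * v))⁻¹) := by
              rw [hvv, mul_one, _root_.mul_inv_rev, _root_.mul_inv_rev, inv_of_order_two hv]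
          _ = _ := by group
      rw [e]
      exact (NA t).mul_mem hn ((NA t).inv_mem hd)
  haveI : Nontrivial Ω := ⟨⟨a, b, hab⟩⟩
  have hfaith : FaithfulSMul G Ω := by
    refine ⟨fun {g g'} h => ?_⟩
    have hk : g⁻¹ * g' ∈ (NA t).normalCore := by
      rw [Subgroup.normalCore_eq_ker, MonoidHom.mem_ker]
      refine Equiv.ext fun z => ?_
      show (g⁻¹ * g') • z = z
      rw [mul_smul, ← h z, inv_smul_smul]
    rw [((IsSimpleGroup.eq_bot_or_eq_top_of_normal _ inferInstance).resolve_right fun e =>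
      M_ne_top hE ht (eq_top_iff.2 (e.ge.trans (NA t).normalCore_le))), Subgroup.mem_bot] at hk
    exact inv_mul_eq_one.1 hk
  have h2t : MulAction.IsMultiplyPretransitive G Ω 2 := by
    rw [MulAction.is_two_pretransitive_iff]
    intro c c' d d' hc hd
    obtain ⟨g, hg1, hg2⟩ := hpair c c' hc
    obtain ⟨k, hk1, hk2⟩ := hpair d d' hd
    exact ⟨k * g⁻¹, by rw [← hg1, mul_smul, inv_smul_smul, hk1],
      by rw [← hg2, mul_smul, inv_smul_smul, hk2]⟩
  have hZ : Cfsg.IsZassenhausGroup G Ω := by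
    refine ⟨hfaith, h2t, ?_, ⟨y, hy1, a, b, hab, (hxa y).2 hy, (hxb y).2 ?_⟩, ?_⟩
    · intro x c d e hcd hde hce h1 h2 h3
      obtain ⟨g, rfl, rfl⟩ := hpair c d hcd
      have hx : ∀ z : Ω, x • g • z = g • z → (g⁻¹ * x * g) • z = z := fun z hz => by
        rw [mul_smul, mul_smul, hz, inv_smul_smul]
      have h := hfix3 _ (hx a h1) (hx b h2) (g⁻¹ • e) (fun h => hce (by rw [← h, smul_inv_smul]))
        (fun h => hde (by rw [← h, smul_inv_smul])) (hx _ (by rw [smul_inv_smul]; exact h3))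
      calc x = g * (g⁻¹ * x * g) * g⁻¹ := by group
        _ = 1 := by rw [h, mul_one, mul_inv_cancel]
    · have := ((hD y).2 (Subgroup.mem_zpowers y)).2
      rw [inv_of_order_two hv] at this ⊢; exact this
    · intro N hN htr
      have hNt : N = ⊤ := (IsSimpleGroup.eq_bot_or_eq_top_of_normal N hN).resolve_left fun e => by
        obtain ⟨g, hg⟩ := htr.exists_smul_eq a b
        have : (g : G) = 1 := by
          have := g.2
          simpa [e] using this
        exact hab (by rw [← hg]; show a = (g : G) • a; rw [this, one_smul])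
      refine ⟨a, fun h => hy1 ?_⟩
      have hmem : (⟨y, hNt ▸ Subgroup.mem_top y⟩ : N) ∈ MulAction.stabilizer N a := (hxa y).2 hy
      exact congrArg Subtype.val (Subgroup.mem_bot.1 (h.le hmem))
  -- the kernel
  have hAfix : ∀ x ∈ CA t, x ≠ 1 → ∀ c : Ω, x • c = c → c = a := by
    intro x hx hx1 c hc
    obtain ⟨u, rfl⟩ := QuotientGroup.mk_surjective c
    exact mk_eq_base.2 (by_contra fun hu => hx1 (inter_A hE ht hu hx (fix_iff.1 hc)))
  have hAcard : Nat.card (CA t) + 1 = Fintype.card Ω := by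
    have e : Nat.card (CA t) = Nat.card {c : Ω // c ≠ a} := by
      refine Nat.card_congr (Equiv.ofBijective
        (fun x : CA t => (⟨(x : G) • b, fun h => hab ?_⟩ : {c : Ω // c ≠ a})) ⟨?_, ?_⟩)
      · exact (MulAction.injective (x : G) (h.trans ((hxa _).2 (A_le_M x.2)).symm)).symm
      · intro x z h
        have h' : (x : G) • b = (z : G) • b := congrArg Subtype.val h
        by_contra hne
        refine hab (hAfix ((x : G)⁻¹ * z) ((CA t).mul_mem ((CA t).inv_mem x.2) z.2)
          (fun e => hne (Subtype.ext (inv_mul_eq_one.1 e))) b ?_).symm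
        rw [mul_smul, ← h', inv_smul_smul]
      · rintro ⟨c, hc⟩
        obtain ⟨u, rfl⟩ := QuotientGroup.mk_surjective c
        obtain ⟨m, hm, n, hn, he⟩ :=
          mem_double_coset hE ht hv hvM (fun h => hc (mk_eq_base.2 h) : u ∉ NA t)
        obtain ⟨x, hx, i, hmi⟩ := decomp hE ht hy hyA hm
        refine ⟨⟨x, hx⟩, Subtype.ext ?_⟩
        show x • b = _
        have hyb : y ^ i • b = b := (hxb _).2 (by
          have := ((hD _).2 ((Subgroup.zpowers y).pow_mem (Subgroup.mem_zpowers y) i)).2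
          rw [inv_of_order_two hv] at this ⊢; exact this)
        rw [← hyb, ← mul_smul, ← hmi, hbdef, MulAction.Quotient.smul_mk, smul_eq_mul]
        refine QuotientGroup.eq.2 ?_
        rw [he, inv_mul_cancel_left]
        exact hn
    rw [e, Nat.card_eq_fintype_card, Fintype.card_subtype_compl, Fintype.card_subtype_eq]
    exact Nat.sub_add_cancel Fintype.card_pos
  have hstab : Nat.card ↥(MulAction.stabilizer G a ⊓ MulAction.stabilizer G b : Subgroup G) = pp t := by
    rw [show (MulAction.stabilizer G a ⊓ MulAction.stabilizer G b : Subgroup G) = Subgroup.zpowers y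
      from ?_, Nat.card_zpowers, orderOf_outside hE ht hy hyA]
    ext x
    rw [Subgroup.mem_inf, MulAction.mem_stabilizer_iff, MulAction.mem_stabilizer_iff, hxa, hxb, ← hD,
      inv_of_order_two hv]
  have hineq := Cfsg.Agent.Lie.Feit.feit_inequality hZ hab (h := Nat.card (CA t)) hAcard.symm hstab
    (hp.odd_of_ne_two hp2) (H := CA t) (fun x hx => (hxa x).2 (A_le_M hx)) hAcard hAfix
  have hle : Nat.card (CA t) - 1 ≤ 2 * pp t := hineq.resolve_right fun h => by
    obtain ⟨-, ⟨u, w, huw⟩, -⟩ := h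
    exact huw (Subtype.ext (A_ab hE ht u u.2 w w.2))
  have hA : Nat.card (CA t) = pp t + 1 := by
    have h1 := (card_A_mod hE ht).2
    have h2 : 2 ∣ Nat.card (CA t) := by
      have := orderOf_dvd_natCard (⟨t, mem_CA_self⟩ : CA t)
      rwa [Subgroup.orderOf_mk, ht] at this
    obtain ⟨q, hq⟩ : ∃ q, Nat.card (CA t) = 1 + pp t * q := ⟨Nat.card (CA t) / pp t, by
      conv_lhs => rw [← Nat.mod_add_div (Nat.card (CA t)) (pp t), h1]⟩
    have hodd : pp t % 2 = 1 := Nat.odd_iff.1 (hp.odd_of_ne_two hp2)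
    have hq2 : q ≤ 2 := by
      refine Nat.le_of_mul_le_mul_left ?_ hp.pos
      rw [mul_comm _ 2]; omega
    rcases Nat.lt_or_ge q 1 with h | h
    · obtain rfl : q = 0 := by omega
      omega
    · rcases Nat.lt_or_ge q 2 with h' | h'
      · obtain rfl : q = 1 := by omega
        omega
      · obtain rfl : q = 2 := by omega
        omega
  -- `A` is an elementary abelian Sylow subgroup
  have hAinv : ∀ x ∈ CA t, x ^ 2 = 1 := by
    intro x hx
    by_cases hx1 : x = 1
    · rw [hx1, one_pow]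
    have hc1 : Nat.card {z : CA t // z ≠ 1} = pp t := by
      haveI := Fintype.ofFinite (CA t)
      rw [Nat.card_eq_fintype_card, Fintype.card_subtype_compl, Fintype.card_subtype_eq,
        ← Nat.card_eq_fintype_card, hA, Nat.add_sub_cancel]
    have hb : Function.Bijective (fun w : {u : G // orderOf u = 2 ∧ u ∈ NA t} =>
        (⟨⟨w.1, mem_A_of_coprime hE ht w.2.2 (by
          rw [w.2.1]; exact (Nat.coprime_primes Nat.prime_two hp).2 (Ne.symm hp2))⟩,
          fun e => by
            have h0 : (w : G) = 1 := congrArg Subtype.val e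
            have := w.2.1; rw [h0, orderOf_one] at this; omega⟩ :
          {z : CA t // z ≠ 1})) :=
      (Nat.bijective_iff_injective_and_card _).2
        ⟨fun p q h => Subtype.ext (congrArg (fun z : {z : CA t // z ≠ 1} => (z.1 : G)) h :),
          by rw [hc1, card_involutions_A hE ht]⟩
    obtain ⟨⟨w, hw, hwM⟩, hwx⟩ := hb.2 ⟨⟨x, hx⟩, fun e => hx1 (congrArg Subtype.val e)⟩
    have e : w = x := congrArg (fun z : {z : CA t // z ≠ 1} => (z.1 : G)) hwx
    rw [← e, ← hw, pow_orderOf_eq_one]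
  obtain ⟨S, hSA, htS⟩ := exists_sylow_le_A hE ht
  have hSA' : (S : Subgroup G) = CA t := (S.is_maximal' (fun x => ⟨1, Subtype.ext (by
    rw [pow_one]; exact hAinv x x.2)⟩) hSA).symm
  have hC : ∀ u : G, orderOf u = 2 → IsMulCommutative (Subgroup.centralizer ({u} : Set G)) ∧
      ∀ c ∈ Subgroup.centralizer ({u} : Set G), c ^ 2 = 1 := by
    intro u hu
    refine ⟨(ab_iff _).1 (centralizer_involution_ab hE hu), fun c hc => ?_⟩
    obtain ⟨g, rfl⟩ := involution_conj hE ht hu
    rw [centralizer_conj, Subgroup.mem_pointwise_smul_iff_inv_smul_mem] at hc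
    have := hAinv _ hc
    rw [← smul_pow', smul_eq_iff_eq_inv_smul, inv_inv, smul_one] at this
    exact this
  have hnn : ¬ (S : Subgroup G).Normal := fun hn => by
    rcases IsSimpleGroup.eq_bot_or_eq_top_of_normal _ hn with e | e
    · have := htS
      rw [e, Subgroup.mem_bot] at this
      rw [this, orderOf_one] at ht; omega
    · exact A_ne_top hE ht (hSA' ▸ e)
  obtain ⟨F, hFf, hFi, hFc, ⟨φ⟩⟩ :=
    Cfsg.Agent.S1230.result S (sylow_two_noncyclic hE S) hnn hC
  obtain ⟨m, hm⟩ := IsPGroup.iff_card.1 S.isPGroup'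
  have hmA : 2 ^ m = pp t + 1 := by rw [← hA, ← hSA', hm]
  have hp3 := hp.two_le
  have hm2 : 2 ≤ m := by
    by_contra hlt
    interval_cases m <;> omega
  haveI : Fintype (GaloisField 2 m) := Fintype.ofFinite _
  have e : F ≃+* GaloisField 2 m := FiniteField.ringEquivOfCardEq (by
    rw [hFc, hm, ← Nat.card_eq_fintype_card, GaloisField.card 2 m (by omega)])
  exact ⟨m, hm2, by rw [hmA, Nat.add_sub_cancel]; exact hp,
    ⟨φ.trans (Cfsg.Agent.Classical.Dickson.pslCongr e)⟩⟩

end Cfsg.Agent.Solv.SelfNorm
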