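import Mathlib

/-!
# Chains of generators of a subgroup moved by one element

Sequences of conjugates whose intervals generate subgroups of order `p ^ length`, up to length `t`.
-/

set_option autoImplicit false
set_option linter.unusedSectionVars false

namespace Cfsg.Agent.Solv.Window

universe u

variable {G : Type u} [Group G]

/-- The subgroup generated by `l` consecutive terms starting at `i`. -/
def W (x : ℤ → G) (i : ℤ) (l : ℕ) : Subgroup G :=
  Subgroup.closure (x '' Set.Ico i (i + l))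

/-- Consecutive terms generate groups of prime power order, and commutation depends on the distance. -/
structure Good (x : ℤ → G) (p t : ℕ) : Prop where
  card : ∀ i l, l ≤ t → Nat.card (W x i l) = p ^ l
  shift : ∀ i j k, Commute (x i) (x j) → Commute (x (i + k)) (x (j + k))

theorem mem_W {x : ℤ → G} {i : ℤ} {l : ℕ} {j : ℤ} (h1 : i ≤ j) (h2 : j < i + l) : x j ∈ W x i l :=
  Subgroup.subset_closure ⟨j, ⟨h1, h2⟩, rfl⟩

theorem W_mono (x : ℤ → G) {i i' : ℤ} {l l' : ℕ} (h1 : i' ≤ i) (h2 : i + l ≤ i' + l') : W x i l ≤ W x i' l' :=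
  Subgroup.closure_mono (Set.image_mono (Set.Ico_subset_Ico h1 h2))

theorem W_split (x : ℤ → G) (i : ℤ) (l : ℕ) :
    W x i (l + 1) = Subgroup.closure {x i} ⊔ W x (i + 1) l := by
  rw [W, W, ← Subgroup.closure_union, ← Set.image_singleton, ← Set.image_union]
  congr 2
  ext j
  simp only [Set.mem_union, Set.mem_singleton_iff, Set.mem_Ico]
  push_cast
  omega

theorem commute_W {x : ℤ → G} {i : ℤ} {l : ℕ} {y : G}
    (h : ∀ j, i ≤ j → j < i + l → Commute (x j) y) {c : G} (hc : c ∈ W x i l) : Commute c y := by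
  have : W x i l ≤ Subgroup.centralizer ({y} : Set G) := by
    rw [W, Subgroup.closure_le]
    rintro _ ⟨j, ⟨hj1, hj2⟩, rfl⟩
    exact Subgroup.mem_centralizer_singleton_iff.2 (h j hj1 hj2).eq
  exact Subgroup.mem_centralizer_singleton_iff.1 (this hc)

variable [Finite G] {p t : ℕ} [hp : Fact p.Prime] {x : ℤ → G}

theorem Good.W_ne (hx : Good x p t) (i : ℤ) {l : ℕ} (hl0 : 1 ≤ l) (hl : l + 1 ≤ t) :
    W x i l ≠ W x (i + 1) l := by
  intro h
  have hle : W x i (l + 1) ≤ W x i l := by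
    rw [W_split, sup_le_iff, ← h]
    exact ⟨(Subgroup.closure_le _).2 (Set.singleton_subset_iff.2 (mem_W le_rfl (by omega))), le_rfl⟩
  have := Subgroup.card_le_of_le hle
  rw [hx.card _ _ hl, hx.card _ _ (by omega)] at this
  exact absurd this (not_le.2 (Nat.pow_lt_pow_right hp.out.one_lt (Nat.lt_succ_self l)))

theorem Good.normal_sub (hx : Good x p t) {i : ℤ} {l : ℕ} (hl : l + 1 ≤ t) {H : Subgroup G}
    (hH : H ≤ W x i (l + 1)) (hcard : Nat.card H = p ^ l) : (H.subgroupOf (W x i (l + 1))).Normal := by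
  refine Subgroup.normal_of_index_eq_minFac_card ?_
  have h1 := Subgroup.card_mul_index (H.subgroupOf (W x i (l + 1)))
  rw [Nat.card_congr (Subgroup.subgroupOfEquivOfLe hH).toEquiv, hcard, hx.card _ _ hl, pow_succ] at h1
  rw [Nat.eq_of_mul_eq_mul_left (pow_pos hp.out.pos l) h1, hx.card _ _ hl,
    Nat.Prime.pow_minFac hp.out (Nat.succ_ne_zero l)]

theorem Good.comm_mem (hx : Good x p t) (i : ℤ) {d : ℕ} (h1 : 1 ≤ d) (h2 : d < t) {u v : G}
    (hu : u ∈ W x i d) (hv : v ∈ W x (i + 1) d) : u * v * u⁻¹ * v⁻¹ ∈ W x (i + 1) (d - 1) := by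
  have hA : W x i d ≤ W x i (d + 1) := W_mono x le_rfl (by omega)
  have hB : W x (i + 1) d ≤ W x i (d + 1) := W_mono x (by omega) (by omega)
  have hmA : u * v * u⁻¹ * v⁻¹ ∈ W x i d := by
    have h4 : v * u⁻¹ * v⁻¹ ∈ W x i d :=
      (hx.normal_sub h2 hA (hx.card _ _ h2.le)).conj_mem ⟨u⁻¹, hA ((W x i d).inv_mem hu)⟩
        ((W x i d).inv_mem hu) ⟨v, hB hv⟩
    simpa only [mul_assoc] using (W x i d).mul_mem hu h4
  have hmB : u * v * u⁻¹ * v⁻¹ ∈ W x (i + 1) d := by
    have h4 : u * v * u⁻¹ ∈ W x (i + 1) d :=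
      (hx.normal_sub h2 hB (hx.card _ _ h2.le)).conj_mem ⟨v, hB hv⟩ hv ⟨u, hA hu⟩
    exact (W x (i + 1) d).mul_mem h4 ((W x (i + 1) d).inv_mem hv)
  have hint : W x (i + 1) (d - 1) = W x i d ⊓ W x (i + 1) d := by
    refine Subgroup.eq_of_le_of_card_ge (le_inf (W_mono x (by omega) (by omega)) (W_mono x le_rfl (by omega))) ?_
    rw [hx.card _ _ (by omega)]
    have hdvd := Subgroup.card_dvd_of_le (inf_le_left : W x i d ⊓ W x (i + 1) d ≤ W x i d)
    rw [hx.card _ _ h2.le] at hdvd
    obtain ⟨k, hk, hkc⟩ := (Nat.dvd_prime_pow hp.out).1 hdvd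
    rw [hkc]
    refine Nat.pow_le_pow_right hp.out.pos ?_
    by_contra hlt
    have hkd : k = d := by omega
    have e := Subgroup.eq_of_le_of_card_ge (inf_le_left : W x i d ⊓ W x (i + 1) d ≤ W x i d)
      (by rw [hkc, hkd, hx.card _ _ h2.le])
    exact hx.W_ne i h1 h2 (Subgroup.eq_of_le_of_card_ge (e ▸ inf_le_right)
      (by rw [hx.card _ _ h2.le, hx.card _ _ h2.le]))
  rw [hint]
  exact ⟨hmA, hmB⟩

/-- The lower end of a commutator at the least non-commuting distance moves up. -/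
theorem Good.shrink_low (hx : Good x p t) {a : ℕ} (hcl : ∀ i j : ℤ, i ≤ j → j < i + a → Commute (x i) (x j))
    (hna : ¬ Commute (x 0) (x a)) {r l : ℕ} (hr : 1 ≤ r) (hl : r + l + 1 ≤ a) (hrt : r + a < t) {c : G}
    (hc : c ∈ W x r (l + 1)) (hca : c = x 0 * x a * (x 0)⁻¹ * (x a)⁻¹) : c ∈ W x (r + 1) l := by
  set j : ℤ := (r : ℤ) + a with hj
  have hja : Commute (x j) (x a) := (hcl a j (by omega) (by omega)).symm
  -- `x j` commutes with `c`
  have hd : (x 0)⁻¹ * x j * (x 0)⁻¹⁻¹ * (x j)⁻¹ ∈ W x (0 + 1) (r + a - 1) :=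
    hx.comm_mem 0 (by omega) hrt ((W x 0 (r + a)).inv_mem (mem_W le_rfl (by omega)))
      (mem_W (by omega) (by omega))
  rw [inv_inv] at hd
  have h1 : Commute ((x 0)⁻¹ * x j * x 0) (x a) := by
    rw [show (x 0)⁻¹ * x j * x 0 = ((x 0)⁻¹ * x j * x 0 * (x j)⁻¹) * x j by group]
    refine Commute.mul_left (commute_W (fun i hi1 hi2 => ?_) hd) hja
    rcases le_total i (a : ℤ) with hi | hi
    · exact hcl i a hi (by omega)
    · exact (hcl a i hi (by omega)).symm
  have h2 : Commute (x j) (x 0 * x a * (x 0)⁻¹) := by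
    show x j * (x 0 * x a * (x 0)⁻¹) = x 0 * x a * (x 0)⁻¹ * x j
    calc x j * (x 0 * x a * (x 0)⁻¹) = x 0 * (((x 0)⁻¹ * x j * x 0) * x a) * (x 0)⁻¹ := by group
      _ = x 0 * (x a * ((x 0)⁻¹ * x j * x 0)) * (x 0)⁻¹ := by rw [h1.eq]
      _ = _ := by group
  have hjc : Commute (x j) c := hca ▸ h2.mul_right hja.inv_right
  -- otherwise `x r` would commute with `x j`
  set K := W x r (l + 1) ⊓ Subgroup.centralizer ({x j} : Set G) with hK
  have hle : W x (r + 1) l ≤ K := le_inf (W_mono x (by omega) (by omega)) (fun w hw =>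
    Subgroup.mem_centralizer_singleton_iff.2 (commute_W (fun i hi1 hi2 => hcl i j (by omega) (by omega)) hw).eq)
  have hcK : c ∈ K := ⟨hc, Subgroup.mem_centralizer_singleton_iff.2 hjc.symm.eq⟩
  by_contra hcn
  have hKW : K = W x r (l + 1) := by
    refine Subgroup.eq_of_le_of_card_ge inf_le_left ?_
    have hd1 := Subgroup.card_dvd_of_le (inf_le_left : K ≤ W x r (l + 1))
    rw [hx.card _ _ (by omega)] at hd1 ⊢
    obtain ⟨k, hk, hkc⟩ := (Nat.dvd_prime_pow hp.out).1 hd1
    rw [hkc]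
    refine Nat.pow_le_pow_right hp.out.pos ?_
    by_contra hlt
    have e := Subgroup.eq_of_le_of_card_ge hle (by
      rw [hkc, hx.card _ _ (by omega)]; exact Nat.pow_le_pow_right hp.out.pos (by omega))
    exact hcn (e ▸ hcK)
  have hxr : x r ∈ K := hKW ▸ mem_W le_rfl (by omega)
  have h3 : Commute (x r) (x j) := Subgroup.mem_centralizer_singleton_iff.1 hxr.2
  have h4 := hx.shift _ _ (-(r : ℤ)) h3
  rw [show (r : ℤ) + -(r : ℤ) = 0 by omega, show j + -(r : ℤ) = a by omega] at h4
  exact hna h4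

theorem W_reflect (x : ℤ → G) (a i : ℤ) (l : ℕ) :
    W (fun j => x (a - j)) i l = W x (a - i - l + 1) l := by
  rw [W, W]
  congr 1
  ext g
  constructor
  · rintro ⟨j, ⟨h1, h2⟩, rfl⟩
    exact ⟨a - j, ⟨by omega, by omega⟩, rfl⟩
  · rintro ⟨j, ⟨h1, h2⟩, rfl⟩
    exact ⟨a - j, ⟨by omega, by omega⟩, by show x (a - (a - j)) = x j; rw [sub_sub_cancel]⟩

theorem Good.reflect (hx : Good x p t) (a : ℤ) : Good (fun j => x (a - j)) p t where
  card i l hl := by rw [W_reflect]; exact hx.card _ _ hl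
  shift i j k h := by
    have := hx.shift _ _ (-k) h
    show Commute (x (a - (i + k))) (x (a - (j + k)))
    rwa [show a - (i + k) = a - i + -k by omega, show a - (j + k) = a - j + -k by omega]

/-- The least non-commuting distance is at least two thirds of the length. -/
theorem Good.two_le_three (hx : Good x p t) {a : ℕ} (hat : a < t)
    (hcl : ∀ i j : ℤ, i ≤ j → j < i + a → Commute (x i) (x j)) (hna : ¬ Commute (x 0) (x a)) :
    2 * t ≤ 3 * a := by
  by_contra hlt
  have ha : 1 ≤ a := by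
    by_contra h
    obtain rfl : a = 0 := by omega
    exact hna (Commute.refl _)
  set c := x 0 * x a * (x 0)⁻¹ * (x a)⁻¹ with hcdef
  have hbase : c ∈ W x ((1 : ℕ) : ℤ) (a - 1) := by
    have := hx.comm_mem 0 ha hat (mem_W le_rfl (by omega)) (mem_W (j := (a : ℤ)) (by omega) (by omega))
    simpa using this
  have key : ∀ l r : ℕ, 1 ≤ r → r + l ≤ a → c ∈ W x r l → False := by
    intro l
    induction l with
    | zero =>
      intro r _ _ hc
      have h0 : W x r 0 = ⊥ := Subgroup.card_eq_one.1 (by rw [hx.card _ _ (Nat.zero_le _), pow_zero])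
      rw [h0, Subgroup.mem_bot] at hc
      refine hna ?_
      show x 0 * x a = x a * x 0
      calc x 0 * x a = c * (x a * x 0) := by rw [hcdef]; group
        _ = _ := by rw [hc, one_mul]
    | succ l ih =>
      intro r hr hrl hc
      by_cases hrt : r + a < t
      · exact ih (r + 1) (by omega) (by omega) (by exact_mod_cast hx.shrink_low hcl hna hr hrl hrt hc hcdef)
      · -- the mirror image
        obtain ⟨r', hr'⟩ : ∃ r' : ℕ, r' + r + l = a := ⟨a - r - l, by omega⟩
        have hcl' : ∀ i j : ℤ, i ≤ j → j < i + a →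
            Commute ((fun j => x ((a : ℤ) - j)) i) ((fun j => x ((a : ℤ) - j)) j) :=
          fun i j h1 h2 => (hcl _ _ (by omega) (by omega)).symm
        have hna' : ¬ Commute ((fun j => x ((a : ℤ) - j)) 0) ((fun j => x ((a : ℤ) - j)) a) := by
          show ¬ Commute (x ((a : ℤ) - 0)) (x ((a : ℤ) - a))
          rw [sub_zero, sub_self]
          exact fun h => hna h.symm
        have hc' : c⁻¹ ∈ W (fun j => x ((a : ℤ) - j)) r' (l + 1) := by
          rw [W_reflect, show (a : ℤ) - r' - ((l + 1 : ℕ) : ℤ) + 1 = (r : ℤ) by omega]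
          exact Subgroup.inv_mem _ hc
        have h := (hx.reflect a).shrink_low hcl' hna' (r := r') (by omega) (by omega) (by omega) hc' (by
          show c⁻¹ = x ((a : ℤ) - 0) * x ((a : ℤ) - a) * (x ((a : ℤ) - 0))⁻¹ * (x ((a : ℤ) - a))⁻¹
          rw [sub_zero, sub_self, hcdef]
          group)
        rw [W_reflect, show (a : ℤ) - ((r' : ℤ) + 1) - (l : ℤ) + 1 = (r : ℤ) by omega] at h
        exact ih r hr (by omega) (by simpa using Subgroup.inv_mem _ h)
  exact key (a - 1) 1 le_rfl (by omega) hbase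

/-- An element of the first interval commuting with a longer interval. -/
theorem Good.bound (hx : Good x p t) (ht : 1 ≤ t) {n : ℕ} (hn : 1 ≤ n)
    (hcent : ∀ i : ℤ, 0 ≤ i → i < t → (∀ j : ℤ, -(n : ℤ) ≤ j → j < t → Commute (x i) (x j)) → False) :
    t ≤ 3 * n ∧ t ≠ 3 * n - 1 := by
  classical
  obtain ⟨a, hat, hcl, ha⟩ : ∃ a : ℕ, a ≤ t ∧ (∀ i j : ℤ, i ≤ j → j < i + a → Commute (x i) (x j)) ∧
      2 * t ≤ 3 * a := by
    have hshift : ∀ d : ℕ, Commute (x 0) (x d) → ∀ i j : ℤ, j = i + d → Commute (x i) (x j) := by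
      rintro d h i j rfl
      have := hx.shift _ _ i h
      rwa [zero_add, add_comm (d : ℤ) i] at this
    by_cases hab : ∃ d : ℕ, d < t ∧ ¬ Commute (x 0) (x d)
    · have hcl : ∀ i j : ℤ, i ≤ j → j < i + (Nat.find hab : ℕ) → Commute (x i) (x j) := by
        intro i j h1 h2
        refine hshift (j - i).toNat ?_ i j (by omega)
        by_contra hcon
        exact Nat.find_min hab (show (j - i).toNat < Nat.find hab by omega)
          ⟨by have := (Nat.find_spec hab).1; omega, hcon⟩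
      exact ⟨_, (Nat.find_spec hab).1.le, hcl,
        hx.two_le_three (Nat.find_spec hab).1 hcl (Nat.find_spec hab).2⟩
    · push Not at hab
      exact ⟨t, le_rfl, fun i j h1 h2 => hshift (j - i).toNat (hab _ (by omega)) i j (by omega), by omega⟩
  have h2a : 2 * a ≤ t + n := by
    by_contra h
    have hsym : ∀ i j : ℤ, i - j < a → j - i < a → Commute (x i) (x j) := fun i j h1 h2 => by
      rcases le_total i j with h3 | h3
      · exact hcl i j h3 (by omega)
      · exact (hcl j i h3 (by omega)).symm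
    exact hcent ((a : ℤ) - n - 1) (by omega) (by omega) fun j h1 h2 => hsym _ _ (by omega) (by omega)
  omega

end Cfsg.Agent.Solv.Window
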