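import Mathlib
import Cfsg.Agent.Lib.Solv.SimsWindow

/-!
# A subgroup meeting a conjugate in a normal subgroup of prime index

Sims's bound on the order of the subgroup.
-/

set_option autoImplicit false
set_option linter.style.haveILetI false

namespace Cfsg.Agent.Solv.Window

universe u

variable {G : Type u} [Group G]

/-- The conjugate of a subgroup by a power of `g`. -/
def cj (g : G) (z : ℤ) (H : Subgroup G) : Subgroup G := H.map (MulAut.conj (g ^ z)).toMonoidHom

theorem cj_mem {g : G} {z : ℤ} {H : Subgroup G} {a : G} : a ∈ cj g z H ↔ (g ^ z)⁻¹ * a * g ^ z ∈ H := by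
  rw [cj]
  constructor
  · rintro ⟨b, hb, rfl⟩
    show (g ^ z)⁻¹ * (g ^ z * b * (g ^ z)⁻¹) * g ^ z ∈ H
    rwa [show (g ^ z)⁻¹ * (g ^ z * b * (g ^ z)⁻¹) * g ^ z = b by group]
  · exact fun h => ⟨_, h, show g ^ z * ((g ^ z)⁻¹ * a * g ^ z) * (g ^ z)⁻¹ = a by group⟩

theorem cj_cj (g : G) (z w : ℤ) (H : Subgroup G) : cj g z (cj g w H) = cj g (z + w) H := by
  ext a
  rw [cj_mem, cj_mem, cj_mem, zpow_add]
  simp [mul_assoc]

theorem cj_zero (g : G) (H : Subgroup G) : cj g 0 H = H := by ext a; rw [cj_mem]; simp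

theorem cj_mono (g : G) (z : ℤ) {H K : Subgroup G} (h : H ≤ K) : cj g z H ≤ cj g z K := Subgroup.map_mono h

theorem cj_inf (g : G) (z : ℤ) (H K : Subgroup G) : cj g z (H ⊓ K) = cj g z H ⊓ cj g z K := by
  ext a; simp only [cj_mem, Subgroup.mem_inf]

theorem cj_sup (g : G) (z : ℤ) (H K : Subgroup G) : cj g z (H ⊔ K) = cj g z H ⊔ cj g z K :=
  Subgroup.map_sup _ _ _

theorem card_cj (g : G) (z : ℤ) (H : Subgroup G) : Nat.card (cj g z H) = Nat.card H :=
  (Nat.card_congr (H.equivMapOfInjective _ (MulAut.conj (g ^ z)).injective).toEquiv).symm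

/-- The chain of intersections of consecutive conjugates. -/
def Qc (P : Subgroup G) (g : G) : ℕ → Subgroup G
  | 0 => P
  | k + 1 => P ⊓ cj g (-1) (Qc P g k)

variable (P : Subgroup G) (g : G)

theorem Qc_succ_le : ∀ k, Qc P g (k + 1) ≤ Qc P g k
  | 0 => inf_le_left
  | k + 1 => inf_le_inf_left _ (cj_mono g _ (Qc_succ_le k))

theorem Qc_le (k : ℕ) : Qc P g k ≤ P := by cases k <;> simp [Qc]

theorem Qc_succ (k : ℕ) : Qc P g (k + 1) = Qc P g k ⊓ cj g (-1) (Qc P g k) :=
  le_antisymm (le_inf (Qc_succ_le P g k) inf_le_right) (inf_le_inf_right _ (Qc_le P g k))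

variable [Finite G] {p : ℕ} [hp : Fact p.Prime]

/-- The order is a power of the prime and the generators form a good sequence. -/
theorem exists_good (hN : ((P ⊓ cj g (-1) P).subgroupOf (cj g (-1) P)).Normal)
    (hidx : (P ⊓ cj g (-1) P).relIndex (cj g (-1) P) = p)
    (h1 : ∀ Q : Subgroup G, Q ≤ P → (Q.subgroupOf P).Normal → cj g 1 Q = Q → Q = ⊥) :
    ∃ (t : ℕ) (x : ℤ → G), 1 ≤ t ∧ Nat.card P = p ^ t ∧ Good x p t ∧ P = W x 0 t ∧
      ∀ z i : ℤ, x (i + z) = g ^ z * x i * (g ^ z)⁻¹ := by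
  classical
  set M := P ⊓ cj g (-1) P with hM
  have hstep : ∀ k, ((Qc P g (k + 1)).subgroupOf (cj g (-1) (Qc P g k))).Normal ∧
      ((Qc P g (k + 1)).relIndex (cj g (-1) (Qc P g k)) = 1 ∨
        (Qc P g (k + 1)).relIndex (cj g (-1) (Qc P g k)) = p) := by
    intro k
    set B := cj g (-1) (Qc P g k) with hB
    have hBP : B ≤ cj g (-1) P := cj_mono g _ (Qc_le P g k)
    have e : Qc P g (k + 1) = M ⊓ B := by
      rw [Qc, hM, ← hB, inf_assoc, inf_eq_right.2 hBP]
    have hn : (M.subgroupOf B).Normal := by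
      refine ⟨fun n hn b => ?_⟩
      have := hN.conj_mem ⟨n.1, hBP n.2⟩ hn ⟨b.1, hBP b.2⟩
      exact this
    refine ⟨by rwa [e, Subgroup.inf_subgroupOf_right], ?_⟩
    rw [e, Subgroup.inf_relIndex_right]
    refine (Nat.dvd_prime hp.out).1 ?_
    haveI := hN
    rw [← hidx, Subgroup.relIndex, Subgroup.relIndex, show M.subgroupOf B =
      (M.subgroupOf (cj g (-1) P)).comap (Subgroup.inclusion hBP) by ext; rfl, Subgroup.index_comap]
    exact Subgroup.relIndex_dvd_index_of_normal _ _
  have hcard : ∀ k, Nat.card (Qc P g k) =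
      (Qc P g (k + 1)).relIndex (cj g (-1) (Qc P g k)) * Nat.card (Qc P g (k + 1)) := by
    intro k
    rw [← card_cj g (-1) (Qc P g k), mul_comm, ← Subgroup.relIndex_bot_left (H := cj g (-1) (Qc P g k)),
      ← Subgroup.relIndex_bot_left (H := Qc P g (k + 1))]
    exact (Subgroup.relIndex_mul_relIndex _ _ _ bot_le inf_le_right).symm
  have hex : ∃ k, Nat.card (Qc P g (k + 1)) = Nat.card (Qc P g k) := by
    by_contra h
    push Not at h
    have : ∀ k, Nat.card (Qc P g k) + k ≤ Nat.card P := by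
      intro k
      induction k with
      | zero => simp [Qc]
      | succ k ih =>
        have := Subgroup.card_le_of_le (Qc_succ_le P g k)
        have := h k
        omega
    have h2 := this (Nat.card P + 1)
    omega
  set t := Nat.find hex with ht
  have hlt : ∀ k < t, (Qc P g (k + 1)).relIndex (cj g (-1) (Qc P g k)) = p := by
    intro k hk
    rcases (hstep k).2 with h | h
    · exact absurd (by rw [hcard k, h, one_mul]) (Nat.find_min hex hk)
    · exact h
  have hfix : Qc P g (t + 1) = Qc P g t := Subgroup.eq_of_le_of_card_ge (Qc_succ_le P g t) (Nat.find_spec hex).ge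
  set R := Qc P g t with hR
  have hRfix : cj g (-1) R = R := by
    have : R ≤ cj g (-1) R := by
      conv_lhs => rw [← hfix, Qc]
      exact inf_le_right
    exact (Subgroup.eq_of_le_of_card_ge this (by rw [card_cj])).symm
  have hRfix' : cj g 1 R = R := by
    conv_lhs => rw [← hRfix, cj_cj, add_neg_cancel, cj_zero]
  -- the chain is generated by two neighbouring members
  have hjoin : ∀ k, k + 1 < t → cj g (-1) (Qc P g k) = Qc P g (k + 1) ⊔ cj g (-1) (Qc P g (k + 1)) := by
    intro k hk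
    set A := Qc P g (k + 1) with hA
    have hA1 : A ≤ cj g (-1) (Qc P g k) := inf_le_right
    have hA2 : cj g (-1) A ≤ cj g (-1) (Qc P g k) := cj_mono g _ (Qc_succ_le P g k)
    have hne : ¬ cj g (-1) A ≤ A := by
      intro h
      refine Nat.find_min hex hk ?_
      rw [show Qc P g (k + 1 + 1) = A ⊓ cj g (-1) A from Qc_succ P g (k + 1), inf_eq_right.2 h, card_cj]
    have hd1 := Subgroup.relIndex_mul_relIndex A (A ⊔ cj g (-1) A) _ le_sup_left (sup_le hA1 hA2)
    rw [hlt k (by omega)] at hd1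
    refine le_antisymm ?_ (sup_le hA1 hA2)
    rcases (Nat.dvd_prime hp.out).1 (Dvd.intro _ hd1) with h | h
    · rw [Subgroup.relIndex_eq_one] at h
      exact absurd (le_sup_right.trans h) hne
    · rw [h, mul_right_eq_self₀] at hd1
      rcases hd1 with h2 | h2
      · exact Subgroup.relIndex_eq_one.1 h2
      · exact absurd h2 hp.out.ne_zero
  -- the fixed member is normal
  have hnorm : ∀ d k, k + d = t → cj g (-1) (Qc P g k) ≤ Subgroup.normalizer (R : Set G) := by
    intro d
    induction d with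
    | zero =>
      rintro k rfl
      rw [← hR, hRfix]
      exact Subgroup.le_normalizer
    | succ d ih =>
      intro k hk
      rcases d with _ | d
      · have hk' : k + 1 = t := by omega
        have h := (hstep k).1
        rw [hk', ← hR] at h
        have hle : R ≤ cj g (-1) (Qc P g k) := by
          rw [hR, ← hk']
          exact inf_le_right
        exact (Subgroup.normal_subgroupOf_iff_le_normalizer hle).1 h
      · have h2 := ih (k + 1) (by omega)
        have hinv : ∀ z : ℤ, cj g z R = R → ∀ H : Subgroup G, H ≤ Subgroup.normalizer (R : Set G) →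
            cj g z H ≤ Subgroup.normalizer (R : Set G) := by
          intro z hz H hH a ha
          rw [cj_mem] at ha
          have h3 := hH ha
          rw [Subgroup.mem_normalizer_iff] at h3 ⊢
          intro n
          have e : ∀ m, m ∈ R ↔ (g ^ z)⁻¹ * m * g ^ z ∈ R := fun m => by
            conv_lhs => rw [← hz]
            exact cj_mem
          rw [e n, e (a * n * a⁻¹), h3]
          constructor <;> intro hh <;> convert hh using 1 <;> group
        rw [hjoin k (by omega)]
        refine sup_le ?_ h2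
        have h3 := hinv 1 hRfix' _ h2
        rwa [cj_cj, add_neg_cancel, cj_zero] at h3
  have hPN : P ≤ Subgroup.normalizer (R : Set G) := by
    have h2 := hnorm t 0 (zero_add t)
    intro a ha
    rw [Subgroup.mem_normalizer_iff]
    intro n
    have hga : g⁻¹ * a * g ∈ Subgroup.normalizer (R : Set G) := h2 (by
      rw [cj_mem]
      simp only [zpow_neg_one, inv_inv]
      rwa [show g * (g⁻¹ * a * g) * g⁻¹ = a by group])
    rw [Subgroup.mem_normalizer_iff] at hga
    have e : ∀ m, m ∈ R ↔ g * m * g⁻¹ ∈ R := fun m => by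
      conv_lhs => rw [← hRfix]
      rw [cj_mem]
      simp
    have := hga (g⁻¹ * n * g)
    rw [e, e (g⁻¹ * a * g * (g⁻¹ * n * g) * (g⁻¹ * a * g)⁻¹)] at this
    convert this using 2 <;> group
  have hRbot : R = ⊥ := h1 R (Qc_le P g t)
    ((Subgroup.normal_subgroupOf_iff_le_normalizer (Qc_le P g t)).2 hPN) hRfix'
  -- orders along the chain
  have hord : ∀ d k, k + d = t → Nat.card (Qc P g k) = p ^ d := by
    intro d
    induction d with
    | zero => rintro k rfl; rw [← hR, hRbot, Subgroup.card_bot, pow_zero]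
    | succ d ih => intro k hk; rw [hcard k, hlt k (by omega), ih (k + 1) (by omega), pow_succ, mul_comm]
  have ht1 : 1 ≤ t := by
    by_contra h
    have h0 : t = 0 := by omega
    have e : Qc P g (0 + 1) = Qc P g 0 := by rw [← h0]; exact hfix
    have h2 : P = M := e.symm
    have h3 : cj g (-1) P ≤ P := le_of_le_of_eq (le_of_eq
      (Subgroup.eq_of_le_of_card_ge (h2.le.trans inf_le_right : P ≤ cj g (-1) P) (by rw [card_cj])).symm) rfl
    rw [hM, inf_eq_right.2 h3, Subgroup.relIndex_self] at hidx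
    exact hp.out.one_lt.ne hidx
  obtain ⟨y, hy⟩ : ∃ y : G, Qc P g (t - 1) = Subgroup.zpowers y := by
    haveI := isCyclic_of_prime_card (by rw [hord 1 (t - 1) (by omega), pow_one] : Nat.card (Qc P g (t - 1)) = p)
    exact ((Subgroup.isCyclic_iff_exists_zpowers_eq_top _).1 ‹_›).imp fun y hy => hy.symm
  set x : ℤ → G := fun z => g ^ z * y * (g ^ z)⁻¹ with hx
  have hxs : ∀ z i : ℤ, x (i + z) = g ^ z * x i * (g ^ z)⁻¹ := fun z i => by
    simp only [hx]; rw [add_comm i z, zpow_add]; group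
  have hWc : ∀ (z i : ℤ) (l : ℕ), W x (i + z) l = cj g z (W x i l) := by
    intro z i l
    rw [W, W, cj, MonoidHom.map_closure, ← Set.image_comp]
    congr 1
    ext a
    constructor
    · rintro ⟨j, ⟨j1, j2⟩, rfl⟩
      exact ⟨j - z, ⟨by omega, by omega⟩, (hxs z (j - z)).symm.trans (by rw [sub_add_cancel])⟩
    · rintro ⟨j, ⟨j1, j2⟩, rfl⟩
      exact ⟨j + z, ⟨by omega, by omega⟩, hxs z j⟩
  have hWQ : ∀ d k, k + (d + 1) = t → Qc P g k = W x 0 (d + 1) := by
    intro d
    induction d with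
    | zero =>
      intro k hk
      obtain rfl : k = t - 1 := by omega
      rw [hy, Subgroup.zpowers_eq_closure, W]
      congr 1
      ext a
      constructor
      · rintro rfl; exact ⟨0, ⟨le_rfl, by norm_num⟩, by simp [hx]⟩
      · rintro ⟨j, ⟨j1, j2⟩, rfl⟩
        obtain rfl : j = 0 := by omega
        simp [hx]
    | succ d ih =>
      intro k hk
      have e := congrArg (cj g 1) (hjoin k (by omega))
      rw [cj_sup, cj_cj, cj_cj, add_neg_cancel, cj_zero, cj_zero, ih (k + 1) (by omega), ← hWc] at e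
      rw [e, zero_add]
      refine le_antisymm (sup_le (W_mono x (by omega) (by omega)) (W_mono x le_rfl (by omega))) ?_
      rw [W_split]
      refine sup_le ?_ (le_sup_of_le_left (W_mono x (by omega) (by omega)))
      exact le_sup_of_le_right ((Subgroup.closure_le _).2 (Set.singleton_subset_iff.2 (mem_W le_rfl (by omega))))
  refine ⟨t, x, ht1, by simpa [Qc] using hord t 0 (zero_add t), ⟨fun i l hl => ?_, fun i j k h => ?_⟩, ?_, hxs⟩
  · rw [show W x i l = cj g i (W x 0 l) by rw [← hWc, zero_add], card_cj]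
    rcases l with _ | l
    · simp [W]
    · rw [← hWQ l (t - (l + 1)) (by omega), hord (l + 1) _ (by omega)]
  · rw [hxs k i, hxs k j]
    exact h.map (MulAut.conj (g ^ k)).toMonoidHom
  · obtain ⟨d, hd⟩ : ∃ d, d + 1 = t := ⟨t - 1, by omega⟩
    rw [← hd, ← hWQ d 0 (by omega), Qc]

/-- Sims's bound. -/
theorem sims (hN : ((P ⊓ cj g (-1) P).subgroupOf (cj g (-1) P)).Normal)
    (hidx : (P ⊓ cj g (-1) P).relIndex (cj g (-1) P) = p) {n : ℕ} (hn : 1 ≤ n) (K : Subgroup G)
    (hK : K ≤ ⨆ i ∈ Finset.range (n + 1), cj g (-(i : ℤ)) P)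
    (h1 : ∀ Q : Subgroup G, Q ≤ P → (Q.subgroupOf P).Normal → cj g 1 Q = Q → Q = ⊥)
    (h2 : ∀ z ∈ P, z ∈ K → (∀ k ∈ K, k * z = z * k) → z = 1) (hPK : P ≤ K) :
    ∃ t : ℕ, Nat.card P = p ^ t ∧ 1 ≤ t ∧ t ≤ 3 * n ∧ t ≠ 3 * n - 1 := by
  obtain ⟨t, x, ht, hcard, hx, hP, hxs⟩ := exists_good P g hN hidx h1
  obtain ⟨hb1, hb2⟩ := hx.bound ht hn fun i hi1 hi2 hcomm => by
    have hxP : x i ∈ P := hP ▸ mem_W hi1 (by omega)
    have hKW : K ≤ W x (-(n : ℤ)) (n + t) := by
      refine hK.trans (iSup₂_le fun m hm => ?_)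
      intro a ha
      rw [cj_mem, hP] at ha
      have hW : ∀ b ∈ W x 0 t, g ^ (-(m : ℤ)) * b * (g ^ (-(m : ℤ)))⁻¹ ∈ W x (-(n : ℤ)) (n + t) := by
        intro b hb
        refine (Subgroup.closure_le ((W x (-(n : ℤ)) (n + t)).comap
          (MulAut.conj (g ^ (-(m : ℤ)))).toMonoidHom)).2 ?_ hb
        rintro _ ⟨j, ⟨j1, j2⟩, rfl⟩
        show g ^ (-(m : ℤ)) * x j * (g ^ (-(m : ℤ)))⁻¹ ∈ W x (-(n : ℤ)) (n + t)
        rw [← hxs]
        have := Finset.mem_range.1 hm
        exact mem_W (by omega) (by push_cast; omega)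
      have := hW _ ha
      simpa [mul_assoc] using this
    have h1x : x i = 1 := h2 _ hxP (hPK hxP) fun k hk => (commute_W (fun j j1 j2 =>
      (hcomm j j1 (by push_cast at j2; omega)).symm) (hKW hk)).eq
    have h0 := hx.card i 1 ht
    have hb : W x i 1 = ⊥ := by
      rw [W, Subgroup.closure_eq_bot_iff]
      rintro _ ⟨j, ⟨j1, j2⟩, rfl⟩
      obtain rfl : j = i := by push_cast at j2; omega
      exact h1x
    rw [hb, Subgroup.card_bot, pow_one] at h0
    exact hp.out.one_lt.ne h0
  exact ⟨t, hcard, ht, hb1, hb2⟩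

end Cfsg.Agent.Solv.Window
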