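import Cfsg.Agent.S4441
import Cfsg.Agent.Lib.Char.LocalRing
import Cfsg.Agent.Lib.Char.Ortho
import Cfsg.Agent.Lib.Char.Central
import Cfsg.Agent.Lib.Fusion.NPC

/-!
# Simple groups with a Sylow subgroup of order `p` are not too small

A non-abelian simple group with a Sylow subgroup of order `p > 2` has order at least `p (p² - 1) / 2`.
-/

set_option autoImplicit false
set_option linter.style.haveILetI false

open Cfsg Cfsg.Agent.Char
open scoped ComplexConjugate

namespace Cfsg.Agent.Solv.SmallSimple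

universe u

variable {G : Type u} [Group G] [Fintype G] [IsSimpleGroup G]

theorem eq_one_of_linear (hna : ¬ IsMulCommutative G) (χ : IrrCharacter G)
    (h : (χ : G → ℂ) 1 = 1) : (χ : G → ℂ) = fun _ => 1 := by
  obtain ⟨l, hl⟩ := exists_hom_of_degree_one (irr_isCharacter χ.2) h
  rcases IsSimpleGroup.eq_bot_or_eq_top_of_normal l.ker inferInstance with hk | hk
  · exfalso
    refine hna ⟨⟨fun a b => (MonoidHom.ker_eq_bot_iff l).1 hk ?_⟩⟩
    rw [map_mul, map_mul, mul_comm]
  · rw [hl]
    funext g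
    rw [(MonoidHom.mem_ker).1 (hk.ge (Subgroup.mem_top g)), Units.val_one]

theorem false_of_first_power {p : ℕ} [hp : Fact p.Prime] (hna : ¬ IsMulCommutative G) (hodd : p ≠ 2)
    (P : Sylow p G) (hP : Nat.card P = p) (hn : ¬ (P : Subgroup G).Normal) :
    p * (p ^ 2 - 1) ≤ 2 * Nat.card G := by
  classical
  by_contra hsmall
  rw [not_le] at hsmall
  set N := Subgroup.normalizer ((P : Subgroup G) : Set G) with hN
  set C := Subgroup.centralizer ((P : Subgroup G) : Set G) with hC
  set n := N.index with hndef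
  have hnmod : n ≡ 1 [MOD p] := by
    have h := card_sylow_modEq_one p G
    rwa [Sylow.card_eq_index_normalizer P] at h
  have hn1 : n ≠ 1 := fun h => hn (Subgroup.normalizer_eq_top_iff.1 (Subgroup.index_eq_one.1 h))
  have hp3 : 3 ≤ p := by have := hp.out.two_le; omega
  have hnp : p + 1 ≤ n := by
    have hpos : 1 ≤ n := Nat.pos_of_ne_zero Subgroup.index_ne_zero_of_finite
    obtain ⟨k, hk⟩ := (Nat.modEq_iff_dvd' hpos).1 hnmod.symm
    rcases k with _ | k
    · omega
    · rw [Nat.mul_succ] at hk; omega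
  have hPC : (P : Subgroup G) ≤ C := by
    haveI : IsCyclic (P : Subgroup G) := isCyclic_of_prime_card hP
    letI : CommGroup (P : Subgroup G) := IsCyclic.commGroup
    intro x hx
    refine Subgroup.mem_centralizer_iff.2 fun y hy => ?_
    exact congrArg Subtype.val (mul_comm (⟨y, hy⟩ : (P : Subgroup G)) ⟨x, hx⟩)
  have hCN : C ≤ N := Subgroup.centralizer_le_normalizer _
  obtain ⟨hc, hh⟩ : p ∣ Nat.card C := hP ▸ Subgroup.card_dvd_of_le hPC
  set e := C.relIndex N with he
  set f := hc * e with hf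
  have hNcard : Nat.card N = p * f := by
    have h := (C.subgroupOf N).card_mul_index
    rw [Nat.card_congr (Subgroup.subgroupOfEquivOfLe hCN).toEquiv, hh] at h
    rw [← h, hf, he]
    exact (mul_assoc _ _ _)
  have hG : Nat.card G = p * f * n := by rw [← hNcard, hndef, N.card_mul_index]
  have hhpos : 0 < hc := by
    rcases Nat.eq_zero_or_pos hc with h | h
    · exact absurd hh (by rw [h, Nat.mul_zero]; exact Nat.card_pos.ne')
    · exact h
  have hbound : 2 * (f * n) < p ^ 2 - 1 := by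
    refine Nat.lt_of_mul_lt_mul_left (a := p) ?_
    rw [show p * (2 * (f * n)) = 2 * (p * f * n) by ring, ← hG]
    exact hsmall
  have he2 : 2 ≤ e := by
    by_contra hlt
    have he1 : e = 1 := by
      have : e ≠ 0 := Subgroup.index_ne_zero_of_finite
      omega
    have hle : N ≤ C := Subgroup.relIndex_eq_one.1 he1
    obtain ⟨Q, K, hKn, hK⟩ := Fusion.hnpc_of_normalizer_le_centralizer P hle
    rcases IsSimpleGroup.eq_bot_or_eq_top_of_normal K hKn with hKb | hKt
    · have h1 := hK.card_mul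
      rw [hKb, Subgroup.card_bot] at h1
      have h2 : Nat.card Q = p := (Nat.card_congr (Sylow.equiv Q P).toEquiv).trans hP
      rw [hG] at h1
      have hf0 : 0 < f := by rw [hf]; exact Nat.mul_pos hhpos (by omega)
      have h3 : p * (p + 1) ≤ p * f * n := by
        refine Nat.mul_le_mul ?_ hnp
        exact Nat.le_mul_of_pos_right p hf0
      have h4 : p * 1 < p * (p + 1) := Nat.mul_lt_mul_of_pos_left (by omega) (by omega)
      omega
    · have h1 := hK.card_mul
      rw [hKt, Subgroup.card_top] at h1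
      have h2 : Nat.card Q = p := (Nat.card_congr (Sylow.equiv Q P).toEquiv).trans hP
      have hGpos : 0 < Nat.card G := Nat.card_pos
      rw [h2] at h1
      nlinarith
  have hep : e ∣ p - 1 := by
    haveI : IsCyclic (P : Subgroup G) := isCyclic_of_prime_card hP
    have key := Subgroup.card_dvd_of_injective _
      (QuotientGroup.kerLift_injective (P : Subgroup G).normalizerMonoidHom)
    rw [Subgroup.normalizerMonoidHom_ker, ← Subgroup.index, IsCyclic.card_mulAut, hP,
      Nat.totient_prime hp.out] at key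
    exact key
  have hef : e ≤ f := by rw [hf]; exact Nat.le_mul_of_pos_left _ hhpos
  have hp21 : p ^ 2 - 1 = (p + 1) * (p - 1) := by
    rw [show p ^ 2 - 1 = p ^ 2 - 1 ^ 2 by norm_num, Nat.sq_sub_sq]
  have hfsmall : 2 * f < p - 1 := by
    refine Nat.lt_of_mul_lt_mul_left (a := p + 1) ?_
    rw [← hp21]
    calc (p + 1) * (2 * f) = 2 * (f * (p + 1)) := by ring
      _ ≤ 2 * (f * n) := by gcongr
      _ < _ := hbound
  obtain ⟨M, hM⟩ := exists_pModular hp.out
  obtain ⟨X, Y, hXY, hdis, hcX, hcY, εX, ε, hX, hε, hY, hreg, hrel⟩ :=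
    S4441.result p M hM hodd P hP e rfl
  have hdegdvd : ∀ χ : IrrCharacter G, ¬ p ∣ deg (χ : G → ℂ) → deg (χ : G → ℂ) ∣ f * n := by
    intro χ hχ
    have h := deg_dvd_card χ.2
    rw [hG, mul_assoc] at h
    exact ((Nat.Prime.coprime_iff_not_dvd hp.out).2 hχ).symm.dvd_of_dvd_mul_left h
  have hcast : ∀ χ : IrrCharacter G, (χ : G → ℂ) 1 = (deg (χ : G → ℂ) : ℂ) :=
    fun χ => char_one_eq_deg (irr_isCharacter χ.2)
  set χ0 : IrrCharacter G := ⟨fun _ => 1, isIrrCharacter_one⟩ with hχ0
  have hdeg0 : deg (χ0 : G → ℂ) = 1 := by simp [deg, hχ0]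
  have hne0 : ∀ χ : IrrCharacter G, χ ≠ χ0 → 2 ≤ deg (χ : G → ℂ) := by
    intro χ hne
    by_contra h
    have h1 := deg_pos χ.2
    have hd1 : deg (χ : G → ℂ) = 1 := by omega
    exact hne (Subtype.ext ((eq_one_of_linear hna χ (by rw [hcast, hd1, Nat.cast_one])).trans rfl))
  have ht2 : 2 ≤ (p - 1) / e := by
    rw [Nat.le_div_iff_mul_le (by omega)]; omega
  have hone : ¬ p ∣ orderOf (1 : G) := by rw [orderOf_one]; exact hp.out.not_dvd_one
  have h0X : χ0 ∈ X := by
    have h0B : χ0 ∈ X ∪ Y := by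
      rw [← hXY]; exact sameBlock_refl hM.2.1.isPrime _
    refine h0B.resolve_right fun h0Y => ?_
    obtain ⟨θ, hθ, hθ0⟩ := Set.exists_ne_of_one_lt_ncard (s := Y)
      (by rw [← Nat.card_coe_set_eq, hcY]; omega) χ0
    have h1 := hreg θ hθ χ0 h0Y 1 hone
    rw [hcast, hcast, hdeg0, Nat.cast_inj] at h1
    have := hne0 θ hθ0
    omega
  -- the non-exceptional characters
  have hXdeg : ∀ χ ∈ X, εX χ = 1 ∧ (χ ≠ χ0 → deg (χ : G → ℂ) = n) := by
    intro χ hχ
    obtain ⟨hs, hcong, -⟩ := hX χ hχ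
    change (deg (χ : G → ℂ) : ℤ) ≡ εX χ [ZMOD p] at hcong
    by_cases h0 : χ = χ0
    · refine ⟨hs.resolve_right fun hm => ?_, fun h => absurd h0 h⟩
      rw [h0, hdeg0] at hcong
      rw [← h0, hm] at hcong
      obtain ⟨c, hc'⟩ := hcong.dvd
      have : (p : ℤ) ∣ 2 := ⟨-c, by push_cast at hc'; linarith⟩
      have := Nat.le_of_dvd two_pos (Int.natCast_dvd_natCast.1 (by exact_mod_cast this))
      omega
    · have hd2 := hne0 χ h0
      set d := deg (χ : G → ℂ) with hd
      have hndvd : ¬ p ∣ d := by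
        intro hdvd
        have h' : (p : ℤ) ∣ εX χ := (Int.modEq_zero_iff_dvd).1
          ((hcong.symm.trans (Int.modEq_zero_iff_dvd.2 (by exact_mod_cast hdvd))))
        have := Int.le_of_dvd one_pos (by rcases hs with h | h <;> simpa [h] using h')
        omega
      obtain ⟨b, hb⟩ := hdegdvd χ hndvd
      have hdp : p - 1 ≤ d := by
        by_contra hlt
        rcases hs with h | h
        · rw [h] at hcong
          obtain ⟨c, hc'⟩ := hcong.symm.dvd
          have h1 : (p : ℤ) ≤ (d : ℤ) - 1 := by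
            refine Int.le_of_dvd (by omega) ⟨c, hc'⟩
          omega
        · rw [h] at hcong
          obtain ⟨c, hc'⟩ := hcong.symm.dvd
          have h1 : (p : ℤ) ≤ (d : ℤ) - -1 := Int.le_of_dvd (by omega) ⟨c, hc'⟩
          omega
      have hbp : 2 * b < p + 1 := by
        refine Nat.lt_of_mul_lt_mul_left (a := p - 1) ?_
        calc (p - 1) * (2 * b) = 2 * ((p - 1) * b) := by ring
          _ ≤ 2 * (d * b) := by gcongr
          _ = 2 * (f * n) := by rw [hb]
          _ < _ := by rw [mul_comm (p - 1), ← hp21]; exact hbound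
      have hfb : (εX χ) * b ≡ f [ZMOD p] := by
        have h1 : ((d : ℤ) * b) ≡ εX χ * b [ZMOD p] := hcong.mul_right _
        have h2 : ((f : ℤ) * n) ≡ f * 1 [ZMOD p] :=
          Int.ModEq.mul_left _ (by exact_mod_cast Int.natCast_modEq_iff.2 hnmod)
        rw [mul_one] at h2
        refine h1.symm.trans (Int.ModEq.trans ?_ h2)
        rw [show (d : ℤ) * b = f * n by exact_mod_cast hb.symm]
      have hbpos : 0 < b := by
        rcases Nat.eq_zero_or_pos b with h | h
        · rw [h, Nat.mul_zero] at hb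
          have : 0 < f * n := Nat.mul_pos (by omega) (by omega)
          omega
        · exact h
      rcases hs with h | h
      · rw [h, one_mul] at hfb
        have hbf : b = f :=
          Nat.ModEq.eq_of_lt_of_lt (Int.natCast_modEq_iff.1 hfb) (by omega) (by omega)
        exact ⟨h, fun _ => Nat.eq_of_mul_eq_mul_right hbpos (by rw [← hb, hbf]; ring)⟩
      · exfalso
        rw [h, neg_one_mul] at hfb
        obtain ⟨c, hc'⟩ := hfb.dvd
        have h1 : (p : ℤ) ≤ (f : ℤ) + b := Int.le_of_dvd (by omega) ⟨c, by linarith⟩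
        omega
  -- the exceptional degree
  obtain ⟨θ, hθ⟩ : Y.Nonempty := Set.nonempty_of_ncard_ne_zero
    (by rw [← Nat.card_coe_set_eq, hcY]; omega)
  have hsum := hrel θ hθ 1 hone
  rw [finsum_mem_eq_finite_toFinset_sum _ X.toFinite, hcast] at hsum
  rw [← Finset.add_sum_erase _ _ (X.toFinite.mem_toFinset.2 h0X)] at hsum
  rw [Finset.sum_congr rfl (g := fun _ => (n : ℂ)) (fun χ hχ => by
      rw [Finset.mem_erase, X.toFinite.mem_toFinset] at hχ
      rw [(hXdeg χ hχ.2).1, hcast, (hXdeg χ hχ.2).2 hχ.1, Int.cast_one, one_mul]),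
    Finset.sum_const, Finset.card_erase_of_mem (X.toFinite.mem_toFinset.2 h0X),
    ← Set.ncard_eq_toFinset_card, ← Nat.card_coe_set_eq, hcX, (hXdeg χ0 h0X).1, hcast, hdeg0,
    nsmul_eq_mul, Int.cast_one, Nat.cast_one, one_mul] at hsum
  set x := deg (θ : G → ℂ) with hx
  have hsumZ : ε * (x : ℤ) = ((1 + (e - 1) * n : ℕ) : ℤ) := by
    have : ((ε * (x : ℤ) : ℤ) : ℂ) = (((1 + (e - 1) * n : ℕ) : ℤ) : ℂ) := by
      push_cast; exact hsum
    exact_mod_cast this
  have hε1 : ε = 1 := hε.resolve_right fun h => by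
    rw [h] at hsumZ
    have : (0 : ℤ) < ((1 + (e - 1) * n : ℕ) : ℤ) := by exact_mod_cast Nat.add_pos_left one_pos _
    omega
  have hxval : x = 1 + (e - 1) * n := by
    rw [hε1, one_mul] at hsumZ; exact_mod_cast hsumZ
  have hcongθ := hY θ hθ
  change (x : ℤ) ≡ ε * (e : ℤ) [ZMOD p] at hcongθ
  rw [hε1, one_mul] at hcongθ
  have hxe : x ≡ e [MOD p] := Int.natCast_modEq_iff.1 hcongθ
  have hxnd : ¬ p ∣ x := fun h => by
    have h1 : e ≡ 0 [MOD p] := hxe.symm.trans (Nat.modEq_zero_iff_dvd.2 h)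
    have := Nat.ModEq.eq_of_lt_of_lt h1 (by omega) hp.out.pos
    omega
  obtain ⟨b, hb⟩ := hdegdvd θ hxnd
  rw [← hx] at hb
  have hxbig : p + 1 ≤ x := by
    rw [hxval]
    have : 1 * n ≤ (e - 1) * n := Nat.mul_le_mul_right n (by omega)
    omega
  have hbp : 2 * b < p - 1 := by
    refine Nat.lt_of_mul_lt_mul_left (a := p + 1) ?_
    calc (p + 1) * (2 * b) = 2 * ((p + 1) * b) := by ring
      _ ≤ 2 * (x * b) := by gcongr
      _ = 2 * (f * n) := by rw [hb]
      _ < _ := by rw [← hp21]; exact hbound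
  have hbh : b = hc := by
    have h1 : x * b ≡ e * b [MOD p] := hxe.mul_right b
    have h2 : f * n ≡ f * 1 [MOD p] := hnmod.mul_left f
    rw [mul_one] at h2
    rw [← hb] at h1
    have h3 : e * b ≡ e * hc [MOD p] := by
      have := h1.symm.trans h2
      rwa [hf, mul_comm hc e] at this
    have hcop : Nat.gcd p e = 1 := (Nat.Prime.coprime_iff_not_dvd hp.out).2 fun h => by
      have := Nat.le_of_dvd (by omega) h
      omega
    have hle : hc ≤ f := by rw [hf]; exact Nat.le_mul_of_pos_right _ (by omega)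
    exact Nat.ModEq.eq_of_lt_of_lt (Nat.ModEq.cancel_left_of_coprime hcop h3) (by omega) (by omega)
  rw [hbh, hf, hxval] at hb
  have hb' : e * n = 1 + (e - 1) * n :=
    Nat.eq_of_mul_eq_mul_left hhpos (by rw [← mul_assoc, hb, mul_comm])
  have he' : e * n = n + (e - 1) * n := by
    obtain ⟨e', he''⟩ : ∃ e', e = e' + 1 := ⟨e - 1, by omega⟩
    rw [he'', Nat.add_sub_cancel, Nat.add_mul, one_mul, add_comm]
  omega

end Cfsg.Agent.Solv.SmallSimple
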