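import Mathlib
import Cfsg.Agent.Lib.Solv.Coprime

/-!
Soft subgroups of `p`-groups: abelian self-centralizing subgroups of index `p` in their normalizer.
-/

set_option autoImplicit false
set_option linter.style.haveILetI false

namespace Cfsg.Agent.Solv.SoftSub

open scoped commutatorElement

universe u

variable {P : Type u} [Group P]

/-- An abelian self-centralizing subgroup of index `p` in its normalizer, and of index at least `p ^ 2`. -/
structure Soft (p : ℕ) (E : Subgroup P) : Prop where
  ab : IsMulCommutative E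
  cen : Subgroup.centralizer (E : Set P) ≤ E
  idx : E.relIndex (Subgroup.normalizer (E : Set P)) = p
  big : p ^ 2 ≤ E.index

variable [Finite P] {p : ℕ} [hp : Fact p.Prime]

omit hp in
theorem growth (hP : IsPGroup p P) [Fact p.Prime] {M K : Subgroup P} (h : M < K) :
    M < K ⊓ Subgroup.normalizer (M : Set P) := by
  haveI : Group.IsNilpotent K := (hP.to_subgroup K).isNilpotent
  have h1 : M.subgroupOf K < ⊤ := lt_top_iff_ne_top.2 fun e => h.not_ge (Subgroup.subgroupOf_eq_top.1 e)
  have h2 := Group.normalizerCondition_of_isNilpotent (M.subgroupOf K) h1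
  obtain ⟨y, hy, hyM⟩ := SetLike.exists_of_lt h2
  refine lt_of_le_of_ne (le_inf h.le Subgroup.le_normalizer) fun e => hyM ?_
  rw [Subgroup.mem_subgroupOf, e]
  refine Subgroup.mem_inf.2 ⟨y.2, Subgroup.mem_normalizer_iff.2 fun z => ?_⟩
  by_cases hz : z ∈ K
  · exact Subgroup.mem_normalizer_iff.1 hy ⟨z, hz⟩
  · refine ⟨fun hz' => absurd (h.le hz') hz, fun hz' => absurd ?_ hz⟩
    have h3 := mul_mem (mul_mem (inv_mem y.2) (h.le hz')) y.2
    rwa [show (y : P)⁻¹ * ((y : P) * z * (y : P)⁻¹) * y = z by group] at h3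

/-- Between a subgroup and an overgroup in which it has prime index there is nothing. -/
theorem eq_of_relIndex_prime {A B C : Subgroup P} (hAB : A.relIndex B = p) (h : A < C) (hC : C ≤ B) : C = B := by
  have h1 := Subgroup.relIndex_mul_relIndex A C B h.le hC
  rw [hAB] at h1
  rcases (Nat.dvd_prime hp.out).1 (Dvd.intro _ h1 : A.relIndex C ∣ p) with h2 | h2
  · exact absurd (Subgroup.relIndex_eq_one.1 h2) h.not_ge
  · rw [h2] at h1
    exact le_antisymm hC (Subgroup.relIndex_eq_one.1 (mul_eq_left₀ hp.out.ne_zero |>.1 h1))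

theorem normalizer_le_of_lt (hP : IsPGroup p P) {M K : Subgroup P}
    (hM : M.relIndex (Subgroup.normalizer (M : Set P)) = p) (h : M < K) : Subgroup.normalizer (M : Set P) ≤ K :=
  (eq_of_relIndex_prime hM (growth hP h) inf_le_right).ge.trans inf_le_left

theorem chain (hP : IsPGroup p P) {E : Subgroup P}
    (hA : ∀ K : Subgroup P, E ≤ K → K ≠ ⊤ → K.relIndex (Subgroup.normalizer (K : Set P)) = p)
    (K L : Subgroup P) (hK : E ≤ K) (hL : E ≤ L) : K ≤ L ∨ L ≤ K := by
  by_contra hno
  push Not at hno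
  have h1 : K ⊓ L < K := lt_of_le_of_ne inf_le_left fun e => hno.1 (e ▸ inf_le_right)
  have h2 : K ⊓ L < L := lt_of_le_of_ne inf_le_right fun e => hno.2 (e ▸ inf_le_left)
  have h3 : K ⊓ L ≠ ⊤ := fun e => hno.1 (le_trans le_top (e ▸ inf_le_right))
  have hN := hA _ (le_inf hK hL) h3
  have h4 : Subgroup.normalizer ((K ⊓ L : Subgroup P) : Set P) ≤ K ⊓ L :=
    le_inf (normalizer_le_of_lt hP hN h1) (normalizer_le_of_lt hP hN h2)
  rw [Subgroup.relIndex_eq_one.2 h4] at hN
  exact hp.out.ne_one hN.symm

theorem exists_central (hP : IsPGroup p P) [Nontrivial P] :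
    ∃ W : Subgroup P, W ≤ Subgroup.center P ∧ W ≠ ⊥ := by
  haveI := hP.center_nontrivial
  exact ⟨Subgroup.center P, le_rfl, (Subgroup.nontrivial_iff_ne_bot _).1 inferInstance⟩

omit [Finite P] hp in
theorem Soft.lt_normalizer {E : Subgroup P} (hS : Soft p E) [Fact p.Prime] : E < Subgroup.normalizer (E : Set P) := by
  refine lt_of_le_of_ne Subgroup.le_normalizer fun e => ?_
  have := hS.idx
  rw [← e, Subgroup.relIndex_self] at this
  exact (Fact.out : p.Prime).ne_one this.symm

/-- The subgroups conjugate to `E` under the normalizer of its normalizer are few. -/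
theorem base (hP : IsPGroup p P) {E : Subgroup P} (hS : Soft p E)
    (htop : Subgroup.normalizer (E : Set P) ≠ ⊤) :
    (Subgroup.normalizer (E : Set P)).relIndex
        (Subgroup.normalizer ((Subgroup.normalizer (E : Set P) : Subgroup P) : Set P)) = p ∧
      ∀ u ∈ Subgroup.normalizer ((Subgroup.normalizer (E : Set P) : Subgroup P) : Set P),
        u ∉ Subgroup.normalizer (E : Set P) →
        E ⊔ E.map (MulAut.conj u).toMonoidHom = Subgroup.normalizer (E : Set P) ∧
          E ⊓ E.map (MulAut.conj u).toMonoidHom ≤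
            Subgroup.centralizer ((Subgroup.normalizer (E : Set P) : Subgroup P) : Set P) ∧
          ⁅Subgroup.normalizer (E : Set P), Subgroup.normalizer (E : Set P)⁆ ≤ E ⊓ E.map (MulAut.conj u).toMonoidHom := by
  classical
  obtain ⟨N, hN⟩ : ∃ N, N = Subgroup.normalizer (E : Set P) := ⟨_, rfl⟩
  rw [← hN] at htop ⊢
  obtain ⟨N2, hN2⟩ : ∃ N2, N2 = Subgroup.normalizer (N : Set P) := ⟨_, rfl⟩
  rw [← hN2]
  have hidx : E.relIndex N = p := hN ▸ hS.idx
  have hEN : E < N := hN ▸ hS.lt_normalizer
  have hEcard : Nat.card N = p * Nat.card E := by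
    have := Subgroup.relIndex_mul_relIndex ⊥ E N bot_le hEN.le
    rw [Subgroup.relIndex_bot_left, Subgroup.relIndex_bot_left, hidx] at this
    rw [← this, mul_comm]
  let c : P → Subgroup P := fun g => E.map (MulAut.conj g).toMonoidHom
  have hccard : ∀ g, Nat.card (c g) = Nat.card E := fun g => Subgroup.card_map_of_injective (MulAut.conj g).injective
  have hcN : ∀ g ∈ N2, c g ≤ N := by
    rintro g hg _ ⟨e, he, rfl⟩
    rw [hN2] at hg
    exact (Subgroup.mem_normalizer_iff.1 hg e).1 (hEN.le he)
  have hfix : ∀ g, c g = E → g ∈ N := fun g hg => by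
    rw [hN, Subgroup.mem_normalizer_iff]
    intro z
    constructor
    · intro hz; rw [← hg]; exact ⟨z, hz, rfl⟩
    · intro hz
      obtain ⟨e, he, h⟩ := hg.ge hz
      rwa [← (MulAut.conj g).injective h]
  have hcab : ∀ g, ∀ a ∈ c g, ∀ b ∈ c g, a * b = b * a := by
    rintro g _ ⟨a, ha, rfl⟩ _ ⟨b, hb, rfl⟩
    rw [← map_mul, ← map_mul]
    exact congrArg _ (congrArg Subtype.val (hS.ab.is_comm.comm (⟨a, ha⟩ : E) ⟨b, hb⟩))
  have hccen : ∀ g, ∀ z, (∀ a ∈ c g, a * z = z * a) → z ∈ c g := by
    intro g z hz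
    refine ⟨g⁻¹ * z * g, hS.cen (Subgroup.mem_centralizer_iff.2 fun e he => ?_), by simp [mul_assoc]⟩
    have h := hz _ ⟨e, he, rfl⟩
    simp only [MulEquiv.coe_toMonoidHom, MulAut.conj_apply] at h
    calc e * (g⁻¹ * z * g) = g⁻¹ * (g * e * g⁻¹ * z) * g := by group
      _ = g⁻¹ * (z * (g * e * g⁻¹)) * g := by rw [h]
      _ = _ := by group
  have hsup : ∀ g ∈ N2, g ∉ N → E ⊔ c g = N := fun g hg hgN => by
    refine eq_of_relIndex_prime hidx (lt_of_le_of_ne le_sup_left fun e => hgN (hfix g ?_)) (sup_le hEN.le (hcN g hg))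
    exact Subgroup.eq_of_le_of_card_ge (e ▸ le_sup_right) (hccard g).ge
  have hcentral : ∀ g ∈ N2, g ∉ N → E ⊓ c g ≤ Subgroup.centralizer (N : Set P) := by
    intro g hg hgN z hz
    rw [← hsup g hg hgN]
    have h : E ⊔ c g ≤ Subgroup.centralizer {z} := sup_le
      (fun a ha => Subgroup.mem_centralizer_singleton_iff.2
        (congrArg Subtype.val (hS.ab.is_comm.comm (⟨a, ha⟩ : E) ⟨z, hz.1⟩)))
      (fun a ha => Subgroup.mem_centralizer_singleton_iff.2 (hcab g a ha z hz.2))
    exact Subgroup.mem_centralizer_iff.2 fun a ha => Subgroup.mem_centralizer_singleton_iff.1 (h ha)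
  obtain ⟨Z, hZ⟩ : ∃ Z, Z = N ⊓ Subgroup.centralizer (N : Set P) := ⟨_, rfl⟩
  have hZc : ∀ g ∈ N2, Z ≤ c g := by
    intro g hg z hz
    rw [hZ] at hz
    exact hccen g z fun a ha => Subgroup.mem_centralizer_iff.1 hz.2 a (hcN g hg ha)
  have hc1 : c 1 = E := by
    show E.map (MulAut.conj (1 : P)).toMonoidHom = E
    ext z
    constructor
    · rintro ⟨e, he, rfl⟩
      simpa using he
    · exact fun hz => ⟨z, hz, by simp⟩
  have hnorm : ∀ A : Subgroup P, A ≤ N → A.relIndex N = p → N ≤ Subgroup.normalizer (A : Set P) := by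
    intro A hA hAi
    have hlt : A < N := lt_of_le_of_ne hA fun e => hp.out.ne_one (by rw [← hAi, e, Subgroup.relIndex_self])
    rw [← eq_of_relIndex_prime hAi (growth hP hlt) inf_le_left]
    exact inf_le_right
  have hcidx : ∀ g ∈ N2, (c g).relIndex N = p := by
    intro g hg
    have := Subgroup.relIndex_mul_relIndex ⊥ (c g) N bot_le (hcN g hg)
    rw [Subgroup.relIndex_bot_left, Subgroup.relIndex_bot_left, hccard, hEcard, mul_comm p] at this
    exact Nat.eq_of_mul_eq_mul_left Nat.card_pos this
  have hder : ∀ g ∈ N2, ⁅N, N⁆ ≤ c g := by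
    intro g hg
    haveI : ((c g).subgroupOf N).Normal := Subgroup.normal_subgroupOf_of_le_normalizer (hnorm _ (hcN g hg) (hcidx g hg))
    haveI : Fact (Nat.card (N ⧸ (c g).subgroupOf N)).Prime := ⟨by
      rw [← Subgroup.index_eq_card]; show ((c g).relIndex N).Prime; rw [hcidx g hg]; exact hp.out⟩
    haveI := isCyclic_of_prime_card (α := N ⧸ (c g).subgroupOf N) rfl
    refine Subgroup.commutator_le.2 fun a ha b hb => ?_
    have h : ⁅(⟨a, ha⟩ : N), ⟨b, hb⟩⁆ ∈ (c g).subgroupOf N := by
      rw [← QuotientGroup.eq_one_iff, ← QuotientGroup.mk'_apply, map_commutatorElement, commutatorElement_eq_one_iff_mul_comm]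
      exact mul_comm' _ _
    exact h
  refine ⟨?_, fun u hu huN => ⟨hsup u hu huN, hcentral u hu huN,
    le_inf (hc1 ▸ hder 1 (one_mem _)) (hder u hu)⟩⟩
  have hNN2 : N < N2 := hN2 ▸ lt_of_lt_of_le (growth hP (lt_top_iff_ne_top.2 htop)) inf_le_right
  obtain ⟨u, hu, huN⟩ := SetLike.exists_of_lt hNN2
  have hZE : Z = E ⊓ c u := le_antisymm (le_inf (hc1 ▸ hZc 1 (one_mem _)) (hZc u hu))
    (hZ ▸ le_inf (inf_le_left.trans hEN.le) (hcentral u hu huN))
  have hEZ : Nat.card E = p * Nat.card Z := by
    have h := card_sup_mul_card_inf' E (c u) ((hcN u hu).trans hN.le)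
    rw [hsup u hu huN, ← hZE, hccard, hEcard, mul_comm p, mul_assoc] at h
    exact (Nat.eq_of_mul_eq_mul_left Nat.card_pos h).symm
  -- count the conjugates
  let S := {A : Subgroup P // ∃ g ∈ N2, c g = A}
  haveI : Finite S := Subtype.finite
  haveI := Fintype.ofFinite S
  have hSb : Nat.card S ≤ p + 1 := by
    let f : (Σ A : S, ↥((A.1 : Set P) \ (Z : Set P))) → ↥((N : Set P) \ (Z : Set P)) := fun a =>
      ⟨a.2.1, (by obtain ⟨g, hg, e⟩ := a.1.2; exact hcN g hg (by rw [e]; exact a.2.2.1)), a.2.2.2⟩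
    have hf : Function.Injective f := by
      rintro ⟨⟨A, gA, hgA, rfl⟩, a, ha⟩ ⟨⟨B, gB, hgB, rfl⟩, b, hb⟩ h
      have hab : a = b := congrArg (fun t : ↥((N : Set P) \ (Z : Set P)) => (t : P)) h
      subst hab
      have hAB : c gA = c gB := by
        have hpr : Z.relIndex (c gA) = p := by
          have := Subgroup.relIndex_mul_relIndex ⊥ Z (c gA) bot_le (hZc gA hgA)
          rw [Subgroup.relIndex_bot_left, Subgroup.relIndex_bot_left, hccard, hEZ, mul_comm p] at this
          exact Nat.eq_of_mul_eq_mul_left Nat.card_pos this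
        have hlt : Z < c gA ⊓ c gB := lt_of_le_of_ne (le_inf (hZc gA hgA) (hZc gB hgB)) fun e =>
          ha.2 (by rw [SetLike.mem_coe, e]; exact Subgroup.mem_inf.2 ⟨ha.1, hb.1⟩)
        have h2 : c gA ≤ c gB := (eq_of_relIndex_prime hpr hlt inf_le_left).ge.trans inf_le_right
        exact Subgroup.eq_of_le_of_card_ge h2 (by rw [hccard, hccard])
      have : (⟨c gA, gA, hgA, rfl⟩ : S) = ⟨c gB, gB, hgB, rfl⟩ := Subtype.ext hAB
      refine Sigma.ext this ?_
      exact (Subtype.heq_iff_coe_eq (fun x => by rw [show ((⟨c gA, gA, hgA, rfl⟩ : S)).1 = ((⟨c gB, gB, hgB, rfl⟩ : S)).1 from hAB])).2 rfl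
    have h1 := Nat.card_le_card_of_injective f hf
    have hd : ∀ A : Subgroup P, Z ≤ A → Nat.card ↥((A : Set P) \ (Z : Set P)) = Nat.card A - Nat.card Z := fun A hA => by
      rw [Nat.card_coe_set_eq, Set.ncard_diff (SetLike.coe_subset_coe.2 hA) (Set.toFinite _),
        ← Nat.card_coe_set_eq, ← Nat.card_coe_set_eq]
      rfl
    rw [Nat.card_sigma, Finset.sum_congr rfl (fun (A : S) _ => show Nat.card ↥((A.1 : Set P) \ (Z : Set P)) = (p - 1) * Nat.card Z by
      obtain ⟨g, hg, e⟩ := A.2
      rw [← e, hd _ (hZc g hg), hccard, hEZ, Nat.sub_mul, one_mul]), Finset.sum_const, Finset.card_univ,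
      ← Nat.card_eq_fintype_card, smul_eq_mul, hd N (hZ ▸ inf_le_left), hEcard, hEZ] at h1
    have hp1 : 0 < p - 1 := by have := hp.out.two_le; omega
    refine Nat.le_of_mul_le_mul_right (c := (p - 1) * Nat.card Z) (h1.trans (le_of_eq ?_)) (Nat.mul_pos hp1 Nat.card_pos)
    rw [← mul_assoc (p + 1), ← mul_assoc p, ← Nat.sq_sub_sq p 1, Nat.sub_mul, one_pow, one_mul, sq]
  have hinj : Function.Injective (Quotient.lift (s := QuotientGroup.leftRel (N.subgroupOf N2))
      (fun g : N2 => (⟨c g, g, g.2, rfl⟩ : S)) (fun g h hgh => Subtype.ext (by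
        replace hgh : (g : P)⁻¹ * h ∈ Subgroup.normalizer (E : Set P) :=
          hN ▸ Subgroup.mem_subgroupOf.1 (QuotientGroup.leftRel_apply.1 hgh)
        show E.map (MulAut.conj (g : P)).toMonoidHom = E.map (MulAut.conj (h : P)).toMonoidHom
        have e : (h : P) = g * ((g : P)⁻¹ * h) := by group
        have hn : E.map (MulAut.conj ((g : P)⁻¹ * h)).toMonoidHom = E := by
          refine SetLike.ext fun z => ⟨?_, fun hz => ?_⟩
          · rintro ⟨x, hx, rfl⟩; exact (Subgroup.mem_normalizer_iff.1 hgh x).1 hx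
          · refine ⟨((g : P)⁻¹ * h)⁻¹ * z * ((g : P)⁻¹ * h), ?_, by simp [mul_assoc]⟩
            have := (Subgroup.mem_normalizer_iff.1 (inv_mem hgh) z).1 hz
            rwa [inv_inv] at this
        conv_rhs => rw [e, map_mul]
        conv_lhs => rw [← hn]
        rw [Subgroup.map_map]
        rfl))) := by
    rintro ⟨g⟩ ⟨h⟩ e
    refine Quotient.sound ?_
    refine QuotientGroup.leftRel_apply.2 (Subgroup.mem_subgroupOf.2 (hfix _ ?_))
    have e' : c g = c h := congrArg Subtype.val e
    show E.map (MulAut.conj ((g : P)⁻¹ * h)).toMonoidHom = E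
    refine SetLike.ext fun z => ⟨?_, fun hz => ?_⟩
    · rintro ⟨x, hx, rfl⟩
      obtain ⟨y, hy, ey⟩ := e'.ge (⟨x, hx, rfl⟩ : (MulAut.conj (h : P)).toMonoidHom x ∈ c h)
      have hxy : (MulAut.conj ((g : P)⁻¹ * h)).toMonoidHom x = y := by
        simp only [MulEquiv.coe_toMonoidHom, MulAut.conj_apply] at ey ⊢
        calc (g : P)⁻¹ * h * x * ((g : P)⁻¹ * h)⁻¹ = (g : P)⁻¹ * ((h : P) * x * (h : P)⁻¹) * g := by group
          _ = y := by rw [← ey]; group
      rw [hxy]; exact hy
    · obtain ⟨y, hy, ey⟩ := e'.le (⟨z, hz, rfl⟩ : (MulAut.conj (g : P)).toMonoidHom z ∈ c g)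
      refine ⟨y, hy, ?_⟩
      simp only [MulEquiv.coe_toMonoidHom, MulAut.conj_apply] at ey ⊢
      calc (g : P)⁻¹ * h * y * ((g : P)⁻¹ * h)⁻¹ = (g : P)⁻¹ * ((h : P) * y * (h : P)⁻¹) * g := by group
        _ = z := by rw [ey]; group
  have hle : N.relIndex N2 ≤ p + 1 := (Nat.card_le_card_of_injective _ hinj).trans hSb
  obtain ⟨j, hj⟩ := (hP.to_subgroup N2).index (N.subgroupOf N2)
  rw [show (N.subgroupOf N2).index = N.relIndex N2 from rfl] at hj
  rw [hj] at hle ⊢
  rcases j with _ | _ | j
  · exact absurd (Subgroup.relIndex_eq_one.1 (by rw [hj, pow_zero])) hNN2.not_ge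
  · rw [pow_one]
  · exfalso
    have h1 : p * p ≤ p ^ (j + 1 + 1) := by rw [pow_succ, pow_succ, mul_assoc]; exact Nat.le_mul_of_pos_left _ (pow_pos hp.out.pos j)
    have := hp.out.two_le
    nlinarith

section quotient

variable {Q : Type u} [Group Q] [Finite Q] (π : P →* Q)

omit hp [Finite Q] [Finite P] in
theorem comap_map_of_ker_le {K : Subgroup P} (h : π.ker ≤ K) : (K.map π).comap π = K := by
  rw [Subgroup.comap_map_eq, sup_eq_left.2 h]

omit hp [Finite Q] [Finite P] in
theorem relIndex_normalizer_map (hπ : Function.Surjective π) {K : Subgroup P} (h : π.ker ≤ K) :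
    (K.map π).relIndex (Subgroup.normalizer ((K.map π : Subgroup Q) : Set Q)) =
      K.relIndex (Subgroup.normalizer (K : Set P)) := by
  have h1 := Subgroup.comap_normalizer_eq_of_surjective (K.map π) hπ
  rw [comap_map_of_ker_le π h] at h1
  have h2 := Subgroup.relIndex_comap (K.map π) π (Subgroup.normalizer (K : Set P))
  rw [comap_map_of_ker_le π h] at h2
  rw [h2, ← h1, Subgroup.map_comap_eq_self_of_surjective hπ]

theorem soft_map_self (hπ : Function.Surjective π) {E : Subgroup P} (hS : Soft p E) (hW : π.ker ≤ E)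
    (hD : ¬ ⁅E, Subgroup.normalizer (E : Set P)⁆ ≤ π.ker) : Soft p (E.map π) := by
  haveI := hS.ab
  refine ⟨⟨⟨fun a b => Subtype.ext ?_⟩⟩, ?_, ?_, ?_⟩
  · obtain ⟨s, hs, ha⟩ := a.2
    obtain ⟨t, ht, hb⟩ := b.2
    rw [Subgroup.coe_mul, Subgroup.coe_mul, ← ha, ← hb, ← map_mul, ← map_mul]
    exact congrArg _ (congrArg Subtype.val (hS.ab.is_comm.comm (⟨s, hs⟩ : E) ⟨t, ht⟩))
  · intro z hz
    obtain ⟨g, rfl⟩ := hπ z
    have hg : ∀ e ∈ E, g * e * g⁻¹ * e⁻¹ ∈ π.ker := fun e he => by
      rw [MonoidHom.mem_ker, map_mul, map_mul, map_mul, map_inv, map_inv,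
        ← Subgroup.mem_centralizer_iff.1 hz (π e) ⟨e, he, rfl⟩]
      group
    have hgN : g ∈ Subgroup.normalizer (E : Set P) := by
      have h1 := Subgroup.comap_normalizer_eq_of_surjective (E.map π) hπ
      rw [comap_map_of_ker_le π hW] at h1
      rw [← h1, Subgroup.mem_comap]
      exact Subgroup.centralizer_le_normalizer _ hz
    by_contra hgE
    have hgE' : g ∉ E := fun h => hgE ⟨g, h, rfl⟩
    refine hD (Subgroup.commutator_le.2 fun e he x hx => ?_)
    have hsup : E ⊔ Subgroup.zpowers g = Subgroup.normalizer (E : Set P) := eq_of_relIndex_prime hS.idx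
      (lt_of_le_of_ne le_sup_left fun h => hgE' (h ▸ Subgroup.mem_sup_right (Subgroup.mem_zpowers g)))
      (sup_le Subgroup.le_normalizer (Subgroup.zpowers_le.2 hgN))
    have hle : Subgroup.normalizer (E : Set P) ≤ (Subgroup.centralizer {π e}).comap π := by
      rw [← hsup]
      refine sup_le (fun a ha => Subgroup.mem_comap.2 (Subgroup.mem_centralizer_singleton_iff.2 ?_))
        (Subgroup.zpowers_le.2 (Subgroup.mem_comap.2 (Subgroup.mem_centralizer_singleton_iff.2 ?_)))
      · rw [← map_mul, ← map_mul]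
        exact congrArg _ (congrArg Subtype.val (hS.ab.is_comm.comm (⟨a, ha⟩ : E) ⟨e, he⟩))
      · exact (Subgroup.mem_centralizer_iff.1 hz (π e) ⟨e, he, rfl⟩).symm
    rw [MonoidHom.mem_ker, map_commutatorElement, commutatorElement_eq_one_iff_mul_comm]
    exact (Subgroup.mem_centralizer_singleton_iff.1 (Subgroup.mem_comap.1 (hle hx))).symm
  · rw [relIndex_normalizer_map π hπ hW]; exact hS.idx
  · rw [Subgroup.index_map_eq _ hπ hW]; exact hS.big

theorem soft_map_normalizer (hP : IsPGroup p P) (hπ : Function.Surjective π) {E : Subgroup P} (hS : Soft p E)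
    (hW : π.ker ≤ E) (hD : ⁅E, Subgroup.normalizer (E : Set P)⁆ ≤ π.ker)
    (hbig : p ^ 2 ≤ (Subgroup.normalizer (E : Set P)).index) :
    Soft p ((Subgroup.normalizer (E : Set P)).map π) := by
  obtain ⟨N, hN⟩ : ∃ N, N = Subgroup.normalizer (E : Set P) := ⟨_, rfl⟩
  rw [← hN] at hD hbig ⊢
  have hWN : π.ker ≤ N := hW.trans (hN ▸ Subgroup.le_normalizer)
  have hne : N ≠ ⊤ := fun h => by
    rw [h, Subgroup.index_top] at hbig
    have h2 : 2 ^ 2 ≤ p ^ 2 := Nat.pow_le_pow_left hp.out.two_le 2
    omega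
  obtain ⟨g, hgN, hgE⟩ := SetLike.exists_of_lt (hN ▸ hS.lt_normalizer : E < N)
  have hsup : E ⊔ Subgroup.zpowers g = N := eq_of_relIndex_prime (hN ▸ hS.idx)
    (lt_of_le_of_ne le_sup_left fun h => hgE (h ▸ Subgroup.mem_sup_right (Subgroup.mem_zpowers g)))
    (sup_le (hN ▸ Subgroup.le_normalizer) (Subgroup.zpowers_le.2 hgN))
  have hab : ∀ a ∈ N.map π, ∀ b ∈ N.map π, a * b = b * a := by
    have hE1 : E.map π ≤ Subgroup.centralizer (N.map π : Set Q) := by
      rintro _ ⟨e, he, rfl⟩
      refine Subgroup.mem_centralizer_iff.2 ?_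
      rintro _ ⟨x, hx, rfl⟩
      have := hD (Subgroup.commutator_mem_commutator he hx)
      rw [MonoidHom.mem_ker, map_commutatorElement, commutatorElement_eq_one_iff_mul_comm] at this
      exact this.symm
    have h2 : N.map π ≤ Subgroup.centralizer {π g} := by
      rw [← hsup, Subgroup.map_sup, MonoidHom.map_zpowers]
      refine sup_le (fun a ha => Subgroup.mem_centralizer_singleton_iff.2 ?_)
        (Subgroup.zpowers_le.2 (Subgroup.mem_centralizer_singleton_iff.2 rfl))
      exact (Subgroup.mem_centralizer_iff.1 (hE1 ha) (π g) ⟨g, hgN, rfl⟩).symm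
    have h3 : N.map π ≤ Subgroup.centralizer (N.map π : Set Q) := by
      conv_lhs => rw [← hsup, Subgroup.map_sup, MonoidHom.map_zpowers]
      refine sup_le hE1 (Subgroup.zpowers_le.2 (Subgroup.mem_centralizer_iff.2 fun a ha => ?_))
      exact Subgroup.mem_centralizer_singleton_iff.1 (h2 ha)
    exact fun a ha b hb => Subgroup.mem_centralizer_iff.1 (h3 hb) a ha
  refine ⟨⟨⟨fun a b => Subtype.ext (hab a a.2 b b.2)⟩⟩, ?_, ?_, ?_⟩
  · intro z hz
    obtain ⟨x, rfl⟩ := hπ z
    refine ⟨x, ?_, rfl⟩
    have h1 := Subgroup.comap_normalizer_eq_of_surjective (E.map π) hπ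
    rw [comap_map_of_ker_le π hW] at h1
    rw [hN, ← h1]
    show π x ∈ Subgroup.normalizer ((E.map π : Subgroup Q) : Set Q)
    refine Subgroup.centralizer_le_normalizer _ (Subgroup.centralizer_le ?_ hz)
    exact SetLike.coe_subset_coe.2 (Subgroup.map_mono (hN ▸ Subgroup.le_normalizer))
  · rw [relIndex_normalizer_map π hπ hWN]
    subst hN
    exact (base hP hS hne).1
  · rw [Subgroup.index_map_eq _ hπ hWN]; exact hbig

end quotient

/-- The statement proved by induction. -/
def Conclusion (p : ℕ) (E : Subgroup P) : Prop :=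
  (∀ K : Subgroup P, E ≤ K → K ≠ ⊤ → K.relIndex (Subgroup.normalizer (K : Set P)) = p) ∧
    ∀ (i : ℕ) (K : Subgroup P), E ≤ K → K ≠ ⊤ → K.index * p ^ i = E.index →
      K.lowerCentralSeries (i + 1) = ⊥ ∧ K.lowerCentralSeries i ≠ ⊥

theorem main : ∀ (n : ℕ) {P : Type u} [Group P] [Finite P], Nat.card P < n → IsPGroup p P →
    ∀ E : Subgroup P, Soft p E → Conclusion p E := by
  intro n
  induction n with
  | zero => intro P _ _ h; exact absurd h (Nat.not_lt_zero _)
  | succ n ih =>
    intro P _ _ hn hP E hS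
    classical
    have hp2 : 1 < p ^ 2 := Nat.one_lt_pow two_ne_zero hp.out.one_lt
    haveI : Nontrivial P := by
      by_contra h
      rw [not_nontrivial_iff_subsingleton] at h
      have h2 := hS.big
      rw [Subsingleton.elim E ⊤, Subgroup.index_top] at h2
      omega
    obtain ⟨W, hWZ, hW1⟩ := exists_central hP
    have hWE : W ≤ E := hWZ.trans ((Subgroup.center_le_centralizer _).trans hS.cen)
    haveI : W.Normal := ⟨fun w hw g => by
      rwa [Subgroup.mem_center_iff.1 (hWZ hw) g, mul_inv_cancel_right]⟩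
    let π := QuotientGroup.mk' W
    have hπ : Function.Surjective π := QuotientGroup.mk'_surjective W
    have hker : π.ker = W := QuotientGroup.ker_mk' W
    have hPq : IsPGroup p (P ⧸ W) := hP.to_quotient W
    have hsmall : Nat.card (P ⧸ W) < n := by
      have h1 : Nat.card P = Nat.card (P ⧸ W) * Nat.card W := Subgroup.card_eq_card_quotient_mul_card_subgroup W
      have h2 : 2 ≤ Nat.card W := (Subgroup.one_lt_card_iff_ne_bot W).2 hW1
      have h3 : Nat.card (P ⧸ W) * 2 ≤ Nat.card P := h1 ▸ Nat.mul_le_mul_left _ h2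
      have h4 : 0 < Nat.card (P ⧸ W) := Nat.card_pos
      omega
    obtain ⟨N, hN⟩ : ∃ N, N = Subgroup.normalizer (E : Set P) := ⟨_, rfl⟩
    have hidx : E.relIndex N = p := hN ▸ hS.idx
    have hEN : E < N := hN ▸ hS.lt_normalizer
    have hNidx : N.index * p = E.index := by rw [← Subgroup.relIndex_mul_index hEN.le, hidx, mul_comm]
    have habove : ∀ K : Subgroup P, E < K → N ≤ K := fun K hK => hN ▸ normalizer_le_of_lt hP hS.idx hK
    -- passing to the quotient
    have hbigN : ∀ K : Subgroup P, N < K → K ≠ ⊤ → p ^ 2 ≤ N.index := by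
      intro K hNK hK
      rw [← Subgroup.relIndex_mul_index hNK.le, sq]
      obtain ⟨a, ha⟩ := (hP.to_subgroup K).index (N.subgroupOf K)
      obtain ⟨b, hb⟩ := hP.index K
      rw [show (N.subgroupOf K).index = N.relIndex K from rfl] at ha
      refine Nat.mul_le_mul ?_ ?_
      · rw [ha]; refine Nat.le_self_pow ?_ p
        rintro rfl
        exact hNK.not_ge (Subgroup.relIndex_eq_one.1 (by rw [ha, pow_zero]))
      · rw [hb]; refine Nat.le_self_pow ?_ p
        rintro rfl
        exact hK (Subgroup.index_eq_one.1 (by rw [hb, pow_zero]))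
    have hQne : ∀ K : Subgroup P, W ≤ K → K ≠ ⊤ → K.map π ≠ ⊤ := fun K hWK hK h => hK (by
      rw [← comap_map_of_ker_le π (hker.le.trans hWK), h, Subgroup.comap_top])
    have hA : ∀ K : Subgroup P, E ≤ K → K ≠ ⊤ → K.relIndex (Subgroup.normalizer (K : Set P)) = p := by
      intro K hEK hK
      rcases eq_or_lt_of_le hEK with rfl | hlt
      · exact hS.idx
      have hNK := habove K hlt
      have hWK : π.ker ≤ K := hker.le.trans (hWE.trans hEK)
      rw [← relIndex_normalizer_map π hπ hWK]
      by_cases hD : ⁅E, N⁆ ≤ W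
      · rcases eq_or_lt_of_le hNK with rfl | hlt'
        · rw [relIndex_normalizer_map π hπ hWK]
          subst hN
          exact (base hP hS hK).1
        · have hS' := soft_map_normalizer π hP hπ hS (hker.le.trans hWE) (by rw [hker, ← hN]; exact hD) (hN ▸ hbigN K hlt' hK)
          rw [← hN] at hS'
          exact (ih hsmall hPq _ hS').1 _ (Subgroup.map_mono hNK) (hQne K (hWE.trans hEK) hK)
      · have hS' := soft_map_self π hπ hS (hker.le.trans hWE) (by rw [hker, ← hN]; exact hD)
        exact (ih hsmall hPq _ hS').1 _ (Subgroup.map_mono hEK) (hQne K (hWE.trans hEK) hK)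
    refine ⟨hA, fun i K hEK hK hi => ?_⟩
    rcases eq_or_lt_of_le hEK with rfl | hlt
    · have hi0 : i = 0 := by
        have : p ^ i = 1 := (mul_eq_left₀ (Subgroup.index_ne_zero_of_finite (H := E))).1 hi
        exact (Nat.pow_eq_one.1 this).resolve_left hp.out.ne_one
      subst hi0
      refine ⟨?_, fun h => ?_⟩
      · rw [Subgroup.lowerCentralSeries_succ, Subgroup.lowerCentralSeries_zero,
          Subgroup.commutator_eq_bot_iff_le_centralizer]
        exact fun a ha => Subgroup.mem_centralizer_iff.2 fun b hb =>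
          congrArg Subtype.val (hS.ab.is_comm.comm (⟨b, hb⟩ : E) ⟨a, ha⟩)
      · rw [Subgroup.lowerCentralSeries_zero] at h
        apply hK
        rw [eq_top_iff]
        refine fun g _ => hS.cen (Subgroup.mem_centralizer_iff.2 fun a ha => ?_)
        rw [h, SetLike.mem_coe, Subgroup.mem_bot] at ha
        rw [ha, one_mul, mul_one]
    have hNK := habove K hlt
    rcases eq_or_lt_of_le hNK with rfl | hlt'
    · have hi1 : i = 1 := by
        rw [← hNidx] at hi
        have : p ^ i = p ^ 1 := by rw [pow_one]; exact Nat.eq_of_mul_eq_mul_left (Nat.pos_of_ne_zero Subgroup.index_ne_zero_of_finite) hi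
        exact Nat.pow_right_injective hp.out.two_le this
      subst hi1
      obtain ⟨u, hu, huN⟩ := SetLike.exists_of_lt (lt_of_lt_of_le (growth hP (lt_top_iff_ne_top.2 hK)) inf_le_right)
      subst hN
      obtain ⟨-, hb⟩ := base hP hS hK
      obtain ⟨-, hcen, hder⟩ := hb u hu huN
      refine ⟨?_, ?_⟩
      · rw [Subgroup.lowerCentralSeries_succ, Subgroup.lowerCentralSeries_succ, Subgroup.lowerCentralSeries_zero,
          Subgroup.commutator_eq_bot_iff_le_centralizer]
        exact hder.trans hcen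
      · rw [Subgroup.lowerCentralSeries_succ, Subgroup.lowerCentralSeries_zero]
        intro h
        rw [Subgroup.commutator_eq_bot_iff_le_centralizer] at h
        exact hEN.not_ge (h.trans ((Subgroup.centralizer_le (SetLike.coe_subset_coe.2 hEK)).trans hS.cen))
    have hbig := hbigN K hlt' hK
    have hNne : N ≠ ⊤ := fun h => hK (top_le_iff.1 (h ▸ hNK))
    obtain ⟨j, rfl⟩ : ∃ j, i = j + 1 := by
      refine ⟨i - 1, ?_⟩
      rcases i with _ | i
      · exfalso
        rw [pow_zero, mul_one, ← Subgroup.relIndex_mul_index hEK] at hi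
        exact hlt.not_ge (Subgroup.relIndex_eq_one.1 ((mul_eq_right₀ Subgroup.index_ne_zero_of_finite).1 hi.symm))
      · omega
    have hWK : π.ker ≤ K := hker.le.trans (hWE.trans hEK)
    have hmapidx : (K.map π).index = K.index := Subgroup.index_map_eq _ hπ hWK
    obtain ⟨T, hT⟩ : ∃ T, T = Subgroup.normalizer (K : Set P) := ⟨_, rfl⟩
    have hKT : K.relIndex T = p := hT ▸ hA K hEK hK
    by_cases hD : ⁅E, N⁆ ≤ W
    · have hS' := soft_map_normalizer π hP hπ hS (hker.le.trans hWE) (by rw [hker, ← hN]; exact hD) (hN ▸ hbig)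
      rw [← hN] at hS'
      have hi' : (K.map π).index * p ^ j = (N.map π).index := by
        rw [hmapidx, Subgroup.index_map_eq _ hπ (hker.le.trans (hWE.trans hEN.le))]
        refine Nat.eq_of_mul_eq_mul_right hp.out.pos ?_
        rw [hNidx, ← hi, pow_succ, mul_assoc]
      obtain ⟨h1, -⟩ := (ih hsmall hPq _ hS').2 j _ (Subgroup.map_mono hNK) (hQne K (hWE.trans hEK) hK) hi'
      refine ⟨?_, ?_⟩
      · rw [Subgroup.lowerCentralSeries_succ, Subgroup.commutator_eq_bot_iff_le_centralizer]
        rw [← Subgroup.map_lowerCentralSeries, Subgroup.map_eq_bot_iff, hker] at h1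
        exact h1.trans (hWZ.trans (Subgroup.center_le_centralizer _))
      · -- pass to the normalizer of `K` modulo the centre of `K`
        obtain ⟨V, hV⟩ : ∃ V, V = (K ⊓ Subgroup.centralizer (K : Set P)).subgroupOf T := ⟨_, rfl⟩
        have hKTle : K ≤ T := hT ▸ Subgroup.le_normalizer
        haveI : V.Normal := hV ▸ Subgroup.normal_subgroupOf_of_le_normalizer (fun g hg => by
          rw [hT] at hg
          exact Subgroup.inf_normalizer_le_normalizer_inf (Subgroup.mem_inf.2 ⟨hg, Subgroup.mem_normalizer_iff.2 fun z => by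
            simp only [Subgroup.mem_centralizer_iff, SetLike.mem_coe]
            constructor
            · intro hz a ha
              have h2 := hz (g⁻¹ * a * g) (by
                have := (Subgroup.mem_normalizer_iff.1 (inv_mem hg) a).1 ha
                rwa [inv_inv] at this)
              calc a * (g * z * g⁻¹) = g * (g⁻¹ * a * g * z) * g⁻¹ := by group
                _ = g * (z * (g⁻¹ * a * g)) * g⁻¹ := by rw [h2]
                _ = _ := by group
            · intro hz a ha
              have h2 := hz (g * a * g⁻¹) ((Subgroup.mem_normalizer_iff.1 hg a).1 ha)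
              calc a * z = g⁻¹ * (g * a * g⁻¹ * (g * z * g⁻¹)) * g := by group
                _ = g⁻¹ * (g * z * g⁻¹ * (g * a * g⁻¹)) * g := by rw [h2]
                _ = _ := by group⟩))
        let ψ := QuotientGroup.mk' V
        have hψ : Function.Surjective ψ := QuotientGroup.mk'_surjective V
        have hkψ : ψ.ker = V := QuotientGroup.ker_mk' V
        have hWV : W.subgroupOf T ≤ V := hV ▸ fun z hz => Subgroup.mem_inf.2
          ⟨hWE.trans hEK hz, Subgroup.center_le_centralizer _ (hWZ hz)⟩
        have hVne : V ≠ ⊥ := fun h => hW1 (eq_bot_iff.2 fun z hz => by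
          have h2 : (⟨z, hKTle (hWE.trans hEK hz)⟩ : T) ∈ (⊥ : Subgroup T) := h ▸ hWV hz
          exact Subgroup.mem_bot.2 (congrArg Subtype.val (Subgroup.mem_bot.1 h2)))
        have hTp : IsPGroup p T := hP.to_subgroup T
        have hsmall' : Nat.card (T ⧸ V) < n := by
          have h2 : Nat.card T = Nat.card (T ⧸ V) * Nat.card V := Subgroup.card_eq_card_quotient_mul_card_subgroup V
          have h3 : 2 ≤ Nat.card V := (Subgroup.one_lt_card_iff_ne_bot V).2 hVne
          have h4 : Nat.card (T ⧸ V) * 2 ≤ Nat.card T := h2 ▸ Nat.mul_le_mul_left _ h3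
          have h5 : 0 < Nat.card (T ⧸ V) := Nat.card_pos
          have h6 : Nat.card T ≤ Nat.card P := Subgroup.card_le_card_group T
          omega
        have hET : E ≤ T := hEK.trans hKTle
        have hNT : N ≤ T := hNK.trans hKTle
        have hnormE : Subgroup.normalizer ((E.subgroupOf T : Subgroup T) : Set T) = N.subgroupOf T := by
          ext y
          rw [Subgroup.mem_subgroupOf, hN, Subgroup.mem_normalizer_iff, Subgroup.mem_normalizer_iff]
          refine ⟨fun h z => ?_, fun h z => h z⟩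
          by_cases hz : z ∈ T
          · exact h ⟨z, hz⟩
          · refine ⟨fun hz' => absurd (hET hz') hz, fun hz' => absurd ?_ hz⟩
            have := mul_mem (mul_mem (inv_mem y.2) (hET hz')) y.2
            rwa [show (y : P)⁻¹ * ((y : P) * z * (y : P)⁻¹) * y = z by group] at this
        have hrel : ∀ A B : Subgroup P, B ≤ T → (A.subgroupOf T).relIndex (B.subgroupOf T) = A.relIndex B :=
          fun A B hB => Subgroup.relIndex_subgroupOf hB
        have hindex : ∀ A : Subgroup P, A ≤ T → (A.subgroupOf T).index * T.index = A.index := fun A hA' =>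
          Subgroup.relIndex_mul_index hA'
        have hTidx : T.index * p = K.index := by
          rw [← Subgroup.relIndex_mul_index hKTle, hKT, mul_comm]
        have hNTidx : (N.subgroupOf T).index = p ^ (j + 1) := by
          refine Nat.eq_of_mul_eq_mul_right (Nat.pos_of_ne_zero (Subgroup.index_ne_zero_of_finite (H := T))) ?_
          rw [hindex N hNT]
          refine Nat.eq_of_mul_eq_mul_right hp.out.pos ?_
          rw [hNidx, ← hi, ← hTidx]
          ring
        have hj1 : 1 ≤ j := by
          rcases j with _ | j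
          · exfalso
            refine hlt'.ne ?_
            refine Subgroup.eq_of_le_of_card_ge hNK ?_
            have e1 : N.index = K.index := Nat.eq_of_mul_eq_mul_right hp.out.pos (by rw [hNidx, ← hi]; ring)
            have e2 := Subgroup.card_mul_index N
            rw [← Subgroup.card_mul_index K, e1] at e2
            exact (Nat.eq_of_mul_eq_mul_right (Nat.pos_of_ne_zero Subgroup.index_ne_zero_of_finite) e2).ge
          · omega
        have hbigT : p ^ 2 ≤ (N.subgroupOf T).index := by
          rw [hNTidx]; exact Nat.pow_le_pow_right hp.out.pos (by omega)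
        have hST : Soft p (E.subgroupOf T) := by
          refine ⟨⟨⟨fun a b => Subtype.ext (Subtype.ext ((congrArg (fun t : E => (t : P))
            (hS.ab.is_comm.comm (⟨((a : T) : P), a.2⟩ : E) ⟨((b : T) : P), b.2⟩)) :))⟩⟩, fun z hz => ?_, ?_, ?_⟩
          · exact hS.cen (Subgroup.mem_centralizer_iff.2 fun a ha => congrArg Subtype.val
              (Subgroup.mem_centralizer_iff.1 hz ⟨a, hET ha⟩ ha))
          · rw [hnormE, hrel E N hNT, hidx]
          · calc p ^ 2 ≤ (N.subgroupOf T).index := hbigT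
              _ ≤ (E.subgroupOf T).index := Nat.le_of_dvd (Nat.pos_of_ne_zero Subgroup.index_ne_zero_of_finite)
                  (Subgroup.index_dvd_of_le fun z hz => hEN.le hz)
        have hS'' : Soft p ((Subgroup.normalizer ((E.subgroupOf T : Subgroup T) : Set T)).map ψ) := by
          refine soft_map_normalizer ψ hTp hψ hST ?_ ?_ (hnormE ▸ hbigT)
          · rw [hkψ, hV]
            exact fun z hz => hS.cen (Subgroup.centralizer_le (SetLike.coe_subset_coe.2 hEK) hz.2)
          · rw [hkψ, hnormE]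
            refine le_trans ?_ hWV
            rw [Subgroup.commutator_le]
            exact fun a ha b hb => hD (Subgroup.commutator_mem_commutator (H₁ := E) (H₂ := N) ha hb)
        rw [hnormE] at hS''
        have hVK : ψ.ker ≤ K.subgroupOf T := by rw [hkψ, hV]; exact fun z hz => hz.1
        have hKne : (K.subgroupOf T).map ψ ≠ ⊤ := fun h => by
          have h2 : K.subgroupOf T = ⊤ := by rw [← comap_map_of_ker_le ψ hVK, h, Subgroup.comap_top]
          have h3 : T ≤ K := Subgroup.subgroupOf_eq_top.1 h2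
          rw [Subgroup.relIndex_eq_one.2 h3] at hKT
          exact hp.out.ne_one hKT.symm
        have hi'' : ((K.subgroupOf T).map ψ).index * p ^ j = ((N.subgroupOf T).map ψ).index := by
          rw [Subgroup.index_map_eq _ hψ hVK, Subgroup.index_map_eq _ hψ (fun z hz => ?_),
            hNTidx, show (K.subgroupOf T).index = p from hKT, pow_succ']
          rw [hkψ, hV] at hz
          exact hEN.le (hS.cen (Subgroup.centralizer_le (SetLike.coe_subset_coe.2 hEK) hz.2))
        obtain ⟨-, h2⟩ := (ih hsmall' (hTp.to_quotient V) _ hS'').2 j _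
          (Subgroup.map_mono fun z hz => hNK hz) hKne hi''
        intro h
        refine h2 ?_
        rw [← Subgroup.map_lowerCentralSeries, Subgroup.map_eq_bot_iff, hkψ, hV]
        intro z hz
        have hmap := Subgroup.map_lowerCentralSeries (K.subgroupOf T) T.subtype j
        rw [Subgroup.map_subgroupOf_eq_of_le hKTle] at hmap
        have hzj : (z : P) ∈ K.lowerCentralSeries j := hmap.le ⟨z, hz, rfl⟩
        refine Subgroup.mem_inf.2 ⟨Subgroup.lowerCentralSeries_le_self K j hzj, ?_⟩
        rw [Subgroup.lowerCentralSeries_succ, Subgroup.commutator_eq_bot_iff_le_centralizer] at h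
        exact h hzj
    · have hS' := soft_map_self π hπ hS (hker.le.trans hWE) (by rw [hker, ← hN]; exact hD)
      obtain ⟨h1, h2⟩ := (ih hsmall hPq _ hS').2 (j + 1) _ (Subgroup.map_mono hEK) (hQne K (hWE.trans hEK) hK)
        (by rw [hmapidx, Subgroup.index_map_eq _ hπ (hker.le.trans hWE)]; exact hi)
      refine ⟨?_, fun h => h2 (by rw [← Subgroup.map_lowerCentralSeries, h, Subgroup.map_bot])⟩
      have hlE : K.lowerCentralSeries (j + 1) ≤ E := by
        intro z hz
        rw [Subgroup.lowerCentralSeries_succ, Subgroup.commutator_eq_bot_iff_le_centralizer,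
          ← Subgroup.map_lowerCentralSeries] at h1
        have h3 := hS'.cen (Subgroup.centralizer_le (SetLike.coe_subset_coe.2 (Subgroup.map_mono hEK)) (h1 ⟨z, hz, rfl⟩))
        have h4 : z ∈ (E.map π).comap π := h3
        rwa [comap_map_of_ker_le π (hker.le.trans hWE)] at h4
      obtain ⟨u, huT, huK⟩ := SetLike.exists_of_lt (lt_of_le_of_ne (hT ▸ Subgroup.le_normalizer : K ≤ T) fun e => by
        rw [← e, Subgroup.relIndex_self] at hKT; exact hp.out.ne_one hKT.symm)
      rw [hT] at huT
      let cu := (MulAut.conj u).toMonoidHom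
      have hKu : K.map cu = K := SetLike.ext fun z => by
        constructor
        · rintro ⟨a, ha, rfl⟩; exact (Subgroup.mem_normalizer_iff.1 huT a).1 ha
        · intro hz
          refine ⟨u⁻¹ * z * u, (Subgroup.mem_normalizer_iff.1 huT _).2 ?_, by simp [cu, mul_assoc]⟩
          rwa [show u * (u⁻¹ * z * u) * u⁻¹ = z by group]
      have hlEu : K.lowerCentralSeries (j + 1) ≤ E.map cu := by
        have h3 := Subgroup.map_mono (f := cu) hlE
        rwa [Subgroup.map_lowerCentralSeries, hKu] at h3
      -- `K` is generated by `E` and its conjugate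
      have hgen : E ⊔ E.map cu = K := by
        obtain ⟨L, hL⟩ : ∃ L, L = E ⊔ E.map cu := ⟨_, rfl⟩
        rw [← hL]
        have hLK : L ≤ K := hL ▸ sup_le hEK (hKu ▸ Subgroup.map_mono hEK)
        by_contra hne
        have hLlt : L < K := lt_of_le_of_ne hLK hne
        have hLtop : L ≠ ⊤ := fun h => hLlt.not_ge (h ▸ le_top)
        have hLE : E ≤ L := hL ▸ le_sup_left
        let cv := (MulAut.conj u⁻¹).toMonoidHom
        have hE' : E ≤ L.map cv := fun e he =>
          ⟨cu e, hL ▸ Subgroup.mem_sup_right ⟨e, he, rfl⟩, by simp [cu, cv, mul_assoc]⟩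
        have hcard : Nat.card (L.map cv) = Nat.card L := Subgroup.card_map_of_injective (MulAut.conj u⁻¹).injective
        have heq : L.map cv = L := by
          rcases chain hP hA (L.map cv) L hE' hLE with h | h
          · exact Subgroup.eq_of_le_of_card_ge h hcard.ge
          · exact (Subgroup.eq_of_le_of_card_ge h hcard.le).symm
        have hv : u⁻¹ ∈ Subgroup.normalizer (L : Set P) := Subgroup.mem_normalizer_iff.2 fun z => by
          constructor
          · intro hz
            rw [← heq]
            exact ⟨z, hz, rfl⟩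
          · intro hz
            obtain ⟨a, ha, e⟩ := heq.ge hz
            rwa [← (MulAut.conj u⁻¹).injective e]
        exact huK (inv_mem_iff.1 (normalizer_le_of_lt hP (hA L hLE hLtop) hLlt hv))
      rw [Subgroup.lowerCentralSeries_succ, Subgroup.commutator_eq_bot_iff_le_centralizer]
      intro z hz
      have hall : E ⊔ E.map cu ≤ Subgroup.centralizer {z} := sup_le
        (fun a ha => Subgroup.mem_centralizer_singleton_iff.2
          (congrArg Subtype.val (hS.ab.is_comm.comm (⟨a, ha⟩ : E) ⟨z, hlE hz⟩)))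
        (fun a ha => Subgroup.mem_centralizer_singleton_iff.2 (by
          obtain ⟨b, hb, rfl⟩ := ha
          obtain ⟨c, hc, rfl⟩ := hlEu hz
          rw [← map_mul, ← map_mul]
          exact congrArg _ (congrArg Subtype.val (hS.ab.is_comm.comm (⟨b, hb⟩ : E) ⟨c, hc⟩))))
      rw [hgen] at hall
      exact Subgroup.mem_centralizer_iff.2 fun a ha => Subgroup.mem_centralizer_singleton_iff.1 (hall ha)

end Cfsg.Agent.Solv.SoftSub
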