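import Mathlib

/-!
Automorphisms of prime order of finite abelian groups, and the fixed points of elements of prime
order `p > 3` in transitive actions of solvable groups generated by their conjugates.
-/

set_option autoImplicit false
set_option linter.style.haveILetI false

open scoped commutatorElement

namespace Cfsg.Agent.Solv.FixFrac

variable {A : Type*} [CommGroup A]

/-- The map `a ↦ θ a / a`. -/
def diffHom (θ : MulAut A) : A →* A :=
  MonoidHom.mk' (fun a => θ a / a) fun a b => by rw [map_mul, mul_div_mul_comm]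

theorem diffHom_apply (θ : MulAut A) (a : A) : diffHom θ a = θ a / a := rfl

theorem mem_ker_diffHom {θ : MulAut A} {a : A} : a ∈ (diffHom θ).ker ↔ θ a = a := by
  rw [MonoidHom.mem_ker, diffHom_apply, div_eq_one]

theorem card_range_mul [Finite A] (θ : MulAut A) :
    Nat.card (diffHom θ).range * Nat.card {a : A // θ a = a} = Nat.card A := by
  rw [← Subgroup.index_ker, Nat.card_congr (Equiv.subtypeEquivRight (fun a => (mem_ker_diffHom (θ := θ) (a := a)).symm)),
    mul_comm]
  exact Subgroup.card_mul_index _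

theorem pow_apply_of_fix {θ : MulAut A} {a : A} (h : θ (θ a / a) = θ a / a) :
    ∀ k : ℕ, (θ ^ k) a = a * (θ a / a) ^ k := by
  intro k
  induction k with
  | zero => simp
  | succ k ih =>
    rw [pow_succ', MulAut.mul_apply, ih, map_mul, map_pow, h, pow_succ', ← mul_assoc,
      mul_div_cancel]

/-- A permutation of prime order of a set with fewer elements is trivial. -/
theorem perm_eq_one {S : Type*} [Finite S] {p : ℕ} (hp : p.Prime) (hS : Nat.card S < p)
    {f : Equiv.Perm S} (hf : f ^ p = 1) : f = 1 := by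
  rcases (Nat.dvd_prime hp).1 (orderOf_dvd_of_pow_eq_one hf) with h | h
  · exact orderOf_eq_one_iff.1 h
  · exfalso
    have h1 : orderOf f ∣ (Nat.card S).factorial := by
      rw [← Nat.card_perm]; exact orderOf_dvd_natCard f
    rw [h] at h1
    exact absurd ((hp.dvd_factorial).1 h1) (by omega)

/-- A nontrivial automorphism of prime order `p > 3` moves elements in at least four directions. -/
theorem four_le_range [Finite A] {p : ℕ} (hp : p.Prime) (h3 : 3 < p) {θ : MulAut A}
    (hθ : θ ^ p = 1) (hne : θ ≠ 1) : 4 ≤ Nat.card (diffHom θ).range := by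
  by_contra hlt
  rw [not_le] at hlt
  refine hne (MulEquiv.ext fun a => ?_)
  rw [MulAut.one_apply]
  obtain ⟨D, hD⟩ : ∃ D, D = (diffHom θ).range := ⟨_, rfl⟩
  have hinv : ∀ d ∈ D, θ d ∈ D := by
    rw [hD]
    rintro _ ⟨b, rfl⟩
    exact ⟨θ b, by rw [diffHom_apply, diffHom_apply, map_div]⟩
  let f : D → D := fun d => ⟨θ d, hinv d d.2⟩
  have hf : Function.Bijective f :=
    Finite.injective_iff_bijective.1 fun u v h => Subtype.ext (θ.injective (congrArg Subtype.val h))
  have hpow : ∀ (k : ℕ) (d : D), (((Equiv.ofBijective f hf) ^ k) d : A) = (θ ^ k) (d : A) := by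
    intro k
    induction k with
    | zero => intro d; rfl
    | succ k ih =>
      intro d
      rw [pow_succ', pow_succ', Equiv.Perm.mul_apply, MulAut.mul_apply, ← ih d]
      rfl
  have htriv : Equiv.ofBijective f hf = 1 := by
    refine perm_eq_one hp (by rw [hD]; omega) (Equiv.ext fun d => Subtype.ext ?_)
    rw [hpow, hθ]; rfl
  have hmem : diffHom θ a ∈ D := hD ▸ ⟨a, rfl⟩
  have hfix : θ (θ a / a) = θ a / a :=
    congrArg Subtype.val (Equiv.ext_iff.1 htriv ⟨_, hmem⟩)
  have h1 := pow_apply_of_fix hfix p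
  rw [hθ, MulAut.one_apply, left_eq_mul] at h1
  have h2 : (θ a / a) ^ Nat.card D = 1 := by
    have := congrArg Subtype.val (pow_card_eq_one' (x := (⟨_, hmem⟩ : D)))
    rw [SubmonoidClass.coe_pow] at this
    exact this
  have hcop : Nat.Coprime p (Nat.card D) := by
    refine (hp.coprime_iff_not_dvd).2 (Nat.not_dvd_of_pos_of_lt Nat.card_pos ?_)
    rw [hD]; omega
  have h12 : (θ a / a) ^ Nat.gcd p (Nat.card D) = 1 := pow_gcd_eq_one.2 ⟨h1, h2⟩
  rw [hcop.gcd_eq_one, pow_one] at h12
  exact div_eq_one.1 h12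

variable {G : Type*} [Group G]

/-- The fixed points of `x` on the cosets of a coatom are at most a quarter of them. -/
theorem coatom_bound [Finite G] [Group.IsSolvable G] {p : ℕ} (hp : p.Prime) (h3 : 3 < p) {x : G}
    (hx : x ^ p = 1) (hgen : Subgroup.normalClosure {x} = ⊤) {M : Subgroup G} (hM : IsCoatom M) :
    4 * Nat.card {c : G ⧸ M // x • c = c} ≤ M.index := by
  classical
  rcases isEmpty_or_nonempty {c : G ⧸ M // x • c = c} with h0 | ⟨⟨c, hc⟩⟩
  · rw [Nat.card_of_isEmpty, mul_zero]; exact Nat.zero_le _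
  -- reduce to `x ∈ M`
  obtain ⟨g, rfl⟩ := QuotientGroup.mk_surjective c
  obtain ⟨y, hy⟩ : ∃ y, y = g⁻¹ * x * g := ⟨_, rfl⟩
  have hyM : y ∈ M := by
    rw [MulAction.Quotient.smul_mk, QuotientGroup.eq, smul_eq_mul] at hc
    have := M.inv_mem hc
    rw [mul_inv_rev, inv_inv, ← mul_assoc] at this
    rwa [hy]
  have hcard : Nat.card {c : G ⧸ M // x • c = c} = Nat.card {c : G ⧸ M // y • c = c} := by
    refine Nat.card_congr ((MulAction.toPerm g⁻¹).subtypeEquiv fun c => ?_)
    show x • c = c ↔ y • g⁻¹ • c = g⁻¹ • c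
    rw [smul_smul, hy, mul_assoc (g⁻¹ * x) g g⁻¹, mul_inv_cancel, mul_one, ← smul_smul,
      smul_left_cancel_iff]
  have hyp : y ^ p = 1 := by
    rw [hy, show g⁻¹ * x * g = g⁻¹ * x * g⁻¹⁻¹ by rw [inv_inv], conj_pow, hx, mul_one, mul_inv_cancel]
  have hygen : Subgroup.normalClosure {y} = ⊤ := by
    rw [eq_top_iff, ← hgen]
    refine Subgroup.normalClosure_le_normal ?_
    refine Set.singleton_subset_iff.2 ?_
    have hn : (Subgroup.normalClosure {y}).Normal := inferInstance
    have := hn.conj_mem y (Subgroup.subset_normalClosure rfl) g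
    rw [show g * y * g⁻¹ = x by rw [hy]; group] at this
    exact this
  -- a minimal normal supplement
  obtain ⟨N, ⟨hNn, hNM⟩, hmin⟩ := exists_minimal_of_wellFoundedLT
    (fun N : Subgroup G => N.Normal ∧ ¬ N ≤ M) ⟨⊤, inferInstance, fun h => hM.1 (top_le_iff.1 h)⟩
  haveI := hNn
  have hder : ⁅N, N⁆ ≤ M := by
    by_contra hder
    have hle : ⁅N, N⁆ ≤ N := Subgroup.commutator_le_left N N
    have heq : N ≤ ⁅N, N⁆ := hmin ⟨inferInstance, hder⟩ hle
    refine hNM ?_
    by_cases hb : N = ⊥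
    · rw [hb]; exact bot_le
    haveI : Nontrivial N := (Subgroup.nontrivial_iff_ne_bot N).2 hb
    exact absurd (le_antisymm hle heq)
      (ne_of_lt (Group.IsSolvable.commutator_lt_of_ne_bot hb))
  have hsup : N ⊔ M = ⊤ := hM.2 _ (lt_of_le_of_ne le_sup_right fun h => hNM (h ▸ le_sup_left))
  -- the intersection is normal in `N`
  obtain ⟨K, hK⟩ : ∃ K : Subgroup N, K = M.subgroupOf N := ⟨_, rfl⟩
  have hKn : ∀ (g : G) (n : N), n ∈ K →
      (⟨g * n * g⁻¹, hNn.conj_mem n n.2 g⟩ : N) ∈ K := by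
    intro g n hn
    rw [hK, Subgroup.mem_subgroupOf] at hn ⊢
    show g * (n : G) * g⁻¹ ∈ M
    have hg : g ∈ N ⊔ M := hsup ▸ Subgroup.mem_top g
    rw [← SetLike.mem_coe, Subgroup.normal_mul, Set.mem_mul] at hg
    obtain ⟨a, ha, m, hm, rfl⟩ := hg
    have h1 : m * (n : G) * m⁻¹ ∈ M := M.mul_mem (M.mul_mem hm hn) (M.inv_mem hm)
    have h2 : ⁅a, m * (n : G) * m⁻¹⁆ ∈ M :=
      hder (Subgroup.commutator_mem_commutator ha (hNn.conj_mem n n.2 m))
    have := M.mul_mem h2 h1
    rwa [_root_.commutatorElement_def, inv_mul_cancel_right,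
      show a * (m * (n : G) * m⁻¹) * a⁻¹ = a * m * n * (a * m)⁻¹ by group] at this
  haveI hKnorm : K.Normal := ⟨fun n hn g => by
    have := hKn g n hn
    exact this⟩
  letI : CommGroup (N ⧸ K) := { (inferInstance : Group (N ⧸ K)) with
    mul_comm := fun a b => by
      obtain ⟨a, rfl⟩ := QuotientGroup.mk_surjective a
      obtain ⟨b, rfl⟩ := QuotientGroup.mk_surjective b
      rw [← QuotientGroup.mk_mul, ← QuotientGroup.mk_mul, QuotientGroup.eq, hK, Subgroup.mem_subgroupOf]
      have h1 : ⁅(b : G)⁻¹, (a : G)⁻¹⁆ ∈ M :=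
        hder (Subgroup.commutator_mem_commutator (N.inv_mem b.2) (N.inv_mem a.2))
      rw [_root_.commutatorElement_def, inv_inv, inv_inv] at h1
      show ((a : G) * b)⁻¹ * (b * a) ∈ M
      rwa [mul_inv_rev, ← mul_assoc] }
  have hmap : ∀ g : G, K.map ((MulAut.conjNormal g : N ≃* N) : N →* N) = K := by
    intro g
    apply le_antisymm
    · rintro _ ⟨n, hn, rfl⟩
      exact hKn g n hn
    · intro n hn
      exact ⟨⟨g⁻¹ * n * g⁻¹⁻¹, hNn.conj_mem n n.2 g⁻¹⟩, hKn g⁻¹ n hn, Subtype.ext (by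
        show g * (g⁻¹ * (n : G) * g⁻¹⁻¹) * g⁻¹ = n
        group)⟩
  let act : G →* MulAut (N ⧸ K) :=
    MonoidHom.mk' (fun g => QuotientGroup.congr K K (MulAut.conjNormal g) (hmap g)) fun a b =>
      MulEquiv.ext fun c => by
        obtain ⟨n, rfl⟩ := QuotientGroup.mk_surjective c
        show QuotientGroup.congr K K (MulAut.conjNormal (a * b)) (hmap _) (QuotientGroup.mk n) =
          QuotientGroup.congr K K (MulAut.conjNormal a) (hmap _)
            (QuotientGroup.congr K K (MulAut.conjNormal b) (hmap _) (QuotientGroup.mk n))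
        rw [QuotientGroup.congr_mk, QuotientGroup.congr_mk, QuotientGroup.congr_mk, map_mul,
          MulAut.mul_apply]
  have hact : ∀ g (n : N), act g (QuotientGroup.mk n) = QuotientGroup.mk (MulAut.conjNormal g n) :=
    fun g n => QuotientGroup.congr_mk K K _ (hmap g) n
  have hne : act y ≠ 1 := by
    intro h1
    have hker : act.ker = ⊤ := top_le_iff.1 (hygen ▸ Subgroup.normalClosure_le_normal
      (Set.singleton_subset_iff.2 (MonoidHom.mem_ker.2 h1)))
    haveI hMn : M.Normal := ⟨fun m hm g => by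
      have hg : g ∈ N ⊔ M := hsup ▸ Subgroup.mem_top g
      rw [← SetLike.mem_coe, Subgroup.normal_mul, Set.mem_mul] at hg
      obtain ⟨a, ha, m', hm', rfl⟩ := hg
      have hm2 : m' * m * m'⁻¹ ∈ M := M.mul_mem (M.mul_mem hm' hm) (M.inv_mem hm')
      have h8 := MonoidHom.mem_ker.1 (hker ▸ Subgroup.mem_top (m' * m * m'⁻¹))
      have h9 := congrArg (fun f : MulAut (N ⧸ K) => f (QuotientGroup.mk (⟨a⁻¹, N.inv_mem ha⟩ : N))) h8
      simp only [hact, MulAut.one_apply] at h9
      rw [QuotientGroup.eq, hK, Subgroup.mem_subgroupOf] at h9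
      have h10 : (m' * m * m'⁻¹ * a⁻¹ * (m' * m * m'⁻¹)⁻¹)⁻¹ * a⁻¹ ∈ M := h9
      have := M.mul_mem (M.inv_mem h10) hm2
      rwa [show ((m' * m * m'⁻¹ * a⁻¹ * (m' * m * m'⁻¹)⁻¹)⁻¹ * a⁻¹)⁻¹ * (m' * m * m'⁻¹) =
        a * m' * m * (a * m')⁻¹ by group] at this⟩
    exact hM.1 (top_le_iff.1 (hygen ▸ Subgroup.normalClosure_le_normal (Set.singleton_subset_iff.2 hyM)))
  have hθ : act y ^ p = 1 := by rw [← map_pow, hyp, map_one]
  have h4 := four_le_range hp h3 hθ hne
  have h5 := card_range_mul (act y)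
  -- transport to the cosets
  let f : N ⧸ K → G ⧸ M := Quotient.map' (fun n : N => (n : G)) fun a b h => by
    rw [QuotientGroup.leftRel_apply] at h ⊢
    rw [hK, Subgroup.mem_subgroupOf] at h
    exact h
  have hfmk : ∀ n : N, f (QuotientGroup.mk n) = QuotientGroup.mk (n : G) := fun n => rfl
  have hfb : Function.Bijective f := by
    constructor
    · intro a b h
      obtain ⟨a, rfl⟩ := QuotientGroup.mk_surjective a
      obtain ⟨b, rfl⟩ := QuotientGroup.mk_surjective b
      rw [hfmk, hfmk, QuotientGroup.eq] at h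
      rw [QuotientGroup.eq, hK, Subgroup.mem_subgroupOf]
      exact h
    · intro c
      obtain ⟨g, rfl⟩ := QuotientGroup.mk_surjective c
      have hg : g ∈ N ⊔ M := hsup ▸ Subgroup.mem_top g
      rw [← SetLike.mem_coe, Subgroup.normal_mul, Set.mem_mul] at hg
      obtain ⟨a, ha, m, hm, rfl⟩ := hg
      exact ⟨QuotientGroup.mk (⟨a, ha⟩ : N), by
        rw [hfmk, QuotientGroup.eq, inv_mul_cancel_left]; exact hm⟩
  have hequiv : ∀ c, f (act y c) = y • f c := by
    intro c
    obtain ⟨n, rfl⟩ := QuotientGroup.mk_surjective c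
    rw [hact, hfmk, hfmk, MulAction.Quotient.smul_mk, QuotientGroup.eq, MulAut.conjNormal_apply,
      smul_eq_mul]
    rw [show (y * (n : G) * y⁻¹)⁻¹ * (y * (n : G)) = y by group]
    exact hyM
  have hfix : Nat.card {a : N ⧸ K // act y a = a} = Nat.card {c : G ⧸ M // y • c = c} := by
    refine Nat.card_congr ((Equiv.ofBijective f hfb).subtypeEquiv fun a => ?_)
    show _ ↔ y • f a = f a
    rw [← hequiv]
    exact ⟨fun h => by rw [h], fun h => hfb.1 h⟩
  have hidx : Nat.card (N ⧸ K) = M.index := Nat.card_congr (Equiv.ofBijective f hfb)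
  rw [hcard, ← hfix, ← hidx]
  calc 4 * Nat.card {a : N ⧸ K // act y a = a}
      ≤ Nat.card (diffHom (act y)).range * Nat.card {a : N ⧸ K // act y a = a} :=
        Nat.mul_le_mul_right _ h4
    _ = Nat.card (N ⧸ K) := h5

/-- A solvable group generated by conjugates of an element of prime order `p > 3` has that element
fixing at most a quarter of the points of a nontrivial transitive action. -/
theorem fix_frac [Finite G] [Group.IsSolvable G] {X : Type*} [MulAction G X]
    [MulAction.IsPretransitive G X] [Finite X] [Nontrivial X] {p : ℕ} (hp : p.Prime) (h3 : 3 < p)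
    {x : G} (hx : x ^ p = 1) (hgen : Subgroup.normalClosure {x} = ⊤) :
    4 * Nat.card {c : X // x • c = c} ≤ Nat.card X := by
  classical
  obtain ⟨o⟩ := (inferInstance : Nonempty X)
  obtain ⟨H, hH⟩ : ∃ H, H = MulAction.stabilizer G o := ⟨_, rfl⟩
  have hHtop : H ≠ ⊤ := fun h => by
    obtain ⟨b, hb⟩ := exists_ne o
    obtain ⟨g, rfl⟩ := MulAction.exists_smul_eq G o b
    exact hb (MulAction.mem_stabilizer_iff.1 (hH ▸ h ▸ Subgroup.mem_top g))
  obtain ⟨M, hM, hHM⟩ := ((eq_top_or_exists_le_coatom H).resolve_left hHtop)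
  let φ : G ⧸ H → X := Quotient.lift (fun g : G => g • o) fun a b h => by
    have h1 := (QuotientGroup.leftRel_apply).1 h
    rw [hH, MulAction.mem_stabilizer_iff, mul_smul, inv_smul_eq_iff] at h1
    exact h1.symm
  have hφmk : ∀ g : G, φ (QuotientGroup.mk g) = g • o := fun g => rfl
  have hφ : Function.Bijective φ := by
    constructor
    · intro a b h
      obtain ⟨a, rfl⟩ := QuotientGroup.mk_surjective a
      obtain ⟨b, rfl⟩ := QuotientGroup.mk_surjective b
      rw [hφmk, hφmk] at h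
      rw [QuotientGroup.eq, hH, MulAction.mem_stabilizer_iff, mul_smul, inv_smul_eq_iff, h]
    · intro c
      obtain ⟨g, rfl⟩ := MulAction.exists_smul_eq G o c
      exact ⟨QuotientGroup.mk g, hφmk g⟩
  have hφx : ∀ c, φ (x • c) = x • φ c := by
    intro c
    obtain ⟨g, rfl⟩ := QuotientGroup.mk_surjective c
    rw [MulAction.Quotient.smul_mk, hφmk, hφmk, smul_eq_mul, mul_smul]
  rw [← Nat.card_congr (Equiv.ofBijective φ hφ)]
  have hfix : Nat.card {c : X // x • c = c} = Nat.card {c : G ⧸ H // x • c = c} := by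
    refine (Nat.card_congr ((Equiv.ofBijective φ hφ).subtypeEquiv fun a => ?_)).symm
    show _ ↔ x • φ a = φ a
    rw [← hφx]
    exact ⟨fun h => by rw [h], fun h => hφ.1 h⟩
  rw [hfix]
  let e : G ⧸ H ≃ (G ⧸ M) × M ⧸ H.subgroupOf M := Subgroup.quotientEquivProdOfLE hHM
  have he : ∀ c, (e c).1 = Subgroup.quotientMapOfLE hHM c := by
    intro c
    obtain ⟨g, rfl⟩ := QuotientGroup.mk_surjective c
    rfl
  let g : {c : G ⧸ H // x • c = c} → {c : G ⧸ M // x • c = c} × M ⧸ H.subgroupOf M := fun c =>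
    (⟨(e c.1).1, by
      rw [he]
      obtain ⟨c, hc⟩ := c
      obtain ⟨a, rfl⟩ := QuotientGroup.mk_surjective c
      rw [Subgroup.quotientMapOfLE_apply_mk, MulAction.Quotient.smul_mk]
      rw [MulAction.Quotient.smul_mk] at hc
      exact congrArg (Subgroup.quotientMapOfLE hHM) hc⟩, (e c.1).2)
  have hg : Function.Injective g := fun a b h => Subtype.ext (e.injective (Prod.ext
    (congrArg (fun z => z.1.1) h) (congrArg (fun z => z.2) h)))
  have h1 := Nat.card_le_card_of_injective g hg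
  rw [Nat.card_prod] at h1
  rw [Nat.card_congr e, Nat.card_prod]
  calc 4 * Nat.card {c : G ⧸ H // x • c = c}
      ≤ 4 * (Nat.card {c : G ⧸ M // x • c = c} * Nat.card (M ⧸ H.subgroupOf M)) :=
        Nat.mul_le_mul_left _ h1
    _ ≤ _ := by
      rw [← mul_assoc]
      exact Nat.mul_le_mul_right _ (coatom_bound hp h3 hx hgen hM)

end Cfsg.Agent.Solv.FixFrac
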