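import Cfsg.Agent.Lib.Solv.SplitBNStem
import Cfsg.Agent.Lib.Small.SteinbergSL2
import Cfsg.Agent.Lib.Lie.SL2Hom

/-!
Lifting a rank one subgroup through a central kernel of order prime to the characteristic, and the torus and
Weyl group lifted from two rank one subgroups.
-/

set_option autoImplicit false
set_option linter.unusedSectionVars false

namespace Cfsg.Agent.Solv.SplitBNStem

open Cfsg.Agent.Lie Matrix
open Cfsg.Agent.Small
open scoped MatrixGroups

variable {Γ G : Type*} [Group Γ] [Group G] [Finite Γ] {σ : Γ →* G} {F : Type*} [Field F] [Finite F] {p : ℕ}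
  [Fact p.Prime] (hs : Function.Surjective σ) (hc : σ.ker ≤ Subgroup.center Γ) (hp' : ¬ p ∣ Nat.card σ.ker)

theorem el_true_eq (t : F) : SteinbergSL2.el true t = (upS t : Matrix.SpecialLinearGroup (Fin 2) F) := rfl

theorem el_false_eq (t : F) : SteinbergSL2.el false t = (loS t : Matrix.SpecialLinearGroup (Fin 2) F) := rfl

theorem closure_up_lo : Subgroup.closure (Set.range (upS (F := F)) ∪ Set.range loS) =
    (⊤ : Subgroup (Matrix.SpecialLinearGroup (Fin 2) F)) := by
  obtain ⟨e, he1, he2⟩ := SteinbergSL2.main (K := F)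
  rw [eq_top_iff]
  intro g _
  obtain ⟨x, rfl⟩ := e.surjective g
  have hle : (⊤ : Subgroup (PresentedGroup (SteinbergSL2.rels F))) ≤
      (Subgroup.closure (Set.range (upS (F := F)) ∪ Set.range loS)).comap e.toMonoidHom := by
    rw [← PresentedGroup.closure_range_of, Subgroup.closure_le]
    rintro _ ⟨⟨b, t⟩, rfl⟩
    cases b
    · exact Subgroup.subset_closure (Or.inr ⟨t, Subtype.ext (he2 t).symm⟩)
    · exact Subgroup.subset_closure (Or.inl ⟨t, Subtype.ext (he1 t).symm⟩)
  exact hle (Subgroup.mem_top x)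

include hs hc hp'

/-- A homomorphism from SL₂ lifts, root elements going to their lifts of p-power order. -/
theorem exists_sl2Lift (hp : (p : F) = 0) (φ : Matrix.SpecialLinearGroup (Fin 2) F →* G) :
    ∃ ψ : Matrix.SpecialLinearGroup (Fin 2) F →* Γ, (∀ g, σ (ψ g) = φ g) ∧
      (∀ t, IsP p (ψ (upS t))) ∧ ∀ t, IsP p (ψ (loS t)) := by
  have hpw : ∀ (b : Bool) (t : F), IsP p (φ (SteinbergSL2.el b t)) := by
    intro b t
    refine ⟨1, ?_⟩
    have h : ∀ n : ℕ, φ (SteinbergSL2.el b t) ^ n = φ (SteinbergSL2.el b ((n : F) * t)) := by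
      intro n
      induction n with
      | zero =>
        rw [pow_zero, Nat.cast_zero, zero_mul, ← map_one φ]
        congr 1
        cases b <;> ext i j <;> fin_cases i <;> fin_cases j <;> simp [SteinbergSL2.el]
      | succ n ih =>
        rw [pow_succ, ih, ← map_mul, Nat.cast_succ, add_mul, one_mul]
        congr 1
        cases b <;> refine Subtype.ext ?_ <;>
          simp [SteinbergSL2.cm, SteinbergSL2.el_true, SteinbergSL2.el_false, mul_fin_two, add_comm]
    rw [pow_one, h, hp, zero_mul, ← map_one φ]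
    congr 1
    cases b <;> ext i j <;> fin_cases i <;> fin_cases j <;> simp [SteinbergSL2.el]
  choose y hy hyp using fun q : Bool × F => lift_exists σ hs hc hp' (hpw q.1 q.2)
  have hrels : ∀ r ∈ SteinbergSL2.rels F, FreeGroup.lift y r = 1 := by
    intro r hr
    have h1 : φ (FreeGroup.lift (fun bt : Bool × F => SteinbergSL2.el bt.1 bt.2) r) = 1 := by
      rw [SteinbergSL2.el_rels r hr, map_one]
    rcases hr with ⟨b, t, u, rfl⟩ | ⟨b, t, u, ht, rfl⟩
    · simp only [map_mul, map_inv, FreeGroup.lift_apply_of, mul_inv_eq_one] at h1 ⊢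
      obtain ⟨U, hU⟩ : ∃ U : Subgroup G, U = Subgroup.closure (Set.range fun v => φ (SteinbergSL2.el b v)) :=
        ⟨_, rfl⟩
      have hadd : ∀ v w : F, φ (SteinbergSL2.el b v) * φ (SteinbergSL2.el b w) = φ (SteinbergSL2.el b (v + w)) := by
        intro v w
        rw [← map_mul]
        congr 1
        cases b <;> refine Subtype.ext ?_ <;>
          simp [SteinbergSL2.cm, SteinbergSL2.el_true, SteinbergSL2.el_false, mul_fin_two, add_comm]
      have hUP : IsPGroup p U := by
        intro g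
        have hsub : ∀ g ∈ U, ∃ v, g = φ (SteinbergSL2.el b v) := by
          intro g hg
          rw [hU] at hg
          induction hg using Subgroup.closure_induction with
          | mem x hx => obtain ⟨v, rfl⟩ := hx; exact ⟨v, rfl⟩
          | one =>
            refine ⟨0, (map_one φ).symm.trans (congrArg φ ?_)⟩
            cases b <;> ext i j <;> fin_cases i <;> fin_cases j <;> simp [SteinbergSL2.el]
          | mul x z _ _ ihx ihz =>
            obtain ⟨v, rfl⟩ := ihx
            obtain ⟨w, rfl⟩ := ihz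
            exact ⟨v + w, hadd v w⟩
          | inv x _ ih =>
            obtain ⟨v, rfl⟩ := ih
            refine ⟨-v, inv_eq_of_mul_eq_one_right ?_⟩
            rw [hadd, add_neg_cancel, ← map_one φ]
            congr 1
            cases b <;> ext i j <;> fin_cases i <;> fin_cases j <;> simp [SteinbergSL2.el]
        obtain ⟨v, hv⟩ := hsub g g.2
        obtain ⟨n, hn⟩ := hpw b v
        exact ⟨n, Subtype.ext (by rw [Subgroup.coe_pow, hv, hn, Subgroup.coe_one])⟩
      obtain ⟨s, hsec⟩ := exists_section σ hs hc hp' U hUP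
      have hm : ∀ v, φ (SteinbergSL2.el b v) ∈ U := fun v => hU ▸ Subgroup.subset_closure ⟨v, rfl⟩
      have hy' : ∀ v, y (b, v) = s ⟨_, hm v⟩ := fun v =>
        lift_unique σ hc hp' (by rw [hy, (hsec _).1]) (hyp _) (hsec _).2
      rw [hy', hy', hy', ← map_mul]
      exact congrArg s (Subtype.ext (hadd t u))
    · simp only [map_mul, map_inv, FreeGroup.lift_apply_of, mul_inv_eq_one] at h1 ⊢
      refine lift_unique σ hc hp' ?_ ((hyp _).conj _) (hyp _)
      simp only [map_mul, map_inv, hy]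
      exact h1
  obtain ⟨e, he1, he2⟩ := SteinbergSL2.main (K := F)
  have heq : ∀ b t, e (PresentedGroup.of (b, t)) = SteinbergSL2.el b t := by
    intro b t
    refine Subtype.ext ?_
    cases b
    · rw [he2, SteinbergSL2.el_false]
    · rw [he1, SteinbergSL2.el_true]
  refine ⟨(PresentedGroup.toGroup hrels).comp e.symm.toMonoidHom, fun g => ?_, fun t => ?_, fun t => ?_⟩
  · obtain ⟨x, rfl⟩ := e.surjective g
    have he : σ.comp (PresentedGroup.toGroup hrels) = φ.comp e.toMonoidHom := by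
      refine PresentedGroup.ext fun ⟨b, t⟩ => ?_
      rw [MonoidHom.comp_apply, PresentedGroup.toGroup.of, hy, MonoidHom.comp_apply]
      exact congrArg φ (heq b t).symm
    simp only [MonoidHom.comp_apply, MulEquiv.coe_toMonoidHom, MulEquiv.symm_apply_apply]
    exact DFunLike.congr_fun he x
  · rw [MonoidHom.comp_apply, MulEquiv.coe_toMonoidHom, ← el_true_eq, ← heq, MulEquiv.symm_apply_apply,
      PresentedGroup.toGroup.of]
    exact hyp _
  · rw [MonoidHom.comp_apply, MulEquiv.coe_toMonoidHom, ← el_false_eq, ← heq, MulEquiv.symm_apply_apply,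
      PresentedGroup.toGroup.of]
    exact hyp _

omit hs in
/-- An element permuting the two root groups of φ normalises the lifted subgroup. -/
theorem conj_range {φ : Matrix.SpecialLinearGroup (Fin 2) F →* G} {ψ ψ' : Matrix.SpecialLinearGroup (Fin 2) F →* Γ}
    {φ' : Matrix.SpecialLinearGroup (Fin 2) F →* G}
    (hψ : (∀ g, σ (ψ g) = φ g) ∧ (∀ t, IsP p (ψ (upS t))) ∧ ∀ t, IsP p (ψ (loS t)))
    (hψ' : (∀ g, σ (ψ' g) = φ' g) ∧ (∀ t, IsP p (ψ' (upS t))) ∧ ∀ t, IsP p (ψ' (loS t))) {g : Γ}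
    (hu : ∀ t, ∃ t', σ g * φ (upS t) * (σ g)⁻¹ = φ' (upS t') ∨ σ g * φ (upS t) * (σ g)⁻¹ = φ' (loS t'))
    (hl : ∀ t, ∃ t', σ g * φ (loS t) * (σ g)⁻¹ = φ' (upS t') ∨ σ g * φ (loS t) * (σ g)⁻¹ = φ' (loS t')) :
    ∀ a ∈ ψ.range, g * a * g⁻¹ ∈ ψ'.range := by
  have hle : (⊤ : Subgroup (Matrix.SpecialLinearGroup (Fin 2) F)) ≤
      (ψ'.range.comap ((MulAut.conj g).toMonoidHom.comp ψ)) := by
    rw [← closure_up_lo, Subgroup.closure_le]
    rintro _ (⟨t, rfl⟩ | ⟨t, rfl⟩)
    · obtain ⟨t', h | h⟩ := hu t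
      · exact ⟨upS t', lift_unique σ hc hp' (by simp [hψ.1, hψ'.1, h]) (hψ'.2.1 t') ((hψ.2.1 t).conj g)⟩
      · exact ⟨loS t', lift_unique σ hc hp' (by simp [hψ.1, hψ'.1, h]) (hψ'.2.2 t') ((hψ.2.1 t).conj g)⟩
    · obtain ⟨t', h | h⟩ := hl t
      · exact ⟨upS t', lift_unique σ hc hp' (by simp [hψ.1, hψ'.1, h]) (hψ'.2.1 t') ((hψ.2.2 t).conj g)⟩
      · exact ⟨loS t', lift_unique σ hc hp' (by simp [hψ.1, hψ'.1, h]) (hψ'.2.2 t') ((hψ.2.2 t).conj g)⟩
  rintro a ⟨x, rfl⟩
  exact hle (Subgroup.mem_top x)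

end Cfsg.Agent.Solv.SplitBNStem
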