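import Cfsg.Agent.Lib.Solv.HallHigman
import Cfsg.Agent.Lib.Solv.Generation
import Cfsg.Agent.Lib.Solv.ThompsonFPF
import Cfsg.Agent.Lib.Solv.SZ
import Cfsg.Agent.Lib.Fusion.ThompsonNPC
import Cfsg.Agent.Lib.Fusion.AbelianHall
import Cfsg.Agent.Lib.Fusion.Sections
import Cfsg.Agent.Lib.Perm.Huppert

/-!
Kegel's theorem: a splitting automorphism of prime order forces nilpotence.
-/

set_option autoImplicit false
set_option linter.style.haveILetI false

open scoped Pointwise commutatorElement
open Cfsg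

namespace Cfsg.Agent.Solv

universe u

/-- All elements of the coset `G a` have order dividing `p`. -/
def SplitCoset {X : Type u} [Group X] (p : ℕ) (G : Subgroup X) (a : X) : Prop :=
  a ∈ Subgroup.normalizer (G : Set X) ∧ ∀ g ∈ G, (g * a) ^ p = 1

theorem SplitCoset.mul_left {X : Type u} [Group X] {p : ℕ} {G : Subgroup X} {a : X}
    (h : SplitCoset p G a) {g : X} (hg : g ∈ G) : SplitCoset p G (g * a) :=
  ⟨mul_mem (Subgroup.le_normalizer hg) h.1, fun g' hg' => by
    rw [← mul_assoc]; exact h.2 _ (G.mul_mem hg' hg)⟩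

theorem SplitCoset.mono {X : Type u} [Group X] {p : ℕ} {G H : Subgroup X} {a : X}
    (h : SplitCoset p G a) (hHG : H ≤ G) (ha : a ∈ Subgroup.normalizer (H : Set X)) : SplitCoset p H a :=
  ⟨ha, fun g hg => h.2 g (hHG hg)⟩

theorem SplitCoset.pow_eq_one {X : Type u} [Group X] {p : ℕ} {G : Subgroup X} {a : X}
    (h : SplitCoset p G a) : a ^ p = 1 := by simpa using h.2 1 (one_mem G)

theorem SplitCoset.fixed_pow {X : Type u} [Group X] {p : ℕ} {G : Subgroup X} {a g : X}
    (h : SplitCoset p G a) (hg : g ∈ G) (hc : Commute g a) : g ^ p = 1 := by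
  have h1 := h.2 g hg
  rwa [hc.mul_pow, h.pow_eq_one, mul_one] at h1

theorem SplitCoset.exists_normalizing_sylow {X : Type u} [Group X] [Finite X] {p : ℕ} [Fact p.Prime]
    {G : Subgroup X} {a : X} (h : SplitCoset p G a) :
    ∃ (S : Sylow p G) (b : X), SplitCoset p G b ∧
      b ∈ Subgroup.normalizer (((S : Subgroup G).map G.subtype : Subgroup X) : Set X) ∧
      b * a⁻¹ ∈ G := by
  obtain ⟨S⟩ : Nonempty (Sylow p G) := inferInstance
  let α : MulAut G := Subgroup.normalizerMonoidHom G ⟨a, h.1⟩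
  obtain ⟨g, hg⟩ := MulAction.exists_smul_eq G (α • S) S
  refine ⟨S, (g : X) * a, h.mul_left g.2, ?_, by rw [mul_inv_cancel_right]; exact g.2⟩
  have h2 : ∀ s ∈ (S : Subgroup G), g * α s * g⁻¹ ∈ (S : Subgroup G) := fun s hs => by
    rw [← hg]
    exact ⟨α s, ⟨s, hs, rfl⟩, rfl⟩
  have hmap : ((S : Subgroup G).map G.subtype).map (MulAut.conj ((g : X) * a)).toMonoidHom =
      (S : Subgroup G).map G.subtype := by
    refine Subgroup.eq_of_le_of_card_ge ?_ (le_of_eq (Subgroup.card_map_of_injective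
      (MulAut.conj ((g : X) * a)).injective).symm)
    rintro _ ⟨_, ⟨s, hs, rfl⟩, rfl⟩
    refine ⟨g * α s * g⁻¹, h2 s hs, ?_⟩
    show (g : X) * (a * (s : X) * a⁻¹) * (g : X)⁻¹ = (g : X) * a * (s : X) * ((g : X) * a)⁻¹
    group
  exact mem_normalizer_of_map_conj hmap

/-- The action of a normalizer on an abelian image sums to zero on a splitting coset. -/
theorem split_prod_eq_one {X : Type u} [Group X] {p : ℕ} {G P : Subgroup X} {y : X}
    (hy : SplitCoset p G y) (hPG : P ≤ G) (hyP : y ∈ Subgroup.normalizer (P : Set X))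
    {V : Type*} [CommGroup V] (f : P →* V) (x : P) :
    ∏ i ∈ Finset.range p, f ((Subgroup.normalizerMonoidHom P (⟨y, hyP⟩ ^ i)) x) = 1 := by
  have key : ∀ n : ℕ, ∃ q : P, ((x : X) * y) ^ n = q * y ^ n ∧
      f q = ∏ i ∈ Finset.range n, f ((Subgroup.normalizerMonoidHom P (⟨y, hyP⟩ ^ i)) x) := by
    intro n
    induction n with
    | zero => exact ⟨1, by simp⟩
    | succ n ih =>
      obtain ⟨q, hq, hfq⟩ := ih
      refine ⟨q * (Subgroup.normalizerMonoidHom P (⟨y, hyP⟩ ^ n)) x, ?_, ?_⟩
      · rw [pow_succ, hq, Subgroup.coe_mul]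
        show (q : X) * y ^ n * ((x : X) * y) = (q : X) *
          (((⟨y, hyP⟩ : Subgroup.normalizer (P : Set X)) ^ n : Subgroup.normalizer (P : Set X)) * (x : X) *
            (((⟨y, hyP⟩ : Subgroup.normalizer (P : Set X)) ^ n : Subgroup.normalizer (P : Set X)) : X)⁻¹) *
          y ^ (n + 1)
        rw [SubmonoidClass.coe_pow, pow_succ]
        group
      · rw [map_mul, hfq, Finset.prod_range_succ]
  obtain ⟨q, hq, hfq⟩ := key p
  rw [hy.2 _ (hPG x.2), hy.pow_eq_one, mul_one] at hq
  rw [← hfq, show q = 1 from Subtype.ext hq.symm, map_one]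

/-- A fixed-point-free `b` on `R` with all elements of `R b` splitting on `V` forces `R` trivial on `V`. -/
theorem split_trivial {X : Type u} [Group X] [Finite X] {p : ℕ} [Fact p.Prime] {G P R : Subgroup X} {b : X}
    (hb : SplitCoset p G b) (hPG : P ≤ G) (hRG : R ≤ G) (hPp : IsPGroup p P)
    (hRP : R ≤ Subgroup.normalizer (P : Set X)) (hbP : b ∈ Subgroup.normalizer (P : Set X))
    (hbR : b ∈ Subgroup.normalizer (R : Set X)) (hRco : (Nat.card R).Coprime p)
    {V : Type*} [CommGroup V] (hV : ∀ v : V, v ^ p = 1) (f : P →* V) (x : P) (r₀ : R) :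
    f ((Subgroup.normalizerMonoidHom P ⟨r₀, hRP r₀.2⟩) x) = f x := by
  classical
  haveI := Fintype.ofFinite R
  have hp : p.Prime := Fact.out
  obtain ⟨φ, hφ⟩ : ∃ φ, φ = Subgroup.normalizerMonoidHom P := ⟨_, rfl⟩
  obtain ⟨bn, hbn⟩ : ∃ bn : Subgroup.normalizer (P : Set X), bn = ⟨b, hbP⟩ := ⟨_, rfl⟩
  obtain ⟨rn, hrn⟩ : ∃ rn : R →* Subgroup.normalizer (P : Set X), rn = Subgroup.inclusion hRP := ⟨_, rfl⟩
  let W : P →* V :=
    MonoidHom.mk' (fun u => ∏ r : R, f (φ (rn r) u)) fun u w => by
      simp only [map_mul, Finset.prod_mul_distrib]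
  have hW : ∀ u, W u = ∏ r : R, f (φ (rn r) u) := fun u => rfl
  have hWinv : ∀ (r : R) (u : P), W (φ (rn r) u) = W u := by
    intro r u
    rw [hW, hW]
    refine Fintype.prod_equiv (Equiv.mulRight r) _ _ fun s => ?_
    rw [Equiv.coe_mulRight, map_mul, map_mul, MulAut.mul_apply]
  -- fixed-point-freeness
  have hfree : ∀ (i : ℕ), 0 < i → i < p → ∀ r : R, Commute (r : X) (b ^ i) → r = 1 := by
    intro i h0 hi r hc
    have hc' : Commute (r : X) b := by
      have hco : i.Coprime p := Nat.Coprime.symm (hp.coprime_iff_not_dvd.2 fun hd => by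
        have := Nat.le_of_dvd h0 hd; omega)
      obtain ⟨u, hu⟩ := exists_pow_eq_self_of_coprime (x := b)
        (hco.coprime_dvd_right (orderOf_dvd_of_pow_eq_one hb.pow_eq_one))
      rw [← hu]; exact hc.pow_right u
    refine Subtype.ext (orderOf_eq_one_iff.1 ?_)
    exact Nat.eq_one_of_dvd_coprimes hRco
      (Subgroup.orderOf_dvd_natCard R r.2) (orderOf_dvd_of_pow_eq_one (hb.fixed_pow (hRG r.2) hc'))
  have hbi : ∀ (i : ℕ) (t : R), b ^ i * (t : X) * (b ^ i)⁻¹ ∈ R := fun i t =>
    (Subgroup.mem_normalizer_iff.1 (pow_mem hbR i) _).1 t.2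
  suffices hpow : ∀ x : P, f x ^ Nat.card R = W x by
    have h1 : f (φ (rn r₀) x) ^ Nat.card R = f x ^ Nat.card R := by rw [hpow, hpow, hWinv]
    have h2 : f (φ (rn r₀) x) / f x = 1 := orderOf_eq_one_iff.1 (Nat.eq_one_of_dvd_coprimes hRco
      (orderOf_dvd_of_pow_eq_one (by rw [div_pow, h1, div_self'])) (orderOf_dvd_of_pow_eq_one (hV _)))
    rw [div_eq_one, hφ, hrn] at h2
    exact h2
  intro x
  -- the sum over the coset elements `r b r⁻¹`
  have hsum : ∀ r : R, ∏ i ∈ Finset.range p, f (φ (rn r * bn ^ i * (rn r)⁻¹) x) = 1 := by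
    intro r
    have hy : SplitCoset p G ((r : X) * b * (r : X)⁻¹) := by
      have e : (r : X) * b * (r : X)⁻¹ = ((r : X) * (b * (r : X)⁻¹ * b⁻¹)) * b := by group
      rw [e]
      exact hb.mul_left (G.mul_mem (hRG r.2) ((Subgroup.mem_normalizer_iff.1 hb.1 _).1 (G.inv_mem (hRG r.2))))
    have hyP : (r : X) * b * (r : X)⁻¹ ∈ Subgroup.normalizer (P : Set X) :=
      mul_mem (mul_mem (hRP r.2) hbP) (inv_mem (hRP r.2))
    have h := split_prod_eq_one hy hPG hyP f x
    rw [← h]
    refine Finset.prod_congr rfl fun i _ => ?_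
    rw [← conj_pow, hφ, hbn, hrn]
    rfl
  have hswap : (∏ i ∈ Finset.range p, ∏ r : R, f (φ (rn r * bn ^ i * (rn r)⁻¹) x)) = 1 := by
    rw [Finset.prod_comm]
    exact Finset.prod_eq_one fun r _ => hsum r
  have hterm : ∀ i ∈ Finset.range p, i ≠ 0 →
      ∏ r : R, f (φ (rn r * bn ^ i * (rn r)⁻¹) x) = W (φ (bn ^ i) x) := by
    intro i hi h0
    rw [hW]
    refine Fintype.prod_bijective (fun r : R => r * ⟨_, hbi i r⁻¹⟩) ?_ _ _ fun r => ?_
    · refine (Fintype.bijective_iff_injective_and_card _).2 ⟨fun r s h => ?_, rfl⟩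
      have h1 : (r : X) * (b ^ i * (r : X)⁻¹ * (b ^ i)⁻¹) = (s : X) * (b ^ i * (s : X)⁻¹ * (b ^ i)⁻¹) :=
        congrArg Subtype.val h
      have hc : Commute ((s⁻¹ * r : R) : X) (b ^ i) := by
        show (s : X)⁻¹ * (r : X) * b ^ i = b ^ i * ((s : X)⁻¹ * (r : X))
        calc (s : X)⁻¹ * (r : X) * b ^ i
            = (s : X)⁻¹ * ((r : X) * (b ^ i * (r : X)⁻¹ * (b ^ i)⁻¹)) * b ^ i * (r : X) := by group
          _ = (s : X)⁻¹ * ((s : X) * (b ^ i * (s : X)⁻¹ * (b ^ i)⁻¹)) * b ^ i * (r : X) := by rw [h1]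
          _ = _ := by group
      exact (inv_mul_eq_one.1 (hfree i (Nat.pos_of_ne_zero h0) (Finset.mem_range.1 hi) _ hc)).symm
    · rw [show rn r * bn ^ i * (rn r)⁻¹ = rn (r * ⟨_, hbi i r⁻¹⟩) * bn ^ i from Subtype.ext (by
        simp only [Subgroup.coe_mul, InvMemClass.coe_inv, SubmonoidClass.coe_pow, hrn, hbn,
          Subgroup.coe_inclusion]
        group), map_mul, MulAut.mul_apply]
  have hzero : ∏ r : R, f (φ (rn r * bn ^ 0 * (rn r)⁻¹) x) = f x ^ Nat.card R := by
    simp only [pow_zero, mul_one, mul_inv_cancel, map_one, MulAut.one_apply]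
    rw [Finset.prod_const, Finset.card_univ, Nat.card_eq_fintype_card]
  have hall : ∏ i ∈ Finset.range p, W (φ (bn ^ i) x) = 1 := by
    rw [hφ, hbn]; exact split_prod_eq_one hb hPG hbP W x
  have h0mem : (0 : ℕ) ∈ Finset.range p := Finset.mem_range.2 hp.pos
  rw [← Finset.mul_prod_erase _ _ h0mem, hzero] at hswap
  rw [← Finset.mul_prod_erase _ _ h0mem, pow_zero, map_one, MulAut.one_apply] at hall
  rw [Finset.prod_congr rfl fun i hi => hterm i (Finset.mem_of_mem_erase hi) (Finset.ne_of_mem_erase hi),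
    ← inv_eq_of_mul_eq_one_right hall, mul_inv_eq_one] at hswap
  exact hswap

theorem mem_normalizer_inf_normalizer {X : Type u} [Group X] {G J : Subgroup X} {b : X}
    (hG : b ∈ Subgroup.normalizer (G : Set X)) (hJ : b ∈ Subgroup.normalizer (J : Set X))
    (H : Subgroup X) (hH : ∀ y, y ∈ H ↔ y ∈ G ∧ y ∈ Subgroup.normalizer (J : Set X)) :
    b ∈ Subgroup.normalizer (H : Set X) := by
  refine Subgroup.mem_normalizer_iff.2 fun y => ?_
  rw [hH, hH, ← Subgroup.mem_normalizer_iff.1 hG]
  refine and_congr_right fun _ => ⟨fun h => mul_mem (mul_mem hJ h) (inv_mem hJ), fun h => ?_⟩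
  have := mul_mem (mul_mem (inv_mem hJ) h) hJ
  simpa [mul_assoc] using this

/-- Kegel's theorem. -/
theorem split_nilpotent_aux {p : ℕ} [Fact p.Prime] (hp2 : p ≠ 2) : ∀ (n : ℕ) {X : Type u} [Group X] [Finite X]
    (G : Subgroup X) (a : X), Nat.card G = n → SplitCoset p G a → Group.IsNilpotent G := by
  intro n
  induction n using Nat.strong_induction_on with
  | _ n ih =>
    intro X _ _ G a hn h
    classical
    subst hn
    have hp : p.Prime := Fact.out
    by_cases haG : a ∈ G
    · have hGp : IsPGroup p G := fun g => ⟨1, Subtype.ext (by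
        have h1 := h.2 ((g : X) * a⁻¹) (G.mul_mem g.2 (G.inv_mem haG))
        rw [inv_mul_cancel_right] at h1
        rw [pow_one]; exact h1)⟩
      exact hGp.isNilpotent
    obtain ⟨S, b, hb, hbP, hba⟩ := h.exists_normalizing_sylow
    have hbG : b ∉ G := fun hm => haG (by
      have := G.mul_mem (G.inv_mem hba) hm
      simpa [mul_assoc] using this)
    obtain ⟨P, hP⟩ : ∃ P, P = (S : Subgroup G).map G.subtype := ⟨_, rfl⟩
    rw [← hP] at hbP
    have hPG : P ≤ G := hP ▸ Subgroup.map_subtype_le _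
    have hPp : IsPGroup p P := hP ▸ S.2.map _
    by_cases hP1 : P = ⊥
    · refine fpf_nilpotent G b hp hb.pow_eq_one hb.1 ((Subgroup.eq_bot_iff_forall _).2 ?_)
      rintro g ⟨hg, hgb⟩
      have hS : Nat.card (S : Subgroup G) = 1 := by
        rw [hP, Subgroup.map_eq_bot_iff_of_injective _ G.subtype_injective] at hP1
        rw [hP1, Subgroup.card_bot]
      rw [S.card_eq_multiplicity] at hS
      have hnd : ¬ p ∣ Nat.card G := fun hd => by
        have := hp.factorization_pos_of_dvd (Nat.card_pos (α := G)).ne' hd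
        have := Nat.one_lt_pow this.ne' hp.one_lt
        omega
      exact orderOf_eq_one_iff.1 (Nat.eq_one_of_dvd_coprimes (hp.coprime_iff_not_dvd.2 hnd).symm
        (Subgroup.orderOf_dvd_natCard G hg) (orderOf_dvd_of_pow_eq_one
          (hb.fixed_pow hg (Subgroup.mem_centralizer_singleton_iff.1 hgb))))
    have hquot : ∀ (N : Subgroup X), N ≤ G → N ≠ ⊥ → G ≤ Subgroup.normalizer (N : Set X) →
        b ∈ Subgroup.normalizer (N : Set X) → ∀ [(N.subgroupOf G).Normal],
          Group.IsNilpotent (G ⧸ N.subgroupOf G) := by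
      intro N hNG hN1 hGN hbN _
      obtain ⟨M, hM⟩ : ∃ M, M = Subgroup.normalizer (N : Set X) := ⟨_, rfl⟩
      haveI : (N.subgroupOf M).Normal :=
        Subgroup.normal_subgroupOf_of_le_normalizer (le_of_eq hM)
      obtain ⟨π, hπ⟩ : ∃ π, π = QuotientGroup.mk' (N.subgroupOf M) := ⟨_, rfl⟩
      obtain ⟨f, hf⟩ : ∃ f, f = π.comp (Subgroup.inclusion (hGN.trans hM.ge)) := ⟨_, rfl⟩
      have hker : f.ker = N.subgroupOf G := by
        ext g
        rw [hf, MonoidHom.mem_ker, MonoidHom.comp_apply, hπ, QuotientGroup.mk'_apply,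
          QuotientGroup.eq_one_iff, Subgroup.mem_subgroupOf, Subgroup.mem_subgroupOf, Subgroup.coe_inclusion]
      have hbM : b ∈ M := hM ▸ hbN
      have hlt : Nat.card f.range < Nat.card G := by
        rw [← Subgroup.index_ker, hker, ← (N.subgroupOf G).card_mul_index]
        refine lt_mul_of_one_lt_left (Nat.pos_of_ne_zero Subgroup.index_ne_zero_of_finite) ?_
        rw [Subgroup.one_lt_card_iff_ne_bot, Ne, Subgroup.subgroupOf_eq_bot]
        exact fun hd => hN1 (by rwa [disjoint_of_le_iff_left_eq_bot hNG] at hd)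
      haveI := ih _ hlt f.range (π ⟨b, hbM⟩) rfl ⟨by
        refine Subgroup.mem_normalizer_iff.2 fun y => ⟨?_, ?_⟩
        · rintro ⟨g, rfl⟩
          refine ⟨⟨_, (Subgroup.mem_normalizer_iff.1 hb.1 g).1 g.2⟩, ?_⟩
          rw [hf, MonoidHom.comp_apply, MonoidHom.comp_apply, ← map_inv, ← map_mul, ← map_mul]
          exact congrArg π (Subtype.ext rfl)
        · rintro ⟨g, hg⟩
          refine ⟨⟨b⁻¹ * g * b, (Subgroup.mem_normalizer_iff.1 hb.1 _).2 (by simp [mul_assoc])⟩, ?_⟩
          have e : y = (π ⟨b, hbM⟩)⁻¹ * f g * π ⟨b, hbM⟩ := by rw [hg]; group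
          rw [e, hf, MonoidHom.comp_apply, MonoidHom.comp_apply, ← map_inv, ← map_mul, ← map_mul]
          exact congrArg π (Subtype.ext rfl), by
        rintro _ ⟨g, rfl⟩
        rw [hf, MonoidHom.comp_apply, ← map_mul, ← map_pow,
          show (Subgroup.inclusion (hGN.trans hM.ge) g * ⟨b, hbM⟩) ^ p = 1 from Subtype.ext (by
            rw [SubmonoidClass.coe_pow, Subgroup.coe_mul]; exact hb.2 _ g.2), map_one]⟩
      let e : G ⧸ N.subgroupOf G ≃* f.range :=
        (QuotientGroup.quotientMulEquivOfEq hker.symm).trans (QuotientGroup.quotientKerEquivRange f)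
      exact Group.nilpotent_of_mulEquiv e.symm
    -- a central subgroup finishes the proof
    have hcentral : ∀ (N : Subgroup X), N ≤ G → N ≠ ⊥ → b ∈ Subgroup.normalizer (N : Set X) →
        (∀ z ∈ N, ∀ g ∈ G, g * z = z * g) → Group.IsNilpotent G := by
      intro N hNG hN1 hbN hc
      have hGN : G ≤ Subgroup.normalizer (N : Set X) := fun g hg => Subgroup.mem_normalizer_iff.2 fun y => by
        refine ⟨fun hy => by rwa [hc y hy g hg, mul_inv_cancel_right], fun hy => ?_⟩
        have h1 := hc _ hy g⁻¹ (G.inv_mem hg)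
        have h2 : y = g * y * g⁻¹ := by
          calc y = g⁻¹ * (g * y * g⁻¹) * g := by group
            _ = (g * y * g⁻¹) * g⁻¹ * g := by rw [h1]
            _ = _ := by group
        rw [h2]; exact hy
      haveI := Subgroup.normal_subgroupOf_of_le_normalizer hGN
      haveI := hquot N hNG hN1 hGN hbN
      refine Subgroup.isNilpotent_of_ker_le_center (QuotientGroup.mk' (N.subgroupOf G)) ?_
      rw [QuotientGroup.ker_mk']
      exact fun z hz => Subgroup.mem_center_iff.2 fun g => Subtype.ext (hc _ hz _ g.2)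
    have hSnt : Nontrivial (S : Subgroup G) := by
      rw [Subgroup.nontrivial_iff_ne_bot]
      intro h0
      exact hP1 (by rw [hP, h0, Subgroup.map_bot])
    -- the case of a normal Sylow subgroup
    have hnormal : (S : Subgroup G).Normal → Group.IsNilpotent G := by
      intro hSn
      haveI := hSn
      have hGP : G ≤ Subgroup.normalizer (P : Set X) := fun g hg => Subgroup.mem_normalizer_iff.2 fun y => by
        rw [hP]
        constructor
        · rintro ⟨s, hs, rfl⟩
          exact ⟨⟨g, hg⟩ * s * ⟨g, hg⟩⁻¹, hSn.conj_mem s hs _, rfl⟩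
        · rintro ⟨s, hs, hs'⟩
          have hs'' : (s : X) = g * y * g⁻¹ := hs'
          refine ⟨⟨g, hg⟩⁻¹ * s * ⟨g, hg⟩⁻¹⁻¹, hSn.conj_mem s hs _, ?_⟩
          show g⁻¹ * (s : X) * g⁻¹⁻¹ = y
          rw [hs'']; group
      have hco : (Nat.card (S : Subgroup G)).Coprime (S : Subgroup G).index := by
        obtain ⟨k, hk⟩ := S.2.exists_card_eq
        rw [hk]
        exact (hp.coprime_iff_not_dvd.2 S.not_dvd_index).pow_left k
      obtain ⟨R₀, hR₀⟩ := Subgroup.exists_right_complement'_of_coprime hco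
      obtain ⟨R, hR⟩ : ∃ R, R = R₀.map G.subtype := ⟨_, rfl⟩
      have hRG : R ≤ G := hR ▸ Subgroup.map_subtype_le _
      have hPR : P ⊔ R = G := by
        rw [hP, hR, ← Subgroup.map_sup, hR₀.sup_eq_top, ← MonoidHom.range_eq_map, Subgroup.range_subtype]
      have hRco : (Nat.card R).Coprime p := by
        rw [hR, Subgroup.card_subtype, ← hR₀.symm.index_eq_card]
        exact (hp.coprime_iff_not_dvd.2 S.not_dvd_index).symm
      have hPRco : (Nat.card P).Coprime (Nat.card R) := by
        obtain ⟨k, hk⟩ := hPp.exists_card_eq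
        rw [hk]; exact hRco.symm.pow_left k
      obtain ⟨v, hv, hvR⟩ := sz_conj_rel P R (MulAut.conj b • R) (hRG.trans hGP)
        (by
          rw [hPR]
          rintro _ ⟨r, hr, rfl⟩
          exact (Subgroup.mem_normalizer_iff.1 hb.1 r).1 (hRG hr))
        hPRco (Nat.card_congr (Subgroup.equivSMul (MulAut.conj b) R).toEquiv).symm
        (Or.inl (haveI := hPp.isNilpotent; inferInstance))
      obtain ⟨c, hc⟩ : ∃ c, c = v⁻¹ * b := ⟨_, rfl⟩
      have hcS : SplitCoset p G c := hc ▸ hb.mul_left (G.inv_mem (hPG hv))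
      have hcP : c ∈ Subgroup.normalizer (P : Set X) := hc ▸ mul_mem (inv_mem (Subgroup.le_normalizer hv)) hbP
      have hcR : c ∈ Subgroup.normalizer (R : Set X) := by
        refine mem_normalizer_of_conj_smul ?_
        rw [hc, map_mul, mul_smul, ← hvR, ← mul_smul, ← map_mul, inv_mul_cancel, map_one, one_smul]
      haveI : Group.IsNilpotent R := by
        refine ih _ ?_ R c rfl (hcS.mono hRG hcR)
        rw [← hPR]
        refine lt_of_le_of_ne (Subgroup.card_le_of_le le_sup_right) fun heq => hP1 ?_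
        have h1 : R = P ⊔ R := Subgroup.eq_of_le_of_card_ge le_sup_right heq.ge
        have h2 : P ≤ R := le_sup_left.trans h1.ge
        refine (inf_eq_left.2 h2).symm.trans (coprime_inf hPRco)
      -- `R` centralizes `P`
      have hRC : R ≤ Subgroup.centralizer (P : Set X) := by
        intro r hr
        refine centralizes_of_frattini P hPp r (hGP (hRG hr))
          (hRco.coprime_dvd_left (Subgroup.orderOf_dvd_natCard R hr)) fun x hx => ?_
        letI : CommGroup (P ⧸ frattini P) :=
          { (inferInstance : Group (P ⧸ frattini P)) with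
            mul_comm := quotient_mul_comm (frattini P) (commutatorElement_mem_frattini hPp) }
        have h1 := split_trivial hcS hPG hRG hPp (hRG.trans hGP) hcP hcR hRco
          (V := P ⧸ frattini P) (fun w => by
            induction w using QuotientGroup.induction_on with | _ w
            exact (QuotientGroup.eq_one_iff _).2 (pow_mem_frattini hPp w))
          (QuotientGroup.mk' (frattini P)) (⟨x⁻¹, P.inv_mem hx⟩ : P) ⟨r, hr⟩
        rw [eq_comm, QuotientGroup.mk'_apply, QuotientGroup.mk'_apply, QuotientGroup.eq] at h1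
        refine ⟨_, h1, ?_⟩
        show (x⁻¹)⁻¹ * (r * x⁻¹ * r⁻¹) = ⁅x, r⁆
        rw [commutatorElement_def]; group
      haveI := hPp.isNilpotent
      let m : (P × R) →* G := MonoidHom.noncommCoprod (Subgroup.inclusion hPG) (Subgroup.inclusion hRG)
        fun x r => Subtype.ext (Subgroup.mem_centralizer_iff.1 (hRC r.2) x x.2)
      refine Group.nilpotent_of_surjective m ?_
      intro g
      have hg : (g : X) ∈ R ⊔ P := by rw [sup_comm, hPR]; exact g.2
      have h2 : ((R ⊔ P : Subgroup X) : Set X) = (P : Set X) * (R : Set X) := by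
        rw [sup_comm]; exact Subgroup.coe_mul_of_right_le_normalizer_left P R (hRG.trans hGP)
      obtain ⟨x, hx, r, hr, hxr⟩ := h2 ▸ (show (g : X) ∈ ((R ⊔ P : Subgroup X) : Set X) from hg)
      exact ⟨(⟨x, hx⟩, ⟨r, hr⟩), Subtype.ext hxr⟩
    obtain ⟨J, hJ⟩ : ∃ J, J = thompsonSubgroupOf p (S : Subgroup G) := ⟨_, rfl⟩
    obtain ⟨Z, hZ⟩ : ∃ Z, Z = (S : Subgroup G) ⊓ Subgroup.centralizer ((S : Subgroup G) : Set G) := ⟨_, rfl⟩
    have hinv : ∀ (W : ∀ (Q : Type u) [Group Q], Subgroup Q), IsCharPFunctor.{u} p W →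
        b ∈ Subgroup.normalizer (((inducedFunctor W (S : Subgroup G)).map G.subtype : Subgroup X) : Set X) := by
      intro W hW
      refine mem_normalizer_of_map_conj ?_
      rw [← Fusion.inducedFunctor_map_of_injOn hW G.subtype G.subtype_injective.injOn S.2, ← hP,
        ← Fusion.inducedFunctor_map_of_injOn hW _ (MulAut.conj b).injective.injOn hPp]
      congr 1
      exact map_conj_of_mem hbP
    have hJne : J ≠ ⊥ := by
      rw [hJ]
      intro h0
      exact (Fusion.isCharPFunctor_thompson (p := p)).1 _ S.2 hSnt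
        ((Subgroup.map_eq_bot_iff_of_injective _ (Subgroup.subtype_injective _)).1 h0)
    by_cases hJn : Subgroup.normalizer (J : Set G) = ⊤
    · -- `J` is normal
      obtain ⟨N, hN⟩ : ∃ N, N = J.map G.subtype := ⟨_, rfl⟩
      have hGN : G ≤ Subgroup.normalizer (N : Set X) := by
        intro g hg
        have h1 : (⟨g, hg⟩ : G) ∈ Subgroup.normalizer (J : Set G) := hJn ▸ Subgroup.mem_top _
        refine mem_normalizer_of_map_conj ?_
        rw [hN, Subgroup.map_map]
        conv_rhs => rw [← map_conj_of_mem h1, Subgroup.map_map]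
        rfl
      haveI := Subgroup.normal_subgroupOf_of_le_normalizer hGN
      haveI := hquot N (hN ▸ Subgroup.map_subtype_le _)
        (fun h0 => hJne ((Subgroup.map_eq_bot_iff_of_injective _ G.subtype_injective).1 (hN ▸ h0)))
        hGN (hN ▸ hJ ▸ hinv _ Fusion.isCharPFunctor_thompson)
      refine hnormal ?_
      obtain ⟨π, hπ⟩ : ∃ π, π = QuotientGroup.mk' (N.subgroupOf G) := ⟨_, rfl⟩
      have hπs : Function.Surjective π := hπ ▸ QuotientGroup.mk'_surjective _
      have h2 := ((isNilpotent_of_finite_tfae.out 0 3).1 ‹_› : ∀ (q : ℕ) (_ : Fact q.Prime)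
        (Q : Sylow q (G ⧸ N.subgroupOf G)), (↑Q : Subgroup (G ⧸ N.subgroupOf G)).Normal) p inferInstance
        (S.mapSurjective hπs)
      have h3 : π.ker ≤ (S : Subgroup G) := by
        rw [hπ, QuotientGroup.ker_mk', hN]
        intro x hx
        obtain ⟨y, hy, hyx⟩ := Subgroup.mem_map.1 (Subgroup.mem_subgroupOf.1 hx)
        rw [← (G.subtype_injective hyx : y = x)]
        rw [hJ] at hy
        exact Subgroup.map_subtype_le _ hy
      have h4 : ((S.mapSurjective hπs : Sylow p _) : Subgroup (G ⧸ N.subgroupOf G)).comap π = (S : Subgroup G) := by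
        show ((S : Subgroup G).map π).comap π = _
        rw [Subgroup.comap_map_eq, sup_eq_left.2 h3]
      exact h4 ▸ h2.comap π
    by_cases hZc : Subgroup.centralizer (Z : Set G) = ⊤
    · -- `Z(S)` is central
      have hZne : Z ≠ ⊥ := by
        rw [hZ, ← Fusion.inducedFunctor_center]
        intro h0
        exact (Fusion.isCharPFunctor_center (p := p)).1 _ S.2 hSnt
          ((Subgroup.map_eq_bot_iff_of_injective _ (Subgroup.subtype_injective _)).1 h0)
      refine hcentral (Z.map G.subtype) (Subgroup.map_subtype_le _)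
        (fun h0 => hZne ((Subgroup.map_eq_bot_iff_of_injective _ G.subtype_injective).1 h0))
        (by rw [hZ, ← Fusion.inducedFunctor_center]; exact hinv _ Fusion.isCharPFunctor_center) ?_
      rintro _ ⟨z, hz, rfl⟩ g hg
      have hg' : (⟨g, hg⟩ : G) ∈ Subgroup.centralizer (Z : Set G) := hZc ▸ Subgroup.mem_top _
      exact (congrArg Subtype.val (Subgroup.mem_centralizer_iff.1 hg' z hz)).symm
    -- now Thompson's criterion applies
    have hsub : ∀ H₀ : Subgroup G, H₀ ≠ ⊤ → b ∈ Subgroup.normalizer ((H₀.map G.subtype : Subgroup X) : Set X) →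
        HasNormalPComplement p H₀ := by
      intro H₀ hne hbH
      haveI := ih _ (by
        rw [Subgroup.card_subtype]
        exact lt_of_le_of_ne (Subgroup.card_le_card_group H₀) fun he => hne (Subgroup.eq_top_of_card_eq H₀ he))
        (H₀.map G.subtype) b rfl (hb.mono (Subgroup.map_subtype_le _) hbH)
      exact Fusion.hnpc_of_equiv (H₀.equivMapOfInjective G.subtype G.subtype_injective).symm
        Fusion.hnpc_of_isNilpotent
    have hnpc : HasNormalPComplement p G := by
      refine Fusion.hnpc_of_thompsonHyp hp2 (Fusion.sylIn_top S) ⟨?_, ?_⟩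
      · refine hsub _ (hJ ▸ hJn) ?_
        refine mem_normalizer_inf_normalizer hb.1 (hJ ▸ hinv _ Fusion.isCharPFunctor_thompson :
          b ∈ Subgroup.normalizer ((J.map G.subtype : Subgroup X) : Set X)) _ fun y => ?_
        rw [← hJ]
        constructor
        · rintro ⟨g, hg, rfl⟩
          refine ⟨g.2, mem_normalizer_of_map_conj ?_⟩
          rw [Subgroup.map_map]
          conv_rhs => rw [← map_conj_of_mem hg, Subgroup.map_map]
          rfl
        · rintro ⟨hy, hy'⟩
          refine ⟨⟨y, hy⟩, mem_normalizer_of_map_conj (Subgroup.map_injective G.subtype_injective ?_), rfl⟩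
          conv_rhs => rw [← map_conj_of_mem hy']
          rw [Subgroup.map_map, Subgroup.map_map]
          rfl
      · rw [← hZ]
        refine hsub _ hZc ?_
        have hZb : b ∈ Subgroup.normalizer ((Z.map G.subtype : Subgroup X) : Set X) := by
          rw [hZ, ← Fusion.inducedFunctor_center]; exact hinv _ Fusion.isCharPFunctor_center
        refine Subgroup.mem_normalizer_iff.2 fun y => ?_
        have hchar : ∀ y : X, y ∈ (Subgroup.centralizer (Z : Set G)).map G.subtype ↔
            y ∈ G ∧ ∀ z ∈ Z.map G.subtype, z * y = y * z := by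
          intro y
          constructor
          · rintro ⟨g, hg, rfl⟩
            refine ⟨g.2, ?_⟩
            rintro _ ⟨z, hz, rfl⟩
            exact congrArg Subtype.val (Subgroup.mem_centralizer_iff.1 hg z hz)
          · rintro ⟨hy, h'⟩
            exact ⟨⟨y, hy⟩, Subgroup.mem_centralizer_iff.2 fun z hz => Subtype.ext (h' z ⟨z, hz, rfl⟩), rfl⟩
        rw [hchar, hchar, ← Subgroup.mem_normalizer_iff.1 hb.1]
        refine and_congr_right fun _ => ⟨fun h' z hz => ?_, fun h' z hz => ?_⟩
        · have h1 := h' _ ((Subgroup.mem_normalizer_iff.1 (inv_mem hZb) z).1 hz)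
          rw [inv_inv] at h1
          calc z * (b * y * b⁻¹) = b * ((b⁻¹ * z * b) * y) * b⁻¹ := by group
            _ = b * (y * (b⁻¹ * z * b)) * b⁻¹ := by rw [h1]
            _ = _ := by group
        · have h1 := h' _ ((Subgroup.mem_normalizer_iff.1 hZb z).1 hz)
          calc z * y = b⁻¹ * ((b * z * b⁻¹) * (b * y * b⁻¹)) * b := by group
            _ = b⁻¹ * ((b * y * b⁻¹) * (b * z * b⁻¹)) * b := by rw [h1]
            _ = _ := by group
    obtain ⟨K₀, hK₀n, hK₀⟩ := Fusion.hnpc_exists_complement hnpc S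
    haveI := hK₀n
    obtain ⟨K, hK⟩ : ∃ K, K = K₀.map G.subtype := ⟨_, rfl⟩
    have hKG : K ≤ G := hK ▸ Subgroup.map_subtype_le _
    have hKidx : K₀.index = Nat.card (S : Subgroup G) := hK₀.symm.index_eq_card
    have hK0co : (Nat.card K₀).Coprime p := by
      rw [← hK₀.index_eq_card]; exact (hp.coprime_iff_not_dvd.2 S.not_dvd_index).symm
    have hKco : (Nat.card K).Coprime p := by rw [hK, Subgroup.card_subtype]; exact hK0co
    have hKmem : ∀ g : G, (orderOf g).Coprime p → g ∈ K₀ := by
      intro g hg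
      rw [← QuotientGroup.eq_one_iff, ← orderOf_eq_one_iff]
      obtain ⟨k, hk⟩ := S.2.exists_card_eq
      refine Nat.eq_one_of_dvd_coprimes (hg.pow_right k) (orderOf_map_dvd (QuotientGroup.mk' K₀) g) ?_
      rw [← hk, ← hKidx, Subgroup.index_eq_card]
      exact orderOf_dvd_natCard _
    have hbK : b ∈ Subgroup.normalizer (K : Set X) := by
      refine mem_normalizer_of_map_conj (Subgroup.eq_of_le_of_card_ge ?_ (le_of_eq
        (Subgroup.card_map_of_injective (MulAut.conj b).injective).symm))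
      rintro _ ⟨k, hk, rfl⟩
      have hk' : b * k * b⁻¹ ∈ G := (Subgroup.mem_normalizer_iff.1 hb.1 k).1 (hKG hk)
      rw [hK]
      refine ⟨⟨_, hk'⟩, hKmem _ ?_, rfl⟩
      rw [← Subgroup.orderOf_coe, show ((⟨b * k * b⁻¹, hk'⟩ : G) : X) = MulAut.conj b k from rfl,
        MulEquiv.orderOf_eq]
      exact hKco.coprime_dvd_left (Subgroup.orderOf_dvd_natCard K hk)
    have hGK : G ≤ Subgroup.normalizer (K : Set X) := by
      intro g hg
      refine mem_normalizer_of_map_conj (Subgroup.eq_of_le_of_card_ge ?_ (le_of_eq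
        (Subgroup.card_map_of_injective (MulAut.conj g).injective).symm))
      rw [hK]
      rintro _ ⟨_, ⟨k, hk, rfl⟩, rfl⟩
      exact ⟨⟨g, hg⟩ * k * ⟨g, hg⟩⁻¹, hK₀n.conj_mem k hk _, rfl⟩
    -- an element of order `p` in the centre of `P` fixed by `b`
    have hQ : IsPGroup p (Subgroup.zpowers b ⊔ P : Subgroup X) := by
      refine IsPGroup.to_sup_of_normal_right' ?_ hPp (Subgroup.zpowers_le.2 hbP)
      exact IsPGroup.of_card_dvd_pow (n := 1) (by
        rw [Nat.card_zpowers, pow_one]; exact orderOf_dvd_of_pow_eq_one hb.pow_eq_one)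
    obtain ⟨Q, hQe⟩ : ∃ Q, Q = Subgroup.zpowers b ⊔ P := ⟨_, rfl⟩
    rw [← hQe] at hQ
    haveI : (P.subgroupOf Q).Normal := Subgroup.normal_subgroupOf_of_le_normalizer
      (hQe ▸ sup_le (Subgroup.zpowers_le.2 hbP) Subgroup.le_normalizer)
    haveI : Nontrivial (P.subgroupOf Q) := by
      rw [Subgroup.nontrivial_iff_ne_bot, Ne, Subgroup.subgroupOf_eq_bot,
        disjoint_of_le_iff_left_eq_bot (hQe ▸ le_sup_right)]
      exact hP1
    obtain ⟨w, hwP, hwc, hw1⟩ := Perm.exists_ne_one_center hQ (P.subgroupOf Q)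
    obtain ⟨z, hz⟩ : ∃ z, z = (w : X) ^ (orderOf (w : X) / p) := ⟨_, rfl⟩
    have hwd : p ∣ orderOf (w : X) := by
      rw [Subgroup.orderOf_coe]; exact hQ.dvd_orderOf hw1
    have hzo : orderOf z = p := hz ▸ orderOf_pow_orderOf_div (orderOf_pos _).ne' hwd
    have hzP : z ∈ P := hz ▸ pow_mem hwP _
    have hzQ : ∀ q ∈ Q, Commute q z := fun q hq => hz ▸
      (show Commute q (w : X) from congrArg Subtype.val (Subgroup.mem_center_iff.1 hwc ⟨q, hq⟩)).pow_right _
    have hzb : Commute b z := hzQ b (hQe ▸ Subgroup.mem_sup_left (Subgroup.mem_zpowers b))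
    obtain ⟨A, hA⟩ : ∃ A, A = Subgroup.closure {b, z} := ⟨_, rfl⟩
    have hbA : b ∈ A := hA ▸ Subgroup.subset_closure (by simp)
    have hzA : z ∈ A := hA ▸ Subgroup.subset_closure (by simp)
    have hAcomm : IsMulCommutative A := by
      rw [hA]
      refine Subgroup.isMulCommutative_closure ?_
      intro x hx y hy
      simp only [Set.mem_insert_iff, Set.mem_singleton_iff] at hx hy
      rcases hx with rfl | rfl <;> rcases hy with rfl | rfl
      exacts [rfl, hzb, hzb.symm, rfl]
    have hAmem : ∀ y ∈ A, ∃ i j : ℤ, y = b ^ i * z ^ j := by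
      intro y hy
      rw [hA] at hy
      induction hy using Subgroup.closure_induction with
      | mem x hx =>
        rcases hx with rfl | rfl
        · exact ⟨1, 0, by simp⟩
        · exact ⟨0, 1, by simp⟩
      | one => exact ⟨0, 0, by simp⟩
      | mul x y _ _ hx hy =>
        obtain ⟨i, j, rfl⟩ := hx
        obtain ⟨i', j', rfl⟩ := hy
        refine ⟨i + i', j + j', ?_⟩
        rw [zpow_add, zpow_add]
        calc b ^ i * z ^ j * (b ^ i' * z ^ j') = b ^ i * (z ^ j * b ^ i') * z ^ j' := by group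
          _ = b ^ i * (b ^ i' * z ^ j) * z ^ j' := by rw [(hzb.symm.zpow_zpow j i').eq]
          _ = _ := by group
      | inv x _ hx =>
        obtain ⟨i, j, rfl⟩ := hx
        exact ⟨-i, -j, by rw [mul_inv_rev, zpow_neg, zpow_neg, ((hzb.zpow_zpow i j).inv_inv).eq]⟩
    have hAp : IsPGroup p A := by
      intro y
      obtain ⟨i, j, hy⟩ := hAmem y y.2
      refine ⟨1, Subtype.ext ?_⟩
      rw [SubmonoidClass.coe_pow, hy, pow_one, (hzb.zpow_zpow i j).mul_pow, ← zpow_natCast, ← zpow_natCast,
        ← zpow_mul, ← zpow_mul, mul_comm i, mul_comm j, zpow_mul, zpow_mul, zpow_natCast, zpow_natCast,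
        hb.pow_eq_one, ← hzo, pow_orderOf_eq_one, one_zpow, one_zpow, one_mul]
      rfl
    have hAK : A ≤ Subgroup.normalizer (K : Set X) := by
      rw [hA, Subgroup.closure_le]
      rintro x (rfl | rfl)
      · exact hbK
      · exact hGK (hPG hzP)
    have hgen := gen_eq A K hAcomm hAK (by
      obtain ⟨k, hk⟩ := hAp.exists_card_eq
      rw [hk]; exact hKco.symm.pow_left k)
    have hKz : K ≤ Subgroup.centralizer {z} := by
      rw [← hgen]
      refine iSup₂_le fun B hB x hx => ?_
      obtain ⟨hBA, y, hy, hBy⟩ := hB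
      obtain ⟨hxK, hxB⟩ := Subgroup.mem_inf.1 hx
      by_cases hBb : B = ⊥
      · exfalso
        rw [hBb, bot_sup_eq] at hBy
        have hyp : orderOf y ≤ p := Nat.le_of_dvd hp.pos (orderOf_dvd_of_pow_eq_one (by
          obtain ⟨i, j, rfl⟩ := hAmem y hy
          rw [(hzb.zpow_zpow i j).mul_pow, ← zpow_natCast, ← zpow_natCast, ← zpow_mul, ← zpow_mul, mul_comm i,
            mul_comm j, zpow_mul, zpow_mul, zpow_natCast, zpow_natCast,
            hb.pow_eq_one, ← hzo, pow_orderOf_eq_one, one_zpow, one_zpow, one_mul]))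
        have hzA' : Subgroup.zpowers z = A := Subgroup.eq_of_le_of_card_ge (Subgroup.zpowers_le.2 hzA) (by
          rw [← hBy, Nat.card_zpowers, Nat.card_zpowers, hzo]; exact hyp)
        exact hbG ((Subgroup.zpowers_le.2 (hPG hzP)) (hzA' ▸ hbA))
      obtain ⟨⟨u, hu⟩, hu1⟩ := Subgroup.ne_bot_iff_exists_ne_one.1 hBb
      have hcx : Commute x u := (Subgroup.mem_centralizer_iff.1 hxB u hu).symm
      obtain ⟨i, j, rfl⟩ := hAmem u (hBA hu)
      by_cases hbi : b ^ i = 1
      · rw [hbi, one_mul] at hcx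
        have hzj : z ^ j ≠ 1 := fun e => hu1 (Subtype.ext (by
          show b ^ i * z ^ j = 1
          rw [hbi, one_mul]; exact e))
        have hcop : IsCoprime (j : ℤ) (p : ℤ) := by
          refine ((Nat.prime_iff_prime_int.1 hp).coprime_iff_not_dvd.2 fun hd => hzj ?_).symm
          rw [← orderOf_dvd_iff_zpow_eq_one, hzo]; exact hd
        obtain ⟨u', v', huv⟩ := hcop
        refine Subgroup.mem_centralizer_singleton_iff.2 ?_
        have hz' : z = (z ^ j) ^ u' := by
          calc z = z ^ (u' * j + v' * p) := by rw [huv, zpow_one]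
            _ = _ := by
              rw [zpow_add, mul_comm u' j, mul_comm v' (p : ℤ), zpow_mul, zpow_mul, zpow_natCast, ← hzo,
                pow_orderOf_eq_one, one_zpow, mul_one]
        rw [hz']; exact (hcx.zpow_right u').eq
      · have hcop : IsCoprime (i : ℤ) (p : ℤ) := by
          refine ((Nat.prime_iff_prime_int.1 hp).coprime_iff_not_dvd.2 fun hd => hbi ?_).symm
          obtain ⟨l, rfl⟩ := hd
          rw [zpow_mul, zpow_natCast, hb.pow_eq_one, one_zpow]
        obtain ⟨u', v', huv⟩ := hcop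
        have hbu : b = (b ^ i) ^ u' := by
          calc b = b ^ (u' * i + v' * p) := by rw [huv, zpow_one]
            _ = _ := by
              rw [zpow_add, mul_comm u' i, mul_comm v' (p : ℤ), zpow_mul, zpow_mul, zpow_natCast, hb.pow_eq_one,
                one_zpow, mul_one]
        have hc2 : Commute x (z ^ (j * u') * b) := by
          have hc3 := hcx.zpow_right u'
          rw [(hzb.zpow_zpow i j).mul_zpow, ← hbu, ← zpow_mul, (hzb.zpow_right _).eq] at hc3
          exact hc3
        have hx1 : x = 1 := orderOf_eq_one_iff.1 (Nat.eq_one_of_dvd_coprimes hKco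
          (Subgroup.orderOf_dvd_natCard K hxK) (orderOf_dvd_of_pow_eq_one
            ((hb.mul_left (zpow_mem (hPG hzP) _)).fixed_pow (hKG hxK) hc2)))
        rw [hx1]; exact one_mem _
    refine hcentral (Subgroup.zpowers z) (Subgroup.zpowers_le.2 (hPG hzP)) (fun h0 => ?_)
      (Subgroup.mem_normalizer_iff.2 fun y => ?_) fun z' hz' g hg => ?_
    · rw [Subgroup.zpowers_eq_bot] at h0
      rw [h0, orderOf_one] at hzo
      exact hp.one_lt.ne hzo
    · constructor
      · intro hy
        obtain ⟨i, rfl⟩ := Subgroup.mem_zpowers_iff.1 hy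
        rw [(hzb.zpow_right i).eq, mul_inv_cancel_right]; exact hy
      · intro hy
        obtain ⟨i, hi⟩ := Subgroup.mem_zpowers_iff.1 hy
        have : y = z ^ i := by
          calc y = b⁻¹ * (b * y * b⁻¹) * b := by group
            _ = b⁻¹ * z ^ i * b := by rw [hi]
            _ = z ^ i := by rw [mul_assoc, ← (hzb.zpow_right i).eq, inv_mul_cancel_left]
        rw [this]; exact zpow_mem (Subgroup.mem_zpowers z) i
    · obtain ⟨i, rfl⟩ := Subgroup.mem_zpowers_iff.1 hz'
      have hle : G ≤ Subgroup.centralizer {z} := by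
        have hsup : K ⊔ P = G := by
          rw [hP, hK, ← Subgroup.map_sup, hK₀.sup_eq_top, ← MonoidHom.range_eq_map, Subgroup.range_subtype]
        rw [← hsup]
        refine sup_le hKz fun q hq => Subgroup.mem_centralizer_singleton_iff.2 ?_
        exact (hzQ q (hQe ▸ Subgroup.mem_sup_right hq)).eq
      exact ((show Commute g z from Subgroup.mem_centralizer_singleton_iff.1 (hle hg)).zpow_right i).eq

end Cfsg.Agent.Solv
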