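import Cfsg.Agent.Lib.Char.Linear
import Mathlib.LinearAlgebra.Matrix.Kronecker
import Mathlib.LinearAlgebra.Trace

/-!
The Frobenius-Schur sum is an integer, and the number of solutions of `x ^ 2 = 1` as a character sum.
-/

set_option autoImplicit false

namespace Cfsg.Agent.Solv

open Cfsg Matrix
open scoped ComplexConjugate Kronecker

universe u

theorem trace_idempotent {m : Type*} [Fintype m] [DecidableEq m] (E : Matrix m m ℂ)
    (h : E * E = E) : ∃ n : ℕ, E.trace = n := by
  have h' : IsIdempotentElem (Matrix.toLin' E) := by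
    show Matrix.toLin' E * Matrix.toLin' E = Matrix.toLin' E
    rw [Module.End.mul_eq_comp, ← Matrix.toLin'_mul, h]
  exact ⟨_, (Matrix.trace_toLin'_eq E).symm.trans
    ((LinearMap.IsIdempotentElem.isProj_range _ h').trace)⟩

variable {G : Type u} [Group G] [Fintype G]

theorem fsSum_int {χ : G → ℂ} (h : IsCharacter G χ) :
    ∃ z : ℤ, (Nat.card G : ℂ)⁻¹ * ∑ g : G, χ (g * g) = z := by
  classical
  obtain ⟨n, ρ, rfl⟩ := h
  set A : G → Matrix (Fin n) (Fin n) ℂ := fun g => LinearMap.toMatrix' (ρ g) with hA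
  have hmul : ∀ a b, A (a * b) = A a * A b := fun a b => by
    simp only [hA, map_mul, Module.End.mul_eq_comp, LinearMap.toMatrix'_comp]
  have htr : ∀ g, ρ.character g = (A g).trace := fun g =>
    LinearMap.trace_eq_matrix_trace ℂ (Pi.basisFun ℂ (Fin n)) (ρ g) |>.trans
      (by rw [LinearMap.toMatrix_eq_toMatrix'])
  set c : ℂ := (Nat.card G : ℂ)⁻¹
  set P : Matrix (Fin n × Fin n) (Fin n × Fin n) ℂ := c • ∑ g, A g ⊗ₖ A g with hP
  have hPe : ∀ a b, P a b = c * ∑ g, A g a.1 b.1 * A g a.2 b.2 := fun a b => by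
    simp [hP, Matrix.sum_apply]
  have hPP : P * P = P := by
    have h1 : ∀ g : G, (A g ⊗ₖ A g) * ∑ k, A k ⊗ₖ A k = ∑ k, A k ⊗ₖ A k := fun g => by
      rw [Finset.mul_sum]
      refine Fintype.sum_equiv (Equiv.mulLeft g) _ _ fun k => ?_
      simp [← Matrix.mul_kronecker_mul, ← hmul]
    rw [hP, smul_mul_smul_comm, Finset.sum_mul, Finset.sum_congr rfl fun g _ => h1 g,
      Finset.sum_const, Finset.card_univ, ← Nat.cast_smul_eq_nsmul ℂ, smul_smul,
      ← Nat.card_eq_fintype_card, mul_assoc c c, inv_mul_cancel₀ (Nat.cast_ne_zero.2 Nat.card_pos.ne'),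
      mul_one]
  set T : Matrix (Fin n × Fin n) (Fin n × Fin n) ℂ := P.submatrix id Prod.swap with hT
  have hinv : ∀ a b, P a (Prod.swap b) = P (Prod.swap a) b := fun a b => by
    simp [hPe, mul_comm]
  have hT2 : T * T = P := by
    ext a d
    rw [Matrix.mul_apply]
    calc ∑ b, T a b * T b d = ∑ b, P a (Prod.swap b) * P (Prod.swap b) d :=
          Finset.sum_congr rfl fun b _ => by simp [hT, hinv b d]
      _ = ∑ b, P a b * P b d :=
          Fintype.sum_equiv (Equiv.prodComm (Fin n) (Fin n))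
            (fun b => P a (Prod.swap b) * P (Prod.swap b) d) (fun b => P a b * P b d) fun b => rfl
      _ = (P * P) a d := (Matrix.mul_apply).symm
      _ = P a d := by rw [hPP]
  have hPT : P * T = T := by
    ext a d
    rw [hT, Matrix.mul_apply]
    simp only [Matrix.submatrix_apply, id]
    rw [← Matrix.mul_apply, hPP]
  have hTP : T * P = T := by rw [← hT2, ← mul_assoc, hT2, hPT]
  have htrT : T.trace = c * ∑ g : G, ρ.character (g * g) := by
    simp only [Matrix.trace, Matrix.diag_apply, hT, Matrix.submatrix_apply, id, hPe, ← Finset.mul_sum]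
    rw [Finset.sum_comm]
    congr 1
    refine Finset.sum_congr rfl fun g _ => ?_
    rw [htr, hmul, Matrix.trace, Fintype.sum_prod_type]
    simp [Matrix.mul_apply]
  obtain ⟨a, ha⟩ := trace_idempotent ((1 / 2 : ℂ) • (P + T)) (by
    rw [smul_mul_smul_comm, add_mul, mul_add, mul_add, hPP, hT2, hPT, hTP, add_comm T P,
      ← two_smul ℂ (P + T), smul_smul]
    norm_num)
  obtain ⟨b, hb⟩ := trace_idempotent ((1 / 2 : ℂ) • (P - T)) (by
    rw [smul_mul_smul_comm, sub_mul, mul_sub, mul_sub, hPP, hT2, hPT, hTP,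
      show P - T - (T - P) = (2 : ℂ) • (P - T) by rw [two_smul]; abel, smul_smul]
    norm_num)
  refine ⟨(a : ℤ) - b, ?_⟩
  rw [← htrT]
  push_cast
  rw [← ha, ← hb, Matrix.trace_smul, Matrix.trace_smul, Matrix.trace_add, Matrix.trace_sub]
  simp only [smul_eq_mul]; ring

/-- `#{x | x ^ 2 = 1} = ∑ ν(χ) χ(1)`. -/
theorem card_sq_eq_one_eq_sum :
    (Nat.card {x : G // x ^ 2 = 1} : ℂ) =
      ∑ χ : IrrCharacter G,
        ((Nat.card G : ℂ)⁻¹ * ∑ g : G, (χ : G → ℂ) (g * g)) * (χ : G → ℂ) 1 := by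
  classical
  set f : G → ℂ := fun x => ((Finset.univ.filter fun g : G => g * g = x).card : ℂ) with hf
  have hcf : IsClassFunction G f := fun x h => by
    simp only [hf]
    congr 1
    refine Finset.card_equiv (MulAut.conj h⁻¹).toEquiv fun g => ?_
    simp only [Finset.mem_filter, Finset.mem_univ, true_and, MulEquiv.toEquiv_eq_coe,
      MulEquiv.coe_toEquiv, ← map_mul]
    constructor
    · intro e; rw [e]; simp [mul_assoc]
    · intro e
      have := congrArg (MulAut.conj h) e
      simpa [mul_assoc] using this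
  have hexp := congrFun (Char.classFun_expansion hcf) 1
  rw [Finset.sum_apply] at hexp
  have hf1 : f 1 = (Nat.card {x : G // x ^ 2 = 1} : ℂ) := by
    simp [hf, Nat.card_eq_fintype_card, Fintype.card_subtype, pow_two]
  rw [← hf1, hexp]
  refine Finset.sum_congr rfl fun χ _ => ?_
  obtain ⟨z, hz⟩ := fsSum_int (Char.irr_isCharacter χ.2)
  rw [Pi.smul_apply, smul_eq_mul]
  congr 1
  rw [hz, ← map_intCast (starRingEnd ℂ) z, ← hz, classInner, map_mul, map_sum]
  simp only [map_inv₀, map_natCast, hf]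
  congr 1
  symm
  rw [← Finset.sum_fiberwise (s := (Finset.univ : Finset G)) (g := fun g : G => g * g)]
  refine Finset.sum_congr rfl fun x _ => ?_
  rw [Finset.sum_congr rfl fun g hg => by rw [(Finset.mem_filter.1 hg).2],
    Finset.sum_const, nsmul_eq_mul]

end Cfsg.Agent.Solv
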