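import Cfsg.Agent.Lib.Solv.StabCocycle

/-!
An elimination certificate for the linear equations of `Cfsg.Agent.Solv.StabCocycle`, checked by the kernel.
-/

set_option autoImplicit false

namespace Cfsg.Agent.Solv.StabCocycle

/-- A binary tree read from the lowest bit. -/
inductive Tr where
  | leaf (v : ℕ)
  | node (l r : Tr)

/-- Reading a tree. -/
def Tr.get : Tr → ℕ → ℕ
  | .leaf v, _ => v
  | .node l r, i => bif Nat.beq (i % 2) 0 then l.get (i / 2) else r.get (i / 2)

/-- A field of a packed vector. -/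
def dig (W x l : ℕ) : ℕ := x / 2 ^ (W * l) % 2 ^ W

theorem mod_add_of_dig (W : ℕ) {x y : ℕ} : ∀ l, (∀ i < l, dig W x i + dig W y i < 2 ^ W) →
    (x + y) % 2 ^ (W * l) = x % 2 ^ (W * l) + y % 2 ^ (W * l)
  | 0, _ => by simp [Nat.mod_one]
  | l + 1, h => by
    have ih := mod_add_of_dig W l fun i hi => h i (by omega)
    have hl := h l (by omega)
    have ex : ∀ z, z % 2 ^ (W * (l + 1)) = z % 2 ^ (W * l) + 2 ^ (W * l) * dig W z l := fun z => by
      rw [Nat.mul_succ, pow_add, Nat.mod_mul, dig]
    have hlt : (x + y) % 2 ^ (W * (l + 1)) =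
        (x % 2 ^ (W * (l + 1)) + y % 2 ^ (W * (l + 1))) % 2 ^ (W * (l + 1)) := Nat.add_mod _ _ _
    rw [hlt]
    refine Nat.mod_eq_of_lt ?_
    rw [ex x, ex y, Nat.mul_succ, pow_add]
    have hb : x % 2 ^ (W * l) + y % 2 ^ (W * l) < 2 ^ (W * l) := ih ▸ Nat.mod_lt _ (Nat.two_pow_pos _)
    calc _ = x % 2 ^ (W * l) + y % 2 ^ (W * l) + 2 ^ (W * l) * (dig W x l + dig W y l) := by ring
      _ < 2 ^ (W * l) + 2 ^ (W * l) * (dig W x l + dig W y l) := by omega
      _ = 2 ^ (W * l) * (dig W x l + dig W y l + 1) := by ring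
      _ ≤ _ := Nat.mul_le_mul_left _ hl

theorem dig_add (W : ℕ) {x y l : ℕ} (h : ∀ i ≤ l, dig W x i + dig W y i < 2 ^ W) :
    dig W (x + y) l = dig W x l + dig W y l := by
  have e1 := mod_add_of_dig W l fun i hi => h i (by omega)
  have e2 := mod_add_of_dig W (l + 1) fun i hi => h i (by omega)
  have ex : ∀ z, z % 2 ^ (W * (l + 1)) = z % 2 ^ (W * l) + 2 ^ (W * l) * dig W z l := fun z => by
    rw [Nat.mul_succ, pow_add, Nat.mod_mul, dig]
  rw [ex, ex, ex, e1] at e2
  refine Nat.eq_of_mul_eq_mul_left (Nat.two_pow_pos (W * l)) ?_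
  rw [mul_add]
  omega

theorem dig_sum (W M k : ℕ) : ∀ xs : List ℕ, (∀ x ∈ xs, ∀ l < k, dig W x l < M) → xs.length * M ≤ 2 ^ W →
    ∀ l < k, dig W xs.sum l = (xs.map fun x => dig W x l).sum ∧ dig W xs.sum l ≤ xs.length * M
  | [], _, _, l, _ => by simp [dig]
  | x :: xs, hx, hle, l, hl => by
    rw [List.length_cons, add_mul, one_mul] at hle ⊢
    have ih := fun i hi => dig_sum W M k xs (fun y hy => hx y (List.mem_cons_of_mem x hy)) (by omega) i hi
    have e := dig_add W (x := x) (y := xs.sum) (l := l) fun i hi => by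
      have := (ih i (by omega)).2
      have := hx x List.mem_cons_self i (by omega)
      omega
    have := (ih l hl).2
    have := hx x List.mem_cons_self l hl
    rw [List.sum_cons, e, List.map_cons, List.sum_cons, (ih l hl).1]
    exact ⟨rfl, by rw [← (ih l hl).1]; omega⟩

/-- A certificate: parameters, edge values, action, tree, words and the final combinations. -/
structure Cert where
  n : ℕ
  k : ℕ
  W : ℕ
  M : ℕ
  bias : ℕ
  V : Tr
  act : Tr
  par : Tr
  words : List (List ℕ)
  pe : List ℕ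
  steps : List (ℕ × ℕ × ℕ)
  m0 : List ℤ
  m1 : List ℤ
  res : List (ℕ × ℕ)
  rows : List (List ℤ)
  combos : List (List ℤ)
  mult : List ℤ
  l0 : ℕ
  N : ℕ

namespace Cert

variable (c : Cert)

/-- The action on the points. -/
def actF (j i : ℕ) : ℕ := c.act.get (2 * i + j)

/-- The parent of a point. -/
def parF (i : ℕ) : ℕ × ℕ := (c.par.get i % 2, c.par.get i / 2)

/-- The packed bias. -/
def big : ℕ := ((List.range c.k).map fun l => c.bias * 2 ^ (c.W * l)).sum

/-- A step of the elimination on the set of known edges. -/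
def step (known : ℕ) (s : ℕ × ℕ × ℕ) : Bool :=
  if s.1 = 0 then
    decide (0 < s.2.1 ∧ s.2.1 < c.n ∧ s.2.2 = 2 * (c.parF s.2.1).2 + (c.parF s.2.1).1) &&
      Nat.beq (c.V.get s.2.2) c.big
  else if s.1 = 1 then
    decide (s.2.2 < 2 * c.n ∧ c.words.length ≤ s.2.1 ∧ s.2.1 < c.k ∧
        c.pe.getD (s.2.1 - c.words.length) (2 * c.n) = s.2.2) &&
      Nat.beq (c.V.get s.2.2) (c.big + 2 ^ (c.W * s.2.1))
  else
    decide (s.1 - 2 < c.words.length ∧ s.2.1 < c.n) &&
      (loopE c.actF (c.words.getD (s.1 - 2) []) s.2.1).all (fun x => Nat.beq x s.2.2 || known.testBit x) &&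
      Nat.beq ((loopE c.actF (c.words.getD (s.1 - 2) []) s.2.1).count s.2.2) 1 &&
      Nat.beq ((loopE c.actF (c.words.getD (s.1 - 2) []) s.2.1).map c.V.get).sum
        ((loopE c.actF (c.words.getD (s.1 - 2) []) s.2.1).length * c.big + 2 ^ (c.W * (s.1 - 2)))

/-- All steps. -/
def run : List (ℕ × ℕ × ℕ) → ℕ → Bool
  | [], known => Nat.beq known (2 ^ (2 * c.n) - 1)
  | s :: ss, known => c.step known s && run ss (known ||| 2 ^ s.2.2)

/-- A residual vector at one parameter. -/
def resVec (q i l : ℕ) : ℤ :=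
  ((((loopE c.actF (c.words.getD q []) i).map fun e => dig c.W (c.V.get e) l).sum : ℕ) : ℤ) -
    (((loopE c.actF (c.words.getD q []) i).length * c.bias : ℕ) : ℤ) - (if l = q then 1 else 0)

/-- The rows of known vanishing combinations. -/
def rowVal (r l : ℕ) : ℤ :=
  match r with
  | 0 => if l < c.words.length then c.m0.getD l 0 else 0
  | 1 => if l < c.words.length then c.m1.getD l 0 else 0
  | r + 2 => c.resVec (c.res.getD r (0, 0)).1 (c.res.getD r (0, 0)).2 l

/-- A combination of rows at one parameter. -/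
def dot (t l : ℕ) : ℤ :=
  ((List.range (c.res.length + 2)).map fun r => (c.combos.getD t []).getD r 0 * (c.rows.getD r []).getD l 0).sum

/-- The shape of the data. -/
def shapeOK : Bool :=
  decide (0 < c.n ∧ c.words.length ≤ c.k ∧ c.l0 < c.k ∧ c.bias < c.M ∧ 1 < c.M ∧ 2 * c.M ≤ 2 ^ c.W) &&
    ((List.range c.n).all fun i => Nat.blt (c.actF 0 i) c.n && Nat.blt (c.actF 1 i) c.n &&
      (Nat.beq i 0 || (decide ((c.parF i).2 < i) && Nat.beq (c.actF (c.parF i).1 (c.parF i).2) i))) &&
    (c.words.all fun w => decide ((w.length + 1) * c.M ≤ 2 ^ c.W) && w.all (fun j => Nat.blt j 2) &&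
      (List.range c.n).all fun i => Nat.beq (endPt c.actF w i) i) &&
    decide (((List.range c.words.length).map fun q => c.m0.getD q 0 * (c.words.getD q []).count 0).sum = 1 ∧
      ((List.range c.words.length).map fun q => c.m0.getD q 0 * (c.words.getD q []).count 1).sum = 0 ∧
      ((List.range c.words.length).map fun q => c.m1.getD q 0 * (c.words.getD q []).count 0).sum = 0 ∧
      ((List.range c.words.length).map fun q => c.m1.getD q 0 * (c.words.getD q []).count 1).sum = 1)

/-- The fields are small. -/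
def fieldsOK : Bool :=
  ((List.range (2 * c.n)).all fun e => (List.range c.k).all fun l => Nat.blt (dig c.W (c.V.get e) l) c.M) &&
    ((List.range c.k).all fun l => Nat.beq (dig c.W c.big l) c.bias &&
      (List.range c.k).all fun q => Nat.beq (dig c.W (2 ^ (c.W * q)) l) (if l = q then 1 else 0))

/-- The final combinations. -/
def finalOK : Bool :=
  decide (c.res.all fun p => Nat.blt p.1 c.words.length && Nat.blt p.2 c.n) &&
    ((List.range (c.res.length + 2)).all fun r => (List.range c.k).all fun l =>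
      decide ((c.rows.getD r []).getD l 0 = c.rowVal r l)) &&
    ((List.range c.k).all fun t => (List.range c.k).all fun l =>
      decide (c.dot t l = if t = c.l0 then (if l = c.l0 then (c.N : ℤ) else 0) else
        (if l = t then 1 else 0) - (if l = c.l0 then c.mult.getD t 0 else 0)))

/-- The whole check. -/
def check : Bool := c.shapeOK && c.fieldsOK && c.run c.steps 0 && c.finalOK

end Cert

universe u

theorem sum_map_single {A : Type*} [AddCommGroup A] {L : List ℕ} {e : ℕ} (f g : ℕ → A) (hcnt : L.count e = 1)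
    (h : ∀ x ∈ L, x ≠ e → f x = g x) (hs : (L.map f).sum = (L.map g).sum) : f e = g e := by
  have hp := List.perm_cons_erase (List.count_pos_iff.mp (by omega : 0 < L.count e))
  have hne : ∀ x ∈ L.erase e, x ≠ e := fun x hx hxe => by
    subst hxe
    have := List.count_pos_iff.mpr hx
    rw [List.count_erase_self] at this
    omega
  rw [(hp.map f).sum_eq, (hp.map g).sum_eq, List.map_cons, List.map_cons, List.sum_cons, List.sum_cons,
    List.map_congr_left fun x hx => h x (List.mem_of_mem_erase hx) (hne x hx)] at hs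
  exact add_right_cancel hs

theorem sum_range_list {A : Type*} [AddCommMonoid A] (k : ℕ) (f : ℕ → A) :
    ((List.range k).map f).sum = ∑ i ∈ Finset.range k, f i := by
  rw [← List.sum_toFinset _ List.nodup_range, List.toFinset_range]

theorem loopE_length (act : ℕ → ℕ → ℕ) : ∀ w i, (loopE act w i).length = w.length
  | [], _ => rfl
  | j :: w, i => by rw [loopE, List.length_cons, loopE_length act w, List.length_cons]

theorem loopE_lt {act : ℕ → ℕ → ℕ} {n : ℕ} (ha : ∀ i < n, ∀ j < 2, act j i < n) :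
    ∀ w : List ℕ, (∀ j ∈ w, j < 2) → ∀ i < n, ∀ e ∈ loopE act w i, e < 2 * n
  | [], _, _, _, e, he => by simp [loopE] at he
  | j :: w, hw, i, hi, e, he => by
    have hj := hw j List.mem_cons_self
    rcases List.mem_cons.mp he with rfl | he
    · omega
    · exact loopE_lt ha w (fun k hk => hw k (List.mem_cons_of_mem j hk)) _ (ha i hi j hj) e he

/-- The soundness of the certificate. -/
theorem kernel_cyclic {G : Type u} [Group G] {X : Type*} [MulAction G X] (a : ℕ → G)
    (hgen : Subgroup.closure {a 0, a 1} = ⊤) (pts : ℕ → X) (c : Cert) (hchk : c.check = true)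
    (hact : ∀ i < c.n, ∀ j < 2, a j • pts i = pts (c.actF j i)) (h0 : ∀ i < c.n, pts i = pts 0 → i = 0)
    (hrel : ∀ w ∈ c.words, evalW a w = 1)
    (hHp : commutator ↥(MulAction.stabilizer G (pts 0)) = ⊤)
    (hH : Cfsg.HasCyclicSchurMultiplier ↥(MulAction.stabilizer G (pts 0)) 1)
    (Γ : Type u) [Group Γ] [Finite Γ] (σ : Γ →* G) (hσ : Cfsg.IsStemExtension σ) :
    ∃ g : σ.ker, g ^ c.N = 1 ∧ ∀ k : σ.ker, k ∈ Subgroup.zpowers g := by
  classical
  simp only [Cert.check, Cert.shapeOK, Cert.fieldsOK, Cert.finalOK, Bool.and_eq_true, decide_eq_true_eq,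
    List.all_eq_true, List.mem_range, Nat.blt_eq, Nat.beq_eq, Bool.or_eq_true] at hchk
  obtain ⟨⟨⟨⟨⟨⟨⟨hn, hwk, hl0, hbM, hM, hMW⟩, hsh⟩, hwords⟩, hm⟩, ⟨hfield, hbig⟩⟩, hrun⟩, ⟨⟨hres, hrows⟩, hfin⟩⟩ :=
    hchk
  have hpar2 : ∀ i, (c.parF i).1 < 2 := fun i => Nat.mod_lt _ two_pos
  have hactn : ∀ i < c.n, ∀ j < 2, c.actF j i < c.n := fun i hi j hj => by
    obtain rfl | rfl : j = 0 ∨ j = 1 := by omega
    · exact (hsh i hi).1.1
    · exact (hsh i hi).1.2
  have hH' : ∀ (D : Subgroup Γ) (τ : D →* MulAction.stabilizer G (pts 0)), Cfsg.IsStemExtension τ → τ.ker = ⊥ := by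
    intro D τ hτ
    obtain ⟨π, hπ⟩ := hH.2 D τ hτ
    refine eq_bot_iff.2 fun x hx => ?_
    obtain ⟨y, hy⟩ := hπ ⟨x, hx⟩
    rw [Subsingleton.elim y 1, map_one] at hy
    exact congrArg Subtype.val hy.symm
  obtain ⟨lam, hlam⟩ := exists_section σ hσ _ hHp hH'
  simp only [sum_range_list] at hm
  obtain ⟨z, C, hcomm, htree, hloop, hgenS, F, hF, hF0, hF1⟩ := exists_cocycle σ hσ a hgen pts c.n hn c.actF
    (fun i hi j hj => ⟨hactn i hi j hj, hact i hi j hj⟩) h0 c.parF
    (fun i hpos hi => ⟨hpar2 i, ((hsh i hi).2.resolve_left (by omega)).1, ((hsh i hi).2.resolve_left (by omega)).2⟩)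
    lam hlam c.words (fun w hw => (hwords w hw).1.2) hrel (fun w hw => (hwords w hw).2)
    (fun q => c.m0.getD q 0) (fun q => c.m1.getD q 0) hm
  letI hAG : AddCommGroup (Additive σ.ker) := { (inferInstance : AddGroup (Additive σ.ker)) with add_comm := hcomm }
  have hwd : ∀ q < c.words.length, c.words.getD q [] ∈ c.words := fun q hq => by
    rw [List.getD_eq_getElem _ _ hq]; exact List.getElem_mem hq
  obtain ⟨τ, hτ⟩ : ∃ τ : ℕ → Additive σ.ker, ∀ l, τ l =
      if l < c.words.length then C l else z (c.pe.getD (l - c.words.length) (2 * c.n)) := ⟨_, fun _ => rfl⟩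
  obtain ⟨val, hval⟩ : ∃ val : ℕ → Additive σ.ker, ∀ e, val e =
      ∑ l ∈ Finset.range c.k, ((dig c.W (c.V.get e) l : ℤ) - c.bias) • τ l := ⟨_, fun _ => rfl⟩
  have hunit : ∀ q < c.k, (∑ l ∈ Finset.range c.k, (if l = q then (1 : ℤ) else 0) • τ l) = τ q := fun q hq => by
    rw [Finset.sum_eq_single q (fun l _ hl => by rw [if_neg hl, zero_smul])
      (fun h => absurd (Finset.mem_range.2 hq) h), if_pos rfl, one_smul]
  have hsumval : ∀ L : List ℕ, (L.map val).sum =
      ∑ l ∈ Finset.range c.k, ((((L.map fun e => dig c.W (c.V.get e) l).sum : ℕ) : ℤ) -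
        ((L.length * c.bias : ℕ) : ℤ)) • τ l := by
    intro L
    induction L with
    | nil => simp
    | cons e L ih =>
      rw [List.map_cons, List.sum_cons, ih, hval, ← Finset.sum_add_distrib]
      refine Finset.sum_congr rfl fun l _ => ?_
      rw [← add_smul, List.map_cons, List.sum_cons, List.length_cons]
      congr 1
      push_cast
      ring
  have hknown : ∀ ss : List (ℕ × ℕ × ℕ), ∀ known : ℕ, c.run ss known = true →
      (∀ e < 2 * c.n, known.testBit e = true → z e = val e) → ∀ e < 2 * c.n, z e = val e := by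
    intro ss
    induction ss with
    | nil =>
      intro known h hk e he
      rw [Cert.run, Nat.beq_eq] at h
      exact hk e he (by rw [h, Nat.testBit_two_pow_sub_one]; simpa using he)
    | cons s ss ih =>
      intro known h hk
      rw [Cert.run, Bool.and_eq_true] at h
      refine ih _ h.2 fun e he hbit => ?_
      rw [Nat.testBit_or, Bool.or_eq_true] at hbit
      rcases hbit with hbit | hbit
      · exact hk e he hbit
      obtain rfl : s.2.2 = e := by simpa [Nat.testBit_two_pow] using hbit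
      obtain ⟨kind, p, e⟩ := s
      simp only at he h ⊢
      have h1 := h.1
      rw [Cert.step] at h1
      simp only at h1
      split_ifs at h1 with k0 k1
      · simp only [Bool.and_eq_true, decide_eq_true_eq, Nat.beq_eq] at h1
        obtain ⟨⟨hp0, hpn, rfl⟩, hv⟩ := h1
        rw [htree p hp0 hpn, hval]
        refine (Finset.sum_eq_zero fun l hl => ?_).symm
        rw [hv, (hbig l (Finset.mem_range.1 hl)).1, sub_self, zero_smul]
      · simp only [Bool.and_eq_true, decide_eq_true_eq, Nat.beq_eq] at h1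
        obtain ⟨⟨-, hlq, hlk, hpe⟩, hv⟩ := h1
        rw [hval]
        have hd : ∀ l ∈ Finset.range c.k, ((dig c.W (c.V.get e) l : ℤ) - c.bias) • τ l =
            (if l = p then (1 : ℤ) else 0) • τ l := fun l hl => by
          have hl' := Finset.mem_range.1 hl
          rw [hv, dig_add c.W fun i hi => ?_, (hbig l hl').1, (hbig l hl').2 p hlk]
          · congr 1; split_ifs <;> simp
          · rw [(hbig i (by omega)).1, (hbig i (by omega)).2 p hlk]
            split_ifs <;> omega
        rw [Finset.sum_congr rfl hd, hunit p hlk, hτ, if_neg (by omega), hpe]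
      · simp only [Bool.and_eq_true, decide_eq_true_eq, Nat.beq_eq, List.all_eq_true, Bool.or_eq_true] at h1
        obtain ⟨⟨⟨⟨hq, hi⟩, hall⟩, hcnt⟩, hsum⟩ := h1
        obtain ⟨hwl, hlt⟩ := (hwords _ (hwd _ hq)).1
        obtain ⟨L, hL⟩ : ∃ L, L = loopE c.actF (c.words.getD (kind - 2) []) p := ⟨_, rfl⟩
        rw [← hL] at hall hcnt hsum
        have hLn : ∀ x ∈ L, x < 2 * c.n := hL ▸ loopE_lt hactn _ hlt p hi
        refine sum_map_single z val hcnt (fun x hx hne => hk x (hLn x hx) ((hall x hx).resolve_left hne)) ?_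
        rw [hL, hloop _ hq p hi, ← hL, hsumval, show C (kind - 2) = τ (kind - 2) by rw [hτ, if_pos hq],
          ← hunit (kind - 2) (by omega)]
        refine Finset.sum_congr rfl fun l hl => ?_
        have hl' := Finset.mem_range.1 hl
        congr 1
        have hlen : (L.length + 1) * c.M ≤ 2 ^ c.W := by rw [hL, loopE_length]; exact hwl
        have d1 := (dig_sum c.W c.M c.k (L.map c.V.get) (fun x hx => by
          obtain ⟨y, hy, rfl⟩ := List.mem_map.mp hx
          exact fun i hi' => hfield y (hLn y hy) i hi') (by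
            rw [List.length_map]; exact le_trans (Nat.mul_le_mul_right _ (Nat.le_succ _)) hlen) l hl').1
        have d2 := (dig_sum c.W c.M c.k (2 ^ (c.W * (kind - 2)) :: List.replicate L.length c.big) (fun x hx => by
          intro i hi'
          rcases List.mem_cons.mp hx with rfl | hx
          · rw [(hbig i hi').2 _ (by omega)]; split_ifs <;> omega
          · rw [List.eq_of_mem_replicate hx, (hbig i hi').1]; exact hbM) (by
            rw [List.length_cons, List.length_replicate]; exact hlen) l hl').1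
        rw [hsum] at d1
        rw [List.sum_cons, List.sum_replicate, smul_eq_mul, add_comm, d1, List.map_map, List.map_cons,
          List.map_replicate, List.sum_cons, List.sum_replicate, smul_eq_mul, (hbig l hl').1,
          (hbig l hl').2 _ (by omega)] at d2
        simp only [Function.comp_def] at d2
        rw [d2]
        push_cast
        split_ifs <;> simp
  have hz := hknown c.steps 0 hrun (fun e _ h => by simp at h)
  obtain ⟨R, hR⟩ : ∃ R : ℕ → Additive σ.ker, ∀ r, R r = ∑ l ∈ Finset.range c.k, (c.rows.getD r []).getD l 0 • τ l :=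
    ⟨_, fun _ => rfl⟩
  have hFz : ∀ f : ℕ → ℤ, (∑ l ∈ Finset.range c.k, (if l < c.words.length then f l else 0) • τ l) = F f := by
    intro f
    rw [hF, sum_range_list, ← Finset.sum_subset (Finset.range_mono hwk) (fun l _ hl => by
      rw [if_neg (by simpa using hl), zero_smul])]
    exact Finset.sum_congr rfl fun l hl => by
      rw [if_pos (Finset.mem_range.1 hl), hτ, if_pos (Finset.mem_range.1 hl)]
  have hR0 : ∀ r < c.res.length + 2, R r = 0 := by
    intro r hr
    rw [hR, Finset.sum_congr rfl fun l hl => by rw [hrows r hr l (Finset.mem_range.1 hl)]]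
    match r with
    | 0 =>
      simp only [Cert.rowVal]
      exact (hFz fun l => c.m0.getD l 0).trans hF0
    | 1 =>
      simp only [Cert.rowVal]
      exact (hFz fun l => c.m1.getD l 0).trans hF1
    | r + 2 =>
      obtain ⟨⟨q, i⟩, hqi⟩ : ∃ p, p = c.res.getD r (0, 0) := ⟨_, rfl⟩
      obtain ⟨hq, hi⟩ : q < c.words.length ∧ i < c.n := by
        have := hres (q, i) (hqi ▸ by rw [List.getD_eq_getElem _ _ (by omega)]; exact List.getElem_mem _)
        exact this
      simp only [Cert.rowVal, ← hqi, Cert.resVec, sub_smul _ (if _ = q then (1 : ℤ) else 0), Finset.sum_sub_distrib]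
      rw [← hsumval, hunit q (by omega), hτ, if_pos hq,
        List.map_congr_left fun x hx => (hz x (loopE_lt hactn _ (hwords _ (hwd _ hq)).1.2 i hi x hx)).symm,
        hloop q hq i hi, sub_self]
  have hdot : ∀ t, (∑ l ∈ Finset.range c.k, c.dot t l • τ l) = 0 := by
    intro t
    simp only [Cert.dot, sum_range_list, Finset.sum_smul, mul_smul]
    rw [Finset.sum_comm]
    refine Finset.sum_eq_zero fun r hr => ?_
    rw [← Finset.smul_sum, ← hR, hR0 r (Finset.mem_range.1 hr), smul_zero]
  have hN : (c.N : ℤ) • τ c.l0 = 0 := by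
    rw [← hdot c.l0]
    rw [Finset.sum_eq_single c.l0 (fun l hl hne => by
      rw [hfin c.l0 hl0 l (Finset.mem_range.1 hl), if_pos rfl, if_neg hne, zero_smul])
      (fun h => absurd (Finset.mem_range.2 hl0) h), hfin c.l0 hl0 c.l0 hl0, if_pos rfl, if_pos rfl]
  have hgenτ : ∀ t < c.k, τ t ∈ AddSubgroup.zmultiples (τ c.l0) := by
    intro t ht
    by_cases htl : t = c.l0
    · rw [htl]; exact AddSubgroup.mem_zmultiples _
    have := hdot t
    rw [Finset.sum_congr rfl fun l hl => by rw [hfin t ht l (Finset.mem_range.1 hl), if_neg htl]] at this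
    simp only [sub_smul, Finset.sum_sub_distrib, ite_smul, zero_smul, one_smul, Finset.sum_ite_eq',
      Finset.mem_range, ht, hl0, if_true, sub_eq_zero] at this
    exact this ▸ AddSubgroup.zsmul_mem_zmultiples _ _
  have htop := hgenS (AddSubgroup.zmultiples (τ c.l0)) fun e he => by
    rw [hz e he, hval]
    exact sum_mem fun l hl => AddSubgroup.zsmul_mem _ (hgenτ l (Finset.mem_range.1 hl)) _
  refine ⟨(τ c.l0).toMul, ?_, fun k => ?_⟩
  · rw [← toMul_nsmul, ← natCast_zsmul, hN, toMul_zero]
  · obtain ⟨m, hm'⟩ := AddSubgroup.mem_zmultiples_iff.1 (htop ▸ AddSubgroup.mem_top (Additive.ofMul k))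
    exact Subgroup.mem_zpowers_iff.2 ⟨m, by rw [← toMul_zsmul, hm']; rfl⟩

end Cfsg.Agent.Solv.StabCocycle
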