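import Cfsg.Prelude.Def_TwoFusion
import Cfsg.Agent.Lib.Fusion.NPC
import Cfsg.Agent.Lib.Solv.Parts
import Cfsg.Agent.Lib.Solv.Coprime
import Mathlib.Algebra.Group.Subgroup.Pointwise

/-!
Frobenius' criterion for a normal `p`-complement relative to a strongly closed subgroup.
-/

set_option autoImplicit false
set_option linter.style.haveILetI false
set_option linter.unusedSectionVars false

open scoped Pointwise

namespace Cfsg.Agent.Solv.StronglyClosedFrobenius

open Cfsg Cfsg.Agent.Fusion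

variable {G : Type*} [Group G] [Finite G] {p : ℕ} [hp : Fact p.Prime]

theorem mem_of_pow_mem_coprime {H : Subgroup G} {x : G} {a b : ℕ} (hab : a.Coprime b)
    (ha : x ^ a ∈ H) (hb : x ^ b ∈ H) : x ∈ H := by
  obtain ⟨u, v, huv⟩ : IsCoprime (a : ℤ) (b : ℤ) := Nat.isCoprime_iff_coprime.2 hab
  have h : (x ^ a) ^ u * (x ^ b) ^ v = x := by
    rw [← zpow_natCast, ← zpow_natCast, ← zpow_mul, ← zpow_mul, ← zpow_add, mul_comm (a : ℤ),
      mul_comm (b : ℤ), huv, zpow_one]
  rw [← h]
  exact H.mul_mem (H.zpow_mem ha u) (H.zpow_mem hb v)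

/-- A `p'`-element `x = l * n` of `N` lies in `L` when some `p`-power of `n` does. -/
theorem mem_of_pPower_decomp {N L : Subgroup G} (hLN : L ≤ N)
    (hNL : N ≤ Subgroup.normalizer (L : Set G)) {x n : G} (hxN : x ∈ N) (hnx : n * x⁻¹ ∈ L)
    (hx : (orderOf x).Coprime p) {k : ℕ} (hn : n ^ p ^ k ∈ L) : x ∈ L := by
  haveI : (L.subgroupOf N).Normal := Subgroup.normal_subgroupOf_of_le_normalizer hNL
  have hnN : n ∈ N := by
    have := N.mul_mem (hLN hnx) hxN
    rwa [inv_mul_cancel_right] at this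
  have heq : QuotientGroup.mk' (L.subgroupOf N) ⟨n, hnN⟩ = QuotientGroup.mk' (L.subgroupOf N) ⟨x, hxN⟩ := by
    rw [← mul_inv_eq_one, ← map_inv, ← map_mul]
    exact (QuotientGroup.eq_one_iff _).2 (Subgroup.mem_subgroupOf.2 hnx)
  have h2 : (⟨x, hxN⟩ : N) ^ p ^ k ∈ L.subgroupOf N := by
    refine (QuotientGroup.eq_one_iff _).1 ?_
    show QuotientGroup.mk' (L.subgroupOf N) ((⟨x, hxN⟩ : N) ^ p ^ k) = 1
    rw [map_pow, ← heq, ← map_pow]
    exact (QuotientGroup.eq_one_iff _).2 (Subgroup.mem_subgroupOf.2 hn)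
  refine mem_of_pow_mem_coprime (hx.pow_right k) ?_ (Subgroup.mem_subgroupOf.1 h2)
  rw [pow_orderOf_eq_one]
  exact L.one_mem

theorem pPrime_pow (n : G) : ∃ k : ℕ, (orderOf (n ^ p ^ k)).Coprime p := by
  obtain ⟨j, m, hm, hjm⟩ := Nat.exists_eq_pow_mul_and_not_dvd (orderOf_pos n).ne' p hp.out.ne_one
  refine ⟨j, ?_⟩
  rw [orderOf_pow_of_dvd (pow_ne_zero _ hp.out.ne_zero) (hjm ▸ dvd_mul_right _ _), hjm,
    Nat.mul_div_cancel_left _ (pow_pos hp.out.pos j)]
  exact (hp.out.coprime_iff_not_dvd.2 hm).symm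

/-- Every subgroup of `S` has a conjugate in `S` whose normaliser meets `S` in a Sylow subgroup. -/
theorem exists_extremal {S U : Subgroup G} (hS : SylIn p S ⊤) (hU : U ≤ S) :
    ∃ g : G, cj U g ≤ S ∧
      SylIn p (S ⊓ Subgroup.normalizer (cj U g : Set G)) (Subgroup.normalizer (cj U g : Set G)) := by
  have hUp : IsPGroup p U := hS.isPGroup.to_le hU
  obtain ⟨T, hT, hUT⟩ := exists_sylIn_ge hUp (Subgroup.le_normalizer (H := U))
  obtain ⟨g, -, hg⟩ := hS.conj_le hT.isPGroup le_top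
  refine ⟨g, (cj_mono hUT g).trans hg, ?_⟩
  have h1 := hT.cj g
  rw [cj_normalizer] at h1
  have h2 := h1.eq_of_le (hS.isPGroup.to_inf_left (K := Subgroup.normalizer (cj U g : Set G)))
    (le_inf hg h1.le) inf_le_right
  rw [h2]
  exact h1

theorem transfer_conj {U : Subgroup G} {g x : G} (hxN : x ∈ Subgroup.normalizer (U : Set G))
    (hx : (orderOf x).Coprime p)
    (h : ∀ y ∈ Subgroup.normalizer (cj U g : Set G), (orderOf y).Coprime p →
      y ∈ Subgroup.centralizer (cj U g : Set G)) :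
    x ∈ Subgroup.centralizer (U : Set G) := by
  have h1 := h (g * x * g⁻¹) (by rw [← cj_normalizer]; exact conj_mem_cj hxN) (by
    rwa [show g * x * g⁻¹ = (MulAut.conj g).toMonoidHom x by simp,
      orderOf_injective _ (MulAut.conj g).injective])
  rw [← cj_centralizer, mem_cj] at h1
  simpa [mul_assoc] using h1

variable {S D : Subgroup G}

/-- A `p'`-element normalising a subgroup of the strongly closed subgroup `D` centralises it. -/
theorem centralize_in (hS : SylIn p S ⊤) (hD : IsStronglyClosed D S)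
    (h : ∀ U : Subgroup G, U ≤ D → D ⊓ Subgroup.centralizer (U : Set G) ≤ U →
      HasNormalPComplement p ↥(Subgroup.normalizer (U : Set G))) :
    ∀ (m : ℕ) (U : Subgroup G), U ≤ D → Nat.card D - Nat.card U = m →
      ∀ x ∈ Subgroup.normalizer (U : Set G), (orderOf x).Coprime p →
        x ∈ Subgroup.centralizer (U : Set G) := by
  intro m
  induction m using Nat.strong_induction_on with
  | _ m IH =>
  intro U₀ hU₀ hm x₀ hx₀ hx₀p
  obtain ⟨g, hgS, hext⟩ := exists_extremal hS (hU₀.trans hD.1)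
  refine transfer_conj (g := g) hx₀ hx₀p fun x hxN hx => ?_
  set U := cj U₀ g with hU
  have hUD : U ≤ D := by
    intro y hy
    have h1 := hD.2 _ (hU₀ (mem_cj.1 hy)) g (by simpa [mul_assoc] using hgS hy)
    simpa [mul_assoc] using h1
  set N := Subgroup.normalizer (U : Set G) with hN
  by_cases hcen : D ⊓ Subgroup.centralizer (U : Set G) ≤ U
  · have hn := h U hUD hcen
    have hUN : U ≤ N := Subgroup.le_normalizer
    have h1 := hnpc_centralize hn (Q := U.subgroupOf N) (hS.isPGroup.to_le (hUD.trans hD.1)).comap_subtype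
      (g := ⟨x, hxN⟩) (by rw [← Subgroup.subgroupOf_normalizer_eq hUN]; exact hxN)
      (by rwa [Subgroup.orderOf_mk])
    refine Subgroup.mem_centralizer_iff.2 fun u hu => ?_
    exact congrArg Subtype.val (Subgroup.mem_centralizer_iff.1 h1 ⟨u, hUN hu⟩ hu)
  set C := Subgroup.centralizer (U : Set G) with hC
  have hCN : C ≤ N := Subgroup.centralizer_le_normalizer _
  have hNC : N ≤ Subgroup.normalizer (C : Set G) := fun y hy => mem_normalizer_iff_cj.2 (by
    rw [hC, cj_centralizer, cj_eq_self hy])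
  have hTc : SylIn p (S ⊓ N ⊓ C) C := hext.inf_normal hCN hNC
  set V := U ⊔ (D ⊓ C) with hV
  have hVD : V ≤ D := sup_le hUD inf_le_left
  have hUV : U < V := lt_of_le_not_ge le_sup_left fun hle => hcen (le_sup_right.trans hle)
  obtain ⟨c, hc, hn⟩ := frattini_conj hTc hNC hxN
  set n := c * x with hn'
  have hnN : n ∈ N := N.mul_mem (hCN hc) hxN
  have hnV : n ∈ Subgroup.normalizer (V : Set G) := by
    refine mem_normalizer_of_cj_le ?_
    rw [hV, cj_sup]
    refine sup_le ((cj_eq_self hnN).le.trans le_sup_left) (le_trans ?_ le_sup_right)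
    intro y hy
    rw [mem_cj] at hy
    have hdT : n⁻¹ * y * n ∈ S ⊓ N ⊓ C := ⟨⟨hD.1 hy.1, hCN hy.2⟩, hy.2⟩
    have hyT : y ∈ S ⊓ N ⊓ C := by
      have h2 := ((Subgroup.mem_normalizer_iff.1 hn) _).1 hdT
      simpa [mul_assoc] using h2
    refine ⟨?_, hyT.2⟩
    have h3 := hD.2 _ hy.1 n (by simpa [mul_assoc] using hyT.1.1)
    simpa [mul_assoc] using h3
  obtain ⟨k, hk⟩ := pPrime_pow (p := p) n
  have h1 : Nat.card D - Nat.card V < m := by
    have h2 : Nat.card U = Nat.card U₀ := card_cj U₀ g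
    have h3 : Nat.card U < Nat.card V := by
      refine lt_of_le_of_ne (Subgroup.card_le_of_le hUV.le) fun e => hUV.ne ?_
      exact Subgroup.eq_of_le_of_card_ge hUV.le e.ge
    have h4 := Subgroup.card_le_of_le hVD
    omega
  have h5 := IH _ h1 V hVD rfl _ (Subgroup.pow_mem _ hnV _) hk
  refine mem_of_pPower_decomp hCN hNC hxN ?_ hx (Subgroup.centralizer_le hUV.le h5)
  rw [hn', mul_inv_cancel_right]
  exact hc

/-- A `p'`-element normalising a subgroup of `S` centralises it. -/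
theorem centralize_all (hS : SylIn p S ⊤) (hD : IsStronglyClosed D S)
    (h : ∀ U : Subgroup G, U ≤ D → D ⊓ Subgroup.centralizer (U : Set G) ≤ U →
      HasNormalPComplement p ↥(Subgroup.normalizer (U : Set G))) :
    ∀ (m : ℕ) (U : Subgroup G), U ≤ S → Nat.card S - Nat.card U = m →
      ∀ x ∈ Subgroup.normalizer (U : Set G), (orderOf x).Coprime p →
        x ∈ Subgroup.centralizer (U : Set G) := by
  intro m
  induction m using Nat.strong_induction_on with
  | _ m IH =>
  intro U₀ hU₀ hm x₀ hx₀ hx₀p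
  obtain ⟨g, hUS, hext⟩ := exists_extremal hS hU₀
  refine transfer_conj (g := g) hx₀ hx₀p fun x hxN hx => ?_
  set U := cj U₀ g with hU
  set N := Subgroup.normalizer (U : Set G) with hN
  set W := U ⊓ D with hW
  have hUp : IsPGroup p U := hS.isPGroup.to_le hUS
  have hUN : U ≤ N := Subgroup.le_normalizer
  have hWN : N ≤ Subgroup.normalizer (W : Set G) := fun y hy => mem_normalizer_of_cj_le (fun w hw => by
    rw [mem_cj] at hw
    have h1 : w ∈ U := by
      have := ((Subgroup.mem_normalizer_iff.1 hy) _).1 hw.1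
      simpa [mul_assoc] using this
    refine ⟨h1, ?_⟩
    have := hD.2 _ hw.2 y (by simpa [mul_assoc] using hUS h1)
    simpa [mul_assoc] using this)
  have hcentW : ∀ y ∈ N, (orderOf y).Coprime p → ∀ w ∈ W, y * w * y⁻¹ = w := fun y hy hyp =>
    mem_centralizer_set.1 (centralize_in hS hD h _ W inf_le_right rfl y (hWN hy) hyp)
  by_cases hDU : D ≤ U
  · have hn := h D le_rfl inf_le_left
    have hSD : S ≤ Subgroup.normalizer (D : Set G) := fun s hs => mem_normalizer_of_cj_le (fun w hw => by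
      rw [mem_cj] at hw
      have h1 : w ∈ S := by
        have := S.mul_mem (S.mul_mem hs (hD.1 hw)) (S.inv_mem hs)
        simpa [mul_assoc] using this
      have := hD.2 _ hw s (by simpa [mul_assoc] using h1)
      simpa [mul_assoc] using this)
    have hWD : W = D := inf_eq_right.2 hDU
    have hxD : x ∈ Subgroup.normalizer (D : Set G) := hWD ▸ hWN hxN
    have hUND : U ≤ Subgroup.normalizer (D : Set G) := hUS.trans hSD
    have h1 := hnpc_centralize hn (Q := U.subgroupOf _) hUp.comap_subtype (g := ⟨x, hxD⟩)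
      (by rw [← Subgroup.subgroupOf_normalizer_eq hUND]; exact hxN) (by rwa [Subgroup.orderOf_mk])
    refine Subgroup.mem_centralizer_iff.2 fun u hu => ?_
    exact congrArg Subtype.val (Subgroup.mem_centralizer_iff.1 h1 ⟨u, hUND hu⟩ hu)
  -- the elements of `N` acting trivially on `U / W`
  let K : Subgroup G :=
    { carrier := {y | y ∈ N ∧ ∀ u ∈ U, y * u * y⁻¹ * u⁻¹ ∈ W}
      one_mem' := ⟨N.one_mem, fun u _ => by simp⟩
      mul_mem' := fun {a b} ha hb => ⟨N.mul_mem ha.1 hb.1, fun u hu => by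
        have h1 : b * u * b⁻¹ ∈ U := ((Subgroup.mem_normalizer_iff.1 hb.1) u).1 hu
        have := W.mul_mem (ha.2 _ h1) (hb.2 u hu)
        rw [show a * b * u * (a * b)⁻¹ * u⁻¹ =
          (a * (b * u * b⁻¹) * a⁻¹ * (b * u * b⁻¹)⁻¹) * (b * u * b⁻¹ * u⁻¹) by group]
        exact this⟩
      inv_mem' := fun {a} ha => ⟨N.inv_mem ha.1, fun u hu => by
        have h1 : a⁻¹ * u * a ∈ U := by
          simpa using ((Subgroup.mem_normalizer_iff.1 (N.inv_mem ha.1)) u).1 hu
        have := W.inv_mem (ha.2 _ h1)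
        rw [show (a * (a⁻¹ * u * a) * a⁻¹ * (a⁻¹ * u * a)⁻¹)⁻¹ = a⁻¹ * u * a⁻¹⁻¹ * u⁻¹ by group] at this
        exact this⟩ }
  have hKN : K ≤ N := fun y hy => hy.1
  have hNK : N ≤ Subgroup.normalizer (K : Set G) := fun a ha => mem_normalizer_of_cj_le (fun y hy => by
    rw [mem_cj] at hy
    have hyN : y ∈ N := by
      have := N.mul_mem (N.mul_mem ha hy.1) (N.inv_mem ha)
      simpa [mul_assoc] using this
    refine ⟨hyN, fun u hu => ?_⟩
    have hu' : a⁻¹ * u * a ∈ U := by
      simpa using ((Subgroup.mem_normalizer_iff.1 (N.inv_mem ha)) u).1 hu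
    have h1 := ((Subgroup.mem_normalizer_iff.1 (hWN ha)) _).1 (hy.2 _ hu')
    rw [show a * (a⁻¹ * y * a * (a⁻¹ * u * a) * (a⁻¹ * y * a)⁻¹ * (a⁻¹ * u * a)⁻¹) * a⁻¹ =
      y * u * y⁻¹ * u⁻¹ by group] at h1
    exact h1)
  have hKc : ∀ y ∈ K, (orderOf y).Coprime p → y ∈ Subgroup.centralizer (U : Set G) := by
    intro y hy hyp
    refine mem_centralizer_set.2 fun u hu => ?_
    set w := y * u * y⁻¹ * u⁻¹ with hw
    have hwW : w ∈ W := hy.2 u hu
    have hyw : y * w * y⁻¹ = w := hcentW y hy.1 hyp w hwW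
    have hyu : y * u * y⁻¹ = w * u := by rw [hw, inv_mul_cancel_right]
    have hit : ∀ i : ℕ, y ^ i * u * (y ^ i)⁻¹ = w ^ i * u := by
      intro i
      induction i with
      | zero => simp
      | succ i ih =>
        calc y ^ (i + 1) * u * (y ^ (i + 1))⁻¹ = y * (y ^ i * u * (y ^ i)⁻¹) * y⁻¹ := by
              rw [pow_succ' y i]; group
          _ = (y * w ^ i * y⁻¹) * (y * u * y⁻¹) := by rw [ih]; group
          _ = w ^ i * (w * u) := by rw [← conj_pow, hyw, hyu]
          _ = w ^ (i + 1) * u := by rw [pow_succ, mul_assoc (w ^ i)]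
    have h2 := hit (orderOf y)
    rw [pow_orderOf_eq_one, one_mul, inv_one, mul_one, eq_comm, mul_eq_right] at h2
    obtain ⟨j, hj⟩ := IsPGroup.iff_orderOf.1 hUp ⟨w, hwW.1⟩
    rw [Subgroup.orderOf_mk] at hj
    have hw1 : w = 1 := orderOf_eq_one_iff.1
      (Nat.eq_one_of_dvd_coprimes (hyp.pow_right j) (orderOf_dvd_of_pow_eq_one h2) (hj ▸ dvd_rfl))
    rw [hyu, hw1, one_mul]
  set L := K ⊔ U with hL
  have hLN : L ≤ N := sup_le hKN hUN
  have hNL : N ≤ Subgroup.normalizer (L : Set G) := fun a ha => mem_normalizer_iff_cj.2 (by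
    rw [hL, cj_sup, cj_eq_self (hNK ha), cj_eq_self ha])
  have hLc : ∀ y ∈ L, (orderOf y).Coprime p → y ∈ Subgroup.centralizer (U : Set G) := by
    intro y hy hyp
    refine hKc y ?_ hyp
    haveI : (K.subgroupOf L).Normal := Subgroup.normal_subgroupOf_of_le_normalizer (hLN.trans hNK)
    have hUK : U ≤ Subgroup.normalizer (K : Set G) := hUN.trans hNK
    have h1 : K.relIndex L ∣ Nat.card U := by
      have e1 := card_sup_mul_card_inf' K U hUK
      have e2 := (K.subgroupOf L).card_mul_index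
      rw [card_subgroupOf le_sup_left] at e2
      rw [← hL, ← e2, mul_assoc] at e1
      exact ⟨_, (Nat.eq_of_mul_eq_mul_left Nat.card_pos e1).symm⟩
    obtain ⟨j, hj⟩ := IsPGroup.iff_card.1 hUp
    have h2 : (orderOf y).Coprime (K.relIndex L) := by
      exact (hyp.pow_right j).coprime_dvd_right (hj ▸ h1)
    refine mem_of_pow_mem_coprime h2 (by rw [pow_orderOf_eq_one]; exact K.one_mem) ?_
    exact Subgroup.mem_subgroupOf.1 (Subgroup.pow_index_mem (K.subgroupOf L) ⟨y, hy⟩)
  have hT : SylIn p (S ⊓ N ⊓ L) L := hext.inf_normal hLN hNL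
  set T := S ⊓ N ⊓ L with hTdef
  have hUT : U ≤ T := le_inf (le_inf hUS hUN) le_sup_right
  have hlt : U < T := by
    refine lt_of_le_not_ge hUT fun hle => hDU ?_
    -- otherwise `D` would lie in `U`
    by_contra hDU'
    set R := U ⊔ D with hR
    have hRS : R ≤ S := sup_le hUS hD.1
    have hUR : U ≠ R := fun e => hDU' (e ▸ le_sup_right)
    have hgrow := SylIn.normalizer_growth (p := p) (le_sup_left : U ≤ R) hUR (hS.isPGroup.to_le hRS)
    obtain ⟨r, hr, hrU⟩ := SetLike.exists_of_lt hgrow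
    have hUD' : U ≤ Subgroup.normalizer (D : Set G) := fun s hs => mem_normalizer_of_cj_le (fun w hw => by
      rw [mem_cj] at hw
      have h1 : w ∈ S := by
        have := S.mul_mem (S.mul_mem (hUS hs) (hD.1 hw)) (S.inv_mem (hUS hs))
        simpa [mul_assoc] using this
      have := hD.2 _ hw s (by simpa [mul_assoc] using h1)
      simpa [mul_assoc] using this)
    have hr1 : r ∈ ((U ⊔ D : Subgroup G) : Set G) := hr.1
    rw [Subgroup.coe_mul_of_left_le_normalizer_right U D hUD'] at hr1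
    obtain ⟨u, hu, d, hd, rfl⟩ := hr1
    have hdN : d ∈ N := by
      have := N.mul_mem (N.inv_mem (hUN hu)) hr.2
      rwa [inv_mul_cancel_left] at this
    refine hrU (U.mul_mem hu (hle ⟨⟨hD.1 hd, hdN⟩, Subgroup.mem_sup_left ⟨hdN, fun v hv => ?_⟩⟩))
    refine ⟨U.mul_mem (((Subgroup.mem_normalizer_iff.1 hdN) v).1 hv) (U.inv_mem hv), ?_⟩
    rw [show d * v * d⁻¹ * v⁻¹ = d * (v * d⁻¹ * v⁻¹) by group]
    exact D.mul_mem hd (((Subgroup.mem_normalizer_iff.1 (hUD' hv)) _).1 (D.inv_mem hd))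
  obtain ⟨l, hl, hn⟩ := frattini_conj hT hNL hxN
  obtain ⟨k, hk⟩ := pPrime_pow (p := p) (l * x)
  have h1 : Nat.card S - Nat.card T < m := by
    have h2 : Nat.card U = Nat.card U₀ := card_cj U₀ g
    have h3 : Nat.card U < Nat.card T := by
      refine lt_of_le_of_ne (Subgroup.card_le_of_le hlt.le) fun e => hlt.ne ?_
      exact Subgroup.eq_of_le_of_card_ge hlt.le e.ge
    have h4 : Nat.card T ≤ Nat.card S := Subgroup.card_le_of_le (inf_le_left.trans inf_le_left)
    omega
  have h5 := IH _ h1 T (inf_le_left.trans inf_le_left) rfl _ (Subgroup.pow_mem _ hn _) hk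
  have hkK : (l * x) ^ p ^ k ∈ K := by
    refine ⟨Subgroup.pow_mem _ (N.mul_mem (hLN hl) hxN) _, fun u hu => ?_⟩
    rw [mem_centralizer_set.1 (Subgroup.centralizer_le hlt.le h5) u hu, mul_inv_cancel]
    exact W.one_mem
  refine hLc x (mem_of_pPower_decomp hLN hNL hxN ?_ hx (Subgroup.mem_sup_left hkK)) hx
  rw [mul_inv_cancel_right]
  exact hl

theorem criterion (P : Sylow p G) (hD : IsStronglyClosed D (P : Subgroup G)) :
    HasNormalPComplement p G ↔
      ∀ U : Subgroup G, U ≤ D → D ⊓ Subgroup.centralizer (U : Set G) ≤ U →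
        HasNormalPComplement p ↥(Subgroup.normalizer (U : Set G)) := by
  refine ⟨fun hG U _ _ => hnpc_subgroup hG _, fun h => ?_⟩
  exact hnpc_of_centralize (sylIn_top P) fun Q hQ g hg hgp =>
    centralize_all (sylIn_top P) hD h _ Q hQ rfl g hg hgp

end Cfsg.Agent.Solv.StronglyClosedFrobenius
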