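import Mathlib
import Cfsg.Agent.Lib.Solv.AbelianConjSolvable
import Cfsg.Agent.Lib.Solv.Cores
import Cfsg.Agent.Lib.Solv.Generation
import Cfsg.Agent.Lib.Perm.Fpf.QuatAut

/-!
A finite solvable group in which two abelian subgroups of the same order are conjugate has all
subgroups of the same order conjugate.
-/

set_option autoImplicit false
set_option linter.style.haveILetI false

open scoped Pointwise commutatorElement

namespace Cfsg.Agent.Solv.SubgroupConj

open AbelianConj SameOrderConj

universe u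

section Small

variable {G : Type u} [Group G] [Finite G]

theorem exists_subgroup_avoiding {q : ℕ} [hq : Fact q.Prime] (N : Subgroup G)
    (hexp : ∀ x ∈ N, x ^ q = 1) (hab : IsMulCommutative N) {x y : G} (hx : x ∈ N) (hy : y ∈ N)
    (hx1 : x ≠ 1) (hyx : y ∉ Subgroup.zpowers x) :
    ∀ j, 1 ≤ j → q ^ (j + 1) ≤ Nat.card N →
      ∃ W : Subgroup G, W ≤ N ∧ x ∈ W ∧ y ∉ W ∧ Nat.card W = q ^ j := by
  have hsup : ∀ W : Subgroup G, W ≤ N → ∀ z ∈ N, z ∉ W →
      Nat.card (W ⊔ Subgroup.zpowers z : Subgroup G) = Nat.card W * q ∧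
        ∀ w ∈ W ⊔ Subgroup.zpowers z, w ∈ W ∨ z ∈ W ⊔ Subgroup.zpowers w := by
    intro W hW z hz hzW
    have hzo : orderOf z = q := orderOf_eq_prime (hexp z hz) fun h => hzW (h ▸ one_mem W)
    have hnorm : Subgroup.zpowers z ≤ Subgroup.normalizer (W : Set G) := by
      refine (Subgroup.zpowers_le.2 ?_).trans (Subgroup.centralizer_le_normalizer _)
      rw [Subgroup.mem_centralizer_iff]
      exact fun w hw => congrArg Subtype.val (hab.is_comm.comm ⟨w, hW hw⟩ ⟨z, hz⟩)
    have hinf : W ⊓ Subgroup.zpowers z = ⊥ := by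
      refine (Subgroup.eq_bot_iff_forall _).2 fun t ⟨ht1, ht2⟩ => ?_
      by_contra ht
      have htz : Subgroup.zpowers t = Subgroup.zpowers z := by
        refine Subgroup.eq_of_le_of_card_ge (Subgroup.zpowers_le.2 ht2) ?_
        rw [Nat.card_zpowers, Nat.card_zpowers, hzo, orderOf_eq_prime (hexp t (hW ht1)) ht]
      exact hzW (Subgroup.zpowers_le.2 ht1 (htz.ge (Subgroup.mem_zpowers z)))
    have hcard : Nat.card (W ⊔ Subgroup.zpowers z : Subgroup G) = Nat.card W * q := by
      have := card_sup_mul_card_inf' W (Subgroup.zpowers z) hnorm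
      rwa [hinf, Subgroup.card_bot, mul_one, Nat.card_zpowers, hzo] at this
    refine ⟨hcard, fun w hw => ?_⟩
    by_cases hwW : w ∈ W
    · exact Or.inl hwW
    refine Or.inr ?_
    have hwN : w ∈ N := sup_le hW (Subgroup.zpowers_le.2 hz) hw
    have hle : W ⊔ Subgroup.zpowers w ≤ W ⊔ Subgroup.zpowers z :=
      sup_le le_sup_left (Subgroup.zpowers_le.2 hw)
    have heq := Subgroup.eq_of_le_of_card_ge hle (by
      have hwo : orderOf w = q := orderOf_eq_prime (hexp w hwN) fun h => hwW (h ▸ one_mem W)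
      rw [hcard]
      have hnorm' : Subgroup.zpowers w ≤ Subgroup.normalizer (W : Set G) := by
        refine (Subgroup.zpowers_le.2 ?_).trans (Subgroup.centralizer_le_normalizer _)
        rw [Subgroup.mem_centralizer_iff]
        exact fun v hv => congrArg Subtype.val (hab.is_comm.comm ⟨v, hW hv⟩ ⟨w, hwN⟩)
      have hinf' : W ⊓ Subgroup.zpowers w = ⊥ := by
        refine (Subgroup.eq_bot_iff_forall _).2 fun t ⟨ht1, ht2⟩ => ?_
        by_contra ht
        have htw : Subgroup.zpowers t = Subgroup.zpowers w := by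
          refine Subgroup.eq_of_le_of_card_ge (Subgroup.zpowers_le.2 ht2) ?_
          rw [Nat.card_zpowers, Nat.card_zpowers, hwo, orderOf_eq_prime (hexp t (hW ht1)) ht]
        exact hwW (Subgroup.zpowers_le.2 ht1 (htw.ge (Subgroup.mem_zpowers w)))
      have := card_sup_mul_card_inf' W (Subgroup.zpowers w) hnorm'
      rw [hinf', Subgroup.card_bot, mul_one, Nat.card_zpowers, hwo] at this
      rw [this])
    exact heq.ge (Subgroup.mem_sup_right (Subgroup.mem_zpowers z))
  intro j
  induction j with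
  | zero => intro h; omega
  | succ j ih =>
    intro _ hj
    rcases Nat.eq_zero_or_pos j with rfl | hj0
    · exact ⟨Subgroup.zpowers x, Subgroup.zpowers_le.2 hx, Subgroup.mem_zpowers x, hyx, by
        rw [pow_one, Nat.card_zpowers, orderOf_eq_prime (hexp x hx) hx1]⟩
    obtain ⟨W, hW, hxW, hyW, hWc⟩ := ih hj0
      ((Nat.pow_le_pow_right hq.out.pos (by omega)).trans hj)
    obtain ⟨hWy, -⟩ := hsup W hW y hy hyW
    have hne : ¬ N ≤ W ⊔ Subgroup.zpowers y := fun h => by
      have := Subgroup.card_le_of_le h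
      rw [hWy, hWc, ← pow_succ] at this
      have := (Nat.pow_le_pow_iff_right hq.out.one_lt).1 (hj.trans this)
      omega
    obtain ⟨z, hz, hzy⟩ := SetLike.not_le_iff_exists.1 hne
    have hzW : z ∉ W := fun h => hzy (Subgroup.mem_sup_left h)
    obtain ⟨hWz, hWz'⟩ := hsup W hW z hz hzW
    refine ⟨W ⊔ Subgroup.zpowers z, sup_le hW (Subgroup.zpowers_le.2 hz),
      Subgroup.mem_sup_left hxW, fun h => ?_, by rw [hWz, hWc, pow_succ q j]⟩
    rcases hWz' y h with h' | h'
    · exact hyW h'
    · exact hzy h'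

/-- Same order subgroups are conjugate when their primes have cyclic subgroups. -/
theorem lemmaA2 : ∀ (n : ℕ) (G : Type u) [Group G] [Finite G], Nat.card G = n →
    Group.IsSolvable G → ∀ H K : Subgroup G, Nat.card H = Nat.card K →
      (∀ p : ℕ, p.Prime → p ∣ Nat.card H → ∀ X : Subgroup G, IsPGroup p X → IsCyclic X) →
      ∃ g : G, MulAut.conj g • H = K := by
  intro n
  induction n using Nat.strong_induction_on with
  | _ n ih =>
    intro G _ _ hn hsol H K hcard hc
    rcases subsingleton_or_nontrivial G with hs | hs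
    · exact ⟨1, Subsingleton.elim _ _⟩
    obtain ⟨N, hNn, hN1, hmin⟩ := exists_minimal_normal (G := G)
    haveI := hNn
    have hNs : Group.IsSolvable N := inferInstance
    obtain ⟨-, q, hq, hexp, hNp⟩ := minimal_normal_elementaryAbelian N hNs hN1 hmin
    haveI := Fact.mk hq
    have hcase : (Nat.card N).Coprime (Nat.card H) ∨ (N ≤ H ∧ N ≤ K) := by
      by_cases hd : q ∣ Nat.card H
      · exact Or.inr ⟨le_of_dvd (hc q hq hd) N hNp hexp hN1 hd,
          le_of_dvd (hc q hq hd) N hNp hexp hN1 (hcard ▸ hd)⟩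
      · obtain ⟨b, hb⟩ := IsPGroup.iff_card.1 hNp
        exact Or.inl (hb ▸ ((Nat.Prime.coprime_iff_not_dvd hq).2 hd).pow_left b)
    refine of_quot N hNs hcard hcase ?_
    refine ih _ (hn ▸ card_quotient_lt N hN1) _ rfl
      (Group.isSolvable_of_surjective (QuotientGroup.mk'_surjective N)) _ _
      (card_map_eq N hcard hcase) fun p hp hpd Xb hXb => ?_
    haveI := Fact.mk hp
    obtain ⟨X, hX, hmap, -⟩ := lift_pgroup N Xb hXb
    haveI := hc p hp (hpd.trans (card_map_mk'_dvd N H)) X hX
    rw [← hmap]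
    exact isCyclic_of_surjective _ ((QuotientGroup.mk' N).subgroupMap_surjective X)

theorem card_inf_eq_gcd (F : Subgroup G) [F.Normal] (hF : (Nat.card F).Coprime F.index)
    (H : Subgroup G) : Nat.card (H ⊓ F : Subgroup G) = Nat.gcd (Nat.card H) (Nat.card F) := by
  refine Nat.dvd_antisymm (Nat.dvd_gcd (Subgroup.card_dvd_of_le inf_le_left)
    (Subgroup.card_dvd_of_le inf_le_right)) ?_
  have h1 := card_map_mk'_mul_card_inf F H
  have h2 : Nat.card (H.map (QuotientGroup.mk' F)) ∣ F.index := by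
    rw [Subgroup.index_eq_card]; exact Subgroup.card_subgroup_dvd_card _
  rw [inf_comm] at h1
  refine (Nat.Coprime.dvd_mul_left ((hF.coprime_dvd_left (Nat.gcd_dvd_right _ _)).coprime_dvd_right
    h2)).1 ?_
  rw [h1]
  exact Nat.gcd_dvd_left _ _

theorem isCyclic_of_exp_unique {p : ℕ} [hp : Fact p.Prime] {P : Subgroup G}
    (hexp : ∀ x ∈ P, x ^ p = 1) (hu : UniqueOrderP p P) : IsCyclic P := by
  by_cases h : ∃ y : P, y ≠ 1
  · obtain ⟨y, hy⟩ := h
    exact ⟨y, fun x => hu x y (Subtype.ext (hexp x x.2)) (Subtype.ext (hexp y y.2)) hy⟩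
  · push Not at h
    haveI : Subsingleton P := ⟨fun u v => (h u).trans (h v).symm⟩
    exact isCyclic_of_subsingleton

theorem centralizer_iSup_le {ι : Sort*} (f : ι → Subgroup G) {Z : Subgroup G}
    (h : ∀ i, Z ≤ Subgroup.centralizer (f i : Set G)) :
    Z ≤ Subgroup.centralizer ((⨆ i, f i : Subgroup G) : Set G) :=
  Subgroup.le_centralizer_iff.1 (iSup_le fun i => Subgroup.le_centralizer_iff.1 (h i))

end Small

section Quotient

/- `R` stands for the quotient of the group by the product of its minimal normal subgroups. -/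
variable {R : Type u} [Group R] [Finite R]

theorem unique_order (hB : BConj R) {s : ℕ} [hs : Fact s.Prime] (M : Subgroup R) [M.Normal]
    (hM : Nat.card M = s) {X : Subgroup R} : UniqueOrderP s X := by
  intro x y hx hy hy1
  have hxM := mem_of_pow_eq_one hB M hM.symm.dvd (congrArg Subtype.val hx : (x : R) ^ s = 1)
  have hyM := mem_of_pow_eq_one hB M hM.symm.dvd (congrArg Subtype.val hy : (y : R) ^ s = 1)
  have hyz : Subgroup.zpowers (y : R) = M := by
    refine Subgroup.eq_of_le_of_card_ge (Subgroup.zpowers_le.2 hyM) ?_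
    rw [hM, Nat.card_zpowers, orderOf_eq_prime (congrArg Subtype.val hy : (y : R) ^ s = 1)
      (fun h => hy1 (Subtype.ext h))]
  obtain ⟨i, hi⟩ := hyz.ge hxM
  exact ⟨i, Subtype.ext hi⟩

variable (hB : BConj R) (hsol : Group.IsSolvable R)
  (hmin : ∀ M : Subgroup R, M.Normal → M ≠ ⊥ →
    (∀ K : Subgroup R, K.Normal → K ≤ M → K = ⊥ ∨ K = M) → (Nat.card M).Prime)

include hB hsol hmin

/-- The cores are cyclic or quaternion of order eight. -/
theorem core_struct (s : ℕ) [hs : Fact s.Prime] (hne : Cfsg.pCore s R ≠ ⊥) :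
    (∀ X : Subgroup R, UniqueOrderP s X) ∧
      (IsCyclic (Cfsg.pCore s R) ∨ (s = 2 ∧ Nonempty ((Cfsg.pCore s R) ≃* QuaternionGroup 2))) := by
  haveI := pCore_normal (G := R) s
  obtain ⟨M, hMn, hM1, hMle, hMmin⟩ := exists_minimal_normal_le (Cfsg.pCore s R) hne
  haveI := hMn
  have hMp := hmin M hMn hM1 hMmin
  have hMs : Nat.card M = s := by
    obtain ⟨k, hk⟩ := IsPGroup.iff_card.1 ((pCore_isPGroup s).to_le hMle)
    rw [hk] at hMp ⊢
    rw [Nat.Prime.eq_one_of_pow hMp, pow_one]
  have hu : ∀ X : Subgroup R, UniqueOrderP s X := fun X => unique_order hB M hMs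
  refine ⟨hu, ?_⟩
  obtain ⟨P, hP⟩ := (pCore_isPGroup (G := R) s).exists_le_sylow
  rcases sylow_struct hB hsol P with h | ⟨-, hexp⟩ | ⟨rfl, ⟨e⟩⟩
  · haveI := h
    exact Or.inl (isCyclic_of_injective (Subgroup.inclusion hP) (Subgroup.inclusion_injective hP))
  · haveI := isCyclic_of_exp_unique hexp (hu P)
    exact Or.inl (isCyclic_of_injective (Subgroup.inclusion hP) (Subgroup.inclusion_injective hP))
  by_cases heq : Cfsg.pCore 2 R = P
  · exact Or.inr ⟨rfl, ⟨(MulEquiv.subgroupCongr heq).trans e⟩⟩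
  left
  obtain ⟨k, hk⟩ := IsPGroup.iff_card.1 (pCore_isPGroup (G := R) 2)
  have h8 : Nat.card (P : Subgroup R) = 2 ^ 3 := by
    rw [Nat.card_congr e.toEquiv, Nat.card_eq_fintype_card, QuaternionGroup.card]; norm_num
  have hk2 : k ≤ 2 := by
    have := card_lt_of_lt (lt_of_le_of_ne hP heq)
    rw [hk, h8] at this
    have := (Nat.pow_lt_pow_iff_right (by norm_num)).1 this
    omega
  rcases cyclic_or_quaternion (pCore_isPGroup (G := R) 2) (hu _) with h | ⟨-, n, ⟨e'⟩⟩
  · exact h
  have := Nat.card_congr e'.toEquiv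
  rw [hk, Nat.card_eq_fintype_card, QuaternionGroup.card,
    show 4 * 2 ^ n = 2 ^ (n + 2) by ring] at this
  have hk' : k = n + 2 := Nat.pow_right_injective le_rfl this
  have hn : n = 0 := by omega
  subst hn
  haveI : IsCyclic (QuaternionGroup (2 ^ 0)) := QuaternionGroup.quaternionGroup_one_isCyclic
  exact isCyclic_of_surjective e'.symm.toMonoidHom e'.symm.surjective

omit hB hsol hmin in
theorem mem_centralizer_of_eq_bot {X : Subgroup R} (h : X = ⊥) (v : R) :
    v ∈ Subgroup.centralizer (X : Set R) := by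
  rw [Subgroup.mem_centralizer_iff]
  intro w hw
  rw [h, SetLike.mem_coe, Subgroup.mem_bot] at hw
  subst hw
  simp

omit hB hsol hmin in
theorem mem_pCore_of_centralizes (hsolR : Group.IsSolvable R) {p : ℕ} [hp : Fact p.Prime] {x : R}
    (hxo : orderOf x = p) (hx : ∀ s : Nat.Primes,
      x ∈ Subgroup.centralizer (Cfsg.pCore (s : ℕ) R : Set R)) : Cfsg.pCore p R ≠ ⊥ := by
  haveI := fittingSubgroup_normal (G := R)
  haveI := fittingSubgroup_nilpotent (G := R)
  set F := Cfsg.fittingSubgroup R with hF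
  have hxF : x ∈ F := by
    refine centralizer_fitting_le hsolR ?_
    rw [fitting_eq_iSup_pCore]
    exact Subgroup.zpowers_le.1 (centralizer_iSup_le _ fun s => Subgroup.zpowers_le.2 (hx s))
  have hpF : p ∣ Nat.card F := hxo ▸ Subgroup.orderOf_dvd_natCard F hxF
  obtain ⟨P⟩ : Nonempty (Sylow p F) := inferInstance
  haveI := P.characteristic_of_normal inferInstance
  haveI := map_subtype_normal_of_characteristic F (P : Subgroup F)
  intro h
  have h1 := normal_le_pCore (N := (P : Subgroup F).map F.subtype) (P.2.map F.subtype)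
  rw [h, le_bot_iff, Subgroup.map_eq_bot_iff_of_injective _ F.subtype_injective] at h1
  exact P.ne_bot_of_dvd_card hpF h1

theorem commutator_mem_centralizer {t : R} (ht : t ∈ commutator R) (s : ℕ) [Fact s.Prime]
    (hc : IsCyclic (Cfsg.pCore s R)) : t ∈ Subgroup.centralizer (Cfsg.pCore s R : Set R) := by
  haveI := pCore_normal (G := R) s
  haveI := hc
  set C := Cfsg.pCore s R with hC
  have key : commutator R ≤ (MulAut.conjNormal : R →* MulAut C).ker := by
    rw [commutator_def, Subgroup.commutator_le]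
    intro a _ b _
    rw [MonoidHom.mem_ker, map_commutatorElement, commutatorElement_eq_one_iff_mul_comm]
    refine MulEquiv.ext fun c => ?_
    obtain ⟨g, hg⟩ := IsCyclic.exists_generator (α := C)
    obtain ⟨i, hi⟩ := hg (MulAut.conjNormal a g)
    obtain ⟨j, hj⟩ := hg (MulAut.conjNormal b g)
    obtain ⟨m, rfl⟩ := hg c
    simp only at hi hj
    simp only [MulAut.mul_apply, map_zpow]
    congr 1
    rw [← hj, map_zpow, ← hi, map_zpow, ← hj, ← zpow_mul, ← zpow_mul, mul_comm]
  rw [Subgroup.mem_centralizer_iff]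
  intro c hc
  have := congrArg Subtype.val (DFunLike.congr_fun (MonoidHom.mem_ker.1 (key ht)) (⟨c, hc⟩ : C))
  rw [MulAut.conjNormal_apply] at this
  simp only [MulAut.one_apply] at this
  exact (mul_inv_eq_iff_eq_mul.1 this).symm

/-- The noncyclic Sylow subgroups of the quotient are normal quaternion groups of order eight. -/
theorem sylow_quot {p : ℕ} [hp : Fact p.Prime] (P : Sylow p R) :
    IsCyclic (P : Subgroup R) ∨
      ((P : Subgroup R).Normal ∧ ¬ IsMulCommutative (P : Subgroup R)) := by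
  rcases sylow_struct hB hsol P with h | ⟨hab, hexp⟩ | ⟨rfl, ⟨e⟩⟩
  · exact Or.inl h
  · left
    by_contra hnc
    have hnu : ∀ X : Subgroup R, (∀ Y : Subgroup R, UniqueOrderP p Y) → False := fun _ hu =>
      hnc (isCyclic_of_exp_unique hexp (hu P))
    have hcore : Cfsg.pCore p R = ⊥ := by
      by_contra h
      exact hnu ⊥ (core_struct hB hsol hmin p h).1
    obtain ⟨x, y, hx, hy, hy1, hxy⟩ : ∃ x y : R, x ∈ (P : Subgroup R) ∧ y ∈ (P : Subgroup R) ∧
        y ≠ 1 ∧ x ∉ Subgroup.zpowers y := by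
      by_contra! h
      apply hnc
      by_cases h' : ∃ y : (P : Subgroup R), y ≠ 1
      · obtain ⟨y, hy⟩ := h'
        refine ⟨y, fun x => ?_⟩
        obtain ⟨i, hi⟩ := h x y x.2 y.2 (fun e => hy (Subtype.ext e))
        exact ⟨i, Subtype.ext hi⟩
      · push Not at h'
        haveI : Subsingleton (P : Subgroup R) := ⟨fun u v => (h' u).trans (h' v).symm⟩
        exact isCyclic_of_subsingleton
    have hx1 : x ≠ 1 := fun h => hxy (h ▸ one_mem _)
    obtain ⟨g, hg⟩ := hB _ _ (comm_zpowers y) (comm_zpowers x) (by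
      rw [Nat.card_zpowers, Nat.card_zpowers, orderOf_eq_prime (hexp y hy) hy1,
        orderOf_eq_prime (hexp x hx) hx1])
    have hu : g * y * g⁻¹ ∈ Subgroup.zpowers x := by
      rw [← hg, mem_conj_smul]; simp [mul_assoc]
    set t := g * y * g⁻¹ * y⁻¹ with ht
    have htc : t ∈ commutator R := by
      rw [ht, ← commutatorElement_def, commutator_def]
      exact Subgroup.commutator_mem_commutator (Subgroup.mem_top g) (Subgroup.mem_top y)
    have htP : t ∈ (P : Subgroup R) := mul_mem (Subgroup.zpowers_le.2 hx hu) (inv_mem hy)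
    have ht1 : t ≠ 1 := by
      intro h
      rw [ht, mul_inv_eq_one] at h
      refine hxy ?_
      have he : Subgroup.zpowers y = Subgroup.zpowers x :=
        Subgroup.eq_of_le_of_card_ge (Subgroup.zpowers_le.2 (h ▸ hu)) (by
          rw [Nat.card_zpowers, Nat.card_zpowers, orderOf_eq_prime (hexp y hy) hy1,
            orderOf_eq_prime (hexp x hx) hx1])
      rw [he]; exact Subgroup.mem_zpowers x
    have hall : ∀ v ∈ (P : Subgroup R), ∀ (s : ℕ) [Fact s.Prime], IsCyclic (Cfsg.pCore s R) →
        v ∈ Subgroup.centralizer (Cfsg.pCore s R : Set R) := by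
      intro v hv s _ hc
      by_cases hv1 : v = 1
      · rw [hv1]; exact one_mem _
      obtain ⟨k, hk⟩ := hB _ _ (comm_zpowers t) (comm_zpowers v) (by
        rw [Nat.card_zpowers, Nat.card_zpowers, orderOf_eq_prime (hexp t htP) ht1,
          orderOf_eq_prime (hexp v hv) hv1])
      refine commutator_mem_centralizer hB hsol hmin ?_ s hc
      have h1 := hk.ge (Subgroup.mem_zpowers v)
      rw [mem_conj_smul] at h1
      have h2 := (Subgroup.Normal.conj_mem (inferInstance : (commutator R).Normal) _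
        (Subgroup.zpowers_le.2 htc h1) k)
      simpa [mul_assoc] using h2
    have hxo : orderOf x = p := orderOf_eq_prime (hexp x hx) hx1
    haveI := Fact.mk Nat.prime_two
    by_cases hQ : IsCyclic (Cfsg.pCore 2 R)
    · refine mem_pCore_of_centralizes hsol hxo (fun s => ?_) hcore
      haveI := Fact.mk s.2
      by_cases hs : Cfsg.pCore (s : ℕ) R = ⊥
      · exact mem_centralizer_of_eq_bot hs _
      rcases (core_struct hB hsol hmin (s : ℕ) hs).2 with h | ⟨h2, -⟩
      · exact hall x hx s h
      · simp only [h2]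
        exact hall x hx 2 hQ
    have hne : Cfsg.pCore 2 R ≠ ⊥ := fun h => hQ (by rw [h]; exact isCyclic_of_subsingleton)
    obtain ⟨-, ⟨e⟩⟩ := (core_struct hB hsol hmin 2 hne).2.resolve_left hQ
    have hp2 : p ≠ 2 := by
      rintro rfl
      exact hne hcore
    haveI := pCore_normal (G := R) 2
    obtain ⟨φ, hφ⟩ := Perm.Fpf.QuatAut.aut_perm
    let c : MulAut (Cfsg.pCore 2 R) →* MulAut (QuaternionGroup 2) :=
      MonoidHom.mk' (fun f => e.symm.trans (f.trans e)) fun f f' => by ext u; simp
    let ψ : (P : Subgroup R) →* Equiv.Perm (Fin 4) :=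
      φ.comp (c.comp (MulAut.conjNormal.comp (P : Subgroup R).subtype))
    have hψ : Function.Injective ψ := by
      rw [← MonoidHom.ker_eq_bot_iff, Subgroup.eq_bot_iff_forall]
      intro v hv
      by_contra hv1
      refine mem_pCore_of_centralizes hsol (orderOf_eq_prime (hexp v v.2)
        (fun h => hv1 (Subtype.ext h))) (fun s => ?_) hcore
      haveI := Fact.mk s.2
      by_cases hs : Cfsg.pCore (s : ℕ) R = ⊥
      · exact mem_centralizer_of_eq_bot hs _
      rcases (core_struct hB hsol hmin (s : ℕ) hs).2 with h | ⟨h2, -⟩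
      · exact hall v v.2 s h
      simp only [h2]
      have h1 : c (MulAut.conjNormal (v : R)) = 1 := hφ (hv.trans (map_one φ).symm)
      rw [Subgroup.mem_centralizer_iff]
      intro w hw
      have h3 := congrArg (fun f => e.symm (f (e ⟨w, hw⟩))) h1
      simp only [c, MonoidHom.mk'_apply, MulEquiv.trans_apply, e.symm_apply_apply,
        MulAut.one_apply] at h3
      have h4 := congrArg Subtype.val h3
      rw [MulAut.conjNormal_apply] at h4
      exact (mul_inv_eq_iff_eq_mul.1 h4).symm
    have h24 : Nat.card (P : Subgroup R) ∣ 24 := by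
      have := Subgroup.card_dvd_of_injective ψ hψ
      rw [Nat.card_perm, Nat.card_fin] at this
      exact this
    obtain ⟨k, hk⟩ := IsPGroup.iff_card.1 P.2
    have hk2 : 2 ≤ k := by
      by_contra h
      rcases (show k = 0 ∨ k = 1 by omega) with rfl | rfl
      · haveI : Subsingleton (P : Subgroup R) :=
          Finite.card_le_one_iff_subsingleton.1 (by rw [hk, pow_zero])
        exact hnc isCyclic_of_subsingleton
      · exact hnc (isCyclic_of_prime_card (p := p) (by rw [hk, pow_one]))
    have hp24 : p ^ 2 ∣ 24 := (pow_dvd_pow p hk2).trans (hk ▸ h24)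
    have h3 : p ≤ 4 := by
      have h5 := Nat.le_of_dvd (by norm_num) hp24
      by_contra h
      have h6 := Nat.pow_le_pow_left (show 5 ≤ p by omega) 2
      omega
    have := hp.out.two_le
    interval_cases p
    · exact hp2 rfl
    · omega
    · exact absurd hp.out (by norm_num)
  right
  have hna : ¬ IsMulCommutative (P : Subgroup R) := fun h => by
    have := congrArg e (h.is_comm.comm (e.symm (QuaternionGroup.a 1)) (e.symm (QuaternionGroup.xa 0)))
    rw [map_mul, map_mul, e.apply_symm_apply, e.apply_symm_apply] at this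
    exact absurd this (by decide)
  refine ⟨?_, hna⟩
  haveI := Fact.mk Nat.prime_two
  haveI hcn := pCore_normal (G := R) 2
  have h8 : Nat.card (P : Subgroup R) = 8 := by
    rw [Nat.card_congr e.toEquiv, Nat.card_eq_fintype_card, QuaternionGroup.card]
  by_cases hQ : IsCyclic (Cfsg.pCore 2 R)
  · exfalso
    set a := (e.symm (QuaternionGroup.a 1) : (P : Subgroup R)) with hadef
    set b := (e.symm (QuaternionGroup.xa 0) : (P : Subgroup R)) with hbdef
    have hao : orderOf (a : R) = 4 := by
      rw [hadef, Subgroup.orderOf_coe, MulEquiv.orderOf_eq, QuaternionGroup.orderOf_a_one]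
    have hbo : orderOf (b : R) = 4 := by
      rw [hbdef, Subgroup.orderOf_coe, MulEquiv.orderOf_eq, QuaternionGroup.orderOf_xa]
    obtain ⟨g, hg⟩ := hB _ _ (comm_zpowers (a : R)) (comm_zpowers (b : R))
      (by rw [Nat.card_zpowers, Nat.card_zpowers, hao, hbo])
    have hu : g * a * g⁻¹ ∈ Subgroup.zpowers (b : R) := by
      rw [← hg, mem_conj_smul]; simp [mul_assoc]
    obtain ⟨i, hi⟩ := hu
    simp only at hi
    set t := g * (a : R) * g⁻¹ * (a : R)⁻¹ with ht
    have htc : t ∈ commutator R := by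
      rw [ht, ← commutatorElement_def, commutator_def]
      exact Subgroup.commutator_mem_commutator (Subgroup.mem_top g) (Subgroup.mem_top _)
    have htP : t ∈ (P : Subgroup R) := by
      rw [ht, ← hi]; exact mul_mem (zpow_mem b.2 i) (inv_mem a.2)
    have hto : orderOf t = 4 := by
      have hio : orderOf ((b : R) ^ i) = 4 := by
        rw [hi, ← MulAut.conj_apply, MulEquiv.orderOf_eq, hao]
      have hqi : QuaternionGroup.xa 0 ^ i * (QuaternionGroup.a 1)⁻¹ = e ⟨t, htP⟩ := by
        have : (⟨t, htP⟩ : (P : Subgroup R)) = b ^ i * a⁻¹ := Subtype.ext (by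
          show g * (a : R) * g⁻¹ * (a : R)⁻¹ = _
          rw [← hi]; simp)
        rw [this, map_mul, map_zpow, map_inv, hadef, hbdef, e.apply_symm_apply,
          e.apply_symm_apply]
      rw [← Subgroup.orderOf_mk t htP, ← MulEquiv.orderOf_eq e, ← hqi]
      obtain ⟨m, hm⟩ : ∃ m : ℕ, (QuaternionGroup.xa 0 : QuaternionGroup 2) ^ m =
          (QuaternionGroup.xa 0 : QuaternionGroup 2) ^ i :=
        mem_powers_iff_mem_zpowers.2 (Subgroup.zpow_mem_zpowers _ _)
      have hbo' : orderOf ((QuaternionGroup.xa 0 : QuaternionGroup 2) ^ m) = 4 := by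
        rw [hm, ← hio, hbdef, ← SubgroupClass.coe_zpow, ← map_zpow, Subgroup.orderOf_coe,
          MulEquiv.orderOf_eq]
      rw [← hm]
      have key : ∀ j : Fin 4,
          ((QuaternionGroup.xa 0 : QuaternionGroup 2) ^ (j : ℕ)) ^ 2 = 1 ∨
          ((QuaternionGroup.xa 0 : QuaternionGroup 2) ^ (j : ℕ) * (QuaternionGroup.a 1)⁻¹) ^ 2
            ≠ 1 ∧
          ((QuaternionGroup.xa 0 : QuaternionGroup 2) ^ (j : ℕ) * (QuaternionGroup.a 1)⁻¹) ^ 4
            = 1 := by decide
      have hred : (QuaternionGroup.xa 0 : QuaternionGroup 2) ^ m =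
          (QuaternionGroup.xa 0 : QuaternionGroup 2) ^ (m % 4) := by
        rw [← QuaternionGroup.orderOf_xa (n := 2) 0, pow_mod_orderOf]
      rw [hred]
      rcases key ⟨m % 4, Nat.mod_lt _ (by norm_num)⟩ with h | ⟨h1, h2⟩
      · exfalso
        simp only at h
        rw [← hred] at h
        have := orderOf_dvd_of_pow_eq_one h
        rw [hbo'] at this
        norm_num at this
      · rw [orderOf_eq_prime_pow (p := 2) (n := 1) (by rw [pow_one]; exact h1) h2]; rfl
    have hcore : ∀ s : Nat.Primes, t ∈ Subgroup.centralizer (Cfsg.pCore (s : ℕ) R : Set R) := by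
      intro s
      haveI := Fact.mk s.2
      by_cases hs : Cfsg.pCore (s : ℕ) R = ⊥
      · exact mem_centralizer_of_eq_bot hs _
      rcases (core_struct hB hsol hmin (s : ℕ) hs).2 with h | ⟨h2, -⟩
      · exact commutator_mem_centralizer hB hsol hmin htc s h
      · simp only [h2]
        exact commutator_mem_centralizer hB hsol hmin htc 2 hQ
    haveI := fittingSubgroup_normal (G := R)
    haveI := fittingSubgroup_nilpotent (G := R)
    set F := Cfsg.fittingSubgroup R with hF
    have htF : t ∈ F := by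
      refine centralizer_fitting_le hsol ?_
      rw [fitting_eq_iSup_pCore]
      exact Subgroup.zpowers_le.1 (centralizer_iSup_le _ fun s => Subgroup.zpowers_le.2 (hcore s))
    have h4F : 2 ^ 2 ∣ Nat.card F :=
      (hto.trans (by norm_num : (4 : ℕ) = 2 ^ 2)) ▸ Subgroup.orderOf_dvd_natCard F htF
    obtain ⟨P'⟩ : Nonempty (Sylow 2 F) := inferInstance
    haveI := P'.characteristic_of_normal inferInstance
    haveI := map_subtype_normal_of_characteristic F (P' : Subgroup F)
    have hle := normal_le_pCore (N := (P' : Subgroup F).map F.subtype) (P'.2.map F.subtype)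
    have h4c : 2 ^ 2 ∣ Nat.card (Cfsg.pCore 2 R) := by
      refine dvd_trans ?_ (Subgroup.card_dvd_of_le hle)
      rw [card_map_subtype, P'.card_eq_multiplicity]
      exact pow_dvd_pow 2 ((Nat.prime_two.pow_dvd_iff_le_factorization Nat.card_pos.ne').1 h4F)
    haveI := hQ
    obtain ⟨U, hU⟩ := Sylow.exists_subgroup_card_pow_prime 2 h4c
    set W := U.map (Cfsg.pCore 2 R).subtype with hW
    have hWc : Nat.card W = 2 ^ 2 := by rw [hW, card_map_subtype, hU]
    have hWn : ∀ k : R, MulAut.conj k • W = W := fun k => by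
      refine Subgroup.eq_of_le_of_card_ge (le_of_card_dvd_of_cyclic ?_ (Subgroup.map_subtype_le U)
        (by rw [card_conj_smul])) (by rw [card_conj_smul])
      exact (Subgroup.pointwise_smul_le_pointwise_smul_iff.2 (Subgroup.map_subtype_le U)).trans
        (Subgroup.Normal.conj_smul_eq_self k _).le
    have hall4 : ∀ v : R, orderOf v = 4 → Subgroup.zpowers v = W := fun v hv => by
      obtain ⟨k, hk⟩ := hB W _ (IsPGroup.isMulCommutative_of_card_eq_prime_sq hWc) (comm_zpowers v)
        (by rw [hWc, Nat.card_zpowers, hv]; rfl)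
      rw [← hk, hWn]
    refine hna ⟨⟨fun u v => ?_⟩⟩
    have hab : (b : R) ∈ Subgroup.zpowers (a : R) := by
      rw [hall4 a hao, ← hall4 b hbo]; exact Subgroup.mem_zpowers _
    obtain ⟨j, hj⟩ := hab
    have hj' : e a ^ j = e b := by rw [← map_zpow]; exact congrArg e (Subtype.ext hj)
    rw [hadef, hbdef, e.apply_symm_apply, e.apply_symm_apply] at hj'
    obtain ⟨m, hm⟩ : ∃ m : ℕ, (QuaternionGroup.a 1 : QuaternionGroup 2) ^ m =
        (QuaternionGroup.a 1 : QuaternionGroup 2) ^ j :=
      mem_powers_iff_mem_zpowers.2 (Subgroup.zpow_mem_zpowers _ _)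
    rw [← hm, QuaternionGroup.a_one_pow] at hj'
    exact absurd hj' (by simp)
  have hne : Cfsg.pCore 2 R ≠ ⊥ := fun h => hQ (by rw [h]; exact isCyclic_of_subsingleton)
  obtain ⟨-, ⟨e'⟩⟩ := (core_struct hB hsol hmin 2 hne).2.resolve_left hQ
  obtain ⟨Q, hQle⟩ := (pCore_isPGroup (G := R) 2).exists_le_sylow
  obtain ⟨g, rfl⟩ := MulAction.exists_smul_eq R Q P
  have heq : Cfsg.pCore 2 R = ((g • Q : Sylow 2 R) : Subgroup R) := by
    refine Subgroup.eq_of_le_of_card_ge ?_ ?_
    · rw [← Subgroup.Normal.conj_smul_eq_self g (Cfsg.pCore 2 R)]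
      exact Subgroup.pointwise_smul_le_pointwise_smul_iff.2 hQle
    · rw [h8, Nat.card_congr e'.toEquiv, Nat.card_eq_fintype_card, QuaternionGroup.card]
  exact heq ▸ hcn

end Quotient

section Main

variable {G : Type u} [Group G] [Finite G]

/-- Minimal normal subgroups of the quotient by a normal abelian Hall subgroup `F` generated by
minimal normal subgroups have prime order. -/
theorem quot_minimal_prime (hB : BConj G) (hsol : Group.IsSolvable G) (F : Subgroup G) [F.Normal]
    (hFab : IsMulCommutative F) (hFco : (Nat.card F).Coprime F.index) {ι : Sort*}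
    (Ns : ι → Subgroup G) (hn : ∀ i, (Ns i).Normal)
    (hNF : ∀ i, Ns i ≤ F) (hexp : ∀ i, ∃ q : ℕ, q.Prime ∧ ∀ x ∈ Ns i, x ^ q = 1)
    (hcent : ∀ z : G, (∀ i, z ∈ Subgroup.centralizer (Ns i : Set G)) → z ∈ F)
    (Mb : Subgroup (G ⧸ F)) (hMn : Mb.Normal) (hM1 : Mb ≠ ⊥)
    (hMmin : ∀ K : Subgroup (G ⧸ F), K.Normal → K ≤ Mb → K = ⊥ ∨ K = Mb) :
    (Nat.card Mb).Prime := by
  haveI := hMn
  haveI : Group.IsSolvable (G ⧸ F) :=
    Group.isSolvable_of_surjective (QuotientGroup.mk'_surjective F)
  obtain ⟨hMab, s, hs, hMexp, hMp⟩ := minimal_normal_elementaryAbelian Mb inferInstance hM1 hMmin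
  haveI := Fact.mk hs
  by_contra hnp
  set f := QuotientGroup.mk' F with hf
  set T := Mb.comap f with hT
  haveI hTn : T.Normal := Subgroup.Normal.comap inferInstance f
  have hFT : F ≤ T := QuotientGroup.le_comap_mk' F Mb
  obtain ⟨X, hX, hXmap, hXc⟩ := lift_pgroup F Mb hMp
  have hsI : s ∣ F.index := by
    obtain ⟨k, hk⟩ := IsPGroup.iff_card.1 hMp
    refine (dvd_trans (dvd_pow_self s fun h => ?_) hk.symm.dvd).trans ?_
    · exact hM1 (Subgroup.card_eq_one.1 (by rw [hk, h, pow_zero]))
    · rw [Subgroup.index_eq_card]; exact Subgroup.card_subgroup_dvd_card _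
  have hsF : ¬ s ∣ Nat.card F := fun h =>
    hs.ne_one (Nat.eq_one_of_dvd_coprimes hFco h hsI)
  have hXF : X ⊓ F = ⊥ := by
    refine coprime_inf ?_
    obtain ⟨k, hk⟩ := IsPGroup.iff_card.1 hX
    rw [hk]
    exact ((Nat.Prime.coprime_iff_not_dvd hs).2 hsF).pow_left k
  have hinj : ∀ x ∈ X, f x = 1 → x = 1 := fun x hx h =>
    Subgroup.mem_bot.1 (hXF.le (Subgroup.mem_inf.2 ⟨hx, (QuotientGroup.eq_one_iff x).1 h⟩))
  have hXT : X ≤ T := fun x hx => show f x ∈ Mb from hXmap.le ⟨x, hx, rfl⟩
  have hcomm : ∀ a ∈ T, ∀ b ∈ T, a * b * a⁻¹ * b⁻¹ ∈ F := by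
    intro a ha b hb
    rw [← QuotientGroup.eq_one_iff]
    show f _ = 1
    have := congrArg Subtype.val (hMab.is_comm.comm (⟨f a, ha⟩ : Mb) ⟨f b, hb⟩)
    simp only [Subgroup.coe_mul] at this
    rw [map_mul, map_mul, map_mul, map_inv, map_inv, this, mul_inv_cancel_right, mul_inv_cancel]
  have hXab : IsMulCommutative X := ⟨⟨fun a b => Subtype.ext (by
    have h1 := hinj _ (X.mul_mem (X.mul_mem (X.mul_mem a.2 b.2) (X.inv_mem a.2)) (X.inv_mem b.2))
      ((QuotientGroup.eq_one_iff _).2 (hcomm a (hXT a.2) b (hXT b.2)))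
    rwa [← commutatorElement_def, commutatorElement_eq_one_iff_mul_comm] at h1)⟩⟩
  have hXexp : ∀ x ∈ X, x ^ s = 1 := fun x hx =>
    hinj _ (pow_mem hx s) (by rw [map_pow]; exact hMexp _ (hXmap.le ⟨x, hx, rfl⟩))
  have hcX : Nat.card X = Nat.card Mb := by
    obtain ⟨k, hk⟩ := IsPGroup.iff_card.1 hMp
    rw [hXc, hk, Nat.factorization_mul (pow_ne_zero k hs.ne_zero) Nat.card_pos.ne', Finsupp.add_apply,
      Nat.factorization_pow, Finsupp.smul_apply, hs.factorization_self, smul_eq_mul, mul_one,
      Nat.factorization_eq_zero_of_not_dvd hsF, add_zero]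
  have hXnc : ∀ a ∈ X, X ≠ Subgroup.zpowers a := by
    intro a ha h
    apply hnp
    rw [← hcX, h, Nat.card_zpowers]
    rcases (Nat.dvd_prime hs).1 (orderOf_dvd_of_pow_eq_one (hXexp a ha)) with h1 | h1
    · exfalso
      refine hM1 (Subgroup.card_eq_one.1 ?_)
      rw [← hcX, h, Nat.card_zpowers, h1]
    · rw [h1]; exact hs
  obtain ⟨i, hi⟩ : ∃ i, ¬ X ≤ Subgroup.centralizer (Ns i : Set G) := by
    by_contra! h
    have hXb : X = ⊥ := by
      rw [← hXF]
      exact (inf_eq_left.2 fun x hx => hcent x fun i => h i hx).symm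
    exact hXnc 1 (one_mem X) (by rw [hXb, Subgroup.zpowers_one_eq_bot])
  set N := Ns i with hNdef
  haveI hNn : N.Normal := hn i
  obtain ⟨q, hq, hNexp⟩ := hexp i
  haveI := Fact.mk hq
  have hNF' : N ≤ F := hNF i
  have hFN : ∀ a ∈ F, ∀ n ∈ N, n * a = a * n := fun a ha n hn' =>
    congrArg Subtype.val (hFab.is_comm.comm (⟨n, hNF' hn'⟩ : F) ⟨a, ha⟩)
  have hker : T ⊓ Subgroup.centralizer (N : Set G) ≤ F := by
    haveI : (Subgroup.centralizer (N : Set G)).Normal := inferInstance
    haveI : (T ⊓ Subgroup.centralizer (N : Set G)).Normal := Subgroup.normal_inf_normal _ _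
    rcases hMmin ((T ⊓ Subgroup.centralizer (N : Set G)).map f)
      (Subgroup.Normal.map inferInstance f (QuotientGroup.mk'_surjective F))
      (Subgroup.map_le_iff_le_comap.2 inf_le_left) with h | h
    · intro x hx
      rw [← QuotientGroup.eq_one_iff]
      exact Subgroup.mem_bot.1 (h.le ⟨x, hx, rfl⟩)
    · exfalso
      refine hi fun x hx => ?_
      obtain ⟨t, ht, htx⟩ := h.ge (hXmap.le ⟨x, hx, rfl⟩)
      have h1 : x * t⁻¹ ∈ F := by
        rw [← QuotientGroup.eq_one_iff]
        show f _ = 1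
        rw [map_mul, map_inv, htx, mul_inv_cancel]
      have h2 : x * t⁻¹ ∈ Subgroup.centralizer (N : Set G) :=
        Subgroup.mem_centralizer_iff.2 fun n hn' => hFN _ h1 n hn'
      have := mul_mem h2 ht.2
      rwa [inv_mul_cancel_right] at this
  set CT : G → Subgroup G := fun x => T ⊓ Subgroup.centralizer ({x} : Set G) with hCT
  have hmemCT : ∀ x t, t ∈ CT x ↔ t ∈ T ∧ t * x = x * t := fun x t => by
    simp only [hCT, Subgroup.mem_inf, Subgroup.mem_centralizer_singleton_iff]
  have hFCT : ∀ x ∈ N, F ≤ CT x := fun x hx a ha =>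
    (hmemCT x a).2 ⟨hFT ha, (hFN a ha x hx).symm⟩
  -- conjugation invariance
  have hconst : ∀ x ∈ N, x ≠ 1 → ∀ y ∈ N, y ≠ 1 → Nat.card (CT x) = Nat.card (CT y) := by
    intro x hx hx1 y hy hy1
    obtain ⟨g, hg⟩ := hB _ _ (comm_zpowers x) (comm_zpowers y) (by
      rw [Nat.card_zpowers, Nat.card_zpowers, orderOf_eq_prime (hNexp x hx) hx1,
        orderOf_eq_prime (hNexp y hy) hy1])
    have key : MulAut.conj g • CT x = CT y := by
      ext t
      rw [mem_conj_smul, hmemCT, hmemCT]
      obtain ⟨j, hj⟩ := hg.ge (Subgroup.mem_zpowers y) |> mem_conj_smul.1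
      obtain ⟨k, hk⟩ := hg.le (mem_conj_smul.2 (show g⁻¹ * (g * x * g⁻¹) * g ∈ Subgroup.zpowers x by
        simp [mul_assoc]))
      simp only at hj hk
      constructor
      · rintro ⟨h1, h2⟩
        refine ⟨by simpa [mul_assoc] using hTn.conj_mem _ h1 g, ?_⟩
        have h3 : Commute (g⁻¹ * t * g) (g⁻¹ * y * g) := by
          rw [← hj]; exact (show Commute (g⁻¹ * t * g) x from h2).zpow_right j
        calc t * y = g * ((g⁻¹ * t * g) * (g⁻¹ * y * g)) * g⁻¹ := by group
          _ = g * ((g⁻¹ * y * g) * (g⁻¹ * t * g)) * g⁻¹ := by rw [h3.eq]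
          _ = y * t := by group
      · rintro ⟨h1, h2⟩
        refine ⟨by simpa [mul_assoc] using hTn.conj_mem _ h1 g⁻¹, ?_⟩
        have h3 : Commute t (g * x * g⁻¹) := by
          rw [← hk]; exact (show Commute t y from h2).zpow_right k
        calc g⁻¹ * t * g * x = g⁻¹ * (t * (g * x * g⁻¹)) * g := by group
          _ = g⁻¹ * ((g * x * g⁻¹) * t) * g := by rw [h3.eq]
          _ = x * (g⁻¹ * t * g) := by group
    rw [← key, card_conj_smul]
  have hcoXN : (Nat.card X).Coprime (Nat.card N) := by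
    obtain ⟨k, hk⟩ := IsPGroup.iff_card.1 hX
    rw [hk]
    exact ((Nat.Prime.coprime_iff_not_dvd hs).2 fun h =>
      hsF (h.trans (Subgroup.card_dvd_of_le hNF'))).pow_left k
  obtain ⟨B, hBq, hB1⟩ : ∃ B ∈ CycQuot X, N ⊓ Subgroup.centralizer (B : Set G) ≠ ⊥ := by
    by_contra! h
    have h1 := gen_eq X N hXab (by rw [Subgroup.normalizer_eq_top_iff.2 hNn]; exact le_top) hcoXN
    have h2 : N = ⊥ := by
      rw [← h1]
      simp only [iSup_eq_bot]
      exact fun B hB => h B hB
    exact hi fun x _ => Subgroup.mem_centralizer_iff.2 fun n hn' => by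
      rw [h2, SetLike.mem_coe, Subgroup.mem_bot] at hn'
      subst hn'; simp
  obtain ⟨⟨x0, hx0⟩, hx01'⟩ := Subgroup.ne_bot_iff_exists_ne_one.1 hB1
  have hx01 : x0 ≠ 1 := fun h => hx01' (Subtype.ext h)
  obtain ⟨hx0N, hx0B⟩ := Subgroup.mem_inf.1 hx0
  obtain ⟨hBX, a, ha, hBa⟩ := hBq
  obtain ⟨⟨b, hb⟩, hb1'⟩ := Subgroup.ne_bot_iff_exists_ne_one.1
    (show B ≠ ⊥ from fun h => hXnc a ha (by rw [← hBa, h, bot_sup_eq]))
  have hb1 : b ≠ 1 := fun h => hb1' (Subtype.ext h)
  have hbCT : b ∈ CT x0 :=
    (hmemCT x0 b).2 ⟨hXT (hBX hb), Subgroup.mem_centralizer_iff.1 hx0B b hb⟩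
  set S0 := N ⊓ Subgroup.centralizer (CT x0 : Set G) with hS0
  have hinv : ∀ x ∈ N, ∀ t ∈ T, ∀ z ∈ N ⊓ Subgroup.centralizer (CT x : Set G),
      t * z * t⁻¹ ∈ N ⊓ Subgroup.centralizer (CT x : Set G) := by
    intro x hx t ht z hz
    obtain ⟨hzN, hzc⟩ := Subgroup.mem_inf.1 hz
    refine Subgroup.mem_inf.2 ⟨hNn.conj_mem z hzN t, Subgroup.mem_centralizer_iff.2 fun c hc => ?_⟩
    have hc' : t⁻¹ * c * t ∈ CT x := by
      have h1 : t⁻¹ * c * t * c⁻¹ ∈ F := by
        have := hcomm t⁻¹ (inv_mem ht) c ((hmemCT x c).1 hc).1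
        rwa [inv_inv] at this
      have := mul_mem (hFCT x hx h1) hc
      rwa [inv_mul_cancel_right] at this
    calc c * (t * z * t⁻¹) = t * ((t⁻¹ * c * t) * z) * t⁻¹ := by group
      _ = t * (z * (t⁻¹ * c * t)) * t⁻¹ := by rw [Subgroup.mem_centralizer_iff.1 hzc _ hc']
      _ = t * z * t⁻¹ * c := by group
  have heqCT : ∀ x ∈ N, x ≠ 1 → ∀ z ∈ N ⊓ Subgroup.centralizer (CT x : Set G), z ≠ 1 →
      CT z = CT x := by
    intro x hx hx1 z hz hz1
    obtain ⟨hzN, hzc⟩ := Subgroup.mem_inf.1 hz
    refine (Subgroup.eq_of_le_of_card_ge (fun c hc => (hmemCT z c).2 ⟨((hmemCT x c).1 hc).1,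
      Subgroup.mem_centralizer_iff.1 hzc c hc⟩) ?_).symm
    exact (hconst z hzN hz1 x hx hx1).le
  have hself : ∀ x ∈ N, x ∈ N ⊓ Subgroup.centralizer (CT x : Set G) := fun x hx =>
    Subgroup.mem_inf.2 ⟨hx, Subgroup.mem_centralizer_iff.2 fun c hc => ((hmemCT x c).1 hc).2⟩
  obtain ⟨y, hyN, hy⟩ : ∃ y ∈ N, y ∉ Subgroup.centralizer (CT x0 : Set G) := by
    by_contra! h
    have hbF : b ∈ F := hker (Subgroup.mem_inf.2 ⟨hXT (hBX hb), Subgroup.mem_centralizer_iff.2
      fun n hn' => (Subgroup.mem_centralizer_iff.1 (h n hn') b hbCT).symm⟩)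
    exact hb1 (Subgroup.mem_bot.1 (hXF.le (Subgroup.mem_inf.2 ⟨hBX hb, hbF⟩)))
  have hy1 : y ≠ 1 := fun h => hy (h ▸ one_mem _)
  have hxy1 : x0 * y ≠ 1 := fun h => hy (by
    rw [eq_inv_of_mul_eq_one_right h]; exact inv_mem (hself x0 hx0N).2)
  have hne01 : CT y ≠ CT x0 := fun h => hy (h ▸ (hself y hyN).2)
  have hle : CT (x0 * y) ≤ CT x0 ⊓ CT y := by
    intro t ht
    obtain ⟨htT, htc⟩ := (hmemCT _ t).1 ht
    set u := t * x0 * t⁻¹ * x0⁻¹ with hu
    have huS : u ∈ N ⊓ Subgroup.centralizer (CT x0 : Set G) :=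
      mul_mem (hinv x0 hx0N t htT x0 (hself x0 hx0N)) (inv_mem (hself x0 hx0N))
    have huv : u = y * (t * y * t⁻¹)⁻¹ := by
      have hc : (t * x0 * t⁻¹) * (t * y * t⁻¹) = x0 * y := by
        calc _ = t * (x0 * y) * t⁻¹ := by group
          _ = x0 * y := by rw [htc, mul_inv_cancel_right]
      have hn1 : Commute x0⁻¹ (t * x0 * t⁻¹) :=
        (show Commute x0 (t * x0 * t⁻¹) from
          hFN _ (hNF' (hNn.conj_mem x0 hx0N t)) x0 hx0N).inv_left
      calc u = x0⁻¹ * (t * x0 * t⁻¹) := by rw [hu]; exact hn1.eq.symm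
        _ = x0⁻¹ * (x0 * y * (t * y * t⁻¹)⁻¹) := by rw [← hc, mul_inv_cancel_right]
        _ = y * (t * y * t⁻¹)⁻¹ := by group
    have huY : u ∈ N ⊓ Subgroup.centralizer (CT y : Set G) := by
      rw [huv]
      exact mul_mem (hself y hyN) (inv_mem (hinv y hyN t htT y (hself y hyN)))
    have hu1 : u = 1 := by
      by_contra h
      exact hne01 ((heqCT y hyN hy1 u huY h).symm.trans (heqCT x0 hx0N hx01 u huS h))
    refine Subgroup.mem_inf.2 ⟨(hmemCT _ t).2 ⟨htT, ?_⟩, (hmemCT _ t).2 ⟨htT, ?_⟩⟩
    · rw [hu, mul_inv_eq_one, mul_inv_eq_iff_eq_mul] at hu1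
      exact hu1
    · rw [huv, mul_inv_eq_one] at hu1
      exact (mul_inv_eq_iff_eq_mul.1 hu1.symm)
  have h1 := Subgroup.eq_of_le_of_card_ge (hle.trans inf_le_left)
    (hconst x0 hx0N hx01 _ (N.mul_mem hx0N hyN) hxy1).le
  have h2 := Subgroup.eq_of_le_of_card_ge (hle.trans inf_le_right)
    (hconst y hyN hy1 _ (N.mul_mem hx0N hyN) hxy1).le
  exact hne01 (h2.symm.trans h1)

theorem quat_unique {P : Type*} [Group P] (e : P ≃* QuaternionGroup 2) : UniqueOrderP 2 P := by
  intro x y hx hy hy1
  have key : ∀ u v : QuaternionGroup 2, u ^ 2 = 1 → v ^ 2 = 1 → v ≠ 1 → u = 1 ∨ u = v := by decide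
  rcases key (e x) (e y) (by rw [← map_pow, hx, map_one]) (by rw [← map_pow, hy, map_one])
    (fun h => hy1 (e.injective (h.trans (map_one e).symm))) with h | h
  · rw [e.injective (h.trans (map_one e).symm)]; exact Subgroup.one_mem _
  · rw [e.injective h]; exact Subgroup.mem_zpowers y

set_option maxHeartbeats 1000000 in
theorem main : ∀ (n : ℕ) (G : Type u) [Group G] [Finite G], Nat.card G = n →
    Group.IsSolvable G → BConj G → ∀ H K : Subgroup G, Nat.card H = Nat.card K →
      ∃ g : G, MulAut.conj g • H = K := by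
  intro n
  induction n using Nat.strong_induction_on with
  | _ n ih =>
    intro G _ _ hn hsol hB H K hcard
    by_cases hG : Subsingleton G
    · exact ⟨1, Subsingleton.elim _ _⟩
    by_cases heasy : ∃ N : Subgroup G, N.Normal ∧ N ≠ ⊥ ∧
        ((Nat.card N).Coprime (Nat.card H) ∨ (N ≤ H ∧ N ≤ K))
    · obtain ⟨N, hNn, hN1, hcase⟩ := heasy
      haveI := hNn
      refine of_quot N inferInstance hcard hcase ?_
      exact ih _ (hn ▸ card_quotient_lt N hN1) _ rfl
        (Group.isSolvable_of_surjective (QuotientGroup.mk'_surjective N))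
        (quot_solvable hB hsol N) _ _ (card_map_eq N hcard hcase)
    push Not at heasy
    -- facts on minimal normal subgroups
    let ι := {N : Subgroup G // N.Normal ∧ N ≠ ⊥ ∧
      ∀ K : Subgroup G, K.Normal → K ≤ N → K = ⊥ ∨ K = N}
    have hmin : ∀ i : ι, ∃ q : ℕ, q.Prime ∧ IsMulCommutative i.1 ∧ (∀ x ∈ i.1, x ^ q = 1) ∧
        IsPGroup q i.1 ∧ ¬ q ∣ i.1.index ∧ q ∣ Nat.card H ∧ ¬ i.1 ≤ H := by
      intro ⟨N, hNn, hN1, hNm⟩
      haveI := hNn
      obtain ⟨hNab, q, hq, hexp, hNp⟩ := minimal_normal_elementaryAbelian N inferInstance hN1 hNm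
      haveI := Fact.mk hq
      obtain ⟨hco, hle⟩ := heasy N hNn hN1
      obtain ⟨b, hb⟩ := IsPGroup.iff_card.1 hNp
      have hqH : q ∣ Nat.card H := by
        by_contra h
        exact hco (hb ▸ ((Nat.Prime.coprime_iff_not_dvd hq).2 h).pow_left b)
      have hqN : q ∣ Nat.card N := by
        rw [hb]
        exact dvd_pow_self q fun h => hN1 (Subgroup.card_eq_one.1 (by rw [hb, h, pow_zero]))
      have hNq : Nat.card N ≠ q := by
        intro hNq
        have : ∀ X : Subgroup G, q ∣ Nat.card X → N ≤ X := by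
          intro X hX
          obtain ⟨x, hx⟩ := exists_prime_orderOf_dvd_card' q hX
          have hxq : (x : G) ^ q = 1 := by
            have := congrArg Subtype.val (pow_orderOf_eq_one x)
            rwa [hx] at this
          rw [← Subgroup.eq_of_le_of_card_ge
            (Subgroup.zpowers_le.2 (mem_of_pow_eq_one hB N hqN hxq)) (by
              rw [hNq, Nat.card_zpowers, Subgroup.orderOf_coe, hx])]
          exact Subgroup.zpowers_le.2 x.2
        exact hle (this H hqH) (this K (hcard ▸ hqH))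
      have hqI : ¬ q ∣ N.index := by
        intro hqI
        have hu := unique_of_shared hB N hqN hqI hNp
        obtain ⟨y, hy⟩ := (isCyclic_of_exp_unique hexp hu).exists_ofOrder_eq_natCard
        have hd : Nat.card N ∣ q := hy ▸ orderOf_dvd_of_pow_eq_one (Subtype.ext (hexp y y.2))
        exact hNq ((Nat.dvd_prime hq).1 hd |>.resolve_left fun h => hN1 (Subgroup.card_eq_one.1 h))
      refine ⟨q, hq, hNab, hexp, hNp, hqI, hqH, fun hNH => hle hNH ?_⟩
      obtain ⟨U, hU⟩ := Sylow.exists_subgroup_card_pow_prime q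
        (show q ^ b ∣ Nat.card K from hcard ▸ hb ▸ Subgroup.card_dvd_of_le hNH)
      have hUN : U.map K.subtype ≤ N := le_of_coprime_index N _ (by
        rw [card_map_subtype, hU]
        exact ((Nat.Prime.coprime_iff_not_dvd hq).2 hqI).pow_left b)
      rw [← Subgroup.eq_of_le_of_card_ge hUN (by rw [card_map_subtype, hU, hb])]
      exact Subgroup.map_subtype_le U
    set F := ⨆ i : ι, i.1 with hFdef
    haveI hFn : F.Normal := by
      refine ⟨fun x hx g => ?_⟩
      have h1 : MulAut.conj g • F = F := by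
        rw [hFdef, conj_smul_eq_map, Subgroup.map_iSup]
        exact iSup_congr fun i => by
          haveI := i.2.1
          rw [← conj_smul_eq_map, Subgroup.Normal.conj_smul_eq_self]
      rw [← h1, mem_conj_smul]
      simpa [mul_assoc] using hx
    have hNF : ∀ i : ι, i.1 ≤ F := fun i => le_iSup (fun i : ι => i.1) i
    have hFab : IsMulCommutative F := by
      have hle : F ≤ Subgroup.centralizer (F : Set G) := by
        refine centralizer_iSup_le _ fun i => iSup_le fun j => ?_
        haveI := i.2.1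
        haveI := j.2.1
        by_cases hij : i.1 = j.1
        · obtain ⟨q, -, hab, -⟩ := hmin i
          rw [← hij]
          exact fun x hx => Subgroup.mem_centralizer_iff.2 fun y hy =>
            congrArg Subtype.val (hab.is_comm.comm (⟨y, hy⟩ : i.1) ⟨x, hx⟩)
        · intro x hx
          rw [Subgroup.mem_centralizer_iff]
          intro y hy
          refine (Subgroup.commute_of_normal_of_disjoint i.1 j.1 i.2.1 j.2.1 ?_ y x hy hx).eq
          rw [disjoint_iff]
          rcases j.2.2.2 (i.1 ⊓ j.1) (Subgroup.normal_inf_normal _ _) inf_le_right with h | h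
          · exact h
          · rcases i.2.2.2 (i.1 ⊓ j.1) (Subgroup.normal_inf_normal _ _) inf_le_left with h' | h'
            · exact h'
            · exact absurd (h'.symm.trans h) hij
      exact ⟨⟨fun a b => Subtype.ext (Subgroup.mem_centralizer_iff.1 (hle b.2) a a.2)⟩⟩
    have hprimeF : ∀ r : ℕ, r.Prime → r ∣ Nat.card F → ∃ i : ι, r ∣ Nat.card i.1 := by
      classical
      haveI : Fintype ι := Fintype.ofFinite ι
      intro r hr hrF
      have hF' : F = Finset.univ.sup (fun i : ι => i.1) := by rw [Finset.sup_univ_eq_iSup]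
      rw [hF'] at hrF
      have key : ∀ s : Finset ι, (s.sup fun i : ι => i.1).Normal ∧
          (r ∣ Nat.card (s.sup fun i : ι => i.1 : Subgroup G) → ∃ i : ι, r ∣ Nat.card i.1) := by
        intro s
        induction s using Finset.induction_on with
        | empty =>
          rw [Finset.sup_empty]
          exact ⟨Subgroup.normal_bot, fun h => absurd (Subgroup.card_bot (G := G) ▸ h) hr.not_dvd_one⟩
        | insert a s _ ihs =>
          haveI := a.2.1
          haveI := ihs.1
          rw [Finset.sup_insert]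
          refine ⟨Subgroup.sup_normal _ _, fun h => ?_⟩
          rcases hr.dvd_mul.1 (h.trans (card_sup_dvd a.1 _)) with h' | h'
          · exact ⟨a, h'⟩
          · exact ihs.2 h'
      exact (key _).2 hrF
    have hFco : (Nat.card F).Coprime F.index := by
      rw [Nat.coprime_iff_gcd_eq_one]
      by_contra h
      obtain ⟨r, hr, hrd⟩ := Nat.exists_prime_and_dvd h
      obtain ⟨i, hi⟩ := hprimeF r hr (hrd.trans (Nat.gcd_dvd_left _ _))
      obtain ⟨q, hq, -, -, hp, hqI, -, -⟩ := hmin i
      haveI := Fact.mk hq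
      obtain ⟨b, hb⟩ := IsPGroup.iff_card.1 hp
      rw [hb] at hi
      rw [(Nat.prime_dvd_prime_iff_eq hr hq).1 (hr.dvd_of_dvd_pow hi)] at hrd
      exact hqI ((hrd.trans (Nat.gcd_dvd_right _ _)).trans (Subgroup.index_dvd_of_le (hNF i)))
    have hcent : ∀ z : G, (∀ i : ι, z ∈ Subgroup.centralizer (i.1 : Set G)) → z ∈ F := by
      set C := Subgroup.centralizer (F : Set G) with hC
      haveI hCn : C.Normal := inferInstance
      suffices hCF : C ≤ F from fun z hz => hCF
        (Subgroup.zpowers_le.1 (centralizer_iSup_le _ fun i => Subgroup.zpowers_le.2 (hz i)))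
      have hFC : F ≤ C := fun x hx => Subgroup.mem_centralizer_iff.2 fun y hy =>
        congrArg Subtype.val (hFab.is_comm.comm (⟨y, hy⟩ : F) ⟨x, hx⟩)
      have hcoC : (Nat.card F).Coprime (Nat.card C / Nat.card F) := by
        refine hFco.coprime_dvd_right ?_
        have h1 := Subgroup.card_dvd_of_le hFC
        have h2 := Subgroup.card_subgroup_dvd_card C
        rw [← Nat.mul_div_cancel' h1, ← F.card_mul_index] at h2
        exact Nat.dvd_of_mul_dvd_mul_left Nat.card_pos h2
      obtain ⟨C0, hC0C, hsup, hC0c⟩ := split hFC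
        (by rw [Subgroup.normalizer_eq_top_iff.2 inferInstance]; exact le_top) hcoC
      have hco0 : (Nat.card F).Coprime (Nat.card C0) := by
        rwa [← hC0c, Nat.mul_div_cancel_left _ Nat.card_pos] at hcoC
      have hpow : ∀ x ∈ C, x ^ Nat.card C0 = 1 → x ∈ C0 := by
        intro x hx hxp
        obtain ⟨a, ha, c, hc, rfl⟩ := Subgroup.mem_sup_of_normal_left.1 (hsup.ge hx)
        have hac : Commute a c := Subgroup.mem_centralizer_iff.1 (hC0C hc) a ha
        have h1 : c ^ Nat.card C0 = 1 :=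
          congrArg Subtype.val (pow_card_eq_one' (x := (⟨c, hc⟩ : C0)))
        rw [hac.mul_pow, h1, mul_one] at hxp
        have h2 : a ^ Nat.card F = 1 :=
          congrArg Subtype.val (pow_card_eq_one' (x := (⟨a, ha⟩ : F)))
        have := pow_gcd_eq_one.mpr ⟨h2, hxp⟩
        rw [Nat.coprime_iff_gcd_eq_one.1 hco0, pow_one] at this
        rw [this, one_mul]
        exact hc
      haveI : C0.Normal := ⟨fun c hc g => hpow _ (hCn.conj_mem c (hC0C hc) g) (by
        rw [conj_pow, show c ^ Nat.card C0 = 1 from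
          congrArg Subtype.val (pow_card_eq_one' (x := (⟨c, hc⟩ : C0))), mul_one, mul_inv_cancel])⟩
      by_cases hC01 : C0 = ⊥
      · rw [← hsup, hC01, sup_bot_eq]
      exfalso
      obtain ⟨N, hNn, hN1, hNle, hNm⟩ := exists_minimal_normal_le C0 hC01
      refine hN1 (le_bot_iff.1 ?_)
      rw [← coprime_inf hco0]
      exact le_inf (hNF ⟨N, hNn, hN1, hNm⟩) hNle
    -- conjugate the intersections with `F`
    have habF : ∀ E : Subgroup G, E ≤ F → IsMulCommutative E := fun E hE =>
      ⟨⟨fun a b => Subtype.ext (congrArg Subtype.val (hFab.is_comm.comm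
        (⟨a, hE a.2⟩ : F) ⟨b, hE b.2⟩) : (a : G) * b = b * a)⟩⟩
    obtain ⟨g, hg⟩ := hB (H ⊓ F) (K ⊓ F) (habF _ inf_le_right) (habF _ inf_le_right)
      (by rw [card_inf_eq_gcd F hFco, card_inf_eq_gcd F hFco, hcard])
    set H' := MulAut.conj g • H with hH'
    set D := K ⊓ F with hDdef
    have hH'c : Nat.card H' = Nat.card H := card_conj_smul g H
    have hDH' : D = H' ⊓ F := by
      rw [← hg, hH', Subgroup.smul_inf, Subgroup.Normal.conj_smul_eq_self g F]
    set S := Subgroup.normalizer (D : Set G) with hS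
    have hnorm : ∀ X : Subgroup G, D = X ⊓ F → X ≤ S := by
      intro X hX x hx
      refine mem_normalizer_of_conj_smul ?_
      rw [hX, Subgroup.smul_inf, Subgroup.conj_smul_eq_self_of_mem hx,
        Subgroup.Normal.conj_smul_eq_self x F]
    have hFS : F ≤ S := fun x hx => mem_normalizer_of_conj_smul (by
      refine Subgroup.eq_of_le_of_card_ge ?_ (card_conj_smul _ _).ge
      intro y hy
      rw [mem_conj_smul] at hy
      have hyF : x⁻¹ * y * x ∈ F := (Subgroup.mem_inf.1 hy).2
      have h1 : (x⁻¹ * y * x) * x = x * (x⁻¹ * y * x) :=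
        congrArg Subtype.val (hFab.is_comm.comm (⟨_, hyF⟩ : F) ⟨x, hx⟩)
      have : y = x⁻¹ * y * x := by
        calc y = x * (x⁻¹ * y * x) * x⁻¹ := by group
          _ = x⁻¹ * y * x := by rw [← h1, mul_inv_cancel_right]
      rwa [this])
    have hDgcd : Nat.card D = Nat.gcd (Nat.card H) (Nat.card F) := by
      rw [hDdef, card_inf_eq_gcd F hFco, hcard]
    have hmd : Nat.card H / Nat.card D ∣ F.index := by
      have h1 := card_map_mk'_mul_card_inf F K
      rw [inf_comm, ← hDdef, ← hcard] at h1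
      rw [← h1, Nat.mul_div_cancel _ Nat.card_pos, Subgroup.index_eq_card]
      exact Subgroup.card_subgroup_dvd_card _
    have hco : (Nat.card D).Coprime (Nat.card H / Nat.card D) :=
      (hFco.coprime_dvd_left (Subgroup.card_dvd_of_le inf_le_right)).coprime_dvd_right hmd
    obtain ⟨Q, hQK, hQ, hQc⟩ := split (D := D) (H := K) inf_le_left (hnorm K rfl)
      (by rw [← hcard]; exact hco)
    obtain ⟨Q', hQH, hQ', hQ'c⟩ := split (D := D) (H := H') (hDH' ▸ inf_le_left) (hnorm H' hDH')
      (by rw [hH'c]; exact hco)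
    have hQeq : Nat.card Q' = Nat.card Q :=
      Nat.eq_of_mul_eq_mul_left Nat.card_pos (hQ'c.trans (hH'c.trans (hcard.trans hQc.symm)))
    have hQ'S : Q' ≤ S := hQH.trans (hnorm H' hDH')
    have hQS : Q ≤ S := hQK.trans (hnorm K rfl)
    have hcyc : ∀ p : ℕ, p.Prime → p ∣ Nat.card Q' → ∀ X : Subgroup G, X ≤ S → IsPGroup p X →
        IsCyclic X := by
      intro p hp hpQ X hXS hX
      haveI := Fact.mk hp
      by_contra hnc
      have hpF : ¬ p ∣ Nat.card F := by
        intro h
        have h1 : p ∣ F.index := by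
          refine (hpQ.trans ?_).trans hmd
          rw [← hH'c, ← hQ'c, Nat.mul_div_cancel_left _ Nat.card_pos]
        exact hp.ne_one (Nat.eq_one_of_dvd_coprimes hFco h h1)
      set f := QuotientGroup.mk' F with hf
      have hXF : X ⊓ F = ⊥ := by
        refine coprime_inf ?_
        obtain ⟨k, hk⟩ := IsPGroup.iff_card.1 hX
        rw [hk]
        exact ((Nat.Prime.coprime_iff_not_dvd hp).2 hpF).pow_left k
      set Xb := X.map f with hXb
      have hXnc : ¬ IsCyclic Xb := by
        intro h
        haveI := h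
        refine hnc (isCyclic_of_injective (f.subgroupMap X) ?_)
        rw [← MonoidHom.ker_eq_bot_iff, Subgroup.eq_bot_iff_forall]
        intro x hx
        refine Subtype.ext (Subgroup.mem_bot.1 (hXF.le (Subgroup.mem_inf.2 ⟨x.2, ?_⟩)))
        exact (QuotientGroup.eq_one_iff _).1 (congrArg Subtype.val (MonoidHom.mem_ker.1 hx))
      have hBR : BConj (G ⧸ F) := quot_solvable hB hsol F
      have hsR : Group.IsSolvable (G ⧸ F) :=
        Group.isSolvable_of_surjective (QuotientGroup.mk'_surjective F)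
      have hRmin := fun Mb h1 h2 h3 => quot_minimal_prime hB hsol F hFab hFco (fun i : ι => i.1)
        (fun i => i.2.1) hNF (fun i => (hmin i).imp fun q h => ⟨h.1, h.2.2.1⟩)
        hcent Mb h1 h2 h3
      obtain ⟨P, hXP⟩ := (hX.map f).exists_le_sylow
      rcases sylow_quot hBR hsR hRmin P with h | ⟨hPn, hPna⟩
      · haveI := h
        exact hXnc (isCyclic_of_injective (Subgroup.inclusion hXP) (Subgroup.inclusion_injective hXP))
      rcases sylow_struct hBR hsR P with h | ⟨h, -⟩ | ⟨rfl, ⟨e⟩⟩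
      · exact hPna (comm_of_isCyclic h)
      · exact hPna h
      have hXeq : Xb = (P : Subgroup (G ⧸ F)) := by
        rcases comm_or_full hBR hsR (hX.map f) with h | ⟨-, h⟩
        · exfalso
          have hu := unique_of_le hXP (quat_unique e)
          obtain ⟨a, -, ha⟩ := abelian_cyclic_of_unique (hX.map f) hu ⊤
            (fun x _ y _ => h.is_comm.comm x y)
          exact hXnc ⟨a, fun x => (ha.le (Subgroup.mem_top x))⟩
        · exact Subgroup.eq_of_le_of_card_ge hXP (by rw [h, P.card_eq_multiplicity])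
      set T := (P : Subgroup (G ⧸ F)).comap f with hTdef
      haveI hTn : T.Normal := Subgroup.Normal.comap hPn f
      have hTS : T ≤ S := by
        intro t ht
        obtain ⟨x, hx, hxt⟩ := hXeq.ge ht
        have h1 : t * x⁻¹ ∈ F := by
          rw [← QuotientGroup.eq_one_iff]
          show f _ = 1
          rw [map_mul, map_inv, hxt, mul_inv_cancel]
        have := mul_mem (hFS h1) (hXS hx)
        rwa [inv_mul_cancel_right] at this
      have hTE : ∀ E : Subgroup G, E ≤ F → Nat.card E = Nat.card D →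
          T ≤ Subgroup.normalizer (E : Set G) := by
        intro E hE hEc t ht
        obtain ⟨k, hk⟩ := hB D E (habF D inf_le_right) (habF E hE) hEc.symm
        have h1 : k⁻¹ * t * k ∈ T := by simpa using hTn.conj_mem t ht k⁻¹
        refine mem_normalizer_of_conj_smul ?_
        rw [← hk, conj_smul_conj, show t * k = k * (k⁻¹ * t * k) by group, ← conj_smul_conj,
          conj_smul_of_mem_normalizer (hTS h1)]
      -- every element of `T` acts as a power on each minimal normal subgroup
      have hpw : ∀ i : ι, ∀ t ∈ T, ∀ x ∈ i.1, t * x * t⁻¹ ∈ Subgroup.zpowers x := by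
        intro i t ht x hx
        obtain ⟨q, hq, hab, hexp, hNp, hqI, hqH, hNH⟩ := hmin i
        haveI := Fact.mk hq
        set N := i.1 with hNi
        haveI hNn : N.Normal := i.2.1
        by_cases hx1 : x = 1
        · subst hx1; simp
        by_contra hy
        have hyN : t * x * t⁻¹ ∈ N := hNn.conj_mem x hx t
        have hNco : (Nat.card N).Coprime N.index := by
          obtain ⟨b, hb⟩ := IsPGroup.iff_card.1 hNp
          rw [hb]
          exact ((Nat.Prime.coprime_iff_not_dvd hq).2 hqI).pow_left b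
        obtain ⟨d, hd⟩ := IsPGroup.iff_card.1 (hNp.to_le (inf_le_right : D ⊓ N ≤ N))
        obtain ⟨b, hb⟩ := IsPGroup.iff_card.1 hNp
        have hqN : q ∣ Nat.card N := by
          rw [hb]
          exact dvd_pow_self q fun h => i.2.2.1 (Subgroup.card_eq_one.1 (by rw [hb, h, pow_zero]))
        have hd1 : 1 ≤ d := by
          obtain ⟨z, hz⟩ := exists_prime_orderOf_dvd_card' q (hH'c.symm ▸ hqH : q ∣ Nat.card H')
          have hzN : (z : G) ∈ N := mem_of_pow_eq_one hB N hqN (by
            have := congrArg Subtype.val (pow_orderOf_eq_one z)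
            rwa [hz] at this)
          have hzD : (z : G) ∈ D ⊓ N := Subgroup.mem_inf.2
            ⟨hDH'.ge (Subgroup.mem_inf.2 ⟨z.2, hNF i hzN⟩), hzN⟩
          have := Subgroup.orderOf_dvd_natCard (D ⊓ N) hzD
          rw [Subgroup.orderOf_coe, hz, hd] at this
          by_contra hc
          rw [show d = 0 by omega, pow_zero] at this
          exact hq.not_dvd_one this
        have hdb : d + 1 ≤ b := by
          by_contra hc
          refine hNH ?_
          have hle : N ≤ D := by
            have h2 := Subgroup.eq_of_le_of_card_ge (inf_le_right : D ⊓ N ≤ N)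
              (by rw [hd, hb]; exact Nat.pow_le_pow_right hq.pos (by omega))
            exact h2.ge.trans inf_le_left
          have hle' : N ≤ H' := hle.trans (hDH'.le.trans inf_le_left)
          rw [hH', ← Subgroup.Normal.conj_smul_eq_self g N] at hle'
          exact Subgroup.pointwise_smul_le_pointwise_smul_iff.1 hle'
        obtain ⟨W, hWN, hxW, hyW, hWc⟩ := exists_subgroup_avoiding N hexp hab hx hyN hx1 hy d hd1
          (by rw [hb]; exact Nat.pow_le_pow_right hq.pos hdb)
        have hgcd : Nat.card (D ⊓ N : Subgroup G) = Nat.gcd (Nat.card D) (Nat.card N) :=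
          card_inf_eq_gcd N hNco D
        have hqdiv : ¬ q ∣ Nat.card D / Nat.card (D ⊓ N : Subgroup G) := by
          intro h
          have h1 : q ^ (d + 1) ∣ Nat.gcd (Nat.card D) (Nat.card N) := by
            refine Nat.dvd_gcd ?_ (hb ▸ pow_dvd_pow q hdb)
            rw [← Nat.mul_div_cancel' (Subgroup.card_dvd_of_le (inf_le_left : D ⊓ N ≤ D)), hd,
              pow_succ]
            exact Nat.mul_dvd_mul_left _ (hd ▸ h)
          rw [← hgcd, hd] at h1
          have := (Nat.pow_dvd_pow_iff_le_right hq.one_lt).1 h1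
          omega
        obtain ⟨D', hD'D, -, hD'c⟩ := split (D := D ⊓ N) (H := D) inf_le_left (by
            intro z hz
            refine mem_normalizer_of_conj_smul ?_
            rw [Subgroup.smul_inf, Subgroup.conj_smul_eq_self_of_mem hz,
              Subgroup.Normal.conj_smul_eq_self z N])
          (by rw [hd]; exact ((Nat.Prime.coprime_iff_not_dvd hq).2 (hd ▸ hqdiv)).pow_left d)
        have hWD' : W ⊓ D' = ⊥ := by
          refine coprime_inf ?_
          rw [hWc]
          refine Nat.Coprime.pow_left d ((Nat.Prime.coprime_iff_not_dvd hq).2 fun h => hqdiv ?_)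
          rwa [← hD'c, Nat.mul_div_cancel_left _ Nat.card_pos]
        have hEle : W ⊔ D' ≤ F := sup_le (hWN.trans (hNF i)) (hD'D.trans inf_le_right)
        have hEc : Nat.card (W ⊔ D' : Subgroup G) = Nat.card D := by
          have := card_sup_mul_card_inf' W D' (fun z hz => mem_normalizer_of_conj_smul (by
            refine Subgroup.eq_of_le_of_card_ge ?_ (card_conj_smul _ _).ge
            intro w hw
            rw [mem_conj_smul] at hw
            have h1 : (z⁻¹ * w * z) * z = z * (z⁻¹ * w * z) := congrArg Subtype.val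
              (hFab.is_comm.comm (⟨_, hNF i (hWN hw)⟩ : F) ⟨z, (hD'D.trans inf_le_right) hz⟩)
            have : w = z⁻¹ * w * z := by
              calc w = z * (z⁻¹ * w * z) * z⁻¹ := by group
                _ = z⁻¹ * w * z := by rw [← h1, mul_inv_cancel_right]
            rwa [this]))
          rw [hWD', Subgroup.card_bot, mul_one, hWc, ← hd, hD'c] at this
          exact this
        have hEN : (W ⊔ D') ⊓ N = W := by
          refine (Subgroup.eq_of_le_of_card_ge (le_inf le_sup_left hWN) ?_).symm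
          rw [card_inf_eq_gcd N hNco, hEc, ← hgcd, hd, hWc]
        refine hyW (hEN.le (Subgroup.mem_inf.2 ⟨?_, hyN⟩))
        exact (Subgroup.mem_normalizer_iff.1 (hTE _ hEle hEc ht) x).1 (Subgroup.mem_sup_left hxW)
      refine hPna ⟨⟨?_⟩⟩
      rintro ⟨a, ha⟩ ⟨b, hb⟩
      obtain ⟨t, rfl⟩ := QuotientGroup.mk'_surjective F a
      obtain ⟨u, rfl⟩ := QuotientGroup.mk'_surjective F b
      refine Subtype.ext ?_
      show f t * f u = f u * f t
      rw [← map_mul, ← map_mul]
      refine (QuotientGroup.eq.2 (hcent _ fun i => Subgroup.mem_centralizer_iff.2 fun x hx => ?_))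
      -- both products act in the same way
      obtain ⟨m, hm⟩ := hpw i t ha x hx
      obtain ⟨l, hl⟩ := hpw i u hb x hx
      simp only at hm hl
      have h1 : t * u * x * (t * u)⁻¹ = x ^ (m * l) := by
        calc t * u * x * (t * u)⁻¹ = t * (u * x * u⁻¹) * t⁻¹ := by group
          _ = (t * x * t⁻¹) ^ l := by rw [← hl, conj_zpow]
          _ = x ^ (m * l) := by rw [← hm, ← zpow_mul]
      have h2 : u * t * x * (u * t)⁻¹ = x ^ (m * l) := by
        calc u * t * x * (u * t)⁻¹ = u * (t * x * t⁻¹) * u⁻¹ := by group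
          _ = (u * x * u⁻¹) ^ m := by rw [← hm, conj_zpow]
          _ = x ^ (m * l) := by rw [← hl, ← zpow_mul, mul_comm]
      have h3 := h1.trans h2.symm
      calc x * ((t * u)⁻¹ * (u * t)) = (t * u)⁻¹ * (t * u * x * (t * u)⁻¹) * (u * t) := by group
        _ = (t * u)⁻¹ * (u * t * x * (u * t)⁻¹) * (u * t) := by rw [h3]
        _ = (t * u)⁻¹ * (u * t) * x := by group
    obtain ⟨s, hs⟩ := lemmaA2 _ S rfl inferInstance (Q'.subgroupOf S) (Q.subgroupOf S)
      (by rw [card_subgroupOf hQS, card_subgroupOf hQ'S, hQeq]) (fun p hp hpd X hX => by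
        rw [card_subgroupOf hQ'S] at hpd
        haveI := hcyc p hp hpd (X.map S.subtype) (Subgroup.map_subtype_le X) (hX.map _)
        exact isCyclic_of_injective
          (Subgroup.equivMapOfInjective X S.subtype S.subtype_injective).toMonoidHom
          (Subgroup.equivMapOfInjective X S.subtype S.subtype_injective).injective)
    refine ⟨(s : G) * g, ?_⟩
    rw [← conj_smul_conj, ← hH', ← hQ', ← hQ, Subgroup.smul_sup]
    have h1 : MulAut.conj (s : G) • D = D := conj_smul_of_mem_normalizer s.2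
    have h2 : MulAut.conj (s : G) • Q' = Q := by
      have := congrArg (Subgroup.map S.subtype) hs
      rw [map_conj_smul, Subgroup.map_subgroupOf_eq_of_le hQ'S,
        Subgroup.map_subgroupOf_eq_of_le hQS] at this
      exact this
    rw [h1, h2]

end Main

end Cfsg.Agent.Solv.SubgroupConj
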