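import Cfsg.Agent.Lib.Char.Exceptional
import Cfsg.Agent.Lib.Char.RealClass
import Cfsg.Agent.Lib.Char.Linear
import Cfsg.Agent.Lib.Char.Induction
import Cfsg.Agent.Lib.Solv.FPF
import Cfsg.Agent.Lib.Solv.Kulakoff
import Mathlib.Algebra.BigOperators.Group.Finset.Piecewise

/-!
Suzuki's theorem: a group of odd order in which the centralisers of non-identity elements are
abelian is solvable.  The proof uses the exceptional characters of the centralisers together with a
parity argument on pairs of such families.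
-/

set_option autoImplicit false
set_option linter.style.haveILetI false
set_option linter.unusedSectionVars false

open scoped ComplexConjugate Pointwise

namespace Cfsg.Agent.Solv.SuzukiCA

open Cfsg Cfsg.Agent.Char

variable {G : Type*} [Group G] [Fintype G]

/-- The trivial irreducible character. -/
noncomputable def oneChar : IrrCharacter G := ⟨fun _ => 1, isIrrCharacter_one⟩

/-- The `0-1` indicator of equality. -/
noncomputable def dd {α : Type*} (a b : α) : ℤ := by classical exact if a = b then 1 else 0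

theorem dd_self {α : Type*} (a : α) : dd a a = 1 := by simp [dd]
theorem dd_ne {α : Type*} {a b : α} (h : a ≠ b) : dd a b = 0 := by simp [dd, h]

/-- `A` is abelian and the centraliser of each of its non-identity elements. -/
structure IsCCT (A : Subgroup G) : Prop where
  comm : ∀ a ∈ A, ∀ b ∈ A, a * b = b * a
  ne_bot : A ≠ ⊥
  cent : ∀ a ∈ A, a ≠ 1 → Subgroup.centralizer ({a} : Set G) = A

theorem IsCCT.mem_normalizer {A : Subgroup G} (hA : IsCCT A) {a x : G} (ha : a ∈ A) (ha1 : a ≠ 1)
    (h : x⁻¹ * a * x ∈ A) : x ∈ Subgroup.normalizer (A : Set G) := by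
  have h1 : x⁻¹ * a * x ≠ 1 := fun e => ha1 (by
    calc a = x * (x⁻¹ * a * x) * x⁻¹ := by group
      _ = 1 := by rw [e]; group)
  rw [Subgroup.mem_normalizer_iff]
  intro y
  have e1 : ∀ u : G, u ∈ A ↔ u * a = a * u := fun u => by
    rw [← Subgroup.mem_centralizer_singleton_iff, hA.cent a ha ha1]
  have e2 : ∀ u : G, u ∈ A ↔ u * (x⁻¹ * a * x) = x⁻¹ * a * x * u := fun u => by
    rw [← Subgroup.mem_centralizer_singleton_iff, hA.cent _ h h1]
  rw [e2 y, e1 (x * y * x⁻¹)]
  constructor
  · intro hy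
    calc x * y * x⁻¹ * a = x * (y * (x⁻¹ * a * x)) * x⁻¹ := by group
      _ = x * (x⁻¹ * a * x * y) * x⁻¹ := by rw [hy]
      _ = _ := by group
  · intro hy
    calc y * (x⁻¹ * a * x) = x⁻¹ * (x * y * x⁻¹ * a) * x := by group
      _ = x⁻¹ * (a * (x * y * x⁻¹)) * x := by rw [hy]
      _ = _ := by group

variable {A : Subgroup G}

/-- The function `1 - λ` on `A`, induced to `G`. -/
noncomputable def phi (A : Subgroup G) (l : A →* ℂˣ) : G → ℂ :=
  indFun A (fun a => 1 - (l a : ℂ))

/-- The conjugate of a linear character by an element of the normaliser. -/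
noncomputable def conjLin (l : A →* ℂˣ) (x : Subgroup.normalizer (A : Set G)) : A →* ℂˣ :=
  l.comp (conjHom (x : G) x.2)

theorem conjLin_apply (l : A →* ℂˣ) (x : Subgroup.normalizer (A : Set G)) (a : A) :
    conjLin l x a = l (conjHom (x : G) x.2 a) := rfl

theorem conjLin_mul (l : A →* ℂˣ) (x y : Subgroup.normalizer (A : Set G)) :
    conjLin (conjLin l x) y = conjLin l (x * y) := by
  refine MonoidHom.ext fun a => ?_
  rw [conjLin_apply, conjLin_apply, conjLin_apply]
  congr 1
  refine Subtype.ext ?_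
  simp only [conjHom_coe, Subgroup.coe_mul]
  group

theorem conjLin_one (l : A →* ℂˣ) : conjLin l 1 = l := by
  refine MonoidHom.ext fun a => ?_
  rw [conjLin_apply]
  congr 1
  refine Subtype.ext ?_
  simp [conjHom_coe]

theorem conjLin_mem (hA : IsCCT A) (l : A →* ℂˣ) (x : Subgroup.normalizer (A : Set G))
    (hx : (x : G) ∈ A) : conjLin l x = l := by
  refine MonoidHom.ext fun a => ?_
  rw [conjLin_apply]
  congr 1
  refine Subtype.ext ?_
  rw [conjHom_coe, hA.comm x hx a a.2, mul_inv_cancel_right]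

theorem conjLin_fixed (hA : IsCCT A) (l : A →* ℂˣ) (hl : l ≠ 1)
    (x : Subgroup.normalizer (A : Set G)) (h : conjLin l x = l) : (x : G) ∈ A := by
  by_contra hx
  let d : A →* A := MonoidHom.mk' (fun a => a⁻¹ * conjHom (x : G) x.2 a) (fun a b => by
    haveI : IsMulCommutative A := ⟨⟨fun u v => Subtype.ext (hA.comm u u.2 v v.2)⟩⟩
    rw [map_mul, mul_inv_rev, mul_comm' b⁻¹ a⁻¹]
    simp only [mul_assoc]
    rw [← mul_assoc b⁻¹, mul_comm' b⁻¹, mul_assoc])
  have hd : Function.Injective d := by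
    rw [injective_iff_map_eq_one]
    intro a ha
    by_contra ha1
    have ha' : conjHom (x : G) x.2 a = a := (inv_mul_eq_one.1 ha).symm
    have h2 : (x : G) * a = a * x := by
      have := congrArg Subtype.val ha'
      rwa [conjHom_coe, mul_inv_eq_iff_eq_mul] at this
    exact hx ((hA.cent a a.2 (fun e => ha1 (Subtype.ext e))).le
      (Subgroup.mem_centralizer_singleton_iff.2 h2))
  refine hl (MonoidHom.ext fun b => ?_)
  obtain ⟨a, rfl⟩ := Finite.surjective_of_injective hd b
  show l (a⁻¹ * conjHom (x : G) x.2 a) = 1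
  rw [map_mul, ← conjLin_apply, h, ← map_mul, inv_mul_cancel, map_one]

theorem phi_conjLin (l : A →* ℂˣ) (x : Subgroup.normalizer (A : Set G)) :
    phi A (conjLin l x) = phi A l := by
  funext g
  simp only [phi, indFun]
  congr 1
  refine Fintype.sum_equiv (Equiv.mulRight (x : G)⁻¹) _ _ fun y => ?_
  simp only [Equiv.coe_mulRight]
  have e : (y * (x : G)⁻¹)⁻¹ * g * (y * (x : G)⁻¹) = (x : G) * (y⁻¹ * g * y) * (x : G)⁻¹ := by group
  rw [e]
  by_cases h : y⁻¹ * g * y ∈ A
  · rw [extendByZero_mem A _ h, extendByZero_mem A _ (((Subgroup.mem_normalizer_iff.1 x.2) _).1 h)]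
    rfl
  · rw [extendByZero_not_mem A _ h,
      extendByZero_not_mem A _ (fun h' => h (((Subgroup.mem_normalizer_iff.1 x.2) _).2 h'))]

theorem phi_apply_one (l : A →* ℂˣ) : phi A l 1 = 0 := by
  rw [phi, indFun_one, map_one]; simp

theorem phi_support (l : A →* ℂˣ) {g : G} (h : phi A l g ≠ 0) :
    g ≠ 1 ∧ ∃ x : G, x⁻¹ * g * x ∈ A := by
  refine ⟨fun e => h (e ▸ phi_apply_one l), ?_⟩
  by_contra hno
  push Not at hno
  refine h ?_
  rw [phi, indFun, Finset.sum_eq_zero fun x _ => extendByZero_not_mem A _ (hno x), mul_zero]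

theorem phi_gen (l : A →* ℂˣ) : IsGeneralizedCharacter G (phi A l) := by
  refine ⟨indFun A (fun _ => 1), indFun A (fun a => (l a : ℂ)),
    isCharacter_indFun A (irr_isCharacter isIrrCharacter_one),
    isCharacter_indFun A (isCharacter_linear l), ?_⟩
  rw [← indFun_sub]
  rfl

theorem linear_orth [Fintype A] (l m : A →* ℂˣ) :
    classInner (fun a : A => (l a : ℂ)) (fun a => (m a : ℂ)) = (dd l m : ℂ) := by
  by_cases h : l = m
  · rw [h, dd_self, irr_self (isIrrCharacter_linear m), Int.cast_one]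
  · rw [dd_ne h, Int.cast_zero]
    have h' : (⟨_, isIrrCharacter_linear l⟩ : IrrCharacter A) ≠ ⟨_, isIrrCharacter_linear m⟩ := fun e =>
      h (MonoidHom.ext fun a => Units.ext (congrFun (congrArg Subtype.val e) a))
    have := irrC_orth (⟨_, isIrrCharacter_linear l⟩ : IrrCharacter A) ⟨_, isIrrCharacter_linear m⟩
    rwa [if_neg h'] at this

theorem phi_inner' (l m : A →* ℂˣ) (hl : l ≠ 1) (hm : m ≠ 1)
    (hnorm : ∀ a : A, l a ≠ 1 → ∀ g : G, g⁻¹ * (a : G) * g ∈ A → g ∈ Subgroup.normalizer (A : Set G)) :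
    classInner (phi A l) (phi A m) = ((A.relIndex (Subgroup.normalizer (A : Set G)) : ℕ) : ℂ) +
      (Nat.card {x : Subgroup.normalizer (A : Set G) // l = conjLin m x} : ℂ) / (Nat.card A : ℂ) := by
  classical
  haveI := Fintype.ofFinite A
  set N := Subgroup.normalizer (A : Set G) with hN
  haveI := Fintype.ofFinite N
  have hval : ∀ (a : A) (x : N) (hmem : (x : G)⁻¹ * (a : G) * x ∈ A),
      conjLin m x⁻¹ a = m ⟨_, hmem⟩ := by
    intro a x hmem
    rw [conjLin_apply]
    exact congrArg m (Subtype.ext (by simp [conjHom_coe]))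
  have hres : ∀ a : A, l a ≠ 1 → phi A m a =
      (Nat.card A : ℂ)⁻¹ * ∑ x : N, (1 - ((conjLin m x⁻¹) a : ℂ)) := by
    intro a ha
    simp only [phi, indFun]
    congr 1
    symm
    refine Finset.sum_bij_ne_zero (fun x _ _ => (x : G)) (fun x _ _ => Finset.mem_univ _)
      (fun x _ _ y _ _ h => Subtype.ext h) ?_ ?_
    · intro g _ hg
      have hmem : g⁻¹ * (a : G) * g ∈ A := by
        by_contra hno
        exact hg (extendByZero_not_mem A _ hno)
      refine ⟨⟨g, hnorm a ha g hmem⟩, Finset.mem_univ _, ?_, rfl⟩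
      rw [extendByZero_mem A _ hmem] at hg
      rwa [hval a _ hmem]
    · intro x _ _
      have hmem : (x : G)⁻¹ * (a : G) * x ∈ A := by
        have := ((Subgroup.mem_normalizer_iff.1 (x⁻¹).2) (a : G)).1 a.2
        simpa using this
      rw [extendByZero_mem A _ hmem, hval a x hmem]
  have h1 : classInner (phi A l) (phi A m) =
      classInner (fun a : A => 1 - (l a : ℂ)) (fun a : A => phi A m a) :=
    frobenius A _ (isClassFunction_indFun _ _)
  have h2 : classInner (fun a : A => 1 - (l a : ℂ)) (fun a : A => phi A m a) =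
      classInner (fun a : A => 1 - (l a : ℂ))
        (fun a : A => (Nat.card A : ℂ)⁻¹ * ∑ x : N, (1 - ((conjLin m x⁻¹) a : ℂ))) := by
    simp only [classInner]
    congr 1
    refine Finset.sum_congr rfl fun a _ => ?_
    by_cases ha : l a = 1
    · simp [ha]
    · rw [hres a ha]
  have h3 : ∀ x : N, classInner (fun a : A => 1 - (l a : ℂ)) (fun a : A => 1 - ((conjLin m x) a : ℂ)) =
      1 + (dd l (conjLin m x) : ℂ) := by
    intro x
    have hx1 : conjLin m x ≠ 1 := by
      intro e
      refine hm ?_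
      have : conjLin (conjLin m x) x⁻¹ = conjLin (1 : A →* ℂˣ) x⁻¹ := by rw [e]
      rw [conjLin_mul, mul_inv_cancel, conjLin_one] at this
      rw [this]
      exact MonoidHom.ext fun a => rfl
    have eo : ∀ k : A →* ℂˣ, (fun a : A => 1 - (k a : ℂ)) =
        (fun a : A => ((1 : A →* ℂˣ) a : ℂ)) - fun a : A => (k a : ℂ) := fun k => by
      funext a; simp
    rw [eo, eo, classInner_sub_left, classInner_sub_right, classInner_sub_right, linear_orth,
      linear_orth, linear_orth, linear_orth, dd_self, dd_ne (Ne.symm hx1), dd_ne hl]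
    push_cast
    ring
  rw [h1, h2, show (fun a : A => (Nat.card A : ℂ)⁻¹ * ∑ x : N, (1 - ((conjLin m x⁻¹) a : ℂ))) =
      (Nat.card A : ℂ)⁻¹ • ∑ x : N, (fun a : A => 1 - ((conjLin m x⁻¹) a : ℂ)) from by
    funext a; simp [Finset.sum_apply], classInner_smul_right, classInner_sum_right]
  rw [map_inv₀, Complex.conj_natCast]
  rw [Fintype.sum_equiv (Equiv.inv N) (fun x => classInner (fun a : A => 1 - (l a : ℂ))
    (fun a : A => 1 - ((conjLin m x⁻¹) a : ℂ))) (fun x => 1 + (dd l (conjLin m x) : ℂ))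
    (fun x => h3 x⁻¹)]
  rw [Finset.sum_add_distrib, mul_add, div_eq_inv_mul]
  congr 1
  · rw [Finset.sum_const, Finset.card_univ, nsmul_eq_mul, mul_one, ← Nat.card_eq_fintype_card]
    have hAN : A ≤ N := Subgroup.le_normalizer
    have hmul : (Nat.card N : ℂ) = (Nat.card A : ℂ) * (A.relIndex N : ℂ) := by
      rw [← Nat.cast_mul, Subgroup.relIndex, ← (A.subgroupOf N).card_mul_index,
        Nat.card_congr (Subgroup.subgroupOfEquivOfLe hAN).toEquiv]
    rw [hmul, ← mul_assoc, inv_mul_cancel₀ (Nat.cast_ne_zero.2 Nat.card_pos.ne'), one_mul]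
  · congr 1
    rw [Nat.card_eq_fintype_card, Fintype.card_subtype, ← Finset.sum_boole]
    refine Finset.sum_congr rfl fun x _ => ?_
    by_cases h : l = conjLin m x
    · rw [if_pos h, ← h, dd_self, Int.cast_one]
    · rw [if_neg h, dd_ne h, Int.cast_zero]

theorem phi_inner (hA : IsCCT A) (l m : A →* ℂˣ) (hl : l ≠ 1) (hm : m ≠ 1) :
    classInner (phi A l) (phi A m) = ((A.relIndex (Subgroup.normalizer (A : Set G)) : ℕ) : ℂ) +
      (Nat.card {x : Subgroup.normalizer (A : Set G) // l = conjLin m x} : ℂ) / (Nat.card A : ℂ) :=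
  phi_inner' l m hl hm fun a ha g hg =>
    hA.mem_normalizer a.2 (fun e => ha (by rw [show a = 1 from Subtype.ext e, map_one])) hg

theorem phi_one (l : A →* ℂˣ) (hl : l ≠ 1) :
    classInner (phi A l) (fun _ : G => (1 : ℂ)) = 1 := by
  haveI := Fintype.ofFinite A
  rw [phi, frobenius A _ (fun _ _ => rfl)]
  rw [show (fun a : A => 1 - (l a : ℂ)) = (fun a : A => ((1 : A →* ℂˣ) a : ℂ)) - fun a : A => (l a : ℂ) from
    funext fun a => by simp, show (fun _ : A => (1 : ℂ)) = fun a : A => ((1 : A →* ℂˣ) a : ℂ) from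
    funext fun a => by simp, classInner_sub_left, linear_orth, linear_orth, dd_self, dd_ne hl]
  simp

/-- The sum of `|Y|²` over the non-identity elements of `A`. -/
noncomputable def punctured (A : Subgroup G) (F : G → ℝ) : ℝ := by
  classical exact ∑ g : G, if g ∈ A ∧ g ≠ 1 then F g else 0

/-- The data of the family of exceptional characters of `A`. -/
structure Family (A : Subgroup G) where
  w : ℕ
  eps : ℤ
  mu : Fin w → IrrCharacter G
  r : IrrCharacter G → ℤ
  Phi : Fin w → G → ℂ
  heps : eps = 1 ∨ eps = -1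
  two_le : 2 ≤ w
  mu_inj : Function.Injective mu
  card_eq : Nat.card A = w * A.relIndex (Subgroup.normalizer (A : Set G)) + 1
  expand : ∀ i, Phi i = ∑ Y, ((r Y - eps * dd Y (mu i) : ℤ) : ℂ) • (Y : G → ℂ)
  support : ∀ i g, Phi i g ≠ 0 → g ≠ 1 ∧ ∃ x : G, x⁻¹ * g * x ∈ A
  r_one : r oneChar = 1
  mu_ne_one : ∀ i, mu i ≠ oneChar
  r_conj : ∀ Y, r (irrConj Y) = r Y
  norm_eq : ∀ i, ∑ Y, (r Y - eps * dd Y (mu i)) ^ 2 =
    (A.relIndex (Subgroup.normalizer (A : Set G)) : ℤ) + 1
  own : ∀ i, ∃ k, r (mu k) - eps * dd (mu k) (mu i) ≠ 0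
  bound_out : ∀ Y, Y ∉ Set.range mu → r Y ≠ 0 →
    (Nat.card A : ℝ) - 1 ≤ punctured A (fun g => Complex.normSq ((Y : G → ℂ) g))
  bound_own : ∀ i, (Nat.card A : ℝ) * A.relIndex (Subgroup.normalizer (A : Set G)) -
      (A.relIndex (Subgroup.normalizer (A : Set G)) : ℝ) ^ 2 ≤
    punctured A (fun g => Complex.normSq ((mu i : G → ℂ) g))

theorem family_exists (hA : IsCCT A) (hodd : Odd (Nat.card G)) : Nonempty (Family A) := by
  classical
  haveI := Fintype.ofFinite A
  set N := Subgroup.normalizer (A : Set G) with hN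
  haveI := Fintype.ofFinite N
  have hAN : A ≤ N := Subgroup.le_normalizer
  set e := A.relIndex N with he
  have hNcard : Nat.card N = e * Nat.card A := by
    rw [he, Subgroup.relIndex, mul_comm, ← Nat.card_congr (Subgroup.subgroupOfEquivOfLe hAN).toEquiv,
      Subgroup.card_mul_index]
  have haodd : Odd (Nat.card A) := hodd.of_dvd_nat A.card_subgroup_dvd_card
  haveI : IsMulCommutative A := ⟨⟨fun a b => Subtype.ext (hA.comm a a.2 b b.2)⟩⟩
  have hLcard : Nat.card (A →* ℂˣ) = Nat.card A := by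
    rw [card_hom_units, (commutator_eq_bot_iff A).2 inferInstance, Subgroup.index_bot]
  haveI hLfin : Finite (A →* ℂˣ) := Nat.finite_of_card_ne_zero (hLcard ▸ Nat.card_pos.ne')
  haveI := Fintype.ofFinite (A →* ℂˣ)
  let L1 := {l : A →* ℂˣ // l ≠ 1}
  letI setd : Setoid L1 :=
    { r := fun l m => ∃ x : N, l.1 = conjLin m.1 x
      iseqv :=
        { refl := fun l => ⟨1, (conjLin_one _).symm⟩
          symm := fun {l m} ⟨x, hx⟩ => ⟨x⁻¹, by rw [hx, conjLin_mul, mul_inv_cancel, conjLin_one]⟩
          trans := fun {l m k} ⟨x, hx⟩ ⟨y, hy⟩ => ⟨y * x, by rw [hx, hy, conjLin_mul]⟩ } }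
  let cls : L1 → Quotient setd := fun l => Quotient.mk setd l
  -- the fixed-point-free action
  have hfib : ∀ l m : L1, Nat.card {x : N // l.1 = conjLin m.1 x} =
      if cls l = cls m then Nat.card A else 0 := by
    intro l m
    split_ifs with h
    · obtain ⟨x0, hx0⟩ := (Quotient.exact h : ∃ x : N, l.1 = conjLin m.1 x)
      rw [← Nat.card_congr (Subgroup.subgroupOfEquivOfLe hAN).toEquiv]
      refine Nat.card_congr
        { toFun := fun x => ⟨x.1 * x0⁻¹, ?_⟩
          invFun := fun u => ⟨u.1 * x0, ?_⟩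
          left_inv := fun x => by simp
          right_inv := fun u => by simp }
      · refine Subgroup.mem_subgroupOf.2 (conjLin_fixed hA m.1 m.2 _ ?_)
        rw [← conjLin_mul, ← x.2, hx0, conjLin_mul, mul_inv_cancel, conjLin_one]
      · rw [← conjLin_mul, conjLin_mem hA m.1 u.1 u.2, ← hx0]
    · rw [Nat.card_eq_zero]
      exact Or.inl ⟨fun x => h (Quotient.sound ⟨x.1, x.2⟩)⟩
  have hclass : ∀ q, Nat.card {l : L1 // cls l = q} = e := by
    intro q
    obtain ⟨m, rfl⟩ := Quotient.exists_rep q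
    let f : N → {l : L1 // cls l = cls m} := fun x => ⟨⟨conjLin m.1 x, by
      intro h1
      refine m.2 ?_
      have : conjLin (conjLin m.1 x) x⁻¹ = conjLin (1 : A →* ℂˣ) x⁻¹ := by rw [h1]
      rw [conjLin_mul, mul_inv_cancel, conjLin_one] at this
      rw [this]
      exact MonoidHom.ext fun a => rfl⟩, Quotient.sound ⟨x, rfl⟩⟩
    have := Solv.card_eq_mul_of_fibres f (k := Nat.card A) (by
      rintro ⟨l, hl⟩
      refine (Nat.card_congr (Equiv.subtypeEquivRight fun x => ?_)).trans ((hfib l m).trans (if_pos hl))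
      rw [Subtype.ext_iff, Subtype.ext_iff]
      exact eq_comm)
    rw [hNcard] at this
    exact (Nat.eq_of_mul_eq_mul_right Nat.card_pos this).symm
  haveI : Finite (Quotient setd) := Quotient.finite _
  haveI := Fintype.ofFinite (Quotient setd)
  set w := Nat.card (Quotient setd) with hw
  have hL1 : Nat.card L1 = w * e := Solv.card_eq_mul_of_fibres cls hclass
  have hcardA : Nat.card A = w * e + 1 := by
    rw [← hL1, ← hLcard, Nat.card_eq_fintype_card, Nat.card_eq_fintype_card, Fintype.card_subtype_compl,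
      Fintype.card_subtype_eq]
    have : 0 < Fintype.card (A →* ℂˣ) := Fintype.card_pos
    omega
  -- no class is self-inverse
  have hinv1 : ∀ l : L1, (l.1)⁻¹ ≠ 1 := fun l h => l.2 (MonoidHom.ext fun a => by
    have := DFunLike.congr_fun h a
    rw [MonoidHom.inv_apply, MonoidHom.one_apply, inv_eq_one] at this
    exact this)
  have hbar : ∀ l : L1, cls ⟨(l.1)⁻¹, hinv1 l⟩ ≠ cls l := by
    intro l h
    obtain ⟨x, hx⟩ := (Quotient.exact h : ∃ x : N, (l.1)⁻¹ = conjLin l.1 x)
    have h2 : conjLin l.1 (x * x) = l.1 := by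
      refine MonoidHom.ext fun a => ?_
      rw [← conjLin_mul, ← hx, conjLin_apply, MonoidHom.inv_apply, ← conjLin_apply, ← hx,
        MonoidHom.inv_apply, inv_inv]
    have h3 : (x : G) ∈ A := by
      have hm : ((x : G) * x) ∈ A := conjLin_fixed hA l.1 l.2 _ h2
      obtain ⟨k, hk⟩ := hodd.of_dvd_nat (orderOf_dvd_natCard (x : G))
      have : ((x : G) * x) ^ (k + 1) = x := by
        rw [← pow_two, ← pow_mul, show 2 * (k + 1) = orderOf (x : G) + 1 by omega, pow_succ,
          pow_orderOf_eq_one, one_mul]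
      rw [← this]
      exact A.pow_mem hm _
    rw [conjLin_mem hA l.1 x h3] at hx
    refine l.2 (MonoidHom.ext fun a => ?_)
    have h4 : l.1 a * l.1 a = 1 := by
      have := congrArg (fun f : A →* ℂˣ => f a) hx
      simp only [MonoidHom.inv_apply] at this
      exact eq_inv_iff_mul_eq_one.1 this.symm
    obtain ⟨k, hk⟩ := haodd.of_dvd_nat (orderOf_dvd_natCard a)
    have h5 : a = (a * a) ^ (k + 1) := by
      rw [← pow_two, ← pow_mul, show 2 * (k + 1) = orderOf a + 1 by omega, pow_succ, pow_orderOf_eq_one,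
        one_mul]
    rw [h5, map_pow, map_mul, h4, one_pow]
    rfl
  have hw2 : 2 ≤ w := by
    obtain ⟨l, hl⟩ : ∃ l : A →* ℂˣ, l ≠ 1 := by
      by_contra hno
      push Not at hno
      have : Subsingleton (A →* ℂˣ) := ⟨fun a b => (hno a).trans (hno b).symm⟩
      have h1 : Nat.card A ≤ 1 := hLcard ▸ Finite.card_le_one_iff_subsingleton.2 this
      exact hA.ne_bot ((Subgroup.card_le_one_iff_eq_bot A).1 h1)
    have := Finite.one_lt_card_iff_nontrivial.2 ⟨_, _, hbar ⟨l, hl⟩⟩
    omega
  -- representatives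
  let E : Quotient setd ≃ Fin w := Finite.equivFin _
  let idx : L1 → Fin w := fun l => E (cls l)
  let rep : Fin w → L1 := fun i => (E.symm i).out
  have hrep : ∀ i, idx (rep i) = i := fun i => by
    show E (Quotient.mk setd (E.symm i).out) = i
    rw [Quotient.out_eq, E.apply_symm_apply]
  have hphi : ∀ l : L1, phi A l.1 = phi A (rep (idx l)).1 := by
    intro l
    have h : cls l = cls (rep (idx l)) := E.injective (hrep (idx l)).symm
    obtain ⟨x, hx⟩ := (Quotient.exact h : ∃ x : N, l.1 = conjLin (rep (idx l)).1 x)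
    rw [hx, phi_conjLin]
  let Φ : Fin w → G → ℂ := fun i => phi A (rep i).1
  have hinner : ∀ i k, classInner (Φ i) (Φ k) = (e : ℂ) + if i = k then 1 else 0 := by
    intro i k
    rw [phi_inner hA _ _ (rep i).2 (rep k).2, hfib]
    congr 1
    have : cls (rep i) = cls (rep k) ↔ i = k :=
      ⟨fun h => by rw [← hrep i, ← hrep k]; exact congrArg E h, fun h => by rw [h]⟩
    simp only [this]
    split_ifs
    · rw [div_self (Nat.cast_ne_zero.2 Nat.card_pos.ne')]
    · simp
  let i₀ : Fin w := ⟨0, by omega⟩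
  obtain ⟨εc, hεc, μc, hμirr, hμinj, hτ⟩ := exists_exceptional (G := G) w i₀ (fun i => Φ i₀ - Φ i)
    (sub_self _) (fun i => by
      refine ⟨indFun A (fun a => ((rep i).1 a : ℂ)), indFun A (fun a => ((rep i₀).1 a : ℂ)),
        isCharacter_indFun A (isCharacter_linear _), isCharacter_indFun A (isCharacter_linear _), ?_⟩
      show indFun A _ - indFun A _ = _
      rw [← indFun_sub, ← indFun_sub]
      congr 1
      funext a
      simp) (fun i => by simp [Φ, phi_apply_one]) (fun i k hi hk => by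
      rw [classInner_sub_left, classInner_sub_right, classInner_sub_right, hinner, hinner, hinner,
        hinner, if_pos rfl, if_neg (Ne.symm hk), if_neg hi]
      split_ifs <;> ring)
  obtain ⟨ε, hε, rfl⟩ : ∃ ε : ℤ, (ε = 1 ∨ ε = -1) ∧ (ε : ℂ) = εc := by
    rcases hεc with h | h
    · exact ⟨1, Or.inl rfl, by rw [h]; simp⟩
    · exact ⟨-1, Or.inr rfl, by rw [h]; simp⟩
  have hεsq : ε * ε = 1 := by rcases hε with h | h <;> simp [h]
  let μ : Fin w → IrrCharacter G := fun i => ⟨μc i, hμirr i⟩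
  have hμinj' : Function.Injective μ := fun i k h => hμinj (congrArg Subtype.val h)
  obtain ⟨z₀, hz₀, hz₀c⟩ := exists_int_coords (phi_gen (rep i₀).1)
  let r : IrrCharacter G → ℤ := fun Y => z₀ Y + ε * dd Y (μ i₀)
  have hdd : ∀ (Y Z : IrrCharacter G), classInner (Z : G → ℂ) (Y : G → ℂ) = (dd Y Z : ℂ) := by
    intro Y Z
    rw [irrC_orth]
    by_cases h : Z = Y
    · rw [if_pos h, h, dd_self, Int.cast_one]
    · rw [if_neg h, dd_ne (Ne.symm h), Int.cast_zero]
  have hcoef : ∀ i (Y : IrrCharacter G), classInner (Φ i) (Y : G → ℂ) = ((r Y - ε * dd Y (μ i) : ℤ) : ℂ) := by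
    intro i Y
    have h1 : Φ i = Φ i₀ - (ε : ℂ) • ((μ i : G → ℂ) - (μ i₀ : G → ℂ)) := by
      rw [← hτ i]; abel
    rw [h1, classInner_sub_left, classInner_smul_left, classInner_sub_left, hz₀c, hdd, hdd]
    simp only [r]
    push_cast
    ring
  have hexp : ∀ i, Φ i = ∑ Y, ((r Y - ε * dd Y (μ i) : ℤ) : ℂ) • (Y : G → ℂ) := by
    intro i
    obtain ⟨z, hz, hzc⟩ := exists_int_coords (phi_gen (rep i).1)
    rw [show Φ i = _ from hz]
    refine Finset.sum_congr rfl fun Y _ => ?_
    rw [← hcoef i Y, hzc]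
  have hne1 : ∀ i, μ i ≠ oneChar := by
    intro i hi
    obtain ⟨k, hk⟩ : ∃ k, k ≠ i := ⟨if i = i₀ then ⟨1, by omega⟩ else i₀, by
      by_cases h : i = i₀
      · rw [if_pos h, h]; intro h'; simpa [i₀] using congrArg Fin.val h'
      · rw [if_neg h]; exact Ne.symm h⟩
    have h1 := hcoef i oneChar
    have h2 := hcoef k oneChar
    rw [show ((oneChar : IrrCharacter G) : G → ℂ) = fun _ => 1 from rfl, phi_one _ (rep _).2, hi] at h1
    rw [show ((oneChar : IrrCharacter G) : G → ℂ) = fun _ => 1 from rfl, phi_one _ (rep _).2,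
      dd_ne (fun h => hk (hμinj' (h.symm.trans hi.symm)))] at h2
    rw [dd_self] at h1
    have h1' : (1 : ℤ) = r oneChar - ε * 1 := by exact_mod_cast h1
    have h2' : (1 : ℤ) = r oneChar - ε * 0 := by exact_mod_cast h2
    rcases hε with h | h <;> omega
  have hr1 : r oneChar = 1 := by
    have h1 := hcoef i₀ oneChar
    rw [show ((oneChar : IrrCharacter G) : G → ℂ) = fun _ => 1 from rfl, phi_one _ (rep _).2,
      dd_ne (Ne.symm (hne1 i₀)), mul_zero, sub_zero] at h1
    exact_mod_cast h1.symm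
  -- complex conjugation
  let bar : Fin w → Fin w := fun i => idx ⟨((rep i).1)⁻¹, hinv1 _⟩
  have hnorm1 : ∀ (l : A →* ℂˣ) (a : A), conj (l a : ℂ) = ((l⁻¹) a : ℂ) := by
    intro l a
    rw [MonoidHom.inv_apply, ← map_inv]
    exact (char_inv (isCharacter_linear l) a).symm
  have hbarΦ : ∀ i, (fun g => conj (Φ i g)) = Φ (bar i) := by
    intro i
    have : Φ (bar i) = phi A ((rep i).1)⁻¹ := (hphi ⟨((rep i).1)⁻¹, hinv1 _⟩).symm
    rw [this]
    funext g
    simp only [Φ, phi, indFun, map_mul, map_inv₀, Complex.conj_natCast, map_sum]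
    congr 1
    refine Finset.sum_congr rfl fun x _ => ?_
    by_cases h : x⁻¹ * g * x ∈ A
    · rw [extendByZero_mem A _ h, extendByZero_mem A _ h, map_sub, map_one, hnorm1]
    · rw [extendByZero_not_mem A _ h, extendByZero_not_mem A _ h, map_zero]
  have hrconj : ∀ Y, r (irrConj Y) = r Y := by
    intro Y
    have key : ∀ i, r (irrConj Y) - r Y = ε * (dd (irrConj Y) (μ i) - dd Y (μ (bar i))) := by
      intro i
      have h1 : classInner (Φ (bar i)) (Y : G → ℂ) = conj (classInner (Φ i) (irrConj Y : G → ℂ)) := by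
        rw [← hbarΦ i]
        simp only [classInner, irrConj_apply, map_mul, map_inv₀, Complex.conj_natCast, map_sum,
          Complex.conj_conj]
      rw [hcoef, hcoef, map_intCast] at h1
      have h2 : r Y - ε * dd Y (μ (bar i)) = r (irrConj Y) - ε * dd (irrConj Y) (μ i) := by
        exact_mod_cast h1
      linear_combination -h2
    by_contra hne
    have hd0 : r (irrConj Y) - r Y ≠ 0 := sub_ne_zero.2 hne
    have hb : ∀ i, irrConj Y = μ i ∨ Y = μ (bar i) := by
      intro i
      by_contra hh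
      push Not at hh
      rw [key i, dd_ne hh.1, dd_ne hh.2, sub_self, mul_zero] at hd0
      exact hd0 rfl
    have hbarne : ∀ i, bar i ≠ i := fun i h =>
      hbar (rep i) (E.injective (h.trans (hrep i).symm))
    have hbarinv : ∀ i, bar (bar i) = i := by
      intro i
      have hc : cls (rep (bar i)) = cls ⟨((rep i).1)⁻¹, hinv1 _⟩ := E.injective (hrep (bar i))
      obtain ⟨x, hx⟩ := (Quotient.exact hc : ∃ x : N, (rep (bar i)).1 = conjLin ((rep i).1)⁻¹ x)
      refine Eq.trans (congrArg E (Quotient.sound ?_)) (hrep i)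
      refine ⟨x, ?_⟩
      show ((rep (bar i)).1)⁻¹ = conjLin (rep i).1 x
      rw [hx]
      refine MonoidHom.ext fun a => ?_
      rw [MonoidHom.inv_apply, conjLin_apply, conjLin_apply, MonoidHom.inv_apply, inv_inv]
    rcases hb i₀ with h1 | h1
    · rcases hb (bar i₀) with h2 | h2
      · exact hbarne i₀ (hμinj' (h2.symm.trans h1))
      · rw [hbarinv] at h2
        have := key i₀
        rw [← h1, dd_self, dd_ne (fun h => hbarne i₀ (hμinj' (h2.symm.trans h)).symm)] at this
        have h' := key (bar i₀)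
        rw [hbarinv, ← h2, dd_self, dd_ne (fun h => hbarne i₀ (hμinj' (h.symm.trans h1)))] at h'
        rcases hε with h | h <;> rw [h] at this h' <;> omega
    · rcases hb (bar i₀) with h2 | h2
      · have := key i₀
        rw [← h1, dd_self, dd_ne (fun h => hbarne i₀ (hμinj' (h2.symm.trans h)))] at this
        have h' := key (bar i₀)
        rw [hbarinv, ← h2, dd_self, dd_ne (fun h => hbarne i₀ (hμinj' (h1.symm.trans h)))] at h'
        rcases hε with h | h <;> rw [h] at this h' <;> omega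
      · rw [hbarinv] at h2
        exact hbarne i₀ (hμinj' (h1.symm.trans h2))
  have hnorm : ∀ i, ∑ Y, (r Y - ε * dd Y (μ i)) ^ 2 = (e : ℤ) + 1 := by
    intro i
    have h1 := classInner_int_combination (hexp i)
    rw [hinner, if_pos rfl] at h1
    have h2 : ((e : ℤ) + 1) = ∑ Y, (r Y - ε * dd Y (μ i)) * (r Y - ε * dd Y (μ i)) := by
      exact_mod_cast h1
    rw [h2]
    exact Finset.sum_congr rfl fun Y _ => by ring
  have hown : ∀ i, ∃ k, r (μ k) - ε * dd (μ k) (μ i) ≠ 0 := by
    intro i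
    obtain ⟨k, hk⟩ : ∃ k, k ≠ i := ⟨if i = i₀ then ⟨1, by omega⟩ else i₀, by
      by_cases h : i = i₀
      · rw [if_pos h, h]; intro h'; simpa [i₀] using congrArg Fin.val h'
      · rw [if_neg h]; exact Ne.symm h⟩
    by_contra hno
    push Not at hno
    have h1 : classInner (Φ i) (Φ i - Φ k) = 1 := by
      rw [classInner_sub_right, hinner, hinner, if_pos rfl, if_neg (Ne.symm hk)]; ring
    have h2 : Φ i - Φ k = (ε : ℂ) • ((μ k : G → ℂ) - (μ i : G → ℂ)) := by
      have ei : Φ i = Φ i₀ - (ε : ℂ) • ((μ i : G → ℂ) - (μ i₀ : G → ℂ)) := by rw [← hτ i]; abel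
      have ek : Φ k = Φ i₀ - (ε : ℂ) • ((μ k : G → ℂ) - (μ i₀ : G → ℂ)) := by rw [← hτ k]; abel
      rw [ei, ek, smul_sub, smul_sub, smul_sub]; abel
    rw [h2, classInner_smul_right, classInner_sub_right, hcoef, hcoef, hno k, hno i] at h1
    simp at h1
  -- restrictions to `A`
  have hrest : ∀ Y : IrrCharacter G, ∃ m : (A →* ℂˣ) → ℤ,
      punctured A (fun g => Complex.normSq ((Y : G → ℂ) g)) =
        ((Nat.card A : ℤ) * ∑ l, m l ^ 2 - (∑ l, m l) ^ 2 : ℤ) ∧
      ∀ l : L1, m l.1 = m 1 - r Y + ε * dd Y (μ (idx l)) := by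
    intro Y
    let f : A → ℂ := fun a => (Y : G → ℂ) a
    have hf : IsCharacter A f := isCharacter_comp A.subtype (irr_isCharacter Y.2)
    have hm : ∀ l : A →* ℂˣ, ∃ z : ℤ, classInner f (fun a => (l a : ℂ)) = z := fun l => by
      obtain ⟨n, hn⟩ := classInner_natCast hf (isCharacter_linear l)
      exact ⟨n, by rw [hn]; simp⟩
    choose m hm using hm
    refine ⟨m, ?_, fun l => ?_⟩
    · have hall : ∀ χ : IrrCharacter A, (χ : A → ℂ) 1 = 1 :=
        forall_linear_iff_comm.1 (fun a b => Subtype.ext (hA.comm a a.2 b b.2))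
      have hexpf : f = ∑ l : A →* ℂˣ, ((m l : ℂ) • fun a => (l a : ℂ)) := by
        rw [classFun_expansion (f := f) (isClassFunction_character hf)]
        refine (Fintype.sum_equiv (linearEquiv.trans (Equiv.subtypeUnivEquiv hall)) _ _ fun l => ?_).symm
        show (m l : ℂ) • (fun a => (l a : ℂ)) = _
        rw [← hm l]
        rfl
      have hff : classInner f f = ((∑ l, m l ^ 2 : ℤ) : ℂ) := by
        nth_rewrite 2 [hexpf]
        rw [classInner_sum_right, Int.cast_sum]
        refine Finset.sum_congr rfl fun l _ => ?_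
        rw [classInner_smul_right, hm, map_intCast]
        push_cast; ring
      have hf1 : f 1 = ((∑ l, m l : ℤ) : ℂ) := by
        rw [hexpf]; simp [Finset.sum_apply]
      have hsum : ∑ a : A, (Complex.normSq (f a) : ℂ) = (((Nat.card A : ℤ) * ∑ l, m l ^ 2 : ℤ) : ℂ) := by
        rw [classInner] at hff
        rw [Int.cast_mul, ← hff, Int.cast_natCast, ← mul_assoc,
          mul_inv_cancel₀ (Nat.cast_ne_zero.2 Nat.card_pos.ne'), one_mul]
        exact Finset.sum_congr rfl fun a _ => (Complex.mul_conj _).symm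
      have hp : punctured A (fun g => Complex.normSq ((Y : G → ℂ) g)) =
          ∑ a : A, Complex.normSq (f a) - Complex.normSq (f 1) := by
        rw [punctured, ← Finset.sum_erase_eq_sub (Finset.mem_univ _), ← Finset.sum_filter]
        refine Finset.sum_bij (fun g hg => ⟨g, (Finset.mem_filter.1 hg).2.1⟩) (fun g hg => ?_)
          (fun g _ g' _ h => congrArg Subtype.val h) (fun a ha => ⟨a, ?_, rfl⟩) (fun g hg => rfl)
        · exact Finset.mem_erase.2 ⟨fun h => (Finset.mem_filter.1 hg).2.2 (congrArg Subtype.val h), Finset.mem_univ _⟩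
        · exact Finset.mem_filter.2 ⟨Finset.mem_univ _, a.2, fun h => Finset.ne_of_mem_erase ha (Subtype.ext h)⟩
      have hre : ∑ a : A, Complex.normSq (f a) = (((Nat.card A : ℤ) * ∑ l, m l ^ 2 : ℤ) : ℝ) :=
        Complex.ofReal_injective (by rw [Complex.ofReal_sum, Complex.ofReal_intCast]; exact hsum)
      rw [hp, hre, hf1, Complex.normSq_intCast]
      push_cast
      ring
    · have h1 := hcoef (idx l) Y
      rw [show Φ (idx l) = phi A l.1 from (hphi l).symm, phi,
        frobenius A _ (isClassFunction_character (irr_isCharacter Y.2))] at h1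
      rw [show (fun a : A => 1 - (l.1 a : ℂ)) = (fun a : A => ((1 : A →* ℂˣ) a : ℂ)) - fun a : A => (l.1 a : ℂ) from
        funext fun a => by simp, classInner_sub_left, ← classInner_symm f, hm, ← classInner_symm f, hm,
        map_intCast, map_intCast] at h1
      have h2 : m 1 - m l.1 = r Y - ε * dd Y (μ (idx l)) := by exact_mod_cast h1
      linear_combination -h2
  have hsplit : ∀ g : (A →* ℂˣ) → ℤ, ∑ l, g l = g 1 + ∑ l : L1, g l.1 := by
    intro g
    rw [← Finset.sum_add_sum_compl {(1 : A →* ℂˣ)} g, Finset.sum_singleton]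
    congr 1
    exact Finset.sum_subtype _ (by simp) _
  have hL1c : (Fintype.card L1 : ℤ) = (Nat.card A : ℤ) - 1 := by
    rw [← Nat.card_eq_fintype_card, hL1, hcardA]; push_cast; ring
  refine ⟨
    { w := w
      eps := ε
      mu := μ
      r := r
      Phi := Φ
      heps := hε
      two_le := hw2
      mu_inj := hμinj'
      card_eq := hcardA
      expand := hexp
      support := fun i g h => phi_support _ h
      r_one := hr1
      mu_ne_one := hne1
      r_conj := hrconj
      norm_eq := hnorm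
      own := hown
      bound_out := ?_
      bound_own := ?_ }⟩
  · intro Y hY hr
    obtain ⟨m, hm, hml⟩ := hrest Y
    have hml' : ∀ l : L1, m l.1 = m 1 - r Y := fun l => by
      rw [hml l, dd_ne (fun h => hY ⟨_, h.symm⟩)]; ring
    rw [hm, hsplit (fun l => m l ^ 2), hsplit m]
    simp only [hml', Finset.sum_const, Finset.card_univ, nsmul_eq_mul, hL1c]
    have : (Nat.card A : ℤ) - 1 ≤ (Nat.card A : ℤ) * (m 1 ^ 2 + ((Nat.card A : ℤ) - 1) * (m 1 - r Y) ^ 2) -
        (m 1 + ((Nat.card A : ℤ) - 1) * (m 1 - r Y)) ^ 2 := by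
      have h1 : (1 : ℤ) ≤ r Y ^ 2 := by rw [pow_two]; exact mul_self_pos.2 hr
      have h2 : (0 : ℤ) ≤ (Nat.card A : ℤ) - 1 := by
        have : 0 < Nat.card A := Nat.card_pos
        omega
      nlinarith
    exact_mod_cast this
  · intro i
    obtain ⟨m, hm, hml⟩ := hrest (μ i)
    have hcnt : ∑ l : L1, dd (μ i) (μ (idx l)) = (e : ℤ) := by
      rw [← hclass (E.symm i), Nat.card_eq_fintype_card, Fintype.card_subtype, ← Finset.sum_boole]
      refine Finset.sum_congr rfl fun l _ => ?_
      by_cases h : cls l = E.symm i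
      · rw [if_pos h, show idx l = i by simp only [idx, h, Equiv.apply_symm_apply], dd_self]
      · rw [if_neg h, dd_ne (fun h' => h (by rw [hμinj' h']; simp [idx]))]
    have hdd2 : ∀ l : L1, dd (μ i) (μ (idx l)) ^ 2 = dd (μ i) (μ (idx l)) := fun l => by
      by_cases h : μ i = μ (idx l)
      · rw [h, dd_self]; norm_num
      · rw [dd_ne h]; norm_num
    rw [hm, hsplit (fun l => m l ^ 2), hsplit m]
    simp only [hml, Finset.sum_add_distrib, Finset.sum_const, Finset.card_univ, nsmul_eq_mul, hL1c,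
      ← Finset.mul_sum, hcnt, add_sq, mul_pow, hdd2]
    rw [show ε ^ 2 = 1 by rw [pow_two, hεsq]]
    have key : ∀ k rr : ℤ, (Nat.card A : ℤ) * (e : ℤ) - (e : ℤ) ^ 2 ≤
        (Nat.card A : ℤ) * ((k + rr) ^ 2 + (((Nat.card A : ℤ) - 1) * k ^ 2 + 2 * k * (ε * (e : ℤ)) + (e : ℤ))) -
        (k + rr + (((Nat.card A : ℤ) - 1) * k + ε * (e : ℤ))) ^ 2 := by
      intro k rr
      have h1 : (0 : ℤ) ≤ (e : ℤ) * ((w : ℤ) * rr ^ 2 - 2 * ε * rr) := by
        refine mul_nonneg (Int.natCast_nonneg _) ?_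
        have hw' : (2 : ℤ) ≤ (w : ℤ) := by exact_mod_cast hw2
        have h2 : ε * rr ≤ rr ^ 2 := by
          rcases hε with h | h <;> rw [h] <;> nlinarith [Int.le_self_sq rr, Int.le_self_sq (-rr)]
        nlinarith [sq_nonneg rr]
      have ha : (Nat.card A : ℤ) = (w : ℤ) * (e : ℤ) + 1 := by exact_mod_cast hcardA
      rw [ha]
      nlinarith [h1, hεsq]
    have := key (m 1 - r (μ i)) (r (μ i))
    rw [sub_add_cancel] at this
    calc (Nat.card A : ℝ) * (e : ℝ) - (e : ℝ) ^ 2 = (((Nat.card A : ℤ) * (e : ℤ) - (e : ℤ) ^ 2 : ℤ) : ℝ) := by push_cast; ring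
      _ ≤ _ := Int.cast_le.2 (this.trans (le_of_eq (by linear_combination (-(e : ℤ) ^ 2) * hεsq)))

end Cfsg.Agent.Solv.SuzukiCA
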