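import Mathlib

/-!
Matrices and permutations modelling the Sylow 2-subgroups of `A₈`, `PSp₄(3)`, `S₈`, `O₆⁻(2)`:
the wreath products `2 ≀ (2 × 2)` (regular) and `2 ≀ D₈`.
-/

set_option autoImplicit false

namespace Cfsg.Agent.Solv.SylEight

/-- The four-group and the functions on it. -/
abbrev VV := ZMod 2 × ZMod 2
/-- The base group of the regular wreath product. -/
abbrev BB := VV → ZMod 2

/-- Swapping one block pair. -/
def tauA (x : VV) : Equiv.Perm (Fin 8) :=
  if x = (0, 0) then Equiv.swap 0 2 * Equiv.swap 1 3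
  else if x = (1, 0) then Equiv.swap 0 3 * Equiv.swap 1 2
  else if x = (0, 1) then Equiv.swap 4 6 * Equiv.swap 5 7
  else Equiv.swap 4 7 * Equiv.swap 5 6

/-- The base group inside `A₈`. -/
def baseA (v : BB) : Equiv.Perm (Fin 8) :=
  tauA (0, 0) ^ (v (0, 0)).val * tauA (1, 0) ^ (v (1, 0)).val * tauA (0, 1) ^ (v (0, 1)).val *
    tauA (1, 1) ^ (v (1, 1)).val

/-- The top group inside `A₈`. -/
def topA (x : VV) : Equiv.Perm (Fin 8) :=
  (Equiv.swap 0 1 * Equiv.swap 4 5) ^ x.1.val *
    (Equiv.swap 0 4 * Equiv.swap 1 5 * Equiv.swap 2 6 * Equiv.swap 3 7) ^ x.2.val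

/-- The translated function. -/
def shift (x : VV) (v : BB) : BB := fun y => v (y + x)

theorem baseA_mul : ∀ v w : BB, baseA (v + w) = baseA v * baseA w := by decide +kernel

theorem topA_mul : ∀ x y : VV, topA (x + y) = topA x * topA y := by decide +kernel

theorem compatA : ∀ (x : VV) (v : BB), baseA (shift x v) * topA x = topA x * baseA v := by decide +kernel

theorem faithA : ∀ (v : BB) (x : VV), baseA v * topA x = 1 → v = 0 ∧ x = 0 := by decide +kernel

theorem evenA : ∀ (v : BB) (x : VV), Equiv.Perm.sign (baseA v * topA x) = 1 := by decide +kernel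

/-- `2 × 2` matrices over the field with three elements. -/
abbrev M2 := Matrix (Fin 2) (Fin 2) (ZMod 3)
/-- `4 × 4` matrices over the field with three elements. -/
abbrev M4 := Matrix (Fin 2 ⊕ Fin 2) (Fin 2 ⊕ Fin 2) (ZMod 3)

/-- The pair `(A, B)` acting on two hyperbolic planes. -/
def blk (A B : M2) : M4 :=
  Matrix.fromBlocks !![A 0 0, 0; 0, B 0 0] !![A 0 1, 0; 0, B 0 1] !![A 1 0, 0; 0, B 1 0] !![A 1 1, 0; 0, B 1 1]

/-- The exchange of the two planes. -/
def swapPlanes : M4 := Matrix.fromBlocks !![0, 1; 1, 0] 0 0 !![0, 1; 1, 0]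

/-- `i`. -/
def qi : M2 := !![0, -1; 1, 0]
/-- `j`. -/
def qj : M2 := !![1, 1; 1, -1]
/-- `k`. -/
def qk : M2 := !![-1, 1; 1, 1]

/-- The top group, up to sign. -/
def topS (x : VV) : M4 := blk qi qj ^ x.1.val * blk qj qk ^ x.2.val

/-- Conjugates of the exchange, up to sign (`topS x` squares to a scalar). -/
def tauS (x : VV) : M4 := topS x * swapPlanes * topS x

/-- The base group, up to sign. -/
def baseS (v : BB) : M4 :=
  tauS (0, 0) ^ (v (0, 0)).val * tauS (1, 0) ^ (v (1, 0)).val * tauS (0, 1) ^ (v (0, 1)).val *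
    tauS (1, 1) ^ (v (1, 1)).val

/-- Equality up to sign. -/
def Pm (A B : M4) : Prop := A = B ∨ A = -B

instance (A B : M4) : Decidable (Pm A B) := inferInstanceAs (Decidable (_ ∨ _))

theorem baseS_mul : ∀ v w : BB, Pm (baseS (v + w)) (baseS v * baseS w) := by decide +kernel

theorem topS_mul : ∀ x y : VV, Pm (topS (x + y)) (topS x * topS y) := by decide +kernel

theorem compatS : ∀ (x : VV) (v : BB), Pm (baseS (shift x v) * topS x) (topS x * baseS v) := by decide +kernel

theorem sympS : ∀ x : VV, topS x * Matrix.J (Fin 2) (ZMod 3) * (topS x).transpose = Matrix.J (Fin 2) (ZMod 3) ∧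
    tauS x * Matrix.J (Fin 2) (ZMod 3) * (tauS x).transpose = Matrix.J (Fin 2) (ZMod 3) := by decide +kernel

/-- A transvection. -/
def testT : M4 := blk !![1, 1; 0, 1] 1
/-- The opposite transvection. -/
def testT' : M4 := blk !![1, 0; 1, 1] 1

theorem sympTest : testT * Matrix.J (Fin 2) (ZMod 3) * testT.transpose = Matrix.J (Fin 2) (ZMod 3) ∧
    testT' * Matrix.J (Fin 2) (ZMod 3) * testT'.transpose = Matrix.J (Fin 2) (ZMod 3) ∧
    swapPlanes * Matrix.J (Fin 2) (ZMod 3) * swapPlanes.transpose = Matrix.J (Fin 2) (ZMod 3) := by decide +kernel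

theorem faithS : ∀ (v : BB) (x : VV), baseS v * topS x * testT = testT * (baseS v * topS x) →
    baseS v * topS x * testT' = testT' * (baseS v * topS x) →
    baseS v * topS x * swapPlanes = swapPlanes * (baseS v * topS x) → v = 0 ∧ x = 0 := by decide +kernel

/-- The functions on four points. -/
abbrev CC := ZMod 4 → ZMod 2

/-- The dihedral group on four points. -/
def rho : DihedralGroup 4 → ZMod 4 → ZMod 4
  | .r i, k => k + i
  | .sr i, k => -i - k

theorem rho_mul : ∀ (g h : DihedralGroup 4) (k : ZMod 4), rho (g * h) k = rho g (rho h k) := by decide +kernel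

theorem rho_one : ∀ k : ZMod 4, rho 1 k = k := by decide +kernel

/-- The permuted function. -/
def perm (g : DihedralGroup 4) (v : CC) : CC := fun k => v (rho g⁻¹ k)

/-- The base group inside `S₈`. -/
def baseP (v : CC) : Equiv.Perm (Fin 8) :=
  Equiv.swap 0 1 ^ (v 0).val * Equiv.swap 2 3 ^ (v 1).val * Equiv.swap 4 5 ^ (v 2).val * Equiv.swap 6 7 ^ (v 3).val

/-- The top group inside `S₈`, as a function. -/
def topPFun (g : DihedralGroup 4) (n : Fin 8) : Fin 8 :=
  ⟨(2 * (rho g (n.val / 2 : ℕ)).val + n.val % 2) % 8, Nat.mod_lt _ (by norm_num)⟩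

theorem topPFun_left : ∀ (g : DihedralGroup 4) (n : Fin 8), topPFun g⁻¹ (topPFun g n) = n := by decide +kernel

theorem topPFun_right : ∀ (g : DihedralGroup 4) (n : Fin 8), topPFun g (topPFun g⁻¹ n) = n := by decide +kernel

/-- The top group inside `S₈`. -/
def topP (g : DihedralGroup 4) : Equiv.Perm (Fin 8) :=
  ⟨topPFun g, topPFun g⁻¹, topPFun_left g, topPFun_right g⟩

theorem baseP_mul : ∀ v w : CC, baseP (v + w) = baseP v * baseP w := by decide +kernel

theorem topP_mul : ∀ g h : DihedralGroup 4, topP (g * h) = topP g * topP h := by decide +kernel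

theorem compatP : ∀ (g : DihedralGroup 4) (v : CC), baseP (perm g v) * topP g = topP g * baseP v := by decide +kernel

theorem faithP : ∀ (v : CC) (g : DihedralGroup 4), baseP v * topP g = 1 → v = 0 ∧ g = 1 := by decide +kernel

/-- Coordinates of the six dimensional space. -/
abbrev I6 := (Fin 2 ⊕ Fin 2) ⊕ Fin 2

/-- A vector from its coordinates. -/
def vec (x₁ x₂ y₁ y₂ z₁ z₂ : ZMod 2) : I6 → ZMod 2 := Sum.elim (Sum.elim ![x₁, x₂] ![y₁, y₂]) ![z₁, z₂]

/-- The quadratic form. -/
def qf (v : I6 → ZMod 2) : ZMod 2 :=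
  v (.inl (.inl 0)) * v (.inl (.inr 0)) + v (.inl (.inl 1)) * v (.inl (.inr 1)) +
    (v (.inr 0) * v (.inr 0) + v (.inr 0) * v (.inr 1) + v (.inr 1) * v (.inr 1))

/-- The permuted vectors. -/
def ww (k : ZMod 4) : I6 → ZMod 2 :=
  if k = 0 then vec 0 0 0 0 1 0 else if k = 1 then vec 0 0 0 0 0 1
  else if k = 2 then vec 0 1 0 0 1 1 else vec 0 0 0 1 1 1

/-- The matrix with the given columns. -/
def ofCols (c : I6 → I6 → ZMod 2) : Matrix I6 I6 (ZMod 2) := Matrix.of fun i j => c j i

/-- The Siegel transformation of `w`. -/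
def siegel (w : I6 → ZMod 2) : Matrix I6 I6 (ZMod 2) :=
  ofCols fun j =>
    let x : I6 → ZMod 2 := Pi.single j 1
    x + (qf (x + w) + qf x + qf w) • vec 1 0 0 0 0 0 + x (.inl (.inr 0)) • (w + qf w • vec 1 0 0 0 0 0)

/-- The base group inside the orthogonal group. -/
def baseO (v : CC) : Matrix I6 I6 (ZMod 2) := siegel (v 0 • ww 0 + v 1 • ww 1 + v 2 • ww 2 + v 3 • ww 3)

/-- The top group inside the orthogonal group. -/
def topO (g : DihedralGroup 4) : Matrix I6 I6 (ZMod 2) :=
  ofCols (Sum.elim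
    (Sum.elim ![vec 1 0 0 0 0 0, ww (rho g 2) + ww (rho g 0) + ww (rho g 1)]
      ![vec 0 0 1 0 0 0, ww (rho g 3) + ww (rho g 0) + ww (rho g 1)])
    ![ww (rho g 0), ww (rho g 1)])

theorem baseO_mul : ∀ v w : CC, baseO (v + w) = baseO v * baseO w := by decide +kernel

theorem topO_mul : ∀ g h : DihedralGroup 4, topO (g * h) = topO g * topO h := by decide +kernel

theorem compatO : ∀ (g : DihedralGroup 4) (v : CC), baseO (perm g v) * topO g = topO g * baseO v := by decide +kernel

theorem faithO : ∀ (v : CC) (g : DihedralGroup 4), baseO v * topO g = 1 → v = 0 ∧ g = 1 := by decide +kernel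

theorem isoO : ∀ (g : DihedralGroup 4) (x : I6 → ZMod 2), qf (Matrix.mulVec (topO g) x) = qf x := by decide +kernel

theorem isoO' : ∀ (k : ZMod 4) (x : I6 → ZMod 2), qf (Matrix.mulVec (siegel (ww k)) x) = qf x := by decide +kernel

theorem baseO_prod : ∀ v : CC, baseO v = siegel (ww 0) ^ (v 0).val * siegel (ww 1) ^ (v 1).val *
    siegel (ww 2) ^ (v 2).val * siegel (ww 3) ^ (v 3).val := by decide +kernel

end Cfsg.Agent.Solv.SylEight
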