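import Cfsg.Prelude.Def_OddOrderLocal
import Cfsg.Agent.Lib.Solv.DihedralCentralizerMain
import Cfsg.Agent.Lib.Solv.PConj
import Cfsg.Agent.Lib.Solv.Coprime
import Cfsg.Agent.Lib.Solv.Parts
import Mathlib.GroupTheory.Transfer
import Mathlib.GroupTheory.SpecificGroups.ZGroup

/-!
A group with an abelian Sylow `3`-subgroup `P`, `|N(P)| = 4|P|`, `|C(P)| = 2|P|`, `C(P)` a TI-set and
all proper subgroups of even order of order dividing `4|P|` is not simple.
-/

set_option autoImplicit false
set_option linter.style.haveILetI false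
set_option linter.unusedSectionVars false

open scoped Pointwise

namespace Cfsg.Agent.Solv.SylowThreeSmall

open Cfsg

variable {G : Type*} [Group G]

theorem perfect_not_comm [Nontrivial G] (hperf : commutator G = ⊤) (h : ∀ a b : G, a * b = b * a) :
    False := by
  haveI : IsMulCommutative G := ⟨⟨h⟩⟩
  have h1 := (commutator_eq_bot_iff G).2 inferInstance
  rw [hperf] at h1
  exact top_ne_bot h1

/-- In a perfect group an element of an abelian Sylow subgroup central in its normaliser is trivial. -/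
theorem eq_one_of_central_normalizer [Finite G] {p : ℕ} [Fact p.Prime] (hperf : commutator G = ⊤)
    (P : Sylow p G) (hab : IsMulCommutative P) {u : G} (hu : u ∈ (P : Subgroup G))
    (hc : ∀ n ∈ Subgroup.normalizer ((P : Subgroup G) : Set G), n * u = u * n) : u = 1 := by
  haveI := hab
  haveI : IsMulCommutative (P : Subgroup G) := hab
  letI : CommGroup (P : Subgroup G) :=
    { (inferInstance : Group (P : Subgroup G)) with mul_comm := fun a b => mul_comm' a b }
  let f : G →* (P : Subgroup G) := MonoidHom.transfer (MonoidHom.id _)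
  have hval : f u = ⟨u ^ (P : Subgroup G).index, (P : Subgroup G).pow_mem hu _⟩ := by
    have key : ∀ (k : ℕ) (g₀ : G), g₀⁻¹ * u ^ k * g₀ ∈ (P : Subgroup G) → g₀⁻¹ * u ^ k * g₀ = u ^ k := by
      intro k g₀ h
      obtain ⟨n, hn, h'⟩ := P.conj_eq_normalizer_conj_of_mem (u ^ k) g₀ ((P : Subgroup G).pow_mem hu k) h
      rw [h', mul_assoc, ← ((show Commute n u from hc n hn).pow_right k).eq, inv_mul_cancel_left]
    exact MonoidHom.transfer_eq_pow _ _ key
  have h1 : f u = 1 := MonoidHom.mem_ker.1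
    (Abelianization.commutator_subset_ker f (hperf.ge (Subgroup.mem_top u)))
  rw [hval] at h1
  have h2 : (⟨u, hu⟩ : (P : Subgroup G)) ^ (P : Subgroup G).index = (1 : (P : Subgroup G)) ^
      (P : Subgroup G).index := by rw [one_pow]; exact Subtype.ext (congrArg Subtype.val h1)
  have h3 := (P.isPGroup'.powEquiv' P.not_dvd_index).injective h2
  exact congrArg Subtype.val h3

theorem not_simple [Finite G] (P : Sylow 3 G) (hab : IsMulCommutative P)
    (hN : Nat.card (Subgroup.normalizer ((P : Subgroup G) : Set G)) = 4 * Nat.card P)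
    (hC : Nat.card (Subgroup.centralizer ((P : Subgroup G) : Set G)) = 2 * Nat.card P)
    (hTI : IsTISubset (Subgroup.centralizer ((P : Subgroup G) : Set G) : Set G))
    (heven : ∀ H : Subgroup G, H ≠ ⊤ → 2 ∣ Nat.card H → Nat.card H ∣ 4 * Nat.card P) :
    ¬ IsSimpleGroup G := by
  intro hsimple
  classical
  haveI := hsimple
  haveI := hsimple.toNontrivial
  haveI := Fintype.ofFinite G
  haveI : Fact (Nat.Prime 2) := ⟨Nat.prime_two⟩
  haveI : Fact (Nat.Prime 3) := ⟨Nat.prime_three⟩
  set N := Subgroup.normalizer ((P : Subgroup G) : Set G) with hNdef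
  set C := Subgroup.centralizer ((P : Subgroup G) : Set G) with hCdef
  have hq : 0 < Nat.card P := Nat.card_pos
  obtain ⟨a, ha⟩ := IsPGroup.iff_card.1 P.isPGroup'
  have hCN : C ≤ N := Subgroup.centralizer_le_normalizer _
  have hcomm : ∀ x ∈ (P : Subgroup G), ∀ y ∈ (P : Subgroup G), x * y = y * x := fun x hx y hy => by
    haveI := hab
    exact congrArg Subtype.val (mul_comm' (⟨x, hx⟩ : (P : Subgroup G)) ⟨y, hy⟩)
  have hPC : (P : Subgroup G) ≤ C := fun x hx =>
    Subgroup.mem_centralizer_iff.2 fun y hy => hcomm y hy x hx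
  have ha0 : a ≠ 0 := by
    intro e
    have hP : (P : Subgroup G) = ⊥ := Subgroup.eq_bot_of_card_eq _ (by rw [ha, e, pow_zero])
    have h1 : C = ⊤ := top_le_iff.1 fun x _ => Subgroup.mem_centralizer_iff.2 fun y hy => by
      rw [hP] at hy
      rw [Subgroup.mem_bot.1 hy, one_mul, mul_one]
    have h2 : N = ⊤ := top_le_iff.1 (h1.ge.trans hCN)
    rw [h1, Subgroup.card_top] at hC
    rw [h2, Subgroup.card_top] at hN
    omega
  have hodd : ¬ 2 ∣ Nat.card P := by
    rw [ha]; intro h
    exact absurd (Nat.prime_two.dvd_of_dvd_pow h) (by norm_num)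
  have hnormal : N ≠ ⊤ := by
    intro htop
    rcases (Subgroup.normalizer_eq_top_iff.1 htop).eq_bot_or_eq_top with e | e
    · rw [e, Subgroup.card_bot] at ha
      exact absurd ha (Nat.one_lt_pow ha0 (by norm_num)).ne
    · have h1 : Nat.card P = Nat.card G :=
        (congrArg (fun H : Subgroup G => Nat.card H) e).trans Subgroup.card_top
      rw [htop, Subgroup.card_top] at hN
      omega
  have hperf : commutator G = ⊤ := by
    refine ((inferInstance : (commutator G).Normal).eq_bot_or_eq_top).resolve_left fun e => ?_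
    rw [commutator_eq_bot_iff] at e
    exact hnormal (top_le_iff.1 fun x _ => hCN (Subgroup.mem_centralizer_iff.2 fun y _ => mul_comm' y x))
  have hnc : ¬ ∀ x y : G, x * y = y * x := perfect_not_comm hperf
  -- the central involution of `C`
  obtain ⟨⟨z, hzC⟩, hzo⟩ := exists_prime_orderOf_dvd_card' 2 (hC ▸ dvd_mul_right 2 _)
  rw [Subgroup.orderOf_mk] at hzo
  have hz1 : z ≠ 1 := fun e => by rw [e, orderOf_one] at hzo; omega
  have hzP : z ∉ (P : Subgroup G) := fun h => hodd (hzo ▸ Subgroup.orderOf_dvd_natCard _ h)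
  have hidx : ((P : Subgroup G).subgroupOf C).index = 2 := by
    have := ((P : Subgroup G).subgroupOf C).card_mul_index
    rw [card_subgroupOf hPC, hC, mul_comm 2] at this
    exact Nat.eq_of_mul_eq_mul_left hq this
  have huniq : ∀ c ∈ C, orderOf c = 2 → c = z := by
    intro c hc hco
    have hcP : c ∉ (P : Subgroup G) := fun h => hodd (hco ▸ Subgroup.orderOf_dvd_natCard _ h)
    have h1 := (Subgroup.mul_mem_iff_of_index_two hidx (a := ⟨c, hc⟩) (b := ⟨z, hzC⟩)).2
      ⟨fun h => absurd h hcP, fun h => absurd h hzP⟩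
    have h1' : c * z ∈ (P : Subgroup G) := h1
    have h2 : (c * z) * (c * z) = 1 := by
      have hzc : Commute c z := by
        have h3 := Subgroup.mem_centralizer_iff.1 hc (c * z) h1'
        exact (mul_left_cancel (a := c) (h3.symm.trans (mul_assoc c z c)))
      rw [← pow_two, hzc.mul_pow, pow_two, pow_two, InvolCount.mul_self_invol hco,
        InvolCount.mul_self_invol hzo, one_mul]
    have h4 : orderOf (c * z) ∣ 2 := orderOf_dvd_of_pow_eq_one (by rw [pow_two, h2])
    rcases (Nat.dvd_prime Nat.prime_two).1 h4 with e | e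
    · rw [eq_inv_of_mul_eq_one_left (orderOf_eq_one_iff.1 e), InvolCount.inv_of_invol hzo]
    · exact absurd (e ▸ Subgroup.orderOf_dvd_natCard _ h1') hodd
  have hNC : ∀ n ∈ N, ∀ c ∈ C, n * c * n⁻¹ ∈ C := by
    intro n hn c hc
    refine Subgroup.mem_centralizer_iff.2 fun v hv => ?_
    have hv' : n⁻¹ * v * n ∈ (P : Subgroup G) := by
      simpa using ((Subgroup.mem_normalizer_iff.1 (Subgroup.inv_mem _ hn)) v).1 hv
    calc v * (n * c * n⁻¹) = n * ((n⁻¹ * v * n) * c) * n⁻¹ := by group
      _ = n * (c * (n⁻¹ * v * n)) * n⁻¹ := by rw [Subgroup.mem_centralizer_iff.1 hc _ hv']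
      _ = _ := by group
  have hcz : ∀ n : G, n * z * n⁻¹ ∈ C → n * z = z * n := fun n hn => by
    have h1 : n * z * n⁻¹ = z := huniq _ hn (by
      rw [show n * z * n⁻¹ = (MulAut.conj n).toMonoidHom z by simp,
        orderOf_injective _ (MulAut.conj n).injective, hzo])
    exact mul_inv_eq_iff_eq_mul.1 h1
  have center : ∀ x : G, x ≠ 1 → Subgroup.centralizer ({x} : Set G) ≠ ⊤ := by
    intro x hx htop
    have hxc : x ∈ Subgroup.center G := Subgroup.mem_center_iff.2 fun g =>
      Subgroup.mem_centralizer_singleton_iff.1 (htop.ge (Subgroup.mem_top g))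
    rcases (inferInstance : (Subgroup.center G).Normal).eq_bot_or_eq_top with e | e
    · rw [e, Subgroup.mem_bot] at hxc; exact hx hxc
    · exact hnc fun p q => Subgroup.mem_center_iff.1 (e.ge (Subgroup.mem_top q)) p
  have hzz : z ∈ Subgroup.centralizer ({z} : Set G) := Subgroup.mem_centralizer_singleton_iff.2 rfl
  have centZ : Subgroup.centralizer ({z} : Set G) = N := by
    refine (Subgroup.eq_of_le_of_card_ge (fun n hn => Subgroup.mem_centralizer_singleton_iff.2
      (hcz n (hNC n hn z hzC))) ?_).symm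
    rw [hN]
    exact Nat.le_of_dvd (by omega) (heven _ (center z hz1) (hzo ▸ Subgroup.orderOf_dvd_natCard _ hzz))
  -- centralisers of elements of `P`
  have centN : ∀ u ∈ (P : Subgroup G), u ≠ 1 → Subgroup.centralizer ({u} : Set G) ≤ N := by
    intro u hu hu1 x hx
    rw [← centZ, Subgroup.mem_centralizer_singleton_iff]
    have h2 : x ∈ Subgroup.normalizer (C : Set G) := by
      by_contra hno
      refine hu1 (hTI x hno u (hPC hu) ?_)
      rw [Subgroup.mem_centralizer_singleton_iff.1 hx, mul_inv_cancel_right]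
      exact hPC hu
    exact hcz x (((Subgroup.mem_normalizer_iff.1 h2) z).1 hzC)
  have centU : ∀ u ∈ (P : Subgroup G), u ≠ 1 → Subgroup.centralizer ({u} : Set G) ≤ C := by
    intro u hu hu1
    set L := Subgroup.centralizer ({u} : Set G)
    have hCL : C ≤ L := fun c hc => Subgroup.mem_centralizer_singleton_iff.2
      (Subgroup.mem_centralizer_iff.1 hc u hu).symm
    by_contra hno
    have hlt : C < L := lt_of_le_of_ne hCL fun e => hno e.ge
    have h1 := card_lt_of_lt hlt
    have h2 : Nat.card C ∣ Nat.card L := Subgroup.card_dvd_of_le hCL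
    obtain ⟨k, hk⟩ := h2
    have h3 : Nat.card L ≤ 4 * Nat.card P :=
      Nat.le_of_dvd (by omega) (hN ▸ Subgroup.card_dvd_of_le (centN u hu hu1))
    have hk2 : 2 ≤ k := by
      by_contra hk2
      interval_cases k <;> omega
    have h4 : Nat.card N ≤ Nat.card L := by
      rw [hN, hk, hC]
      calc 4 * Nat.card P = 2 * Nat.card P * 2 := by ring
        _ ≤ 2 * Nat.card P * k := Nat.mul_le_mul_left _ hk2
    have h5 : L = N := Subgroup.eq_of_le_of_card_ge (centN u hu hu1) h4
    exact hu1 (eq_one_of_central_normalizer hperf P hab hu fun n hn =>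
      Subgroup.mem_centralizer_singleton_iff.1 (h5.ge hn))
  -- the Sylow `2`-subgroup
  obtain ⟨R0, hR0, hR0c⟩ : ∃ R0 : Subgroup G, R0 ≤ N ∧ Nat.card R0 = 4 := by
    obtain ⟨K, hK⟩ := Sylow.exists_subgroup_card_pow_prime (G := N) 2 (n := 2)
      (by rw [hN]; exact dvd_mul_right _ _)
    exact ⟨K.map N.subtype, Subgroup.map_subtype_le _, by rw [card_map_subtype, hK]; norm_num⟩
  obtain ⟨R, hR⟩ := (IsPGroup.of_card (p := 2) (n := 2) (by rw [hR0c]; norm_num) : IsPGroup 2 R0).exists_le_sylow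
  have hR4 : Nat.card R = 4 := by
    have h3G : 3 ∣ Nat.card G :=
      (dvd_pow_self 3 ha0).trans (ha ▸ (P : Subgroup G).card_subgroup_dvd_card)
    obtain ⟨k, hk⟩ := IsPGroup.iff_card.1 R.isPGroup'
    have hne : (R : Subgroup G) ≠ ⊤ := fun e => by
      rw [e, Subgroup.card_top] at hk
      exact absurd (Nat.prime_three.dvd_of_dvd_pow (hk ▸ h3G)) (by norm_num)
    have h4 : 4 ∣ Nat.card R := hR0c ▸ Subgroup.card_dvd_of_le hR
    have h5 := heven _ hne ((show 2 ∣ 4 by norm_num).trans h4)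
    rw [hk] at h5
    have h6 : (2 ^ k).Coprime (Nat.card P) :=
      Nat.Coprime.pow_left k (Nat.prime_two.coprime_iff_not_dvd.2 hodd)
    exact Nat.dvd_antisymm (hk ▸ h6.dvd_of_dvd_mul_right h5) h4
  have hRN : (R : Subgroup G) ≤ N := by
    rw [← Subgroup.eq_of_le_of_card_ge hR (hR4.trans hR0c.symm).le]
    exact hR0
  have hRne : (R : Subgroup G) ≠ ⊥ := fun e => by rw [e, Subgroup.card_bot] at hR4; omega
  have hnotle : ¬ Subgroup.normalizer ((R : Subgroup G) : Set G) ≤
      Subgroup.centralizer ((R : Subgroup G) : Set G) := by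
    intro hle
    have hc := MonoidHom.ker_transferSylow_isComplement' R hle
    rcases (inferInstance : (MonoidHom.transferSylow R hle).ker.Normal).eq_bot_or_eq_top with e | e
    · rw [e, Subgroup.isComplement'_bot_left] at hc
      have h1 : Nat.card (R : Subgroup G) = Nat.card G := by rw [hc, Subgroup.card_top]
      have h2 := (P : Subgroup G).card_subgroup_dvd_card
      rw [← h1, hR4, ha] at h2
      have := (dvd_pow_self 3 ha0).trans h2
      norm_num at this
    · rw [e, Subgroup.isComplement'_top_left] at hc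
      exact hRne hc
  have hRsq : ∀ x ∈ (R : Subgroup G), x * x = 1 := by
    have hncyc : ¬ IsCyclic R := by
      intro hcyc
      refine hnotle (hcyc.normalizer_le_centralizer ?_)
      refine le_antisymm (Nat.minFac_le_of_dvd le_rfl ?_) ?_
      · exact (show (2 : ℕ) ∣ 4 by norm_num).trans (hR4 ▸ (R : Subgroup G).card_subgroup_dvd_card)
      · exact (Nat.minFac_prime Finite.one_lt_card.ne').two_le
    intro x hx
    have hd : orderOf (⟨x, hx⟩ : R) ∣ 2 ^ 2 := by
      rw [show (2 : ℕ) ^ 2 = 4 by norm_num, ← hR4]; exact orderOf_dvd_natCard _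
    obtain ⟨k, hk, hk'⟩ := (Nat.dvd_prime_pow Nat.prime_two).1 hd
    have hk2 : k ≤ 1 := by
      by_contra h
      exact hncyc (isCyclic_of_orderOf_eq_card _ (by rw [hk', show k = 2 by omega, hR4]; norm_num))
    rw [Subgroup.orderOf_mk] at hk'
    exact (pow_two x).symm.trans (orderOf_dvd_iff_pow_eq_one.1 (hk' ▸ by
      simpa using pow_dvd_pow 2 hk2))
  have hRcomm : ∀ x ∈ (R : Subgroup G), ∀ y ∈ (R : Subgroup G), x * y = y * x := by
    intro x hx y hy
    have h1 := hRsq _ ((R : Subgroup G).mul_mem hx hy)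
    calc x * y = (x * y)⁻¹ := (inv_eq_of_mul_eq_one_right h1).symm
      _ = y * x := by
        rw [mul_inv_rev, inv_eq_of_mul_eq_one_right (hRsq y hy), inv_eq_of_mul_eq_one_right (hRsq x hx)]
  have hPN : ∀ (v : G) (k : ℕ), orderOf v = 3 ^ k → v ∈ N → v ∈ (P : Subgroup G) := fun v k hv hvN =>
    (((isPGroup_zpowers hv).inf_normalizer_sylow P).le ⟨Subgroup.mem_zpowers v, hvN⟩).2
  -- `z` and an inverting involution
  have hzN : z ∈ N := hCN hzC
  have hzR : z ∈ (R : Subgroup G) := by
    -- `z` is central in `N ⊇ R`, so `⟨z⟩ R` is a `2`-group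
    have h1 : Subgroup.zpowers z ≤ Subgroup.normalizer ((R : Subgroup G) : Set G) :=
      Subgroup.zpowers_le.2 (Subgroup.centralizer_le_normalizer _ (Subgroup.mem_centralizer_iff.2
        fun r hr => Subgroup.mem_centralizer_singleton_iff.1 (centZ.ge (hRN hr))))
    have h2 := ((isPGroup_zpowers (p := 2) (k := 1) (u := z) (by rw [pow_one, hzo])).inf_normalizer_sylow R).le
      ⟨Subgroup.mem_zpowers z, h1 (Subgroup.mem_zpowers z)⟩
    exact h2.2
  obtain ⟨t, htR, htC⟩ : ∃ t ∈ (R : Subgroup G), t ∉ C := by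
    by_contra hno
    push Not at hno
    have h1 := Subgroup.card_dvd_of_le (show (R : Subgroup G) ≤ C from hno)
    rw [hR4, hC, show (4 : ℕ) = 2 * 2 by norm_num] at h1
    exact hodd (Nat.dvd_of_mul_dvd_mul_left two_pos h1)
  have ht1 : t ≠ 1 := fun e => htC (e ▸ C.one_mem)
  have hto : orderOf t = 2 := orderOf_eq_prime (by rw [pow_two]; exact hRsq t htR) ht1
  have htinv : ∀ v ∈ (P : Subgroup G), t * v * t⁻¹ = v⁻¹ := by
    intro v hv
    have hy : t * v * t⁻¹ ∈ (P : Subgroup G) := ((Subgroup.mem_normalizer_iff.1 (hRN htR)) v).1 hv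
    refine eq_inv_of_mul_eq_one_right ?_
    by_contra hne
    refine htC (centU _ ((P : Subgroup G).mul_mem hv hy) hne (Subgroup.mem_centralizer_singleton_iff.2 ?_))
    have htt : t⁻¹ = t := InvolCount.inv_of_invol hto
    rw [htt] at hy ⊢
    calc t * (v * (t * v * t)) = (t * v * t) * v * t := by group
      _ = v * (t * v * t) * t := by rw [hcomm _ hy v hv]
  -- fusion of involutions
  obtain ⟨g, hgN, hgC⟩ := SetLike.not_le_iff_exists.1 hnotle
  obtain ⟨w, v, hw, hv, hwv, ⟨k, hk⟩, hvco⟩ := exists_ppart 2 g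
  have hwR : w ∈ (R : Subgroup G) :=
    (((isPGroup_zpowers hk).inf_normalizer_sylow R).le
      ⟨Subgroup.mem_zpowers w, (Subgroup.zpowers_le.2 hgN) hw⟩).2
  have hvN : v ∈ Subgroup.normalizer ((R : Subgroup G) : Set G) := (Subgroup.zpowers_le.2 hgN) hv
  have hvC : v ∉ Subgroup.centralizer ((R : Subgroup G) : Set G) := fun h => hgC (hwv ▸ Subgroup.mul_mem _
    (Subgroup.mem_centralizer_iff.2 fun x hx => hRcomm x hx w hwR) h)
  have hvz : v * z ≠ z * v := by
    intro e
    have hvN' : v ∈ N := centZ.le (Subgroup.mem_centralizer_singleton_iff.2 e)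
    have h1 : orderOf v ∣ Nat.card P := by
      have h2 := Subgroup.orderOf_dvd_natCard N hvN'
      rw [hN, show 4 * Nat.card P = 2 ^ 2 * Nat.card P by norm_num] at h2
      exact (hvco.pow_right 2).dvd_of_dvd_mul_left h2
    obtain ⟨j, -, hj⟩ := (Nat.dvd_prime_pow Nat.prime_three).1 (ha ▸ h1)
    have hvP := hPN v j hj hvN'
    refine hvC (Subgroup.mem_centralizer_iff.2 fun x hx => ?_)
    have h2 : x * v * x⁻¹ * v⁻¹ ∈ (P : Subgroup G) := (P : Subgroup G).mul_mem
      (((Subgroup.mem_normalizer_iff.1 (hRN hx)) v).1 hvP) ((P : Subgroup G).inv_mem hvP)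
    have h3 : x * v * x⁻¹ * v⁻¹ ∈ (R : Subgroup G) := by
      rw [show x * v * x⁻¹ * v⁻¹ = x * (v * x⁻¹ * v⁻¹) by group]
      exact (R : Subgroup G).mul_mem hx (((Subgroup.mem_normalizer_iff.1 hvN) _).1 ((R : Subgroup G).inv_mem hx))
    have h4 : x * v * x⁻¹ * v⁻¹ = 1 := by
      refine orderOf_eq_one_iff.1 (Nat.eq_one_of_dvd_coprimes ?_ (Subgroup.orderOf_dvd_natCard _ h2)
        (Subgroup.orderOf_dvd_natCard _ h3))
      rw [hR4, show (4 : ℕ) = 2 ^ 2 by norm_num]
      exact Nat.Coprime.pow_right 2 (Nat.prime_two.coprime_iff_not_dvd.2 hodd).symm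
    calc x * v = x * v * x⁻¹ * v⁻¹ * (v * x) := by group
      _ = v * x := by rw [h4, one_mul]
  have hvz2 : v ^ 2 * z ≠ z * v ^ 2 := by
    intro e
    obtain ⟨m, hm⟩ := exists_pow_eq_self_of_coprime (x := v) (n := 2) hvco.symm
    exact hvz (hm ▸ ((show Commute (v ^ 2) z from e).pow_left m).eq)
  let F : Fin 3 → {x : (R : Subgroup G) // x ≠ 1} := fun i =>
    ⟨⟨v ^ (i : ℕ) * z * (v ^ (i : ℕ))⁻¹,
      ((Subgroup.mem_normalizer_iff.1 (Subgroup.pow_mem _ hvN i)) z).1 hzR⟩,
      fun e => hz1 (conj_eq_one_iff.1 (congrArg Subtype.val e))⟩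
  have hFinj : Function.Injective F := by
    intro i j e
    have e' : v ^ (i : ℕ) * z * (v ^ (i : ℕ))⁻¹ = v ^ (j : ℕ) * z * (v ^ (j : ℕ))⁻¹ :=
      congrArg (fun y : {x : (R : Subgroup G) // x ≠ 1} => (y.1 : G)) e
    have key : ∀ (i j : ℕ), i < j → j < 3 → v ^ i * z * (v ^ i)⁻¹ = v ^ j * z * (v ^ j)⁻¹ → False := by
      intro i j hij hj3 e
      obtain ⟨d, rfl⟩ := Nat.exists_eq_add_of_lt hij
      have h1 : v ^ (d + 1) * z = z * v ^ (d + 1) := by
        refine mul_inv_eq_iff_eq_mul.1 ?_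
        calc v ^ (d + 1) * z * (v ^ (d + 1))⁻¹
            = (v ^ i)⁻¹ * (v ^ (i + d + 1) * z * (v ^ (i + d + 1))⁻¹) * v ^ i := by
              rw [show i + d + 1 = i + (d + 1) by omega, pow_add]; group
          _ = z := by rw [← e]; group
      rcases (show d = 0 ∨ d = 1 by omega) with rfl | rfl
      · exact hvz (by simpa using h1)
      · exact hvz2 h1
    rcases lt_trichotomy (i : ℕ) (j : ℕ) with h | h | h
    · exact (key _ _ h j.2 e').elim
    · exact Fin.ext h
    · exact (key _ _ h i.2 e'.symm).elim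
  have hFbij := (Nat.bijective_iff_injective_and_card F).2 ⟨hFinj, by
    rw [Nat.card_fin, Nat.card_eq_fintype_card]
    show 3 = Fintype.card {x : (R : Subgroup G) // ¬ x = 1}
    rw [Fintype.card_subtype_compl, Fintype.card_subtype_eq, ← Nat.card_eq_fintype_card, hR4]⟩
  refine DihedralCentralizer.config_false (P := (P : Subgroup G)) (z := z) (t := t)
    { comm := hcomm
      pow := ⟨a, ha, ha0⟩
      cardC := hC
      cardN := hN
      zmem := hzC
      zord := hzo
      centZ := centZ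
      centU := centU
      tmem := hRN htR
      tord := hto
      tinv := htinv
      oneClass := ?_
      prod := ?_
      sylow := fun y ⟨b, hb⟩ => by
        obtain ⟨g, hg⟩ := exists_le_conj_sylow (isPGroup_zpowers hb) P
        exact ⟨g⁻¹, by rw [inv_inv]; exact mem_conj_smul.1 (hg (Subgroup.mem_zpowers y))⟩ } hsimple hperf
  · intro i hi
    obtain ⟨g, hg⟩ := exists_le_conj_sylow (isPGroup_zpowers (p := 2) (k := 1) (u := i) (by rw [pow_one, hi])) R
    have hiR := mem_conj_smul.1 (hg (Subgroup.mem_zpowers i))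
    obtain ⟨m, hm⟩ := hFbij.2 ⟨⟨_, hiR⟩, fun e => by
      have h1 : g⁻¹ * i * g = 1 := congrArg Subtype.val e
      have : i = 1 := by
        calc i = g * (g⁻¹ * i * g) * g⁻¹ := by group
          _ = 1 := by rw [h1]; group
      rw [this, orderOf_one] at hi; omega⟩
    have hm' : v ^ (m : ℕ) * z * (v ^ (m : ℕ))⁻¹ = g⁻¹ * i * g :=
      congrArg (fun y : {x : (R : Subgroup G) // x ≠ 1} => (y.1 : G)) hm
    exact ⟨(v ^ (m : ℕ))⁻¹ * g⁻¹, by
      calc (v ^ (m : ℕ))⁻¹ * g⁻¹ * i * ((v ^ (m : ℕ))⁻¹ * g⁻¹)⁻¹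
          = (v ^ (m : ℕ))⁻¹ * (g⁻¹ * i * g) * v ^ (m : ℕ) := by group
        _ = z := by rw [← hm']; group⟩
  · intro i j hi hj hij
    by_contra hd
    set x := i * j with hx
    set L := Subgroup.zpowers x ⊔ Subgroup.zpowers i with hL
    have hiN : Subgroup.zpowers i ≤ Subgroup.normalizer ((Subgroup.zpowers x : Subgroup G) : Set G) := by
      refine Subgroup.zpowers_le.2 (mem_normalizer_of_conj_smul (Subgroup.eq_of_le_of_card_ge ?_
        (card_conj_smul i _).ge))
      intro y hy
      obtain ⟨k, hk⟩ := Subgroup.mem_zpowers_iff.1 (mem_conj_smul.1 hy)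
      have : y = (i * x * i⁻¹) ^ k := by rw [conj_zpow, hk]; group
      rw [this, InvolCount.inverts_mul hi hj]
      exact Subgroup.zpow_mem _ (Subgroup.inv_mem _ (Subgroup.mem_zpowers x)) k
    have h1 := card_sup_mul_card_inf' (Subgroup.zpowers x) (Subgroup.zpowers i) hiN
    rw [Nat.card_zpowers, Nat.card_zpowers, hi, ← hL] at h1
    have hiL : i ∈ L := Subgroup.mem_sup_right (Subgroup.mem_zpowers i)
    have hjL : j ∈ L := by
      have h2 : j = i⁻¹ * x := by rw [hx, inv_mul_cancel_left]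
      rw [h2]
      exact L.mul_mem (L.inv_mem hiL) (Subgroup.mem_sup_left (Subgroup.mem_zpowers x))
    have hLne : L ≠ ⊤ := by
      intro e
      have hle : Subgroup.normalizer ((Subgroup.zpowers x : Subgroup G) : Set G) = ⊤ :=
        top_le_iff.1 (e.ge.trans (sup_le Subgroup.le_normalizer hiN))
      rcases (Subgroup.normalizer_eq_top_iff.1 hle).eq_bot_or_eq_top with e' | e'
      · rw [Subgroup.zpowers_eq_bot, hx] at e'
        refine hij ?_
        have hij' : i = j := by rw [eq_inv_of_mul_eq_one_left e', InvolCount.inv_of_invol hj]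
        rw [hx, hij']
      · exact hnc fun p q => by
          obtain ⟨k, rfl⟩ := Subgroup.mem_zpowers_iff.1 (e'.ge (Subgroup.mem_top p))
          obtain ⟨l, rfl⟩ := Subgroup.mem_zpowers_iff.1 (e'.ge (Subgroup.mem_top q))
          rw [← zpow_add, ← zpow_add, add_comm]
    have h2 := heven L hLne (hi ▸ Subgroup.orderOf_dvd_natCard L hiL)
    have h3 : (Nat.card L).Coprime 3 :=
      ((Nat.Prime.coprime_iff_not_dvd Nat.prime_three).2 fun h =>
        ((Nat.prime_three.dvd_mul).1 (h1 ▸ h.mul_right _)).elim hd (by norm_num)).symm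
    have h4 : Nat.card L ∣ 2 ^ 2 := by
      have h5 := (h3.pow_right a).dvd_of_dvd_mul_right (ha ▸ h2)
      exact h5.trans (by norm_num)
    obtain ⟨k, -, hk⟩ := (Nat.dvd_prime_pow Nat.prime_two).1 h4
    obtain ⟨g, hg⟩ := exists_le_conj_sylow (IsPGroup.of_card hk : IsPGroup 2 L) R
    have h6 := hRcomm _ (mem_conj_smul.1 (hg hiL)) _ (mem_conj_smul.1 (hg hjL))
    refine hij ?_
    calc x = g * ((g⁻¹ * i * g) * (g⁻¹ * j * g)) * g⁻¹ := by rw [hx]; group
      _ = g * ((g⁻¹ * j * g) * (g⁻¹ * i * g)) * g⁻¹ := by rw [h6]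
      _ = j * i := by group

end Cfsg.Agent.Solv.SylowThreeSmall
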