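import Cfsg.Agent.Lib.Solv.TheoremB
import Cfsg.Agent.Lib.Solv.Cores
import Cfsg.Agent.S3736
import Mathlib.FieldTheory.IsAlgClosed.AlgebraicClosure

/-!
Theorem B over an arbitrary field, and the minimal subgroup moved by an operator.
-/

set_option autoImplicit false
set_option linter.style.haveILetI false

namespace Cfsg.Agent.Solv.ThmB

open scoped commutatorElement TensorProduct
open Cfsg.Agent.Solv.CRep

universe u v

/-- In a coprime action a moved group has a minimal moved `q`-subgroup, of class at most two, whose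
fixed points are central. -/
theorem exists_min_moved {G : Type*} [Group G] [Finite G] {p : ℕ} [Fact p.Prime] (R : Subgroup G)
    (x : G) (hxR : x ∈ Subgroup.normalizer (R : Set G)) (hR : (Nat.card R).Coprime p)
    (n : ℕ) (hxn : x ^ p ^ n = 1) (hmove : ∃ r ∈ R, ¬ Commute (x ^ p ^ (n - 1)) r) :
    ∃ (q : ℕ) (_ : Fact q.Prime) (Q : Subgroup G), q ≠ p ∧ Q ≤ R ∧ Q ≠ ⊥ ∧ IsPGroup q Q ∧
      x ∈ Subgroup.normalizer (Q : Set G) ∧ (∀ a ∈ Q, ∀ b ∈ Q, ∀ c ∈ Q, Commute ⁅a, b⁆ c) ∧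
      (∀ g ∈ Q, Commute (x ^ p ^ (n - 1)) g → ∀ k ∈ Q, Commute g k) ∧
      ⁅Q, Subgroup.zpowers (x ^ p ^ (n - 1))⁆ = Q := by
  classical
  have hp : p.Prime := Fact.out
  obtain ⟨y, hy⟩ : ∃ y, y = x ^ p ^ (n - 1) := ⟨_, rfl⟩
  rw [← hy] at hmove ⊢
  obtain ⟨A, hA⟩ : ∃ A, A = Subgroup.zpowers x := ⟨_, rfl⟩
  obtain ⟨Y, hY⟩ : ∃ Y, Y = Subgroup.zpowers y := ⟨_, rfl⟩
  have hYA : Y ≤ A := by
    rw [hY, hA, Subgroup.zpowers_le, hy]; exact Subgroup.npow_mem_zpowers x _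
  obtain ⟨i, -, hi⟩ := (Nat.dvd_prime_pow hp).1 (orderOf_dvd_of_pow_eq_one hxn)
  have hAp : IsPGroup p A := IsPGroup.of_card (n := i) (by rw [hA, Nat.card_zpowers, hi])
  have hAR : A ≤ Subgroup.normalizer (R : Set G) := hA ▸ (Subgroup.zpowers_le).2 hxR
  have hcoA : (Nat.card A).Coprime (Nat.card R) := by
    rw [hA, Nat.card_zpowers, hi]; exact (hR.pow_right i).symm
  haveI hAnil : Group.IsNilpotent A := hAp.isNilpotent
  have hsol : Group.IsSolvable A ∨ Group.IsSolvable R := Or.inl inferInstance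
  obtain ⟨q, hq, P, hP, hPA, hPY⟩ : ∃ (q : ℕ) (_ : Fact q.Prime) (P : Subgroup G),
      IsSylIn q P R ∧ A ≤ Subgroup.normalizer (P : Set G) ∧ ⁅P, Y⁆ ≠ ⊥ := by
    by_contra hcon
    push Not at hcon
    have htop : (Subgroup.centralizer (Y : Set G)).subgroupOf R = ⊤ := by
      refine eq_top_of_forall_sylow_le _ fun q hq => ?_
      obtain ⟨P, hP, hPA⟩ := exists_invariant_sylow hAR hcoA hsol q
      have h1 := Subgroup.commutator_eq_bot_iff_le_centralizer.1 (hcon q hq P hP hPA)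
      obtain ⟨S, hS⟩ := hP.exists_sylow
      refine ⟨S, fun s hs => ?_⟩
      rw [Subgroup.mem_subgroupOf]
      exact h1 (hS ▸ Subgroup.mem_map_of_mem _ hs)
    obtain ⟨r, hr, hne⟩ := hmove
    refine hne ?_
    have h1 : (⟨r, hr⟩ : R) ∈ (Subgroup.centralizer (Y : Set G)).subgroupOf R :=
      htop ▸ Subgroup.mem_top _
    exact Subgroup.mem_centralizer_iff.1 h1 y (hY ▸ Subgroup.mem_zpowers y)
  have hPR : P ≤ R := hP.1
  obtain ⟨Q, -, ⟨hQP, hQA, hQY⟩, hQmin⟩ : ∃ Q, Q ≤ P ∧ (Q ≤ P ∧ A ≤ Subgroup.normalizer (Q : Set G) ∧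
      ⁅Q, Y⁆ ≠ ⊥) ∧ ∀ U : Subgroup G, U < Q → A ≤ Subgroup.normalizer (U : Set G) → ⁅U, Y⁆ = ⊥ := by
    obtain ⟨Q, hQ, hmin⟩ := exists_minimal_of_wellFoundedLT
      (fun Q : Subgroup G => Q ≤ P ∧ A ≤ Subgroup.normalizer (Q : Set G) ∧ ⁅Q, Y⁆ ≠ ⊥)
      ⟨P, le_rfl, hPA, hPY⟩
    refine ⟨Q, hQ.1, hQ, fun U hU hUA => ?_⟩
    by_contra hne
    exact absurd (hmin ⟨hU.le.trans hQ.1, hUA, hne⟩ hU.le) hU.not_ge
  have hQq : IsPGroup q Q := hP.isPGroup.to_le hQP
  have hqp : q ≠ p := by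
    rintro rfl
    obtain ⟨k, hk⟩ := hQq.exists_card_eq
    have h1 : (Nat.card Q).Coprime q := hR.coprime_dvd_left (Subgroup.card_dvd_of_le (hQP.trans hPR))
    rw [hk] at h1
    rcases Nat.eq_zero_or_pos k with rfl | hk0
    · rw [pow_zero, Subgroup.card_eq_one] at hk
      exact hQY (by rw [hk, Subgroup.commutator_bot_left])
    · rw [Nat.coprime_pow_left_iff hk0, Nat.coprime_self] at h1
      exact hp.ne_one h1
  have hAn : A ≤ Subgroup.normalizer (Y : Set G) := fun a ha => by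
    refine Subgroup.mem_normalizer_fintype fun z hz => ?_
    rw [hY] at hz ⊢
    obtain ⟨j, rfl⟩ := hz
    rw [hA] at ha
    obtain ⟨l, rfl⟩ := ha
    have h1 : Commute (x ^ l) (y ^ j) := ((hy ▸ Commute.self_pow x _).zpow_left l).zpow_right j
    show x ^ l * y ^ j * (x ^ l)⁻¹ ∈ _
    rw [h1.eq, mul_inv_cancel_right]
    exact Subgroup.zpow_mem_zpowers y j
  obtain ⟨hcomm, hshape, hirr, -⟩ := S3736.result A Y Q hQq hQA hYA hAn
    (by
      rw [hY, Nat.card_zpowers]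
      obtain ⟨j, -, hj⟩ := (Nat.dvd_prime_pow hp).1
        ((orderOf_dvd_of_pow_eq_one (show y ^ p ^ n = 1 by rw [hy, ← pow_mul, mul_comm, pow_mul, hxn, one_pow])))
      rw [hj]
      exact ((Nat.coprime_primes hp (Fact.out : q.Prime)).2 hqp.symm).pow_left _)
    hQY hQmin
  have hxQ : x ∈ Subgroup.normalizer (Q : Set G) := hQA (hA ▸ Subgroup.mem_zpowers x)
  refine ⟨q, hq, Q, hqp, hQP.trans hPR,
    fun h => hQY (by rw [h, Subgroup.commutator_bot_left]), hQq, hxQ, ?_⟩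
  rcases hshape with ⟨hab, -⟩ | ⟨-, hfr, hco⟩
  · have hc : ∀ a ∈ Q, ∀ b ∈ Q, Commute a b := fun a ha b hb =>
      congrArg Subtype.val (hab.is_comm.comm ⟨a, ha⟩ ⟨b, hb⟩)
    exact ⟨fun a ha b hb c hc' => hc _ (by
        rw [commutatorElement_def]
        exact mul_mem (mul_mem (mul_mem ha hb) (inv_mem ha)) (inv_mem hb)) c hc',
      fun g hg _ k hk => hc g hg k hk, hY ▸ hcomm⟩
  have hcen : ∀ z : Q, z ∈ Subgroup.center Q → ∀ c ∈ Q, Commute (z : G) c := fun z hz c hc =>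
    congrArg Subtype.val (Subgroup.mem_center_iff.1 hz ⟨c, hc⟩).symm
  refine ⟨fun a ha b hb c hc => ?_, fun g hg hgy k hk => ?_, hY ▸ hcomm⟩
  · have h1 : ⁅(⟨a, ha⟩ : Q), ⟨b, hb⟩⁆ ∈ Subgroup.center Q :=
      hco ▸ Subgroup.commutator_mem_commutator (Subgroup.mem_top _) (Subgroup.mem_top _)
    exact hcen _ h1 c hc
  -- the fixed points lie in the Frattini subgroup
  obtain ⟨Φ, hΦ⟩ : ∃ Φ, Φ = (frattini ↥Q).map Q.subtype := ⟨_, rfl⟩
  rw [← hΦ] at hirr
  have hΦQ : Φ ≤ Q := hΦ ▸ Subgroup.map_subtype_le _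
  have hΦA : A ≤ Subgroup.normalizer (Φ : Set G) := fun a ha => by
    refine Subgroup.mem_normalizer_fintype fun z hz => ?_
    rw [hΦ] at hz ⊢
    obtain ⟨u, hu, rfl⟩ := hz
    refine ⟨Subgroup.normalizerMonoidHom Q ⟨a, hQA ha⟩ u, ?_, rfl⟩
    rw [← Subgroup.characteristic_iff_map_eq.1 (inferInstance : (frattini ↥Q).Characteristic)
      (Subgroup.normalizerMonoidHom Q ⟨a, hQA ha⟩)]
    exact ⟨u, hu, rfl⟩
  obtain ⟨U, hU⟩ : ∃ U, U = (Q ⊓ Subgroup.centralizer (Y : Set G)) ⊔ Φ := ⟨_, rfl⟩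
  have hUA : A ≤ Subgroup.normalizer (U : Set G) := fun a ha => by
    refine mem_normalizer_of_conj_smul ?_
    rw [hU, Subgroup.smul_sup, Subgroup.smul_inf, conj_smul_of_mem_normalizer (hQA ha),
      conj_smul_of_mem_normalizer (hΦA ha)]
    congr 2
    refine conj_smul_of_mem_normalizer (Subgroup.mem_normalizer_fintype fun z hz => ?_)
    rw [SetLike.mem_coe, Subgroup.mem_centralizer_iff] at hz ⊢
    intro w hw
    have h1 : Commute w a := by
      rw [hA] at ha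
      obtain ⟨l, rfl⟩ := ha
      rw [hY] at hw
      obtain ⟨j, rfl⟩ := hw
      exact (((hy ▸ Commute.self_pow x _).zpow_left l).zpow_right j).symm
    exact ((h1.mul_right (hz w hw)).mul_right h1.inv_right).eq
  rcases hirr U (hU ▸ le_sup_right) (hU ▸ sup_le inf_le_left hΦQ) hUA with h | h
  · have hgU : g ∈ U := by
      refine hU ▸ Subgroup.mem_sup_left ⟨hg, Subgroup.mem_centralizer_iff.2 fun w hw => ?_⟩
      rw [hY] at hw
      obtain ⟨j, rfl⟩ := hw
      exact (hgy.zpow_left j).eq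
    rw [h, hΦ] at hgU
    obtain ⟨z, hz, rfl⟩ := hgU
    exact hcen z (hfr ▸ hz) k hk
  · exfalso
    refine hQY ?_
    rw [Subgroup.commutator_eq_bot_iff_le_centralizer]
    have hΦlt : Φ < Q := by
      refine lt_of_le_of_ne hΦQ fun h => ?_
      haveI : Nontrivial Q := (Subgroup.nontrivial_iff_ne_bot Q).2 fun hb =>
        hQY (by rw [hb, Subgroup.commutator_bot_left])
      have h1 : frattini Q = ⊤ := by
        apply Subgroup.map_injective Q.subtype_injective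
        rw [← hΦ, h, ← MonoidHom.range_eq_map, Subgroup.range_subtype]
      obtain ⟨M, hM, -⟩ := (eq_top_or_exists_le_coatom (⊥ : Subgroup Q)).resolve_left bot_ne_top
      exact hM.1 (top_le_iff.1 (h1 ▸ frattini_le_coatom hM))
    have hΦY := Subgroup.commutator_eq_bot_iff_le_centralizer.1 (hQmin Φ hΦlt hΦA)
    rw [← h, hU]
    exact sup_le inf_le_right hΦY

/-- Theorem B for a `q`-group moved by a `p`-element, over an algebraically closed field. -/
theorem rep_bound_closed {F : Type*} [Field F] [IsAlgClosed F] {p : ℕ} [Fact p.Prime] [CharP F p] {G : Type*} [Group G]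
    [Finite G] {q : ℕ} [Fact q.Prime] (hqp : q ≠ p) (Q : Subgroup G) (hQ : IsPGroup q Q) (x : G)
    (hxQ : x ∈ Subgroup.normalizer (Q : Set G)) (hcl : ∀ a ∈ Q, ∀ b ∈ Q, ∀ c ∈ Q, Commute ⁅a, b⁆ c)
    (n : ℕ) (hxn : x ^ p ^ n = 1)
    (hC : ∀ g ∈ Q, Commute (x ^ p ^ (n - 1)) g → ∀ k ∈ Q, Commute g k)
    (hQY : ⁅Q, Subgroup.zpowers (x ^ p ^ (n - 1))⁆ = Q)
    {V : Type*} [AddCommGroup V] [Module F V] [FiniteDimensional F V] (ρ : G →* Module.End F V)
    (hne : ∃ g ∈ Q, ρ g ≠ 1) (s : ℕ) (hs : (ρ x - 1) ^ s = 0) :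
    Bound p q n s (¬ IsMulCommutative Q) := by
  classical
  obtain ⟨G0, hG0⟩ : ∃ G0, G0 = Q ⊔ Subgroup.zpowers x := ⟨_, rfl⟩
  have hQG0 : Q ≤ G0 := hG0 ▸ le_sup_left
  have hxG0 : x ∈ G0 := hG0 ▸ Subgroup.mem_sup_right (Subgroup.mem_zpowers x)
  haveI hQn : (Q.subgroupOf G0).Normal := Subgroup.normal_subgroupOf_of_le_normalizer (by
    rw [hG0]; exact sup_le Subgroup.le_normalizer ((Subgroup.zpowers_le).2 hxQ))
  obtain ⟨σ, hσ⟩ : ∃ σ : G0 →* Module.End F V, ∀ g : G0, σ g = ρ (g : G) :=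
    ⟨ρ.comp G0.subtype, fun _ => rfl⟩
  have hcard : (Nat.card (Q.subgroupOf G0) : F) ≠ 0 := by
    obtain ⟨m, hm⟩ := (hQ.comap_subtype (K := G0)).exists_card_eq
    rw [show Nat.card (Q.subgroupOf G0) = q ^ m from hm, Nat.cast_pow]
    refine pow_ne_zero _ ?_
    rw [Ne, CharP.cast_eq_zero_iff _ p]
    exact fun h => hqp ((Nat.prime_dvd_prime_iff_eq Fact.out Fact.out).1 h).symm
  obtain ⟨U, hU, hUs, k, hk, w, hw, hkw⟩ : ∃ (U : Submodule F V)
      (hU : ∀ g : G0, ∀ w ∈ U, σ g w ∈ U),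
      @IsSimpleRep F _ G0 _ U _ _ (subRep σ U hU) ∧
      ∃ k ∈ Q.subgroupOf G0, ∃ w ∈ U, σ k w ≠ w := by
    by_contra hcon
    push Not at hcon
    obtain ⟨g, hg, hg1⟩ := hne
    refine hg1 ?_
    have h0 := triv_of_simple σ (Q.subgroupOf G0) hcard hcon ⟨g, hQG0 hg⟩ hg
    rw [hσ] at h0
    exact h0
  haveI := hUs.1
  obtain ⟨x0, hx0⟩ : ∃ x0 : G0, (x0 : G) = x := ⟨⟨x, hxG0⟩, rfl⟩
  obtain ⟨τ, hτ⟩ : ∃ τ, τ = subRep σ U hU := ⟨_, rfl⟩
  rw [← hτ] at hUs
  obtain ⟨y, hy⟩ : ∃ y, y = x ^ p ^ (n - 1) := ⟨_, rfl⟩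
  rw [← hy] at hQY
  obtain ⟨y0, hy0⟩ : ∃ y0 : G0, (y0 : G) = y := ⟨x0 ^ p ^ (n - 1), by rw [SubmonoidClass.coe_pow, hx0, hy]⟩
  have h1 := irr_bound (p := p) n hqp (Q.subgroupOf G0) hQ.comap_subtype
    (fun a ha b hb c hc => Subtype.ext (hcl _ ha _ hb _ hc).eq) x0
    (by
      refine Subgroup.mem_normalizer_iff.2 fun g => ?_
      simp only [Subgroup.mem_subgroupOf, Subgroup.coe_mul, InvMemClass.coe_inv, hx0]
      exact Subgroup.mem_normalizer_iff.1 hxQ g)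
    τ (fun S hSQ hSx => by
      obtain ⟨St, hSt⟩ := exists_stab τ S
      have htop : St = ⊤ := by
        refine eq_top_iff.2 fun g _ => ?_
        have hle : G0 ≤ St.map G0.subtype := by
          conv_lhs => rw [hG0]
          refine sup_le (fun a ha => ⟨⟨a, hQG0 ha⟩, (hSt _).2 (hSQ ⟨a, hQG0 ha⟩ ha), rfl⟩) ?_
          rw [Subgroup.zpowers_le]
          exact ⟨x0, (hSt _).2 hSx, hx0⟩
        obtain ⟨g', hg', he⟩ := hle g.2
        rwa [← Subtype.ext he]
      exact hUs.2 S fun g => (hSt g).1 (htop ▸ Subgroup.mem_top g))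
    (by rw [← map_pow, show x0 ^ p ^ n = 1 from Subtype.ext (by
      rw [SubmonoidClass.coe_pow, hx0, hxn, OneMemClass.coe_one]), map_one])
    (fun g hg => by
      rw [show x0 ^ p ^ n = 1 from Subtype.ext (by
        rw [SubmonoidClass.coe_pow, hx0, hxn, OneMemClass.coe_one])]
      exact Commute.one_left g)
    (fun g hg hgy l hl => Subtype.ext (hC _ hg (by
      have := congrArg Subtype.val hgy.eq
      exact (by simpa [hx0] using this : x ^ p ^ (n - 1) * (g : G) = g * x ^ p ^ (n - 1))) _ hl).eq)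
    (by
      rw [show x0 ^ p ^ (n - 1) = y0 from Subtype.ext (by rw [SubmonoidClass.coe_pow, hx0, hy0, hy])]
      by_contra hcon
      push Not at hcon
      refine hkw ?_
      have hker : Q.subgroupOf G0 ≤ τ.ker := by
        intro g hg
        have hle : Q ≤ τ.ker.map G0.subtype := by
          conv_lhs => rw [← hQY]
          refine Subgroup.commutator_le.2 fun a ha b hb => ?_
          obtain ⟨j, rfl⟩ := hb
          refine ⟨⁅(⟨a, hQG0 ha⟩ : G0), y0 ^ j⁆, ?_, ?_⟩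
          · rw [SetLike.mem_coe, MonoidHom.mem_ker]
            have hc' : Commute (τ.toHomUnits y0) (τ.toHomUnits ⟨a, hQG0 ha⟩) :=
              Units.ext (hcon ⟨a, hQG0 ha⟩ ha).eq
            rw [← MonoidHom.coe_toHomUnits, map_commutatorElement, map_zpow,
              commutatorElement_eq_one_iff_commute.2 (hc'.zpow_left j).symm, Units.val_one]
          · show G0.subtype _ = _
            rw [map_commutatorElement, map_zpow]
            simp [hy0]
        obtain ⟨g', hg', he⟩ := hle hg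
        rwa [← Subtype.ext he]
      have h2 := congrArg Subtype.val (LinearMap.congr_fun (MonoidHom.mem_ker.1 (hker hk)) ⟨w, hw⟩)
      rw [hτ, subRep_apply] at h2
      exact h2)
    s (LinearMap.ext fun v => Subtype.ext (by
      have h2 : ∀ (i : ℕ) (v : U), ((((τ x0 - 1) ^ i) v : U) : V) =
          ((ρ x - 1) ^ i) (v : V) := by
        intro i
        induction i with
        | zero => intro v; simp
        | succ i ihi =>
          intro v
          rw [pow_succ', pow_succ', Module.End.mul_apply,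
            Module.End.mul_apply, LinearMap.sub_apply, LinearMap.sub_apply, Module.End.one_apply,
            Module.End.one_apply, AddSubgroupClass.coe_sub, hτ, subRep_apply, hσ, hx0, ← hτ, ihi]
      rw [h2, hs]; rfl))
  rcases h1 with h | ⟨n₀, b, e1, e2, e3, e4, e5, e6⟩
  · exact Or.inl h
  · refine Or.inr ⟨n₀, b, e1, e2, e3, e4, fun hab => e5 ⟨⟨fun a c => Subtype.ext (Subtype.ext ?_)⟩⟩, e6⟩
    have h9 := congrArg Subtype.val (hab.is_comm.comm ⟨((a : G0) : G), a.2⟩ ⟨((c : G0) : G), c.2⟩)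
    exact h9

/-- Theorem B for a `q`-group moved by a `p`-element, over any field of characteristic `p`. -/
theorem rep_bound {F : Type*} [Field F] {p : ℕ} [Fact p.Prime] [CharP F p] {G : Type*} [Group G]
    [Finite G] {q : ℕ} [Fact q.Prime] (hqp : q ≠ p) (Q : Subgroup G) (hQ : IsPGroup q Q) (x : G)
    (hxQ : x ∈ Subgroup.normalizer (Q : Set G)) (hcl : ∀ a ∈ Q, ∀ b ∈ Q, ∀ c ∈ Q, Commute ⁅a, b⁆ c)
    (n : ℕ) (hxn : x ^ p ^ n = 1)
    (hC : ∀ g ∈ Q, Commute (x ^ p ^ (n - 1)) g → ∀ k ∈ Q, Commute g k)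
    (hQY : ⁅Q, Subgroup.zpowers (x ^ p ^ (n - 1))⁆ = Q)
    {V : Type*} [AddCommGroup V] [Module F V] [FiniteDimensional F V] (ρ : G →* Module.End F V)
    (hne : ∃ g ∈ Q, ρ g ≠ 1) (s : ℕ) (hs : (ρ x - 1) ^ s = 0) :
    Bound p q n s (¬ IsMulCommutative Q) := by
  obtain ⟨β, hβdef⟩ : ∃ β, β = Module.End.baseChangeHom F (AlgebraicClosure F) V := ⟨_, rfl⟩
  have hβ : Function.Injective β := hβdef ▸ LinearMap.baseChangeHom_injective F V (AlgebraicClosure F)
  haveI : CharP (AlgebraicClosure F) p :=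
    charP_of_injective_algebraMap (algebraMap F (AlgebraicClosure F)).injective p
  obtain ⟨g, hg, hg1⟩ := hne
  exact rep_bound_closed hqp Q hQ x hxQ hcl n hxn hC hQY
    ((β : Module.End F V →* _).comp ρ)
    ⟨g, hg, fun h => hg1 (hβ (h.trans (map_one β).symm))⟩ s (by
      show (β (ρ x) - 1) ^ s = 0
      rw [show β (ρ x) - 1 = β (ρ x - 1) by simp, ← map_pow, hs, map_zero])

end Cfsg.Agent.Solv.ThmB
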