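import Cfsg.Agent.Lib.Solv.TwoConjGen
import Cfsg.Agent.Lib.Solv.PGroupPhi
import Cfsg.Agent.Lib.Solv.Cores
import Cfsg.Agent.Lib.Fusion.Cores

/-!
For a maximal solvable subgroup `A` generated by two conjugates of a subgroup of prime order `p > 3`,
the Fitting subgroup of `A` and any nilpotent subgroup normalised by `A` generate a nilpotent group.
-/

set_option autoImplicit false
set_option linter.style.haveILetI false

namespace Cfsg.Agent.Solv.TwoConj

open scoped commutatorElement Pointwise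

variable {G : Type*} [Group G] [Finite G] {p : ℕ} [hpf : Fact p.Prime]

theorem normalizes_map_subtype {A : Subgroup G} (V : Subgroup G)
    (hAV : A ≤ Subgroup.normalizer (V : Set G)) (K : Subgroup V) [K.Characteristic] :
    A ≤ Subgroup.normalizer ((K.map V.subtype : Subgroup G) : Set G) := fun g hg => by
  have key : ∀ h ∈ Subgroup.normalizer (V : Set G), ∀ y ∈ K.map V.subtype, h * y * h⁻¹ ∈ K.map V.subtype := by
    rintro h hh _ ⟨y, hy, rfl⟩
    have hc := (inferInstance : K.Characteristic).fixed (Subgroup.normalizerMonoidHom V ⟨h, hh⟩)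
    refine ⟨Subgroup.normalizerMonoidHom V ⟨h, hh⟩ y, ?_, rfl⟩
    rw [← hc] at hy
    exact hy
  refine mem_normalizer_of_conj_smul (Subgroup.eq_of_le_of_card_ge ?_ (by rw [card_conj_smul]))
  rw [conj_smul_eq_map]
  rintro _ ⟨y, hy, rfl⟩
  exact key g (hAV hg) y hy

/-- The commuting step. -/
theorem commute_step (h3 : 3 < p) (P A : Subgroup G) (hP : Nat.card P = p) {a : G} (ha : a ∈ A)
    (hA : A = P ⊔ P.map (MulAut.conj a).toMonoidHom) (hAs : Group.IsSolvable A)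
    (hmax : ∀ B : Subgroup G, A ≤ B → Group.IsSolvable ↥B →
      (∃ b ∈ B, B = P ⊔ P.map (MulAut.conj b).toMonoidHom) → B = A)
    {r q : ℕ} [Fact r.Prime] [Fact q.Prime] (hrq : r ≠ q) (R : Subgroup G) (hRA : R ≤ A)
    (hR : IsPGroup r R) (hAR : A ≤ Subgroup.normalizer (R : Set G))
    (hRq : ∀ U ≤ A, IsPGroup q U → A ≤ Subgroup.normalizer (U : Set G) →
      U ≤ Subgroup.centralizer (R : Set G))
    (U₀ : Subgroup G) (hU₀ : IsPGroup q U₀) (hAU₀ : A ≤ Subgroup.normalizer (U₀ : Set G)) :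
    U₀ ≤ Subgroup.centralizer (R : Set G) := by
  classical
  haveI := hAs
  by_contra hmove
  obtain ⟨U, ⟨hUU₀, hAU, hUR⟩, hmin⟩ := exists_minimal_of_wellFoundedLT
    (fun U : Subgroup G => U ≤ U₀ ∧ A ≤ Subgroup.normalizer (U : Set G) ∧
      ¬ U ≤ Subgroup.centralizer (R : Set G)) ⟨U₀, le_rfl, hAU₀, hmove⟩
  have hUq : IsPGroup q U := hU₀.to_le hUU₀
  have hsmall : ∀ S : Subgroup G, S ≤ U → A ≤ Subgroup.normalizer (S : Set G) → S ≠ U →
      S ≤ Subgroup.centralizer (R : Set G) := fun S hS hAS hne => by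
    by_contra h
    exact hne (le_antisymm hS (hmin ⟨hS.trans hUU₀, hAS, h⟩ hS))
  -- `⁅U, R⁆ = U`
  have hRU : R ≤ Subgroup.normalizer (U : Set G) := hRA.trans hAU
  have hcomm : ⁅U, R⁆ = U := by
    have hle : ⁅U, R⁆ ≤ U := Subgroup.commutator_le.2 fun u hu ρ hρ => by
      rw [_root_.commutatorElement_def]; exact comm_mem_of_mem_normalizer (hRU hρ) hu
    by_contra hne
    refine hUR fun u hu => Subgroup.mem_centralizer_iff.2 fun ρ hρ => ?_
    have hnorm : A ≤ Subgroup.normalizer ((⁅U, R⁆ : Subgroup G) : Set G) := fun g hg => by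
      refine mem_normalizer_of_conj_smul ?_
      rw [conj_smul_eq_map, Subgroup.map_commutator, ← conj_smul_eq_map, ← conj_smul_eq_map,
        conj_smul_of_mem_normalizer (hAU hg), conj_smul_of_mem_normalizer (hAR hg)]
    obtain ⟨w, hw⟩ : ∃ w, w = ⁅u, ρ⁆ := ⟨_, rfl⟩
    have hwU : w ∈ ⁅U, R⁆ := hw ▸ Subgroup.commutator_mem_commutator hu hρ
    have hwc : ρ * w = w * ρ :=
      Subgroup.mem_centralizer_iff.1 (hsmall _ hle hnorm hne hwU) ρ hρ
    have hpow : ∀ k : ℕ, u * ρ ^ k * u⁻¹ = w ^ k * ρ ^ k := by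
      intro k
      induction k with
      | zero => simp
      | succ k ih =>
        have h1 : u * ρ * u⁻¹ = w * ρ := by rw [hw, _root_.commutatorElement_def]; group
        rw [pow_succ ρ, show u * (ρ ^ k * ρ) * u⁻¹ = u * ρ ^ k * u⁻¹ * (u * ρ * u⁻¹) by group, ih, h1,
          pow_succ w, ← mul_assoc, mul_assoc (w ^ k) (ρ ^ k) w, ((Commute.pow_left hwc k)).eq]
        simp only [mul_assoc]
    obtain ⟨i, hi⟩ := IsPGroup.iff_card.1 hR
    have hρi : ρ ^ r ^ i = 1 := by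
      have := congrArg Subtype.val (pow_card_eq_one' (x := (⟨ρ, hρ⟩ : R)))
      rwa [hi, SubmonoidClass.coe_pow] at this
    have hwi := hpow (r ^ i)
    rw [hρi, mul_one, mul_inv_cancel, mul_one, eq_comm] at hwi
    obtain ⟨j, hj⟩ := hUq ⟨w, hle hwU⟩
    have hwj : w ^ q ^ j = 1 := congrArg Subtype.val hj
    have h1 := pow_gcd_eq_one.2 ⟨hwi, hwj⟩
    rw [(((Nat.coprime_primes Fact.out Fact.out).2 hrq).pow i j).gcd_eq_one, pow_one, hw,
      commutatorElement_eq_one_iff_mul_comm] at h1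
    exact h1.symm
  have hUne : U ≠ ⊥ := fun h => hUR (h ▸ bot_le)
  -- `U` is not inside `A`
  have hUA : ¬ U ≤ A := fun h => hUR (hRq U h hUq hAU)
  -- the Frattini subgroup
  obtain ⟨Φ, hΦ⟩ : ∃ Φ : Subgroup G, Φ = (frattini U).map U.subtype := ⟨_, rfl⟩
  have hΦU : Φ ≤ U := hΦ ▸ Subgroup.map_subtype_le _
  have hAΦ : A ≤ Subgroup.normalizer (Φ : Set G) := hΦ ▸ normalizes_map_subtype U hAU (frattini U)
  have hUΦn : U ≤ Subgroup.normalizer (Φ : Set G) :=
    hΦ ▸ normalizes_map_subtype U Subgroup.le_normalizer (frattini U)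
  have hΦgen : ∀ S : Subgroup G, S ≤ U → S ⊔ Φ = U → S = U := by
    intro S hS h
    refine le_antisymm hS ?_
    rw [← Subgroup.subgroupOf_eq_top]
    refine frattini_nongenerating ?_
    rw [eq_top_iff]
    intro u _
    have hu : (u : G) ∈ ((S.subgroupOf U) ⊔ frattini U).map U.subtype := by
      rw [Subgroup.map_sup, Subgroup.subgroupOf_map_subtype, inf_eq_left.2 hS, ← hΦ, h]
      exact u.2
    obtain ⟨u', hu', e⟩ := hu
    rwa [← Subtype.ext e]
  -- the section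
  obtain ⟨H, hH⟩ : ∃ H : Subgroup G, H = A ⊔ U := ⟨_, rfl⟩
  have hAH : A ≤ H := hH ▸ le_sup_left
  have hUH : U ≤ H := hH ▸ le_sup_right
  have hΦH : Φ ≤ H := hΦU.trans hUH
  have hHU : H ≤ Subgroup.normalizer (U : Set G) := hH ▸ sup_le hAU Subgroup.le_normalizer
  have hHΦ : H ≤ Subgroup.normalizer (Φ : Set G) := hH ▸ sup_le hAΦ hUΦn
  haveI : (Φ.subgroupOf H).Normal := Subgroup.normal_subgroupOf_of_le_normalizer hHΦ
  haveI hUn : (U.subgroupOf H).Normal := Subgroup.normal_subgroupOf_of_le_normalizer hHU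
  obtain ⟨π, hπ⟩ : ∃ π : H →* H ⧸ Φ.subgroupOf H, π = QuotientGroup.mk' (Φ.subgroupOf H) := ⟨_, rfl⟩
  have hπs : Function.Surjective π := hπ ▸ QuotientGroup.mk'_surjective _
  have hker : ∀ h : H, π h = 1 ↔ (h : G) ∈ Φ := fun h => by
    rw [hπ, QuotientGroup.mk'_apply, QuotientGroup.eq_one_iff, Subgroup.mem_subgroupOf]
  let im : Subgroup G → Subgroup (H ⧸ Φ.subgroupOf H) := fun S => (S.subgroupOf H).map π
  have him : ∀ {S : Subgroup G}, S ≤ H → ∀ {z}, z ∈ im S ↔ ∃ h : H, (h : G) ∈ S ∧ π h = z :=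
    fun _ => Iff.rfl
  haveI hNn : (im U).Normal := hUn.map π hπs
  have hHdec : ∀ h ∈ H, ∃ g ∈ A, ∃ u ∈ U, h = g * u := by
    intro h hh
    rw [hH] at hh
    rw [← SetLike.mem_coe, Subgroup.coe_mul_of_left_le_normalizer_right _ _ hAU, Set.mem_mul] at hh
    obtain ⟨g, hg, u, hu, e⟩ := hh
    exact ⟨g, hg, u, hu, e.symm⟩
  have hN : Cfsg.IsElementaryAbelian q (im U) := by
    refine ⟨⟨⟨fun y z => ?_⟩⟩, fun z hz => ?_⟩
    · obtain ⟨_, h₁, hh₁, rfl⟩ := y
      obtain ⟨_, h₂, hh₂, rfl⟩ := z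
      refine Subtype.ext ?_
      show π h₁ * π h₂ = π h₂ * π h₁
      rw [← map_mul, ← map_mul, ← mul_inv_eq_one, ← map_inv, ← map_mul, hker, hΦ]
      refine ⟨⁅(⟨(h₁ : G), hh₁⟩ : U), ⟨(h₂ : G), hh₂⟩⁆, commutatorElement_mem_frattini hUq _ _, ?_⟩
      show (h₁ : G) * h₂ * (h₁ : G)⁻¹ * (h₂ : G)⁻¹ = (h₁ : G) * h₂ * ((h₂ : G) * h₁)⁻¹
      group
    · obtain ⟨h, hh, rfl⟩ := hz
      rw [← map_pow, hker, hΦ]
      exact ⟨(⟨(h : G), hh⟩ : U) ^ q, pow_mem_frattini hUq _, rfl⟩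
  have hNne : im U ≠ ⊥ := by
    intro h0
    apply hUne
    have hle : U ≤ Φ := fun u hu => (hker ⟨u, hUH hu⟩).1 ((Subgroup.eq_bot_iff_forall _).1 h0 _
      ⟨⟨u, hUH hu⟩, hu, rfl⟩)
    exact (hΦgen ⊥ bot_le (by rw [bot_sup_eq]; exact le_antisymm hΦU hle)).symm
  -- irreducibility
  have hCbot : im U ⊓ Subgroup.centralizer (im R : Set (H ⧸ Φ.subgroupOf H)) = ⊥ := by
    have hIR : IsPGroup r (im R) := IsPGroup.map
      (hR.of_equiv (Subgroup.subgroupOfEquivOfLe (hRA.trans hAH)).symm) π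
    refine inf_centralizer_eq_bot (im U) hN hrq (im R) hIR ?_
    rintro _ ⟨h, hh, rfl⟩
    have hmem : (h : G) ∈ ⁅U, R⁆ := hcomm.symm ▸ hh
    have hle : ⁅U, R⁆ ≤ ((⁅im U, im R⁆).comap π).map H.subtype := Subgroup.commutator_le.2 fun u hu ρ hρ =>
      ⟨⁅(⟨u, hUH hu⟩ : H), ⟨ρ, hAH (hRA hρ)⟩⁆, by
        rw [SetLike.mem_coe, Subgroup.mem_comap, map_commutatorElement]
        exact Subgroup.commutator_mem_commutator ⟨_, hu, rfl⟩ ⟨_, hρ, rfl⟩, rfl⟩
    obtain ⟨h', hh', e⟩ := hle hmem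
    rwa [show h = h' from Subtype.ext e.symm]
  have hirr : ∀ S ≤ im U, (∀ g ∈ im A, ∀ s ∈ S, g * s * g⁻¹ ∈ S) → S = ⊥ ∨ S = im U := by
    intro S hS hinv
    obtain ⟨S0, hS0⟩ : ∃ S0 : Subgroup G, S0 = (S.comap π).map H.subtype ⊓ U := ⟨_, rfl⟩
    have hmemS0 : ∀ u ∈ U, (u ∈ S0 ↔ ∀ h : H, (h : G) = u → π h ∈ S) := by
      intro u hu
      rw [hS0]
      constructor
      · rintro ⟨⟨h', hh', e⟩, -⟩ h rfl
        rw [show h = h' from Subtype.ext e.symm]; exact hh'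
      · exact fun hall => ⟨⟨⟨u, hUH hu⟩, hall _ rfl, rfl⟩, hu⟩
    have hS0U : S0 ≤ U := hS0 ▸ inf_le_right
    have hAS0 : A ≤ Subgroup.normalizer (S0 : Set G) := fun g hg => by
      refine mem_normalizer_of_conj_smul (Subgroup.eq_of_le_of_card_ge ?_ (by rw [card_conj_smul]))
      rw [conj_smul_eq_map]
      rintro _ ⟨u, hu, rfl⟩
      refine (hmemS0 _ ((Subgroup.mem_normalizer_iff.1 (hAU hg) u).1 (hS0U hu))).2 fun h he => ?_
      have h1 := hinv (π ⟨g, hAH hg⟩) ⟨_, hg, rfl⟩ _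
        ((hmemS0 u (hS0U hu)).1 hu ⟨u, hUH (hS0U hu)⟩ rfl)
      rw [← map_inv, ← map_mul, ← map_mul] at h1
      rwa [show h = (⟨g, hAH hg⟩ : H) * ⟨u, hUH (hS0U hu)⟩ * (⟨g, hAH hg⟩ : H)⁻¹ from Subtype.ext he]
    by_cases he : S0 = U
    · refine Or.inr (le_antisymm hS ?_)
      rintro _ ⟨h, hh, rfl⟩
      exact (hmemS0 _ hh).1 (he.symm ▸ hh) h rfl
    · refine Or.inl (eq_bot_iff.2 fun z hz => ?_)
      rw [← hCbot]
      refine ⟨hS hz, Subgroup.mem_centralizer_iff.2 ?_⟩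
      obtain ⟨h, hh, rfl⟩ := hS hz
      rintro _ ⟨ρ, hρ, rfl⟩
      have hu : (h : G) ∈ S0 := (hmemS0 _ hh).2 fun h' e => by rw [Subtype.ext e]; exact hz
      rw [← map_mul, ← map_mul]
      congr 1
      exact Subtype.ext (Subgroup.mem_centralizer_iff.1 (hsmall S0 hS0U hAS0 he hu) (ρ : G) hρ)
  -- hypotheses
  have hsup : im A ⊔ im U = ⊤ := by
    rw [eq_top_iff]
    intro z _
    obtain ⟨h, rfl⟩ := hπs z
    obtain ⟨g, hg, u, hu, e⟩ := hHdec h h.2
    rw [show h = (⟨g, hAH hg⟩ : H) * ⟨u, hUH hu⟩ from Subtype.ext e, map_mul]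
    exact mul_mem (Subgroup.mem_sup_left ⟨_, hg, rfl⟩) (Subgroup.mem_sup_right ⟨_, hu, rfl⟩)
  have hinf : im A ⊓ im U = ⊥ := by
    have hAUΦ : A ⊓ U ≤ Φ := by
      by_contra hle
      -- `(A ⊓ U) Φ / Φ` is invariant
      rcases hirr (im (A ⊓ U)) (fun z ⟨h, hh, e⟩ => ⟨h, hh.2, e⟩) (by
        rintro _ ⟨g, hg, rfl⟩ _ ⟨s, hs, rfl⟩
        rw [← map_inv, ← map_mul, ← map_mul]
        exact ⟨g * s * g⁻¹, ⟨A.mul_mem (A.mul_mem hg hs.1) (A.inv_mem hg),
          (Subgroup.mem_normalizer_iff.1 (hAU hg) _).1 hs.2⟩, rfl⟩) with h0 | h0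
      · exact hle fun u hu => (hker ⟨u, hUH hu.2⟩).1
          ((Subgroup.eq_bot_iff_forall _).1 h0 _ ⟨⟨u, hUH hu.2⟩, hu, rfl⟩)
      · apply hUA
        have h1 : (A ⊓ U) = U := by
          refine hΦgen _ inf_le_right (le_antisymm (sup_le inf_le_right hΦU) fun u hu => ?_)
          obtain ⟨h, hh, e⟩ := (SetLike.ext_iff.1 h0 _).2 (⟨⟨u, hUH hu⟩, hu, rfl⟩ : π ⟨u, hUH hu⟩ ∈ im U)
          rw [← inv_mul_eq_one, ← map_inv, ← map_mul, hker] at e
          rw [show u = (h : G) * ((h : G)⁻¹ * u) by group]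
          exact mul_mem (Subgroup.mem_sup_left hh) (Subgroup.mem_sup_right e)
        exact inf_eq_right.1 h1
    rw [eq_bot_iff]
    rintro _ ⟨⟨g, hg, rfl⟩, ⟨u, hu, e⟩⟩
    rw [Subgroup.mem_bot, hker]
    refine hAUΦ ⟨hg, ?_⟩
    rw [← inv_mul_eq_one, ← map_inv, ← map_mul, hker] at e
    have : (g : G) = (u : G) * ((u : G)⁻¹ * g) := by group
    rw [this]
    exact U.mul_mem hu (hΦU e)
  have hPA : P ≤ A := hA ▸ le_sup_left
  have hcardP : Nat.card (im P) = p := by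
    rw [← hP]
    refine le_antisymm ?_ ?_
    · refine Nat.card_le_card_of_surjective (fun y : P => (⟨π ⟨y, hAH (hPA y.2)⟩, ⟨_, y.2, rfl⟩⟩ : im P)) ?_
      rintro ⟨_, h, hh, rfl⟩
      exact ⟨⟨h, hh⟩, rfl⟩
    · rcases (Nat.dvd_prime hpf.out).1 (show Nat.card (im P) ∣ p by
        rw [← hP, ← card_subgroupOf (hPA.trans hAH)]
        exact Subgroup.card_map_dvd _ _) with h1 | h1
      · exfalso
        -- `P` would lie in `Φ`
        have hPΦ : ∀ y ∈ P, y ∈ Φ := fun y hy => (hker ⟨y, hAH (hPA hy)⟩).1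
          ((Subgroup.eq_bot_iff_forall _).1 (Subgroup.card_eq_one.1 h1) _ ⟨⟨y, hAH (hPA hy)⟩, hy, rfl⟩)
        have hAleU : A ≤ U := by
          rw [hA]
          refine sup_le (fun y hy => hΦU (hPΦ y hy)) ?_
          rintro _ ⟨y, hy, rfl⟩
          exact (Subgroup.mem_normalizer_iff.1 (hAU ha) y).1 (hΦU (hPΦ y hy))
        obtain ⟨i, hi⟩ := IsPGroup.iff_card.1 (hUq.to_le (hRA.trans hAleU))
        obtain ⟨j, hj⟩ := IsPGroup.iff_card.1 hR
        have hRbot : R = ⊥ := by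
          rw [← Subgroup.card_eq_one]
          have := Nat.coprime_self (Nat.card R)
          have hc : Nat.Coprime (Nat.card R) (Nat.card R) := by
            conv_lhs => rw [hj]
            rw [hi]
            exact ((Nat.coprime_primes Fact.out Fact.out).2 hrq).pow j i
          exact this.1 hc
        exact hUR (fun u _ => Subgroup.mem_centralizer_iff.2 fun y hy => by
          rw [hRbot, SetLike.mem_coe, Subgroup.mem_bot] at hy
          rw [hy, one_mul, mul_one])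
      · rw [h1, hP]
  have hmapconj : ∀ (S : Subgroup G) (hS : S ≤ H) (g : H),
      im (S.map (MulAut.conj (g : G)).toMonoidHom) = (im S).map (MulAut.conj (π g)).toMonoidHom := by
    intro S hS g
    ext z
    constructor
    · rintro ⟨h, ⟨y, hy, e⟩, rfl⟩
      refine ⟨π ⟨y, hS hy⟩, ⟨_, hy, rfl⟩, ?_⟩
      show π g * π ⟨y, hS hy⟩ * (π g)⁻¹ = π h
      rw [← map_inv, ← map_mul, ← map_mul]
      exact congrArg π (Subtype.ext e)
    · rintro ⟨_, ⟨h, hh, rfl⟩, rfl⟩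
      exact ⟨g * h * g⁻¹, ⟨h, hh, rfl⟩, by
        show π (g * h * g⁻¹) = π g * π h * (π g)⁻¹
        rw [map_mul, map_mul, map_inv]⟩
  have himsup : ∀ S T : Subgroup G, S ≤ H → T ≤ H → im (S ⊔ T) = im S ⊔ im T := fun S T hS hT => by
    show ((S ⊔ T).subgroupOf H).map π = _
    rw [Subgroup.subgroupOf_sup hS hT, Subgroup.map_sup]
  have hPaH : P.map (MulAut.conj a).toMonoidHom ≤ H := (hA ▸ le_sup_right).trans hAH
  haveI : Group.IsSolvable (A.subgroupOf H) :=
    Group.isSolvable_of_surjective (f := (Subgroup.subgroupOfEquivOfLe hAH).symm.toMonoidHom)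
      (Subgroup.subgroupOfEquivOfLe hAH).symm.surjective
  haveI : Group.IsSolvable (im A) :=
    Group.isSolvable_of_surjective (π.subgroupMap_surjective (A.subgroupOf H))
  have hRn : im A ≤ Subgroup.normalizer (im R : Set (H ⧸ Φ.subgroupOf H)) := by
    rintro _ ⟨g, hg, rfl⟩
    refine mem_normalizer_of_conj_smul ?_
    rw [conj_smul_eq_map, ← hmapconj R (hRA.trans hAH) g, ← conj_smul_eq_map (g : G),
      conj_smul_of_mem_normalizer (hAR hg : (g : G) ∈ _)]
  obtain ⟨v, hv, hgen⟩ := exists_gen (p := p) (q := q) h3 (im A) (im U) hN hNne (im P) hcardP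
    (a := π ⟨a, hAH ha⟩) ⟨_, ha, rfl⟩
    (by rw [← hmapconj P (hPA.trans hAH) ⟨a, hAH ha⟩, ← himsup _ _ (hPA.trans hAH) hPaH, ← hA])
    hirr hsup hinf hrq (im R) (Subgroup.map_mono fun h hh => hRA hh)
    (IsPGroup.map (hR.of_equiv (Subgroup.subgroupOfEquivOfLe (hRA.trans hAH)).symm) π) hRn hCbot
  obtain ⟨v₀, hv₀, rfl⟩ := hv
  -- lift
  obtain ⟨b, hb⟩ : ∃ b : H, b = v₀ * ⟨a, hAH ha⟩ := ⟨_, rfl⟩
  obtain ⟨B, hB⟩ : ∃ B, B = P ⊔ P.map (MulAut.conj (b : G)).toMonoidHom := ⟨_, rfl⟩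
  have hPbH : P.map (MulAut.conj (b : G)).toMonoidHom ≤ H := by
    rintro _ ⟨y, hy, rfl⟩
    exact H.mul_mem (H.mul_mem b.2 (hAH (hPA hy))) (H.inv_mem b.2)
  have hBH : B ≤ H := hB ▸ sup_le (hPA.trans hAH) hPbH
  have hBtop : im B = ⊤ := by
    rw [hB, himsup _ _ (hPA.trans hAH) hPbH, hmapconj P (hPA.trans hAH) b, hb, map_mul]
    exact hgen
  have hBU : U ≤ B := by
    have h1 : B ⊓ U = U := by
      refine hΦgen _ inf_le_right (le_antisymm (sup_le inf_le_right hΦU) fun u hu => ?_)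
      obtain ⟨h, hh, e⟩ := (SetLike.ext_iff.1 hBtop (π ⟨u, hUH hu⟩)).2 (Subgroup.mem_top _)
      rw [← inv_mul_eq_one, ← map_inv, ← map_mul, hker] at e
      have e' : (h : G)⁻¹ * u ∈ Φ := e
      have hhU : (h : G) ∈ U := by
        have := U.mul_mem hu (U.inv_mem (hΦU e'))
        rwa [mul_inv_rev, inv_inv, mul_inv_cancel_left] at this
      rw [show u = (h : G) * ((h : G)⁻¹ * u) by group]
      exact mul_mem (Subgroup.mem_sup_left ⟨hh, hhU⟩) (Subgroup.mem_sup_right e')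
    exact inf_eq_right.1 h1
  have hHB : H ≤ B := by
    intro h hh
    obtain ⟨h', hh', e⟩ := (SetLike.ext_iff.1 hBtop (π ⟨h, hh⟩)).2 (Subgroup.mem_top _)
    rw [← inv_mul_eq_one, ← map_inv, ← map_mul, hker] at e
    rw [show h = (h' : G) * ((h' : G)⁻¹ * h) by group]
    exact B.mul_mem hh' (hBU (hΦU e))
  have hBeq : B = H := le_antisymm hBH hHB
  -- solvability of `H`
  haveI : Group.IsNilpotent U := hUq.isNilpotent
  have hHs : Group.IsSolvable H := by
    haveI : Group.IsSolvable (H ⧸ U.subgroupOf H) := by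
      refine Group.isSolvable_of_surjective
        (f := (QuotientGroup.mk' (U.subgroupOf H)).comp (A.subgroupOf H).subtype) fun c => ?_
      obtain ⟨h, rfl⟩ := QuotientGroup.mk_surjective c
      obtain ⟨g, hg, u, hu, e⟩ := hHdec h h.2
      refine ⟨⟨⟨g, hAH hg⟩, hg⟩, ?_⟩
      show QuotientGroup.mk (⟨g, hAH hg⟩ : H) = QuotientGroup.mk h
      rw [QuotientGroup.eq, Subgroup.mem_subgroupOf]
      show g⁻¹ * (h : G) ∈ U
      rw [e, inv_mul_cancel_left]
      exact hu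
    haveI : Group.IsSolvable (U.subgroupOf H) :=
      Group.isSolvable_of_surjective (f := (Subgroup.subgroupOfEquivOfLe hUH).symm.toMonoidHom)
        (Subgroup.subgroupOfEquivOfLe hUH).symm.surjective
    exact Group.isSolvable_of_ker_le_range (U.subgroupOf H).subtype (QuotientGroup.mk' (U.subgroupOf H))
      (by rw [QuotientGroup.ker_mk', Subgroup.range_subtype])
  have := hmax B (hBeq ▸ hAH) (hBeq ▸ hHs) ⟨b, hBeq ▸ b.2, hB⟩
  exact hUA (hBU.trans this.le)

/-- A group generated by subgroups of prime power orders, commuting for distinct primes. -/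
theorem isNilpotent_iSup (S : Nat.Primes → Subgroup G) (hS : ∀ r : Nat.Primes, IsPGroup (r : ℕ) (S r))
    (hc : ∀ r s : Nat.Primes, r ≠ s → S r ≤ Subgroup.centralizer (S s : Set G)) :
    Group.IsNilpotent (⨆ r, S r : Subgroup G) := by
  obtain ⟨K, hK⟩ : ∃ K, K = (⨆ r, S r : Subgroup G) := ⟨_, rfl⟩
  rw [← hK]
  have htop : (⊤ : Subgroup K) ≤ Cfsg.fittingSubgroup K := by
    have hle : K ≤ (Cfsg.fittingSubgroup K).map K.subtype := by
      conv_lhs => rw [hK]
      refine iSup_le fun r => ?_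
      have hrK : S r ≤ K := hK ▸ le_iSup S r
      have hnorm : K ≤ Subgroup.normalizer (S r : Set G) := by
        rw [hK]
        refine iSup_le fun s => ?_
        by_cases h : s = r
        · rw [h]; exact Subgroup.le_normalizer
        · exact (hc s r h).trans (Subgroup.centralizer_le_normalizer _)
      haveI := Subgroup.normal_subgroupOf_of_le_normalizer hnorm
      haveI := Fact.mk r.2
      have h1 := normal_le_fitting (N := (S r).subgroupOf K)
        ((hS r).of_equiv (Subgroup.subgroupOfEquivOfLe hrK).symm).isNilpotent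
      exact fun y hy => ⟨⟨y, hrK hy⟩, h1 hy, rfl⟩
    intro k _
    obtain ⟨k', hk', e⟩ := hle k.2
    rwa [← Subtype.ext e]
  haveI := fittingSubgroup_nilpotent (G := K)
  exact (Group.isNilpotent_congr Subgroup.topEquiv).1 (isNilpotent_of_le htop inferInstance)

/-- The theorem. -/
theorem fitting_join_nilpotent (h3 : 3 < p) (P A : Subgroup G) (hP : Nat.card P = p) {a : G} (ha : a ∈ A)
    (hA : A = P ⊔ P.map (MulAut.conj a).toMonoidHom) (hAs : Group.IsSolvable A)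
    (hmax : ∀ B : Subgroup G, A ≤ B → Group.IsSolvable ↥B →
      (∃ b ∈ B, B = P ⊔ P.map (MulAut.conj b).toMonoidHom) → B = A)
    (V : Subgroup G) (hV : Group.IsNilpotent V) (hAV : A ≤ Subgroup.normalizer (V : Set G)) :
    Group.IsNilpotent ((Cfsg.fittingSubgroup A).map A.subtype ⊔ V : Subgroup G) := by
  obtain ⟨R, hRd⟩ : ∃ R : Nat.Primes → Subgroup G,
      R = fun r : Nat.Primes => (Cfsg.pCore (r : ℕ) A).map A.subtype := ⟨_, rfl⟩
  obtain ⟨W, hWd⟩ : ∃ W : Nat.Primes → Subgroup G,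
      W = fun r : Nat.Primes => (Cfsg.pCore (r : ℕ) V).map V.subtype := ⟨_, rfl⟩
  have hRA : ∀ r, R r ≤ A := fun r => by rw [hRd]; exact Subgroup.map_subtype_le _
  have hRp : ∀ r : Nat.Primes, IsPGroup (r : ℕ) (R r) := fun r => by
    haveI := Fact.mk r.2
    rw [hRd]; exact (pCore_isPGroup _).map _
  have hWp : ∀ r : Nat.Primes, IsPGroup (r : ℕ) (W r) := fun r => by
    haveI := Fact.mk r.2
    rw [hWd]; exact (pCore_isPGroup _).map _
  have hAR : ∀ r, A ≤ Subgroup.normalizer (R r : Set G) := fun r => by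
    rw [hRd]
    exact normalizes_map_subtype A Subgroup.le_normalizer _
  have hAW : ∀ r, A ≤ Subgroup.normalizer (W r : Set G) := fun r => by
    rw [hWd]
    exact normalizes_map_subtype V hAV _
  have hcore : ∀ (X : Subgroup G) (r s : Nat.Primes), r ≠ s →
      (Cfsg.pCore (r : ℕ) X).map X.subtype ≤
        Subgroup.centralizer ((Cfsg.pCore (s : ℕ) X).map X.subtype : Set G) := by
    intro X r s hrs
    haveI := Fact.mk r.2
    haveI := Fact.mk s.2
    haveI := pCore_normal (G := X) (r : ℕ)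
    haveI := pCore_normal (G := X) (s : ℕ)
    rintro _ ⟨y, hy, rfl⟩
    refine Subgroup.mem_centralizer_iff.2 ?_
    rintro _ ⟨z, hz, rfl⟩
    have hdisj : Disjoint (Cfsg.pCore (r : ℕ) X) (Cfsg.pCore (s : ℕ) X) :=
      IsPGroup.disjoint_of_ne _ _ (fun h => hrs (Subtype.ext h)) _ _ (pCore_isPGroup _) (pCore_isPGroup _)
    exact (congrArg Subtype.val
      (Subgroup.commute_of_normal_of_disjoint _ _ inferInstance inferInstance hdisj y z hy hz).eq).symm
  have hmain : ∀ r s : Nat.Primes, r ≠ s → W s ≤ Subgroup.centralizer (R r : Set G) := by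
    intro r s hrs
    haveI := Fact.mk r.2
    haveI := Fact.mk s.2
    refine commute_step h3 P A hP ha hA hAs hmax (r := r) (q := s) (fun h => hrs (Subtype.ext h))
      (R r) (hRA r) (hRp r) (hAR r) (fun U hUA hUq hAU => ?_) (W s) (hWp s) (hAW s)
    haveI := Subgroup.normal_subgroupOf_of_le_normalizer hAU
    have h1 : U.subgroupOf A ≤ Cfsg.pCore (s : ℕ) A :=
      normal_le_pCore (hUq.of_equiv (Subgroup.subgroupOfEquivOfLe hUA).symm)
    have h2 : U ≤ (Cfsg.pCore (s : ℕ) A).map A.subtype := fun u hu => ⟨⟨u, hUA hu⟩, h1 hu, rfl⟩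
    rw [hRd]
    exact h2.trans (hcore A s r hrs.symm)
  have hnil : Group.IsNilpotent (⨆ r, R r ⊔ W r : Subgroup G) := by
    refine isNilpotent_iSup _ (fun r => ?_) fun r s hrs => ?_
    · haveI := Fact.mk r.2
      exact (hRp r).to_sup_of_normal_right' (hWp r) ((hRA r).trans (hAW r))
    · refine sup_le ?_ ?_
      · refine Subgroup.le_centralizer_iff.1 (sup_le ?_ (hmain r s hrs))
        rw [hRd]; exact hcore A s r hrs.symm
      · refine Subgroup.le_centralizer_iff.1 (sup_le ?_ ?_)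
        · exact Subgroup.le_centralizer_iff.1 (hmain s r hrs.symm)
        · rw [hWd]; exact hcore V s r hrs.symm
  refine isNilpotent_of_le (sup_le ?_ ?_) hnil
  · rw [fitting_eq_iSup_pCore, Subgroup.map_iSup]
    exact iSup_mono fun r => by rw [hRd]; exact le_sup_left
  · intro v hv
    have h1 : (⊤ : Subgroup V) ≤ Cfsg.fittingSubgroup V :=
      normal_le_fitting (N := (⊤ : Subgroup V)) ((Group.isNilpotent_congr Subgroup.topEquiv).2 hV)
    have h2 : (v : G) ∈ (Cfsg.fittingSubgroup V).map V.subtype := ⟨⟨v, hv⟩, h1 (Subgroup.mem_top _), rfl⟩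
    rw [fitting_eq_iSup_pCore, Subgroup.map_iSup] at h2
    refine (iSup_mono fun r => ?_ :
      (⨆ r : Nat.Primes, (Cfsg.pCore (r : ℕ) V).map V.subtype) ≤ ⨆ r, R r ⊔ W r) h2
    rw [hWd]
    exact le_sup_right

end Cfsg.Agent.Solv.TwoConj
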