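import Cfsg.Prelude.Def_Transfer
import Cfsg.Agent.Lib.Solv.HalfFixMain
import Cfsg.Agent.Lib.Solv.Coprime

/-!
A solvable group generated by two conjugates of a subgroup of prime order `p > 3`, extended by an
irreducible elementary abelian module moved by a coprime normal subgroup, is again generated by two
conjugates of that subgroup.
-/

set_option autoImplicit false
set_option linter.style.haveILetI false

namespace Cfsg.Agent.Solv.TwoConj

open Module Cfsg.Agent.Solv.CRep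
open scoped commutatorElement Pointwise

variable {X : Type*} [Group X] [Finite X]

/-- The half bound without faithfulness. -/
theorem half_fix' {G : Type*} [Group G] [Finite G] [Group.IsSolvable G] {p : ℕ} [Fact p.Prime]
    (h3 : 3 < p) {x : G} (hx : x ^ p = 1) (hgen : Subgroup.normalClosure {x} = ⊤)
    {k : Type*} [Field k] {ℓ : ℕ} [Fact ℓ.Prime] [CharP k ℓ] {V : Type*} [AddCommGroup V]
    [Module k V] [FiniteDimensional k V] (σ : G →* Module.End k V) (hs : IsSimpleRep σ)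
    (hnt : ∃ g, σ g ≠ 1) : 2 * finrank k (LinearMap.ker (σ x - 1)) < finrank k V := by
  let σ' : G ⧸ σ.toHomUnits.ker →* Module.End k V :=
    (Units.coeHom _).comp (QuotientGroup.kerLift σ.toHomUnits)
  have hinj : Function.Injective σ' := fun a b h =>
    QuotientGroup.kerLift_injective σ.toHomUnits (Units.ext h)
  have hs' : IsSimpleRep σ' := ⟨hs.1, fun U hU => hs.2 U fun g w hw => hU (QuotientGroup.mk g) w hw⟩
  have hgen' : Subgroup.normalClosure {(QuotientGroup.mk x : G ⧸ σ.toHomUnits.ker)} = ⊤ := by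
    rw [eq_top_iff]
    intro c _
    obtain ⟨g, rfl⟩ := QuotientGroup.mk_surjective c
    have hle : (⊤ : Subgroup G) ≤ (Subgroup.normalClosure {(QuotientGroup.mk x : G ⧸ σ.toHomUnits.ker)}).comap
        (QuotientGroup.mk' _) := hgen ▸ Subgroup.normalClosure_le_normal
          (Set.singleton_subset_iff.2 (Subgroup.subset_normalClosure (Set.mem_singleton _)))
    exact hle (Subgroup.mem_top g)
  haveI : Nontrivial (G ⧸ σ.toHomUnits.ker) := by
    obtain ⟨g, hg⟩ := hnt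
    refine ⟨QuotientGroup.mk g, 1, fun h => hg ?_⟩
    have : σ' (QuotientGroup.mk g) = 1 := by rw [h, map_one]
    exact this
  exact HalfFix.half_fix (ℓ := ℓ) h3 (x := QuotientGroup.mk x)
    (by rw [← QuotientGroup.mk_pow, hx]; rfl) hgen' σ' hs' hinj

variable {p q : ℕ} [hpf : Fact p.Prime] [hqf : Fact q.Prime]

/-- Some element of the module lies outside the sum of the two fixed subgroups. -/
theorem exists_outside (h3 : 3 < p) (A N : Subgroup X) [hNn : N.Normal] [Group.IsSolvable A]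
    (hN : Cfsg.IsElementaryAbelian q N) (hNne : N ≠ ⊥) (P : Subgroup X) (hP : Nat.card P = p) {a : X}
    (ha : a ∈ A) (hA : A = P ⊔ P.map (MulAut.conj a).toMonoidHom)
    (hirr : ∀ S ≤ N, (∀ g ∈ A, ∀ s ∈ S, g * s * g⁻¹ ∈ S) → S = ⊥ ∨ S = N)
    (hmove : ∃ g ∈ A, ∃ n ∈ N, g * n ≠ n * g) :
    ∃ v ∈ N, v ∉ (N ⊓ Subgroup.centralizer (P : Set X)) ⊔
      (N ⊓ Subgroup.centralizer (P.map (MulAut.conj a).toMonoidHom : Set X)) := by
  classical
  have hNc : ∀ u ∈ N, ∀ w ∈ N, u * w = w * u := fun u hu w hw =>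
    congrArg Subtype.val (hN.1.is_comm.comm ⟨u, hu⟩ ⟨w, hw⟩)
  letI : CommGroup N := { (inferInstance : Group N) with mul_comm := hN.1.is_comm.comm }
  have hexp : ∀ m : Additive N, q • m = 0 := fun m => by
    apply Additive.toMul.injective
    rw [toMul_nsmul, toMul_zero]
    exact Subtype.ext (by rw [SubmonoidClass.coe_pow]; exact hN.2 _ (Additive.toMul m).2)
  letI : Module (ZMod q) (Additive N) := AddCommGroup.zmodModule (n := q) hexp
  haveI : Module.Finite (ZMod q) (Additive N) := Module.Finite.of_finite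
  let α : A →* Module.End (ZMod q) (Additive N) :=
    { toFun := fun g => (MonoidHom.toAdditive
        (MulAut.conjNormal (g : X) : N ≃* N).toMonoidHom).toZModLinearMap q
      map_one' := LinearMap.ext fun m => Additive.toMul.injective (Subtype.ext (by
        show (1 : X) * (Additive.toMul m : N) * (1 : X)⁻¹ = (Additive.toMul m : N)
        group))
      map_mul' := fun g h => LinearMap.ext fun m => Additive.toMul.injective (Subtype.ext (by
        show ((g * h : A) : X) * (Additive.toMul m : N) * ((g * h : A) : X)⁻¹ =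
          (g : X) * ((h : X) * (Additive.toMul m : N) * (h : X)⁻¹) * (g : X)⁻¹
        rw [Subgroup.coe_mul]; group)) }
  have hα : ∀ (g : A) (m : Additive N), ((Additive.toMul (α g m) : N) : X) =
      (g : X) * (Additive.toMul m : N) * (g : X)⁻¹ := fun g m => rfl
  haveI hnt : Nontrivial N := (Subgroup.nontrivial_iff_ne_bot N).2 hNne
  have hs : IsSimpleRep α := by
    refine ⟨(inferInstance : Nontrivial (Additive N)), fun U hU => ?_⟩
    obtain ⟨S, hS⟩ : ∃ S : Subgroup X, S = (U.toAddSubgroup.toSubgroup').map N.subtype := ⟨_, rfl⟩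
    have hSmem : ∀ s : N, (s : X) ∈ S ↔ Additive.ofMul s ∈ U := fun s => by
      rw [hS]
      constructor
      · rintro ⟨t, ht, hts⟩
        rw [show s = t from Subtype.ext hts.symm]
        exact ht
      · intro h; exact ⟨s, h, rfl⟩
    have hSN : S ≤ N := hS ▸ Subgroup.map_subtype_le _
    rcases hirr S hSN (fun g hg s hsS => by
      have h1 := (hSmem ⟨s, hSN hsS⟩).1 hsS
      exact (hSmem ⟨g * s * g⁻¹, hNn.conj_mem s (hSN hsS) g⟩).2 (hU ⟨g, hg⟩ _ h1)) with h | h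
    · refine Or.inl ((Submodule.eq_bot_iff U).2 fun m hm => ?_)
      have h1 := (hSmem (Additive.toMul m)).2 hm
      rw [h, Subgroup.mem_bot] at h1
      exact Additive.toMul.injective (Subtype.ext h1)
    · refine Or.inr (eq_top_iff.2 fun m _ => ?_)
      exact (hSmem (Additive.toMul m)).1 (h ▸ (Additive.toMul m).2)
  have hPA : P ≤ A := hA ▸ le_sup_left
  obtain ⟨x, hx⟩ : ∃ x : P, x ≠ 1 := by
    haveI : Nontrivial P := Finite.one_lt_card_iff_nontrivial.1 (by rw [hP]; exact hpf.out.one_lt)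
    exact exists_ne 1
  have hPgen : ∀ y ∈ P, y ∈ Subgroup.zpowers (x : X) := by
    intro y hy
    obtain ⟨i, hi⟩ := mem_zpowers_of_prime_card (p := p) hP (g := x) (g' := ⟨y, hy⟩) hx
    exact ⟨i, congrArg Subtype.val hi⟩
  obtain ⟨x', hx'⟩ : ∃ x' : A, x' = ⟨x, hPA x.2⟩ := ⟨_, rfl⟩
  have hgen : Subgroup.normalClosure {x'} = ⊤ := by
    rw [eq_top_iff]
    rintro ⟨g, hg⟩ -
    obtain ⟨S, hS⟩ : ∃ S : Subgroup X, S = (Subgroup.normalClosure {x'}).map A.subtype := ⟨_, rfl⟩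
    have hxS : (x : X) ∈ S := hS ▸
      ⟨x', Subgroup.subset_normalClosure (Set.mem_singleton x'), by rw [hx']; rfl⟩
    have hPS : P ≤ S := fun y hy => Subgroup.zpowers_le.2 hxS (hPgen y hy)
    have hAS : A ≤ S := by
      rw [hA]
      refine sup_le hPS ?_
      rintro _ ⟨y, hy, rfl⟩
      obtain ⟨t, ht, hty⟩ := hS ▸ hPS hy
      rw [hS]
      exact ⟨⟨a, ha⟩ * t * (⟨a, ha⟩ : A)⁻¹, Subgroup.normalClosure_normal.conj_mem t ht _,
        by rw [← hty]; rfl⟩
    obtain ⟨t, ht, htg⟩ := hS ▸ hAS hg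
    rw [show (⟨g, hg⟩ : A) = t from Subtype.ext htg.symm]
    exact ht
  have hxp : x' ^ p = 1 := by
    refine Subtype.ext ?_
    rw [hx', SubmonoidClass.coe_pow]
    have := congrArg Subtype.val (pow_card_eq_one' (x := x))
    rwa [hP, SubmonoidClass.coe_pow] at this
  have hnt' : ∃ g, α g ≠ 1 := by
    obtain ⟨g, hg, n, hn, hne⟩ := hmove
    refine ⟨⟨g, hg⟩, fun h => hne ?_⟩
    have h1 := hα ⟨g, hg⟩ (Additive.ofMul ⟨n, hn⟩)
    rw [h, Module.End.one_apply] at h1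
    exact eq_mul_inv_iff_mul_eq.1 h1 |>.symm
  have hbound := half_fix' (ℓ := q) h3 hxp hgen α hs hnt'
  -- cardinalities
  obtain ⟨C, hC⟩ : ∃ C, C = N ⊓ Subgroup.centralizer (P : Set X) := ⟨_, rfl⟩
  obtain ⟨D, hD⟩ : ∃ D, D = N ⊓ Subgroup.centralizer (P.map (MulAut.conj a).toMonoidHom : Set X) :=
    ⟨_, rfl⟩
  rw [← hC, ← hD]
  have hCcard : Nat.card C = q ^ finrank (ZMod q) (LinearMap.ker (α x' - 1)) := by
    have hiff : ∀ n : N, (n : X) ∈ C ↔ Additive.ofMul n ∈ LinearMap.ker (α x' - 1) := by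
      intro n
      rw [hC, LinearMap.mem_ker, LinearMap.sub_apply, Module.End.one_apply, sub_eq_zero]
      constructor
      · intro h
        refine Additive.toMul.injective (Subtype.ext ?_)
        rw [hα, hx']
        show (x : X) * (n : X) * (x : X)⁻¹ = n
        rw [Subgroup.mem_centralizer_iff.1 h.2 x x.2, mul_inv_cancel_right]
      · intro h
        refine ⟨n.2, Subgroup.mem_centralizer_iff.2 fun y hy => ?_⟩
        have h1 := congrArg (fun m => ((Additive.toMul m : N) : X)) h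
        rw [hα, hx'] at h1
        have h2 : Commute (x : X) n := mul_inv_eq_iff_eq_mul.1 h1
        obtain ⟨i, rfl⟩ := hPgen y hy
        exact (h2.zpow_left i).eq
    have hCN : C ≤ N := hC ▸ inf_le_left
    have hcard := Module.natCard_eq_pow_finrank (K := ZMod q) (V := LinearMap.ker (α x' - 1))
    rw [Nat.card_zmod] at hcard
    rw [← hcard]
    exact Nat.card_congr
      { toFun := fun c => ⟨Additive.ofMul ⟨c, hCN c.2⟩, (hiff ⟨c, hCN c.2⟩).1 c.2⟩
        invFun := fun m => ⟨((Additive.toMul (m : Additive N) : N) : X),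
          (hiff (Additive.toMul (m : Additive N))).2 m.2⟩
        left_inv := fun c => rfl
        right_inv := fun m => rfl }
  have hNcard : Nat.card N = q ^ finrank (ZMod q) (Additive N) := by
    have hcard := Module.natCard_eq_pow_finrank (K := ZMod q) (V := Additive N)
    rw [Nat.card_zmod] at hcard
    rw [← hcard]
    exact Nat.card_congr Additive.ofMul
  have hDcard : Nat.card D ≤ Nat.card C := by
    refine Nat.card_le_card_of_injective
      (fun d => (⟨a⁻¹ * (d : X) * a, ?_⟩ : C)) (fun d e h => Subtype.ext ?_)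
    · have hd := le_of_eq hD d.2
      rw [hC]
      refine ⟨by simpa using hNn.conj_mem _ hd.1 a⁻¹, Subgroup.mem_centralizer_iff.2 fun y hy => ?_⟩
      have h1 := Subgroup.mem_centralizer_iff.1 hd.2 (a * y * a⁻¹) ⟨y, hy, rfl⟩
      calc y * (a⁻¹ * (d : X) * a) = a⁻¹ * (a * y * a⁻¹ * d) * a := by group
        _ = a⁻¹ * (d * (a * y * a⁻¹)) * a := by rw [h1]
        _ = a⁻¹ * (d : X) * a * y := by group
    · exact mul_left_cancel (mul_right_cancel (congrArg Subtype.val h))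
  by_contra hall
  push Not at hall
  have hNle : N ≤ C ⊔ D := hall
  have hsup := card_sup_mul_card_inf' C D
    (fun d hd => Subgroup.centralizer_le_normalizer _ (Subgroup.mem_centralizer_iff.2 fun c hc =>
      hNc c (hC ▸ hc : _ ∈ N ⊓ _).1 d (hD ▸ hd : _ ∈ N ⊓ _).1))
  have h1 : Nat.card (C ⊔ D : Subgroup X) ≤ Nat.card C * Nat.card D := by
    rw [← hsup]; exact Nat.le_mul_of_pos_right _ Nat.card_pos
  have h2 := (Subgroup.card_le_of_le hNle).trans h1
  have h3' : Nat.card N ≤ Nat.card C * Nat.card C := h2.trans (Nat.mul_le_mul_left _ hDcard)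
  rw [hNcard, hCcard, ← pow_add] at h3'
  have h4 := (Nat.pow_le_pow_iff_right hqf.out.one_lt).1 h3'
  omega

/-- The extension is generated by two conjugates. -/
theorem exists_gen (h3 : 3 < p) (A N : Subgroup X) [hNn : N.Normal] [Group.IsSolvable A]
    (hN : Cfsg.IsElementaryAbelian q N) (hNne : N ≠ ⊥) (P : Subgroup X) (hP : Nat.card P = p) {a : X}
    (ha : a ∈ A) (hA : A = P ⊔ P.map (MulAut.conj a).toMonoidHom)
    (hirr : ∀ S ≤ N, (∀ g ∈ A, ∀ s ∈ S, g * s * g⁻¹ ∈ S) → S = ⊥ ∨ S = N)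
    (hsup : A ⊔ N = ⊤) (hinf : A ⊓ N = ⊥)
    {r : ℕ} [Fact r.Prime] (hrq : r ≠ q) (R : Subgroup X) (hRA : R ≤ A) (hR : IsPGroup r R)
    (hAR : A ≤ Subgroup.normalizer (R : Set X)) (hC : N ⊓ Subgroup.centralizer (R : Set X) = ⊥) :
    ∃ v ∈ N, P ⊔ P.map (MulAut.conj (v * a)).toMonoidHom = ⊤ := by
  classical
  have hNc : ∀ u ∈ N, ∀ w ∈ N, u * w = w * u := fun u hu w hw =>
    congrArg Subtype.val (hN.1.is_comm.comm ⟨u, hu⟩ ⟨w, hw⟩)
  have hmove : ∃ g ∈ A, ∃ n ∈ N, g * n ≠ n * g := by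
    by_contra hno
    push Not at hno
    apply hNne
    rw [← hC]
    exact (inf_eq_left.2 fun n hn => Subgroup.mem_centralizer_iff.2 fun g hg => hno g (hRA hg) n hn).symm
  obtain ⟨v, hv, hvout⟩ := exists_outside h3 A N hN hNne P hP ha hA hirr hmove
  refine ⟨v, hv, ?_⟩
  obtain ⟨B, hB⟩ : ∃ B, B = P ⊔ P.map (MulAut.conj (v * a)).toMonoidHom := ⟨_, rfl⟩
  rw [← hB]
  have hBN : B ⊔ N = ⊤ := by
    rw [eq_top_iff, ← hsup, hA]
    refine sup_le (sup_le ?_ ?_) le_sup_right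
    · exact le_sup_of_le_left (hB ▸ le_sup_left)
    · rintro _ ⟨y, hy, rfl⟩
      have h1 : v * a * y * (v * a)⁻¹ ∈ B := hB ▸ Subgroup.mem_sup_right ⟨y, hy, rfl⟩
      show a * y * a⁻¹ ∈ B ⊔ N
      rw [show a * y * a⁻¹ = v⁻¹ * (v * a * y * (v * a)⁻¹) * v by group]
      exact mul_mem (mul_mem (Subgroup.mem_sup_right (N.inv_mem hv)) (Subgroup.mem_sup_left h1))
        (Subgroup.mem_sup_right hv)
  have hdecomp : ∀ g : X, ∃ b ∈ B, ∃ n ∈ N, g = b * n := by
    intro g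
    have hg : g ∈ B ⊔ N := hBN ▸ Subgroup.mem_top g
    rw [← SetLike.mem_coe, Subgroup.mul_normal, Set.mem_mul] at hg
    obtain ⟨b, hb, n, hn, rfl⟩ := hg
    exact ⟨b, hb, n, hn, rfl⟩
  rcases hirr (B ⊓ N) inf_le_right (fun g _ s hs => by
    obtain ⟨b, hb, n, hn, rfl⟩ := hdecomp g
    rw [show b * n * s * (b * n)⁻¹ = b * (n * s * n⁻¹) * b⁻¹ by group,
      hNc n hn s hs.2, mul_inv_cancel_right]
    exact ⟨B.mul_mem (B.mul_mem hb hs.1) (B.inv_mem hb), hNn.conj_mem s hs.2 b⟩) with hbot | htop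
  swap
  · rw [← hBN, sup_eq_left.2 (inf_eq_right.1 htop)]
  exfalso
  obtain ⟨K, hK⟩ : ∃ K, K = R ⊔ N := ⟨_, rfl⟩
  have hNK : N ≤ K := hK ▸ le_sup_right
  have hRK : R ≤ K := hK ▸ le_sup_left
  haveI hKn : K.Normal := by
    rw [← Subgroup.normalizer_eq_top_iff, eq_top_iff, ← hsup]
    refine sup_le (fun g hg => ?_) (fun n hn => Subgroup.le_normalizer (hNK hn))
    refine mem_normalizer_of_conj_smul ?_
    rw [hK, Subgroup.smul_sup, conj_smul_of_mem_normalizer (hAR hg),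
      conj_smul_of_mem_normalizer (by rw [Subgroup.normalizer_eq_top]; exact Subgroup.mem_top g)]
  obtain ⟨RB, hRB⟩ : ∃ RB, RB = B ⊓ K := ⟨_, rfl⟩
  have hKdec : RB ⊔ N = K := by
    refine le_antisymm (sup_le (hRB ▸ inf_le_right) hNK) fun k hk => ?_
    obtain ⟨b, hb, n, hn, rfl⟩ := hdecomp k
    refine mul_mem (Subgroup.mem_sup_left (hRB ▸ ⟨hb, ?_⟩)) (Subgroup.mem_sup_right hn)
    have := K.mul_mem hk (K.inv_mem (hNK hn))
    rwa [mul_inv_cancel_right] at this
  have hRN : N ⊓ R = ⊥ := by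
    rw [eq_bot_iff, ← hinf]; exact le_inf (inf_le_right.trans hRA) inf_le_left
  have hRBN : N ⊓ RB = ⊥ := by
    rw [eq_bot_iff, ← hbot, hRB]
    exact le_inf (inf_le_right.trans inf_le_left) inf_le_left
  have hcK : Nat.card K = Nat.card N * Nat.card R := by
    rw [hK, sup_comm]; exact card_sup_of_inf_eq_bot N R hRN
  have hcRB : Nat.card RB = Nat.card R := by
    have h1 : Nat.card K = Nat.card N * Nat.card RB := by
      rw [← hKdec, sup_comm]; exact card_sup_of_inf_eq_bot N RB hRBN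
    exact Nat.eq_of_mul_eq_mul_left Nat.card_pos (h1.symm.trans hcK)
  -- Sylow subgroups of `K`
  obtain ⟨i, hi⟩ := IsPGroup.iff_card.1 hR
  have hidx : ∀ S : Subgroup X, S ≤ K → Nat.card S = Nat.card R → ¬ r ∣ (S.subgroupOf K).index := by
    intro S hSK hS
    have h1 := (S.subgroupOf K).card_mul_index
    rw [card_subgroupOf hSK, hS, hcK, mul_comm (Nat.card N)] at h1
    rw [Nat.eq_of_mul_eq_mul_left Nat.card_pos h1]
    intro hd
    have hNq : IsPGroup q N := fun n =>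
      ⟨1, Subtype.ext (show (n : X) ^ q ^ 1 = 1 by rw [pow_one]; exact hN.2 _ n.2)⟩
    obtain ⟨m, hm⟩ := IsPGroup.iff_card.1 hNq
    rw [hm] at hd
    exact hrq ((Nat.prime_dvd_prime_iff_eq Fact.out Fact.out).1
      ((Fact.out : r.Prime).dvd_of_dvd_pow hd))
  have hRr : IsPGroup r (R.subgroupOf K) := IsPGroup.of_card (n := i) (by rw [card_subgroupOf hRK, hi])
  have hRBK : RB ≤ K := hRB ▸ inf_le_right
  have hRBr : IsPGroup r (RB.subgroupOf K) :=
    IsPGroup.of_card (n := i) (by rw [card_subgroupOf hRBK, hcRB, hi])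
  obtain ⟨⟨k, hkK⟩, hk⟩ := MulAction.exists_smul_eq K
    (hRr.toSylow (hidx R hRK rfl)) (hRBr.toSylow (hidx RB hRBK hcRB))
  have hk' : ∀ y ∈ R, k * y * k⁻¹ ∈ RB := by
    intro y hy
    have h1 : MulAut.conj (⟨k, hkK⟩ : K) • (⟨y, hRK hy⟩ : K) ∈
        MulAut.conj (⟨k, hkK⟩ : K) • R.subgroupOf K :=
      Subgroup.smul_mem_pointwise_smul _ _ _ (Subgroup.mem_subgroupOf.2 hy)
    have h2 : MulAut.conj (⟨k, hkK⟩ : K) • R.subgroupOf K = RB.subgroupOf K :=
      congrArg (fun S : Sylow r K => (S : Subgroup K)) hk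
    rw [h2] at h1
    exact Subgroup.mem_subgroupOf.1 h1
  obtain ⟨n, hn, ρ₀, hρ, rfl⟩ : ∃ n ∈ N, ∃ ρ₀ ∈ R, k = n * ρ₀ := by
    have : k ∈ N ⊔ R := by rw [sup_comm, ← hK]; exact hkK
    rw [← SetLike.mem_coe, Subgroup.normal_mul, Set.mem_mul] at this
    obtain ⟨n, hn, ρ₀, hρ, e⟩ := this
    exact ⟨n, hn, ρ₀, hρ, e.symm⟩
  have hmap : R.map (MulAut.conj n).toMonoidHom = RB := by
    refine Subgroup.eq_of_le_of_card_ge ?_ ?_
    · rintro _ ⟨y, hy, rfl⟩
      have := hk' (ρ₀⁻¹ * y * ρ₀) (mul_mem (mul_mem (inv_mem hρ) hy) hρ)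
      rwa [show n * ρ₀ * (ρ₀⁻¹ * y * ρ₀) * (n * ρ₀)⁻¹ = n * y * n⁻¹ by group] at this
    · rw [Subgroup.card_map_of_injective (MulAut.conj n).injective, hcRB]
  -- `B` lies in the conjugate of `A`
  have hnorm : ∀ g ∈ Subgroup.normalizer (R : Set X), g ∈ A := by
    intro g hg
    have hg' : g ∈ A ⊔ N := hsup ▸ Subgroup.mem_top g
    rw [← SetLike.mem_coe, Subgroup.mul_normal, Set.mem_mul] at hg'
    obtain ⟨a', ha', m, hm, rfl⟩ := hg'
    have hmR : m ∈ Subgroup.normalizer (R : Set X) := by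
      have := mul_mem (inv_mem (hAR ha')) hg
      rwa [inv_mul_cancel_left] at this
    have hm1 : m ∈ N ⊓ Subgroup.centralizer (R : Set X) := by
      refine ⟨hm, Subgroup.mem_centralizer_iff.2 fun y hy => ?_⟩
      have h1 : m * y * m⁻¹ * y⁻¹ ∈ N ⊓ R := ⟨by
        rw [mul_assoc m, mul_assoc m]
        exact mul_mem hm (hNn.conj_mem _ (N.inv_mem hm) y),
        R.mul_mem ((Subgroup.mem_normalizer_iff.1 hmR y).1 hy) (R.inv_mem hy)⟩
      rw [hRN, Subgroup.mem_bot, mul_inv_eq_one, mul_inv_eq_iff_eq_mul] at h1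
      exact h1.symm
    rw [hC, Subgroup.mem_bot] at hm1
    rw [hm1, mul_one]; exact ha'
  have hconj : ∀ b ∈ B, n⁻¹ * b * n ∈ A := by
    intro b hb
    refine hnorm _ ?_
    have hle : ∀ y ∈ R, n⁻¹ * b * n * y * (n⁻¹ * b * n)⁻¹ ∈ R := by
      intro y hy
      have h1 : b * (n * y * n⁻¹) * b⁻¹ ∈ RB := by
        have h2 : n * y * n⁻¹ ∈ RB := hmap ▸ ⟨y, hy, rfl⟩
        rw [hRB] at h2 ⊢
        exact ⟨B.mul_mem (B.mul_mem hb h2.1) (B.inv_mem hb), hKn.conj_mem _ h2.2 b⟩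
      rw [← hmap] at h1
      obtain ⟨z, hz, he⟩ := h1
      change n * z * n⁻¹ = _ at he
      rwa [show n⁻¹ * b * n * y * (n⁻¹ * b * n)⁻¹ = n⁻¹ * (b * (n * y * n⁻¹) * b⁻¹) * n by group,
        ← he, show n⁻¹ * (n * z * n⁻¹) * n = z by group]
    exact mem_normalizer_of_conj_smul (Subgroup.eq_of_le_of_card_ge (by
      rw [conj_smul_eq_map]
      rintro _ ⟨y, hy, rfl⟩
      exact hle y hy) (by rw [card_conj_smul]))
  have hfix : ∀ u ∈ N, ∀ y ∈ A, u⁻¹ * y * u ∈ A → y * u = u * y := by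
    intro u hu y hy huy
    have h1 : y⁻¹ * (u⁻¹ * y * u) ∈ A ⊓ N := ⟨A.mul_mem (A.inv_mem hy) huy, by
      rw [show y⁻¹ * (u⁻¹ * y * u) = y⁻¹ * u⁻¹ * y⁻¹⁻¹ * u by group]
      exact mul_mem (hNn.conj_mem _ (N.inv_mem hu) y⁻¹) hu⟩
    rw [hinf, Subgroup.mem_bot] at h1
    calc y * u = u * (u⁻¹ * y * u) := by group
      _ = u * y := by rw [← inv_mul_eq_one.1 h1]
  apply hvout
  rw [show v = n * (n⁻¹ * v) by group]
  refine mul_mem (Subgroup.mem_sup_left ⟨hn, Subgroup.mem_centralizer_iff.2 fun y hy => ?_⟩)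
    (Subgroup.mem_sup_right ⟨mul_mem (N.inv_mem hn) hv, Subgroup.mem_centralizer_iff.2 ?_⟩)
  · exact hfix n hn y (hA ▸ Subgroup.mem_sup_left hy) (hconj y (hB ▸ Subgroup.mem_sup_left hy))
  · rintro _ ⟨y, hy, rfl⟩
    show a * y * a⁻¹ * (n⁻¹ * v) = n⁻¹ * v * (a * y * a⁻¹)
    have hyA : a * y * a⁻¹ ∈ A := hA ▸ Subgroup.mem_sup_right ⟨y, hy, rfl⟩
    have hmem : (v⁻¹ * n)⁻¹ * (a * y * a⁻¹) * (v⁻¹ * n) ∈ A := by
      rw [show (v⁻¹ * n)⁻¹ * (a * y * a⁻¹) * (v⁻¹ * n) = n⁻¹ * (v * a * y * (v * a)⁻¹) * n by group]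
      exact hconj _ (hB ▸ Subgroup.mem_sup_right ⟨y, hy, rfl⟩)
    have := hfix (v⁻¹ * n) (mul_mem (N.inv_mem hv) hn) _ hyA hmem
    rw [show n⁻¹ * v = (v⁻¹ * n)⁻¹ by group]
    exact (Commute.inv_right this).eq

/-- A coprime group of operators fixes nothing in an abelian group equal to its commutator with it. -/
theorem inf_centralizer_eq_bot (N : Subgroup X) [hNn : N.Normal] (hN : Cfsg.IsElementaryAbelian q N)
    {r : ℕ} [Fact r.Prime] (hrq : r ≠ q) (R : Subgroup X) (hR : IsPGroup r R) (hNR : N ≤ ⁅N, R⁆) :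
    N ⊓ Subgroup.centralizer (R : Set X) = ⊥ := by
  classical
  letI : CommGroup N := { (inferInstance : Group N) with mul_comm := hN.1.is_comm.comm }
  letI : Fintype R := Fintype.ofFinite R
  let T : N →* N := ∏ s : R, (MulAut.conjNormal (s : X) : N ≃* N).toMonoidHom
  have hTapp : ∀ n : N, T n = ∏ s : R, MulAut.conjNormal (s : X) n := fun n => by
    show (∏ s : R, (MulAut.conjNormal (s : X) : N ≃* N).toMonoidHom) n = _
    rw [MonoidHom.finsetProd_apply]; rfl
  have hle : ⁅N, R⁆ ≤ T.ker.map N.subtype := by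
    rw [Subgroup.commutator_le]
    intro n hn ρ hρ
    have hmem : ρ * n⁻¹ * ρ⁻¹ ∈ N := hNn.conj_mem _ (N.inv_mem hn) ρ
    refine ⟨⟨n, hn⟩ * ⟨_, hmem⟩, MonoidHom.mem_ker.2 ?_, by
      show n * (ρ * n⁻¹ * ρ⁻¹) = ⁅n, ρ⁆
      rw [_root_.commutatorElement_def]; group⟩
    rw [map_mul, show (⟨_, hmem⟩ : N) = MulAut.conjNormal ρ (⟨n, hn⟩ : N)⁻¹ from
      Subtype.ext (by rw [MulAut.conjNormal_apply, Subgroup.coe_inv]), hTapp, hTapp,
      Fintype.prod_equiv (Equiv.mulRight (⟨ρ, hρ⟩ : R))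
        (fun s : R => MulAut.conjNormal (s : X) (MulAut.conjNormal ρ (⟨n, hn⟩ : N)⁻¹))
        (fun s : R => MulAut.conjNormal (s : X) (⟨n, hn⟩ : N)⁻¹)
        (fun s => by rw [Equiv.coe_mulRight, Subgroup.coe_mul, map_mul, MulAut.mul_apply]),
      ← Finset.prod_mul_distrib]
    exact Finset.prod_eq_one fun s _ => by rw [map_inv, mul_inv_cancel]
  rw [eq_bot_iff]
  rintro c ⟨hc, hcR⟩
  obtain ⟨z, hz, hzc⟩ := hle (hNR hc)
  have hzN : z = ⟨c, hc⟩ := Subtype.ext hzc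
  rw [SetLike.mem_coe, MonoidHom.mem_ker, hzN, hTapp,
    Finset.prod_congr rfl (fun (s : R) _ => show MulAut.conjNormal (s : X) (⟨c, hc⟩ : N) = ⟨c, hc⟩ from
      Subtype.ext (by
        rw [MulAut.conjNormal_apply]
        show (s : X) * c * (s : X)⁻¹ = c
        rw [Subgroup.mem_centralizer_iff.1 hcR s s.2, mul_inv_cancel_right])),
    Finset.prod_const, Finset.card_univ] at hz
  obtain ⟨j, hj⟩ := IsPGroup.iff_card.1 hR
  rw [← Nat.card_eq_fintype_card, hj] at hz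
  have h1 : c ^ r ^ j = 1 := congrArg Subtype.val hz
  have h2 := pow_gcd_eq_one.2 ⟨h1, hN.2 c hc⟩
  rw [(((Nat.coprime_primes Fact.out Fact.out).2 hrq).pow_left j).gcd_eq_one, pow_one] at h2
  exact h2

end Cfsg.Agent.Solv.TwoConj
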