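import Mathlib

/-!
Upper triangular matrices over the field with two elements: self-normalisation and trivial intersections.
-/

set_option autoImplicit false

namespace Cfsg.Agent.Solv.UniTwo

open Matrix

variable {n : ℕ}

abbrev GLn (n : ℕ) := GL (Fin n) (ZMod 2)

theorem eq_one_of_ne_zero : ∀ x : ZMod 2, x ≠ 0 → x = 1 := by decide

/-- Upper triangular invertible matrices. -/
def U (n : ℕ) : Subgroup (GLn n) where
  carrier := {g | (g : Matrix (Fin n) (Fin n) (ZMod 2)).BlockTriangular id}
  one_mem' := by simpa using Matrix.blockTriangular_one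
  mul_mem' := fun {a b} ha hb => by simpa using Matrix.BlockTriangular.mul ha hb
  inv_mem' := fun {a} ha => by
    haveI : Invertible (a : Matrix (Fin n) (Fin n) (ZMod 2)) := a.invertible
    simpa [Matrix.coe_units_inv] using Matrix.blockTriangular_inv_of_blockTriangular ha

theorem diag_one {g : GLn n} (hg : g ∈ U n) (i : Fin n) : (g : Matrix (Fin n) (Fin n) (ZMod 2)) i i = 1 := by
  refine eq_one_of_ne_zero _ fun h => ?_
  have hu : IsUnit (g : Matrix (Fin n) (Fin n) (ZMod 2)).det :=
    (Matrix.isUnit_iff_isUnit_det _).1 g.isUnit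
  rw [Matrix.det_of_isUpperTriangular hg] at hu
  exact not_isUnit_zero ((Finset.prod_eq_zero (f := fun i => (g : Matrix (Fin n) (Fin n) (ZMod 2)) i i)
    (Finset.mem_univ i) h) ▸ hu)

theorem isPGroup : IsPGroup 2 ↥(U n) := by
  classical
  let P := {ij : Fin n × Fin n // ij.1 < ij.2}
  have hdet : ∀ c : P → ZMod 2, IsUnit (Matrix.of fun i j : Fin n =>
      if h : i < j then c ⟨(i, j), h⟩ else if i = j then 1 else 0).det := fun c => by
    rw [Matrix.det_of_isUpperTriangular fun i j (h : j < i) => by simp [h.not_gt, h.ne']]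
    simp
  let e : ↥(U n) ≃ (P → ZMod 2) :=
    { toFun := fun g p => ((g : GLn n) : Matrix (Fin n) (Fin n) (ZMod 2)) p.1.1 p.1.2
      invFun := fun c => ⟨Matrix.nonsingInvUnit _ (hdet c), fun i j (h : j < i) => by
        show (Matrix.of _ : Matrix (Fin n) (Fin n) (ZMod 2)) i j = 0
        simp [h.not_gt, h.ne']⟩
      left_inv := fun g => Subtype.ext (Units.ext (Matrix.ext fun i j => by
        show (Matrix.of _ : Matrix (Fin n) (Fin n) (ZMod 2)) i j = _
        rcases lt_trichotomy i j with h | h | h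
        · simp [h]
        · subst h; simp [diag_one g.2 i]
        · have := g.2 h
          simp [h.not_gt, h.ne', this]))
      right_inv := fun c => funext fun p => by
        show (Matrix.of _ : Matrix (Fin n) (Fin n) (ZMod 2)) p.1.1 p.1.2 = _
        simp [p.2] }
  refine IsPGroup.of_card (n := Nat.card P) ?_
  rw [Nat.card_congr e, Nat.card_fun, Nat.card_zmod]

/-- A rank one transvection lying in the triangular group. -/
theorem rankOne_mem {t : GLn n} {v r : Fin n → ZMod 2}
    (ht : (t : Matrix (Fin n) (Fin n) (ZMod 2)) = 1 + vecMulVec v r)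
    (h : ∀ i j, j < i → v i = 0 ∨ r j = 0) : t ∈ U n := by
  intro i j (hij : j < i)
  rw [ht, Matrix.add_apply, Matrix.one_apply_ne hij.ne', vecMulVec_apply]
  rcases h i j hij with e | e <;> simp [e]

theorem self_normalizing {g : GLn n} (hg : ∀ u ∈ U n, g⁻¹ * u * g ∈ U n) : g ∈ U n := by
  classical
  intro b l (hlb : l < b)
  by_contra hbl
  -- the first b columns of the inverse live on the first l coordinates
  have key : ∀ a, a < b → ∀ k, l ≤ k → ((g⁻¹ : GLn n) : Matrix (Fin n) (Fin n) (ZMod 2)) k a = 0 := by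
    intro a hab k hlk
    let M : Matrix (Fin n) (Fin n) (ZMod 2) := 1 + vecMulVec (Pi.single a 1) (Pi.single b 1)
    let N : Matrix (Fin n) (Fin n) (ZMod 2) := 1 + vecMulVec (Pi.single a 1) (Pi.single b 1)
    have hMM : M * N = 1 := by
      simp only [M, N, mul_add, add_mul, one_mul, mul_one, vecMulVec_mul_vecMulVec, single_dotProduct]
      simp [hab.ne, hab.ne', add_assoc, ZModModule.add_self]
    have hM : M * M = 1 := hMM
    let t : GLn n := ⟨M, M, hM, hM⟩
    have htU : t ∈ U n := rankOne_mem (v := Pi.single a 1) (r := Pi.single b 1) rfl fun i j hij => by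
      by_contra h
      push_neg at h
      simp [Pi.single_apply] at h
      omega
    have hc := hg t htU
    let v := fun k => ((g⁻¹ : GLn n) : Matrix (Fin n) (Fin n) (ZMod 2)) k a
    let r := fun j => (g : Matrix (Fin n) (Fin n) (ZMod 2)) b j
    have hval : ((g⁻¹ * t * g : GLn n) : Matrix (Fin n) (Fin n) (ZMod 2)) = 1 + vecMulVec v r := by
      show ((g⁻¹ : GLn n) : Matrix (Fin n) (Fin n) (ZMod 2)) * M * (g : Matrix (Fin n) (Fin n) (ZMod 2)) = _
      simp only [M, mul_add, add_mul, mul_one, Units.inv_mul, mul_vecMulVec, vecMulVec_mul]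
      congr 2
      · ext k; simp [v, Matrix.mulVec_single]
      · ext j; simp [r, Matrix.single_vecMul]
    rcases eq_or_lt_of_le hlk with rfl | hlt
    · have hd := diag_one hc l
      rw [hval, Matrix.add_apply, Matrix.one_apply_eq, vecMulVec_apply, add_eq_left] at hd
      exact (mul_eq_zero.1 hd).resolve_right hbl
    · have hd := hc hlt
      rw [hval, Matrix.add_apply, Matrix.one_apply_ne hlt.ne', vecMulVec_apply, zero_add] at hd
      exact (mul_eq_zero.1 hd).resolve_right hbl
  -- pigeonhole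
  let φ : ({a : Fin n // a < b} → ZMod 2) → ({k : Fin n // k < l} → ZMod 2) := fun c k =>
    ∑ a : {a : Fin n // a < b}, ((g⁻¹ : GLn n) : Matrix (Fin n) (Fin n) (ZMod 2)) k.1 a.1 * c a
  have hφ : Function.Injective φ := by
    intro c d hcd
    let ext : ({a : Fin n // a < b} → ZMod 2) → (Fin n → ZMod 2) := fun c i => if h : i < b then c ⟨i, h⟩ else 0
    have hmul : ∀ (c : {a : Fin n // a < b} → ZMod 2) (k : Fin n),
        (((g⁻¹ : GLn n) : Matrix (Fin n) (Fin n) (ZMod 2)) *ᵥ ext c) k =
        ∑ a : {a : Fin n // a < b}, ((g⁻¹ : GLn n) : Matrix (Fin n) (Fin n) (ZMod 2)) k a.1 * c a := by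
      intro c k
      rw [Matrix.mulVec, dotProduct]
      refine ((Finset.sum_filter_of_ne fun i _ hi => ?_).symm.trans (Finset.sum_subtype (p := fun i => i < b) (Finset.univ.filter fun i => i < b) (fun i => by simp) _)).trans
        (Finset.sum_congr rfl fun a _ => by simp [ext, a.2])
      by_contra h
      simp [ext, h] at hi
    have heq : ((g⁻¹ : GLn n) : Matrix (Fin n) (Fin n) (ZMod 2)) *ᵥ ext c =
        ((g⁻¹ : GLn n) : Matrix (Fin n) (Fin n) (ZMod 2)) *ᵥ ext d := by
      funext k
      rw [hmul, hmul]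
      by_cases hk : k < l
      · exact congrFun hcd ⟨k, hk⟩
      · exact Finset.sum_congr rfl fun a _ => by rw [key a.1 a.2 k (not_lt.1 hk)]; simp
    have h' := congrArg ((g : Matrix (Fin n) (Fin n) (ZMod 2)) *ᵥ ·) heq
    simp only [Matrix.mulVec_mulVec, Units.mul_inv, Matrix.one_mulVec] at h'
    funext a
    simpa [ext, a.2] using congrFun h' a.1
  have hc := Fintype.card_le_of_injective φ hφ
  rw [Fintype.card_fun, Fintype.card_fun, ZMod.card, Fintype.card_subtype, Fintype.card_subtype,
    Finset.filter_gt_eq_Iio, Finset.filter_gt_eq_Iio, Fin.card_Iio, Fin.card_Iio] at hc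
  have := (Nat.pow_le_pow_iff_right (by norm_num : 1 < 2)).1 hc
  omega

theorem rev_sq (n : ℕ) : (Matrix.of fun i j : Fin n => if j = i.rev then (1 : ZMod 2) else 0) *
    (Matrix.of fun i j : Fin n => if j = i.rev then (1 : ZMod 2) else 0) = 1 := by
  ext i j
  rw [Matrix.mul_apply, Finset.sum_eq_single i.rev (fun k _ hk => by simp [hk]) (by simp)]
  simp [Matrix.one_apply, eq_comm]

/-- The longest element. -/
def W (n : ℕ) : GLn n :=
  ⟨Matrix.of fun i j => if j = i.rev then 1 else 0, Matrix.of fun i j => if j = i.rev then 1 else 0,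
    rev_sq n,
    rev_sq n⟩

theorem mul_W (u : Matrix (Fin n) (Fin n) (ZMod 2)) (i j : Fin n) :
    (u * ((W n : GLn n) : Matrix (Fin n) (Fin n) (ZMod 2))) i j = u i j.rev := by
  rw [Matrix.mul_apply, Finset.sum_eq_single j.rev (fun k _ hk => ?_) (by simp)]
  · simp [W]
  · have h : ¬ j = k.rev := fun h => hk (by rw [h, Fin.rev_rev])
    simp [W, h]

theorem zero_row_kernel {m : Type*} [Fintype m] [DecidableEq m] (A : Matrix m m (ZMod 2)) (i : m) :
    ∃ c ≠ 0, ∀ k, k ≠ i → (A *ᵥ c) k = 0 := by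
  obtain ⟨c, hc, h⟩ := Matrix.exists_mulVec_eq_zero_iff.2
    (Matrix.det_eq_zero_of_row_eq_zero (A := A.updateRow i 0) i fun j => by simp)
  refine ⟨c, hc, fun k hk => ?_⟩
  have := congrFun h k
  simpa [Matrix.mulVec, Matrix.updateRow_ne hk] using this

/-- Lower-left square corner. -/
def corner (g : Matrix (Fin n) (Fin n) (ZMod 2)) (p : Fin n) :
    Matrix (Fin (n - p)) (Fin (n - p)) (ZMod 2) :=
  Matrix.of fun a b => g ⟨p + a, by omega⟩ ⟨b, by omega⟩

/-- Extend a vector on the first coordinates by zero. -/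
def low {p : Fin n} (c : Fin (n - p) → ZMod 2) : Fin n → ZMod 2 := fun i => if h : (i : ℕ) < n - p then c ⟨i, h⟩ else 0

/-- Extend a vector on the last coordinates by zero. -/
def high {p : Fin n} (c : Fin (n - p) → ZMod 2) : Fin n → ZMod 2 :=
  fun i => if h : (p : ℕ) ≤ i then c ⟨i - p, by omega⟩ else 0

theorem mulVec_low (g : Matrix (Fin n) (Fin n) (ZMod 2)) {p : Fin n} (c : Fin (n - p) → ZMod 2) (a : Fin (n - p)) :
    (g *ᵥ low c) ⟨p + a, by omega⟩ = (corner g p *ᵥ c) a := by
  simp only [Matrix.mulVec, dotProduct]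
  have h : Finset.univ.filter (fun i : Fin n => (i : ℕ) < n - p) =
      Finset.univ.map (Fin.castLEEmb (by omega : n - p ≤ n)) := by
    ext i
    simp only [Finset.mem_filter, Finset.mem_univ, true_and, Finset.mem_map]
    exact ⟨fun hi => ⟨⟨i, hi⟩, rfl⟩, by rintro ⟨j, rfl⟩; exact j.2⟩
  rw [← Finset.sum_filter_of_ne (p := fun i : Fin n => (i : ℕ) < n - p) fun i _ hi => ?_, h, Finset.sum_map]
  · exact Finset.sum_congr rfl fun j _ => by simp [low, corner, Fin.castLE]
  · by_contra hlt
    simp [low, hlt] at hi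

theorem vecMul_high (g : Matrix (Fin n) (Fin n) (ZMod 2)) {p : Fin n} (c : Fin (n - p) → ZMod 2) (b : Fin (n - p)) :
    (high c ᵥ* g) ⟨b, by omega⟩ = (c ᵥ* corner g p) b := by
  simp only [Matrix.vecMul, dotProduct]
  let e : Fin (n - p) ↪ Fin n := ⟨fun a => ⟨p + a, by omega⟩, fun a b h => Fin.ext (by simpa using congrArg Fin.val h)⟩
  have h : Finset.univ.filter (fun i : Fin n => (p : ℕ) ≤ i) = Finset.univ.map e := by
    ext i
    simp only [Finset.mem_filter, Finset.mem_univ, true_and, Finset.mem_map]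
    exact ⟨fun hi => ⟨⟨i - p, by omega⟩, Fin.ext (show (p : ℕ) + (i - p) = i by omega)⟩,
      by rintro ⟨j, rfl⟩; exact Nat.le_add_right (p : ℕ) j⟩
  rw [← Finset.sum_filter_of_ne (p := fun i : Fin n => (p : ℕ) ≤ i) fun i _ hi => ?_, h, Finset.sum_map]
  · refine Finset.sum_congr rfl fun j _ => ?_
    show high c ⟨p + j, by omega⟩ * g ⟨p + j, by omega⟩ ⟨b, by omega⟩ = c j * g ⟨p + j, by omega⟩ ⟨b, by omega⟩
    simp [high]
  · by_contra hlt
    simp [high, hlt] at hi

theorem common_transvection {g : GLn n} {p : Fin n} (hp : 0 < (p : ℕ))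
    (hdet : (corner (g : Matrix (Fin n) (Fin n) (ZMod 2)) p).det = 0) :
    ∃ t ∈ U n, t ≠ 1 ∧ g⁻¹ * t * g ∈ U n := by
  classical
  obtain ⟨c, hc, hcA⟩ := Matrix.exists_mulVec_eq_zero_iff.2 hdet
  obtain ⟨d, hd, hdA⟩ := Matrix.exists_vecMul_eq_zero_iff.2 hdet
  set M : Matrix (Fin n) (Fin n) (ZMod 2) := (g : Matrix (Fin n) (Fin n) (ZMod 2))
  let v := M *ᵥ low c
  let r := high d
  have hv : ∀ i : Fin n, (p : ℕ) ≤ i → v i = 0 := fun i hi => by
    have h := mulVec_low M c ⟨i - p, by omega⟩
    rw [hcA] at h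
    simpa [v, show (p : ℕ) + (i - p) = i by omega] using h
  have hr : ∀ i : Fin n, (i : ℕ) < p → r i = 0 := fun i hi => by simp [r, high, hi.not_ge]
  have hrv : r ⬝ᵥ v = 0 := Finset.sum_eq_zero fun i _ => by
    rcases lt_or_ge (i : ℕ) p with h | h
    · simp [hr i h]
    · simp [hv i h]
  let T : Matrix (Fin n) (Fin n) (ZMod 2) := 1 + vecMulVec v r
  have hT : T * T = 1 := by
    simp only [T, mul_add, add_mul, one_mul, mul_one, vecMulVec_mul_vecMulVec, hrv]
    simp [add_assoc, ZModModule.add_self]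
  refine ⟨⟨T, T, hT, hT⟩, rankOne_mem (v := v) (r := r) rfl fun i j hij => ?_, ?_, ?_⟩
  · rcases lt_or_ge (i : ℕ) p with h | h
    · exact Or.inr (hr j (lt_trans hij h))
    · exact Or.inl (hv i h)
  · intro h
    have h0 : vecMulVec v r = 0 := by
      have := congrArg Units.val h
      simpa [T] using this
    obtain ⟨j, hj⟩ := Function.ne_iff.1 hd
    have hrj : r ⟨p + j, by omega⟩ = d j := by simp [r, high]
    have hlow : low c = 0 := by
      have hv0 : v = 0 := funext fun i => by
        have := congrFun (congrFun h0 i) ⟨p + j, by omega⟩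
        rw [vecMulVec_apply, hrj] at this
        exact (mul_eq_zero.1 this).resolve_right hj
      have := congrArg (((g⁻¹ : GLn n) : Matrix (Fin n) (Fin n) (ZMod 2)) *ᵥ ·) hv0
      simpa [v, M, Matrix.mulVec_mulVec] using this
    refine hc (funext fun b => ?_)
    have := congrFun hlow ⟨b, by omega⟩
    simpa [low, b.2] using this
  · refine rankOne_mem (v := low c) (r := r ᵥ* M) ?_ fun i j hij => ?_
    · show ((g⁻¹ : GLn n) : Matrix (Fin n) (Fin n) (ZMod 2)) * T * M = _
      simp only [T, M, mul_add, add_mul, mul_one, Units.inv_mul, mul_vecMulVec, vecMulVec_mul]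
      simp [v, M, Matrix.mulVec_mulVec]
    · rcases lt_or_ge (i : ℕ) (n - p) with h | h
      · refine Or.inr ?_
        have := vecMul_high M d ⟨j, lt_trans hij h⟩
        rw [hdA] at this
        simpa [r] using this
      · exact Or.inl (by simp [low, h.not_gt])

/-- Elements moving the triangular group to one meeting it trivially lie in the big cell. -/
theorem big_cell {g : GLn n} (h : ∀ t ∈ U n, g⁻¹ * t * g ∈ U n → t = 1) :
    ∃ u ∈ U n, ∃ v ∈ U n, g = u * W n * v := by
  classical
  set M : Matrix (Fin n) (Fin n) (ZMod 2) := (g : Matrix (Fin n) (Fin n) (ZMod 2))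
  have hnd : ∀ p : Fin n, (corner M p).det ≠ 0 := by
    intro p hp0
    rcases Nat.eq_zero_or_pos (p : ℕ) with hp | hp
    · obtain ⟨c, hc, hcA⟩ := Matrix.exists_mulVec_eq_zero_iff.2 hp0
      have hv : M *ᵥ low c = 0 := funext fun i => by
        have := mulVec_low M c ⟨i, by omega⟩
        rw [hcA] at this
        simpa [hp] using this
      have hl : low c = 0 := by
        have := congrArg (((g⁻¹ : GLn n) : Matrix (Fin n) (Fin n) (ZMod 2)) *ᵥ ·) hv
        simpa [M, Matrix.mulVec_mulVec] using this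
      refine hc (funext fun b => ?_)
      have := congrFun hl ⟨b, by omega⟩
      simpa [low, b.2] using this
    · obtain ⟨t, ht, hne, htc⟩ := common_transvection hp hp0
      exact hne (h t ht htc)
  have hcol : ∀ p : Fin n, ∃ c : Fin n → ZMod 2, (∀ i : Fin n, n - p ≤ (i : ℕ) → c i = 0) ∧
      (∀ k, p < k → (M *ᵥ c) k = 0) ∧ (M *ᵥ c) p = 1 := by
    intro p
    obtain ⟨c, hc, hck⟩ := zero_row_kernel (corner M p) ⟨0, by omega⟩
    refine ⟨low c, fun i hi => by simp [low, hi.not_gt], fun k hk => ?_, eq_one_of_ne_zero _ fun h0 => ?_⟩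
    · have h1 := mulVec_low M c ⟨k - p, by omega⟩
      rw [hck _ (by simp [Fin.ext_iff]; omega)] at h1
      have : (p : ℕ) + (k - p) = k := by omega
      simpa [this] using h1
    · refine hnd p (Matrix.exists_mulVec_eq_zero_iff.1 ⟨c, hc, funext fun a => ?_⟩)
      by_cases ha : a = ⟨0, by omega⟩
      · subst ha
        rw [← mulVec_low]
        simpa using h0
      · exact hck a ha
  choose c hc1 hc2 hc3 using hcol
  let uM : Matrix (Fin n) (Fin n) (ZMod 2) := Matrix.of fun k i => (M *ᵥ c i) k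
  have huT : uM.BlockTriangular id := fun k i hki => hc2 i k hki
  have hu : IsUnit uM.det := by
    rw [Matrix.det_of_isUpperTriangular huT]
    simp [uM, hc3]
  let u : GLn n := Matrix.nonsingInvUnit uM hu
  let C : Matrix (Fin n) (Fin n) (ZMod 2) := Matrix.of fun i j => c j.rev i
  have hCT : C.BlockTriangular id := fun i j (hij : j < i) => by
    refine hc1 j.rev i ?_
    rw [Fin.val_rev]
    omega
  have hC : C = ((g⁻¹ * (u * W n) : GLn n) : Matrix (Fin n) (Fin n) (ZMod 2)) := by
    have h1 : M * C = uM * ((W n : GLn n) : Matrix (Fin n) (Fin n) (ZMod 2)) := by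
      ext i j
      rw [mul_W]
      rfl
    show C = ((g⁻¹ : GLn n) : Matrix (Fin n) (Fin n) (ZMod 2)) * (uM * _)
    rw [← h1, ← mul_assoc]
    simp [M]
  refine ⟨u, huT, (g⁻¹ * (u * W n))⁻¹, inv_mem (show g⁻¹ * (u * W n) ∈ U n from ?_), by group⟩
  show Matrix.BlockTriangular ((g⁻¹ * (u * W n) : GLn n) : Matrix (Fin n) (Fin n) (ZMod 2)) id
  rw [← hC]
  exact hCT

end Cfsg.Agent.Solv.UniTwo
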