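import Mathlib
import Cfsg.Agent.Lib.Solv.Zipper

/-!
Flavell: if `A` is a proper subgroup whose normal closure is `G` and the proper subgroups
generated by their own conjugates of `A` do not generate `G`, then `A` lies in a unique maximal
subgroup.
-/

set_option autoImplicit false
set_option linter.style.haveILetI false

open scoped Pointwise

namespace Cfsg.Agent.Solv.UniqueMaximal

variable {G : Type*} [Group G]

/-- `H` is generated by the `H`-conjugates of `A`. -/
def Gen (A H : Subgroup G) : Prop :=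
  Subgroup.normalClosure ((A.subgroupOf H : Subgroup H) : Set H) = ⊤

/-- The proper subgroups generated by their own conjugates of `A`. -/
def family (A : Subgroup G) : Set (Subgroup G) := {H | A ≤ H ∧ H ≠ ⊤ ∧ Gen A H}

theorem le_of_gen {A H K : Subgroup G} (h : Gen A H) (hHK : H ≤ K) (N : Subgroup K) [N.Normal]
    (hAN : A.subgroupOf K ≤ N) : H.subgroupOf K ≤ N := by
  have h1 : Subgroup.normalClosure ((A.subgroupOf H : Subgroup H) : Set H) ≤
      N.comap (Subgroup.inclusion hHK) :=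
    Subgroup.normalClosure_le_normal fun x hx => hAN hx
  rw [h, top_le_iff] at h1
  intro x hx
  have := h1.ge (Subgroup.mem_top (⟨x.1, hx⟩ : H))
  exact this

theorem gen_self (A : Subgroup G) : Gen A A := by
  rw [Gen, Subgroup.subgroupOf_self]
  exact top_le_iff.1 Subgroup.le_normalClosure

theorem Gen.mono {A B H : Subgroup G} (h : Gen A H) (hAB : A ≤ B) : Gen B H :=
  top_le_iff.1 (h.ge.trans (Subgroup.normalClosure_mono fun _ hx => hAB hx))

theorem Gen.trans {A B H : Subgroup G} (hB : Gen A B) (hBH : B ≤ H) (h : Gen B H) : Gen A H := by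
  refine top_le_iff.1 ?_
  rw [← h]
  exact Subgroup.normalClosure_le_normal (le_of_gen hB hBH _ Subgroup.le_normalClosure)

theorem gen_sSup {A : Subgroup G} {S : Set (Subgroup G)}
    (hS : ∀ H ∈ S, Gen A H) : Gen A (sSup S) := by
  set N := Subgroup.normalClosure ((A.subgroupOf (sSup S) : Subgroup ↥(sSup S)) : Set ↥(sSup S))
  have : sSup S ≤ N.map (sSup S).subtype :=
    sSup_le fun H hH x hx => ⟨⟨x, le_sSup hH hx⟩,
      le_of_gen (hS H hH) (le_sSup hH) N Subgroup.le_normalClosure hx, rfl⟩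
  refine top_le_iff.1 fun x _ => ?_
  obtain ⟨y, hy, hyx⟩ := this x.2
  rwa [show x = y from Subtype.ext hyx.symm]

theorem eq_of_sn_gen {B H : Subgroup G} (hBH : B ≤ H) (h : (B.subgroupOf H).IsSubnormal)
    (hg : Gen B H) : B = H := by
  by_contra hne
  have ht : B.subgroupOf H ≠ ⊤ := fun e => hne (le_antisymm hBH (Subgroup.subgroupOf_eq_top.1 e))
  obtain ⟨K, hK, hle, hlt⟩ := h.exists_normal_and_le_and_lt_top_of_ne ht
  exact hlt.ne (top_le_iff.1 (hg.ge.trans (Subgroup.normalClosure_le_normal hle)))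

theorem sn_mono {A H P : Subgroup G} (hHP : H ≤ P) (h : (A.subgroupOf P).IsSubnormal) :
    (A.subgroupOf H).IsSubnormal :=
  h.comap (Subgroup.inclusion hHP)

theorem exists_subnormal_closure [Finite G] (A H : Subgroup G) (hAH : A ≤ H) :
    ∃ T, A ≤ T ∧ T ≤ H ∧ (T.subgroupOf H).IsSubnormal ∧ Gen A T := by
  obtain ⟨T, hT⟩ := Set.Finite.exists_minimal
    (s := {T : Subgroup G | A ≤ T ∧ T ≤ H ∧ (T.subgroupOf H).IsSubnormal}) (Set.toFinite _)
    ⟨H, hAH, le_rfl, by rw [Subgroup.subgroupOf_self]; exact Subgroup.IsSubnormal.top⟩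
  obtain ⟨hAT, hTH, hsn⟩ := hT.prop
  refine ⟨T, hAT, hTH, hsn, ?_⟩
  set N := Subgroup.normalClosure ((A.subgroupOf T : Subgroup T) : Set T)
  set N' := N.map T.subtype with hN'
  have hN'T : N' ≤ T := Subgroup.map_subtype_le N
  have hle : A ≤ N' := fun a ha => ⟨⟨a, hAT ha⟩, Subgroup.le_normalClosure ha, rfl⟩
  have hsn' : (N'.subgroupOf H).IsSubnormal := by
    refine Subgroup.IsSubnormal.step _ (T.subgroupOf H) (fun x hx => hN'T hx) hsn ?_
    rw [Subgroup.normal_subgroupOf_iff
      (show N'.subgroupOf H ≤ T.subgroupOf H from fun x hx => hN'T hx)]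
    rintro n t ⟨m, hm, hmn⟩ ht
    refine ⟨⟨t.1, ht⟩ * m * ⟨t.1, ht⟩⁻¹,
      (Subgroup.normalClosure_normal (s := ((A.subgroupOf T : Subgroup T) : Set T))).conj_mem m hm _,
      ?_⟩
    simp only [Subgroup.coe_subtype] at hmn
    simp [hmn]
  have := hT.eq_of_le ⟨hle, hN'T.trans hTH, hsn'⟩ hN'T
  refine top_le_iff.1 fun x _ => ?_
  obtain ⟨y, hy, hyx⟩ := this.ge (x.2)
  rwa [show x = y from Subtype.ext hyx.symm]

theorem exists_conj_le_of_sn {X J : Subgroup G} (hX : X.IsSubnormal) (hXJ : X ≤ J) (hJ : J ≠ ⊤) :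
    ∃ x, x ∉ J ∧ MulAut.conj x • X ≤ J := by
  induction hX with
  | top => exact absurd (top_le_iff.1 hXJ) hJ
  | step H K hle _ hN ih =>
    by_cases hK : K ≤ J
    · obtain ⟨x, hx, hle'⟩ := ih hK
      exact ⟨x, hx, (Subgroup.pointwise_smul_le_pointwise_smul_iff.2 hle).trans hle'⟩
    · obtain ⟨x, hxK, hxJ⟩ := SetLike.not_le_iff_exists.1 hK
      refine ⟨x, hxJ, le_of_eq_of_le ?_ hXJ⟩
      exact conj_smul_of_mem_normalizer ((Subgroup.normal_subgroupOf_iff_le_normalizer hle).1 hN hxK)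

theorem normalClosure_conj {A : Subgroup G} (h : Subgroup.normalClosure (A : Set G) = ⊤) (g : G) :
    Subgroup.normalClosure ((MulAut.conj g • A : Subgroup G) : Set G) = ⊤ := by
  refine top_le_iff.1 ?_
  rw [← h]
  refine Subgroup.normalClosure_le_normal fun a ha => ?_
  have h1 : g * a * g⁻¹ ∈ Subgroup.normalClosure ((MulAut.conj g • A : Subgroup G) : Set G) :=
    Subgroup.le_normalClosure (mem_conj_smul.2 (by simpa [mul_assoc] using ha))
  simpa [mul_assoc] using (Subgroup.normalClosure_normal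
    (s := ((MulAut.conj g • A : Subgroup G) : Set G))).conj_mem' _ h1 g

theorem isCoatom_conj {M : Subgroup G} (h : IsCoatom M) (g : G) :
    IsCoatom (MulAut.conj g • M) := by
  rw [conj_smul_eq_map]
  exact ((MulAut.conj g).mapSubgroup.isCoatom_iff M).2 h

theorem sn_conj {A P : Subgroup G} (h : (A.subgroupOf P).IsSubnormal) (g : G) :
    ((MulAut.conj g • A).subgroupOf (MulAut.conj g • P)).IsSubnormal := by
  rw [conj_smul_eq_map, conj_smul_eq_map]
  have h2 := h.map (f := (MulAut.conj g).toMonoidHom.subgroupMap P)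
    (MonoidHom.subgroupMap_surjective _ _)
  convert h2 using 1
  ext x
  constructor
  · rintro ⟨a, ha, hax⟩
    obtain ⟨b, hb, hbx⟩ := x.2
    have : a = b := (MulAut.conj g).injective (hax.trans hbx.symm)
    exact ⟨⟨b, hb⟩, show b ∈ A from this ▸ ha, Subtype.ext hbx⟩
  · rintro ⟨a, ha, rfl⟩
    exact ⟨a, ha, rfl⟩

theorem conj_smul_cancel (g : G) (H : Subgroup G) : MulAut.conj g⁻¹ • MulAut.conj g • H = H := by
  rw [conj_smul_conj, inv_mul_cancel, conj_one_smul]

variable [Finite G]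

/-- The core of the argument: `A` is not subnormal in `M` and is subnormal in every other maximal
subgroup containing it, and strictly larger subgroups of the same kind lie in a unique maximal
subgroup. -/
theorem core {A M : Subgroup G} (hA : Subgroup.normalClosure (A : Set G) = ⊤)
    (hM : IsCoatom M) (hAM : A ≤ M)
    (hsn : ∀ P, IsCoatom P → A ≤ P → P ≠ M → (A.subgroupOf P).IsSubnormal)
    (IH : ∀ B : Subgroup G, Nat.card A < Nat.card B → Subgroup.normalClosure (B : Set G) = ⊤ →
      B ≠ ⊤ → sSup (family B) ≠ ⊤ → ∀ P Q, IsCoatom P → IsCoatom Q → B ≤ P → B ≤ Q → P = Q)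
    {N : Subgroup G} (hN : IsCoatom N) (hAN : A ≤ N) : N = M := by
  by_contra hne
  have hown : ∀ (h : G) (P : Subgroup G), IsCoatom P → MulAut.conj h • A ≤ P →
      P ≠ MulAut.conj h • M → ((MulAut.conj h • A).subgroupOf P).IsSubnormal := by
    intro h P hP hle hPne
    have hP' : MulAut.conj h • MulAut.conj h⁻¹ • P = P := by
      rw [conj_smul_conj, mul_inv_cancel, conj_one_smul]
    have h1 : A ≤ MulAut.conj h⁻¹ • P :=
      (conj_smul_cancel h A).ge.trans (Subgroup.pointwise_smul_le_pointwise_smul_iff.2 hle)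
    have h2 := sn_conj (hsn _ (isCoatom_conj hP h⁻¹) h1 fun e => hPne (by rw [← hP', e])) h
    rwa [hP'] at h2
  have pair : ∀ (h k : G) (P Q : Subgroup G), IsCoatom P → IsCoatom Q → P ≠ Q →
      MulAut.conj h • A ≤ P ⊓ Q → MulAut.conj k • A ≤ P ⊓ Q →
      MulAut.conj k • A ≤ MulAut.conj h • M := by
    intro h k P Q hP hQ hPQ hC hD
    by_contra hnot
    set C := MulAut.conj h • A with hCdef
    set D := MulAut.conj k • A with hDdef
    set B := C ⊔ D with hB
    have hBP : B ≤ P := sup_le (hC.trans inf_le_left) (hD.trans inf_le_left)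
    have hBQ : B ≤ Q := sup_le (hC.trans inf_le_right) (hD.trans inf_le_right)
    have hlt : C < B := by
      refine lt_of_le_of_ne le_sup_left fun e => hnot ?_
      have : D ≤ C := e.ge.trans' le_sup_right
      exact this.trans (Subgroup.pointwise_smul_le_pointwise_smul_iff.2 hAM)
    have hcard : Nat.card A < Nat.card B := by
      rw [← card_conj_smul h A]; exact card_lt_of_lt hlt
    have hBt : Subgroup.normalClosure (B : Set G) = ⊤ :=
      top_le_iff.1 ((normalClosure_conj hA h).ge.trans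
        (Subgroup.normalClosure_mono fun _ hx => hlt.le hx))
    refine hPQ (IH B hcard hBt (fun e => hP.1 (top_le_iff.1 (e ▸ hBP))) ?_ P Q hP hQ hBP hBQ)
    -- every member of the family of `B` lies in `k • M` or equals `B`
    have key : ∀ H ∈ family B, H ≤ MulAut.conj k • M ∨ H = B := by
      rintro H ⟨hBH, hHt, hgen⟩
      obtain ⟨L, hL, hHL⟩ := (eq_top_or_exists_le_coatom H).resolve_left hHt
      have hLh : L ≠ MulAut.conj h • M := by
        rintro rfl
        exact hnot ((le_sup_right.trans hBH).trans hHL)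
      by_cases hLk : L = MulAut.conj k • M
      · exact Or.inl (hLk ▸ hHL)
      refine Or.inr (eq_of_sn_gen hBH ?_ hgen).symm
      have h1 := sn_mono hHL (hown h L hL ((le_sup_left.trans hBH).trans hHL) hLh)
      have h2 := sn_mono hHL (hown k L hL ((le_sup_right.trans hBH).trans hHL) hLk)
      rw [hB, Subgroup.subgroupOf_sup (le_sup_left.trans hBH) (le_sup_right.trans hBH)]
      exact isSubnormal_sup h1 h2
    intro htop
    by_cases hCk : B ≤ MulAut.conj k • M
    · refine (isCoatom_conj hM k).1 (top_le_iff.1 (htop.ge.trans (sSup_le fun H hH => ?_)))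
      rcases key H hH with h' | h'
      · exact h'
      · exact h'.le.trans hCk
    · refine hP.1 (top_le_iff.1 (htop.ge.trans (sSup_le fun H hH => ?_)))
      rcases key H hH with h' | h'
      · exact absurd (hH.1.trans h') hCk
      · exact h'.le.trans hBP
  -- a pair of maximal subgroups with largest intersection among those containing a conjugate
  obtain ⟨⟨P, Q⟩, ⟨hP, hQ, hPQ, g₀, hg₀⟩, hmax⟩ := Set.exists_max_image
    {t : Subgroup G × Subgroup G | IsCoatom t.1 ∧ IsCoatom t.2 ∧ t.1 ≠ t.2 ∧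
      ∃ h : G, MulAut.conj h • A ≤ t.1 ⊓ t.2} (fun t => Nat.card ↥(t.1 ⊓ t.2)) (Set.toFinite _)
    ⟨(M, N), hM, hN, Ne.symm hne, 1, by rw [conj_one_smul]; exact le_inf hAM hAN⟩
  simp only at hP hQ hPQ hg₀ hmax
  set I := P ⊓ Q with hI
  set 𝓐 := {h : G | MulAut.conj h • A ≤ I} with h𝓐
  set Ω := (fun h : G => MulAut.conj h • M) '' 𝓐 with hΩ
  set S : Subgroup G := (MulAction.stabilizer (MulAut G) Ω).comap MulAut.conj with hS
  have hmemS : ∀ x : G, (∀ O ∈ Ω, MulAut.conj x • O ∈ Ω) → x ∈ S := by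
    intro x hx
    rw [hS, Subgroup.mem_comap, MulAction.mem_stabilizer_iff]
    refine Set.eq_of_subset_of_ncard_le ?_ (Set.ncard_smul_set _ _).ge (Set.toFinite _)
    rintro _ ⟨O, hO, rfl⟩
    exact hx O hO
  have hIS : I ≤ S := by
    intro x hx
    refine hmemS x ?_
    rintro _ ⟨h, hh, rfl⟩
    refine ⟨x * h, ?_, (conj_smul_conj x h M).symm⟩
    show MulAut.conj (x * h) • A ≤ I
    rw [← conj_smul_conj, ← Subgroup.conj_smul_eq_self_of_mem hx]
    exact Subgroup.pointwise_smul_le_pointwise_smul_iff.2 hh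
  -- each of `P`, `Q` contains an element outside `I` stabilising `Ω`
  have side : ∀ R : Subgroup G, IsCoatom R → I < R → ∃ x ∈ R, x ∉ I ∧ x ∈ S := by
    intro R hR hIR
    classical
    set W := {h : G | h ∈ 𝓐 ∧ MulAut.conj h • M ≠ R} with hW
    set X := (Set.toFinite W).toFinset.sup fun h => MulAut.conj h • A with hX
    have hXI : X ≤ I := Finset.sup_le fun h hh => ((Set.Finite.mem_toFinset _).1 hh).1
    have hXsn : (X.subgroupOf R).IsSubnormal := by
      refine (Finset.sup_induction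
        (p := fun Y => Y ≤ R ∧ (Y.subgroupOf R).IsSubnormal) ?_ ?_ ?_).2
      · refine ⟨bot_le, ?_⟩
        rw [Subgroup.bot_subgroupOf]; exact Subgroup.IsSubnormal.bot
      · rintro Y ⟨hY, hYs⟩ Z ⟨hZ, hZs⟩
        refine ⟨sup_le hY hZ, ?_⟩
        rw [Subgroup.subgroupOf_sup hY hZ]
        exact isSubnormal_sup hYs hZs
      · intro h hh
        obtain ⟨hh1, hh2⟩ := (Set.Finite.mem_toFinset _).1 hh
        exact ⟨hh1.trans hIR.le, hown h R hR (hh1.trans hIR.le) (Ne.symm hh2)⟩
    obtain ⟨x, hxJ, hxle⟩ := exists_conj_le_of_sn hXsn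
      (show X.subgroupOf R ≤ I.subgroupOf R from fun y hy => hXI hy)
      (fun e => hIR.not_ge (Subgroup.subgroupOf_eq_top.1 e))
    have hxX : MulAut.conj (x : G) • X ≤ I := by
      intro y hy
      have hyR : y ∈ R := by
        rw [← Subgroup.conj_smul_eq_self_of_mem x.2]
        exact Subgroup.pointwise_smul_le_pointwise_smul_iff.2 (hXI.trans hIR.le) hy
      refine hxle (show (⟨y, hyR⟩ : R) ∈ MulAut.conj x • X.subgroupOf R from ?_)
      rw [mem_conj_smul, Subgroup.mem_subgroupOf]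
      rw [mem_conj_smul] at hy
      exact hy
    have hWW : ∀ h ∈ W, (x : G) * h ∈ W := by
      rintro h ⟨hh1, hh2⟩
      refine ⟨?_, fun e => hh2 ?_⟩
      · show MulAut.conj ((x : G) * h) • A ≤ I
        rw [← conj_smul_conj]
        exact (Subgroup.pointwise_smul_le_pointwise_smul_iff.2
          (Finset.le_sup (f := fun h => MulAut.conj h • A)
            ((Set.Finite.mem_toFinset (Set.toFinite W)).2 ⟨hh1, hh2⟩))).trans hxX
      · rw [← conj_smul_cancel (x : G) (MulAut.conj h • M), conj_smul_conj (x : G) h, e,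
          Subgroup.conj_smul_eq_self_of_mem (inv_mem x.2)]
    refine ⟨x, x.2, fun hx => hxJ hx, hmemS x ?_⟩
    rintro _ ⟨h, hh, rfl⟩
    by_cases hO : MulAut.conj h • M = R
    · exact ⟨h, hh, by simp only; rw [hO, Subgroup.conj_smul_eq_self_of_mem x.2]⟩
    · exact ⟨x * h, (hWW h ⟨hh, hO⟩).1, (conj_smul_conj _ _ _).symm⟩
  have hIP : I < P := lt_of_le_of_ne inf_le_left fun e =>
    hPQ (((hP.le_iff.1 (e ▸ inf_le_right : P ≤ Q)).resolve_left hQ.1).symm)
  have hIQ : I < Q := lt_of_le_of_ne inf_le_right fun e =>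
    hPQ (((hQ.le_iff.1 (e ▸ inf_le_left : Q ≤ P)).resolve_left hP.1))
  by_cases hSt : S = ⊤
  · -- every conjugate of `M` contains `g₀ • A`
    have hall : ∀ b : G, MulAut.conj g₀ • A ≤ MulAut.conj b • M := by
      intro b
      have hb : b * g₀⁻¹ ∈ S := hSt ▸ Subgroup.mem_top _
      rw [hS, Subgroup.mem_comap, MulAction.mem_stabilizer_iff] at hb
      have : MulAut.conj b • M ∈ Ω := by
        rw [← hb]
        exact ⟨_, ⟨g₀, hg₀, rfl⟩, by simp only; rw [conj_smul_conj, inv_mul_cancel_right]⟩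
      obtain ⟨h, hh, hhM⟩ := this
      simp only at hhM
      rw [← hhM]
      exact pair h g₀ P Q hP hQ hPQ hh hg₀
    refine hM.1 (top_le_iff.1 ((normalClosure_conj hA g₀).ge.trans
      ((Subgroup.normalClosure_le_normal (N := M.normalCore) fun a ha b => ?_).trans
        (Subgroup.normalCore_le M))))
    have := hall b⁻¹ ha
    rwa [mem_conj_smul, inv_inv] at this
  · obtain ⟨L, hL, hSL⟩ := (eq_top_or_exists_le_coatom S).resolve_left hSt
    have key : ∀ R : Subgroup G, IsCoatom R → I < R → L = R := by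
      intro R hR hIR
      by_contra hLR
      obtain ⟨x, hxR, hxI, hxS⟩ := side R hR hIR
      have h1 := hmax (L, R) ⟨hL, hR, hLR, g₀, le_inf (hg₀.trans (hIS.trans hSL))
        (hg₀.trans hIR.le)⟩
      refine absurd h1 (not_le.2 (card_lt_of_lt (lt_of_le_of_ne
        (le_inf (hIS.trans hSL) hIR.le) fun e => hxI ?_)))
      exact e ▸ Subgroup.mem_inf.2 ⟨hSL hxS, hxR⟩
    exact hPQ ((key P hP hIP).symm.trans (key Q hQ hIQ))

/-- Flavell's theorem. -/
theorem unique_maximal (A : Subgroup G) (hA : Subgroup.normalClosure (A : Set G) = ⊤) (hAt : A ≠ ⊤)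
    (hY : sSup (family A) ≠ ⊤) : ∀ P Q : Subgroup G, IsCoatom P → IsCoatom Q → A ≤ P → A ≤ Q →
      P = Q := by
  suffices h : ∀ n, ∀ A : Subgroup G, Nat.card G ≤ Nat.card A + n →
      Subgroup.normalClosure (A : Set G) = ⊤ → A ≠ ⊤ → sSup (family A) ≠ ⊤ →
      ∀ P Q : Subgroup G, IsCoatom P → IsCoatom Q → A ≤ P → A ≤ Q → P = Q from
    h (Nat.card G) A (Nat.le_add_left _ _) hA hAt hY
  intro n
  induction n with
  | zero =>
    intro A hle _ hAt
    exact absurd (card_lt_of_ne_top hAt) (by omega)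
  | succ n ih =>
    intro A hle hA hAt hY
    have IH : ∀ B : Subgroup G, Nat.card A < Nat.card B → Subgroup.normalClosure (B : Set G) = ⊤ →
        B ≠ ⊤ → sSup (family B) ≠ ⊤ →
        ∀ P Q, IsCoatom P → IsCoatom Q → B ≤ P → B ≤ Q → P = Q :=
      fun B hB h1 h2 h3 => ih B (by omega) h1 h2 h3
    obtain ⟨M₀, hM₀, hYM₀⟩ := (eq_top_or_exists_le_coatom _).resolve_left hY
    have honly : ∀ P, IsCoatom P → A ≤ P → ¬ (A.subgroupOf P).IsSubnormal → P = M₀ := by
      intro P hP hAP hns
      obtain ⟨T, hAT, hTP, hTsn, hTgen⟩ := exists_subnormal_closure A P hAP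
      have hTt : T ≠ ⊤ := fun e => hP.1 (top_le_iff.1 (e ▸ hTP))
      have hlt : A < T := lt_of_le_of_ne hAT fun e => hns (e ▸ hTsn)
      have hTY : T ≤ sSup (family A) := le_sSup ⟨hAT, hTt, hTgen⟩
      refine IH T (card_lt_of_lt hlt)
        (top_le_iff.1 (hA.ge.trans (Subgroup.normalClosure_mono fun _ hx => hAT hx))) hTt ?_
        P M₀ hP hM₀ hTP (hTY.trans hYM₀)
      exact fun e => hY (top_le_iff.1 (e.ge.trans
        (sSup_le_sSup fun H hH => ⟨hAT.trans hH.1, hH.2.1, hTgen.trans hH.1 hH.2.2⟩)))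
    by_cases hex : ∃ P, IsCoatom P ∧ A ≤ P ∧ ¬ (A.subgroupOf P).IsSubnormal
    · obtain ⟨P₀, hP₀, hAP₀, hns⟩ := hex
      have e0 := honly P₀ hP₀ hAP₀ hns
      subst e0
      intro P Q hP hQ hAP hAQ
      have key : ∀ N, IsCoatom N → A ≤ N → N = P₀ := fun N hN hAN =>
        core hA hP₀ hAP₀ (fun R hR hAR hne => by
          by_contra h
          exact hne (honly R hR hAR h)) IH hN hAN
      rw [key P hP hAP, key Q hQ hAQ]
    · push Not at hex
      refine fun P Q hP hQ hAP hAQ => zipper A ?_ ?_ P Q hP hQ hAP hAQ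
      · intro H hH hAH
        obtain ⟨R, hR, hHR⟩ := (eq_top_or_exists_le_coatom H).resolve_left hH
        exact sn_mono hHR (hex R hR (hAH.trans hHR))
      · intro hsn
        obtain ⟨K, hK, hle, hlt⟩ := hsn.exists_normal_and_le_and_lt_top_of_ne hAt
        exact hlt.ne (top_le_iff.1 (hA.ge.trans (Subgroup.normalClosure_le_normal hle)))

end Cfsg.Agent.Solv.UniqueMaximal
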