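import Cfsg.Agent.Lib.Solv.FactParts
import Cfsg.Agent.Lib.Solv.Coprime
import Cfsg.Agent.Lib.Char.Burnside
import Cfsg.Agent.S0558
import Cfsg.Agent.S0561
import Cfsg.Agent.S0562
import Cfsg.Agent.S0566

/-!
A product of two nilpotent subgroups of coprime orders is solvable.

A minimal counterexample is simple. Both factors are TI subgroups with Frobenius-like normalizers,
and counting the elements of the three kinds exceeds the group order.
-/

set_option autoImplicit false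
set_option linter.style.haveILetI false
set_option linter.unusedSectionVars false

open scoped Pointwise

namespace Cfsg.Agent.Solv.Fct

universe u

variable {G : Type u} [Group G] [Finite G]

/-- a minimal counterexample -/
structure KW (A B : Subgroup G) : Prop extends IsFct A B where
  simple : IsSimpleGroup G
  nonsolv : ¬ Group.IsSolvable G
  ih : ∀ L : Subgroup G, Fac A B L → L ≠ ⊤ → Group.IsSolvable L

variable {A B : Subgroup G}

theorem KW.symm (h : KW A B) : KW B A :=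
  ⟨h.toIsFct.symm, h.simple, h.nonsolv, fun L hL hne => h.ih L hL.symm hne⟩

theorem KW.normal_eq (h : KW A B) {X : Subgroup G} (hX : X ≠ ⊥) (hn : ⊤ ≤ Subgroup.normalizer (X : Set G)) :
    X = ⊤ :=
  haveI : X.Normal := Subgroup.normalizer_eq_top_iff.1 (top_le_iff.1 hn)
  (h.simple.eq_bot_or_eq_top_of_normal X inferInstance).resolve_left hX

theorem KW.not_pgroup (h : KW A B) {p : ℕ} [Fact p.Prime] : ¬ IsPGroup p G := fun hp =>
  h.nonsolv (by haveI := hp.isNilpotent; infer_instance)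

theorem KW.A_ne_top (h : KW A B) : A ≠ ⊤ := fun e => h.nonsolv (by
  haveI : Group.IsNilpotent (⊤ : Subgroup G) := e ▸ h.nilA
  haveI : Group.IsNilpotent G := Group.nilpotent_of_mulEquiv Subgroup.topEquiv
  infer_instance)

theorem KW.A_ne_bot (h : KW A B) : A ≠ ⊥ := fun e => h.symm.A_ne_top (by
  rw [eq_top_iff]
  intro g _
  obtain ⟨a, ha, b, hb, rfl⟩ := h.prod g
  rw [e, Subgroup.mem_bot] at ha
  rwa [ha, one_mul])

theorem KW.center_eq_one (h : KW A B) {z : G} (hz : ∀ g, z * g = g * z) : z = 1 := by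
  rcases h.simple.eq_bot_or_eq_top_of_normal (Subgroup.center G) inferInstance with e | e
  · exact Subgroup.mem_bot.1 (e ▸ Subgroup.mem_center_iff.2 fun g => (hz g).symm)
  · exact absurd (Group.isSolvable_of_comm fun a b =>
      Subgroup.mem_center_iff.1 (e ▸ Subgroup.mem_top b : b ∈ Subgroup.center G) a) h.nonsolv

theorem exists_prime_dvd_of_ne_bot {X : Subgroup G} (hX : X ≠ ⊥) : ∃ p : ℕ, p.Prime ∧ p ∣ Nat.card X :=
  Nat.exists_prime_and_dvd fun e => hX (Subgroup.card_eq_one.1 e)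

theorem KW.exists_other (h : KW A B) (p : ℕ) : ∃ u : ℕ, u.Prime ∧ u ≠ p ∧ u ∣ Nat.card A := by
  by_contra hne
  push Not at hne
  obtain ⟨q, hq, hqA⟩ := exists_prime_dvd_of_ne_bot h.A_ne_bot
  have hqp : q = p := by_contra fun e => hne q hq e hqA
  subst hqp
  have hpow : Nat.card A = q ^ (Nat.card A).primeFactorsList.length := by
    refine Nat.eq_prime_pow_of_unique_prime_dvd Nat.card_pos.ne' fun {d} hd hdA => ?_
    exact by_contra fun e => hne d hd e hdA
  obtain ⟨r, hr, hrB⟩ := exists_prime_dvd_of_ne_bot h.symm.A_ne_bot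
  haveI : Fact r.Prime := ⟨hr⟩
  obtain ⟨w, -, hw1, -, hwc⟩ := exists_central h.nilB hrB
  have hle : B ≤ Subgroup.centralizer ({w} : Set G) := fun b hb =>
    Subgroup.mem_centralizer_singleton_iff.2 (hwc b hb).symm
  have hd := Subgroup.index_dvd_of_le hle
  rw [h.toIsFct.symm.index, hpow] at hd
  obtain ⟨i, -, hi⟩ := (Nat.dvd_prime_pow hq).1 hd
  haveI := h.simple
  exact h.nonsolv (haveI := Fact.mk (Cfsg.Agent.Char.prime_card_of_prime_power_class hq hw1 hi)
    haveI := (IsPGroup.of_card (p := Nat.card G) (n := 1) (pow_one (Nat.card G)).symm).isNilpotent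
    inferInstance)

/-- the normalizer of a join is factorised -/
theorem KW.normalizer_fac (h : KW A B) {A0 B0 : Subgroup G} (hA0 : A0 ≤ A)
    (hA0n : A ≤ Subgroup.normalizer (A0 : Set G)) (hB0 : B0 ≤ B) (hB0n : B ≤ Subgroup.normalizer (B0 : Set G)) :
    Fac A B (Subgroup.normalizer ((A0 ⊔ B0 : Subgroup G) : Set G)) := by
  intro a ha b hb hab
  obtain ⟨a', ha', b', hb', e⟩ := S0562.result A B A0 B0 h.prod hA0
    ((Subgroup.normal_subgroupOf_iff_le_normalizer hA0).2 hA0n) hB0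
    ((Subgroup.normal_subgroupOf_iff_le_normalizer hB0).2 hB0n) _ hab
  rw [(h.toIsFct.unique ha ha'.2 hb hb'.2 e).1]
  exact ha'.1

/-- a subgroup containing `B` and a subgroup normal in `A` is everything -/
theorem KW.closure_top (h : KW A B) {A0 : Subgroup G} (hA0 : A0 ≤ A)
    (hA0n : A ≤ Subgroup.normalizer (A0 : Set G)) (hne : A0 ≠ ⊥) {N : Subgroup G} (hB : B ≤ N) (hN : A0 ≤ N) :
    N = ⊤ := by
  have hle : Subgroup.normalClosure (A0 : Set G) ≤ N := by
    refine (Subgroup.closure_le _).2 fun z hz => ?_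
    obtain ⟨x, hx, hc⟩ := Group.mem_conjugatesOfSet_iff.1 hz
    obtain ⟨g, rfl⟩ := isConj_iff.1 hc
    obtain ⟨b, hb, a, ha, rfl⟩ := h.toIsFct.symm.prod g
    rw [show b * a * x * (b * a)⁻¹ = b * (a * x * a⁻¹) * b⁻¹ by group]
    exact N.mul_mem (N.mul_mem (hB hb) (hN ((Subgroup.mem_normalizer_iff.1 (hA0n ha) x).1 hx))) (N.inv_mem (hB hb))
  rcases h.simple.eq_bot_or_eq_top_of_normal (Subgroup.normalClosure (A0 : Set G)) inferInstance with e | e
  · exact absurd (eq_bot_iff.2 (e ▸ Subgroup.le_normalClosure)) hne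
  · exact top_le_iff.1 (e ▸ hle)

/-- primary parts of the two factors generate -/
theorem KW.parts_top (h : KW A B) {p q : ℕ} [Fact p.Prime] [Fact q.Prime] (hp : p ∣ Nat.card A)
    (hq : q ∣ Nat.card B) : part A p ⊔ part B q = ⊤ := by
  by_contra hne
  obtain ⟨L, hL⟩ : ∃ L, L = Subgroup.normalizer ((part A p ⊔ part B q : Subgroup G) : Set G) := ⟨_, rfl⟩
  have hAB : part A p ≤ L ∧ part B q ≤ L := by
    rw [hL]
    exact ⟨le_sup_left.trans Subgroup.le_normalizer, le_sup_right.trans Subgroup.le_normalizer⟩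
  have hfac : Fac A B L := hL ▸ h.normalizer_fac (part_le A p) (le_normalizer_part h.nilA p) (part_le B q)
    (le_normalizer_part h.nilB q)
  have hLt : L ≠ ⊤ := fun e => hne (h.normal_eq
    (fun e' => part_ne_bot A hp (eq_bot_iff.2 (le_sup_left.trans e'.le))) (hL ▸ e.ge))
  haveI := h.ih L hfac hLt
  have hf := hfac.sub h.toIsFct
  have key : ∀ {C : Subgroup G} {c : ℕ} [Fact c.Prime], Group.IsNilpotent C → part C c ≤ L →
      ¬ c ∣ (part C c).index → (((part C c).subgroupOf L).subgroupOf (C.subgroupOf L)).Normal ∧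
      (Nat.card ((part C c).subgroupOf L)).Coprime ((part C c).subgroupOf L).index := by
    intro C c _ hC hle hidx
    refine ⟨⟨fun x hx v => part_conj hC v.2 hx⟩, ?_⟩
    rw [card_subgroupOf hle, part_card]
    refine Nat.Coprime.pow_left _ (((Fact.out : c.Prime).coprime_iff_not_dvd).2 fun hd => hidx ?_)
    exact hd.trans (Subgroup.relIndex_dvd_index_of_le hle)
  obtain ⟨kA1, kA2⟩ := key h.nilA hAB.1 (h.toIsFct.part_index hp)
  obtain ⟨kB1, kB2⟩ := key h.nilB hAB.2 (h.toIsFct.symm.part_index hq)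
  obtain ⟨S, hS⟩ := S0561.result (A.subgroupOf L) (B.subgroupOf L) ((part A p).subgroupOf L)
    ((part B q).subgroupOf L) hf.prod (fun x hx => part_le A p hx) kA1 (fun x hx => part_le B q hx) kB1 kA2 kB2 1 1
  rw [map_one, one_smul, one_smul] at hS
  have hperm : ∀ x : G, ∃ T : Subgroup G, T ≠ ⊤ ∧
      (T : Set G) = (part A p : Set G) * ((MulAut.conj x • part B q : Subgroup G) : Set G) := by
    intro x
    obtain ⟨a, ha, b, hb, rfl⟩ := h.prod x
    refine ⟨MulAut.conj a • S.map L.subtype, fun e => hLt (top_le_iff.1 ?_), ?_⟩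
    · have h1 : S.map L.subtype = ⊤ := by
        rw [← inv_smul_smul (MulAut.conj a) (S.map L.subtype), e, ← map_inv, Subgroup.Normal.conj_smul_eq_self]
      exact h1 ▸ Subgroup.map_subtype_le _
    ext g
    rw [SetLike.mem_coe, mem_conj_smul]
    constructor
    · rintro ⟨v, hv, e⟩
      have hv' : v ∈ (S : Set L) := hv
      rw [hS] at hv'
      obtain ⟨c, hc, d, hd, rfl⟩ := hv'
      refine ⟨a * (c : G) * a⁻¹, part_conj h.nilA ha hc, a * (d : G) * a⁻¹, ?_, ?_⟩
      · rw [SetLike.mem_coe, mem_conj_smul]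
        have hd' : (d : G) ∈ part B q := hd
        have := part_conj h.nilB (B.inv_mem hb) hd'
        convert this using 1
        group
      · show a * (c : G) * a⁻¹ * (a * (d : G) * a⁻¹) = g
        have e' : (c : G) * d = a⁻¹ * g * a⁻¹⁻¹ := by simpa using e
        rw [show a * (c : G) * a⁻¹ * (a * (d : G) * a⁻¹) = a * ((c : G) * d) * a⁻¹ by group, e']
        group
    · rintro ⟨c, hc, d, hd, rfl⟩
      rw [SetLike.mem_coe, mem_conj_smul] at hd
      have h1 : a⁻¹ * c * a⁻¹⁻¹ ∈ part A p := part_conj h.nilA (A.inv_mem ha) hc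
      have h2 : a⁻¹ * d * a⁻¹⁻¹ ∈ part B q := by
        have := part_conj h.nilB hb hd
        convert this using 1
        group
      refine ⟨⟨_, hAB.1 h1⟩ * ⟨_, hAB.2 h2⟩, ?_, ?_⟩
      · show _ ∈ (S : Set L)
        rw [hS]
        exact Set.mul_mem_mul h1 h2
      · show a⁻¹ * c * a⁻¹⁻¹ * (a⁻¹ * d * a⁻¹⁻¹) = _
        group
  obtain ⟨N, hN, hNt, hor⟩ := S0566.result _ _ (part_ne_bot A hp) (part_ne_bot B hq) hperm
  have hNb : N = ⊥ := (h.simple.eq_bot_or_eq_top_of_normal N hN).resolve_right hNt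
  rcases hor with e | e
  · exact part_ne_bot A hp (eq_bot_iff.2 (e.trans hNb.le))
  · exact part_ne_bot B hq (eq_bot_iff.2 (e.trans hNb.le))

/-- the Fitting subgroup of a proper factorised subgroup containing a Sylow subgroup of `B` lies in `B` -/
theorem KW.core (h : KW A B) {L : Subgroup G} (hL : Fac A B L) (hne : L ≠ ⊤) {q : ℕ} [Fact q.Prime]
    (hq : q ∣ Nat.card B) (hBL : part B q ≤ L) :
    ∃ F : Subgroup G, F ≤ B ∧ F ≤ L ∧ L ≤ Subgroup.normalizer (F : Set G) ∧
      ∀ w ∈ L, (∀ b ∈ B, w * b = b * w) → w ∈ F := by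
  have hnoS : ∀ S : Subgroup G, S ≤ L → L ≤ Subgroup.normalizer (S : Set G) → ∀ s : ℕ, [Fact s.Prime] →
      IsPGroup s S → s ∣ Nat.card A → S = ⊥ := by
    intro S hSL hSn s _ hS hsA
    by_contra hSb
    have hSA : S ≤ A := hL.normal_le h.toIsFct hSL hSn (by
      obtain ⟨k, hk⟩ := IsPGroup.iff_card.1 hS
      rw [hk]
      exact Nat.Coprime.pow_left k ((Fact.out : s.Prime).coprime_iff_not_dvd.2 (h.toIsFct.not_dvd hsA)))
    obtain ⟨u, hu, hus, huA⟩ := h.exists_other s
    haveI := Fact.mk hu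
    have hSp : S ≤ part A s := fun x hx => mem_part h.nilA (hSA hx) (by
      obtain ⟨k, hk⟩ := IsPGroup.iff_orderOf.1 hS ⟨x, hx⟩
      exact ⟨k, by rwa [Subgroup.orderOf_mk] at hk⟩)
    have hle : part A u ≤ Subgroup.normalizer (S : Set G) := fun x hx =>
      Subgroup.mem_normalizer_fintype fun y hy => by
        rwa [part_comm h.nilA hus hx (hSp hy), mul_inv_cancel_right]
    have htop : ⊤ ≤ Subgroup.normalizer (S : Set G) := by
      rw [← h.parts_top huA hq]; exact sup_le hle (hBL.trans hSn)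
    exact h.A_ne_top (top_le_iff.1 ((h.normal_eq hSb htop).ge.trans hSA))
  haveI := h.ih L hL hne
  obtain ⟨F, hF⟩ : ∃ F, F = (Cfsg.fittingSubgroup L).map L.subtype := ⟨_, rfl⟩
  haveI := fittingSubgroup_normal (G := L)
  have hFL : F ≤ L := hF ▸ Subgroup.map_subtype_le _
  have hFn : L ≤ Subgroup.normalizer (F : Set G) := by
    rw [← Subgroup.normal_subgroupOf_iff_le_normalizer hFL, hF, Subgroup.subgroupOf,
      Subgroup.comap_map_eq_self_of_injective L.subtype_injective]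
    infer_instance
  have hFnil : Group.IsNilpotent F := by
    haveI := fittingSubgroup_nilpotent (G := L)
    rw [hF]
    exact Group.nilpotent_of_mulEquiv ((Cfsg.fittingSubgroup L).equivMapOfInjective _ L.subtype_injective)
  have hcop : (Nat.card F).Coprime (Nat.card A) := by
    refine Nat.coprime_of_dvd fun s hs hsF hsA => ?_
    haveI := Fact.mk hs
    refine part_ne_bot F hsF (hnoS _ ((part_le F s).trans hFL) (fun v hv =>
      Subgroup.mem_normalizer_fintype fun x hx => ?_) s (part_pgroup F s) hsA)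
    exact mem_part hFnil ((Subgroup.mem_normalizer_iff.1 (hFn hv) x).1 (part_le F s hx)) (by
      obtain ⟨k, hk⟩ := part_order hx
      exact ⟨k, by rw [← hk]; exact (MulAut.conj v).orderOf_eq x⟩)
  have hFB : F ≤ B := hL.symm.normal_le h.toIsFct.symm hFL hFn hcop
  refine ⟨F, hFB, hFL, hFn, fun w hw hwc => ?_⟩
  have h1 : (⟨w, hw⟩ : L) ∈ Subgroup.centralizer (Cfsg.fittingSubgroup L : Set L) := by
    rw [Subgroup.mem_centralizer_iff]
    intro x hx
    exact Subtype.ext (hwc x (hFB (hF ▸ Subgroup.mem_map_of_mem L.subtype hx))).symm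
  rw [hF]
  exact Subgroup.mem_map_of_mem L.subtype (centralizer_fitting_le (G := L) inferInstance h1)

/-- if a proper factorised subgroup `L` contains `B_q`, its normaliser of `F ∩ B_q` is a proper subgroup over `B` -/
theorem KW.exists_over (h : KW A B) {L : Subgroup G} (hL : Fac A B L) (hne : L ≠ ⊤) {q : ℕ} [Fact q.Prime]
    (hq : q ∣ Nat.card B) (hBL : part B q ≤ L) : ∃ H : Subgroup G, H ≠ ⊤ ∧ B ≤ H ∧ L ≤ H := by
  obtain ⟨F, hFB, hFL, hFn, hFw⟩ := h.core hL hne hq hBL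
  obtain ⟨w, hw, hw1, -, hwc⟩ := exists_central h.nilB hq
  obtain ⟨V, hV⟩ : ∃ V, V = F ⊓ part B q := ⟨_, rfl⟩
  have hVb : V ≠ ⊥ := fun e => hw1 (Subgroup.mem_bot.1 (e ▸ hV ▸ Subgroup.mem_inf.2 ⟨hFw w (hBL hw) hwc, hw⟩))
  have hVn : L ≤ Subgroup.normalizer (V : Set G) := fun v hv => Subgroup.mem_normalizer_fintype fun x hx => by
    rw [hV] at hx ⊢
    have h1 := (Subgroup.mem_normalizer_iff.1 (hFn hv) x).1 (Subgroup.mem_inf.1 hx).1
    refine Subgroup.mem_inf.2 ⟨h1, mem_part h.nilB (hFB h1) ?_⟩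
    obtain ⟨k, hk⟩ := part_order (Subgroup.mem_inf.1 hx).2
    exact ⟨k, by rw [← hk]; exact (MulAut.conj v).orderOf_eq x⟩
  refine ⟨Subgroup.normalizer (V : Set G), fun e => h.symm.A_ne_top (top_le_iff.1 ?_), ?_, hVn⟩
  · exact (h.normal_eq hVb e.ge).ge.trans ((hV ▸ inf_le_left : V ≤ F).trans hFB)
  refine le_of_parts fun t _ => ?_
  rcases eq_or_ne t q with rfl | htq
  · exact hBL.trans hVn
  · intro x hx
    refine Subgroup.mem_normalizer_fintype fun y hy => ?_
    rw [hV] at hy ⊢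
    rwa [part_comm h.nilB htq hx (Subgroup.mem_inf.1 hy).2, mul_inv_cancel_right]

/-- a non-trivial normal subgroup of `A` and a Sylow subgroup of `B` generate -/
theorem KW.gen_top (h : KW A B) {A0 : Subgroup G} (hA0 : A0 ≤ A) (hA0n : A ≤ Subgroup.normalizer (A0 : Set G))
    (hne : A0 ≠ ⊥) {q : ℕ} [Fact q.Prime] (hq : q ∣ Nat.card B) : A0 ⊔ part B q = ⊤ := by
  by_contra hX
  have hLt : Subgroup.normalizer ((A0 ⊔ part B q : Subgroup G) : Set G) ≠ ⊤ := fun e => hX (h.normal_eq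
    (fun e' => hne (eq_bot_iff.2 (le_sup_left.trans e'.le))) e.ge)
  obtain ⟨H, hH, hBH, hLH⟩ := h.exists_over
    (h.normalizer_fac hA0 hA0n (part_le B q) (le_normalizer_part h.nilB q)) hLt hq
    (le_sup_right.trans Subgroup.le_normalizer)
  exact hH (h.closure_top hA0 hA0n hne hBH ((le_sup_left.trans Subgroup.le_normalizer).trans hLH))

/-- a non-trivial central element of `A` has centralizer `A` -/
theorem KW.centralizer_central (h : KW A B) {z : G} (hz : z ∈ A) (hz1 : z ≠ 1) (hzc : ∀ a ∈ A, z * a = a * z)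
    {g : G} (hg : g * z = z * g) : g ∈ A := by
  obtain ⟨a, ha, b, hb, rfl⟩ := h.prod g
  have hbz : b * z = z * b := by
    have h1 : a * (b * z) = a * (z * b) := by rw [← mul_assoc, hg, ← mul_assoc, hzc a ha, mul_assoc]
    exact mul_left_cancel h1
  suffices b = 1 by rw [this, mul_one]; exact ha
  by_contra hb1
  obtain ⟨q, hq, hqb⟩ := Nat.exists_prime_and_dvd (mt orderOf_eq_one_iff.1 hb1)
  haveI := Fact.mk hq
  obtain ⟨c, hc⟩ : ∃ c, c = b ^ (orderOf b / q) := ⟨_, rfl⟩
  have hco : orderOf c = q := hc ▸ orderOf_pow_orderOf_div (orderOf_pos b).ne' hqb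
  have hcB : c ∈ part B q := mem_part h.nilB (hc ▸ B.pow_mem hb _) ⟨1, by rw [hco, pow_one]⟩
  obtain ⟨t, ht, htq, htB⟩ := h.symm.exists_other q
  haveI := Fact.mk ht
  have htop := h.gen_top (A0 := Subgroup.zpowers z) (Subgroup.zpowers_le.2 hz) (fun x hx =>
    Subgroup.mem_normalizer_fintype fun y hy => by
      obtain ⟨j, rfl⟩ := hy
      show x * z ^ j * x⁻¹ ∈ Subgroup.zpowers z
      rw [← ((show Commute z x from hzc x hx).zpow_left j).eq, mul_inv_cancel_right]
      exact ⟨j, rfl⟩) (fun e => hz1 (Subgroup.mem_bot.1 (e ▸ Subgroup.mem_zpowers z))) htB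
  have hle : (⊤ : Subgroup G) ≤ Subgroup.centralizer ({c} : Set G) := by
    rw [← htop]
    refine sup_le (Subgroup.zpowers_le.2 (Subgroup.mem_centralizer_singleton_iff.2 ?_)) fun x hx =>
      Subgroup.mem_centralizer_singleton_iff.2 (part_comm h.nilB htq hx hcB)
    rw [hc]; exact ((show Commute b z from hbz).pow_left _).eq.symm
  have := h.center_eq_one (z := c) fun g => (Subgroup.mem_centralizer_singleton_iff.1 (hle trivial)).symm
  rw [this, orderOf_one] at hco
  exact hq.ne_one hco.symm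

/-- a proper subgroup containing `B` normalises `B` -/
theorem KW.le_normalizer (h : KW A B) {H : Subgroup G} (hH : H ≠ ⊤) (hBH : B ≤ H) :
    H ≤ Subgroup.normalizer (B : Set G) := by
  intro v hv
  refine Subgroup.mem_normalizer_fintype fun x hx => ?_
  have : B ≤ B.comap (MulAut.conj v).toMonoidHom := le_of_parts fun u _ y hy => by
    show v * y * v⁻¹ ∈ B
    obtain ⟨t, ht, htu, htB⟩ := h.symm.exists_other u
    haveI := Fact.mk ht
    obtain ⟨F, hFB, hFH, hFn, hFw⟩ := h.core (fac_of_ge hBH) hH htB ((part_le B t).trans hBH)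
    obtain ⟨w, hw, hw1, -, hwc⟩ := exists_central h.nilB htB
    have hwF : w ∈ F := hFw w (hBH (part_le B t hw)) hwc
    refine h.symm.centralizer_central (part_le B t hw) hw1 hwc ?_
    have h1 : v⁻¹ * w * v⁻¹⁻¹ ∈ F := (Subgroup.mem_normalizer_iff.1 (hFn (H.inv_mem hv)) w).1 hwF
    have h2 : v⁻¹ * w * v⁻¹⁻¹ ∈ part B t := mem_part h.nilB (hFB h1) (by
      obtain ⟨k, hk⟩ := part_order hw
      exact ⟨k, by rw [← hk]; exact (MulAut.conj v⁻¹).orderOf_eq w⟩)
    have h3 := part_comm h.nilB htu.symm hy h2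
    calc v * y * v⁻¹ * w = v * (y * (v⁻¹ * w * v⁻¹⁻¹)) * v⁻¹ := by group
      _ = v * (v⁻¹ * w * v⁻¹⁻¹ * y) * v⁻¹ := by rw [h3]
      _ = w * (v * y * v⁻¹) := by group
  exact this hx

theorem KW.normalizer_ne_top (h : KW A B) {X : Subgroup G} (hX : X ≠ ⊥) (hle : X ≤ A) :
    Subgroup.normalizer (X : Set G) ≠ ⊤ := fun e =>
  h.A_ne_top (top_le_iff.1 ((h.normal_eq hX e.ge).ge.trans hle))

theorem KW.normalizer_part_le (h : KW A B) {p : ℕ} [Fact p.Prime] (hp : p ∣ Nat.card A) :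
    Subgroup.normalizer (part A p : Set G) ≤ Subgroup.normalizer (A : Set G) :=
  h.symm.le_normalizer (h.normalizer_ne_top (part_ne_bot A hp) (part_le A p)) (le_normalizer_part h.nilA p)

/-- a `p`-element of the normalizer of `A_p` lies in `A_p` -/
theorem KW.mem_part_of_normalizer (h : KW A B) {p : ℕ} [Fact p.Prime] (hp : p ∣ Nat.card A) {x : G}
    (hx : x ∈ Subgroup.normalizer (A : Set G)) (ho : ∃ k, orderOf x = p ^ k) : x ∈ part A p := by
  obtain ⟨P, hP⟩ : ∃ P : Sylow p G, (P : Subgroup G) = part A p := by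
    obtain ⟨P, hP⟩ := (part_pgroup A p).exists_le_sylow
    refine ⟨P, (Subgroup.eq_of_le_of_card_ge hP ?_).symm⟩
    rw [P.card_eq_multiplicity, part_card, h.toIsFct.card, Nat.factorization_mul Nat.card_pos.ne' Nat.card_pos.ne',
      Finsupp.add_apply, Nat.factorization_eq_zero_of_not_dvd (h.toIsFct.not_dvd hp), add_zero]
  have hxn : x ∈ Subgroup.normalizer (part A p : Set G) := Subgroup.mem_normalizer_fintype fun y hy =>
    mem_part h.nilA ((Subgroup.mem_normalizer_iff.1 hx y).1 (part_le A p hy)) (by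
      obtain ⟨k, hk⟩ := part_order hy
      exact ⟨k, by rw [← hk]; exact (MulAut.conj x).orderOf_eq y⟩)
  obtain ⟨k, hk⟩ := ho
  have hxp : IsPGroup p (Subgroup.zpowers x) := IsPGroup.of_card (n := k) (by rw [Nat.card_zpowers, hk])
  have h2 := hxp.to_sup_of_normal_right' (part_pgroup A p) (Subgroup.zpowers_le.2 hxn)
  rw [← hP] at h2 ⊢
  exact (P.3 h2 le_sup_right).le (Subgroup.mem_sup_left (Subgroup.mem_zpowers x))

/-- if a conjugate of `A_u` lies in `N(A)`, the conjugating element does too -/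
theorem KW.mem_normalizer_of_part (h : KW A B) {u : ℕ} [Fact u.Prime] (hu : u ∣ Nat.card A) {g : G}
    (hg : ∀ x ∈ part A u, g * x * g⁻¹ ∈ Subgroup.normalizer (A : Set G)) :
    g ∈ Subgroup.normalizer (A : Set G) :=
  h.normalizer_part_le hu (Subgroup.mem_normalizer_fintype fun x hx =>
    h.mem_part_of_normalizer hu (hg x hx) (by
      obtain ⟨k, hk⟩ := part_order hx
      exact ⟨k, by rw [← hk]; exact (MulAut.conj g).orderOf_eq x⟩))

theorem KW.exists_mem_normalizer (h : KW A B) : ∃ k, k ≠ 1 ∧ k ∈ B ∧ k ∈ Subgroup.normalizer (A : Set G) := by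
  by_contra hne
  push Not at hne
  have hNA : Subgroup.normalizer (A : Set G) = A := by
    refine le_antisymm (fun v hv => ?_) Subgroup.le_normalizer
    obtain ⟨a, ha, b, hb, haN, hbN, rfl⟩ := (fac_of_le (Subgroup.le_normalizer : A ≤ _)).exists_prod h.toIsFct hv
    rcases eq_or_ne b 1 with rfl | hb1
    · rwa [mul_one]
    · exact absurd hbN (hne b hb1 hb)
  obtain ⟨N, hN, hc⟩ := S0558.result A (fun p hp P hPA => by
      haveI := Fact.mk hp
      obtain ⟨u, hu, hup, huA⟩ := h.exists_other p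
      rw [← hPA, P.card_eq_multiplicity] at huA
      exact hup ((Nat.prime_dvd_prime_iff_eq hu hp).1 (hu.dvd_of_dvd_pow huA)))
    (fun p hp hpA P => by
      haveI := Fact.mk hp
      have e : (P : Subgroup A).map A.subtype = part A p := by
        refine Subgroup.eq_of_le_of_card_ge ?_ (by rw [part_card, card_map_subtype, P.card_eq_multiplicity])
        rintro _ ⟨x, hx, rfl⟩
        refine mem_part h.nilA x.2 ?_
        obtain ⟨k, hk⟩ := IsPGroup.iff_orderOf.1 P.2 ⟨x, hx⟩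
        exact ⟨k, by rw [Subgroup.orderOf_mk, ← Subgroup.orderOf_coe] at hk; exact hk⟩
      rw [e]
      exact le_antisymm ((h.normalizer_part_le hpA).trans hNA.le) (le_normalizer_part h.nilA p))
  rcases h.simple.eq_bot_or_eq_top_of_normal N hN with rfl | rfl
  · exact h.A_ne_top (Subgroup.isComplement'_bot_left.1 hc)
  · exact h.A_ne_bot (Subgroup.isComplement'_top_left.1 hc)

/-- the centralizer of an element of `B ∩ N(A)` -/
theorem KW.centralizer_mixed (h : KW A B) {k : G} (hkB : k ∈ B) (hkN : k ∈ Subgroup.normalizer (A : Set G))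
    (hk1 : k ≠ 1) {a : G} (ha : a ∈ A) (hak : a * k = k * a) : a ∈ Subgroup.normalizer (B : Set G) := by
  obtain ⟨q, hq, hqk⟩ := Nat.exists_prime_and_dvd (mt orderOf_eq_one_iff.1 hk1)
  haveI := Fact.mk hq
  obtain ⟨c, hc⟩ : ∃ c, c = k ^ (orderOf k / q) := ⟨_, rfl⟩
  have hco : orderOf c = q := hc ▸ orderOf_pow_orderOf_div (orderOf_pos k).ne' hqk
  have hcB : c ∈ B := hc ▸ B.pow_mem hkB _
  have hcp : c ∈ part B q := mem_part h.nilB hcB ⟨1, by rw [hco, pow_one]⟩
  have hcN : c ∈ Subgroup.normalizer (A : Set G) := hc ▸ pow_mem hkN _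
  have hfac : Fac A B (Subgroup.centralizer ({c} : Set G)) := by
    intro x hx y hy hxy
    rw [Subgroup.mem_centralizer_singleton_iff] at hxy ⊢
    have h1 : x⁻¹ * c * x = y * c * y⁻¹ := by
      calc x⁻¹ * c * x = x⁻¹ * (c * (x * y)) * y⁻¹ := by group
        _ = x⁻¹ * (x * y * c) * y⁻¹ := by rw [hxy]
        _ = y * c * y⁻¹ := by group
    have hA : x⁻¹ * c * x * c⁻¹ ∈ A := by
      rw [show x⁻¹ * c * x * c⁻¹ = x⁻¹ * (c * x * c⁻¹) by group]
      exact A.mul_mem (A.inv_mem hx) ((Subgroup.mem_normalizer_iff.1 hcN x).1 hx)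
    have h2 := h.toIsFct.eq_one hA (h1.symm ▸ B.mul_mem (B.mul_mem (B.mul_mem hy hcB) (B.inv_mem hy)) (B.inv_mem hcB))
    have h3 := mul_inv_eq_one.1 h2
    calc x * c = x * (x⁻¹ * c * x) := by rw [h3]
      _ = c * x := by group
  obtain ⟨t, ht, htq, htB⟩ := h.symm.exists_other q
  haveI := Fact.mk ht
  have hne : Subgroup.centralizer ({c} : Set G) ≠ ⊤ := fun e => by
    have := h.center_eq_one (z := c) fun g =>
      (Subgroup.mem_centralizer_singleton_iff.1 (e ▸ Subgroup.mem_top g : g ∈ Subgroup.centralizer ({c} : Set G))).symm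
    rw [this, orderOf_one] at hco
    exact hq.ne_one hco.symm
  obtain ⟨H, hH, hBH, hCH⟩ := h.exists_over hfac hne htB fun x hx =>
    Subgroup.mem_centralizer_singleton_iff.2 (part_comm h.nilB htq hx hcp)
  refine h.le_normalizer hH hBH (hCH (Subgroup.mem_centralizer_singleton_iff.2 ?_))
  rw [hc]; exact ((show Commute a k from hak).pow_right _).eq

theorem KW.centralizer_mixed' (h : KW A B) {r : G} (hrA : r ∈ A) (hrN : r ∈ Subgroup.normalizer (B : Set G))
    (hr1 : r ≠ 1) {v : G} (hv : v * r = r * v) : v ∈ Subgroup.normalizer (A : Set G) := by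
  obtain ⟨b, hb, a, ha, rfl⟩ := h.toIsFct.symm.prod v
  have h1 : b⁻¹ * r * b = a * r * a⁻¹ := by
    calc b⁻¹ * r * b = b⁻¹ * (r * (b * a)) * a⁻¹ := by group
      _ = b⁻¹ * (b * a * r) * a⁻¹ := by rw [hv]
      _ = a * r * a⁻¹ := by group
  have hB : b⁻¹ * r * b * r⁻¹ ∈ B := by
    rw [show b⁻¹ * r * b * r⁻¹ = b⁻¹ * (r * b * r⁻¹) by group]
    exact B.mul_mem (B.inv_mem hb) ((Subgroup.mem_normalizer_iff.1 hrN b).1 hb)
  have h2 := h.toIsFct.eq_one (h1.symm ▸ A.mul_mem (A.mul_mem (A.mul_mem ha hrA) (A.inv_mem ha)) (A.inv_mem hrA)) hB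
  have h3 := mul_inv_eq_one.1 h2
  have hbr : b * r = r * b := by
    calc b * r = b * (b⁻¹ * r * b) := by rw [h3]
      _ = r * b := by group
  exact mul_mem (h.symm.centralizer_mixed hrA hrN hr1 hb hbr) (Subgroup.le_normalizer ha)

/-- centralizers of prime order elements of `A` -/
theorem KW.centralizer_prime (h : KW A B) {a : G} (ha : a ∈ A) {s : ℕ} [Fact s.Prime] (hs : orderOf a = s)
    {v : G} (hv : v * a = a * v) : v ∈ Subgroup.normalizer (A : Set G) := by
  have hsA : s ∣ Nat.card A := hs ▸ Subgroup.orderOf_dvd_natCard A ha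
  -- centralizing a conjugate into `B ∩ N(A)`
  have htype : ∀ {a' : G}, a' ∈ A → a' ≠ 1 → ∀ {x : G}, x * a' = a' * x → x ∈ Subgroup.normalizer (A : Set G) →
      x ∉ A → ∀ {y : G}, y * a' = a' * y → y ∈ Subgroup.normalizer (A : Set G) := by
    intro a' ha' ha'1 x hxa hxN hxA y hy
    have hord : ¬ orderOf x ∣ Nat.card A := by
      intro hd
      obtain ⟨p, hpA, q, hqB, rfl⟩ := h.prod x
      have hqN : q ∈ Subgroup.normalizer (A : Set G) := by
        simpa using mul_mem (inv_mem (Subgroup.le_normalizer hpA)) hxN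
      have hpq : (p * q) ^ Nat.card A = 1 := orderOf_dvd_iff_pow_eq_one.1 hd
      have key : ∀ n : ℕ, ∃ a'' ∈ A, (p * q) ^ n = a'' * q ^ n := by
        intro n
        induction n with
        | zero => exact ⟨1, A.one_mem, by simp⟩
        | succ n ih =>
          obtain ⟨c, hc, e⟩ := ih
          refine ⟨c * (q ^ n * p * (q ^ n)⁻¹), A.mul_mem hc ((Subgroup.mem_normalizer_iff.1 (pow_mem hqN n) p).1 hpA), ?_⟩
          rw [pow_succ, e, pow_succ]; group
      obtain ⟨c, hc, e⟩ := key (Nat.card A)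
      rw [hpq] at e
      have hq1 : q ^ Nat.card A = 1 := h.toIsFct.eq_one (by
        rw [eq_inv_of_mul_eq_one_right e.symm]; exact A.inv_mem hc) (B.pow_mem hqB _)
      have : q = 1 := orderOf_eq_one_iff.1 (Nat.eq_one_of_dvd_coprimes h.cop
        (orderOf_dvd_of_pow_eq_one hq1) (Subgroup.orderOf_dvd_natCard B hqB))
      exact hxA (by rw [this, mul_one]; exact hpA)
    obtain ⟨q, hq, hqx, hqA⟩ : ∃ q : ℕ, q.Prime ∧ q ∣ orderOf x ∧ ¬ q ∣ Nat.card A := by
      by_contra hne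
      push Not at hne
      have hcop : (orderOf x).Coprime (Nat.card B) := Nat.coprime_of_dvd fun q hq hqx hqB =>
        hq.ne_one (Nat.eq_one_of_dvd_coprimes h.cop (hne q hq hqx) hqB)
      exact hord (hcop.dvd_of_dvd_mul_right (h.toIsFct.card ▸ orderOf_dvd_natCard x))
    haveI := Fact.mk hq
    obtain ⟨c, hc⟩ : ∃ c, c = x ^ (orderOf x / q) := ⟨_, rfl⟩
    have hco : orderOf c = q := hc ▸ orderOf_pow_orderOf_div (orderOf_pos x).ne' hqx
    have hcN : c ∈ Subgroup.normalizer (A : Set G) := hc ▸ pow_mem hxN _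
    have hca : c * a' = a' * c := by rw [hc]; exact ((show Commute x a' from hxa).pow_left _).eq
    have hqB : q ∣ Nat.card B := by
      have := orderOf_dvd_natCard (G := G) c
      rw [hco, h.toIsFct.card, hq.dvd_mul] at this
      exact this.resolve_left hqA
    obtain ⟨Q, hQ⟩ := Perm.NilpotentHall.exists_sylow_le (H := part B q) (h.toIsFct.symm.part_index hqB)
    obtain ⟨g, -, hg⟩ := Perm.NilpotentHall.conj_into ⊤ Q le_top (Subgroup.zpowers c)
      (IsPGroup.of_card (n := 1) (by rw [Nat.card_zpowers, hco, pow_one])) le_top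
    obtain ⟨b, hb, m, hm, rfl⟩ := h.toIsFct.symm.prod g
    have hcB : m * c * m⁻¹ ∈ B := by
      have := B.mul_mem (B.mul_mem (B.inv_mem hb) (part_le B q (hQ (hg c (Subgroup.mem_zpowers c))))) hb
      rwa [show b⁻¹ * (b * m * c * (b * m)⁻¹) * b = m * c * m⁻¹ by group] at this
    have hc1 : m * c * m⁻¹ ≠ 1 := fun e => by
      rw [conj_eq_one_iff.1 e, orderOf_one] at hco
      exact hq.ne_one hco.symm
    have hmN := Subgroup.le_normalizer (H := A) hm
    have hra : m * a' * m⁻¹ ∈ A := A.mul_mem (A.mul_mem hm ha') (A.inv_mem hm)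
    have hrN := h.centralizer_mixed hcB (mul_mem (mul_mem hmN hcN) (inv_mem hmN)) hc1 hra (by
      rw [show m * a' * m⁻¹ * (m * c * m⁻¹) = m * (a' * c) * m⁻¹ by group,
        show m * c * m⁻¹ * (m * a' * m⁻¹) = m * (c * a') * m⁻¹ by group, hca])
    have := h.centralizer_mixed' hra hrN (fun e => ha'1 (conj_eq_one_iff.1 e)) (v := m * y * m⁻¹) (by
      rw [show m * y * m⁻¹ * (m * a' * m⁻¹) = m * (y * a') * m⁻¹ by group,
        show m * a' * m⁻¹ * (m * y * m⁻¹) = m * (a' * y) * m⁻¹ by group, hy])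
    have := mul_mem (mul_mem (inv_mem hmN) this) hmN
    rwa [show m⁻¹ * (m * y * m⁻¹) * m = y by group] at this
  obtain ⟨u, hu, hus, huA⟩ := h.exists_other s
  haveI := Fact.mk hu
  have ha1 : a ≠ 1 := fun e => (Fact.out : s.Prime).one_lt.ne (by rw [← hs, e, orderOf_one])
  -- a fully centralized conjugate
  obtain ⟨C, hC⟩ : ∃ C, C = Subgroup.centralizer ({a} : Set G) := ⟨_, rfl⟩
  have haC : a ∈ C := by rw [hC, Subgroup.mem_centralizer_singleton_iff]
  obtain ⟨S⟩ : Nonempty (Sylow s C) := inferInstance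
  have haS : a ∈ (S : Subgroup C).map C.subtype := by
    haveI : (Subgroup.zpowers (⟨a, haC⟩ : C)).Normal := by
      refine ⟨fun x hx g => ?_⟩
      obtain ⟨j, rfl⟩ := hx
      have hg : Commute g (⟨a, haC⟩ : C) :=
        Subtype.ext (Subgroup.mem_centralizer_singleton_iff.1 (hC ▸ g.2 : (g : G) ∈ Subgroup.centralizer ({a} : Set G)))
      show g * (⟨a, haC⟩ : C) ^ j * g⁻¹ ∈ Subgroup.zpowers (⟨a, haC⟩ : C)
      rw [(hg.zpow_right j).eq, mul_inv_cancel_right]
      exact ⟨j, rfl⟩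
    exact ⟨⟨a, haC⟩, IsPGroup.le_sylow_of_normal (IsPGroup.of_card (n := 1)
      (by rw [Nat.card_zpowers, Subgroup.orderOf_mk, hs, pow_one])) S (Subgroup.mem_zpowers _), rfl⟩
  obtain ⟨Q, hQ⟩ := Perm.NilpotentHall.exists_sylow_le (H := part A s) (h.toIsFct.part_index hsA)
  obtain ⟨g, -, hg⟩ := Perm.NilpotentHall.conj_into ⊤ Q le_top ((S : Subgroup C).map C.subtype) (S.2.map _) le_top
  obtain ⟨a', ha'⟩ : ∃ a', a' = g * a * g⁻¹ := ⟨_, rfl⟩
  have ha'A : a' ∈ part A s := ha' ▸ hQ (hg a haS)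
  have ha'1 : a' ≠ 1 := fun e => ha1 (conj_eq_one_iff.1 (ha' ▸ e))
  suffices hmain : ∀ y, y * a' = a' * y → y ∈ Subgroup.normalizer (A : Set G) by
    have hgN : g ∈ Subgroup.normalizer (A : Set G) := h.mem_normalizer_of_part huA fun x hx => hmain _ (by
      have hxa : x * a = a * x := part_comm h.nilA hus hx (mem_part h.nilA ha ⟨1, by rw [hs, pow_one]⟩)
      rw [ha', show g * x * g⁻¹ * (g * a * g⁻¹) = g * (x * a) * g⁻¹ by group,
        show g * a * g⁻¹ * (g * x * g⁻¹) = g * (a * x) * g⁻¹ by group, hxa])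
    have := mul_mem (mul_mem (inv_mem hgN) (hmain (g * v * g⁻¹) (by
      rw [ha', show g * v * g⁻¹ * (g * a * g⁻¹) = g * (v * a) * g⁻¹ by group,
        show g * a * g⁻¹ * (g * v * g⁻¹) = g * (a * v) * g⁻¹ by group, hv]))) hgN
    rwa [show g⁻¹ * (g * v * g⁻¹) * g = v by group] at this
  by_cases hx : ∃ x, x * a' = a' * x ∧ x ∈ Subgroup.normalizer (A : Set G) ∧ x ∉ A
  · obtain ⟨x, h1, h2, h3⟩ := hx
    exact fun y hy => htype (part_le A s ha'A) ha'1 h1 h2 h3 hy
  push Not at hx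
  obtain ⟨Y, hY⟩ : ∃ Y, Y = Subgroup.centralizer ({a'} : Set G) := ⟨_, rfl⟩
  have hmemY : ∀ {x}, x ∈ Y ↔ x * a' = a' * x := by
    intro x; rw [hY, Subgroup.mem_centralizer_singleton_iff]
  suffices hYA : A.subgroupOf Y = ⊤ by
    intro y hy
    have : (⟨y, hmemY.2 hy⟩ : Y) ∈ A.subgroupOf Y := hYA ▸ Subgroup.mem_top _
    exact Subgroup.le_normalizer this
  have hidx : ∀ p : ℕ, [Fact p.Prime] → p ∣ Nat.card A → ¬ p ∣ (A.subgroupOf Y).index := by
    intro p _ hp
    rcases eq_or_ne p s with rfl | hps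
    · obtain ⟨e⟩ : Nonempty (C ≃* Y) := by
        refine ⟨((MulAut.conj g).subgroupMap C).trans (MulEquiv.subgroupCongr ?_)⟩
        ext y
        rw [hY, Subgroup.mem_centralizer_singleton_iff, ha']
        constructor
        · rintro ⟨x, hx, rfl⟩
          have hx' : x * a = a * x := Subgroup.mem_centralizer_singleton_iff.1 (hC ▸ hx)
          show g * x * g⁻¹ * (g * a * g⁻¹) = g * a * g⁻¹ * (g * x * g⁻¹)
          rw [show g * x * g⁻¹ * (g * a * g⁻¹) = g * (x * a) * g⁻¹ by group,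
            show g * a * g⁻¹ * (g * x * g⁻¹) = g * (a * x) * g⁻¹ by group, hx']
        · intro hy
          refine ⟨g⁻¹ * y * g, hC ▸ Subgroup.mem_centralizer_singleton_iff.2 ?_, by simp [mul_assoc]⟩
          calc g⁻¹ * y * g * a = g⁻¹ * (y * (g * a * g⁻¹)) * g := by group
            _ = g⁻¹ * (g * a * g⁻¹ * y) * g := by rw [hy]
            _ = a * (g⁻¹ * y * g) := by group
      have hcY : Nat.card Y = Nat.card C := (Nat.card_congr e.toEquiv).symm
      intro hd
      have h1 : ((S : Subgroup C).map C.subtype).map (MulAut.conj g).toMonoidHom ≤ A ⊓ Y := by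
        rintro _ ⟨x, hx, rfl⟩
        refine ⟨part_le A p (hQ (hg x hx)), hmemY.2 ?_⟩
        obtain ⟨x, -, rfl⟩ := hx
        have hx' : (x : G) * a = a * x := Subgroup.mem_centralizer_singleton_iff.1 (hC ▸ x.2)
        show g * (x : G) * g⁻¹ * a' = a' * (g * (x : G) * g⁻¹)
        rw [ha', show g * (x : G) * g⁻¹ * (g * a * g⁻¹) = g * ((x : G) * a) * g⁻¹ by group,
          show g * a * g⁻¹ * (g * (x : G) * g⁻¹) = g * (a * x) * g⁻¹ by group, hx']
      have h2 := Subgroup.card_dvd_of_le h1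
      rw [Subgroup.card_map_of_injective (MulAut.conj g).injective, card_map_subtype, S.card_eq_multiplicity,
        ← card_subgroupOf (inf_le_right : A ⊓ Y ≤ Y), Subgroup.inf_subgroupOf_right] at h2
      have h3 := mul_dvd_mul h2 hd
      rw [Subgroup.card_mul_index, hcY, ← pow_succ] at h3
      exact Nat.pow_succ_factorization_not_dvd Nat.card_pos.ne' Fact.out h3
    · have hle : part A p ≤ Y := fun x hx => hmemY.2 (part_comm h.nilA hps hx ha'A)
      intro hd
      refine h.toIsFct.part_index hp ((hd.trans ?_).trans (Subgroup.relIndex_dvd_index_of_le hle))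
      exact Subgroup.index_dvd_of_le fun x hx => part_le A p hx
  obtain ⟨z, hz, hz1, -, hzc⟩ := exists_central h.nilA hsA
  have hzY : z ∈ Y := hmemY.2 (hzc a' (part_le A s ha'A))
  obtain ⟨N, hN, hcompl⟩ := S0558.result (A.subgroupOf Y) (fun p hp P hPA => by
      haveI := Fact.mk hp
      have h1 : ∀ x : G, x ∈ A → (hxY : x ∈ Y) → ∃ k, orderOf x = p ^ k := fun x hxA hxY => by
        obtain ⟨k, hk⟩ := IsPGroup.iff_orderOf.1 P.2 ⟨⟨x, hxY⟩, hPA ▸ hxA⟩
        exact ⟨k, by rwa [Subgroup.orderOf_mk, Subgroup.orderOf_mk] at hk⟩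
      obtain ⟨w, hw, hw1, hwo, -⟩ := exists_central h.nilA huA
      obtain ⟨k, hk⟩ := h1 w (part_le A u hw) (hmemY.2 (part_comm h.nilA hus hw ha'A))
      obtain ⟨l, hl⟩ := h1 a' (part_le A s ha'A) (hmemY.2 rfl)
      have ea : orderOf a' = s := ha' ▸ (((MulAut.conj g).orderOf_eq a).trans hs)
      rw [hwo] at hk
      rw [ea] at hl
      have e1 : u = p := (Nat.prime_dvd_prime_iff_eq hu hp).1 (hu.dvd_of_dvd_pow (dvd_of_eq hk))
      have e2 : s = p := (Nat.prime_dvd_prime_iff_eq Fact.out hp).1 ((Fact.out : s.Prime).dvd_of_dvd_pow (dvd_of_eq hl))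
      exact hus (e1.trans e2.symm))
    (fun p hp hpd P => by
      haveI := Fact.mk hp
      have hpA : p ∣ Nat.card A := hpd.trans (by
        rw [← Subgroup.inf_subgroupOf_right, card_subgroupOf inf_le_right]
        exact Subgroup.card_dvd_of_le inf_le_left)
      haveI : Group.IsNilpotent (A.subgroupOf Y) := by
        haveI := isNilpotent_of_le (inf_le_left : A ⊓ Y ≤ A) h.nilA
        rw [← Subgroup.inf_subgroupOf_right]
        exact Group.nilpotent_of_mulEquiv (Subgroup.subgroupOfEquivOfLe (inf_le_right : A ⊓ Y ≤ Y)).symm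
      haveI : (P : Subgroup (A.subgroupOf Y)).Normal :=
        ((Group.isNilpotent_of_finite_tfae (G := A.subgroupOf Y)).out 0 3 : Group.IsNilpotent (A.subgroupOf Y) ↔
          ∀ (p : ℕ) (_ : Fact p.Prime) (P : Sylow p (A.subgroupOf Y)), (P : Subgroup (A.subgroupOf Y)).Normal).1
          inferInstance p inferInstance P
      have hmem : ∀ x (hxY : x ∈ Y), x ∈ part A p → (⟨x, hxY⟩ : Y) ∈ (P : Subgroup (A.subgroupOf Y)).map (A.subgroupOf Y).subtype := by
        intro x hxY hx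
        obtain ⟨k, hk⟩ := part_order hx
        have hxp : IsPGroup p (Subgroup.zpowers (⟨⟨x, hxY⟩, Subgroup.mem_subgroupOf.2 (part_le A p hx)⟩ : A.subgroupOf Y)) :=
          IsPGroup.of_card (n := k) (by rw [Nat.card_zpowers, ← hk, ← Subgroup.orderOf_coe, ← Subgroup.orderOf_coe])
        exact ⟨_, (P.3 (hxp.to_sup_of_normal_right P.2) le_sup_right).le
          (Subgroup.mem_sup_left (Subgroup.mem_zpowers _)), rfl⟩
      apply le_antisymm
      · intro v hv
        refine hx v (hmemY.1 v.2) ?_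
        rcases eq_or_ne p s with rfl | hps
        · obtain ⟨y, -, hy⟩ := (Subgroup.mem_normalizer_iff.1 hv _).1 (hmem z hzY hz)
          have hyA : (v : G) * z * (v : G)⁻¹ ∈ A := by
            have := y.2
            have e : ((y : Y) : G) = (v : G) * z * (v : G)⁻¹ := congrArg Subtype.val hy
            rw [← e]; exact this
          refine inv_inv (v : G) ▸ inv_mem (h.mem_normalizer_of_part huA fun x hxu => Subgroup.le_normalizer
            (h.centralizer_central (part_le A p hz) hz1 hzc ?_))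
          have hvz : (v : G) * z * (v : G)⁻¹ ∈ part A p := mem_part h.nilA hyA (by
            obtain ⟨k, hk⟩ := part_order hz
            exact ⟨k, by rw [← hk]; exact (MulAut.conj (v : G)).orderOf_eq z⟩)
          have := part_comm h.nilA hus hxu hvz
          calc (v : G)⁻¹ * x * (v : G)⁻¹⁻¹ * z = (v : G)⁻¹ * (x * ((v : G) * z * (v : G)⁻¹)) * v := by group
            _ = (v : G)⁻¹ * ((v : G) * z * (v : G)⁻¹ * x) * v := by rw [this]
            _ = z * ((v : G)⁻¹ * x * (v : G)⁻¹⁻¹) := by group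
        · refine h.normalizer_part_le hpA (Subgroup.mem_normalizer_fintype fun x hxp => ?_)
          have hxY : x ∈ Y := hmemY.2 (part_comm h.nilA hps hxp ha'A)
          obtain ⟨y, -, hy⟩ := (Subgroup.mem_normalizer_iff.1 hv _).1 (hmem x hxY hxp)
          have e : ((y : Y) : G) = (v : G) * x * (v : G)⁻¹ := congrArg Subtype.val hy
          refine mem_part h.nilA (e ▸ y.2) ?_
          obtain ⟨k, hk⟩ := part_order hxp
          exact ⟨k, by rw [← hk]; exact (MulAut.conj (v : G)).orderOf_eq x⟩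
      · intro v hv
        refine Subgroup.mem_normalizer_fintype fun y hy => ?_
        obtain ⟨y, hy, rfl⟩ := hy
        exact ⟨_, (inferInstance : (P : Subgroup (A.subgroupOf Y)).Normal).conj_mem y hy ⟨v, hv⟩, rfl⟩)
  haveI := hN
  rcases eq_or_ne N ⊥ with rfl | hNb
  · exact Subgroup.isComplement'_bot_left.1 hcompl
  exfalso
  obtain ⟨q, hq, hqN⟩ := exists_prime_dvd_of_ne_bot hNb
  haveI := Fact.mk hq
  have hqA : ¬ q ∣ Nat.card A := fun hd => hidx q hd (hcompl.index_eq_card ▸ hqN)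
  have hqB : q ∣ Nat.card B := by
    have := hqN.trans (Subgroup.card_subgroup_dvd_card N |>.trans (Subgroup.card_subgroup_dvd_card Y))
    rw [h.toIsFct.card, hq.dvd_mul] at this
    exact this.resolve_left hqA
  obtain ⟨K, hK⟩ : ∃ K, K = N.map Y.subtype := ⟨_, rfl⟩
  have huY : part A u ≤ Y := fun x hx => hmemY.2 (part_comm h.nilA hus hx ha'A)
  have huK : part A u ≤ Subgroup.normalizer (K : Set G) := fun x hx => Subgroup.mem_normalizer_fintype fun y hy => by
    rw [hK] at hy ⊢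
    obtain ⟨y, hy, rfl⟩ := hy
    exact ⟨_, hN.conj_mem y hy ⟨x, huY hx⟩, rfl⟩
  have hcop : (Nat.card (part A u)).Coprime (Nat.card K) := by
    rw [part_card, hK, card_map_subtype]
    exact Nat.Coprime.pow_left _ (hu.coprime_iff_not_dvd.2 fun hd => hidx u huA (hcompl.index_eq_card ▸ hd))
  obtain ⟨R, hR, hRn⟩ := exists_invariant_sylow huK hcop
    (Or.inl (haveI := (part_pgroup A u).isNilpotent; inferInstance)) q
  have hRp : IsPGroup q R := hR.isPGroup
  have hRb : R ≠ ⊥ := fun e => by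
    have h1 := hR.2
    rw [e, Subgroup.card_bot, hK, card_map_subtype] at h1
    exact (Nat.one_lt_pow (hq.factorization_pos_of_dvd Nat.card_pos.ne' hqN).ne' hq.one_lt).ne h1
  obtain ⟨P, hP⟩ := Perm.NilpotentHall.exists_sylow_le (H := part B q) (h.toIsFct.symm.part_index hqB)
  obtain ⟨g, -, hg⟩ := Perm.NilpotentHall.conj_into ⊤ P le_top R hRp le_top
  obtain ⟨b, hb, m, hm, rfl⟩ := h.toIsFct.symm.prod g
  obtain ⟨w, hw, hw1, -, hwc⟩ := exists_central h.nilB hqB
  -- conjugate by the `A`-component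
  have hNm : ∀ x, x ∈ Subgroup.normalizer (R : Set G) →
      m * x * m⁻¹ ∈ Subgroup.normalizer ((MulAut.conj m • R : Subgroup G) : Set G) := fun x hx =>
    Subgroup.mem_normalizer_fintype fun y hy => by
      rw [SetLike.mem_coe, mem_conj_smul] at hy ⊢
      have := (Subgroup.mem_normalizer_iff.1 hx _).1 hy
      convert this using 1
      group
  have htop := h.symm.gen_top (A0 := Subgroup.zpowers w) (Subgroup.zpowers_le.2 (part_le B q hw)) (fun x hx =>
    Subgroup.mem_normalizer_fintype fun y hy => by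
      obtain ⟨j, rfl⟩ := hy
      show x * w ^ j * x⁻¹ ∈ Subgroup.zpowers w
      rw [← ((show Commute w x from hwc x hx).zpow_left j).eq, mul_inv_cancel_right]
      exact ⟨j, rfl⟩) (fun e => hw1 (Subgroup.mem_bot.1 (e ▸ Subgroup.mem_zpowers w))) huA
  have hle : ⊤ ≤ Subgroup.normalizer ((MulAut.conj m • R : Subgroup G) : Set G) := by
    rw [← htop]
    refine sup_le (Subgroup.zpowers_le.2 (Subgroup.mem_normalizer_fintype fun y hy => ?_)) fun x hx => ?_
    · rw [SetLike.mem_coe, mem_conj_smul] at hy ⊢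
      have hyB : b * y * b⁻¹ ∈ B := by
        have := part_le B q (hP (hg _ hy))
        convert this using 1
        group
      have hy' : y ∈ B := by
        have := B.mul_mem (B.mul_mem (B.inv_mem hb) hyB) hb
        rwa [show b⁻¹ * (b * y * b⁻¹) * b = y by group] at this
      rw [hwc y hy', mul_inv_cancel_right]
      exact hy
    · have := hNm _ (hRn (part_conj h.nilA (A.inv_mem hm) hx))
      rwa [show m * (m⁻¹ * x * m⁻¹⁻¹) * m⁻¹ = x by group] at this
  have hRtop : MulAut.conj m • R = ⊤ := h.normal_eq (fun e => hRb (Subgroup.card_eq_one.1 (by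
    rw [← card_conj_smul m R, e, Subgroup.card_bot]))) hle
  refine h.not_pgroup (p := q) ?_
  obtain ⟨k, hk⟩ := IsPGroup.iff_card.1 hRp
  exact IsPGroup.of_card (n := k) (by rw [← Subgroup.card_top, ← hRtop, card_conj_smul, hk])

/-- centralizers of non-trivial elements of `A` -/
theorem KW.centralizer_le (h : KW A B) {a : G} (ha : a ∈ A) (ha1 : a ≠ 1) {v : G} (hv : v * a = a * v) :
    v ∈ Subgroup.normalizer (A : Set G) := by
  obtain ⟨s, hs, hsa⟩ := Nat.exists_prime_and_dvd (mt orderOf_eq_one_iff.1 ha1)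
  haveI := Fact.mk hs
  exact h.centralizer_prime (A.pow_mem ha _) (orderOf_pow_orderOf_div (orderOf_pos a).ne' hsa)
    ((show Commute v a from hv).pow_right _).eq

/-- `A` is a TI subgroup -/
theorem KW.ti (h : KW A B) {a : G} (ha : a ∈ A) (ha1 : a ≠ 1) {g : G} (hg : g * a * g⁻¹ ∈ A) :
    g ∈ Subgroup.normalizer (A : Set G) := by
  obtain ⟨s, hs, hsa⟩ := Nat.exists_prime_and_dvd (mt orderOf_eq_one_iff.1 ha1)
  haveI := Fact.mk hs
  obtain ⟨c, hc⟩ : ∃ c, c = a ^ (orderOf a / s) := ⟨_, rfl⟩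
  have hco : orderOf c = s := hc ▸ orderOf_pow_orderOf_div (orderOf_pos a).ne' hsa
  have hcA : c ∈ part A s := mem_part h.nilA (hc ▸ A.pow_mem ha _) ⟨1, by rw [hco, pow_one]⟩
  have hgc : g * c * g⁻¹ ∈ A := by rw [hc, ← conj_pow]; exact A.pow_mem hg _
  obtain ⟨u, hu, hus, huA⟩ := h.exists_other s
  haveI := Fact.mk hu
  refine h.mem_normalizer_of_part huA fun x hx => h.centralizer_le hgc (fun e => ?_) ?_
  · rw [conj_eq_one_iff.1 e, orderOf_one] at hco
    exact hs.ne_one hco.symm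
  · rw [show g * x * g⁻¹ * (g * c * g⁻¹) = g * (x * c) * g⁻¹ by group,
      show g * c * g⁻¹ * (g * x * g⁻¹) = g * (c * x) * g⁻¹ by group, part_comm h.nilA hus hx hcA]

theorem KW.false (h : KW A B) : False := by
  classical
  obtain ⟨M, hM⟩ : ∃ M, M = Subgroup.normalizer (A : Set G) := ⟨_, rfl⟩
  obtain ⟨N, hN⟩ : ∃ N, N = Subgroup.normalizer (B : Set G) := ⟨_, rfl⟩
  have hAM : A ≤ M := hM ▸ Subgroup.le_normalizer
  have hBN : B ≤ N := hN ▸ Subgroup.le_normalizer
  obtain ⟨e, heA, heB⟩ : ∃ e, e ≡ 1 [MOD Nat.card A] ∧ e ≡ 0 [MOD Nat.card B] :=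
    ⟨Nat.chineseRemainder h.cop 1 0, (Nat.chineseRemainder h.cop 1 0).2⟩
  obtain ⟨f, hfA, hfB⟩ : ∃ f, f ≡ 0 [MOD Nat.card A] ∧ f ≡ 1 [MOD Nat.card B] :=
    ⟨Nat.chineseRemainder h.cop 0 1, (Nat.chineseRemainder h.cop 0 1).2⟩
  have key : ∀ {X : Subgroup G} {n : ℕ} {x : G}, x ∈ X → n ≡ 1 [MOD Nat.card X] → x ^ n = x := fun hx hn => by
    rename_i X n x
    have h1 : x ^ n = x ^ 1 := pow_eq_pow_iff_modEq.2 (hn.of_dvd (Subgroup.orderOf_dvd_natCard X hx))
    rwa [pow_one] at h1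
  have key0 : ∀ {X : Subgroup G} {n : ℕ} {x : G}, x ∈ X → n ≡ 0 [MOD Nat.card X] → x ^ n = 1 := fun hx hn => by
    rename_i X n x
    have h1 : x ^ n = x ^ 0 := pow_eq_pow_iff_modEq.2 (hn.of_dvd (Subgroup.orderOf_dvd_natCard X hx))
    rwa [pow_zero] at h1
  have hcomm : ∀ r ∈ A ⊓ N, ∀ k ∈ B ⊓ M, r * k = k * r := by
    intro r hr k hk
    obtain ⟨hrA, hrN⟩ := Subgroup.mem_inf.1 hr
    obtain ⟨hkB, hkM⟩ := Subgroup.mem_inf.1 hk
    rw [hN] at hrN
    rw [hM] at hkM
    have h1 : r * k * r⁻¹ * k⁻¹ ∈ A := by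
      rw [show r * k * r⁻¹ * k⁻¹ = r * (k * r⁻¹ * k⁻¹) by group]
      exact A.mul_mem hrA ((Subgroup.mem_normalizer_iff.1 hkM _).1 (A.inv_mem hrA))
    have h2 := h.toIsFct.eq_one h1 (B.mul_mem ((Subgroup.mem_normalizer_iff.1 hrN _).1 hkB) (B.inv_mem hkB))
    exact mul_inv_eq_iff_eq_mul.1 (mul_inv_eq_one.1 h2)
  obtain ⟨H, hH⟩ : ∃ H, H = M ⊓ N := ⟨_, rfl⟩
  let T := ((G ⧸ M) × {a : A // a ≠ 1}) ⊕ ((G ⧸ N) × {b : B // b ≠ 1}) ⊕
    ((G ⧸ H) × {r : (A ⊓ N : Subgroup G) // r ≠ 1} × {k : (B ⊓ M : Subgroup G) // k ≠ 1}) ⊕ Unit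
  let φ : T → G := fun t => match t with
    | .inl (x, a) => x.out * (a.1 : G) * x.out⁻¹
    | .inr (.inl (x, b)) => x.out * (b.1 : G) * x.out⁻¹
    | .inr (.inr (.inl (x, r, k))) => x.out * ((r.1 : G) * (k.1 : G)) * x.out⁻¹
    | .inr (.inr (.inr _)) => 1
  have hrk : ∀ (r : (A ⊓ N : Subgroup G)) (k : (B ⊓ M : Subgroup G)) (n : ℕ),
      ((r : G) * (k : G)) ^ n = (r : G) ^ n * (k : G) ^ n :=
    fun r k n => (show Commute (r : G) (k : G) from hcomm r r.2 k k.2).mul_pow n
  have hφ : Function.Injective φ := by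
    have cp : ∀ (g x : G) (n : ℕ), (g * x * g⁻¹) ^ n = g * x ^ n * g⁻¹ := fun g x n => conj_pow
    have back : ∀ {g g' x y : G}, g * x * g⁻¹ = g' * y * g'⁻¹ → (g'⁻¹ * g) * x * (g'⁻¹ * g)⁻¹ = y := by
      intro g g' x y e'
      calc (g'⁻¹ * g) * x * (g'⁻¹ * g)⁻¹ = g'⁻¹ * (g * x * g⁻¹) * g' := by group
        _ = y := by rw [e']; group
    have eqA : ∀ {x x' : G ⧸ M} {a a' : G}, a ∈ A → a' ∈ A → a ≠ 1 →
        x.out * a * x.out⁻¹ = x'.out * a' * x'.out⁻¹ → x = x' ∧ a = a' := by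
      intro x x' a a' ha ha' ha1 e'
      have h1 := back e'
      have h2 : x'.out⁻¹ * x.out ∈ M := (SetLike.ext_iff.1 hM _).2 (h.ti ha ha1 (by rw [h1]; exact ha'))
      have hxx : x = x' := by
        rw [← QuotientGroup.out_eq' x, ← QuotientGroup.out_eq' x']
        exact (QuotientGroup.eq.2 h2).symm
      subst hxx
      exact ⟨rfl, by simpa using e'⟩
    have eqB : ∀ {x x' : G ⧸ N} {a a' : G}, a ∈ B → a' ∈ B → a ≠ 1 →
        x.out * a * x.out⁻¹ = x'.out * a' * x'.out⁻¹ → x = x' ∧ a = a' := by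
      intro x x' a a' ha ha' ha1 e'
      have h1 := back e'
      have h2 : x'.out⁻¹ * x.out ∈ N := (SetLike.ext_iff.1 hN _).2 (h.symm.ti ha ha1 (by rw [h1]; exact ha'))
      have hxx : x = x' := by
        rw [← QuotientGroup.out_eq' x, ← QuotientGroup.out_eq' x']
        exact (QuotientGroup.eq.2 h2).symm
      subst hxx
      exact ⟨rfl, by simpa using e'⟩
    -- a mixed element is not conjugate into `A`
    have noA : ∀ {g g' a : G} {r : (A ⊓ N : Subgroup G)} {k : (B ⊓ M : Subgroup G)}, a ∈ A → k ≠ 1 →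
        g * a * g⁻¹ ≠ g' * ((r : G) * (k : G)) * g'⁻¹ := by
      intro g g' a r k ha hk e'
      have h1 := congrArg (· ^ f) e'
      simp only [cp, hrk, key0 ha hfA, key0 (Subgroup.mem_inf.1 r.2).1 hfA, key (Subgroup.mem_inf.1 k.2).1 hfB,
        one_mul, mul_one, mul_inv_cancel] at h1
      exact hk (Subtype.ext (conj_eq_one_iff.1 h1.symm))
    have noB : ∀ {g g' b : G} {r : (A ⊓ N : Subgroup G)} {k : (B ⊓ M : Subgroup G)}, b ∈ B → r ≠ 1 →
        g * b * g⁻¹ ≠ g' * ((r : G) * (k : G)) * g'⁻¹ := by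
      intro g g' b r k hb hr e'
      have h1 := congrArg (· ^ e) e'
      simp only [cp, hrk, key0 hb heB, key (Subgroup.mem_inf.1 r.2).1 heA, key0 (Subgroup.mem_inf.1 k.2).1 heB,
        one_mul, mul_one, mul_inv_cancel] at h1
      exact hr (Subtype.ext (conj_eq_one_iff.1 h1.symm))
    have noAB : ∀ {g g' a b : G}, a ∈ A → b ∈ B → a ≠ 1 → g * a * g⁻¹ ≠ g' * b * g'⁻¹ := by
      intro g g' a b ha hb ha1 e'
      have h1 := congrArg (· ^ e) e'
      simp only [cp, key ha heA, key0 hb heB, mul_one, mul_inv_cancel] at h1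
      exact ha1 (conj_eq_one_iff.1 h1)
    have ne1A : ∀ {X : Subgroup G} (a : {a : X // a ≠ 1}), (a.1 : G) ≠ 1 := fun a e' => a.2 (Subtype.ext e')
    have nid : ∀ {g x : G}, x ≠ 1 → g * x * g⁻¹ ≠ 1 := fun hx e' => hx (conj_eq_one_iff.1 e')
    have nerk : ∀ (r : {r : (A ⊓ N : Subgroup G) // r ≠ 1}) (k : (B ⊓ M : Subgroup G)), (r.1 : G) * (k : G) ≠ 1 := by
      intro r k e'
      refine ne1A r (h.toIsFct.eq_one (Subgroup.mem_inf.1 r.1.2).1 ?_)
      rw [eq_inv_of_mul_eq_one_left e']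
      exact B.inv_mem (Subgroup.mem_inf.1 k.2).1
    rintro (⟨x, a⟩ | ⟨x, b⟩ | ⟨x, r, k⟩ | u) (⟨x', a'⟩ | ⟨x', b'⟩ | ⟨x', r', k'⟩ | u') e' <;> simp only [φ] at e'
    · obtain ⟨rfl, h2⟩ := eqA a.1.2 a'.1.2 (ne1A a) e'
      rw [Subtype.ext (Subtype.ext h2) (a1 := a) (a2 := a')]
    · exact absurd e' (noAB a.1.2 b'.1.2 (ne1A a))
    · exact absurd e' (noA a.1.2 k'.2)
    · exact absurd e' (nid (ne1A a))
    · exact absurd e'.symm (noAB a'.1.2 b.1.2 (ne1A a'))
    · obtain ⟨rfl, h2⟩ := eqB b.1.2 b'.1.2 (ne1A b) e'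
      rw [Subtype.ext (Subtype.ext h2) (a1 := b) (a2 := b')]
    · exact absurd e' (noB b.1.2 r'.2)
    · exact absurd e' (nid (ne1A b))
    · exact absurd e'.symm (noA a'.1.2 k.2)
    · exact absurd e'.symm (noB b'.1.2 r.2)
    · have hr : x.out * (r.1 : G) * x.out⁻¹ = x'.out * (r'.1 : G) * x'.out⁻¹ := by
        have h1 := congrArg (· ^ e) e'
        simp only [cp, hrk, key (Subgroup.mem_inf.1 r.1.2).1 heA, key0 (Subgroup.mem_inf.1 k.1.2).1 heB,
          key (Subgroup.mem_inf.1 r'.1.2).1 heA, key0 (Subgroup.mem_inf.1 k'.1.2).1 heB, mul_one] at h1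
        exact h1
      have hk : x.out * (k.1 : G) * x.out⁻¹ = x'.out * (k'.1 : G) * x'.out⁻¹ := by
        have h1 := congrArg (· ^ f) e'
        simp only [cp, hrk, key0 (Subgroup.mem_inf.1 r.1.2).1 hfA, key (Subgroup.mem_inf.1 k.1.2).1 hfB,
          key0 (Subgroup.mem_inf.1 r'.1.2).1 hfA, key (Subgroup.mem_inf.1 k'.1.2).1 hfB, one_mul] at h1
        exact h1
      have h1 : x'.out⁻¹ * x.out ∈ M := (SetLike.ext_iff.1 hM _).2 (h.ti (Subgroup.mem_inf.1 r.1.2).1 (ne1A r)
        (by rw [back hr]; exact (Subgroup.mem_inf.1 r'.1.2).1))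
      have h2 : x'.out⁻¹ * x.out ∈ N := (SetLike.ext_iff.1 hN _).2 (h.symm.ti (Subgroup.mem_inf.1 k.1.2).1 (ne1A k)
        (by rw [back hk]; exact (Subgroup.mem_inf.1 k'.1.2).1))
      have hxx : x = x' := by
        rw [← QuotientGroup.out_eq' x, ← QuotientGroup.out_eq' x']
        exact (QuotientGroup.eq.2 ((SetLike.ext_iff.1 hH _).2 (Subgroup.mem_inf.2 ⟨h1, h2⟩))).symm
      subst hxx
      simp only [mul_left_inj, mul_right_inj] at hr hk
      rw [Subtype.ext (Subtype.ext hr) (a1 := r) (a2 := r'), Subtype.ext (Subtype.ext hk) (a1 := k) (a2 := k')]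
    · exact absurd e' (nid (nerk r k.1))
    · exact absurd e'.symm (nid (ne1A a'))
    · exact absurd e'.symm (nid (ne1A b'))
    · exact absurd e'.symm (nid (nerk r' k'.1))
    · rfl
  have hcard := Nat.card_le_card_of_injective φ hφ
  have hsub : ∀ X : Subgroup G, Nat.card {a : X // a ≠ 1} = Nat.card X - 1 := by
    intro X
    haveI := Fintype.ofFinite X
    rw [Nat.card_eq_fintype_card, Nat.card_eq_fintype_card, Fintype.card_subtype_compl, Fintype.card_subtype_eq]
  have hT : Nat.card T = M.index * (Nat.card A - 1) + (N.index * (Nat.card B - 1) +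
      (H.index * ((Nat.card (A ⊓ N : Subgroup G) - 1) * (Nat.card (B ⊓ M : Subgroup G) - 1)) + 1)) := by
    show Nat.card (((G ⧸ M) × {a : A // a ≠ 1}) ⊕ ((G ⧸ N) × {b : B // b ≠ 1}) ⊕
      ((G ⧸ H) × {r : (A ⊓ N : Subgroup G) // r ≠ 1} × {k : (B ⊓ M : Subgroup G) // k ≠ 1}) ⊕ Unit) = _
    rw [Nat.card_sum, Nat.card_sum, Nat.card_sum, Nat.card_prod, Nat.card_prod, Nat.card_prod, Nat.card_prod,
      hsub, hsub, hsub, hsub, Nat.card_unique (α := Unit)]
    rfl
  rw [hT, h.toIsFct.card] at hcard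
  have hMc : Nat.card M = Nat.card A * Nat.card (B ⊓ M : Subgroup G) := by
    rw [(fac_of_le (B := B) hAM).card h.toIsFct, inf_eq_left.2 hAM]
  have hNc : Nat.card N = Nat.card (A ⊓ N : Subgroup G) * Nat.card B := by
    rw [(fac_of_ge (A := A) hBN).card h.toIsFct, inf_eq_left.2 hBN]
  have hHc : Nat.card H = Nat.card (A ⊓ N : Subgroup G) * Nat.card (B ⊓ M : Subgroup G) := by
    have hfac : Fac A B H := fun a ha b hb hab => by
      rw [hH] at hab ⊢
      exact Subgroup.mem_inf.2 ⟨hAM ha, (fac_of_ge hBN : Fac A B N) a ha b hb (Subgroup.mem_inf.1 hab).2⟩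
    rw [hfac.card h.toIsFct, hH, ← inf_assoc, inf_eq_left.2 hAM, inf_comm M N, ← inf_assoc, inf_eq_left.2 hBN]
  have hMne : M ≠ ⊤ := hM ▸ h.normalizer_ne_top h.A_ne_bot le_rfl
  have hNne : N ≠ ⊤ := hN ▸ h.symm.normalizer_ne_top h.symm.A_ne_bot le_rfl
  have hi2 : 2 ≤ M.index := by
    have h1 := Subgroup.index_ne_zero_of_finite (H := M)
    have h2 : M.index ≠ 1 := fun e' => hMne (Subgroup.index_eq_one.1 e')
    omega
  have hj2 : 2 ≤ N.index := by
    have h1 := Subgroup.index_ne_zero_of_finite (H := N)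
    have h2 : N.index ≠ 1 := fun e' => hNne (Subgroup.index_eq_one.1 e')
    omega
  have hMi := M.card_mul_index
  have hNi := N.card_mul_index
  have hHi := H.card_mul_index
  rw [hMc, h.toIsFct.card, mul_assoc] at hMi
  rw [hNc, h.toIsFct.card] at hNi
  rw [hHc, h.toIsFct.card] at hHi
  have hb : Nat.card (B ⊓ M : Subgroup G) * M.index = Nat.card B := Nat.eq_of_mul_eq_mul_left Nat.card_pos hMi
  have ha : Nat.card (A ⊓ N : Subgroup G) * N.index = Nat.card A := by
    rw [mul_comm _ (Nat.card B), mul_assoc, mul_comm (Nat.card A)] at hNi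
    exact Nat.eq_of_mul_eq_mul_left Nat.card_pos hNi
  have hr1 : 1 ≤ Nat.card (A ⊓ N : Subgroup G) := Nat.card_pos
  have hk1 : 1 ≤ Nat.card (B ⊓ M : Subgroup G) := Nat.card_pos
  rw [← ha, ← hb] at hHi hcard
  obtain ⟨r, hr⟩ : ∃ r, Nat.card (A ⊓ N : Subgroup G) = r + 1 := ⟨_, (Nat.sub_add_cancel hr1).symm⟩
  obtain ⟨k, hk⟩ : ∃ k, Nat.card (B ⊓ M : Subgroup G) = k + 1 := ⟨_, (Nat.sub_add_cancel hk1).symm⟩
  rw [hr, hk] at hcard hHi
  simp only [Nat.add_sub_cancel] at hcard
  obtain ⟨i, hi⟩ : ∃ i, M.index = i + 1 := ⟨_, (Nat.sub_add_cancel (by omega : 1 ≤ M.index)).symm⟩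
  obtain ⟨j, hj⟩ : ∃ j, N.index = j + 1 := ⟨_, (Nat.sub_add_cancel (by omega : 1 ≤ N.index)).symm⟩
  have hHeq : H.index = M.index * N.index := by
    refine Nat.eq_of_mul_eq_mul_left (show 0 < (r + 1) * (k + 1) by positivity) ?_
    rw [hHi]; ring
  rw [hHeq, hi, hj] at hcard
  obtain ⟨X, hX⟩ : ∃ X, (r + 1) * (j + 1) = X + 1 := ⟨_, (Nat.sub_add_cancel (Nat.mul_pos (by omega) (by omega))).symm⟩
  obtain ⟨Y, hY⟩ : ∃ Y, (k + 1) * (i + 1) = Y + 1 := ⟨_, (Nat.sub_add_cancel (Nat.mul_pos (by omega) (by omega))).symm⟩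
  rw [hX, hY] at hcard
  simp only [Nat.add_sub_cancel] at hcard
  have hij : 1 ≤ i * j := Nat.mul_pos (by omega) (by omega)
  nlinarith

/-- A product of two nilpotent subgroups of coprime orders is solvable. -/
theorem solvable : ∀ (n : ℕ) (G : Type u) [Group G] [Finite G] (A B : Subgroup G), Nat.card G = n →
    IsFct A B → Group.IsSolvable G := by
  intro n
  induction n using Nat.strong_induction_on with
  | _ n ih =>
    intro G _ _ A B hn h
    subst hn
    have hsub : ∀ L : Subgroup G, Fac A B L → L ≠ ⊤ → Group.IsSolvable L := fun L hL hne =>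
      ih _ (card_lt_of_ne_top hne) L _ _ rfl (hL.sub h)
    rcases subsingleton_or_nontrivial G with hS | hS
    · exact Group.isSolvable_of_comm fun a b => Subsingleton.elim _ _
    by_contra hns
    haveI hsimple : IsSimpleGroup G := by
      refine ⟨fun T hT => ?_⟩
      by_contra hT'
      push Not at hT'
      obtain ⟨hTb, hTt⟩ := hT'
      haveI := hT
      let f := QuotientGroup.mk' T
      have hq : IsFct (A.map f) (B.map f) := by
        refine ⟨fun x => ?_, (h.cop.coprime_dvd_left (Subgroup.card_map_dvd A f)).coprime_dvd_right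
          (Subgroup.card_map_dvd B f), ?_, ?_⟩
        · obtain ⟨g, rfl⟩ := QuotientGroup.mk'_surjective T x
          obtain ⟨a, ha, b, hb, rfl⟩ := h.prod g
          exact ⟨f a, ⟨a, ha, rfl⟩, f b, ⟨b, hb, rfl⟩, map_mul f a b⟩
        · haveI := h.nilA
          exact Group.nilpotent_of_surjective _ (f.subgroupMap_surjective A)
        · haveI := h.nilB
          exact Group.nilpotent_of_surjective _ (f.subgroupMap_surjective B)
      have hsq : Group.IsSolvable (G ⧸ T) := ih _ (card_quotient_lt T hTb) _ _ _ rfl hq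
      have hfac : Fac A B T := fun a ha b hb hab => by
        have h1 : f a * f b = 1 := by rw [← map_mul]; exact (QuotientGroup.eq_one_iff _).2 hab
        have h2 : f a = 1 := hq.eq_one ⟨a, ha, rfl⟩ (by
          rw [eq_inv_of_mul_eq_one_left h1]; exact (B.map f).inv_mem ⟨b, hb, rfl⟩)
        exact (QuotientGroup.eq_one_iff _).1 h2
      haveI := hsq
      haveI := hsub T hfac hTt
      exact hns (Group.isSolvable_of_ker_le_range T.subtype f
        (by rw [QuotientGroup.ker_mk', Subgroup.range_subtype]))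
    exact KW.false ⟨h, hsimple, hns, hsub⟩

end Cfsg.Agent.Solv.Fct
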