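import Cfsg.Agent.Lib.Solv.FrattiniModule
import Cfsg.Agent.Lib.Fusion.Sections
import Cfsg.Agent.Lib.Fusion.Cores
import Mathlib.GroupTheory.Sylow

/-!
A free summand for an element of order `p` yields a section isomorphic to `C_p ≀ C_p`.
-/

set_option autoImplicit false
set_option linter.style.haveILetI false

namespace Cfsg.Agent.Solv.ThmB

open Cfsg.Agent

universe u

variable {G : Type u} [Group G] [Finite G] {p : ℕ} [Fact p.Prime]

open Cfsg.Agent.Solv in
/-- A `p`-group generated by an elementary abelian normal subgroup and an element inducing a free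
summand has a section isomorphic to `C_p ≀ C_p`. -/
theorem exists_wreath_section (P : Sylow p G) (V : Subgroup G) [V.Normal] {k : ℕ}
    (e : (Fin k → ZMod p) → G) (hmem : ∀ g, g ∈ V ↔ ∃ a, e a = g)
    (ρ : G →* Module.End (ZMod p) (Fin k → ZMod p)) (heinj : Function.Injective e)
    (hadd : ∀ a b, e (a + b) = e a * e b) (hact : ∀ g a, e (ρ g a) = g * e a * g⁻¹)
    (hVP : V ≤ (P : Subgroup G)) (g : G) (hg : g ∈ (P : Subgroup G)) (hgV : g ∉ V) (hgp : g ^ p ∈ V)
    (hfree : (ρ g - 1) ^ (p - 1) ≠ 0) :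
    ∃ (W : Type) (_ : Group W) (_ : Finite W), (∃ (B : Subgroup W) (t : W), B.Normal ∧
      IsMulCommutative B ∧ (∀ b ∈ B, b ^ p = 1) ∧ Nat.card B = p ^ p ∧ orderOf t = p ∧ t ∉ B ∧
      Nat.card W = p ^ (p + 1) ∧ Nat.card ↥(B ⊓ Subgroup.centralizer ({t} : Set W)) = p) ∧
      Cfsg.Involves W ↥(P : Subgroup G) := by
  classical
  have hp : p.Prime := Fact.out
  obtain ⟨S, hS⟩ : ∃ S : Module.End (ZMod p) (Fin k → ZMod p), S = ρ g - 1 := ⟨_, rfl⟩
  rw [← hS] at hfree
  have he0 : e 0 = 1 := mul_eq_left.1 (by rw [← hadd, add_zero] : e 0 * e 0 = e 0)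
  have hneg : ∀ a, e (-a) = (e a)⁻¹ := fun a => eq_inv_of_mul_eq_one_left (by
    rw [← hadd, neg_add_cancel, he0])
  have hsum : (∑ i ∈ Finset.range p, ρ g ^ i) = S ^ (p - 1) := by
    have h := sum_pow_eq (p := p) (ρ g) 1
    simpa [hS] using h
  have hSp : S ^ p = 0 := by
    have hVρ : ρ (g ^ p) = 1 := LinearMap.ext fun a => heinj (by
      obtain ⟨b, hb⟩ := (hmem _).1 hgp
      rw [hact, ← hb, Module.End.one_apply, ← hneg, ← hadd, ← hadd, add_neg_cancel_comm])
    have h1 : (∑ i ∈ Finset.range p, ρ g ^ i) * (ρ g - 1) = 0 := by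
      rw [geom_sum_mul, ← map_pow, hVρ, sub_self]
    rwa [hsum, ← hS, ← pow_succ, Nat.sub_add_cancel hp.one_le] at h1
  obtain ⟨v, hv⟩ : ∃ v, (S ^ (p - 1)) v ≠ 0 := by
    by_contra h
    push Not at h
    exact hfree (LinearMap.ext h)
  obtain ⟨z, hz⟩ : ∃ z, z = (S ^ (p - 1)) v := ⟨_, rfl⟩
  have hSS : ∀ (i j : ℕ) a, (S ^ i) ((S ^ j) a) = (S ^ (i + j)) a := fun i j a => by
    rw [pow_add, Module.End.mul_apply]
  have hSz : S z = 0 := by
    rw [hz, ← Module.End.mul_apply, ← pow_succ', Nat.sub_add_cancel hp.one_le, hSp, LinearMap.zero_apply]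
  obtain ⟨N, -, ⟨hNS, hzN⟩, hNmax⟩ := Finite.exists_le_maximal
    (p := fun N : Submodule (ZMod p) (Fin k → ZMod p) => (∀ a ∈ N, S a ∈ N) ∧ z ∉ N) (a := ⊥)
    ⟨fun a ha => by rw [Submodule.mem_bot] at ha ⊢; rw [ha, map_zero],
      by rw [Submodule.mem_bot, hz]; exact hv⟩
  -- the kernel of `S` modulo `N`
  have hker : ∀ a, S a ∈ N → ∃ c : ZMod p, a - c • z ∈ N := by
    intro a ha
    by_cases haN : a ∈ N
    · exact ⟨0, by rwa [zero_smul, sub_zero]⟩
    have hzM : z ∈ N ⊔ (ZMod p) ∙ a := by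
      by_contra hz'
      refine haN (hNmax (y := N ⊔ (ZMod p) ∙ a) ⟨fun b hb => ?_, hz'⟩ le_sup_left
        (Submodule.mem_sup_right (Submodule.mem_span_singleton_self a)))
      obtain ⟨n, hn, c', hc', rfl⟩ := Submodule.mem_sup.1 hb
      obtain ⟨c, rfl⟩ := Submodule.mem_span_singleton.1 hc'
      rw [map_add, map_smul]
      exact Submodule.mem_sup_left (N.add_mem (hNS n hn) (N.smul_mem c ha))
    obtain ⟨n, hn, c', hc', hsumz⟩ := Submodule.mem_sup.1 hzM
    obtain ⟨c, rfl⟩ := Submodule.mem_span_singleton.1 hc'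
    have hc0 : c ≠ 0 := fun h => hzN (by rw [← hsumz, h, zero_smul, add_zero]; exact hn)
    refine ⟨c⁻¹, ?_⟩
    rw [← hsumz, smul_add, smul_smul, inv_mul_cancel₀ hc0, one_smul, sub_add_cancel_right]
    exact N.neg_mem (N.smul_mem _ hn)
  have hindep : ∀ c : ℕ → ZMod p, (∑ i ∈ Finset.range p, c i • (S ^ i) v) ∈ N → ∀ i < p, c i = 0 := by
    intro c hc i
    induction i using Nat.strong_induction_on with
    | _ i ih =>
    intro hi
    have hSN : ∀ (j : ℕ) a, a ∈ N → (S ^ j) a ∈ N := by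
      intro j
      induction j with
      | zero => intro a ha; simpa using ha
      | succ j ihj => intro a ha; rw [pow_succ', Module.End.mul_apply]; exact hNS _ (ihj a ha)
    have h1 := hSN (p - 1 - i) _ hc
    rw [map_sum, Finset.sum_eq_single i (fun j hj hji => ?_)
      (fun h => absurd (Finset.mem_range.2 hi) h), map_smul, hSS, show p - 1 - i + i = p - 1 by omega,
      ← hz] at h1
    · by_contra hne
      exact hzN (by rw [← inv_smul_smul₀ hne z]; exact N.smul_mem _ h1)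
    · rw [map_smul]
      rcases lt_or_gt_of_ne hji with h | h
      · rw [ih j h (lt_trans h hi), zero_smul]
      · rw [hSS, show p - 1 - i + j = p + (j - i - 1) by omega, pow_add, hSp, zero_mul,
          LinearMap.zero_apply, smul_zero]
  have hspan : ∀ j, j ≤ p → ∀ a, (S ^ j) a ∈ N →
      ∃ c : ℕ → ZMod p, (∀ i < p - j, c i = 0) ∧ a - ∑ i ∈ Finset.range p, c i • (S ^ i) v ∈ N := by
    intro j
    induction j with
    | zero =>
      intro _ a ha
      exact ⟨0, fun _ _ => rfl, by simpa using ha⟩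
    | succ j ih =>
      intro hj a ha
      rw [pow_succ, Module.End.mul_apply] at ha
      obtain ⟨c, hc0, hc⟩ := ih (by omega) (S a) ha
      -- shift the coefficients down
      obtain ⟨d, hd⟩ : ∃ d : ℕ → ZMod p, ∀ i, d i = if i + 1 < p then c (i + 1) else 0 :=
        ⟨_, fun _ => rfl⟩
      have hSd : S (∑ i ∈ Finset.range p, d i • (S ^ i) v) = ∑ i ∈ Finset.range p, c i • (S ^ i) v := by
        obtain ⟨p', hp'⟩ : ∃ p', p = p' + 1 := ⟨p - 1, (Nat.sub_add_cancel hp.one_le).symm⟩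
        rw [show Finset.range p = Finset.range (p' + 1) by rw [← hp'], map_sum, Finset.sum_range_succ, Finset.sum_range_succ' (fun i => c i • (S ^ i) v),
          hc0 0 (by omega), zero_smul, hd p', if_neg (by omega), zero_smul, map_zero]
        congr 1
        refine Finset.sum_congr rfl fun i hi => ?_
        rw [Finset.mem_range] at hi
        rw [map_smul, hd, if_pos (by omega), ← Module.End.mul_apply, ← pow_succ']
      obtain ⟨b, hb⟩ := hker (a - ∑ i ∈ Finset.range p, d i • (S ^ i) v) (by rw [map_sub, hSd]; exact hc)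
      refine ⟨fun i => d i + (if i = p - 1 then b else 0), fun i hi => ?_, ?_⟩
      · show d i + _ = 0
        rw [if_neg (by omega), add_zero, hd]
        split_ifs
        · exact hc0 _ (by omega)
        · rfl
      · simp only [add_smul, Finset.sum_add_distrib, ite_smul, zero_smul, Finset.sum_ite_eq',
          Finset.mem_range, if_pos (show p - 1 < p by omega), ← hz]
        rwa [← sub_sub]
  -- the group
  obtain ⟨L, hL⟩ : ∃ L, L = V ⊔ Subgroup.zpowers g := ⟨_, rfl⟩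
  have hVL : V ≤ L := hL ▸ le_sup_left
  have hgL : g ∈ L := hL ▸ Subgroup.mem_sup_right (Subgroup.mem_zpowers g)
  have hLP : L ≤ (P : Subgroup G) := hL ▸ sup_le hVP ((Subgroup.zpowers_le).2 hg)
  obtain ⟨N', hN'⟩ : ∃ N' : Subgroup G, ∀ x, x ∈ N' ↔ ∃ a ∈ N, e a = x :=
    ⟨{ carrier := {x | ∃ a ∈ N, e a = x}
       mul_mem' := fun {x y} ⟨a, ha, hax⟩ ⟨b, hb, hby⟩ => ⟨a + b, N.add_mem ha hb, by rw [hadd, hax, hby]⟩
       one_mem' := ⟨0, N.zero_mem, he0⟩
       inv_mem' := fun {x} ⟨a, ha, hax⟩ => ⟨-a, N.neg_mem ha, by rw [hneg, hax]⟩ }, fun _ => Iff.rfl⟩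
  have heN : ∀ a, e a ∈ N' ↔ a ∈ N := fun a =>
    ⟨fun h => by obtain ⟨b, hb, hba⟩ := (hN' _).1 h; rwa [← heinj hba], fun h => (hN' _).2 ⟨a, h, rfl⟩⟩
  haveI hNn : (N'.subgroupOf L).Normal := Subgroup.normal_subgroupOf_of_le_normalizer (by
    rw [hL]
    refine sup_le (fun x hx => ?_) ((Subgroup.zpowers_le).2 ?_)
    · refine Subgroup.mem_normalizer_fintype fun y hy => ?_
      obtain ⟨a, ha, rfl⟩ := (hN' y).1 hy
      obtain ⟨b, rfl⟩ := (hmem x).1 hx
      show e b * e a * (e b)⁻¹ ∈ N'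
      rw [← hneg, ← hadd, ← hadd, add_neg_cancel_comm]
      exact (heN a).2 ha
    · refine Subgroup.mem_normalizer_fintype fun y hy => ?_
      obtain ⟨a, ha, rfl⟩ := (hN' y).1 hy
      show g * e a * g⁻¹ ∈ N'
      rw [← hact, heN, show ρ g a = S a + a by rw [hS, LinearMap.sub_apply, Module.End.one_apply, sub_add_cancel]]
      exact N.add_mem (hNS a ha) ha)
  obtain ⟨π, hπ⟩ : ∃ π : L →* L ⧸ N'.subgroupOf L, π = QuotientGroup.mk' _ := ⟨_, rfl⟩
  have hπ1 : ∀ x : L, π x = 1 ↔ (x : G) ∈ N' := fun x => by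
    rw [hπ, QuotientGroup.mk'_apply, QuotientGroup.eq_one_iff, Subgroup.mem_subgroupOf]
  obtain ⟨ι, hι⟩ : ∃ ι : (Fin k → ZMod p) → L, ∀ a, (ι a : G) = e a :=
    ⟨fun a => ⟨e a, hVL ((hmem _).2 ⟨a, rfl⟩)⟩, fun _ => rfl⟩
  obtain ⟨B, hB⟩ : ∃ B, B = (V.subgroupOf L).map π := ⟨_, rfl⟩
  have hBmem : ∀ w, w ∈ B ↔ ∃ a, π (ι a) = w := by
    intro w
    rw [hB]
    constructor
    · rintro ⟨x, hx, rfl⟩
      obtain ⟨a, ha⟩ := (hmem _).1 hx
      exact ⟨a, by congr 1; exact Subtype.ext ((hι a).trans ha)⟩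
    · rintro ⟨a, rfl⟩
      exact ⟨ι a, (hmem _).2 ⟨a, (hι a).symm⟩, rfl⟩
  have hBn : B.Normal := by
    rw [hB]
    exact Subgroup.Normal.map inferInstance _ (hπ ▸ QuotientGroup.mk'_surjective _)
  have hιadd : ∀ a b, ι (a + b) = ι a * ι b := fun a b => Subtype.ext (by
    rw [Subgroup.coe_mul, hι, hι, hι, hadd])
  have hπι : ∀ a b, π (ι a) = π (ι b) ↔ a - b ∈ N := fun a b => by
    rw [← mul_inv_eq_one, ← map_inv, ← map_mul, hπ1, Subgroup.coe_mul, InvMemClass.coe_inv, hι, hι,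
      ← hneg, ← hadd, heN, sub_eq_add_neg]
  obtain ⟨w, hw⟩ := (hmem _).1 hgp
  have hSw : S w = 0 := by
    rw [hS, LinearMap.sub_apply, Module.End.one_apply, sub_eq_zero]
    refine heinj ?_
    rw [hact, hw, ← pow_succ', pow_succ, mul_inv_cancel_right]
  obtain ⟨c, hc⟩ := hker w (by rw [hSw]; exact N.zero_mem)
  obtain ⟨t, ht⟩ : ∃ t : L, (t : G) = e (-(c • v)) * g :=
    ⟨⟨_, mul_mem (hVL ((hmem _).2 ⟨_, rfl⟩)) hgL⟩, rfl⟩
  have htB : π t ∉ B := by
    intro h
    obtain ⟨a, ha⟩ := (hBmem _).1 h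
    rw [← mul_inv_eq_one, ← map_inv, ← map_mul, hπ1, Subgroup.coe_mul, InvMemClass.coe_inv, hι, ht] at ha
    refine hgV ?_
    have h2 : e a * (e (-(c • v)) * g)⁻¹ ∈ V := by
      obtain ⟨b, hb, hb'⟩ := (hN' _).1 ha
      exact (hmem _).2 ⟨b, hb'⟩
    have h3 := V.mul_mem (V.inv_mem ((hmem _).2 ⟨-(c • v), rfl⟩ : e (-(c • v)) ∈ V))
      (V.mul_mem (V.inv_mem h2) ((hmem _).2 ⟨a, rfl⟩ : e a ∈ V))
    simpa [mul_assoc] using h3
  have htp : π t ^ p = 1 := by
    rw [← map_pow, hπ1, SubmonoidClass.coe_pow, ht, mul_pow_module e ρ hadd hact g, ← hw, ← hadd, heN,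
      hsum, map_neg, map_smul, ← hz, neg_add_eq_sub]
    exact hc
  have hto : orderOf (π t) = p := orderOf_eq_prime htp fun h => htB (h ▸ one_mem B)
  have hcardB : Nat.card B = p ^ p := by
    obtain ⟨F, hF⟩ : ∃ F : (Fin p → ZMod p) → B,
        ∀ c, (F c : L ⧸ N'.subgroupOf L) = π (ι (∑ i, c i • (S ^ (i : ℕ)) v)) :=
      ⟨fun c => ⟨_, (hBmem _).2 ⟨∑ i, c i • (S ^ (i : ℕ)) v, rfl⟩⟩, fun _ => rfl⟩
    have hbij : Function.Bijective F := by
      refine ⟨fun c d hcd => funext fun i => ?_, fun b => ?_⟩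
      · have h1 := congrArg Subtype.val hcd
        rw [hF, hF, hπι, ← Finset.sum_sub_distrib] at h1
        simp only [← sub_smul] at h1
        have h2 := hindep (fun j => if h : j < p then c ⟨j, h⟩ - d ⟨j, h⟩ else 0) (by
          rw [← Fin.sum_univ_eq_sum_range
            (fun j => (if h : j < p then c ⟨j, h⟩ - d ⟨j, h⟩ else 0) • (S ^ j) v) p]
          simpa using h1) i i.2
        simpa [sub_eq_zero] using h2
      · obtain ⟨a, ha⟩ := (hBmem _).1 b.2
        obtain ⟨c, -, hc⟩ := hspan p le_rfl a (by rw [hSp, LinearMap.zero_apply]; exact N.zero_mem)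
        refine ⟨fun i => c i, Subtype.ext ?_⟩
        rw [hF, ← ha, hπι, Fin.sum_univ_eq_sum_range (fun i => c i • (S ^ i) v) p, ← neg_sub]
        exact N.neg_mem hc
    rw [← Nat.card_congr (Equiv.ofBijective F hbij), Nat.card_fun, Nat.card_zmod, Nat.card_fin]
  have hcardW : Nat.card (L ⧸ N'.subgroupOf L) = p ^ (p + 1) := by
    have hgen : B ⊔ Subgroup.zpowers (π t) = ⊤ := by
      refine eq_top_iff.2 fun y _ => ?_
      obtain ⟨x, rfl⟩ := (hπ ▸ QuotientGroup.mk'_surjective _ : Function.Surjective π) y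
      obtain ⟨u, hu, l, ⟨j, rfl⟩, hx⟩ := Subgroup.mem_sup_of_normal_left.1 (hL ▸ x.2 : (x : G) ∈ V ⊔ Subgroup.zpowers g)
      obtain ⟨g', hg'⟩ : ∃ g' : L, (g' : G) = g := ⟨⟨g, hgL⟩, rfl⟩
      obtain ⟨a, ha⟩ := (hmem u).1 hu
      have hx' : x = ι a * g' ^ j := Subtype.ext (by
        rw [Subgroup.coe_mul, SubgroupClass.coe_zpow, hι, hg', ha]; exact hx.symm)
      have hg'' : g' = ι (c • v) * t := Subtype.ext (by
        rw [Subgroup.coe_mul, hι, ht, hg', ← mul_assoc, ← hadd, add_neg_cancel, he0, one_mul])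
      rw [hx', map_mul, map_zpow, hg'', map_mul]
      exact mul_mem (Subgroup.mem_sup_left ((hBmem _).2 ⟨a, rfl⟩)) (zpow_mem
        (mul_mem (Subgroup.mem_sup_left ((hBmem _).2 ⟨_, rfl⟩))
          (Subgroup.mem_sup_right (Subgroup.mem_zpowers _))) j)
    have h1 : Nat.card ↥(B ⊔ Subgroup.zpowers (π t)) * Nat.card ↥(B ⊓ Subgroup.zpowers (π t)) =
        Nat.card B * Nat.card (Subgroup.zpowers (π t)) :=
      Solv.card_sup_mul_card_inf' B (Subgroup.zpowers (π t)) (by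
        haveI := hBn; rw [Subgroup.normalizer_eq_top]; exact le_top)
    have h2 : B ⊓ Subgroup.zpowers (π t) = ⊥ := by
      have hd := Subgroup.card_dvd_of_le (inf_le_right : B ⊓ Subgroup.zpowers (π t) ≤ _)
      rw [Nat.card_zpowers, hto] at hd
      rcases (Nat.dvd_prime hp).1 hd with h | h
      · exact Subgroup.card_eq_one.1 h
      · exfalso
        refine htB ((inf_le_left : B ⊓ Subgroup.zpowers (π t) ≤ B) ?_)
        rw [Subgroup.eq_of_le_of_card_ge (inf_le_right : B ⊓ Subgroup.zpowers (π t) ≤ _)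
          (by rw [Nat.card_zpowers, hto, h])]
        exact Subgroup.mem_zpowers _
    rw [hgen, h2, Subgroup.card_bot, mul_one, Subgroup.card_top, hcardB, Nat.card_zpowers, hto] at h1
    rw [h1, pow_succ]
  have hcardC : Nat.card ↥(B ⊓ Subgroup.centralizer ({π t} : Set (L ⧸ N'.subgroupOf L))) = p := by
    have hcm : ∀ a, π (ι a) * π t = π t * π (ι a) ↔ S a ∈ N := by
      intro a
      rw [eq_comm, ← mul_inv_eq_iff_eq_mul]
      have hconj : π t * π (ι a) * (π t)⁻¹ = π (ι (ρ g a)) := by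
        rw [← map_inv, ← map_mul, ← map_mul]
        congr 1
        refine Subtype.ext ?_
        rw [Subgroup.coe_mul, Subgroup.coe_mul, InvMemClass.coe_inv, hι, hι, ht]
        calc e (-(c • v)) * g * e a * (e (-(c • v)) * g)⁻¹
            = e (-(c • v)) * (g * e a * g⁻¹) * (e (-(c • v)))⁻¹ := by group
          _ = _ := by rw [← hact, ← hneg, ← hadd, ← hadd, add_neg_cancel_comm]
      rw [hconj, hπι, hS, LinearMap.sub_apply, Module.End.one_apply]
    obtain ⟨F, hF⟩ : ∃ F : ZMod p → ↥(B ⊓ Subgroup.centralizer ({π t} : Set (L ⧸ N'.subgroupOf L))),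
        ∀ r, (F r : L ⧸ N'.subgroupOf L) = π (ι (r • z)) :=
      ⟨fun r => ⟨_, (hBmem _).2 ⟨r • z, rfl⟩, Subgroup.mem_centralizer_singleton_iff.2
        ((hcm _).2 (by rw [map_smul, hSz, smul_zero]; exact N.zero_mem))⟩, fun _ => rfl⟩
    have hbij : Function.Bijective F := by
      refine ⟨fun r s h => ?_, fun y => ?_⟩
      · have h1 := congrArg Subtype.val h
        rw [hF, hF, hπι, ← sub_smul] at h1
        by_contra hne
        exact hzN (by rw [← inv_smul_smul₀ (sub_ne_zero.2 hne) z]; exact N.smul_mem _ h1)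
      · obtain ⟨a, ha⟩ := (hBmem _).1 y.2.1
        have h1 := Subgroup.mem_centralizer_singleton_iff.1 y.2.2
        rw [← ha, hcm] at h1
        obtain ⟨r, hr⟩ := hker a h1
        refine ⟨r, Subtype.ext ?_⟩
        rw [hF, ← ha, hπι, ← neg_sub]
        exact N.neg_mem hr
    rw [← Nat.card_congr (Equiv.ofBijective F hbij), Nat.card_zmod]
  -- transport to a type in the lowest universe
  obtain ⟨n, ⟨eq₀⟩⟩ := Finite.exists_equiv_fin (L ⧸ N'.subgroupOf L)
  obtain ⟨W, ⟨eq⟩, hWfin⟩ : ∃ W : Type, Nonempty ((L ⧸ N'.subgroupOf L) ≃ W) ∧ Finite W :=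
    ⟨{i : Fin n // True}, ⟨eq₀.trans (Equiv.subtypeUnivEquiv fun _ => trivial).symm⟩, inferInstance⟩
  letI : Group W := eq.symm.group
  haveI := hWfin
  obtain ⟨θ, hθ⟩ : ∃ θ : (L ⧸ N'.subgroupOf L) ≃* W, True := ⟨(eq.symm.mulEquiv).symm, trivial⟩
  refine ⟨W, inferInstance, inferInstance, ⟨B.map θ.toMonoidHom, θ (π t),
    hBn.map _ θ.surjective, ⟨⟨?_⟩⟩, ?_, ?_, ?_, ?_, ?_, ?_⟩, ?_⟩
  · rintro ⟨-, b, hb, rfl⟩ ⟨-, b', hb', rfl⟩
    obtain ⟨a, rfl⟩ := (hBmem _).1 hb
    obtain ⟨a', rfl⟩ := (hBmem _).1 hb'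
    refine Subtype.ext ?_
    show θ (π (ι a)) * θ (π (ι a')) = θ (π (ι a')) * θ (π (ι a))
    rw [← map_mul, ← map_mul, ← map_mul, ← map_mul, ← hιadd, ← hιadd, add_comm]
  · rintro - ⟨b, hb, rfl⟩
    obtain ⟨a, rfl⟩ := (hBmem _).1 hb
    show θ (π (ι a)) ^ p = 1
    rw [← map_pow, ← map_pow, map_eq_one_iff θ θ.injective, hπ1, SubmonoidClass.coe_pow, hι]
    have hpa : ∀ m : ℕ, e a ^ m = e (m • a) := by
      intro m
      induction m with
      | zero => simp [he0]
      | succ m ihm => rw [pow_succ, ihm, succ_nsmul, hadd]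
    rw [hpa, heN, ← Nat.cast_smul_eq_nsmul (ZMod p), ZMod.natCast_self, zero_smul]
    exact N.zero_mem
  · rw [Subgroup.card_map_of_injective θ.injective, hcardB]
  · rw [MulEquiv.orderOf_eq, hto]
  · rintro ⟨b, hb, hbt⟩
    exact htB (θ.injective hbt ▸ hb)
  · rw [← Nat.card_congr θ.toEquiv, hcardW]
  · rw [show B.map θ.toMonoidHom ⊓ Subgroup.centralizer ({θ (π t)} : Set W) =
        (B ⊓ Subgroup.centralizer ({π t} : Set (L ⧸ N'.subgroupOf L))).map θ.toMonoidHom from ?_,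
      Subgroup.card_map_of_injective θ.injective, hcardC]
    ext y
    obtain ⟨y, rfl⟩ := θ.surjective y
    simp only [Subgroup.mem_inf, Subgroup.mem_centralizer_singleton_iff, Subgroup.mem_map,
      MulEquiv.coe_toMonoidHom, θ.injective.eq_iff, exists_eq_right, ← map_mul]
  · refine Fusion.involves_of_surjective (K := L.subgroupOf (P : Subgroup G))
      ((θ.toMonoidHom.comp π).comp (Subgroup.subgroupOfEquivOfLe hLP).toMonoidHom) ?_
    exact (θ.surjective.comp (hπ ▸ QuotientGroup.mk'_surjective _)).comp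
      (Subgroup.subgroupOfEquivOfLe hLP).surjective

end Cfsg.Agent.Solv.ThmB
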