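import Cfsg.Agent.Lib.Perm.Fpf.Entry
import Cfsg.Agent.S0056
import Mathlib.GroupTheory.SpecificGroups.ZGroup
import Mathlib.GroupTheory.PresentedGroup

/-!
The presentation of a fixed-point-free group all of whose Sylow subgroups are cyclic.
-/

set_option autoImplicit false
set_option linter.style.haveILetI false
set_option linter.unusedSectionVars false

namespace Cfsg.Agent.Solv.ZPresent

open Cfsg.Agent.Perm.Fpf
open scoped commutatorElement

universe w

/-- An element of prime order normalising a subgroup of another prime order centralises it. -/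
theorem commute_of_prime {K : Type} [Field K] {d : ℕ} [Nontrivial (Fin d → K)] {G : Type w} [Group G]
    [Finite G] {ρ : G →* Module.End K (Fin d → K)} (h : IsFpf ρ) {x y : G} {p s : ℕ} [Fact p.Prime]
    [Fact s.Prime] (hx : orderOf x = p) (hy : orderOf y = s)
    (hn : x ∈ Subgroup.normalizer (Subgroup.zpowers y : Set G)) : Commute x y := by
  classical
  have hp : p.Prime := Fact.out
  have hs : s.Prime := Fact.out
  by_contra hc
  haveI : Fintype (Subgroup.zpowers y) := Fintype.ofFinite _
  obtain ⟨S, hS⟩ : ∃ S, S = Subgroup.zpowers y := ⟨_, rfl⟩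
  have hx1 : x ≠ 1 := fun e => by rw [e, orderOf_one] at hx; exact hp.ne_one hx.symm
  have hy1 : y ≠ 1 := fun e => by rw [e, orderOf_one] at hy; exact hs.ne_one hy.symm
  have hsum : ∑ u : Subgroup.zpowers y, ρ (u : G) = 0 := by
    refine h.cancel hy1 ?_
    rw [sub_mul, one_mul, Finset.mul_sum, sub_eq_zero]
    exact Fintype.sum_equiv (Equiv.mulLeft (⟨y, Subgroup.mem_zpowers y⟩ : Subgroup.zpowers y)) _ _
      (fun u => by rw [← map_mul]; rfl)
  have hnorm : ∀ u : Subgroup.zpowers y,
      ∑ i ∈ Finset.range p, ρ ((u : G) * x ^ i * (u : G)⁻¹) = 0 := by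
    intro u
    have := h.geom_sum_zero (g := (u : G) * x * (u : G)⁻¹) (fun e => hx1 (conj_eq_one_iff.1 e))
      (n := p) (by rw [conj_pow, ← hx, pow_orderOf_eq_one, mul_one, mul_inv_cancel])
    rw [← this]
    exact Finset.sum_congr rfl fun i _ => by rw [← map_pow, conj_pow]
  have hzero : ∀ i ∈ Finset.range p, i ≠ 0 →
      ∑ u : Subgroup.zpowers y, ρ ((u : G) * x ^ i * (u : G)⁻¹) = 0 := by
    intro i hi hi0
    have hnn : x ^ i ∈ Subgroup.normalizer (Subgroup.zpowers y : Set G) := pow_mem hn i
    let σ : Subgroup.zpowers y → Subgroup.zpowers y := fun u =>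
      ⟨(u : G) * (x ^ i * (u : G)⁻¹ * (x ^ i)⁻¹), (Subgroup.zpowers y).mul_mem u.2
        ((Subgroup.mem_normalizer_iff.1 hnn _).1 ((Subgroup.zpowers y).inv_mem u.2))⟩
    have hσ : Function.Injective σ := by
      intro a b hab
      have h' : (a : G) * (x ^ i * (a : G)⁻¹ * (x ^ i)⁻¹) = b * (x ^ i * (b : G)⁻¹ * (x ^ i)⁻¹) :=
        congrArg Subtype.val hab
      by_contra hne
      have h2 : (b : G)⁻¹ * a * x ^ i = x ^ i * ((b : G)⁻¹ * a) := by
        calc (b : G)⁻¹ * a * x ^ i
            = (b : G)⁻¹ * ((a : G) * (x ^ i * (a : G)⁻¹ * (x ^ i)⁻¹)) * (x ^ i * (a : G) * (x ^ i)⁻¹ * x ^ i) := by group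
          _ = (b : G)⁻¹ * ((b : G) * (x ^ i * (b : G)⁻¹ * (x ^ i)⁻¹)) * (x ^ i * (a : G) * (x ^ i)⁻¹ * x ^ i) := by rw [h']
          _ = x ^ i * ((b : G)⁻¹ * a) := by group
      have hd : (b : G)⁻¹ * a ∈ Subgroup.zpowers y :=
        (Subgroup.zpowers y).mul_mem ((Subgroup.zpowers y).inv_mem b.2) a.2
      have hd1 : (b : G)⁻¹ * a ≠ 1 := fun e => hne (Subtype.ext (inv_mul_eq_one.1 e).symm)
      obtain ⟨j, hj⟩ := exists_pow_eq_self_of_coprime (x := x) (n := i) (by
        rw [hx]
        refine ((hp.coprime_iff_not_dvd).2 fun hd => ?_).symm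
        exact absurd (Nat.le_of_dvd (Nat.pos_of_ne_zero hi0) hd) (not_le.2 (Finset.mem_range.1 hi)))
      have hxd : Commute x ((b : G)⁻¹ * a) := by
        rw [← hj]
        exact (Commute.symm (show Commute ((b : G)⁻¹ * a) (x ^ i) from h2)).pow_left j
      -- a power of a non-trivial element of `zpowers y` is `y`
      have hdo : orderOf ((b : G)⁻¹ * a) = s := orderOf_eq_prime (by
        have := pow_card_eq_one' (x := (⟨_, hd⟩ : Subgroup.zpowers y))
        rw [Nat.card_zpowers, hy] at this
        exact congrArg Subtype.val this) hd1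
      have hgen : Subgroup.zpowers ((b : G)⁻¹ * a) = Subgroup.zpowers y :=
        Subgroup.eq_of_le_of_card_ge (Subgroup.zpowers_le.2 hd) (by rw [Nat.card_zpowers, Nat.card_zpowers, hy, hdo])
      obtain ⟨k, hk⟩ : y ∈ Subgroup.zpowers ((b : G)⁻¹ * a) := by rw [hgen]; exact Subgroup.mem_zpowers y
      exact hc (by have := hxd.zpow_right k; simp only at hk; rwa [hk] at this)
    rw [← zero_mul (ρ (x ^ i)), ← hsum, Finset.sum_mul]
    refine Fintype.sum_equiv (Equiv.ofBijective σ ⟨hσ, Finite.surjective_of_injective hσ⟩) _ _ fun u => ?_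
    rw [← map_mul]
    refine congrArg ρ ?_
    show _ = ((σ u : Subgroup.zpowers y) : G) * x ^ i
    simp only [σ]
    group
  have htot : ∑ i ∈ Finset.range p, ∑ u : Subgroup.zpowers y, ρ ((u : G) * x ^ i * (u : G)⁻¹) = 0 := by
    rw [Finset.sum_comm]; exact Finset.sum_eq_zero fun u _ => hnorm u
  rw [Finset.sum_eq_single_of_mem 0 (Finset.mem_range.2 hp.pos) hzero] at htot
  simp only [pow_zero, mul_one, mul_inv_cancel, map_one, Finset.sum_const, Finset.card_univ,
    nsmul_eq_mul, Fintype.card_eq_nat_card, Nat.card_zpowers, hy] at htot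
  refine h.natCast_ne_zero (hy ▸ orderOf_dvd_natCard y) ?_
  rw [← map_natCast (algebraMap K (Module.End K (Fin d → K))),
    ← map_zero (algebraMap K (Module.End K (Fin d → K)))] at htot
  exact (algebraMap K (Module.End K (Fin d → K))).injective htot

theorem dvd_div_prod {n d : ℕ} (hn : 0 < n) (hd : d ∣ n) (h : ∀ p ∈ n.primeFactors, d ∣ n / p) :
    d ∣ n / ∏ p ∈ n.primeFactors, p := by
  obtain ⟨R, hR⟩ : ∃ R, R = ∏ p ∈ n.primeFactors, p := ⟨_, rfl⟩
  have hRn : R ∣ n := hR ▸ Nat.prod_primeFactors_dvd n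
  obtain ⟨T, hT⟩ := hRn
  have hR0 : 0 < R := Nat.pos_of_ne_zero fun e => by simp [e] at hT; omega
  rw [← hR, hT, Nat.mul_div_cancel_left _ hR0]
  refine (Nat.dvd_iff_prime_pow_dvd_dvd _ _).2 fun p k hp hk => ?_
  rcases Nat.eq_zero_or_pos k with rfl | hk0
  · simp
  have hpn : p ∈ n.primeFactors :=
    Nat.mem_primeFactors.2 ⟨hp, (dvd_pow_self p hk0.ne').trans (hk.trans hd), hn.ne'⟩
  have h1 : p ^ k * p ∣ R * T := by
    rw [← hT]
    have h2 := mul_dvd_mul_right (hk.trans (h p hpn)) p
    rwa [Nat.div_mul_cancel (Nat.mem_primeFactors.1 hpn).2.1] at h2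
  rw [← Finset.mul_prod_erase _ _ hpn] at hR
  subst hR
  have hcop : (p ^ k).Coprime (∏ q ∈ n.primeFactors.erase p, q) := by
    refine Nat.Coprime.pow_left k (Nat.Coprime.prod_right fun q hq => ?_)
    exact (Nat.coprime_primes hp (Nat.prime_of_mem_primeFactors (Finset.mem_of_mem_erase hq))).2
      (Finset.ne_of_mem_erase hq).symm
  rw [mul_comm (p ^ k) p, mul_assoc] at h1
  exact hcop.dvd_of_dvd_mul_left (Nat.dvd_of_mul_dvd_mul_left hp.pos h1)

theorem presentation {N : Type w} [Group N] [Finite N] [IsZGroup N] (hF : HasFpf N) :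
    ∃ n m r : ℕ, 0 < n ∧ 0 < m ∧ Nat.Coprime (r - 1) m ∧ Nat.Coprime n m ∧ 1 ≤ r ∧
      r ^ (n / ∏ p ∈ n.primeFactors, p) % m = 1 % m ∧
      Nonempty (N ≃* PresentedGroup
        ({FreeGroup.of (0 : Fin 2) ^ n, FreeGroup.of (1 : Fin 2) ^ m,
          (FreeGroup.of (0 : Fin 2))⁻¹ * FreeGroup.of 1 * FreeGroup.of 0 * (FreeGroup.of (1 : Fin 2) ^ r)⁻¹} :
          Set (FreeGroup (Fin 2)))) := by
  classical
  obtain ⟨C, hC⟩ : ∃ C, C = commutator N := ⟨_, rfl⟩
  haveI hCn : C.Normal := hC ▸ inferInstance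
  haveI : IsCyclic C := hC ▸ IsZGroup.isCyclic_commutator N
  have hco : (Nat.card C).Coprime C.index := hC ▸ IsZGroup.coprime_commutator_index N
  obtain ⟨H, hH⟩ := Subgroup.exists_right_complement'_of_coprime hco
  haveI : IsCyclic H := by
    haveI : IsCyclic (N ⧸ C) := by
      subst hC
      exact (inferInstance : IsCyclic (Abelianization N))
    exact isCyclic_of_surjective _ hH.symm.QuotientMulEquiv.surjective
  obtain ⟨⟨b, hb⟩, hbgen⟩ := IsCyclic.exists_generator (α := C)
  obtain ⟨⟨a, ha⟩, hagen⟩ := IsCyclic.exists_generator (α := H)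
  have hCb : C = Subgroup.zpowers b := le_antisymm (fun c hc => by
      obtain ⟨k, hk⟩ := hbgen ⟨c, hc⟩
      exact ⟨k, by simpa using congrArg Subtype.val hk⟩) (Subgroup.zpowers_le.2 hb)
  have hHa : H = Subgroup.zpowers a := le_antisymm (fun c hc => by
      obtain ⟨k, hk⟩ := hagen ⟨c, hc⟩
      exact ⟨k, by simpa using congrArg Subtype.val hk⟩) (Subgroup.zpowers_le.2 ha)
  obtain ⟨n, hn⟩ : ∃ n, n = orderOf a := ⟨_, rfl⟩
  obtain ⟨m, hm⟩ : ∃ m, m = orderOf b := ⟨_, rfl⟩
  have hn0 : 0 < n := hn ▸ orderOf_pos a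
  have hm0 : 0 < m := hm ▸ orderOf_pos b
  have hcm : Nat.card C = m := by rw [hCb, Nat.card_zpowers, hm]
  have hin : C.index = n := by
    rw [hH.symm.index_eq_card, hHa, Nat.card_zpowers, hn]
  have hnm : Nat.Coprime n m := by rw [← hcm, ← hin]; exact hco.symm
  have hgen : Subgroup.closure ({a, b} : Set N) = ⊤ := by
    rw [eq_top_iff, ← hH.sup_eq_top, hCb, hHa, sup_le_iff, Subgroup.zpowers_le, Subgroup.zpowers_le]
    exact ⟨Subgroup.subset_closure (by simp), Subgroup.subset_closure (by simp)⟩
  -- the action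
  obtain ⟨r, hr1, hr⟩ : ∃ r : ℕ, 1 ≤ r ∧ a⁻¹ * b * a = b ^ r := by
    have h1 : a⁻¹ * b * a ∈ Subgroup.zpowers b := by
      rw [← hCb]
      simpa using hCn.conj_mem b hb a⁻¹
    rw [← mem_powers_iff_mem_zpowers] at h1
    obtain ⟨k, hk⟩ := h1
    refine ⟨k + m, by omega, ?_⟩
    rw [pow_add, hm, pow_orderOf_eq_one, mul_one]
    exact hk.symm
  have hconj : ∀ t : ℕ, (a ^ t)⁻¹ * b * a ^ t = b ^ (r ^ t) := by
    intro t
    induction t with
    | zero => simp
    | succ t ih =>
      calc (a ^ (t + 1))⁻¹ * b * a ^ (t + 1) = a⁻¹ * ((a ^ t)⁻¹ * b * a ^ t) * (a⁻¹)⁻¹ := by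
            rw [pow_succ]; group
        _ = a⁻¹ * b ^ (r ^ t) * (a⁻¹)⁻¹ := by rw [ih]
        _ = (a⁻¹ * b * (a⁻¹)⁻¹) ^ (r ^ t) := by rw [conj_pow]
        _ = _ := by rw [inv_inv, hr, ← pow_mul, ← pow_succ']
  -- the derived subgroup is the whole of `C`
  have hrm : Nat.Coprime (r - 1) m := by
    obtain ⟨g, hg⟩ : ∃ g, g = Nat.gcd (r - 1) m := ⟨_, rfl⟩
    obtain ⟨L, hL⟩ : ∃ L, L = Subgroup.zpowers (b ^ g) := ⟨_, rfl⟩
    haveI : L.Normal := by
      rw [← Subgroup.normalizer_eq_top_iff, eq_top_iff, ← hgen, Subgroup.closure_le]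
      intro z hz
      refine Subgroup.mem_normalizer_fintype fun w hw => ?_
      rw [hL] at hw ⊢
      obtain ⟨k, rfl⟩ := hw
      show z * (b ^ g) ^ k * z⁻¹ ∈ Subgroup.zpowers (b ^ g)
      rw [← conj_zpow]
      refine zpow_mem ?_ k
      rcases hz with hz | hz <;> subst z
      · -- conjugation by `a` is the inverse of a power map
        have h1 : ∀ v ∈ Subgroup.zpowers (b ^ g), a⁻¹ * v * a ∈ Subgroup.zpowers (b ^ g) := by
          rintro v ⟨j, rfl⟩
          show a⁻¹ * (b ^ g) ^ j * a ∈ _
          have : a⁻¹ * b ^ g * (a⁻¹)⁻¹ = (b ^ g) ^ r := by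
            rw [← conj_pow, inv_inv, hr, ← pow_mul, ← pow_mul, mul_comm]
          have h2 : a⁻¹ * (b ^ g) ^ j * a = ((b ^ g) ^ r) ^ j := by
            rw [← this, conj_zpow, inv_inv]
          rw [h2]
          exact zpow_mem (pow_mem (Subgroup.mem_zpowers _) r) j
        have hpow : a = (a⁻¹) ^ (orderOf a⁻¹ - 1) := by
          have h2 : a⁻¹ * (a⁻¹) ^ (orderOf a⁻¹ - 1) = 1 := by
            rw [← pow_succ', Nat.sub_add_cancel (orderOf_pos _), pow_orderOf_eq_one]
          exact (inv_mul_eq_one.1 h2)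
        have h3 : ∀ (t : ℕ) (v : N), v ∈ Subgroup.zpowers (b ^ g) →
            (a⁻¹) ^ t * v * ((a⁻¹) ^ t)⁻¹ ∈ Subgroup.zpowers (b ^ g) := by
          intro t
          induction t with
          | zero => intro v hv; simpa using hv
          | succ t ih =>
            intro v hv
            have := h1 _ (ih v hv)
            convert this using 1
            rw [pow_succ']; group
        have := h3 (orderOf a⁻¹ - 1) (b ^ g) (Subgroup.mem_zpowers _)
        rwa [← hpow] at this
      · rw [(Commute.self_pow b g).eq, mul_inv_cancel_right]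
        exact Subgroup.mem_zpowers _
    have hbr : b ^ (r - 1) ∈ L := by
      obtain ⟨k, hk⟩ : g ∣ r - 1 := hg ▸ Nat.gcd_dvd_left _ _
      rw [hL, hk, pow_mul]
      exact pow_mem (Subgroup.mem_zpowers _) k
    have hcomm : commutator N ≤ L := by
      have hab : ∀ u v : N ⧸ L, u * v = v * u := by
        have hgen' : Subgroup.closure ({QuotientGroup.mk' L a, QuotientGroup.mk' L b} : Set (N ⧸ L)) = ⊤ := by
          rw [← Set.image_pair, ← MonoidHom.map_closure, hgen, ← MonoidHom.range_eq_map, QuotientGroup.range_mk']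
        have hab' : QuotientGroup.mk' L a * QuotientGroup.mk' L b = QuotientGroup.mk' L b * QuotientGroup.mk' L a := by
          rw [← map_mul, ← map_mul, QuotientGroup.mk'_apply, QuotientGroup.mk'_apply, QuotientGroup.eq]
          have h1 : (a * b)⁻¹ * (b * a) = b⁻¹ * (a⁻¹ * b * a) := by group
          rw [h1, hr, show r = 1 + (r - 1) by omega, pow_add, pow_one, inv_mul_cancel_left]
          exact hbr
        haveI : IsMulCommutative (Subgroup.closure ({QuotientGroup.mk' L a, QuotientGroup.mk' L b} : Set (N ⧸ L))) :=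
          Subgroup.isMulCommutative_closure (by
            rintro u (rfl | rfl) v (rfl | rfl) <;> first | rfl | exact hab' | exact hab'.symm)
        intro u v
        exact congrArg Subtype.val (IsMulCommutative.is_comm.comm
          (⟨u, hgen' ▸ Subgroup.mem_top u⟩ : Subgroup.closure ({QuotientGroup.mk' L a, QuotientGroup.mk' L b} : Set (N ⧸ L)))
          ⟨v, hgen' ▸ Subgroup.mem_top v⟩)
      rw [commutator_def, Subgroup.commutator_le]
      intro u _ v _
      rw [← QuotientGroup.eq_one_iff (N := L)]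
      show QuotientGroup.mk' L ⁅u, v⁆ = 1
      rw [map_commutatorElement, commutatorElement_eq_one_iff_mul_comm]
      exact hab _ _
    have hdvd : orderOf b ∣ orderOf (b ^ g) := by
      refine Subgroup.orderOf_dvd_natCard L (hcomm (hC ▸ hb)) |>.trans (dvd_of_eq ?_)
      rw [hL, Nat.card_zpowers]
    have hgm : g ∣ m := hg ▸ Nat.gcd_dvd_right _ _
    rw [orderOf_pow, ← hm, Nat.gcd_eq_right hgm] at hdvd
    have := Nat.le_of_dvd (Nat.div_pos (Nat.le_of_dvd hm0 hgm) (Nat.pos_of_dvd_of_pos hgm hm0)) hdvd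
    rw [Nat.coprime_iff_gcd_eq_one, ← hg]
    by_contra hne
    have hg1 : 1 < g := lt_of_le_of_ne (Nat.pos_of_dvd_of_pos hgm hm0) (Ne.symm hne)
    exact absurd (Nat.div_lt_self hm0 hg1) (not_lt.2 this)
  -- elements of prime order of `H` centralise `C`
  have hcent : ∀ p ∈ n.primeFactors, Commute (a ^ (n / p)) b := by
    intro p hp
    haveI : Fact p.Prime := ⟨Nat.prime_of_mem_primeFactors hp⟩
    have hz : orderOf (a ^ (n / p)) = p := by
      rw [hn] at hp ⊢
      exact orderOf_pow_orderOf_div (orderOf_pos a).ne' (Nat.dvd_of_mem_primeFactors hp)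
    haveI : IsMulCommutative (Subgroup.zpowers b) := inferInstance
    have hnorm : Subgroup.zpowers (a ^ (n / p)) ≤ Subgroup.normalizer (Subgroup.zpowers b : Set N) := by
      rw [← hCb, Subgroup.normalizer_eq_top_iff.2 hCn]; exact le_top
    have hco' : (Nat.card (Subgroup.zpowers (a ^ (n / p)))).Coprime (Nat.card (Subgroup.zpowers b)) := by
      rw [Nat.card_zpowers, Nat.card_zpowers, hz, ← hm]
      exact hnm.coprime_dvd_left (Nat.dvd_of_mem_primeFactors hp)
    have := S0056.result (Subgroup.zpowers (a ^ (n / p))) (Subgroup.zpowers b) hnorm hco'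
      (fun v hv hvp u hu => by
        haveI : Fact (orderOf v).Prime := ⟨hvp⟩
        have hcomm : Commute (a ^ (n / p)) v := by
          refine hF.elim fun ρ hρ => commute_of_prime hρ hz rfl ?_
          refine Subgroup.mem_normalizer_fintype fun w hw => ?_
          have hwb : (a ^ (n / p)) * w * (a ^ (n / p))⁻¹ ∈ Subgroup.zpowers b :=
            (Subgroup.mem_normalizer_iff.1 (hnorm (Subgroup.mem_zpowers _)) w).1
              (Subgroup.zpowers_le.2 hv hw)
          obtain ⟨⟨g0, hg0⟩, hgg⟩ := IsCyclic.exists_generator (α := Subgroup.zpowers b)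
          -- subgroups of a cyclic group are determined by their orders
          have hdv : (a ^ (n / p)) * w * (a ^ (n / p))⁻¹ ∈ Subgroup.zpowers b ∧
              ((a ^ (n / p)) * w * (a ^ (n / p))⁻¹) ^ orderOf v = 1 := by
            refine ⟨hwb, ?_⟩
            obtain ⟨j, rfl⟩ := hw
            show (_ * v ^ j * _) ^ orderOf v = 1
            have hvj : (v ^ j) ^ orderOf v = 1 := by
              rw [← zpow_natCast, ← zpow_mul, mul_comm, zpow_mul, zpow_natCast, pow_orderOf_eq_one, one_zpow]
            rw [conj_pow, hvj, mul_one, mul_inv_cancel]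
          haveI := Fintype.ofFinite (Subgroup.zpowers b)
          have hle := IsCyclic.card_pow_eq_one_le (α := Subgroup.zpowers b) (n := orderOf v) hvp.pos
          by_contra hnot
          haveI := Fintype.ofFinite (Subgroup.zpowers v)
          let emb : Option (Subgroup.zpowers v) → {u : Subgroup.zpowers b // u ^ orderOf v = 1} := fun o =>
            match o with
            | some u => ⟨⟨u, Subgroup.zpowers_le.2 hv u.2⟩, Subtype.ext (by
                obtain ⟨j, hj⟩ := u.2
                show (u : N) ^ orderOf v = 1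
                rw [← hj]
                show (v ^ j) ^ orderOf v = 1
                rw [← zpow_natCast, ← zpow_mul, mul_comm, zpow_mul, zpow_natCast, pow_orderOf_eq_one, one_zpow])⟩
            | none => ⟨⟨_, hdv.1⟩, Subtype.ext hdv.2⟩
          have hemb : Function.Injective emb := by
            rintro (_ | u) (_ | u') h
            · rfl
            · have e := congrArg (fun q : {u : Subgroup.zpowers b // u ^ orderOf v = 1} => ((q : Subgroup.zpowers b) : N)) h
              simp only [emb] at e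
              exact absurd (by rw [e]; exact u'.2) hnot
            · have e := congrArg (fun q : {u : Subgroup.zpowers b // u ^ orderOf v = 1} => ((q : Subgroup.zpowers b) : N)) h
              simp only [emb] at e
              exact absurd (by rw [← e]; exact u.2) hnot
            · exact congrArg some (Subtype.ext (congrArg (fun q : {u : Subgroup.zpowers b // u ^ orderOf v = 1} => ((q : Subgroup.zpowers b) : N)) h))
          have h1 := Nat.card_le_card_of_injective emb hemb
          have h2 : Nat.card {u : Subgroup.zpowers b // u ^ orderOf v = 1} ≤ orderOf v := by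
            rw [Nat.card_eq_fintype_card, Fintype.card_subtype]; exact hle
          rw [Finite.card_option, Nat.card_zpowers] at h1
          omega
        obtain ⟨j, rfl⟩ := hu
        exact (hcomm.zpow_left j).eq)
    exact (Subgroup.mem_centralizer_iff.1 (this (Subgroup.mem_zpowers _)) b (Subgroup.mem_zpowers b)).symm
  have hT : r ^ (n / ∏ p ∈ n.primeFactors, p) % m = 1 % m := by
    obtain ⟨X, hX⟩ : ∃ X, X = Subgroup.zpowers a ⊓ Subgroup.centralizer ({b} : Set N) := ⟨_, rfl⟩
    obtain ⟨⟨c, hc⟩, hcgen⟩ := IsCyclic.exists_generator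
      (α := (X.subgroupOf (Subgroup.zpowers a)))
    obtain ⟨T, hTdef⟩ : ∃ T, T = n / ∏ p ∈ n.primeFactors, p := ⟨_, rfl⟩
    rw [← hTdef]
    have hmem : a ^ T ∈ X := by
      have hXc : ∀ d, a ^ d ∈ X ↔ Nat.card (X.subgroupOf (Subgroup.zpowers a)) * d % n = 0 := by
        intro d
        obtain ⟨k, hk⟩ : ∃ k : ℕ, k = Nat.card (X.subgroupOf (Subgroup.zpowers a)) := ⟨_, rfl⟩
        have hXcard : Nat.card X = k := by
          rw [hk]
          exact (Nat.card_congr (Subgroup.subgroupOfEquivOfLe (hX ▸ inf_le_left)).toEquiv).symm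
        rw [← hk, ← Nat.dvd_iff_mod_eq_zero, hn, orderOf_dvd_iff_pow_eq_one]
        constructor
        · intro hd
          rw [mul_comm, pow_mul]
          exact orderOf_dvd_iff_pow_eq_one.1 (hXcard ▸ Subgroup.orderOf_dvd_natCard X hd)
        · intro hd
          haveI := Fintype.ofFinite (Subgroup.zpowers a)
          have hle := IsCyclic.card_pow_eq_one_le (α := Subgroup.zpowers a) (n := k)
            (hXcard ▸ Nat.card_pos)
          by_contra hnot
          haveI := Fintype.ofFinite X
          let emb : Option X → {u : Subgroup.zpowers a // u ^ k = 1} := fun o =>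
            match o with
            | some u => ⟨⟨u, (hX ▸ u.2 : (u : N) ∈ Subgroup.zpowers a ⊓ Subgroup.centralizer ({b} : Set N)).1⟩,
                Subtype.ext (by
                  show (u : N) ^ k = 1
                  rw [← SubmonoidClass.coe_pow, ← hXcard, pow_card_eq_one']; rfl)⟩
            | none => ⟨⟨a ^ d, Subgroup.npow_mem_zpowers a d⟩, Subtype.ext (by
                  show (a ^ d) ^ k = 1
                  rw [← pow_mul, mul_comm]; exact hd)⟩
          have hemb : Function.Injective emb := by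
            rintro (_ | u) (_ | u') h
            · rfl
            · have e := congrArg (fun q : {u : Subgroup.zpowers a // u ^ k = 1} => ((q : Subgroup.zpowers a) : N)) h
              simp only [emb] at e
              exact absurd (by rw [e]; exact u'.2) hnot
            · have e := congrArg (fun q : {u : Subgroup.zpowers a // u ^ k = 1} => ((q : Subgroup.zpowers a) : N)) h
              simp only [emb] at e
              exact absurd (by rw [← e]; exact u.2) hnot
            · exact congrArg some (Subtype.ext (congrArg (fun q : {u : Subgroup.zpowers a // u ^ k = 1} => ((q : Subgroup.zpowers a) : N)) h))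
          have h1 := Nat.card_le_card_of_injective emb hemb
          have h2 : Nat.card {u : Subgroup.zpowers a // u ^ k = 1} ≤ k := by
            rw [Nat.card_eq_fintype_card, Fintype.card_subtype]; exact hle
          rw [Finite.card_option, hXcard] at h1
          omega
      obtain ⟨k, hk⟩ : ∃ k : ℕ, k = Nat.card (X.subgroupOf (Subgroup.zpowers a)) := ⟨_, rfl⟩
      have hkn : k ∣ n := by
        rw [hk, hn, ← Nat.card_zpowers]
        exact Subgroup.card_subgroup_dvd_card _
      have hk0 : 0 < k := hk ▸ Nat.card_pos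
      have hdd : n / k ∣ T := by
        rw [hTdef]
        refine dvd_div_prod hn0 (Nat.div_dvd_of_dvd hkn) fun p hp => ?_
        have h1 : a ^ (n / p) ∈ X := hX ▸ ⟨Subgroup.npow_mem_zpowers a _,
          Subgroup.mem_centralizer_singleton_iff.2 (hcent p hp).eq⟩
        have h2 := (hXc _).1 h1
        rw [← hk, ← Nat.dvd_iff_mod_eq_zero] at h2
        obtain ⟨e, he⟩ := hkn
        have he' : k * e ∣ k * (n / p) := he ▸ h2
        rw [he, Nat.mul_div_cancel_left _ hk0]
        rw [he] at he'
        exact Nat.dvd_of_mul_dvd_mul_left hk0 he'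
      rw [hXc, ← hk, ← Nat.dvd_iff_mod_eq_zero]
      have := mul_dvd_mul_left k hdd
      rwa [Nat.mul_div_cancel' hkn] at this
    have h2 : Commute (a ^ T) b := Subgroup.mem_centralizer_singleton_iff.1 (hX ▸ hmem :
      a ^ T ∈ Subgroup.zpowers a ⊓ Subgroup.centralizer ({b} : Set N)).2
    have h3 : b ^ (r ^ T) = b ^ 1 := by
      rw [← hconj, pow_one, mul_assoc, ← h2.eq, inv_mul_cancel_left]
    rw [hm]
    exact pow_eq_pow_iff_modEq.1 h3
  refine ⟨n, m, r, hn0, hm0, hrm, hnm, hr1, hT, ?_⟩
  -- the presented group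
  obtain ⟨rels, hrels⟩ : ∃ rels : Set (FreeGroup (Fin 2)), rels = {FreeGroup.of (0 : Fin 2) ^ n,
      FreeGroup.of (1 : Fin 2) ^ m,
      (FreeGroup.of (0 : Fin 2))⁻¹ * FreeGroup.of 1 * FreeGroup.of 0 * (FreeGroup.of (1 : Fin 2) ^ r)⁻¹} :=
    ⟨_, rfl⟩
  rw [← hrels]
  have hf : ∀ w ∈ rels, FreeGroup.lift ![a, b] w = 1 := by
    intro w hw
    rw [hrels] at hw
    rcases hw with rfl | rfl | rfl
    · rw [map_pow, FreeGroup.lift_apply_of]; show a ^ n = 1; rw [hn, pow_orderOf_eq_one]
    · rw [map_pow, FreeGroup.lift_apply_of]; show b ^ m = 1; rw [hm, pow_orderOf_eq_one]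
    · simp only [map_mul, map_inv, map_pow, FreeGroup.lift_apply_of]
      show a⁻¹ * b * a * (b ^ r)⁻¹ = 1
      rw [hr, mul_inv_cancel]
  let π : PresentedGroup rels →* N := PresentedGroup.toGroup hf
  have hπA : π (PresentedGroup.of 0) = a := PresentedGroup.toGroup.of hf
  have hπB : π (PresentedGroup.of 1) = b := PresentedGroup.toGroup.of hf
  obtain ⟨A, hA⟩ : ∃ A, A = (PresentedGroup.of 0 : PresentedGroup rels) := ⟨_, rfl⟩
  obtain ⟨B, hB⟩ : ∃ B, B = (PresentedGroup.of 1 : PresentedGroup rels) := ⟨_, rfl⟩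
  have hAn : A ^ n = 1 := by
    have := PresentedGroup.one_of_mem (rels := rels) (x := FreeGroup.of (0 : Fin 2) ^ n) (by rw [hrels]; simp)
    rw [hA]; simpa [PresentedGroup.of] using this
  have hBm : B ^ m = 1 := by
    have := PresentedGroup.one_of_mem (rels := rels) (x := FreeGroup.of (1 : Fin 2) ^ m) (by rw [hrels]; simp)
    rw [hB]; simpa [PresentedGroup.of] using this
  have hAB : B * A = A * B ^ r := by
    have := PresentedGroup.one_of_mem (rels := rels) (x := (FreeGroup.of (0 : Fin 2))⁻¹ * FreeGroup.of 1 *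
      FreeGroup.of 0 * (FreeGroup.of (1 : Fin 2) ^ r)⁻¹) (by rw [hrels]; simp)
    have h' : A⁻¹ * B * A * (B ^ r)⁻¹ = 1 := by rw [hA, hB]; simpa [PresentedGroup.of] using this
    rw [mul_inv_eq_one, mul_assoc, inv_mul_eq_iff_eq_mul] at h'
    exact h'
  have hBA : ∀ j, B ^ j * A = A * B ^ (r * j) := by
    intro j
    induction j with
    | zero => simp
    | succ j ih => rw [pow_succ', mul_assoc, ih, ← mul_assoc, hAB, mul_assoc, ← pow_add]; ring_nf
  let F : Fin n × Fin m → PresentedGroup rels := fun ij => A ^ ij.1.1 * B ^ ij.2.1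
  have hFsurj : Function.Surjective F := by
    have hform : ∀ i j : ℕ, A ^ i * B ^ j ∈ Set.range F := fun i j =>
      ⟨(⟨i % n, Nat.mod_lt _ hn0⟩, ⟨j % m, Nat.mod_lt _ hm0⟩), by
        show A ^ (i % n) * B ^ (j % m) = _
        conv_rhs => rw [← Nat.mod_add_div i n, ← Nat.mod_add_div j m, pow_add, pow_add, pow_mul, pow_mul, hAn, hBm, one_pow, one_pow, mul_one, mul_one]⟩
    intro w
    have hw : w ∈ Subgroup.closure ({A, B} : Set (PresentedGroup rels)) := by
      have h1 : ({A, B} : Set (PresentedGroup rels)) = Set.range (PresentedGroup.of : Fin 2 → PresentedGroup rels) := by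
        ext x
        simp [Fin.exists_fin_two, hA, hB, eq_comm]
      rw [h1, PresentedGroup.closure_range_of]; exact Subgroup.mem_top _
    have hstep : ∀ (u : PresentedGroup rels), u ∈ Set.range F → u * A ∈ Set.range F ∧ u * B ∈ Set.range F := by
      rintro _ ⟨ij, rfl⟩
      refine ⟨?_, ?_⟩
      · show A ^ ij.1.1 * B ^ ij.2.1 * A ∈ _
        rw [mul_assoc, hBA, ← mul_assoc, ← pow_succ]
        exact hform _ _
      · show A ^ ij.1.1 * B ^ ij.2.1 * B ∈ _
        rw [mul_assoc, ← pow_succ]
        exact hform _ _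
    refine Subgroup.closure_induction_right ?_ ?_ ?_ hw
    · simpa using hform 0 0
    · intro u _ v hv ih
      rcases hv with rfl | rfl
      · exact (hstep u ih).1
      · exact (hstep u ih).2
    · intro u _ v hv ih
      have hinv : ∀ (t : ℕ) (X : PresentedGroup rels), (∀ z ∈ Set.range F, z * X ∈ Set.range F) →
          u * X ^ t ∈ Set.range F := by
        intro t X hX
        induction t with
        | zero => simpa using ih
        | succ t iht => rw [pow_succ, ← mul_assoc]; exact hX _ iht
      rcases hv with rfl | rfl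
      · rw [inv_eq_of_mul_eq_one_right (show v * v ^ (n - 1) = 1 by rw [← pow_succ', Nat.sub_add_cancel hn0, hAn])]
        exact hinv _ _ fun z hz => (hstep z hz).1
      · rw [inv_eq_of_mul_eq_one_right (show v * v ^ (m - 1) = 1 by rw [← pow_succ', Nat.sub_add_cancel hm0, hBm])]
        exact hinv _ _ fun z hz => (hstep z hz).2
  haveI : Finite (PresentedGroup rels) := Finite.of_surjective F hFsurj
  have hπs : Function.Surjective π := by
    rw [← MonoidHom.range_eq_top, eq_top_iff, ← hgen, Subgroup.closure_le]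
    rintro x (rfl | rfl)
    · exact ⟨_, hπA⟩
    · exact ⟨_, hπB⟩
  have hcard : Nat.card N = m * n := by rw [← hcm, ← hin, C.card_mul_index]
  have hle : Nat.card (PresentedGroup rels) ≤ Nat.card N := by
    refine (Nat.card_le_card_of_surjective F hFsurj).trans ?_
    rw [Nat.card_prod, Nat.card_fin, Nat.card_fin, hcard, mul_comm]
  exact ⟨(MulEquiv.ofBijective π (Function.Surjective.bijective_of_nat_card_le hπs hle)).symm⟩

end Cfsg.Agent.Solv.ZPresent
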